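import Cfsg.Agent.Lib.BlockA.SylowSymGen
import Cfsg.Agent.Lib.KnownB.SL2Sylow
import Mathlib.GroupTheory.SemidirectProduct

/-! Two-groups whose squares lie in the derived subgroup, and monomial block groups. -/

set_option autoImplicit false
set_option linter.unusedSectionVars false

namespace CfsgLib.BlockA.SqComm

open scoped commutatorElement

variable {G H : Type*} [Group G] [Group H]

/-- Every square lies in the derived subgroup. -/
def SqComm (S : Subgroup G) : Prop := ∀ x ∈ S, x ^ 2 ∈ ⁅S, S⁆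

theorem mem_commutator_iff {S : Subgroup G} (x : S) : x ∈ commutator S ↔ (x : G) ∈ ⁅S, S⁆ := by
  rw [← Subgroup.map_subtype_commutator, ← Subgroup.coe_subtype,
    Subgroup.mem_map_iff_mem S.subtype_injective]

theorem sqComm_iff {S : Subgroup G} : SqComm S ↔ ∀ x : S, x ^ 2 ∈ commutator S := by
  refine ⟨fun h x => (mem_commutator_iff _).2 (by simpa using h x x.2),
    fun h x hx => by simpa using (mem_commutator_iff _).1 (h ⟨x, hx⟩)⟩

theorem of_closure {S : Subgroup G} {T : Set G} (h1 : T ⊆ S) (h2 : S ≤ Subgroup.closure T)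
    (h3 : ∀ t ∈ T, t ^ 2 ∈ ⁅S, S⁆) : SqComm S := by
  rw [sqComm_iff]
  let K : Subgroup S := (powMonoidHom 2 : Abelianization S →* Abelianization S).ker.comap
    Abelianization.of
  have hK : S ≤ K.map S.subtype := h2.trans ((Subgroup.closure_le _).2 fun y hy =>
    ⟨⟨y, h1 hy⟩, by
      show (Abelianization.of (⟨y, h1 hy⟩ : S)) ^ 2 = 1
      rw [← map_pow]
      exact (QuotientGroup.eq_one_iff _).2 ((mem_commutator_iff _).2 (by simpa using h3 y hy)), rfl⟩)
  intro x
  obtain ⟨y, hy, he⟩ := hK x.2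
  obtain rfl : y = x := Subtype.ext he
  have hy' : Abelianization.of (y ^ 2) = 1 := by rw [map_pow]; exact hy
  exact (QuotientGroup.eq_one_iff (y ^ 2)).1 hy'

theorem sqComm_map {S : Subgroup G} (h : SqComm S) (f : G →* H) : SqComm (S.map f) := by
  rintro _ ⟨x, hx, rfl⟩
  rw [← map_pow, ← Subgroup.map_commutator]
  exact Subgroup.mem_map_of_mem f (h x hx)

/-- One subgroup of full order controls every Sylow subgroup. -/
theorem sylow_sq [Finite G] (S : Subgroup G)
    (hcard : Nat.card S = 2 ^ (Nat.card G).factorization 2) (h : SqComm S) (P : Sylow 2 G) :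
    ∀ x : (P : Subgroup G), x ^ 2 ∈ commutator (P : Subgroup G) := by
  rw [← sqComm_iff]
  haveI := Fact.mk Nat.prime_two
  obtain ⟨g, hg⟩ := MulAction.exists_smul_eq G (Sylow.ofCard S hcard) P
  rw [← hg, Sylow.coe_subgroup_smul, Sylow.coe_ofCard]
  exact sqComm_map h _

theorem sqComm_perm {m : ℕ} (R : Sylow 2 (Equiv.Perm (Fin m))) :
    SqComm (R : Subgroup (Equiv.Perm (Fin m))) := by
  haveI := Fact.mk Nat.prime_two
  rw [sqComm_iff]
  exact SylowSymGen.pow_mem_commutator (SylowSymGen.genOrd_sylow_perm m R)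

theorem sqComm_sl_two {F : Type*} [Field F] [Fintype F] (hodd : Odd (Fintype.card F))
    (S : Sylow 2 (Matrix.SpecialLinearGroup (Fin 2) F)) :
    SqComm (S : Subgroup (Matrix.SpecialLinearGroup (Fin 2) F)) := by
  haveI := Fact.mk Nat.prime_two
  obtain ⟨T, n, a, D, hle, ha, hn, hG, -, -⟩ := KnownB.SL2.exists_torus_sylow_two hodd S
  obtain ⟨r, w, hrT, hrS, hord, hwS, hwT, hsplit, -⟩ := D.sylow_two S hle ha hn hG
  set S' := (S : Subgroup (Matrix.SpecialLinearGroup (Fin 2) F))
  obtain ⟨hinv, hw4, hw2⟩ := D.inv w (hle hwS) hwT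
  refine of_closure (T := {r, w}) ?_ ?_ ?_
  · intro x hx
    rcases hx with rfl | rfl
    · exact hrS
    · exact hwS
  · intro x hx
    have hr : r ∈ Subgroup.closure ({r, w} : Set _) := Subgroup.subset_closure (Set.mem_insert _ _)
    have hw : w ∈ Subgroup.closure ({r, w} : Set _) :=
      Subgroup.subset_closure (Set.mem_insert_of_mem _ rfl)
    by_cases hxT : x ∈ T
    · obtain ⟨k, rfl⟩ := Subgroup.mem_zpowers_iff.1 ((hsplit x hx).1 hxT)
      exact zpow_mem hr k
    · obtain ⟨k, hk⟩ := Subgroup.mem_zpowers_iff.1 ((hsplit x hx).2 hxT)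
      rw [eq_mul_inv_of_mul_eq hk.symm]
      exact mul_mem (zpow_mem hr k) (inv_mem hw)
  · have hr2 : r ^ 2 ∈ ⁅S', S'⁆ := by
      have h := Subgroup.commutator_mem_commutator hrS hwS
      rwa [commutatorElement_def, show r * w * r⁻¹ * w⁻¹ = r * (w * r⁻¹ * w⁻¹) by group,
        hinv _ (inv_mem hrT), inv_inv, ← pow_two] at h
    intro x hx
    rcases hx with rfl | rfl
    · exact hr2
    · have hwwT : x * x ∈ T := D.out_mul_out (hle hwS) hwT (hle hwS) hwT
      obtain ⟨k, hk⟩ := Subgroup.mem_zpowers_iff.1 ((hsplit _ (mul_mem hwS hwS)).1 hwwT)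
      have h2a : 4 ∣ 2 ^ a := pow_dvd_pow 2 ha
      have hk2 : ((2 : ℕ) ^ a : ℤ) ∣ 2 * k := by
        have h1 : r ^ (2 * k) = 1 := by
          rw [mul_comm, zpow_mul, hk, zpow_two]
          exact hw4
        rw [← orderOf_dvd_iff_zpow_eq_one, hord] at h1
        exact_mod_cast h1
      obtain ⟨k', rfl⟩ : (2 : ℤ) ∣ k := by
        have h4 : (4 : ℤ) ∣ 2 * k := dvd_trans (by exact_mod_cast h2a) hk2
        omega
      rw [pow_two, ← hk, zpow_mul, zpow_two, ← pow_two]
      exact zpow_mem hr2 k'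

section Block

variable {m : ℕ} {D : Type*} [Group D]

/-- Permutation of coordinates. -/
def permAut (m : ℕ) (D : Type*) [Group D] : Equiv.Perm (Fin m) →* MulAut (Fin m → D) where
  toFun σ :=
    { toFun := fun d i => d (σ.symm i)
      invFun := fun d i => d (σ i)
      left_inv := fun d => by funext i; simp
      right_inv := fun d => by funext i; simp
      map_mul' := fun _ _ => rfl }
  map_one' := by ext d i; rfl
  map_mul' σ τ := by ext d i; rfl

/-- The group of monomial block elements. -/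
abbrev Wr (m : ℕ) (D : Type*) [Group D] :=
  (Fin m → D) ⋊[permAut m D] Equiv.Perm (Fin m)

/-- The subgroup with entries in `E` and permutation part in `R`. -/
def sub (R : Subgroup (Equiv.Perm (Fin m))) (E : Subgroup D) : Subgroup (Wr m D) where
  carrier := {x | x.right ∈ R ∧ ∀ i, x.left i ∈ E}
  one_mem' := ⟨R.one_mem, fun _ => E.one_mem⟩
  mul_mem' := fun {x y} hx hy => ⟨R.mul_mem hx.1 hy.1, fun i => E.mul_mem (hx.2 i) (hy.2 _)⟩
  inv_mem' := fun {x} hx => ⟨R.inv_mem hx.1, fun i => E.inv_mem (hx.2 _)⟩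

theorem card_sub (R : Subgroup (Equiv.Perm (Fin m))) (E : Subgroup D) :
    Nat.card (sub R E) = Nat.card E ^ m * Nat.card R := by
  have e : sub R E ≃ (Fin m → E) × R :=
    { toFun := fun x => (fun i => ⟨(x : Wr m D).left i, x.2.2 i⟩, ⟨(x : Wr m D).right, x.2.1⟩)
      invFun := fun y => ⟨⟨fun i => (y.1 i : D), (y.2 : Equiv.Perm (Fin m))⟩, y.2.2, fun i => (y.1 i).2⟩
      left_inv := fun x => rfl
      right_inv := fun y => rfl }
  rw [Nat.card_congr e, Nat.card_prod, Nat.card_fun, Nat.card_fin]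

/-- A coordinate copy. -/
def single (i : Fin m) : D →* Wr m D :=
  SemidirectProduct.inl.comp (MonoidHom.mulSingle (fun _ : Fin m => D) i)

theorem conj_single (σ : Equiv.Perm (Fin m)) (d : Fin m → D) :
    (SemidirectProduct.inr σ : Wr m D) * SemidirectProduct.inl d *
      (SemidirectProduct.inr σ)⁻¹ = SemidirectProduct.inl (fun i => d (σ.symm i)) := by
  rw [← map_inv, ← SemidirectProduct.inl_aut]
  rfl

theorem inl_mem_iff (R : Subgroup (Equiv.Perm (Fin m))) (E : Subgroup D) (d : Fin m → D) :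
    (SemidirectProduct.inl d : Wr m D) ∈ sub R E ↔ ∀ i, d i ∈ E :=
  ⟨fun h => h.2, fun h => ⟨R.one_mem, h⟩⟩

theorem single_mem_closure (E : Subgroup D) (T : Set (Wr m D))
    (hT : ∀ i, ∀ e ∈ E, single i e ∈ Subgroup.closure T) {d : Fin m → D} (hd : ∀ i, d i ∈ E) :
    (SemidirectProduct.inl d : Wr m D) ∈ Subgroup.closure T := by
  classical
  have h : Subgroup.pi Set.univ (fun _ : Fin m => E) ≤
      (Subgroup.closure T).comap (SemidirectProduct.inl : (Fin m → D) →* Wr m D) := by
    rw [Subgroup.pi_le_iff]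
    intro i
    rintro _ ⟨e, he, rfl⟩
    exact hT i e he
  exact h (Subgroup.mem_pi _ |>.2 fun i _ => hd i)

/-- Full wreath products. -/
theorem sqComm_sub {R : Subgroup (Equiv.Perm (Fin m))} (hR : SqComm R) {E : Subgroup D}
    (hE : SqComm E) : SqComm (sub R E) := by
  classical
  refine of_closure (T := {x | (∃ i, ∃ e ∈ E, single i e = x) ∨ ∃ r ∈ R, SemidirectProduct.inr r = x})
    ?_ ?_ ?_
  · rintro x (⟨i, e, he, rfl⟩ | ⟨r, hr, rfl⟩)
    · refine (inl_mem_iff R E _).2 fun j => ?_
      rw [MonoidHom.mulSingle_apply]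
      by_cases hj : j = i
      · subst hj; rwa [Pi.mulSingle_eq_same]
      · rw [Pi.mulSingle_eq_of_ne hj]; exact E.one_mem
    · exact ⟨hr, fun _ => E.one_mem⟩
  · intro x hx
    rw [← SemidirectProduct.inl_left_mul_inr_right x]
    refine mul_mem (single_mem_closure E _ (fun i e he => Subgroup.subset_closure
      (Or.inl ⟨i, e, he, rfl⟩)) hx.2) (Subgroup.subset_closure (Or.inr ⟨_, hx.1, rfl⟩))
  · rintro x (⟨i, e, he, rfl⟩ | ⟨r, hr, rfl⟩)
    · refine Subgroup.commutator_mono ?_ ?_
        ((sqComm_map hE (single i)) _ (Subgroup.mem_map_of_mem _ he)) <;>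
      · rintro _ ⟨e, he, rfl⟩
        refine (inl_mem_iff R E _).2 fun j => ?_
        rw [MonoidHom.mulSingle_apply]
        by_cases hj : j = i
        · subst hj; rwa [Pi.mulSingle_eq_same]
        · rw [Pi.mulSingle_eq_of_ne hj]; exact E.one_mem
    · refine Subgroup.commutator_mono ?_ ?_
        ((sqComm_map hR (SemidirectProduct.inr : _ →* Wr m D)) _ (Subgroup.mem_map_of_mem _ hr)) <;>
      · rintro _ ⟨r, hr, rfl⟩
        exact ⟨hr, fun _ => E.one_mem⟩

/-- The determinant-one part of a wreath product. -/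
theorem sqComm_sub_ker {A : Type*} [CommGroup A] (φ : D →* A) (Φ : Wr m D →* A)
    (hΦl : ∀ d, Φ (SemidirectProduct.inl d) = ∏ i, φ (d i))
    (hΦr : ∀ σ, Φ (SemidirectProduct.inr σ) = 1)
    {R : Subgroup (Equiv.Perm (Fin m))} (hR : SqComm R) {E : Subgroup D}
    (hQ : SqComm (E ⊓ φ.ker)) {h : D} (hh : h ∈ E)
    (himg : ∀ e ∈ E, φ e ∈ Subgroup.zpowers (φ h)) (i₀ : Fin m)
    (hy : h ^ 2 = 1 ∨ ∀ i, i ≠ i₀ → ∃ σ ∈ R, σ i = i₀ ∧ σ i₀ = i) :
    SqComm (sub R E ⊓ Φ.ker) := by
  classical
  set S := sub R E ⊓ Φ.ker with hS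
  let y : Fin m → Wr m D := fun i => single i h * single i₀ h⁻¹
  have hsingle : ∀ i, ∀ e ∈ E, single i e ∈ sub R E := fun i e he => by
    refine (inl_mem_iff R E _).2 fun j => ?_
    rw [MonoidHom.mulSingle_apply]
    by_cases hj : j = i
    · subst hj; rwa [Pi.mulSingle_eq_same]
    · rw [Pi.mulSingle_eq_of_ne hj]; exact E.one_mem
  have hΦs : ∀ i e, Φ (single i e) = φ e := fun i e => by
    rw [single, MonoidHom.comp_apply, hΦl, Fintype.prod_eq_single i fun j hj => by
      rw [MonoidHom.mulSingle_apply, Pi.mulSingle_eq_of_ne hj, map_one]]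
    rw [MonoidHom.mulSingle_apply, Pi.mulSingle_eq_same]
  have hQS : ∀ i, (E ⊓ φ.ker).map (single i) ≤ S := fun i => by
    rintro _ ⟨e, he, rfl⟩
    exact ⟨hsingle i e he.1, MonoidHom.mem_ker.2 ((hΦs i e).trans he.2)⟩
  have hRS : R.map (SemidirectProduct.inr : _ →* Wr m D) ≤ S := by
    rintro _ ⟨r, hr, rfl⟩
    exact ⟨⟨hr, fun _ => E.one_mem⟩, hΦr r⟩
  have hyS : ∀ i, y i ∈ S := fun i => ⟨mul_mem (hsingle i h hh) (hsingle i₀ _ (inv_mem hh)),
    MonoidHom.mem_ker.2 (by
      show Φ (single i h * single i₀ h⁻¹) = 1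
      rw [map_mul, hΦs, hΦs, map_inv, mul_inv_cancel])⟩
  refine of_closure (T := {x | (∃ i, ∃ e ∈ E ⊓ φ.ker, single i e = x) ∨
    (∃ r ∈ R, SemidirectProduct.inr r = x) ∨ ∃ i, i ≠ i₀ ∧ y i = x}) ?_ ?_ ?_
  · rintro x (⟨i, e, he, rfl⟩ | ⟨r, hr, rfl⟩ | ⟨i, -, rfl⟩)
    · exact hQS i (Subgroup.mem_map_of_mem _ he)
    · exact hRS (Subgroup.mem_map_of_mem _ hr)
    · exact hyS i
  · set T := {x | (∃ i, ∃ e ∈ E ⊓ φ.ker, single i e = x) ∨
      (∃ r ∈ R, SemidirectProduct.inr r = x) ∨ ∃ i, i ≠ i₀ ∧ y i = x} with hT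
    suffices key : ∀ s : Finset (Fin m), i₀ ∉ s → ∀ d : Fin m → D, (∀ i, d i ∈ E) →
        (∏ i, φ (d i) = 1) → (∀ i, i ∉ s → i ≠ i₀ → φ (d i) = 1) →
        (SemidirectProduct.inl d : Wr m D) ∈ Subgroup.closure T by
      intro x hx
      rw [← SemidirectProduct.inl_left_mul_inr_right x]
      refine mul_mem (key (Finset.univ.erase i₀) (Finset.notMem_erase _ _) x.left hx.1.2 ?_
        fun i hi hi0 => absurd (Finset.mem_erase.2 ⟨hi0, Finset.mem_univ _⟩) hi) ?_
      · have h1 : Φ x = 1 := hx.2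
        rw [← SemidirectProduct.inl_left_mul_inr_right x, map_mul, hΦl, hΦr, mul_one] at h1
        exact h1
      · exact Subgroup.subset_closure (Or.inr (Or.inl ⟨_, hx.1.1, rfl⟩))
    intro s
    induction s using Finset.induction with
    | empty =>
      intro _ d hd hprod h1
      refine single_mem_closure (E ⊓ φ.ker) T (fun i e he => Subgroup.subset_closure
        (Or.inl ⟨i, e, he, rfl⟩)) fun i => ⟨hd i, ?_⟩
      by_cases hi : i = i₀
      · subst hi
        rw [Fintype.prod_eq_single i fun j hj => h1 j (Finset.notMem_empty j) hj] at hprod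
        exact hprod
      · exact h1 i (Finset.notMem_empty i) hi
    | insert a s ha ih =>
      intro hi₀ d hd hprod h1
      rw [Finset.mem_insert, not_or] at hi₀
      obtain ⟨k, hk⟩ := Subgroup.mem_zpowers_iff.1 (himg _ (hd a))
      have hya : y a = SemidirectProduct.inl (Pi.mulSingle a h * Pi.mulSingle i₀ h⁻¹) := by
        rw [map_mul]; rfl
      set c : Fin m → D := (Pi.mulSingle a h * Pi.mulSingle i₀ h⁻¹) ^ (-k) with hc
      have hcv : ∀ j, c j = ((Pi.mulSingle a h : Fin m → D) j *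
          (Pi.mulSingle i₀ h⁻¹ : Fin m → D) j) ^ (-k) := fun j => rfl
      have hmem : (SemidirectProduct.inl c : Wr m D) ∈ Subgroup.closure T := by
        rw [hc, map_zpow, ← hya]
        have hyT : y a ∈ T := Or.inr (Or.inr ⟨a, Ne.symm hi₀.1, rfl⟩)
        exact Subgroup.zpow_mem _ (Subgroup.subset_closure hyT) _
      have hφc : ∀ j, φ (c j) = (if j = a then (φ h) ^ (-k) else 1) *
          (if j = i₀ then (φ h) ^ k else 1) := fun j => by
        rw [hcv, map_zpow, map_mul, mul_zpow, Pi.mulSingle_apply, Pi.mulSingle_apply]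
        split_ifs <;> simp
      have hd' := ih hi₀.2 (d * c) (fun j => mul_mem (hd j) (by
          rw [hcv]
          refine zpow_mem (mul_mem ?_ ?_) _ <;> rw [Pi.mulSingle_apply] <;> split_ifs <;>
            simp [hh, inv_mem hh]))
        (by
          simp only [Pi.mul_apply, map_mul, hφc, Finset.prod_mul_distrib, hprod, one_mul,
            Finset.prod_ite_eq', Finset.mem_univ, if_true, zpow_neg, inv_mul_cancel])
        (fun j hj hj0 => by
          rw [Pi.mul_apply, map_mul, hφc, if_neg hj0, mul_one]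
          by_cases hja : j = a
          · subst hja; rw [if_pos rfl, ← hk, ← zpow_add, add_neg_cancel, zpow_zero]
          · rw [if_neg hja, mul_one, h1 j (by simp [hja, hj]) hj0])
      rw [map_mul] at hd'
      exact (Subgroup.mul_mem_cancel_right _ hmem).1 hd'
  · rintro x (⟨i, e, he, rfl⟩ | ⟨r, hr, rfl⟩ | ⟨i, hi, rfl⟩)
    · exact Subgroup.commutator_mono (hQS i) (hQS i)
        ((sqComm_map hQ (single i)) _ (Subgroup.mem_map_of_mem _ he))
    · exact Subgroup.commutator_mono hRS hRS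
        ((sqComm_map hR (SemidirectProduct.inr : _ →* Wr m D)) _ (Subgroup.mem_map_of_mem _ hr))
    · have hya : y i = SemidirectProduct.inl (Pi.mulSingle i h * Pi.mulSingle i₀ h⁻¹) := by
        rw [map_mul]; rfl
      rcases hy with h2 | hswap
      · rw [hya, ← map_pow, show (Pi.mulSingle i h * Pi.mulSingle i₀ h⁻¹ : Fin m → D) ^ 2 = 1 from
          funext fun j => by
            rw [Pi.pow_apply, Pi.mul_apply, Pi.mulSingle_apply, Pi.mulSingle_apply, Pi.one_apply]
            by_cases hja : j = i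
            · subst hja; rw [if_pos rfl, if_neg hi, mul_one, h2]
            · rw [if_neg hja, one_mul]; split_ifs
              · rw [inv_pow, h2, inv_one]
              · exact one_pow _,
          map_one]
        exact one_mem _
      · obtain ⟨σ, hσ, hσ1, hσ2⟩ := hswap i hi
        have hc := Subgroup.commutator_mem_commutator (hyS i) (hRS (Subgroup.mem_map_of_mem _ hσ))
        convert hc using 1
        rw [commutatorElement_def, hya]
        rw [show ∀ a b : Wr m D, a * b * a⁻¹ * b⁻¹ = a * (b * a⁻¹ * b⁻¹) from fun a b => by group,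
          ← map_inv SemidirectProduct.inl, conj_single, ← map_mul, ← map_pow]
        refine congrArg _ (funext fun j => ?_)
        simp only [Pi.pow_apply, Pi.mul_apply, Pi.inv_apply, Pi.mulSingle_apply]
        by_cases hja : j = i
        · subst hja
          have : σ.symm j = i₀ := by rw [Equiv.symm_apply_eq, hσ2]
          rw [this, if_pos rfl, if_neg hi, if_neg (Ne.symm hi), if_pos rfl]
          simp [pow_two]
        by_cases hj0 : j = i₀
        · subst hj0
          have : σ.symm j = i := by rw [Equiv.symm_apply_eq, hσ1]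
          rw [this, if_pos rfl, if_neg hi, if_neg hja, if_pos rfl]
          simp [pow_two]
        have h1 : σ.symm j ≠ i := fun e => hj0 (by rw [Equiv.symm_apply_eq, hσ1] at e; exact e)
        have h2 : σ.symm j ≠ i₀ := fun e => hja (by rw [Equiv.symm_apply_eq, hσ2] at e; exact e)
        rw [if_neg hja, if_neg hj0, if_neg h1, if_neg h2]
        simp

end Block

end CfsgLib.BlockA.SqComm
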