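import Cfsg.Agent.Lib.Char.Brauer
import Cfsg.Agent.Lib.Char.Inner
import Mathlib.Tactic

/-! Galois conjugation of characters by `g ↦ g ^ k` with `k` prime to the group order. -/

namespace CfsgLib.BlockA

open scoped ComplexConjugate

variable {G : Type*} [Group G]

theorem pow_mem_iff_of_coprime [Finite G] {k : ℕ} (hk : k.Coprime (Nat.card G)) (A : Subgroup G)
    (y : G) : y ^ k ∈ A ↔ y ∈ A := by
  refine ⟨fun h => ?_, fun h => pow_mem h k⟩
  have hco : (orderOf y).Coprime k :=
    (hk.coprime_dvd_right (orderOf_dvd_natCard y)).symm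
  obtain ⟨m, hm⟩ := exists_pow_eq_self_of_coprime (G := G) (x := y) (n := k) hco.symm
  rw [← hm]
  exact pow_mem h m

theorem indFun_comp_pow [Fintype G] {k : ℕ} (hk : k.Coprime (Nat.card G)) (A : Subgroup G)
    (μ : A →* ℂˣ) (g : G) :
    Cfsg.indFun A (fun e => (μ e : ℂ)) (g ^ k) =
      Cfsg.indFun A (fun e => ((μ ^ k) e : ℂ)) g := by
  simp only [CfsgLib.Char.indFun_def]
  congr 1
  refine Finset.sum_congr rfl fun x _ => ?_
  have hc : x⁻¹ * g ^ k * x = (x⁻¹ * g * x) ^ k := by
    have := conj_pow (i := k) (a := x⁻¹) (b := g)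
    simpa using this.symm
  rw [hc]
  by_cases h : x⁻¹ * g * x ∈ A
  · rw [CfsgLib.Char.extendByZero_of_mem _ h,
      CfsgLib.Char.extendByZero_of_mem _ (pow_mem h k), MonoidHom.pow_apply,
      ← map_pow]
    rfl
  · rw [CfsgLib.Char.extendByZero_of_not_mem _ h,
      CfsgLib.Char.extendByZero_of_not_mem _
        (fun h' => h ((pow_mem_iff_of_coprime hk A _).1 h'))]

theorem isGeneralized_comp_pow [Finite G] {k : ℕ} (hk : k.Coprime (Nat.card G)) {θ : G → ℂ}
    (hθ : Cfsg.IsGeneralizedCharacter G θ) :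
    Cfsg.IsGeneralizedCharacter G (fun g => θ (g ^ k)) := by
  have := Fintype.ofFinite G
  suffices H : ∀ χ : G → ℂ, Cfsg.IsCharacter G χ →
      Cfsg.IsGeneralizedCharacter G (fun g => χ (g ^ k)) by
    obtain ⟨χ, ψ, hχ, hψ, rfl⟩ := hθ
    exact CfsgLib.Char.isGeneralized_sub (H χ hχ) (H ψ hψ)
  intro χ hχ
  have hmem := CfsgLib.Char.brauer_induction hχ
  clear hχ
  rw [CfsgLib.Char.brauerSpan] at hmem
  induction hmem using AddSubgroup.closure_induction with
  | mem x hx =>
    obtain ⟨A, μ, -, rfl⟩ := hx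
    have : (fun g => Cfsg.indFun A (fun e => (μ e : ℂ)) (g ^ k)) =
        Cfsg.indFun A (fun e => ((μ ^ k) e : ℂ)) := funext (indFun_comp_pow hk A μ)
    rw [this]
    exact CfsgLib.Char.isGeneralized_of_isCharacter (CfsgLib.Char.isCharacter_indFun A
      (CfsgLib.Char.irr_isCharacter (CfsgLib.Char.isIrrCharacter_linear _)))
  | zero => exact CfsgLib.Char.isGeneralized_zero
  | add a b _ _ ha hb => exact CfsgLib.Char.isGeneralized_add ha hb
  | neg a _ ha => exact CfsgLib.Char.isGeneralized_neg ha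

theorem classInner_comp_pow [Fintype G] {k : ℕ} (hk : k.Coprime (Nat.card G)) (φ ψ : G → ℂ) :
    Cfsg.classInner (fun g => φ (g ^ k)) (fun g => ψ (g ^ k)) = Cfsg.classInner φ ψ := by
  simp only [CfsgLib.Char.classInner_def]
  congr 1
  exact Fintype.sum_equiv (powCoprime hk.symm) _ _ fun g => rfl

/-- A Galois conjugate of an irreducible character is irreducible. -/
theorem isIrrCharacter_comp_pow [Finite G] {k : ℕ} (hk : k.Coprime (Nat.card G)) {χ : G → ℂ}
    (hχ : Cfsg.IsIrrCharacter G χ) : Cfsg.IsIrrCharacter G (fun g => χ (g ^ k)) := by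
  have := Fintype.ofFinite G
  have hgen := isGeneralized_comp_pow hk
    (CfsgLib.Char.isGeneralized_of_isCharacter (CfsgLib.Char.irr_isCharacter hχ))
  have hn : Cfsg.classInner (fun g => χ (g ^ k)) (fun g => χ (g ^ k)) = 1 := by
    rw [classInner_comp_pow hk, CfsgLib.Char.irr_classInner_self hχ]
  rcases CfsgLib.Char.isGeneralized_norm_one hgen hn with h | h
  · exact h
  · exfalso
    obtain ⟨d, hd⟩ := CfsgLib.Char.char_apply_one_eq_nat (CfsgLib.Char.irr_isCharacter h)
    obtain ⟨e, he⟩ := CfsgLib.Char.char_apply_one_eq_nat (CfsgLib.Char.irr_isCharacter hχ)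
    have h0 := CfsgLib.Char.irr_apply_one_ne_zero hχ
    simp only [Pi.neg_apply, one_pow] at hd
    rw [he] at hd h0
    have h1 : d + e = 0 := by
      have h2 : ((d + e : ℕ) : ℂ) = 0 := by push_cast; rw [← hd]; ring
      exact_mod_cast h2
    exact h0 (by simp [(add_eq_zero.1 h1).2])

end CfsgLib.BlockA
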