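import Cfsg.Agent.Lib.BlockB.SqrtCount
import Cfsg.Agent.Lib.BlockB.ClassMul
import Mathlib.LinearAlgebra.Matrix.ToLin

/-! A real irreducible character of odd degree has indicator one. -/

set_option autoImplicit false
set_option linter.unusedSectionVars false

namespace CfsgLib.BlockA

open CfsgLib.Char
open scoped ComplexConjugate Matrix

universe u

variable {G : Type u} [Group G]

/-- In odd degree every invariant matrix of an irreducible representation is symmetric. -/
theorem transpose_eq_of_invariant {n : ℕ} (ρ : Representation ℂ G (Fin n → ℂ)) [hρ : ρ.IsIrreducible]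
    (hn : Odd n) {M : Matrix (Fin n) (Fin n) ℂ} (hM : ∀ g, sqRep ρ g M = M) : Mᵀ = M := by
  set N : Matrix (Fin n) (Fin n) ℂ := M - Mᵀ with hN
  have hNinv : ∀ g, sqRep ρ g N = N := fun g => by
    rw [hN, map_sub, ← sqRep_transpose, hM]
  have hdet : N.det = 0 := by
    have h1 : Nᵀ = -N := by
      rw [hN, Matrix.transpose_sub, Matrix.transpose_transpose, neg_sub]
    have h2 := congrArg Matrix.det h1
    rw [Matrix.det_transpose, Matrix.det_neg, Fintype.card_fin, hn.neg_one_pow, neg_one_mul] at h2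
    linear_combination (1 / 2 : ℂ) * h2
  -- the column space is invariant
  set W : Submodule ℂ (Fin n → ℂ) := LinearMap.range (Matrix.toLin' N)
  let S : Subrepresentation ρ := ⟨W, fun g x hx => by
    obtain ⟨v, rfl⟩ := hx
    refine ⟨(LinearMap.toMatrix' (ρ g⁻¹))ᵀ *ᵥ v, ?_⟩
    have h := hNinv g
    rw [sqRep_apply] at h
    have hinv : (LinearMap.toMatrix' (ρ g))ᵀ * (LinearMap.toMatrix' (ρ g⁻¹))ᵀ = 1 := by
      rw [← Matrix.transpose_mul, ← LinearMap.toMatrix'_mul, ← map_mul, inv_mul_cancel, map_one,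
        Module.End.one_eq_id, LinearMap.toMatrix'_id, Matrix.transpose_one]
    rw [Matrix.toLin'_apply, Matrix.toLin'_apply, Matrix.mulVec_mulVec]
    conv_lhs => rw [← h, Matrix.mul_assoc, hinv, Matrix.mul_one]
    rw [← Matrix.mulVec_mulVec, LinearMap.toMatrix'_mulVec]⟩
  rcases IsSimpleOrder.eq_bot_or_eq_top S with hS | hS
  · have hW : W = ⊥ := congrArg Subrepresentation.toSubmodule hS
    rw [LinearMap.range_eq_bot] at hW
    have : N = 0 := Matrix.toLin'.injective (by rw [hW, map_zero])
    exact (sub_eq_zero.1 this).symm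
  · exfalso
    have hW : W = ⊤ := congrArg Subrepresentation.toSubmodule hS
    have hu : IsUnit N := by
      rw [← Matrix.isUnit_toLin'_iff, Module.End.isUnit_iff]
      exact ⟨LinearMap.injective_iff_surjective.2 (LinearMap.range_eq_top.1 hW),
        LinearMap.range_eq_top.1 hW⟩
    rw [Matrix.isUnit_iff_isUnit_det, hdet] at hu
    exact not_isUnit_zero hu

/-- A real irreducible character of odd degree has indicator one. -/
theorem fsInd_eq_one_of_odd [Fintype G] (χ : Cfsg.IrrCharacter G)
    (hodd : Odd (Cfsg.charDegree (χ : G → ℂ))) (hreal : ∀ s : G, ((χ : G → ℂ) s).im = 0) :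
    BlockB.fsInd χ = 1 := by
  classical
  obtain ⟨χ, n, ρ, hρ, rfl⟩ := χ
  change Odd (Cfsg.charDegree ρ.character) at hodd
  change ∀ s : G, (ρ.character s).im = 0 at hreal
  have hn : Odd n := by
    have h : Cfsg.charDegree ρ.character = n := by
      have h2 := BlockB.charDegree_cast (G := G) (χ := ρ.character) ⟨n, ρ, rfl⟩
      rw [Representation.char_one, Module.finrank_fin_fun] at h2
      exact_mod_cast h2
    rwa [h] at hodd
  let t : Matrix (Fin n) (Fin n) ℂ →ₗ[ℂ] Matrix (Fin n) (Fin n) ℂ :=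
    { toFun := fun M => Mᵀ
      map_add' := fun M N => Matrix.transpose_add M N
      map_smul' := fun c M => Matrix.transpose_smul c M }
  let A : G → Matrix (Fin n) (Fin n) ℂ := fun g => LinearMap.toMatrix' (ρ g)
  let b := Matrix.stdBasis ℂ (Fin n) (Fin n)
  have hchar : ∀ g, ρ.character g = ∑ i, A g i i := fun g => by
    rw [Representation.character, LinearMap.trace_eq_matrix_trace ℂ (Pi.basisFun ℂ (Fin n)),
      LinearMap.toMatrix_eq_toMatrix']
    rfl
  have h1 : ∀ g, LinearMap.trace ℂ _ (sqRep ρ g) = ρ.character g ^ 2 := fun g => by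
    rw [LinearMap.trace_eq_matrix_trace ℂ b, Matrix.trace, Fintype.sum_prod_type, hchar, sq,
      Finset.sum_mul_sum]
    refine Finset.sum_congr rfl fun i _ => Finset.sum_congr rfl fun j _ => ?_
    simp only [Matrix.diag_apply, LinearMap.toMatrix_apply, b]
    rw [Matrix.stdBasis_eq_single, sqRep_apply]
    change (A g * Matrix.single i j (1 : ℂ) * (A g)ᵀ) i j = _
    simp [Matrix.mul_apply, Matrix.single_apply, ite_and]
  have h2 : ∀ g, LinearMap.trace ℂ _ (t ∘ₗ sqRep ρ g) = ρ.character (g * g) := fun g => by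
    rw [← Module.End.mul_eq_comp, LinearMap.trace_mul_comm, Module.End.mul_eq_comp,
      LinearMap.trace_eq_matrix_trace ℂ b, Matrix.trace, Fintype.sum_prod_type, hchar]
    refine Finset.sum_congr rfl fun i _ => ?_
    have : A (g * g) = A g * A g := by simp [A, map_mul, LinearMap.toMatrix'_mul]
    rw [this, Matrix.mul_apply]
    refine Finset.sum_congr rfl fun j _ => ?_
    simp only [Matrix.diag_apply, LinearMap.toMatrix_apply, b, LinearMap.comp_apply]
    rw [Matrix.stdBasis_eq_single, sqRep_apply]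
    change (A g * (Matrix.single i j (1 : ℂ))ᵀ * (A g)ᵀ) i j = _
    simp [Matrix.mul_apply, Matrix.single_apply, ite_and]
  have hfix : t ∘ₗ (∑ g : G, sqRep ρ g) = ∑ g : G, sqRep ρ g := by
    refine LinearMap.ext fun M => ?_
    show ((∑ g : G, sqRep ρ g) M)ᵀ = (∑ g : G, sqRep ρ g) M
    refine transpose_eq_of_invariant ρ hn (hρ := hρ) fun h => ?_
    rw [← Module.End.mul_apply, Finset.mul_sum]
    congr 1
    refine Fintype.sum_equiv (Equiv.mulLeft h) _ _ fun g => ?_
    rw [Equiv.coe_mulLeft, map_mul]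
  have h3 := congrArg (LinearMap.trace ℂ _) hfix
  rw [← Module.End.mul_eq_comp, Finset.mul_sum, map_sum, map_sum,
    Finset.sum_congr rfl fun g _ => h1 g] at h3
  simp only [Module.End.mul_eq_comp] at h3
  rw [Finset.sum_congr rfl fun g _ => h2 g] at h3
  change (Nat.card G : ℂ)⁻¹ * ∑ s : G, ρ.character (s * s) = 1
  have h4 : Cfsg.classInner ρ.character ρ.character = 1 :=
    irr_classInner_self ⟨n, ρ, hρ, rfl⟩
  rw [classInner_def] at h4
  rw [h3, ← h4]
  congr 1
  refine Finset.sum_congr rfl fun s _ => ?_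
  rw [sq, Complex.conj_eq_iff_im.2 (hreal s)]

end CfsgLib.BlockA
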