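import Cfsg.Agent.Lib.BlockA.PairNorm
import Cfsg.Agent.Lib.Fusion.Alperin
import Cfsg.Prelude.Def_BlockFusion

/-! The fusion system of a block on a maximal Brauer pair. -/

set_option autoImplicit false
set_option linter.unusedSectionVars false
set_option maxHeartbeats 1000000

namespace CfsgLib.BlockA

open Cfsg CfsgLib.Block MonoidAlgebra CfsgLib.Fusion

universe u

variable {G : Type u} [Group G] [Finite G] {p : ℕ} {M : Ideal AlgInt} [M.IsPrime]

local notation "cen" Q => Subgroup.centralizer ((Q : Subgroup G) : Set G)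

/-- Conjugation by `g` carries a pair below `(P, e)` on `Q` to a pair below `(P, e)`. -/
def IsFus (p : ℕ) (M : Ideal AlgInt) (P : Subgroup G) (e : Set (IrrCharacter (cen P)))
    (Q : Subgroup G) (g : G) : Prop :=
  Q.map (MulAut.conj g).toMonoidHom ≤ P ∧
    ∃ f : Set (IrrCharacter (cen Q)), SubpairLE p M Q f P e ∧
      SubpairLE p M (Q.map (MulAut.conj g).toMonoidHom) (conjBlock Q g f) P e

theorem map_conj_eq_of_agree {Q : Subgroup G} {g g' : G}
    (h : ∀ q ∈ Q, g * q * g⁻¹ = g' * q * g'⁻¹) :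
    Q.map (MulAut.conj g).toMonoidHom = Q.map (MulAut.conj g').toMonoidHom := by
  apply le_antisymm
  · rintro _ ⟨q, hq, rfl⟩
    exact ⟨q, hq, (h q hq).symm⟩
  · rintro _ ⟨q, hq, rfl⟩
    exact ⟨q, hq, h q hq⟩

theorem range_eq_map_conj {Q : Subgroup G} {φ : Q →* G} {g : G}
    (hg : ∀ u : Q, φ u = g * (u : G) * g⁻¹) :
    φ.range = Q.map (MulAut.conj g).toMonoidHom := by
  ext y
  constructor
  · rintro ⟨u, rfl⟩
    exact ⟨u, u.2, (hg u).symm⟩
  · rintro ⟨u, hu, rfl⟩
    exact ⟨⟨u, hu⟩, hg _⟩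

theorem mem_normalizer_of_map_le {Q : Subgroup G} {g : G}
    (h : Q.map (MulAut.conj g).toMonoidHom ≤ Q) : g ∈ Subgroup.normalizer (Q : Set G) := by
  have e := Subgroup.eq_of_le_of_card_ge h (natCard_map_conj Q g).ge
  rw [Subgroup.mem_normalizer_iff]
  intro q
  rw [← SetLike.ext_iff.1 e (g * q * g⁻¹), mem_map_conj_iff]
  simp [mul_assoc]

theorem map_conj_of_mem_normalizer {Q : Subgroup G} {g : G}
    (hg : g ∈ Subgroup.normalizer (Q : Set G)) : Q.map (MulAut.conj g).toMonoidHom = Q := by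
  ext y
  rw [mem_map_conj_iff]
  exact (Subgroup.mem_normalizer_iff''.1 hg y).symm

variable (hM : IsPModular p M)
include hM

theorem conjIdx_eq_of_mem {Q : Subgroup G} {f : Set (IrrCharacter (cen Q))} (hf : IsPBlock M f)
    {g : G} (hg : g ∈ pairStab M Q f) :
    (⟨Q.map (MulAut.conj g).toMonoidHom, conjBlock Q g f⟩ : BrauerPairIdx G) = ⟨Q, f⟩ := by
  refine pairIdx_ext hM (map_conj_of_mem_normalizer hg.1)
    (conjBlock_eq_blockMap Q g f ▸ isPBlock_blockMap _ hf) hf ?_
  ext x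
  rw [coeff_sIdem_conjBlock hM]
  exact hg.2 x

theorem mem_pairStab_of_conjIdx {Q : Subgroup G} {f : Set (IrrCharacter (cen Q))} {g : G}
    (h : (⟨Q.map (MulAut.conj g).toMonoidHom, conjBlock Q g f⟩ : BrauerPairIdx G) = ⟨Q, f⟩) :
    g ∈ pairStab M Q f := by
  refine ⟨mem_normalizer_of_map_le (le_of_eq (congrArg Sigma.fst h)), fun x => ?_⟩
  have := congrArg (fun a : BrauerPairIdx G => (sIdem M (cen a.1) a.2).coeff x) h
  simpa only [coeff_sIdem_conjBlock hM] using this

variable {P : Subgroup G} {e : Set (IrrCharacter (Subgroup.centralizer (P : Set G)))}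

/-- Two pairs on the same subgroup below `(P, e)` are equal. -/
theorem idx_eq_of_below (he : IsBrauerPair p M P e) {Q Q' : Subgroup G}
    {f : Set (IrrCharacter (cen Q))} {f' : Set (IrrCharacter (cen Q'))} (h : Q = Q')
    (hf : SubpairLE p M Q f P e) (hf' : SubpairLE p M Q' f' P e) :
    (⟨Q, f⟩ : BrauerPairIdx G) = ⟨Q', f'⟩ := by
  subst h
  rw [subpair_unique hM he _ Q rfl f f' hf hf']

theorem isFus_of_mem (he : IsBrauerPair p M P e) {Q : Subgroup G} (hQ : Q ≤ P) {g : G}
    (hg : g ∈ P) : IsFus p M P e Q g := by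
  obtain ⟨f, hf, hle⟩ := exists_subpair hM he _ Q hQ rfl
  have h := subpairLE_conj hM hle g
  have e1 := conjIdx_eq_of_mem hM he.2 (le_pairStab (M := M) P e hg)
  have h' : SubpairLE p M (Q.map (MulAut.conj g).toMonoidHom) (conjBlock Q g f) P e := by
    unfold SubpairLE at h ⊢
    rwa [← e1]
  exact ⟨subpairLE_le h', f, hle, h'⟩

theorem isFus_comp (he : IsBrauerPair p M P e) {Q R : Subgroup G} {g h : G}
    (hg : IsFus p M P e Q g) (hh : IsFus p M P e R h)
    (hQR : Q.map (MulAut.conj g).toMonoidHom ≤ R) : IsFus p M P e Q (h * g) := by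
  obtain ⟨-, f, hf, hgf⟩ := hg
  obtain ⟨-, k, hk, hhk⟩ := hh
  obtain ⟨f', -, hf'⟩ := exists_subpair hM (isBrauerPair_of_subpairLE he hk) _ _ hQR rfl
  obtain rfl : f' = conjBlock Q g f :=
    subpair_unique hM he _ _ rfl _ _ (Relation.ReflTransGen.trans hf' hk) hgf
  have h1 : SubpairLE p M ((Q.map (MulAut.conj g).toMonoidHom).map (MulAut.conj h).toMonoidHom)
      (conjBlock _ h (conjBlock Q g f)) P e :=
    Relation.ReflTransGen.trans (subpairLE_conj hM hf' h) hhk
  have e1 := conjIdx_comp hM (isBrauerPair_of_subpairLE he hf).2 g h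
  have h2 : SubpairLE p M (Q.map (MulAut.conj (h * g)).toMonoidHom) (conjBlock Q (h * g) f) P e := by
    unfold SubpairLE at h1 ⊢
    rwa [← e1]
  exact ⟨subpairLE_le h2, f, hf, h2⟩

theorem isFus_inv (he : IsBrauerPair p M P e) {Q : Subgroup G} {g : G}
    (hg : IsFus p M P e Q g) : IsFus p M P e (Q.map (MulAut.conj g).toMonoidHom) g⁻¹ := by
  obtain ⟨-, f, hf, hgf⟩ := hg
  have hfb := (isBrauerPair_of_subpairLE he hf).2
  have e1 := conjIdx_comp hM hfb g g⁻¹
  have e2 : (⟨(Q.map (MulAut.conj g).toMonoidHom).map (MulAut.conj g⁻¹).toMonoidHom,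
      conjBlock _ g⁻¹ (conjBlock Q g f)⟩ : BrauerPairIdx G) = ⟨Q, f⟩ := by
    rw [e1]
    refine conjIdx_eq_of_mem hM hfb ?_
    rw [inv_mul_cancel]
    exact one_mem _
  have h2 : SubpairLE p M ((Q.map (MulAut.conj g).toMonoidHom).map (MulAut.conj g⁻¹).toMonoidHom)
      (conjBlock _ g⁻¹ (conjBlock Q g f)) P e := by
    unfold SubpairLE at hf ⊢
    rwa [e2]
  exact ⟨subpairLE_le h2, _, hgf, h2⟩

/-- The fusion system of the block. -/
def blockFusion (he : IsBrauerPair p M P e) : FusionSystem P where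
  Hom Q := {φ | Q ≤ P ∧ ∃ g : G, (∀ u : Q, φ u = g * (u : G) * g⁻¹) ∧ IsFus p M P e Q g}
  le_of_mem := by
    rintro Q φ ⟨hQ, g, hg, hfus⟩
    exact ⟨hQ, fun u => hg u ▸ hfus.1 ⟨u, u.2, rfl⟩⟩
  injective_of_mem := by
    rintro Q φ ⟨-, g, hg, -⟩ a b hab
    have h : g * (a : G) * g⁻¹ = g * (b : G) * g⁻¹ := ((hg a).symm.trans hab).trans (hg b)
    exact Subtype.ext (mul_left_cancel (mul_right_cancel h))
  conj_mem := by
    intro Q g hQ hg
    exact ⟨hQ, g, fun _ => rfl, isFus_of_mem hM he hQ hg⟩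
  comp_mem := by
    rintro Q R φ ψ ⟨hQ, g, hg, hfus⟩ ⟨-, k, hk, hfus'⟩ h
    refine ⟨hQ, k * g, fun u => ?_, isFus_comp hM he hfus hfus' ?_⟩
    · show ψ (φ.codRestrict R h u) = k * g * (u : G) * (k * g)⁻¹
      rw [hk]
      show k * φ u * k⁻¹ = _
      rw [hg, mul_inv_rev]
      simp only [mul_assoc]
    · rw [← range_eq_map_conj hg]
      rintro _ ⟨u, rfl⟩
      exact h u
  inv_mem := by
    rintro Q φ ⟨hQ, g, hg, hfus⟩
    refine ⟨conjHom φ.range g⁻¹, ⟨range_eq_map_conj hg ▸ hfus.1, g⁻¹, fun _ => rfl,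
      by rw [range_eq_map_conj hg]; exact isFus_inv hM he hfus⟩, fun u => ?_⟩
    show g⁻¹ * φ u * g⁻¹⁻¹ = u
    rw [hg, inv_inv]
    simp only [mul_assoc, inv_mul_cancel, mul_one, inv_mul_cancel_left]

theorem isBlockFusionSystemOn_blockFusion {B : Set (IrrCharacter G)}
    (hmax : IsMaximalBrauerPair p M B P e) :
    IsBlockFusionSystemOn p M B P e (blockFusion hM hmax.1.1) :=
  ⟨hmax, fun _ _ => Iff.rfl⟩

variable {B : Set (IrrCharacter G)} {F : FusionSystem P}

theorem isMap_iff (hF : IsBlockFusionSystemOn p M B P e F) {Q : Subgroup G} {φ : G → G} :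
    IsMap F Q φ ↔ Q ≤ P ∧ ∃ g : G, (∀ x ∈ Q, φ x = g * x * g⁻¹) ∧ IsFus p M P e Q g := by
  constructor
  · rintro ⟨ψ, hψ, hx⟩
    obtain ⟨hQ, g, hg, hfus⟩ := (hF.2 Q ψ).1 hψ
    exact ⟨hQ, g, fun x hxQ => (hx ⟨x, hxQ⟩).symm.trans (hg ⟨x, hxQ⟩), hfus⟩
  · rintro ⟨hQ, g, hg, hfus⟩
    exact ⟨conjHom Q g, (hF.2 Q _).2 ⟨hQ, g, fun _ => rfl, hfus⟩, fun x => (hg x x.2).symm⟩

theorem isConj_iff_fus (hF : IsBlockFusionSystemOn p M B P e F) {Q R : Subgroup G} :
    F.IsConj Q R ↔ Q ≤ P ∧ ∃ g : G, IsFus p M P e Q g ∧ Q.map (MulAut.conj g).toMonoidHom = R := by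
  constructor
  · rintro ⟨φ, hφ, rfl⟩
    obtain ⟨hQ, g, hg, hfus⟩ := (hF.2 Q φ).1 hφ
    exact ⟨hQ, g, hfus, (range_eq_map_conj hg).symm⟩
  · rintro ⟨hQ, g, hfus, rfl⟩
    exact ⟨conjHom Q g, (hF.2 Q _).2 ⟨hQ, g, fun _ => rfl, hfus⟩,
      range_eq_map_conj fun _ => rfl⟩

/-- An element fusing `Q` into itself stabilises the pair below. -/
theorem mem_pairStab_of_fus (he : IsBrauerPair p M P e) {Q : Subgroup G}
    {f : Set (IrrCharacter (cen Q))} (hle : SubpairLE p M Q f P e) {g : G}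
    (hg : IsFus p M P e Q g) (hgQ : g ∈ Subgroup.normalizer (Q : Set G)) :
    g ∈ pairStab M Q f := by
  obtain ⟨-, f', hf', hgf⟩ := hg
  obtain rfl : f' = f := subpair_unique hM he _ Q rfl _ _ hf' hle
  exact mem_pairStab_of_conjIdx hM
    (idx_eq_of_below hM he (map_conj_of_mem_normalizer hgQ) hgf hle)

theorem isFus_of_mem_pairStab (he : IsBrauerPair p M P e) {Q : Subgroup G}
    {f : Set (IrrCharacter (cen Q))} (hle : SubpairLE p M Q f P e) {g : G}
    (hg : g ∈ pairStab M Q f) : IsFus p M P e Q g := by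
  have e1 := conjIdx_eq_of_mem hM (isBrauerPair_of_subpairLE he hle).2 hg
  refine ⟨(map_conj_of_mem_normalizer hg.1).le.trans (subpairLE_le hle), f, hle, ?_⟩
  unfold SubpairLE at hle ⊢
  rwa [e1]

/-- The defect of the local block bounds the local subgroup of `P`. -/
theorem card_inf_le {Q T : Subgroup G} {f : Set (IrrCharacter (cen Q))}
    {F' : Set (IrrCharacter T)} (hF' : IsBlockOver M T Q f F') (hC : (cen Q) ≤ T)
    (hT : T ≤ pairStab M Q f) (he : IsBrauerPair p M P e) (hle : SubpairLE p M Q f P e) :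
    Nat.card ↥(P ⊓ T) ≤ p ^ blockDefect p F' := by
  obtain ⟨D, hD, hle'⟩ := inf_le_defect hM hF' hC hT he hle
  rw [← natCard_defectGroup hM hF'.1 hD,
    ← Nat.card_congr (Subgroup.subgroupOfEquivOfLe (inf_le_right : P ⊓ T ≤ T)).toEquiv]
  exact Subgroup.card_le_of_le hle'

theorem inf_isDefectGroup_iff {Q T : Subgroup G} {f : Set (IrrCharacter (cen Q))}
    {F' : Set (IrrCharacter T)} (hF' : IsBlockOver M T Q f F') (hC : (cen Q) ≤ T)
    (hT : T ≤ pairStab M Q f) (he : IsBrauerPair p M P e) (hle : SubpairLE p M Q f P e) :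
    IsDefectGroup p M F' ((P ⊓ T).subgroupOf T) ↔ Nat.card ↥(P ⊓ T) = p ^ blockDefect p F' := by
  have hc : Nat.card ((P ⊓ T).subgroupOf T) = Nat.card ↥(P ⊓ T) :=
    Nat.card_congr (Subgroup.subgroupOfEquivOfLe inf_le_right).toEquiv
  constructor
  · intro h
    rw [← hc, natCard_defectGroup hM hF'.1 h]
  · intro h
    obtain ⟨D, hD, hle'⟩ := inf_le_defect hM hF' hC hT he hle
    rwa [Subgroup.eq_of_le_of_card_ge hle'
      (by rw [natCard_defectGroup hM hF'.1 hD, hc, h])]

theorem blockDefect_over_conj {Q T : Subgroup G} {f : Set (IrrCharacter (cen Q))}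
    {F' : Set (IrrCharacter T)} (hF' : IsBlockOver M T Q f F') (x : G) (T' : Subgroup G)
    (hT' : T' = T.map (MulAut.conj x).toMonoidHom) {F'' : Set (IrrCharacter T')}
    (hF'' : IsBlockOver M T' (Q.map (MulAut.conj x).toMonoidHom) (conjBlock Q x f) F'') :
    blockDefect p F'' = blockDefect p F' := by
  subst hT'
  rw [isBlockOver_unique hM hF'' (isBlockOver_conj hM hF' x), blockDefect_blockMap]

theorem inf_pairStab (he : IsBrauerPair p M P e) {Q : Subgroup G}
    {f : Set (IrrCharacter (cen Q))} (hle : SubpairLE p M Q f P e) :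
    P ⊓ pairStab M Q f = P ⊓ Subgroup.normalizer (Q : Set G) :=
  le_antisymm (inf_le_inf_left P (pairStab_le Q f))
    (le_inf inf_le_left (inf_le_pairStab hM he hle))

/-- The index condition in the stabiliser. -/
theorem not_dvd_index_over {Q T : Subgroup G} {f : Set (IrrCharacter (cen Q))}
    {F' : Set (IrrCharacter T)} (hF' : IsBlockOver M T Q f F') (hf : IsBrauerPair p M Q f)
    (hQT : Q ≤ T) (hC : (cen Q) ≤ T) (hT : T ≤ pairStab M Q f) {D : Subgroup T}
    (hD : IsDefectGroup p M F' D) : ¬ p ∣ ((cen Q).subgroupOf T ⊔ D).index := by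
  classical
  have := Fintype.ofFinite T
  have hTN : T ≤ Subgroup.normalizer (Q : Set G) := hT.trans (pairStab_le Q f)
  have hn : (Q.subgroupOf T).Normal := subgroupOf_normal_of_le_normalizer hQT hTN
  set N := Subgroup.centralizer ((Q.subgroupOf T : Subgroup T) : Set T) with hNdef
  have := Fintype.ofFinite N
  have h := cenEq_subgroupOf hQT hC
  have hNeq : N = (cen Q).subgroupOf T := by
    ext t
    rw [Subgroup.mem_subgroupOf]
    exact ((cenEq_iff _ Q).1 h).2 t
  have hnN : N.Normal := inferInstanceAs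
    (Subgroup.centralizer ((Q.subgroupOf T : Subgroup T) : Set T)).Normal
  have hst : ∀ t : T, StabilizesBlock N (subBlock h f) t := fun t =>
    (stabilizesBlock_subBlock hM hQT h hf.2 t (hTN t.2)).2 (stabilizesBlock_of_mem hM hf.2 (hT t.2))
  have hsum : blockSum F' = inclSub N (blockSum (subBlock h f)) := by
    ext t
    rw [show (blockSum F').coeff t = blockCoeff F' t by simp [blockSum], hF'.2]
    by_cases ht : t ∈ N
    · have ht' : (t : G) ∈ cen Q := ((cenEq_iff _ Q).1 h).2 t |>.1 ht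
      rw [show t = ((⟨t, ht⟩ : N) : T) from rfl, coeff_inclSub_of_mem, subgroupBlockCoeff,
        dif_pos ht']
      simp only [blockSum, coeff_mkGA]
      rw [show blockCoeff (subBlock h f) (⟨t, ht⟩ : N) = blockCoeff f (cenIso h ⟨t, ht⟩) from
        blockCoeff_blockMap (cenIso h) f ⟨t, ht⟩]
      rfl
    · have ht' : (t : G) ∉ cen Q := fun hh => ht (((cenEq_iff _ Q).1 h).2 t |>.2 hh)
      rw [coeff_inclSub_of_not_mem _ _ ht, subgroupBlockCoeff, dif_neg ht']
  rw [← hNeq]
  exact (stable_defect (N := N) hM (isPBlock_subBlock h hf.2) hst hF'.1 hsum hD).1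

/-- **Full automization and receptivity.** -/
theorem automized_receptive (hF : IsBlockFusionSystemOn p M B P e F) [Fact p.Prime]
    {Q : Subgroup G} {f : Set (IrrCharacter (cen Q))} (hle : SubpairLE p M Q f P e)
    {F' : Set (IrrCharacter (pairStab M Q f))} (hF' : IsBlockOver M (pairStab M Q f) Q f F')
    (hcard : Nat.card ↥(P ⊓ pairStab M Q f) = p ^ blockDefect p F') :
    F.IsFullyAutomized p Q ∧ F.IsReceptive Q := by
  have he := hF.1.1.1
  have hQ := subpairLE_le hle
  have hfp := isBrauerPair_of_subpairLE he hle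
  have hQT : Q ≤ (pairStab M Q f) := le_pairStab Q f
  have hCT : (cen Q) ≤ (pairStab M Q f) := centralizer_le_pairStab Q f
  constructor
  · have hmap : ∀ α : MulAut Q, α ∈ F.autGroup Q ↔ ∃ a ∈ (pairStab M Q f), ∀ x : Q,
        ((α x : Q) : G) = a * (x : G) * a⁻¹ := by
      intro α
      constructor
      · intro hα
        obtain ⟨-, g, hg, hfus⟩ := (isMap_iff hM hF).1 (isMap_of_autGroup hQ hα)
        have hgx : ∀ x : Q, ((α x : Q) : G) = g * (x : G) * g⁻¹ := fun x => by
          rw [← hg x x.2, toFun_aut_apply α x.2]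
        exact ⟨g, mem_pairStab_of_fus hM he hle hfus (mem_normalizer_of_aut hgx), hgx⟩
      · rintro ⟨a, ha, hax⟩
        exact (autGroup_iff_isMap hQ hax).2 ((isMap_iff hM hF).2
          ⟨hQ, a, fun _ _ => rfl, isFus_of_mem_pairStab hM he hle ha⟩)
    let ρ : (pairStab M Q f) →* F.autGroup Q :=
      (Q.normalizerMonoidHom.comp (Subgroup.inclusion (pairStab_le Q f))).codRestrict _
        fun a => (hmap _).2 ⟨a, a.2, fun _ => rfl⟩
    have hsurj : Function.Surjective ρ := by
      rintro ⟨α, hα⟩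
      obtain ⟨a, ha, hax⟩ := (hmap α).1 hα
      exact ⟨⟨a, ha⟩, Subtype.ext (MulEquiv.ext fun x => Subtype.ext (hax x).symm)⟩
    set A := (P ⊓ (pairStab M Q f)).subgroupOf (pairStab M Q f) with hA
    have hD : IsDefectGroup p M F' A :=
      (inf_isDefectGroup_iff hM hF' hCT le_rfl he hle).2 hcard
    have hidx : ¬ p ∣ (A.map ρ).index := by
      rw [Subgroup.index_map, MonoidHom.range_eq_top.2 hsurj, Subgroup.index_top, mul_one]
      refine fun h => not_dvd_index_over hM hF' hfp hQT hCT le_rfl hD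
        (h.trans (Subgroup.index_dvd_of_le ?_))
      refine sup_le (fun c hc => Subgroup.mem_sup_right ?_) le_sup_left
      refine MonoidHom.mem_ker.2 (Subtype.ext (MulEquiv.ext fun x => Subtype.ext ?_))
      show (c : G) * (x : G) * (c : G)⁻¹ = x
      have hc' : (x : G) * c = c * x :=
        Subgroup.mem_centralizer_iff.1 (Subgroup.mem_subgroupOf.1 hc) x x.2
      rw [← hc', mul_inv_cancel_right]
    refine ⟨hQ, ((isPGroup_defectGroup hM hF'.1 hD).map ρ).toSylow hidx, ?_⟩
    show A.map ρ = _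
    ext ⟨α, hα⟩
    rw [Subgroup.mem_map, Subgroup.mem_subgroupOf, mem_autInducedBy_iff]
    constructor
    · rintro ⟨a, ha, hρ⟩
      refine ⟨a, ha.1, fun x => ?_⟩
      have e0 : ((ρ a : F.autGroup Q) : MulAut Q) = α := congrArg Subtype.val hρ
      show ((α x : Q) : G) = _
      rw [← e0]
      rfl
    · rintro ⟨a, ha, hax⟩
      have haT : a ∈ (pairStab M Q f) := inf_le_pairStab hM he hle ⟨ha, mem_normalizer_of_aut hax⟩
      exact ⟨⟨a, haT⟩, ⟨ha, haT⟩, Subtype.ext (MulEquiv.ext fun x => Subtype.ext (hax x).symm)⟩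
  · refine receptive_of_extend hQ fun R φ hφ himg R' hRR' hR' => ?_
    obtain ⟨hRP, g, hg, hfus⟩ := (isMap_iff hM hF).1 hφ
    have hgR : R.map (MulAut.conj g).toMonoidHom = Q := by
      rw [← himg]
      ext y
      rw [hφ.mem_img]
      constructor
      · rintro ⟨x, hx, rfl⟩
        exact ⟨x, hx, hg x hx⟩
      · rintro ⟨x, hx, rfl⟩
        exact ⟨x, hx, (hg x hx).symm⟩
    have hR'P : R' ≤ P := fun a ha => (hR' a ha).1
    set N := P ⊓ Subgroup.normalizer (Q : Set G) with hN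
    set X := N ⊔ (cen Q) with hX
    have hNT : N ≤ (pairStab M Q f) := inf_le_pairStab hM he hle
    have hXT : X ≤ (pairStab M Q f) := sup_le hNT hCT
    have hQN : Q ≤ N := le_inf hQ Subgroup.le_normalizer
    have hQX : Q ≤ X := hQN.trans le_sup_left
    -- the conjugate of `R'` lies in `X`
    have hR'X : R'.map (MulAut.conj g).toMonoidHom ≤ X := by
      rintro _ ⟨a, ha, rfl⟩
      obtain ⟨-, han, b, hb, hbx⟩ := hR' a ha
      have key : ∀ x ∈ R, g * a * g⁻¹ * (g * x * g⁻¹) * (g * a * g⁻¹)⁻¹ =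
          b * (g * x * g⁻¹) * b⁻¹ := fun x hx => by
        calc g * a * g⁻¹ * (g * x * g⁻¹) * (g * a * g⁻¹)⁻¹ = g * (a * x * a⁻¹) * g⁻¹ := by group
          _ = φ (a * x * a⁻¹) := (hg _ ((han x).1 hx)).symm
          _ = b * φ x * b⁻¹ := hbx x hx
          _ = b * (g * x * g⁻¹) * b⁻¹ := by rw [hg x hx]
      have hbn : b ∈ Subgroup.normalizer (Q : Set G) := by
        refine mem_normalizer_of_map_le ?_
        rintro _ ⟨y, hy, rfl⟩
        rw [← hgR] at hy
        obtain ⟨x, hx, rfl⟩ := hy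
        show b * (g * x * g⁻¹) * b⁻¹ ∈ Q
        rw [← key x hx, ← hgR]
        exact ⟨a * x * a⁻¹, (han x).1 hx, by simp [mul_assoc]⟩
      have hc : b⁻¹ * (g * a * g⁻¹) ∈ cen Q := by
        rw [Subgroup.mem_centralizer_iff]
        intro y hy
        rw [← hgR] at hy
        obtain ⟨x, hx, rfl⟩ := hy
        show g * x * g⁻¹ * (b⁻¹ * (g * a * g⁻¹)) = b⁻¹ * (g * a * g⁻¹) * (g * x * g⁻¹)
        calc g * x * g⁻¹ * (b⁻¹ * (g * a * g⁻¹))
            = b⁻¹ * (b * (g * x * g⁻¹) * b⁻¹) * (g * a * g⁻¹) := by group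
          _ = b⁻¹ * (g * a * g⁻¹ * (g * x * g⁻¹) * (g * a * g⁻¹)⁻¹) * (g * a * g⁻¹) := by
            rw [key x hx]
          _ = _ := by group
      have h := mul_mem (Subgroup.mem_sup_left (T := cen Q) (show b ∈ N from ⟨hb, hbn⟩))
        (Subgroup.mem_sup_right (S := N) hc)
      rwa [mul_inv_cancel_left] at h
    -- the pairs
    obtain ⟨FX, hFX⟩ := exists_isBlockOver hM hfp hQX le_sup_right hXT
    obtain ⟨eN, heN, heN'⟩ := exists_normal_between hM he hle hQN inf_le_left inf_le_right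
    obtain ⟨k, -, hk⟩ := exists_subpair hM he _ R' hR'P rfl
    obtain ⟨fR, -, hfR⟩ := exists_subpair hM (isBrauerPair_of_subpairLE he hk) _ R hRR' rfl
    have hkp := isBrauerPair_of_subpairLE he hk
    have hS : SubpairLE p M Q f (R'.map (MulAut.conj g).toMonoidHom) (conjBlock R' g k) := by
      have h1 := subpairLE_conj hM hfR g
      obtain ⟨-, f₀, hf₀, hgf₀⟩ := hfus
      obtain rfl : f₀ = fR :=
        subpair_unique hM he _ R rfl _ _ hf₀ (Relation.ReflTransGen.trans hfR hk)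
      have e1 := idx_eq_of_below hM he hgR hgf₀ hle
      unfold SubpairLE at h1 ⊢
      rwa [← e1]
    have hd : p ^ blockDefect p FX ≤ Nat.card N := by
      obtain ⟨D, hD⟩ := exists_isDefectGroup hM hFX.1
      have hRD : (D.map X.subtype).subgroupOf X = D :=
        Subgroup.comap_map_eq_self_of_injective (Subgroup.subtype_injective X) D
      obtain ⟨gD, hgD⟩ := exists_pair_of_le_defect hM hFX hfp hXT (Subgroup.map_subtype_le D) hD
        hRD.le
      rw [← natCard_defectGroup hM hFX.1 hD,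
        ← Subgroup.card_map_of_injective (Subgroup.subtype_injective X) (K := D),
        hN, ← inf_pairStab hM he hle, hcard]
      exact card_le_of_normal hM hF' hCT hgD le_sup_right
        ((Subgroup.map_subtype_le D).trans hXT)
    obtain ⟨x, hxX, hx⟩ := exists_conj_le_local hM hFX le_sup_right
      (hXT.trans (pairStab_le Q f)) heN.2.1 (isBrauerPair_conj hM hkp g)
      (Relation.ReflTransGen.single heN) hS le_sup_left hR'X hd
    have hxg : IsFus p M P e R' (x * g) := by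
      have h1 := Relation.ReflTransGen.trans hx heN'
      have e1 := conjIdx_comp hM hkp.2 g x
      have h2 : SubpairLE p M (R'.map (MulAut.conj (x * g)).toMonoidHom)
          (conjBlock R' (x * g) k) P e := by
        unfold SubpairLE
        rw [← e1]
        exact h1
      exact ⟨subpairLE_le h2, k, hk, h2⟩
    have hNC : N ≤ Subgroup.normalizer ((cen Q : Subgroup G) : Set G) :=
      inf_le_right.trans (normalizer_le_normalizer_centralizer hM Q)
    rw [hX, ← SetLike.mem_coe, Subgroup.coe_mul_of_left_le_normalizer_right _ _ hNC] at hxX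
    obtain ⟨d, hd', c, hc, rfl⟩ := hxX
    refine ⟨fun y => c * g * y * (c * g)⁻¹, (isMap_iff hM hF).2 ⟨hR'P, c * g, fun _ _ => rfl, ?_⟩,
      fun y hy => ?_⟩
    · have h := isFus_comp hM he hxg (isFus_of_mem hM he le_rfl (P.inv_mem hd'.1)) hxg.1
      have e1 : d⁻¹ * (d * c * g) = c * g := by group
      rwa [e1] at h
    · show c * g * y * (c * g)⁻¹ = φ y
      have hyQ : g * y * g⁻¹ ∈ Q := hgR ▸ ⟨y, hy, rfl⟩
      rw [hg y hy]
      calc c * g * y * (c * g)⁻¹ = c * (g * y * g⁻¹) * c⁻¹ := by group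
        _ = g * y * g⁻¹ := by
          rw [← Subgroup.mem_centralizer_iff.1 hc _ hyQ, mul_inv_cancel_right]

/-- Some conjugate of `(Q, f)` below `(P, e)` has the local subgroup of `P` of the largest order. -/
theorem exists_fus_normalized (hmax : IsMaximalBrauerPair p M B P e) {Q : Subgroup G}
    {f : Set (IrrCharacter (cen Q))} (hle : SubpairLE p M Q f P e) :
    ∃ x : G, IsFus p M P e Q x ∧
      ∃ F' : Set (IrrCharacter (pairStab M (Q.map (MulAut.conj x).toMonoidHom) (conjBlock Q x f))),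
        IsBlockOver M _ (Q.map (MulAut.conj x).toMonoidHom) (conjBlock Q x f) F' ∧
          Nat.card ↥(P ⊓ pairStab M (Q.map (MulAut.conj x).toMonoidHom) (conjBlock Q x f)) =
            p ^ blockDefect p F' := by
  have hfp := isBrauerPair_of_subpairLE hmax.1.1 hle
  obtain ⟨F₀, hF₀⟩ := exists_isBlockOver hM hfp (le_pairStab Q f) (centralizer_le_pairStab Q f)
    le_rfl
  obtain ⟨x, hx, h⟩ := exists_conj_defect hM hmax hle hF₀ (centralizer_le_pairStab Q f) le_rfl
  obtain ⟨F', hF'⟩ := exists_isBlockOver hM (isBrauerPair_conj hM hfp x)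
    (le_pairStab (M := M) _ _) (centralizer_le_pairStab (M := M) _ _) le_rfl
  refine ⟨x, ⟨subpairLE_le hx, f, hle, hx⟩, F', hF', ?_⟩
  rw [(h _ (pairStab_conj hM f x) F' hF').2,
    blockDefect_over_conj hM hF₀ x _ (pairStab_conj hM f x) hF']

/-- **The fusion system of a block is saturated.** -/
theorem isSaturated_block [Fact p.Prime] (hF : IsBlockFusionSystemOn p M B P e F) :
    F.IsSaturated p := by
  intro Q hQ
  obtain ⟨f, -, hle⟩ := exists_subpair hM hF.1.1.1 _ Q hQ rfl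
  obtain ⟨x, hx, F', hF', hcard⟩ := exists_fus_normalized hM hF.1 hle
  obtain ⟨-, f', hf', hxf⟩ := id hx
  obtain rfl : f' = f := subpair_unique hM hF.1.1.1 _ Q rfl _ _ hf' hle
  exact ⟨_, (isConj_iff_fus hM hF).2 ⟨hQ, x, hx, rfl⟩,
    automized_receptive hM hF hxf hF' hcard⟩

/-- **Full normalization.** -/
theorem fullyNormalized_iff (hF : IsBlockFusionSystemOn p M B P e F) {Q : Subgroup G}
    {f : Set (IrrCharacter (cen Q))} (hle : SubpairLE p M Q f P e)
    {F' : Set (IrrCharacter (pairStab M Q f))} (hF' : IsBlockOver M (pairStab M Q f) Q f F') :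
    F.IsFullyNormalized Q ↔ Nat.card ↥(P ⊓ pairStab M Q f) = p ^ blockDefect p F' := by
  have he := hF.1.1.1
  have hQ := subpairLE_le hle
  have hN : ∀ (R : Subgroup G) (k : Set (IrrCharacter (cen R))), SubpairLE p M R k P e →
      FusionSystem.normalizerIn P R = P ⊓ pairStab M R k := fun R k hk =>
    (inf_pairStab hM he hk).symm
  constructor
  · intro h
    refine le_antisymm (card_inf_le hM hF' (centralizer_le_pairStab Q f) le_rfl he hle) ?_
    obtain ⟨x, hx, F'', hF'', hcard⟩ := exists_fus_normalized hM hF.1 hle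
    obtain ⟨-, f', hf', hxf⟩ := id hx
    obtain rfl : f' = f := subpair_unique hM he _ Q rfl _ _ hf' hle
    have h2 := h.2 _ ((isConj_iff_fus hM hF).2 ⟨hQ, x, hx, rfl⟩)
    rwa [hN _ _ hxf, hN _ _ hle, hcard,
      blockDefect_over_conj hM hF' x _ (pairStab_conj hM _ x) hF''] at h2
  · intro h
    refine ⟨hQ, fun R hR => ?_⟩
    obtain ⟨-, g, hg, rfl⟩ := (isConj_iff_fus hM hF).1 hR
    obtain ⟨-, f', hf', hgf⟩ := id hg
    obtain rfl : f' = f := subpair_unique hM he _ Q rfl _ _ hf' hle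
    obtain ⟨F'', hF''⟩ := exists_isBlockOver hM (isBrauerPair_of_subpairLE he hgf)
      (le_pairStab (M := M) _ _) (centralizer_le_pairStab (M := M) _ _) le_rfl
    rw [hN _ _ hgf, hN _ _ hle, h,
      ← blockDefect_over_conj hM hF' g _ (pairStab_conj hM _ g) hF'']
    exact card_inf_le hM hF'' (centralizer_le_pairStab (M := M) _ _) le_rfl he hgf

/-- **Full centralization.** -/
theorem fullyCentralized_iff (hF : IsBlockFusionSystemOn p M B P e F) {Q : Subgroup G}
    {f : Set (IrrCharacter (cen Q))} (hle : SubpairLE p M Q f P e) :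
    F.IsFullyCentralized Q ↔ Nat.card ↥(P ⊓ (cen Q)) = p ^ blockDefect p f := by
  have he := hF.1.1.1
  have hQ := subpairLE_le hle
  have hfb := (isBrauerPair_of_subpairLE he hle).2
  have hF' := isBlockOver_cen (M := M) hfb
  have hC := centralizer_le_pairStab (M := M) Q f
  constructor
  · intro h
    refine le_antisymm (card_inf_le hM hF' le_rfl hC he hle) ?_
    obtain ⟨x, hx, hd⟩ := exists_conj_defect hM hF.1 hle hF' le_rfl hC
    obtain ⟨-, hcard⟩ := hd _ (map_conj_centralizer Q x).symm _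
      (isBlockOver_cen (isBrauerPair_of_subpairLE he hx).2)
    have h2 := h.2 _ ((isConj_iff_fus hM hF).2 ⟨hQ, x, ⟨subpairLE_le hx, f, hle, hx⟩, rfl⟩)
    exact hcard ▸ h2
  · intro h
    refine ⟨hQ, fun R hR => ?_⟩
    obtain ⟨-, g, hg, rfl⟩ := (isConj_iff_fus hM hF).1 hR
    obtain ⟨-, f', hf', hgf⟩ := id hg
    obtain rfl : f' = f := subpair_unique hM he _ Q rfl _ _ hf' hle
    have hgb := (isBrauerPair_of_subpairLE he hgf).2
    show Nat.card ↥(P ⊓ (cen _)) ≤ Nat.card ↥(P ⊓ (cen Q))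
    rw [h, ← blockDefect_over_conj hM hF' g _ (map_conj_centralizer Q g).symm (isBlockOver_cen hgb)]
    exact card_inf_le hM (isBlockOver_cen hgb) le_rfl (centralizer_le_pairStab (M := M) _ _) he hgf

/-- **Centric subgroups.** -/
theorem isCentric_iff (hF : IsBlockFusionSystemOn p M B P e F) {Q : Subgroup G}
    {f : Set (IrrCharacter (cen Q))} (hle : SubpairLE p M Q f P e) :
    F.IsCentric Q ↔ IsDefectGroup p M f ((Q ⊓ (cen Q)).subgroupOf (cen Q)) := by
  have he := hF.1.1.1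
  have hQ := subpairLE_le hle
  have hfb := (isBrauerPair_of_subpairLE he hle).2
  have hF' := isBlockOver_cen (M := M) hfb
  have hC := centralizer_le_pairStab (M := M) Q f
  have hz : ∀ g : G, Nat.card ↥(Q.map (MulAut.conj g).toMonoidHom ⊓
      (cen (Q.map (MulAut.conj g).toMonoidHom))) = Nat.card ↥(Q ⊓ (cen Q)) := fun g => by
    rw [← map_conj_centralizer, ← Subgroup.map_inf _ _ _ (MulAut.conj g).injective,
      natCard_map_conj]
  have hcz : Nat.card ((Q ⊓ (cen Q)).subgroupOf (cen Q)) = Nat.card ↥(Q ⊓ (cen Q)) :=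
    Nat.card_congr (Subgroup.subgroupOfEquivOfLe inf_le_right).toEquiv
  constructor
  · intro h
    obtain ⟨x, hx, hd⟩ := exists_conj_defect hM hF.1 hle hF' le_rfl hC
    obtain ⟨-, hcard⟩ := hd _ (map_conj_centralizer Q x).symm _
      (isBlockOver_cen (isBrauerPair_of_subpairLE he hx).2)
    have h2 := h.2 _ ((isConj_iff_fus hM hF).2 ⟨hQ, x, ⟨subpairLE_le hx, f, hle, hx⟩, rfl⟩)
    obtain ⟨D, hD, hle'⟩ := inf_le_defect hM hF' le_rfl hC he hle
    have hsub : (Q ⊓ (cen Q)).subgroupOf (cen Q) ≤ D :=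
      (show (Q ⊓ (cen Q)).subgroupOf (cen Q) ≤ (P ⊓ (cen Q)).subgroupOf (cen Q) from
        fun t ht => ⟨hQ ht.1, ht.2⟩).trans hle'
    refine (Subgroup.eq_of_le_of_card_ge hsub ?_).symm ▸ hD
    rw [natCard_defectGroup hM hfb hD, hcz, ← hcard, ← hz x]
    exact Subgroup.card_le_of_le (le_inf h2 inf_le_right)
  · intro h
    have hd : Nat.card ↥(Q ⊓ (cen Q)) = p ^ blockDefect p f := by
      rw [← hcz, natCard_defectGroup hM hfb h]
    refine ⟨hQ, fun R hR => ?_⟩
    obtain ⟨-, g, hg, rfl⟩ := (isConj_iff_fus hM hF).1 hR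
    obtain ⟨hgP, f', hf', hgf⟩ := id hg
    obtain rfl : f' = f := subpair_unique hM he _ Q rfl _ _ hf' hle
    have hgb := (isBrauerPair_of_subpairLE he hgf).2
    have hle2 : Q.map (MulAut.conj g).toMonoidHom ⊓ (cen (Q.map (MulAut.conj g).toMonoidHom)) ≤
        P ⊓ (cen (Q.map (MulAut.conj g).toMonoidHom)) := inf_le_inf_right _ hgP
    have hc2 : Nat.card ↥(P ⊓ (cen (Q.map (MulAut.conj g).toMonoidHom))) ≤
        Nat.card ↥(Q.map (MulAut.conj g).toMonoidHom ⊓ (cen (Q.map (MulAut.conj g).toMonoidHom))) := by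
      rw [hz, hd,
        ← blockDefect_over_conj hM hF' g _ (map_conj_centralizer Q g).symm (isBlockOver_cen hgb)]
      exact card_inf_le hM (isBlockOver_cen hgb) le_rfl (centralizer_le_pairStab (M := M) _ _) he hgf
    exact (Subgroup.eq_of_le_of_card_ge hle2 hc2).symm.le.trans inf_le_left

end CfsgLib.BlockA
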