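import Cfsg.Agent.Lib.BlockA.BrauerConj
import Cfsg.Agent.Lib.Block.DefectOrder

/-! Maximal Brauer pairs: their subgroups are the defect groups, and they are conjugate. -/

set_option autoImplicit false
set_option linter.unusedSectionVars false
set_option maxHeartbeats 1000000

namespace CfsgLib.BlockA

open Cfsg CfsgLib.Block MonoidAlgebra

universe u v

section Conj

variable {k : Type v} [CommRing k] {G : Type u} [Group G] [Finite G]

/-- Conjugation of an element of the group algebra. -/
noncomputable def conjGA (x : G) (a : MonoidAlgebra k G) : MonoidAlgebra k G :=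
  mkGA fun g => a.coeff (x⁻¹ * g * x)

@[simp]
theorem coeff_conjGA (x : G) (a : MonoidAlgebra k G) (g : G) :
    (conjGA x a).coeff g = a.coeff (x⁻¹ * g * x) := coeff_mkGA _ g

theorem conjGA_mul (x : G) (a b : MonoidAlgebra k G) :
    conjGA x (a * b) = conjGA x a * conjGA x b := by
  have := Fintype.ofFinite G
  ext g
  rw [coeff_conjGA, coeff_mul_eq, coeff_mul_eq]
  refine Fintype.sum_equiv (MulAut.conj x).toEquiv _ _ fun y => ?_
  simp [MulAut.conj_apply, mul_assoc]

theorem isPInv_mul {P : Subgroup G} {a b : MonoidAlgebra k G} (ha : IsPInv P a) (hb : IsPInv P b) :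
    IsPInv P (a * b) := by
  intro w hw x
  have e : ∀ c : MonoidAlgebra k G, IsPInv P c → conjGA w⁻¹ c = c := fun c hc => by
    ext g
    rw [coeff_conjGA, inv_inv]
    exact hc w hw g
  have h := conjGA_mul w⁻¹ a b
  rw [e a ha, e b hb] at h
  conv_rhs => rw [← h]
  rw [coeff_conjGA, inv_inv]

theorem conjGA_eq_of_mem {X : Subgroup G} {a : MonoidAlgebra k G} (ha : IsPInv X a) {x y : G}
    (h : x⁻¹ * y ∈ X) : conjGA x a = conjGA y a := by
  ext g
  rw [coeff_conjGA, coeff_conjGA, ← ha _ h (y⁻¹ * g * y)]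
  congr 1
  group

end Conj

variable {G : Type u} [Group G] [Finite G] {p : ℕ} {M : Ideal AlgInt} [M.IsPrime]

local notation "cen" Q => Subgroup.centralizer ((Q : Subgroup G) : Set G)

theorem isCInv_of_isPInv {Q X : Subgroup G} (h : (cen Q) ≤ X) {a : MonoidAlgebra (kres M) G}
    (ha : IsPInv X a) : IsCInv Q a := by
  intro c d
  simp only [coeff_resSub]
  exact ha _ (h d.2) _

theorem pairVal_zero {Q : Subgroup G} (ξ : IrrCharacter (cen Q)) :
    pairVal Q ξ (0 : MonoidAlgebra (kres M) G) = 0 := by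
  have h := (pairVal_sum (∅ : Finset ℕ) (Q := Q) ξ
    (fun _ => (0 : MonoidAlgebra (kres M) G)) (by simp)).2
  simpa using h

/-- Elements of the normaliser of `Q` fixing the idempotent of `f`. -/
def pairStab (M : Ideal AlgInt) [M.IsPrime] (Q : Subgroup G) (f : Set (IrrCharacter (cen Q))) :
    Subgroup G where
  carrier := {n | n ∈ Subgroup.normalizer (Q : Set G) ∧
    ∀ g, (sIdem M (cen Q) f).coeff (n⁻¹ * g * n) = (sIdem M (cen Q) f).coeff g}
  one_mem' := ⟨one_mem _, fun g => by simp⟩
  mul_mem' := by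
    rintro a b ⟨ha, ha'⟩ ⟨hb, hb'⟩
    refine ⟨mul_mem ha hb, fun g => ?_⟩
    rw [← ha' g, ← hb' (a⁻¹ * g * a)]
    congr 1
    group
  inv_mem' := by
    rintro a ⟨ha, ha'⟩
    refine ⟨inv_mem ha, fun g => ?_⟩
    rw [← ha' (a⁻¹⁻¹ * g * a⁻¹)]
    congr 1
    group

theorem pairStab_le (Q : Subgroup G) (f : Set (IrrCharacter (cen Q))) :
    pairStab M Q f ≤ Subgroup.normalizer (Q : Set G) := fun _ h => h.1

theorem centralizer_le_pairStab (Q : Subgroup G) (f : Set (IrrCharacter (cen Q))) :
    (cen Q) ≤ pairStab M Q f := fun c hc =>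
  ⟨Subgroup.centralizer_le_normalizer _ hc, fun g => by
    rw [sIdem]
    have := inclSub_conj_invariant (cen Q) (isClassCoeff_center (blkIdem M f)) (inv_mem hc) g
    rwa [inv_inv] at this⟩

theorem le_pairStab (Q : Subgroup G) (f : Set (IrrCharacter (cen Q))) :
    Q ≤ pairStab M Q f := fun w hw =>
  ⟨Subgroup.le_normalizer hw, fun g => by
    by_cases hg : g ∈ cen Q
    · have h := Subgroup.mem_centralizer_iff.1 hg w hw
      congr 1
      rw [mul_assoc, ← h, ← mul_assoc, inv_mul_cancel, one_mul]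
    · have hg' : w⁻¹ * g * w ∉ cen Q := fun hh => hg (by
        have h := Subgroup.mem_centralizer_iff.1 hh w hw
        have e : g = w⁻¹ * g * w := by
          calc g = (w * (w⁻¹ * g * w)) * w⁻¹ := by group
            _ = (w⁻¹ * g * w * w) * w⁻¹ := by rw [h]
            _ = _ := by group
        rw [e]; exact hh)
      rw [sIdem, coeff_inclSub_of_not_mem _ _ hg, coeff_inclSub_of_not_mem _ _ hg']⟩

theorem isPInv_sIdem_pairStab (Q : Subgroup G) (f : Set (IrrCharacter (cen Q))) :
    IsPInv (pairStab M Q f) (sIdem M (cen Q) f) := fun w hw g => by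
  rw [← ((pairStab M Q f).inv_mem hw).2 g, inv_inv]

variable (hM : IsPModular p M)
include hM

theorem pairVal_eq_lam {B : Set (IrrCharacter G)} {P : Subgroup G}
    {e : Set (IrrCharacter (cen P))} (h : IsBrauerPairOf p M B P e) {ξ : IrrCharacter (cen P)}
    (hξ : ξ ∈ e) {χ : IrrCharacter G} (hχ : χ ∈ B)
    (z : Subalgebra.center (kres M) (MonoidAlgebra (kres M) G)) :
    pairVal P ξ (z : MonoidAlgebra (kres M) G) = lam M χ z := by
  classical
  have := Fact.mk hM.1
  have := charP_kres hM
  let β := brHom (k := kres M) h.1.1 (le_refl (cen P)) (Subgroup.centralizer_le_normalizer _)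
  obtain ⟨χ', hχ'⟩ := exists_eq_lam hM ((lam M ξ).comp β)
  have hval : ∀ z : Subalgebra.center (kres M) (MonoidAlgebra (kres M) G),
      pairVal P ξ (z : MonoidAlgebra (kres M) G) = lam M χ' z := by
    intro z
    rw [← hχ', AlgHom.comp_apply, pairVal_eq ξ (isCInv_of_isClassCoeff (isClassCoeff_center z))]
    exact congrArg (lam M ξ) (Subtype.ext (resSub_eq_brRes P _))
  have h1 := (isBrauerPairOf_iff hM h.1 h.2.1 hξ).1 h
  rw [hval, algHom_blkIdem_eq_one_iff hM h.2.1] at h1
  rw [hval, lam_eq_of_sameBlock (sameBlock_of_mem h.2.1 h1 hχ)]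

theorem pairVal_sIdem {Q : Subgroup G} {f : Set (IrrCharacter (cen Q))} (hf : IsPBlock M f)
    (η : IrrCharacter (cen Q)) [Decidable (η ∈ f)] :
    pairVal Q η (sIdem M (cen Q) f) = if η ∈ f then 1 else 0 := by
  rw [pairVal_eq η (isCInv_sIdem hM le_rfl f)]
  have e : (⟨resSub (cen Q) (sIdem M (cen Q) f), isClassCoeff_iff_mem_center.1
      (isCInv_sIdem hM le_rfl f)⟩ : Subalgebra.center (kres M) (MonoidAlgebra (kres M) (cen Q))) =
      blkIdem M f := Subtype.ext (resSub_inclSub _ _)
  rw [e, lam_blkIdem hM hf]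
  congr

/-- The subgroup of a pair is conjugate into a defect group. -/
theorem exists_le_conj_defectGroup {B : Set (IrrCharacter G)} {Q : Subgroup G}
    {f : Set (IrrCharacter (cen Q))} (h : IsBrauerPairOf p M B Q f) {D : Subgroup G}
    (hD : IsDefectGroup p M B D) : ∃ x : G, Q ≤ D.map (MulAut.conj x).toMonoidHom := by
  refine (exists_le_conj_iff_coeff hM h.2.1 hD h.1.1).1 ?_
  by_contra hne
  push Not at hne
  obtain ⟨ξ, hξ⟩ := isPBlock_nonempty h.1.2
  have h1 := (isBrauerPairOf_iff hM h.1 h.2.1 hξ).1 h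
  have hc := isCInv_of_isClassCoeff (Q := Q)
    (isClassCoeff_center (blkIdem M B : Subalgebra.center (kres M) (MonoidAlgebra (kres M) G)))
  rw [pairVal_eq ξ hc] at h1
  have e : (⟨resSub (cen Q) (blkIdem M B : MonoidAlgebra (kres M) G),
      isClassCoeff_iff_mem_center.1 hc⟩ :
        Subalgebra.center (kres M) (MonoidAlgebra (kres M) (cen Q))) = 0 := by
    apply Subtype.ext
    ext c
    simpa using hne c c.2
  rw [e, map_zero] at h1
  exact zero_ne_one h1

/-- The seed of the trace argument. -/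
theorem exists_seed {B : Set (IrrCharacter G)} {P : Subgroup G} {e : Set (IrrCharacter (cen P))}
    (hmax : IsMaximalBrauerPair p M B P e) {ξ : IrrCharacter (cen P)} (hξ : ξ ∈ e) :
    ∃ w : MonoidAlgebra (kres M) G, IsPInv (pairStab M P e) w ∧
      (∀ g, g ∉ (cen P) → w.coeff g = 0) ∧ w * sIdem M (cen P) e = w ∧ pairVal P ξ w ≠ 0 ∧
      ∀ x, w.coeff x ≠ 0 → ∀ R : Subgroup G, IsPGroup p R → R ≤ pairStab M P e →
        R ≤ Subgroup.centralizer ({x} : Set G) → R ≤ P := by
  classical
  have := Fact.mk hM.1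
  have := charP_kres hM
  have := Fintype.ofFinite G
  obtain ⟨⟨⟨hP, he⟩, hB, hval⟩, hmax'⟩ := hmax
  set Ne := pairStab M P e with hNe
  set E := sIdem M (cen P) e with hE
  have hEinv : IsPInv Ne E := isPInv_sIdem_pairStab P e
  have hCNe : (cen P) ≤ Ne := centralizer_le_pairStab P e
  have hPNe : P ≤ Ne := le_pairStab P e
  -- the pieces of `E`
  let cls : G → Set G := fun g => {y | ∃ n ∈ Ne, y = n * g * n⁻¹}
  have hcls : ∀ n ∈ Ne, ∀ g, cls (n * g * n⁻¹) = cls g := by
    intro n hn g
    ext y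
    constructor
    · rintro ⟨m, hm, rfl⟩
      exact ⟨m * n, mul_mem hm hn, by group⟩
    · rintro ⟨m, hm, rfl⟩
      exact ⟨m * n⁻¹, mul_mem hm (inv_mem hn), by group⟩
  let F : Set G → MonoidAlgebra (kres M) G := fun S =>
    mkGA fun g => if cls g = S then E.coeff g else 0
  have hFinv : ∀ S, IsPInv Ne (F S) := fun S n hn g => by
    simp only [F, coeff_mkGA, hcls n hn g, hEinv n hn g]
  have hsum : ∑ S ∈ (Finset.univ : Finset G).image cls, F S = E := by
    ext g
    simp only [F, coeff_sum, Finsupp.finsetSum_apply, coeff_mkGA]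
    rw [Finset.sum_ite_eq, if_pos (Finset.mem_image_of_mem cls (Finset.mem_univ g))]
  have hvE : pairVal P ξ E = 1 := by rw [hE, pairVal_sIdem hM he, if_pos hξ]
  obtain ⟨S, -, hvS⟩ : ∃ S ∈ (Finset.univ : Finset G).image cls, pairVal P ξ (F S) ≠ 0 := by
    refine Finset.exists_ne_zero_of_sum_ne_zero ?_
    rw [← (pairVal_sum _ ξ F fun S _ => isCInv_of_isPInv hCNe (hFinv S)).2, hsum, hvE]
    exact one_ne_zero
  have hFsupp : ∀ g, (F S).coeff g ≠ 0 → cls g = S ∧ E.coeff g ≠ 0 := by
    intro g hg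
    simp only [F, coeff_mkGA] at hg
    by_cases h : cls g = S
    · exact ⟨h, by rwa [if_pos h] at hg⟩
    · rw [if_neg h] at hg
      exact absurd rfl hg
  -- a point of the support
  have hne : F S ≠ 0 := fun h0 => hvS (by rw [h0, pairVal_zero])
  obtain ⟨c, hc⟩ : ∃ c, (F S).coeff c ≠ 0 := by
    by_contra h
    push Not at h
    exact hne (by ext g; simpa using h g)
  obtain ⟨hcS, hcE⟩ := hFsupp c hc
  have hcC : c ∈ cen P := by
    by_contra h
    exact hcE (coeff_inclSub_of_not_mem _ _ h)
  -- maximality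
  have key : ∀ R : Subgroup G, IsPGroup p R → R ≤ Ne → R ≤ Subgroup.centralizer ({c} : Set G) →
      R ≤ P := by
    intro R hR hRNe hRc
    set X := R ⊔ P with hX
    have hRN : R ≤ Subgroup.normalizer (P : Set G) := fun r hr => (hRNe hr).1
    have hXp : IsPGroup p X := hR.to_sup_of_normal_right' hP hRN
    have hXNe : X ≤ Ne := sup_le hRNe hPNe
    have hXN : X ≤ Subgroup.normalizer (P : Set G) := fun x hx => (hXNe hx).1
    have hcX : c ∈ cen X := by
      rw [Subgroup.mem_centralizer_iff]
      have : X ≤ Subgroup.centralizer ({c} : Set G) := sup_le hRc fun q hq => by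
        rw [Subgroup.mem_centralizer_singleton_iff]
        exact Subgroup.mem_centralizer_iff.1 hcC q hq
      exact fun x hx => Subgroup.mem_centralizer_singleton_iff.1 (this hx)
    have hEC := isCInv_sIdem hM (R := X) le_sup_right e
    set e' : Subalgebra.center (kres M) (MonoidAlgebra (kres M) (cen X)) :=
      ⟨resSub (cen X) E, isClassCoeff_iff_mem_center.1 hEC⟩ with he'
    have hid : e' * e' = e' := by
      apply Subtype.ext
      rw [MulMemClass.coe_mul, he']
      show resSub (cen X) E * resSub (cen X) E = resSub (cen X) E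
      rw [← resSub_mul hM hXp (isPInv_mono hXNe hEinv) (isPInv_mono hXNe hEinv), hE,
        sIdem_idem hM he]
    have hne' : e' ≠ 0 := by
      intro h0
      refine hcE ?_
      have := congrArg (fun t : Subalgebra.center (kres M) (MonoidAlgebra (kres M) (cen X)) =>
        (t : MonoidAlgebra (kres M) (cen X)).coeff ⟨c, hcX⟩) h0
      simpa [he'] using this
    obtain ⟨η, hη⟩ := exists_lam_eq_one_of_idem hM hid hne'
    have hg : IsBrauerPair p M X (blockOf M (η : (cen X) → ℂ)) := ⟨hXp, isPBlock_blockOf η⟩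
    have hstep : IsNormalSubpair p M P e X (blockOf M (η : (cen X) → ℂ)) := by
      refine (isNormalSubpair_iff hM (mem_blockOf_self η) hg ⟨hP, he⟩).2
        ⟨le_sup_right, hXN, fun x hx => ?_, ?_⟩
      · rw [stabilizesBlock_iff_coeff hM he (hXN hx)]
        exact (hXNe hx).2
      · rw [pairVal_eq η hEC]
        exact hη
    have hle : SubpairLE p M P e X (blockOf M (η : (cen X) → ℂ)) :=
      Relation.ReflTransGen.single hstep
    have hXP := hmax' X _ ((isBrauerPairOf_iff_of_le hM hg hle hB).2 ⟨⟨hP, he⟩, hB, hval⟩) hle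
    exact le_sup_left.trans (le_of_eq hXP)
  have hFC : ∀ g, g ∉ (cen P) → (F S).coeff g = 0 := fun g hg => by
    by_contra h
    exact (hFsupp g h).2 (coeff_inclSub_of_not_mem _ _ hg)
  refine ⟨F S * E, isPInv_mul (hFinv S) hEinv, fun g hg => ?_, ?_, ?_, ?_⟩
  · have e1 : inclSub (cen P) (resSub (cen P) (F S)) = F S := by
      ext x
      by_cases hx : x ∈ cen P
      · exact coeff_inclSub_of_mem (cen P) _ ⟨x, hx⟩
      · rw [coeff_inclSub_of_not_mem _ _ hx, hFC x hx]
    rw [← e1, hE, sIdem, ← map_mul, coeff_inclSub_of_not_mem _ _ hg]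
  · rw [mul_assoc, hE, sIdem_idem hM he]
  · rw [(pairVal_mul hM hP ξ (isPInv_mono hPNe (hFinv S)) (isPInv_mono hPNe hEinv)
      (isCInv_of_isPInv hCNe (hFinv S)) (isCInv_of_isPInv hCNe hEinv)).2, hvE, mul_one]
    exact hvS
  · intro x hx R hR hRNe hRx
    have hxR : x ∈ cen R := Subgroup.mem_centralizer_iff.2 fun r hr =>
      Subgroup.mem_centralizer_singleton_iff.1 (hRx hr)
    rw [coeff_mul_of_mem_centralizer hR (isPInv_mono hRNe (hFinv S)) (isPInv_mono hRNe hEinv)
      hxR] at hx
    obtain ⟨y, hy, hy0⟩ := Finset.exists_ne_zero_of_sum_ne_zero hx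
    have hyR := (Finset.mem_filter.1 hy).2
    obtain ⟨hyS, -⟩ := hFsupp y (left_ne_zero_of_mul hy0)
    obtain ⟨n, hn, hnc⟩ : y ∈ cls c := by
      rw [hcS, ← hyS]
      exact ⟨1, one_mem _, by group⟩
    intro r hr
    have h1 : n⁻¹ * r * n ∈ R.map (MulAut.conj n⁻¹).toMonoidHom := by
      rw [mem_map_conj_iff]
      simpa [mul_assoc] using hr
    have h2 : R.map (MulAut.conj n⁻¹).toMonoidHom ≤ P := by
      refine key _ (hR.map _) (fun t ht => ?_) fun t ht => ?_
      · rw [mem_map_conj_iff, inv_inv] at ht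
        have := mul_mem (mul_mem (inv_mem hn) (hRNe ht)) hn
        simpa [mul_assoc] using this
      · rw [mem_map_conj_iff, inv_inv] at ht
        rw [Subgroup.mem_centralizer_singleton_iff]
        have h := Subgroup.mem_centralizer_iff.1 hyR _ ht
        rw [hnc] at h
        calc t * c = n⁻¹ * ((n * t * n⁻¹) * (n * c * n⁻¹)) * n := by group
          _ = n⁻¹ * ((n * c * n⁻¹) * (n * t * n⁻¹)) * n := by rw [h]
          _ = c * t := by group
    have := (Subgroup.mem_normalizer_iff.1 hn.1 _).1 (h2 h1)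
    simpa [mul_assoc] using this

/-- The trace of the seed to the normaliser of `P`, and its properties. -/
theorem exists_trace {B : Set (IrrCharacter G)} {P : Subgroup G} {e : Set (IrrCharacter (cen P))}
    (hmax : IsMaximalBrauerPair p M B P e) :
    ∃ T : MonoidAlgebra (kres M) G, IsPInv (Subgroup.normalizer (P : Set G)) T ∧
      (∀ ξ ∈ e, pairVal P ξ T ≠ 0) ∧
      (∀ y, T.coeff y ≠ 0 → y ∈ (cen P) ∧ ∀ R : Subgroup G, IsPGroup p R → P ≤ R →
        R ≤ Subgroup.centralizer ({y} : Set G) → R = P) ∧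
      ∀ e' : Set (IrrCharacter (cen P)), IsPBlock M e' → ∀ η ∈ e', pairVal P η T ≠ 0 →
        ∃ x ∈ Subgroup.normalizer (P : Set G), ∀ g,
          (sIdem M (cen P) e').coeff g = (sIdem M (cen P) e).coeff (x⁻¹ * g * x) := by
  classical
  have := Fact.mk hM.1
  have := charP_kres hM
  have := Fintype.ofFinite G
  obtain ⟨ξ₀, hξ₀⟩ := isPBlock_nonempty hmax.1.1.2
  have hP := hmax.1.1.1
  have he := hmax.1.1.2
  obtain ⟨w, hwinv, hwC, hwE, hwv, hwsupp⟩ := exists_seed hM hmax hξ₀
  set Ne := pairStab M P e with hNe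
  set N := Subgroup.normalizer (P : Set G) with hN
  have hCNe : (cen P) ≤ Ne := centralizer_le_pairStab P e
  have hPNe : P ≤ Ne := le_pairStab P e
  have := Fintype.ofFinite (N ⧸ Ne.subgroupOf N)
  have hval : ∀ x : N, IsPInv P (conjGA (x : G) w) ∧ IsCInv P (conjGA (x : G) w) ∧
      IsPInv P (conjGA (x : G) (sIdem M (cen P) e)) ∧
      IsCInv P (conjGA (x : G) (sIdem M (cen P) e)) := by
    intro x
    have hconj : ∀ a : MonoidAlgebra (kres M) G, IsPInv Ne a →
        IsPInv P (conjGA (x : G) a) ∧ IsCInv P (conjGA (x : G) a) := by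
      intro a ha
      have h0 : ∀ X : Subgroup G, X ≤ Ne → N ≤ Subgroup.normalizer (X : Set G) →
          IsPInv X (conjGA (x : G) a) := by
        intro X hX hXn q hq g
        rw [coeff_conjGA, coeff_conjGA,
          ← ha _ (hX ((Subgroup.mem_normalizer_iff''.1 (hXn x.2) q).1 hq)) ((x : G)⁻¹ * g * x)]
        congr 1
        group
      exact ⟨h0 P hPNe le_rfl, isCInv_of_isPInv le_rfl
        (h0 (cen P) hCNe (normalizer_le_normalizer_centralizer hM P))⟩
    exact ⟨(hconj w hwinv).1, (hconj w hwinv).2, (hconj _ (isPInv_sIdem_pairStab P e)).1,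
      (hconj _ (isPInv_sIdem_pairStab P e)).2⟩
  -- a nonzero value identifies the block
  have hblock : ∀ (x : N) (e' : Set (IrrCharacter (cen P))), IsPBlock M e' → ∀ η ∈ e',
      pairVal P η (conjGA (x : G) w) ≠ 0 →
        ∀ g, (sIdem M (cen P) e').coeff g = (sIdem M (cen P) e).coeff ((x : G)⁻¹ * g * x) := by
    intro x e' he' η hη hne g
    obtain ⟨h1, h2, h3, h4⟩ := hval x
    have hx : (x : G) ∈ Subgroup.normalizer ((cen P : Subgroup G) : Set G) :=
      normalizer_le_normalizer_centralizer hM P x.2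
    have hE : conjGA (x : G) (sIdem M (cen P) e) = sIdem M (cen P) (conjSet ⟨x, hx⟩ e) := by
      ext g
      rw [coeff_conjGA, coeff_sIdem_conjSet hM]
    have hb : IsPBlock M (conjSet (⟨x, hx⟩ :
        Subgroup.normalizer ((cen P : Subgroup G) : Set G)) e) := isPBlock_blockMap _ he
    rw [← hwE, conjGA_mul, (pairVal_mul hM hP η h1 h3 h2 h4).2, hE, pairVal_sIdem hM hb] at hne
    split_ifs at hne with hm
    · rw [isPBlock_eq_of_mem he' hb hη hm, coeff_sIdem_conjSet hM]
    · simp at hne
  refine ⟨∑ q : N ⧸ Ne.subgroupOf N, conjGA (q.out : G) w, ?_, fun ξ hξ => ?_, fun y hy => ?_,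
    fun e' he' η hη hne => ?_⟩
  · -- invariance
    intro n hn g
    have hcoset : ∀ x : N, conjGA (x : G) w = conjGA ((QuotientGroup.mk x :
        N ⧸ Ne.subgroupOf N).out : G) w := fun x => by
      refine conjGA_eq_of_mem hwinv ?_
      have h := QuotientGroup.eq.1 (QuotientGroup.out_eq' (QuotientGroup.mk x :
        N ⧸ Ne.subgroupOf N)).symm
      simpa [Subgroup.mem_subgroupOf] using h
    simp only [coeff_sum, Finsupp.finsetSum_apply]
    refine Fintype.sum_equiv (MulAction.toPerm (⟨n, hn⟩ : N)⁻¹) _ _ fun q => ?_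
    obtain ⟨x, rfl⟩ := QuotientGroup.mk_surjective q
    rw [MulAction.toPerm_apply, MulAction.Quotient.smul_mk, ← hcoset, ← hcoset, coeff_conjGA,
      coeff_conjGA]
    congr 1
    simp [mul_assoc]
  · -- the value at `e`
    rw [pairVal_congr (sameBlock_of_mem he hξ hξ₀),
      (pairVal_sum Finset.univ ξ₀ (fun q : N ⧸ Ne.subgroupOf N => conjGA (q.out : G) w)
        fun q _ => (hval q.out).2.1).2,
      Finset.sum_eq_single (QuotientGroup.mk (1 : N) : N ⧸ Ne.subgroupOf N)
        (fun q _ hq => ?_) (fun h => absurd (Finset.mem_univ _) h)]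
    · have h : conjGA ((QuotientGroup.mk (1 : N) : N ⧸ Ne.subgroupOf N).out : G) w
          = conjGA ((1 : N) : G) w := by
        refine conjGA_eq_of_mem hwinv ?_
        have h := QuotientGroup.eq.1 (QuotientGroup.out_eq' (QuotientGroup.mk (1 : N) :
          N ⧸ Ne.subgroupOf N))
        simpa [Subgroup.mem_subgroupOf] using h
      rw [h]
      have h1 : conjGA ((1 : N) : G) w = w := by ext g; simp
      rw [h1]
      exact hwv
    · by_contra hne
      refine hq ?_
      rw [← QuotientGroup.out_eq' q]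
      refine QuotientGroup.eq.2 ?_
      rw [mul_one, Subgroup.mem_subgroupOf]
      refine inv_mem (s := Ne) ⟨q.out.2, fun g => ?_⟩
      exact (hblock q.out e he ξ₀ hξ₀ hne g).symm
  · -- the support
    simp only [coeff_sum, Finsupp.finsetSum_apply] at hy
    obtain ⟨q, -, hq⟩ := Finset.exists_ne_zero_of_sum_ne_zero hy
    rw [coeff_conjGA] at hq
    constructor
    · have hc : (q.out : G)⁻¹ * y * q.out ∈ cen P := by
        by_contra h
        exact hq (hwC _ h)
      have h := (Subgroup.mem_normalizer_iff.1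
        (normalizer_le_normalizer_centralizer hM P q.out.2) _).1 hc
      simpa [mul_assoc] using h
    · intro R hR hPR hRy
      by_contra hne
      have hlt := lt_normalizer_inf hM hR hPR (fun h => hne h.symm)
      refine hlt.not_ge ?_
      set R₀ := R ⊓ Subgroup.normalizer (P : Set G) with hR₀
      let ι : R₀ →* N := Subgroup.inclusion inf_le_right
      let _ : MulAction R₀ (N ⧸ Ne.subgroupOf N) := MulAction.compHom _ ι
      have hR₀p : IsPGroup p R₀ := hR.to_le inf_le_left
      have hinv : ∀ (r : R₀) (q : N ⧸ Ne.subgroupOf N),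
          w.coeff (((r • q).out : G)⁻¹ * y * (r • q).out) =
            w.coeff ((q.out : G)⁻¹ * y * q.out) := by
        intro r q
        obtain ⟨x, rfl⟩ := QuotientGroup.mk_surjective q
        have hc : ∀ z : N, w.coeff ((z : G)⁻¹ * y * z) = w.coeff
            (((QuotientGroup.mk z : N ⧸ Ne.subgroupOf N).out : G)⁻¹ * y *
              (QuotientGroup.mk z : N ⧸ Ne.subgroupOf N).out) := fun z => by
          rw [← coeff_conjGA, ← coeff_conjGA]
          congr 2
          refine conjGA_eq_of_mem hwinv ?_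
          have h := QuotientGroup.eq.1 (QuotientGroup.out_eq' (QuotientGroup.mk z :
            N ⧸ Ne.subgroupOf N)).symm
          simpa [Subgroup.mem_subgroupOf] using h
        show w.coeff (((ι r • (QuotientGroup.mk x : N ⧸ Ne.subgroupOf N)).out : G)⁻¹ * y *
          (ι r • (QuotientGroup.mk x : N ⧸ Ne.subgroupOf N)).out) = _
        rw [MulAction.Quotient.smul_mk, ← hc, ← hc]
        congr 1
        have hry : (r : G) * y = y * r :=
          Subgroup.mem_centralizer_singleton_iff.1 (hRy r.2.1)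
        calc (((ι r • x : N)) : G)⁻¹ * y * ((ι r • x : N) : G)
            = (x : G)⁻¹ * ((r : G)⁻¹ * (y * r)) * x := by simp [ι, mul_assoc]
          _ = _ := by rw [← hry]; group
      simp only [coeff_conjGA] at hy
      rw [sum_eq_sum_fixed hR₀p (p := p) (fun v => by simp [nsmul_eq_mul]) _ hinv] at hy
      obtain ⟨q, hqf, hq0⟩ := Finset.exists_ne_zero_of_sum_ne_zero hy
      have hfix := (Finset.mem_filter.1 hqf).2
      have hsub : R₀.map (MulAut.conj (q.out : G)⁻¹).toMonoidHom ≤ P := by
        refine hwsupp _ hq0 _ (hR₀p.map _) (fun t ht => ?_) fun t ht => ?_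
        · rw [mem_map_conj_iff, inv_inv] at ht
          have h := hfix ⟨_, ht⟩
          have h2 : ι ⟨_, ht⟩ • (q.out : N ⧸ Ne.subgroupOf N) = (q.out : N ⧸ Ne.subgroupOf N) := by
            rw [QuotientGroup.out_eq' q]; exact h
          rw [MulAction.Quotient.smul_mk] at h2
          have h3 := QuotientGroup.eq.1 h2
          rw [Subgroup.mem_subgroupOf] at h3
          have h4 := inv_mem (s := Ne) h3
          simpa [ι, mul_assoc] using h4
        · rw [mem_map_conj_iff, inv_inv] at ht
          rw [Subgroup.mem_centralizer_singleton_iff]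
          have h := Subgroup.mem_centralizer_singleton_iff.1 (hRy ht.1)
          calc t * ((q.out : G)⁻¹ * y * q.out)
              = (q.out : G)⁻¹ * (((q.out : G) * t * (q.out : G)⁻¹) * y) * q.out := by group
            _ = (q.out : G)⁻¹ * (y * ((q.out : G) * t * (q.out : G)⁻¹)) * q.out := by rw [h]
            _ = _ := by group
      intro r hr
      have h1 : (q.out : G)⁻¹ * r * q.out ∈ R₀.map (MulAut.conj (q.out : G)⁻¹).toMonoidHom := by
        rw [mem_map_conj_iff]
        simpa [mul_assoc] using hr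
      have := (Subgroup.mem_normalizer_iff.1 q.out.2 _).1 (hsub h1)
      simpa [mul_assoc] using this
  · -- the blocks with a nonzero value
    rw [(pairVal_sum Finset.univ η (fun q : N ⧸ Ne.subgroupOf N => conjGA (q.out : G) w)
      fun q _ => (hval q.out).2.1).2] at hne
    obtain ⟨q, -, hq⟩ := Finset.exists_ne_zero_of_sum_ne_zero hne
    exact ⟨q.out, q.out.2, hblock q.out e' he' η hη hq⟩

/-- **The subgroup of a maximal pair is a defect group, and maximal pairs on it are conjugate.** -/
theorem maximal_core {B : Set (IrrCharacter G)} {P : Subgroup G} {e : Set (IrrCharacter (cen P))}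
    (hmax : IsMaximalBrauerPair p M B P e) :
    IsDefectGroup p M B P ∧ ∀ e' : Set (IrrCharacter (cen P)), IsBrauerPairOf p M B P e' →
      ∃ x ∈ Subgroup.normalizer (P : Set G),
        (⟨P.map (MulAut.conj x).toMonoidHom, conjBlock P x e⟩ : BrauerPairIdx G) = ⟨P, e'⟩ := by
  classical
  have := Fact.mk hM.1
  have := Fintype.ofFinite G
  obtain ⟨T, hTinv, hTv, hTsupp, hTblock⟩ := exists_trace hM hmax
  have hP := hmax.1.1.1
  -- conjugate points of the support
  have hconj : ∀ y ∈ (cen P), ∀ g : G, T.coeff (g * y * g⁻¹) ≠ 0 →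
      T.coeff y = T.coeff (g * y * g⁻¹) := by
    intro y hy g hg
    obtain ⟨-, hS⟩ := hTsupp _ hg
    set y' := g * y * g⁻¹ with hy'
    have hPy : P ≤ Subgroup.centralizer ({y'} : Set G) := fun q hq => by
      rw [Subgroup.mem_centralizer_singleton_iff]
      exact Subgroup.mem_centralizer_iff.1 (hTsupp _ hg).1 q hq
    obtain ⟨S, hPS⟩ := exists_sylow_cenSub_ge hP hPy
    have hSP := hS _ (isPGroup_cenSub y' S) hPS (cenSub_le y' _)
    obtain ⟨h, hh, hle⟩ := le_conj_cenSub S (hP.map (MulAut.conj g).toMonoidHom) (fun t ht => by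
      rw [mem_map_conj_iff] at ht
      rw [Subgroup.mem_centralizer_singleton_iff]
      have h := Subgroup.mem_centralizer_iff.1 hy _ ht
      calc t * y' = g * ((g⁻¹ * t * g) * y) * g⁻¹ := by rw [hy']; group
        _ = g * (y * (g⁻¹ * t * g)) * g⁻¹ := by rw [h]
        _ = y' * t := by rw [hy']; group)
    rw [hSP] at hle
    have heq : P.map (MulAut.conj g).toMonoidHom = P.map (MulAut.conj h).toMonoidHom :=
      Subgroup.eq_of_le_of_card_ge hle (by rw [natCard_map_conj, natCard_map_conj])
    have hn : h⁻¹ * g ∈ Subgroup.normalizer (P : Set G) := by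
      rw [Subgroup.mem_normalizer_iff]
      intro q
      have := SetLike.ext_iff.1 heq (g * q * g⁻¹)
      rw [mem_map_conj_iff, mem_map_conj_iff] at this
      simp only [mul_assoc, inv_mul_cancel, mul_one, inv_mul_cancel_left] at this
      simpa [mul_assoc] using this
    have := hTinv _ hn y
    rw [← this]
    congr 1
    have hhy : h * y' = y' * h := Subgroup.mem_centralizer_singleton_iff.1 hh
    calc h⁻¹ * g * y * (h⁻¹ * g)⁻¹ = h⁻¹ * (y' * h) := by rw [hy']; group
      _ = y' := by rw [← hhy]; group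
  -- extension to a central element
  let zf : G → kres M := fun y =>
    if h : ∃ g, T.coeff (g * y * g⁻¹) ≠ 0 then T.coeff (h.choose * y * h.choose⁻¹) else 0
  have hzC : ∀ y ∈ (cen P), zf y = T.coeff y := by
    intro y hy
    simp only [zf]
    split_ifs with h
    · exact (hconj y hy _ h.choose_spec).symm
    · push Not at h
      simpa using (h 1).symm
  have hzcl : IsClassCoeff (mkGA zf) := by
    intro y g
    simp only [coeff_mkGA, zf]
    by_cases h : ∃ a, T.coeff (a * y * a⁻¹) ≠ 0
    · have h' : ∃ a, T.coeff (a * (g * y * g⁻¹) * a⁻¹) ≠ 0 := by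
        obtain ⟨a, ha⟩ := h
        exact ⟨a * g⁻¹, by simpa [mul_assoc] using ha⟩
      rw [dif_pos h, dif_pos h']
      have hy2 := (hTsupp _ h'.choose_spec).1
      have := hconj _ hy2 (h.choose * (h'.choose * g)⁻¹) (by
        simpa [mul_assoc] using h.choose_spec)
      rw [this]
      congr 1
      group
    · have h' : ¬ ∃ a, T.coeff (a * (g * y * g⁻¹) * a⁻¹) ≠ 0 := by
        rintro ⟨a, ha⟩
        exact h ⟨a * g, by simpa [mul_assoc] using ha⟩
      rw [dif_neg h, dif_neg h']
  set z : Subalgebra.center (kres M) (MonoidAlgebra (kres M) G) :=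
    ⟨mkGA zf, isClassCoeff_iff_mem_center.1 hzcl⟩ with hz
  have hzT : ∀ η : IrrCharacter (cen P),
      pairVal P η (z : MonoidAlgebra (kres M) G) = pairVal P η T := by
    intro η
    have h1 : IsCInv P T :=
      isCInv_of_isPInv (Subgroup.centralizer_le_normalizer _) hTinv
    rw [pairVal_eq η (isCInv_of_isClassCoeff hzcl), pairVal_eq η h1]
    refine congrArg (lam M η) (Subtype.ext ?_)
    ext c
    simp [hzC c c.2]
  obtain ⟨χ, hχ⟩ := isPBlock_nonempty hmax.1.2.1
  obtain ⟨ξ, hξ⟩ := isPBlock_nonempty hmax.1.1.2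
  have hlam : lam M χ z ≠ 0 := by
    rw [← pairVal_eq_lam hM hmax.1 hξ hχ z, hzT]
    exact hTv ξ hξ
  refine ⟨?_, fun e' he' => ?_⟩
  · obtain ⟨D, hD⟩ := exists_isDefectGroup hM hmax.1.2.1
    obtain ⟨g, hg, hlg⟩ := exists_classSumZ_of_lam_ne_zero hM hmax.1.2.1 hχ hlam
    simp only [hz, coeff_mkGA, zf] at hg
    split_ifs at hg with h
    swap
    · exact absurd rfl hg
    set y := h.choose * g * h.choose⁻¹ with hy
    have hly : lam M χ (classSumZ (kres M) y) ≠ 0 := by
      have e : classSumZ (kres M) y = classSumZ (kres M) g :=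
        Subtype.ext (classSum_eq_of_isConj (isConj_iff.2 ⟨h.choose, rfl⟩ : IsConj g y)).symm
      rwa [e]
    obtain ⟨hyC, hS⟩ := hTsupp y h.choose_spec
    have hPy : P ≤ Subgroup.centralizer ({y} : Set G) := fun q hq => by
      rw [Subgroup.mem_centralizer_singleton_iff]
      exact Subgroup.mem_centralizer_iff.1 hyC q hq
    obtain ⟨S, hPS⟩ := exists_sylow_cenSub_ge hP hPy
    have hSP := hS _ (isPGroup_cenSub y S) hPS (cenSub_le y _)
    obtain ⟨g₀, hg₀, S₀, hD₀⟩ := id hD
    obtain ⟨x, hx⟩ := exists_defect_le_conj hM hmax.1.2.1 hg₀ S₀ hχ hly S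
    rw [hSP] at hx
    change D = cenSub g₀ _ at hD₀
    rw [← hD₀] at hx
    obtain ⟨x', hx'⟩ := exists_le_conj_defectGroup hM hmax.1 hD
    have hc1 := Subgroup.card_le_of_le hx'
    rw [natCard_map_conj] at hc1
    have hDP : D = P.map (MulAut.conj x).toMonoidHom :=
      Subgroup.eq_of_le_of_card_ge hx (by rw [natCard_map_conj]; exact hc1)
    have := defectGroup_conj hM hmax.1.2.1 hD x⁻¹
    rwa [hDP, map_conj_map_conj, inv_mul_cancel, map_conj_one] at this
  · obtain ⟨η, hη⟩ := isPBlock_nonempty he'.1.2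
    have hne : pairVal P η T ≠ 0 := by
      rw [← hzT, pairVal_eq_lam hM he' hη hχ z]
      exact hlam
    obtain ⟨x, hx, he⟩ := hTblock e' he'.1.2 η hη hne
    refine ⟨x, hx, pairIdx_ext hM ?_ (isBrauerPair_conj hM hmax.1.1 x).2 he'.1.2 ?_⟩
    · ext q
      rw [mem_map_conj_iff]
      exact (Subgroup.mem_normalizer_iff''.1 hx q).symm
    · ext g
      rw [coeff_sIdem_conjBlock hM, he]

/-- A pair whose subgroup has the order of a defect group is maximal. -/
theorem isMaximal_of_card {B : Set (IrrCharacter G)} {P : Subgroup G}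
    {e : Set (IrrCharacter (cen P))} (h : IsBrauerPairOf p M B P e) {D : Subgroup G}
    (hD : IsDefectGroup p M B D) (hcard : Nat.card D ≤ Nat.card P) :
    IsMaximalBrauerPair p M B P e := by
  refine ⟨h, fun R g hR hle => ?_⟩
  obtain ⟨x, hx⟩ := exists_le_conj_defectGroup hM hR hD
  have h1 := Subgroup.card_le_of_le hx
  rw [natCard_map_conj] at h1
  exact (Subgroup.eq_of_le_of_card_ge (subpairLE_le hle) (h1.trans hcard)).symm

/-- Every pair lies below a maximal one. -/
theorem exists_maximal_ge {B : Set (IrrCharacter G)} : ∀ (n : ℕ) (Q : Subgroup G)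
    (f : Set (IrrCharacter (cen Q))), IsBrauerPairOf p M B Q f → Nat.card G - Nat.card Q = n →
      ∃ (P : Subgroup G) (e : Set (IrrCharacter (cen P))),
        IsMaximalBrauerPair p M B P e ∧ SubpairLE p M Q f P e := by
  intro n
  induction n using Nat.strong_induction_on with
  | _ n ih =>
    intro Q f hf hn
    by_cases hmax : IsMaximalBrauerPair p M B Q f
    · exact ⟨Q, f, hmax, Relation.ReflTransGen.refl⟩
    · simp only [IsMaximalBrauerPair, hf, true_and, not_forall] at hmax
      obtain ⟨R, g, hg, hle, hne⟩ := hmax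
      have hQR := subpairLE_le hle
      have h1 : Nat.card Q < Nat.card R :=
        lt_of_le_of_ne (Subgroup.card_le_of_le hQR)
          fun h => hne (Subgroup.eq_of_le_of_card_ge hQR h.ge).symm
      have h2 := Subgroup.card_le_card_group R
      obtain ⟨P, e, hP, hle'⟩ := ih _ (by omega) R g hg rfl
      exact ⟨P, e, hP, Relation.ReflTransGen.trans hle hle'⟩

theorem conjIdx_comp {Q : Subgroup G} {f : Set (IrrCharacter (cen Q))} (hf : IsPBlock M f)
    (x y : G) :
    (⟨(Q.map (MulAut.conj x).toMonoidHom).map (MulAut.conj y).toMonoidHom,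
      conjBlock _ y (conjBlock Q x f)⟩ : BrauerPairIdx G) =
      ⟨Q.map (MulAut.conj (y * x)).toMonoidHom, conjBlock Q (y * x) f⟩ := by
  have h1 : IsPBlock M (conjBlock Q x f) := conjBlock_eq_blockMap Q x f ▸ isPBlock_blockMap _ hf
  refine pairIdx_ext hM (map_conj_map_conj Q x y)
    (conjBlock_eq_blockMap _ y (conjBlock Q x f) ▸ isPBlock_blockMap _ h1)
    (conjBlock_eq_blockMap Q (y * x) f ▸ isPBlock_blockMap _ hf) ?_
  ext g
  rw [coeff_sIdem_conjBlock hM, coeff_sIdem_conjBlock hM, coeff_sIdem_conjBlock hM]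
  congr 1
  group

/-- **Every pair is conjugate to one below a given maximal pair.** -/
theorem exists_conj_le_maximal {B : Set (IrrCharacter G)} {P Q : Subgroup G}
    {e : Set (IrrCharacter (cen P))} {f : Set (IrrCharacter (cen Q))}
    (hmax : IsMaximalBrauerPair p M B P e) (hQf : IsBrauerPairOf p M B Q f) :
    ∃ x : G, SubpairLE p M (Q.map (MulAut.conj x).toMonoidHom) (conjBlock Q x f) P e := by
  obtain ⟨R, g, hR, hle⟩ := exists_maximal_ge hM _ Q f hQf rfl
  obtain ⟨x, hx⟩ := defectGroup_exists_conj hM hmax.1.2.1 (maximal_core hM hR).1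
    (maximal_core hM hmax).1
  subst hx
  obtain ⟨n, -, hne⟩ := (maximal_core hM hmax).2 _ (isBrauerPairOf_conj hM hR.1 x)
  have h1 := subpairLE_conj hM (subpairLE_conj hM hle x) n⁻¹
  refine ⟨n⁻¹ * x, ?_⟩
  have e1 := conjIdx_comp hM hQf.1.2 x n⁻¹
  have h3 : (⟨(R.map (MulAut.conj x).toMonoidHom).map (MulAut.conj n⁻¹).toMonoidHom,
      conjBlock _ n⁻¹ (conjBlock R x g)⟩ : BrauerPairIdx G) = ⟨_, e⟩ := by
    have h4 := congrArg (fun a : BrauerPairIdx G =>
      (⟨a.1.map (MulAut.conj n⁻¹).toMonoidHom, conjBlock a.1 n⁻¹ a.2⟩ : BrauerPairIdx G)) hne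
    simp only at h4
    rw [← h4, conjIdx_comp hM hmax.1.1.2 n n⁻¹]
    refine pairIdx_ext hM ?_ (conjBlock_eq_blockMap (R.map (MulAut.conj x).toMonoidHom) _ e ▸
      isPBlock_blockMap _ hmax.1.1.2) hmax.1.1.2 ?_
    · rw [inv_mul_cancel, map_conj_one]
    · ext t
      rw [coeff_sIdem_conjBlock hM]
      congr 1
      group
  unfold SubpairLE at h1 ⊢
  rw [← e1, ← h3]
  exact h1

/-- The defect groups of the principal block are the Sylow subgroups. -/
theorem isDefectGroup_principal_iff [Fact p.Prime] (D : Subgroup G) :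
    IsDefectGroup p M (principalBlock M G) D ↔ ∃ S : Sylow p G, (S : Subgroup G) = D := by
  have := Fintype.ofFinite G
  have hB : IsPBlock M (principalBlock M G) := isPBlock_principalBlock
  have hd : blockDefect p (principalBlock M G) = (Nat.card G).factorization p := by
    have h0 : sInf ((fun χ : IrrCharacter G => (charDegree (χ : G → ℂ)).factorization p) ''
        principalBlock M G) = 0 := by
      refine Nat.le_zero.1 (Nat.sInf_le ⟨trivIrr, one_mem_principalBlock, ?_⟩)
      simp [trivIrr, charDegree]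
    rw [blockDefect, h0, Nat.sub_zero]
  have hsyl : ∀ D : Subgroup G, IsDefectGroup p M (principalBlock M G) D →
      Nat.card D = p ^ (Nat.card G).factorization p := fun D hD => by
    rw [natCard_defectGroup hM hB hD, hd]
  constructor
  · intro hD
    obtain ⟨S, hS⟩ := (isPGroup_defectGroup hM hB hD).exists_le_sylow
    refine ⟨S, (Subgroup.eq_of_le_of_card_ge hS (le_of_eq ?_)).symm⟩
    rw [hsyl D hD, Sylow.card_eq_multiplicity]
  · rintro ⟨S, rfl⟩
    obtain ⟨D, hD⟩ := exists_isDefectGroup hM hB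
    obtain ⟨S', hS'⟩ := (isPGroup_defectGroup hM hB hD).exists_le_sylow
    have hDS : D = S' := Subgroup.eq_of_le_of_card_ge hS' (le_of_eq (by
      rw [hsyl D hD, Sylow.card_eq_multiplicity]))
    obtain ⟨g, hg⟩ := MulAction.exists_smul_eq G S' S
    have h2 := defectGroup_conj hM hB hD g
    rw [hDS] at h2
    convert h2 using 1
    rw [← hg]
    ext t
    rw [Sylow.coe_subgroup_smul, mem_map_conj_iff]
    simp [Subgroup.mem_smul_pointwise_iff_exists, MulAut.smul_def]
    constructor
    · rintro ⟨s, hs, rfl⟩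
      simpa [mul_assoc] using hs
    · exact fun h => ⟨_, h, by group⟩

theorem isMaximal_principal [Fact p.Prime] (S : Sylow p G) :
    IsMaximalBrauerPair p M (principalBlock M G) (S : Subgroup G)
      (principalBlock M (cen (S : Subgroup G))) :=
  isMaximal_of_card hM (isBrauerPairOf_principal hM S.2)
    ((isDefectGroup_principal_iff hM (S : Subgroup G)).2 ⟨S, rfl⟩) le_rfl

/-- **The third main theorem.** -/
theorem eq_principal_of_isBrauerPairOf [Fact p.Prime] {Q : Subgroup G}
    {e : Set (IrrCharacter (cen Q))} (h : IsBrauerPairOf p M (principalBlock M G) Q e) :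
    e = principalBlock M (cen Q) := by
  obtain ⟨R, g, hR, hle⟩ := exists_maximal_ge hM _ Q e h rfl
  obtain ⟨S, rfl⟩ := (isDefectGroup_principal_iff hM R).1 (maximal_core hM hR).1
  obtain ⟨x, -, hx⟩ := (maximal_core hM (isMaximal_principal hM S)).2 _ hR.1
  rw [conjBlock_principal hM] at hx
  have hg : g = principalBlock M (cen (S : Subgroup G)) := by
    have h1 := congrArg (fun a : BrauerPairIdx G => decide (a.2 = principalBlock M (cen a.1))) hx
    classical
    simpa using h1.symm
  subst hg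
  exact subpair_unique hM hR.1.1 _ Q rfl e _ hle
    (subpairLE_principal hM S.2 _ Q (subpairLE_le hle) rfl)

end CfsgLib.BlockA
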