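import Cfsg.Agent.Lib.BlockA.SubsectionCount
import Cfsg.Agent.Lib.BlockA.BrauerMax

/-! Norms of the generalised decomposition columns of one subsection. -/

set_option autoImplicit false
set_option linter.unusedSectionVars false
set_option maxHeartbeats 1000000

namespace CfsgLib.BlockA

open Cfsg CfsgLib.Block
open scoped ComplexConjugate

universe u

variable {G : Type u} [Group G] [Fintype G] {p : ℕ} {M : Ideal AlgInt} [M.IsPrime]

/-- A Brauer pair of a block induces it. -/
theorem isInducedBlock_of_isBrauerPairOf (hM : IsPModular p M) {B : Set (IrrCharacter G)}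
    {Q : Subgroup G} {e : Set (IrrCharacter (Subgroup.centralizer (Q : Set G)))}
    (h : IsBrauerPairOf p M B Q e) :
    IsInducedBlock M (Subgroup.centralizer (Q : Set G)) e B := by
  have := Fintype.ofFinite (Subgroup.centralizer (Q : Set G))
  obtain ⟨ξ, hξ⟩ := isPBlock_nonempty h.1.2
  obtain ⟨χ, hχ⟩ := isPBlock_nonempty h.2.1
  refine (isInducedBlock_iff _ h.1.2 h.2.1 hξ hχ).2 fun z => ?_
  rw [← pairVal_eq_lam hM h hξ hχ z,
    pairVal_eq ξ (isCInv_of_isClassCoeff (isClassCoeff_center z))]
  rfl

variable (hM : IsPModular p M) {x : G} (hx : ∃ k : ℕ, orderOf x = p ^ k)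
include hM hx

local notation "C" => Subgroup.centralizer (Singleton.singleton x : Set G)

open Classical in
/-- The norms at one regular element. -/
theorem sum_norm_section {B : Set (IrrCharacter G)} (hB : IsPBlock M B) {b : Set (IrrCharacter C)}
    (hb : IsInducedBlock M C b B) {y : C} (hy : ¬ p ∣ orderOf y) :
    ∑ χ ∈ B.toFinite.toFinset,
      blockPart b (fun c : C => (χ : G → ℂ) (x * (c : G))) y *
        blockPart b (fun c : C => (χ : G → ℂ) (x⁻¹ * (c : G))) y⁻¹ =
      ∑ φ ∈ b.toFinite.toFinset, (φ : C → ℂ) y * conj ((φ : C → ℂ) y) := by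
  have := Fintype.ofFinite (IrrCharacter G)
  have := Fintype.ofFinite (IrrCharacter C)
  let K : C → ℂ := fun z => ∑ᶠ ψ ∈ b, (ψ : C → ℂ) y * conj ((ψ : C → ℂ) z)
  have hK : ∀ z, conj (K z) = ∑ φ : IrrCharacter C,
      (if φ ∈ b then conj ((φ : C → ℂ) y) else 0) * (φ : C → ℂ) z := by
    intro z
    simp only [K, finsum_mem_eq_finite_toFinset_sum _ b.toFinite, map_sum, map_mul,
      Complex.conj_conj, ite_mul, zero_mul]
    rw [← Finset.sum_filter]
    exact Finset.sum_congr (by ext; simp) fun _ _ => rfl
  have hconj : ∀ χ : IrrCharacter G,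
      blockPart b (fun c : C => (χ : G → ℂ) (x⁻¹ * (c : G))) y⁻¹ =
        conj (blockPart b (fun c : C => (χ : G → ℂ) (x * (c : G))) y) := by
    intro χ
    rw [blockPart_eq_kernel, blockPart_eq_kernel, map_mul, map_inv₀, Complex.conj_natCast,
      map_sum]
    congr 1
    refine Fintype.sum_equiv (Equiv.inv C) _ _ fun z => ?_
    simp only [Equiv.inv_apply, map_mul, finsum_mem_eq_finite_toFinset_sum _ b.toFinite, map_sum,
      Complex.conj_conj, Finset.sum_mul]
    refine Finset.sum_congr rfl fun ψ _ => ?_
    rw [irr_conj_eq χ.2, irr_conj_eq ψ.2, irr_conj_eq ψ.2]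
    congr 2
    push_cast
    have hz : x * (z : G) = (z : G) * x := (Subgroup.mem_centralizer_singleton_iff.1 z.2).symm
    rw [mul_inv_rev, inv_inv]
    refine congrArg (χ : G → ℂ) ?_
    rw [eq_mul_inv_iff_mul_eq, mul_assoc, ← hz, inv_mul_cancel_left]
  have hzero : ∀ χ : IrrCharacter G, χ ∉ B →
      blockPart b (fun c : C => (χ : G → ℂ) (x * (c : G))) y = 0 := fun χ hχ =>
    blockPart_centralizer_eq_zero hM hx (isPBlock_blockOf χ) (mem_blockOf_self χ) hb.1
      (fun h => hχ (by rw [isInducedBlock_unique _ hb h]; exact mem_blockOf_self χ)) hy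
  calc ∑ χ ∈ B.toFinite.toFinset,
        blockPart b (fun c : C => (χ : G → ℂ) (x * (c : G))) y *
          blockPart b (fun c : C => (χ : G → ℂ) (x⁻¹ * (c : G))) y⁻¹
      = ∑ χ : IrrCharacter G, blockPart b (fun c : C => (χ : G → ℂ) (x * (c : G))) y *
          conj (blockPart b (fun c : C => (χ : G → ℂ) (x * (c : G))) y) := by
        simp only [hconj]
        refine Finset.sum_subset (Finset.subset_univ _) fun χ _ hχ => ?_
        rw [hzero χ (by simpa using hχ), zero_mul]
    _ = (Nat.card C : ℂ)⁻¹ * ∑ z : C, conj (K z) *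
          blockPart b (fun c : C => ∑ χ : IrrCharacter G,
            conj ((χ : G → ℂ) (x * (z : G))) * (χ : G → ℂ) (x * (c : G))) y := by
        conv_lhs =>
          enter [2, χ]
          rw [blockPart_eq_kernel b _ y, map_mul, map_sum, map_inv₀, Complex.conj_natCast]
          rw [← blockPart_eq_kernel b _ y]
        simp only [blockPart_sum_smul, Finset.mul_sum, map_mul]
        rw [Finset.sum_comm]
        refine Finset.sum_congr rfl fun z _ => Finset.sum_congr rfl fun χ _ => ?_
        ring
    _ = (Nat.card C : ℂ)⁻¹ * ∑ z : C, conj (K z) * K z := by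
        congr 1
        refine Finset.sum_congr rfl fun z _ => ?_
        by_cases hz : p ∣ orderOf z
        · have h0 : K z = 0 := sum_block_eq_zero_of_regular_singular hM hb.1 hy hz
          rw [h0, map_zero, zero_mul, zero_mul]
        · congr 1
          rw [blockPart_congr_regular hM hb.1 (f' := fun c : C => ∑ φ : IrrCharacter C,
            conj ((φ : C → ℂ) z) * (φ : C → ℂ) c) (fun c hc => ?_) hy, blockPart_sum_smul]
          · simp only [blockPart_irr, mul_ite, mul_zero, K,
              finsum_mem_eq_finite_toFinset_sum _ b.toFinite]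
            rw [← Finset.sum_filter]
            exact Finset.sum_congr (by ext; simp) fun φ _ => mul_comm _ _
          · simpa only [mul_comm] using column_section hM hx hz hc
    _ = blockPart b (fun z : C => conj (K z)) y := by
        rw [blockPart_eq_kernel]
        congr 1
        exact Finset.sum_congr rfl fun z _ => mul_comm _ _
    _ = _ := by
        simp only [hK]
        rw [blockPart_sum_smul]
        simp only [blockPart_irr, ite_mul, zero_mul, mul_ite, mul_zero]
        rw [Finset.sum_congr rfl (g := fun φ : IrrCharacter C =>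
          if φ ∈ b then conj ((φ : C → ℂ) y) * (φ : C → ℂ) y else 0) (fun φ _ => by
            split_ifs <;> rfl), ← Finset.sum_filter]
        exact Finset.sum_congr (by ext; simp) fun φ _ => mul_comm _ _

/-- **Norms of a subsection column.** -/
theorem sum_norm_subsection {B : Set (IrrCharacter G)} (hB : IsPBlock M B)
    {b : Set (IrrCharacter C)} (hb : IsInducedBlock M C b B) :
    ∑ᶠ χ ∈ B, ∑ᶠ s : C, pRegularPart p (blockPart b (fun c : C => (χ : G → ℂ) (x * (c : G)))) s *
        blockPart b (fun c : C => (χ : G → ℂ) (x⁻¹ * (c : G))) s⁻¹ =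
      (Nat.card C : ℂ) * (blockRank p b : ℂ) := by
  classical
  rw [finsum_mem_eq_finite_toFinset_sum _ B.toFinite,
    CfsgLib.BlockB.blockRank_eq_sum hM hb.1]
  simp only [finsum_eq_sum_of_fintype, CfsgLib.BlockB.pRegularPart_eq_regInd_mul]
  rw [Finset.sum_comm, Finset.mul_sum]
  have e : ∀ φ : IrrCharacter C, (Nat.card C : ℂ) *
      classInner (fun z => regInd p z * (φ : C → ℂ) z) (φ : C → ℂ) =
        ∑ z : C, regInd p z * ((φ : C → ℂ) z * conj ((φ : C → ℂ) z)) := by
    intro φ
    rw [CfsgLib.Char.classInner_def, ← mul_assoc, mul_inv_cancel₀ CfsgLib.Char.natCard_ne_zero,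
      one_mul]
    exact Finset.sum_congr (by ext; simp) fun z _ => mul_assoc _ _ _
  simp only [e]
  rw [Finset.sum_comm (γ := IrrCharacter C)]
  refine Finset.sum_congr rfl fun z _ => ?_
  by_cases hz : p ∣ orderOf z
  · simp [regInd, hz]
  · simp only [regInd, if_neg hz, one_mul]
    exact sum_norm_section hM hx hB hb hz

end CfsgLib.BlockA
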