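import Cfsg.Agent.Lib.BlockA.BrauerMax
import Cfsg.Agent.Lib.Block.Covering
import Cfsg.Agent.Lib.Block.FirstMain
import Cfsg.Prelude.Def_BlockLocal

/-! Blocks whose idempotents are supported on a normal subgroup: they are orbit sums of blocks of
that subgroup; defect groups over a stable block. -/

set_option autoImplicit false
set_option linter.unusedSectionVars false
set_option maxHeartbeats 1000000

namespace CfsgLib.BlockA

open Cfsg CfsgLib.Block MonoidAlgebra

universe u

variable {G : Type u} [Group G] [Fintype G] {p : ℕ} {M : Ideal AlgInt} [M.IsPrime]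
  {N : Subgroup G} [hN : N.Normal] [Fintype N]

/-- All block idempotents are supported on `N` modulo `M`. -/
def IsBlockSupported (M : Ideal AlgInt) [M.IsPrime] (N : Subgroup G) : Prop :=
  ∀ B : Set (IrrCharacter G), IsPBlock M B → ∀ x,
    (blkIdem M B : MonoidAlgebra (kres M) G).coeff x ≠ 0 → x ∈ N

/-- The characters of `N` with a conjugate in `c`. -/
def coverSet (N : Subgroup G) [N.Normal] [Fintype N] (c : Set (IrrCharacter N)) : Set (IrrCharacter N) :=
  {θ | ∃ g : G, conjIrr N θ g ∈ c}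

theorem subset_coverSet (c : Set (IrrCharacter N)) : c ⊆ coverSet N c := fun θ hθ =>
  ⟨1, by rwa [conjIrr_one]⟩

theorem conjIrr_eq_irrMap (θ : IrrCharacter N) (g : G) :
    conjIrr N θ g = irrMap (conjEquiv N g) θ := rfl

theorem subgroupBlockCoeff_eq_coeff (H : Subgroup G) (e : Set (IrrCharacter H)) (g : G) :
    subgroupBlockCoeff H e g = (inclSub H (blockSum e)).coeff g := by
  by_cases hg : g ∈ H
  · rw [show g = ((⟨g, hg⟩ : H) : G) from rfl, coeff_inclSub_of_mem]
    simp [subgroupBlockCoeff, hg, blockSum]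
  · rw [coeff_inclSub_of_not_mem _ _ hg]
    simp [subgroupBlockCoeff, hg]

theorem stabilizesBlock_iff_conjIrr {c : Set (IrrCharacter N)} (hc : IsPBlock M c) (x : G) :
    StabilizesBlock N c x ↔ ∃ θ ∈ c, conjIrr N θ x⁻¹ ∈ c := by
  constructor
  · rintro ⟨-, h⟩
    obtain ⟨θ, hθ⟩ := isPBlock_nonempty hc
    obtain ⟨χ', hχ', hcj⟩ := h θ hθ
    refine ⟨θ, hθ, ?_⟩
    have e : conjIrr N θ x⁻¹ = χ' := Subtype.ext (funext fun n => by
      rw [conjIrr_apply]
      exact (hcj _ n (by simp [mul_assoc])).symm)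
    rwa [e]
  · rintro ⟨θ, hθ, h⟩
    refine ⟨by rw [Subgroup.normalizer_eq_top]; trivial, fun φ hφ => ⟨conjIrr N φ x⁻¹,
      mem_of_sameBlock hc h (sameBlock_conjIrr (sameBlock_of_mem hc hθ hφ) x⁻¹), fun k k' hk => ?_⟩⟩
    rw [conjIrr_apply]
    exact congrArg (φ : N → ℂ) (Subtype.ext (by simp [hk, mul_assoc]))

/-- For a block stable under all of `G`, the orbit is the block. -/
theorem coverSet_of_stable {c : Set (IrrCharacter N)} (hc : IsPBlock M c)
    (hst : ∀ x : G, StabilizesBlock N c x) : coverSet N c = c := by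
  refine Set.Subset.antisymm (fun θ hθ => ?_) (subset_coverSet c)
  obtain ⟨g, hg⟩ := hθ
  obtain ⟨φ, hφ, h⟩ := (stabilizesBlock_iff_conjIrr hc g).1 (hst g)
  have h2 := mem_of_sameBlock hc h (sameBlock_conjIrr (sameBlock_of_mem hc hφ hg) g⁻¹)
  rwa [conjIrr_conjIrr, mul_inv_cancel, conjIrr_one] at h2

theorem coverSet_union (c : Set (IrrCharacter N)) (hc : IsPBlock M c) :
    ∀ θ ∈ coverSet N c, ∀ φ : IrrCharacter N, SameBlock M (θ : N → ℂ) (φ : N → ℂ) →
      φ ∈ coverSet N c := fun _ hθ _ h => exists_conjIrr_mem_of_sameBlock hc hθ h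

variable (hM : IsPModular p M)
include hM

theorem memLocalRing_coverSet {c : Set (IrrCharacter N)} (hc : IsPBlock M c) (n : N) :
    MemLocalRing M (blockCoeff (coverSet N c) n) :=
  memLocalRing_blockCoeff_of_union hM (coverSet_union c hc) n

/-- **The block of `G` over an orbit of blocks of `N`.** -/
theorem exists_block_covering (hsupp : IsBlockSupported M N) {c : Set (IrrCharacter N)}
    (hc : IsPBlock M c) :
    ∃ B : Set (IrrCharacter G), IsPBlock M B ∧
      blockSum B = inclSub N (blockSum (coverSet N c)) := by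
  classical
  have hO : ∀ θ ∈ coverSet N c, ∀ g : G, conjIrr N θ g ∈ coverSet N c := covering_invariant c
  obtain ⟨θ₀, hθ₀⟩ := isPBlock_nonempty hc
  obtain ⟨χ₀, hχ₀⟩ := exists_over_constituent (G := G) θ₀
  refine ⟨blockOf M (χ₀ : G → ℂ), isPBlock_blockOf χ₀, ?_⟩
  refine eq_of_omegaC_eq (blockSum_isClassCoeff _) (inclSub_blockSum_isClassCoeff hO) fun ψ => ?_
  obtain ⟨η, hη⟩ := exists_constituent_res (N := N) ψ
  rw [omegaC_blockSum, omegaC_inclSub_blockSum hO hη]
  refine if_congr ⟨fun h => ?_, fun h => ?_⟩ rfl rfl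
  · exact (mem_iff_mem_of_sameBlock hO (memLocalRing_coverSet hM hc) h hχ₀ hη).1
      (subset_coverSet c hθ₀)
  · set B := blockOf M (χ₀ : G → ℂ) with hBdef
    have hB : IsPBlock M B := isPBlock_blockOf χ₀
    have hs : ∀ x ∉ N, (blkIdem M B : MonoidAlgebra (kres M) G).coeff x = 0 := fun x hx => by
      by_contra h'
      exact hx (hsupp B hB x h')
    obtain ⟨g, hg⟩ := h
    have h1 : classInner (fun n : N => (ψ : G → ℂ) n) (conjIrr N η g : N → ℂ) ≠ 0 := by
      rwa [classInner_res_conjIrr]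
    have h2 : lam M ψ (blkIdem M B) = 1 := by
      rw [lam_eq_lam_resZ h1 _ hs, lam_eq_of_sameBlock (sameBlock_of_mem hc hg hθ₀),
        ← lam_eq_lam_resZ hχ₀ _ hs, (algHom_blkIdem_eq_one_iff hM hB χ₀).2 (mem_blockOf_self χ₀)]
    exact (algHom_blkIdem_eq_one_iff hM hB ψ).1 h2

theorem mem_iff_constituent {B : Set (IrrCharacter G)} {c : Set (IrrCharacter N)}
    (hBc : blockSum B = inclSub N (blockSum (coverSet N c))) {χ : IrrCharacter G}
    {θ : IrrCharacter N} (hθ : classInner (fun n : N => (χ : G → ℂ) n) (θ : N → ℂ) ≠ 0) :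
    χ ∈ B ↔ θ ∈ coverSet N c := by
  classical
  have h := omegaC_inclSub_blockSum (O := coverSet N c) (covering_invariant c) hθ
  rw [← hBc, omegaC_blockSum] at h
  by_cases h1 : χ ∈ B <;> by_cases h2 : θ ∈ coverSet N c <;> simp_all

/-- Every block is the orbit sum of a block of `N`. -/
theorem exists_covered_block (hsupp : IsBlockSupported M N) {B : Set (IrrCharacter G)}
    (hB : IsPBlock M B) : ∃ c : Set (IrrCharacter N), IsPBlock M c ∧
      blockSum B = inclSub N (blockSum (coverSet N c)) := by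
  obtain ⟨χ, hχ⟩ := isPBlock_nonempty hB
  obtain ⟨θ, hθ⟩ := exists_constituent_res (N := N) χ
  obtain ⟨B', hB', hB'c⟩ := exists_block_covering hM hsupp (isPBlock_blockOf θ)
  refine ⟨blockOf M (θ : N → ℂ), isPBlock_blockOf θ, ?_⟩
  rwa [isPBlock_eq_of_mem hB hB' hχ
    ((mem_iff_constituent hM hB'c hθ).2 (subset_coverSet _ (mem_blockOf_self θ)))]

/-- Exact support. -/
theorem blockCoeff_eq_zero_of_supported (hsupp : IsBlockSupported M N) {B : Set (IrrCharacter G)}
    (hB : IsPBlock M B) {g : G} (hg : g ∉ N) : blockCoeff B g = 0 := by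
  obtain ⟨c, -, hc⟩ := exists_covered_block hM hsupp hB
  have := congrArg (fun a : MonoidAlgebra ℂ G => a.coeff g) hc
  simpa [blockSum, coeff_inclSub_of_not_mem _ _ hg] using this

theorem isBlockSupported_centralizer {P : Subgroup G} [P.Normal] (hP : IsPGroup p P) :
    IsBlockSupported M (Subgroup.centralizer (P : Set G)) := fun _ hB _ hx =>
  mem_centralizer_of_coeff_blkIdem_ne_zero hM hP hB hx

theorem isBlockSupported_of_index (hidx : ∃ k : ℕ, N.index = p ^ k) : IsBlockSupported M N :=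
  fun _ hB _ hx => mem_of_regular_of_index hM hidx fun h =>
    hx (blkIdem_coeff_eq_zero_of_singular hM hB h)

omit hM in
/-- The orbit sum as an average over `G`. -/
theorem coeff_coverSet_eq_average {c : Set (IrrCharacter N)} (hc : IsPBlock M c)
    (T : Subgroup G) (hT : ∀ x : G, x ∈ T ↔ StabilizesBlock N c x) (g : G) :
    (inclSub N (blockSum (coverSet N c))).coeff g =
      (Nat.card T : ℂ)⁻¹ * ∑ x : G, subgroupBlockCoeff N c (x⁻¹ * g * x) := by
  classical
  have := Fintype.ofFinite (IrrCharacter N)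
  by_cases hg : g ∈ N
  swap
  · have hz : ∀ x : G, subgroupBlockCoeff N c (x⁻¹ * g * x) = 0 := fun x => by
      have hx : x⁻¹ * g * x ∉ N := fun h => hg (by simpa [mul_assoc] using hN.conj_mem _ h x)
      simp [subgroupBlockCoeff, hx]
    simp [hz, coeff_inclSub_of_not_mem _ _ hg]
  obtain ⟨n, rfl⟩ : ∃ n : N, (n : G) = g := ⟨⟨g, hg⟩, rfl⟩
  have h1 : ∀ x : G, subgroupBlockCoeff N c (x⁻¹ * n * x) =
      ∑ η : IrrCharacter N, if conjIrr N η x ∈ c then (idemC (η : N → ℂ)).coeff n else 0 := by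
    intro x
    have hm : x⁻¹ * (n : G) * x ∈ N := by simpa using hN.conj_mem _ n.2 x⁻¹
    rw [subgroupBlockCoeff, dif_pos hm, blockCoeff_eq_sum]
    symm
    refine Fintype.sum_equiv ⟨fun η => conjIrr N η x, fun η => conjIrr N η x⁻¹,
      fun η => by simp [conjIrr_conjIrr, conjIrr_one],
      fun η => by simp [conjIrr_conjIrr, conjIrr_one]⟩ _ _ fun η => ?_
    simp only [Equiv.coe_fn_mk]
    split_ifs
    · simp only [idemC, coeff_mkGA, conjIrr_apply]
      rw [show (⟨x * ((1 : N) : G) * x⁻¹, hN.conj_mem _ (1 : N).2 x⟩ : N) = 1 from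
        Subtype.ext (by simp)]
      congr 3
      refine congrArg (η : N → ℂ) (Subtype.ext ?_)
      simp [mul_assoc]
    · rfl
  have hcount : ∀ η : IrrCharacter N, (Finset.univ.filter fun x : G => conjIrr N η x ∈ c).card =
      if η ∈ coverSet N c then Nat.card T else 0 := by
    intro η
    by_cases hη : η ∈ coverSet N c
    · rw [if_pos hη]
      obtain ⟨x₀, hx₀⟩ := hη
      rw [Nat.card_eq_fintype_card, ← Fintype.card_coe]
      refine Fintype.card_congr
        { toFun := fun x => ⟨(x₀⁻¹ * x.1)⁻¹, (hT _).2 ((stabilizesBlock_iff_conjIrr hc _).2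
            ⟨_, hx₀, ?_⟩)⟩
          invFun := fun t => ⟨x₀ * (t : G)⁻¹, ?_⟩
          left_inv := fun x => Subtype.ext (by simp)
          right_inv := fun t => Subtype.ext (by simp) }
      · have h := (Finset.mem_filter.1 x.2).2
        rw [inv_inv, conjIrr_conjIrr, mul_inv_cancel_left]
        exact h
      · refine Finset.mem_filter.2 ⟨Finset.mem_univ _, ?_⟩
        obtain ⟨θ, hθ, hθ'⟩ := (stabilizesBlock_iff_conjIrr hc _).1 ((hT _).1 t.2)
        have := mem_of_sameBlock hc hθ' (sameBlock_conjIrr (sameBlock_of_mem hc hθ hx₀) (t : G)⁻¹)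
        rwa [conjIrr_conjIrr] at this
    · rw [if_neg hη, Finset.card_eq_zero]
      exact Finset.filter_eq_empty_iff.2 fun x _ h => hη ⟨x, h⟩
  rw [coeff_inclSub_of_mem]
  simp only [h1]
  rw [Finset.sum_comm, show (blockSum (coverSet N c)).coeff n = blockCoeff (coverSet N c) n by
    simp [blockSum], blockCoeff_eq_sum, Finset.mul_sum]
  refine Finset.sum_congr rfl fun η _ => ?_
  rw [← Finset.sum_filter, Finset.sum_const, hcount]
  have : (Nat.card T : ℂ) ≠ 0 := by exact_mod_cast Nat.card_pos.ne'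
  split_ifs <;> simp [← mul_assoc, this]

/-- **Defect groups over a stable block.** -/
theorem stable_defect {c : Set (IrrCharacter N)} (hc : IsPBlock M c)
    (hst : ∀ x : G, StabilizesBlock N c x) {B : Set (IrrCharacter G)} (hB : IsPBlock M B)
    (hBc : blockSum B = inclSub N (blockSum c)) {D : Subgroup G} (hD : IsDefectGroup p M B D) :
    ¬ p ∣ (N ⊔ D).index ∧ IsDefectGroup p M c ((D ⊓ N).subgroupOf N) := by
  classical
  have := Fact.mk hM.1
  have := charP_kres hM
  obtain ⟨g, hg, hS⟩ := hD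
  set C := Subgroup.centralizer ({g} : Set G) with hC
  obtain ⟨S, hD⟩ := hS
  change D = cenSub g (S : Subgroup C) at hD
  obtain ⟨θ, hθc⟩ := isPBlock_nonempty hc
  obtain ⟨χ, hθ⟩ := exists_over_constituent (G := G) θ
  have hχB : χ ∈ B := by
    refine (mem_iff_constituent hM (c := c) ?_ hθ).2 (subset_coverSet c hθc)
    rw [coverSet_of_stable hc hst, hBc]
  obtain ⟨hg1, hg2⟩ := (isDefectClass_iff hM hB hχB g).1 hg
  have hgN : g ∈ N := by
    by_contra h
    refine hg1 ?_
    rw [coeff_blkIdem, show blockCoeff B g = (blockSum B).coeff g by simp [blockSum], hBc,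
      coeff_inclSub_of_not_mem _ _ h, redC_zero]
  have hzN : ∀ x ∉ N, (classSumZ (kres M) g : MonoidAlgebra (kres M) G).coeff x = 0 := by
    intro x hx
    show (classSum (kres M) g).coeff x = 0
    rw [coeff_classSum, if_neg]
    intro h
    obtain ⟨a, rfl⟩ := isConj_iff.1 h
    exact hx (hN.conj_mem g hgN a)
  rw [lam_eq_lam_resZ hθ _ hzN] at hg2
  -- the classes of `N` inside the class of `g`
  have := Fintype.ofFinite (G ⧸ (N ⊔ C))
  have hW : resZ N (classSumZ (kres M) g) = ∑ q : G ⧸ (N ⊔ C),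
      classSumZ (kres M) (conjEquiv N q.out ⟨g, hgN⟩) := by
    apply Subtype.ext
    ext n
    rw [coe_resZ, coeff_resSub, AddSubmonoidClass.coe_finsetSum, coeff_sum, Finsupp.finsetSum_apply]
    show (classSum (kres M) g).coeff n =
      ∑ q : G ⧸ (N ⊔ C), (classSum (kres M) (conjEquiv N q.out ⟨g, hgN⟩)).coeff n
    simp only [coeff_classSum]
    by_cases hn : IsConj g (n : G)
    · obtain ⟨x, hx⟩ := isConj_iff.1 hn
      rw [if_pos hn, Finset.sum_eq_single (QuotientGroup.mk x : G ⧸ (N ⊔ C))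
        (fun q _ hq => ?_) (fun h => absurd (Finset.mem_univ _) h), if_pos]
      · have hy := QuotientGroup.eq.1 (QuotientGroup.out_eq'
          (QuotientGroup.mk x : G ⧸ (N ⊔ C))).symm
        obtain ⟨m, hm, k, hk, hmk⟩ := Subgroup.mem_sup_of_normal_left.1 hy
        set o := (QuotientGroup.mk x : G ⧸ (N ⊔ C)).out with ho
        have ho' : o = x * (m * k) := by rw [hmk]; group
        refine isConj_iff.2 ⟨⟨x * m⁻¹ * x⁻¹, hN.conj_mem _ (N.inv_mem hm) x⟩, Subtype.ext ?_⟩
        have hkg : k * g = g * k := Subgroup.mem_centralizer_singleton_iff.1 hk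
        simp only [Subgroup.coe_mul, Subgroup.coe_inv]
        show x * m⁻¹ * x⁻¹ * (o * g * o⁻¹) * (x * m⁻¹ * x⁻¹)⁻¹ = n
        rw [ho', ← hx]
        calc x * m⁻¹ * x⁻¹ * (x * (m * k) * g * (x * (m * k))⁻¹) * (x * m⁻¹ * x⁻¹)⁻¹
            = x * (k * g) * k⁻¹ * x⁻¹ := by group
          _ = x * g * x⁻¹ := by rw [hkg]; group
      · rw [if_neg]
        intro hcj
        refine hq ?_
        obtain ⟨m, hm⟩ := isConj_iff.1 hcj
        have hm' : (m : G) * (q.out * g * q.out⁻¹) * (m : G)⁻¹ = n := congrArg Subtype.val hm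
        rw [← hx] at hm'
        rw [← QuotientGroup.out_eq' q]
        refine QuotientGroup.eq.2 ?_
        have hk : x⁻¹ * ((m : G) * q.out) ∈ C := by
          rw [Subgroup.mem_centralizer_singleton_iff]
          calc x⁻¹ * ((m : G) * q.out) * g
              = x⁻¹ * ((m : G) * (q.out * g * q.out⁻¹) * (m : G)⁻¹) * ((m : G) * q.out) := by group
            _ = x⁻¹ * (x * g * x⁻¹) * ((m : G) * q.out) := by rw [hm']
            _ = g * (x⁻¹ * ((m : G) * q.out)) := by group
        have h3 : (q.out⁻¹ * (m : G) * q.out) * (x⁻¹ * ((m : G) * q.out))⁻¹ ∈ N ⊔ C :=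
          mul_mem (Subgroup.mem_sup_left (by simpa using hN.conj_mem _ m.2 q.out⁻¹))
            (Subgroup.mem_sup_right (inv_mem hk))
        convert h3 using 1
        group
    · rw [if_neg hn]
      refine (Finset.sum_eq_zero fun q _ => if_neg fun h => hn ?_).symm
      obtain ⟨m, hm⟩ := isConj_iff.1 h
      refine isConj_iff.2 ⟨(m : G) * q.out, ?_⟩
      rw [← show (m : G) * (q.out * g * q.out⁻¹) * (m : G)⁻¹ = n from congrArg Subtype.val hm]
      group
  have hterm : ∀ q : G ⧸ (N ⊔ C), lam M θ (classSumZ (kres M) (conjEquiv N q.out ⟨g, hgN⟩)) =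
      lam M θ (classSumZ (kres M) ⟨g, hgN⟩) := by
    intro q
    rw [← lam_irrMap (conjEquiv N q.out) θ (classSumZ (kres M) ⟨g, hgN⟩)
      (classSumZ (kres M) (conjEquiv N q.out ⟨g, hgN⟩)) fun x => ?_]
    · refine DFunLike.congr_fun (lam_eq_of_sameBlock ?_) _
      have hmem : irrMap (conjEquiv N q.out) θ ∈ c := by
        have h : θ ∈ coverSet N c := subset_coverSet c hθc
        have h2 := covering_invariant c θ h q.out
        change conjIrr N θ q.out ∈ coverSet N c at h2
        rwa [coverSet_of_stable hc hst, conjIrr_eq_irrMap] at h2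
      exact sameBlock_of_mem hc hmem hθc
    · show (classSum (kres M) (⟨g, hgN⟩ : N)).coeff x =
        (classSum (kres M) (conjEquiv N q.out ⟨g, hgN⟩)).coeff (conjEquiv N q.out x)
      rw [coeff_classSum, coeff_classSum]
      exact if_congr ⟨fun h => (conjEquiv N q.out).toMonoidHom.map_isConj h, fun h => by
        simpa using (conjEquiv N q.out).symm.toMonoidHom.map_isConj h⟩ rfl rfl
  rw [hW, map_sum] at hg2
  simp only [hterm, Finset.sum_const, Finset.card_univ, nsmul_eq_mul] at hg2
  have hidx : ¬ p ∣ (N ⊔ C).index := by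
    intro h
    refine left_ne_zero_of_mul hg2 ?_
    rw [CharP.cast_eq_zero_iff (kres M) p, ← Nat.card_eq_fintype_card]
    exact h
  -- the Sylow subgroup
  have hDC : D ≤ C := hD ▸ cenSub_le g _
  have hDrel : ¬ p ∣ D.relIndex C := by
    have e : D.subgroupOf C = (S : Subgroup C) := by
      rw [hD]
      exact Subgroup.comap_map_eq_self_of_injective (Subgroup.subtype_injective _) _
    rw [Subgroup.relIndex, e]
    exact Sylow.not_dvd_index S
  refine ⟨?_, ?_⟩
  · have hle : N ⊔ D ≤ N ⊔ C := sup_le_sup_left hDC N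
    rw [← Subgroup.relIndex_mul_index hle]
    intro hdvd
    rcases (Nat.Prime.dvd_mul hM.1).1 hdvd with h | h
    · refine hDrel ?_
      have e1 : (N ⊔ D).relIndex (N ⊔ C) = (N ⊔ D).relIndex C := by
        have h2 : N ⊔ D = (D.map (QuotientGroup.mk' N)).comap (QuotientGroup.mk' N) := by
          rw [Subgroup.comap_map_eq, QuotientGroup.ker_mk', sup_comm]
        rw [h2, Subgroup.relIndex_comap, Subgroup.relIndex_comap, Subgroup.map_sup,
          (Subgroup.map_eq_bot_iff _).2 (le_of_eq (QuotientGroup.ker_mk' N).symm), bot_sup_eq]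
      rw [e1] at h
      exact h.trans (Subgroup.relIndex_dvd_of_le_left C le_sup_right)
    · exact hidx h
  · have hgc : IsDefectClass M c (⟨g, hgN⟩ : N) := by
      refine (isDefectClass_iff hM hc hθc _).2 ⟨?_, right_ne_zero_of_mul hg2⟩
      have e : blockCoeff c (⟨g, hgN⟩ : N) = blockCoeff B g := by
        rw [show blockCoeff B g = (blockSum B).coeff g by simp [blockSum], hBc]
        refine Eq.trans ?_ (coeff_inclSub_of_mem N _ (⟨g, hgN⟩ : N)).symm
        simp [blockSum]
      rw [coeff_blkIdem, e, ← coeff_blkIdem]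
      exact hg1
    have hle : (D ⊓ N).subgroupOf N ≤ Subgroup.centralizer ({(⟨g, hgN⟩ : N)} : Set N) := by
      intro y hy
      rw [Subgroup.mem_centralizer_singleton_iff]
      exact Subtype.ext (Subgroup.mem_centralizer_singleton_iff.1 (hDC hy.1))
    have hDp : IsPGroup p D := hD ▸ isPGroup_cenSub g S
    have hDN : IsPGroup p ((D ⊓ N).subgroupOf N) := (hDp.to_le inf_le_left).comap_subtype
    obtain ⟨S', hS'⟩ := exists_sylow_cenSub_ge hDN hle
    refine ⟨⟨g, hgN⟩, hgc, S', Subgroup.eq_of_le_of_card_ge hS' ?_⟩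
    set E := cenSub (⟨g, hgN⟩ : N) (S' : Subgroup (Subgroup.centralizer ({(⟨g, hgN⟩ : N)} : Set N)))
    have hEC : E.map N.subtype ≤ C := by
      rintro _ ⟨y, hy, rfl⟩
      rw [Subgroup.mem_centralizer_singleton_iff]
      exact congrArg Subtype.val (Subgroup.mem_centralizer_singleton_iff.1 (cenSub_le _ _ hy))
    obtain ⟨x, hx, hEx⟩ := le_conj_cenSub S ((isPGroup_cenSub _ S').map N.subtype) hEC
    have h4 : E.map N.subtype ≤ (D ⊓ N).map (MulAut.conj x).toMonoidHom := by
      intro y hy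
      have h5 := mem_map_conj_iff.1 (hEx hy)
      rw [← hD] at h5
      obtain ⟨y', -, rfl⟩ := hy
      exact mem_map_conj_iff.2 ⟨h5, by simpa using hN.conj_mem _ y'.2 x⁻¹⟩
    calc Nat.card E = Nat.card (E.map N.subtype) :=
          (Subgroup.card_map_of_injective (Subgroup.subtype_injective _)).symm
      _ ≤ Nat.card ((D ⊓ N).map (MulAut.conj x).toMonoidHom) := Subgroup.card_le_of_le h4
      _ = Nat.card ↥(D ⊓ N) := natCard_map_conj _ _
      _ = Nat.card ((D ⊓ N).subgroupOf N) :=
          (Nat.card_congr (Subgroup.subgroupOfEquivOfLe inf_le_right).toEquiv).symm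

end CfsgLib.BlockA
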