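import Cfsg.Agent.Lib.BlockA.PairSub
import Cfsg.Agent.Lib.BlockA.NormalBlock

/-! The block of the stabiliser of a Brauer pair: its defect groups and its pairs. -/

set_option autoImplicit false
set_option linter.unusedSectionVars false
set_option maxHeartbeats 1000000

namespace CfsgLib.BlockA

open Cfsg CfsgLib.Block MonoidAlgebra

universe u

variable {G : Type u} [Group G] [Finite G] {p : ℕ} {M : Ideal AlgInt} [M.IsPrime]

local notation "cen" Q => Subgroup.centralizer ((Q : Subgroup G) : Set G)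

/-- `F` is a block of `T` with the idempotent of the block `f` of the centralizer of `Q`. -/
def IsBlockOver (M : Ideal AlgInt) (T Q : Subgroup G) (f : Set (IrrCharacter (cen Q)))
    (F : Set (IrrCharacter T)) : Prop :=
  IsPBlock M F ∧ ∀ t : T, blockCoeff F t = subgroupBlockCoeff (cen Q) f (t : G)

theorem isBlockOver_cen {Q : Subgroup G} {f : Set (IrrCharacter (cen Q))} (hf : IsPBlock M f) :
    IsBlockOver M (cen Q) Q f f := by
  refine ⟨hf, fun t => ?_⟩
  rw [subgroupBlockCoeff, dif_pos t.2]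

theorem map_conj_centralizer (Q : Subgroup G) (x : G) :
    (cen Q).map (MulAut.conj x).toMonoidHom = cen (Q.map (MulAut.conj x).toMonoidHom) := by
  ext y
  rw [mem_map_conj_iff, Subgroup.mem_centralizer_iff, Subgroup.mem_centralizer_iff]
  constructor
  · intro h q hq
    have h1 := h (x⁻¹ * q * x) (mem_map_conj_iff.1 hq)
    calc q * y = x * ((x⁻¹ * q * x) * (x⁻¹ * y * x)) * x⁻¹ := by group
      _ = x * ((x⁻¹ * y * x) * (x⁻¹ * q * x)) * x⁻¹ := by rw [h1]
      _ = _ := by group
  · intro h q hq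
    have h1 := h (x * q * x⁻¹) (mem_map_conj_iff.2 (by simpa [mul_assoc] using hq))
    calc q * (x⁻¹ * y * x) = x⁻¹ * ((x * q * x⁻¹) * y) * x := by group
      _ = x⁻¹ * (y * (x * q * x⁻¹)) * x := by rw [h1]
      _ = _ := by group

/-- Conjugate subgroups are isomorphic. -/
def conjSubIso (T : Subgroup G) (x : G) : T.map (MulAut.conj x).toMonoidHom ≃* T where
  toFun c := ⟨x⁻¹ * c * x, mem_map_conj_iff.1 c.2⟩
  invFun c := ⟨x * c * x⁻¹, mem_map_conj_iff.2 (by simp [mul_assoc])⟩
  left_inv c := Subtype.ext (by simp [mul_assoc])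
  right_inv c := Subtype.ext (by simp [mul_assoc])
  map_mul' a b := Subtype.ext (by simp only [Subgroup.coe_mul]; group)

theorem blockDefect_blockMap {H K : Type u} [Group H] [Group K] [Finite H] [Finite K] (φ : H ≃* K)
    (B : Set (IrrCharacter K)) : blockDefect p (blockMap φ B) = blockDefect p B := by
  rw [blockDefect, blockDefect, Nat.card_congr φ.toEquiv, blockMap, Set.image_image]
  congr 3
  funext χ
  simp [charDegree, irrMap_apply]

variable (hM : IsPModular p M)
include hM

theorem coeff_blkIdem_over {T Q : Subgroup G} {f : Set (IrrCharacter (cen Q))}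
    {F : Set (IrrCharacter T)} (hF : IsBlockOver M T Q f F) (t : T) :
    (blkIdem M F : MonoidAlgebra (kres M) T).coeff t = (sIdem M (cen Q) f).coeff (t : G) := by
  rw [coeff_blkIdem, hF.2 t, ← mkGA_subgroupBlockCoeff hM, coeff_mkGA]

theorem isBlockOver_unique {T Q : Subgroup G} {f : Set (IrrCharacter (cen Q))}
    {F F' : Set (IrrCharacter T)} (hF : IsBlockOver M T Q f F) (hF' : IsBlockOver M T Q f F') :
    F = F' := by
  refine blkIdem_injective hM hF.1 hF'.1 (Subtype.ext ?_)
  ext t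
  rw [coeff_blkIdem_over hM hF, coeff_blkIdem_over hM hF']

/-- A stabiliser is `pairStab`. -/
theorem eq_pairStab {Q T : Subgroup G} {f : Set (IrrCharacter (cen Q))} (hf : IsPBlock M f)
    (hT : ∀ y : G, y ∈ T ↔ y ∈ Subgroup.normalizer (Q : Set G) ∧ StabilizesBlock (cen Q) f y) :
    T = pairStab M Q f := by
  ext y
  rw [hT]
  exact ⟨fun h => ⟨h.1, (stabilizesBlock_iff_coeff hM hf h.1).1 h.2⟩,
    fun h => ⟨h.1, (stabilizesBlock_iff_coeff hM hf h.1).2 h.2⟩⟩

theorem stabilizesBlock_of_mem {Q : Subgroup G} {f : Set (IrrCharacter (cen Q))}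
    (hf : IsPBlock M f) {y : G} (hy : y ∈ pairStab M Q f) : StabilizesBlock (cen Q) f y :=
  (stabilizesBlock_iff_coeff hM hf hy.1).2 hy.2

/-- **The block of the stabiliser.** -/
theorem exists_isBlockOver {Q T : Subgroup G} {f : Set (IrrCharacter (cen Q))}
    (hf : IsBrauerPair p M Q f) (hQT : Q ≤ T) (hC : (cen Q) ≤ T) (hT : T ≤ pairStab M Q f) :
    ∃ F : Set (IrrCharacter T), IsBlockOver M T Q f F := by
  classical
  have := Fintype.ofFinite T
  have hTN : T ≤ Subgroup.normalizer (Q : Set G) := hT.trans (pairStab_le Q f)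
  have hn : (Q.subgroupOf T).Normal := subgroupOf_normal_of_le_normalizer hQT hTN
  have := Fintype.ofFinite (Subgroup.centralizer ((Q.subgroupOf T : Subgroup T) : Set T))
  have h := cenEq_subgroupOf hQT hC
  have hc : IsPBlock M (subBlock h f) := isPBlock_subBlock h hf.2
  obtain ⟨F, hF, hFc⟩ := exists_block_covering hM
    (isBlockSupported_centralizer (P := Q.subgroupOf T) hM hf.1.comap_subtype) hc
  rw [coverSet_of_stable hc fun t => (stabilizesBlock_subBlock hM hQT h hf.2 t (hTN t.2)).2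
    (stabilizesBlock_of_mem hM hf.2 (hT t.2))] at hFc
  refine ⟨F, hF, fun t => ?_⟩
  rw [show blockCoeff F t = (blockSum F).coeff t by simp [blockSum], hFc]
  by_cases ht : t ∈ Subgroup.centralizer ((Q.subgroupOf T : Subgroup T) : Set T)
  · have ht' : (t : G) ∈ cen Q := ((cenEq_iff _ Q).1 h).2 t |>.1 ht
    rw [show t = ((⟨t, ht⟩ : Subgroup.centralizer ((Q.subgroupOf T : Subgroup T) : Set T)) : T)
      from rfl, coeff_inclSub_of_mem, subgroupBlockCoeff, dif_pos ht']
    simp only [blockSum, coeff_mkGA, subBlock, blockCoeff_blockMap]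
    rfl
  · have ht' : (t : G) ∉ cen Q := fun hh => ht (((cenEq_iff _ Q).1 h).2 t |>.2 hh)
    rw [coeff_inclSub_of_not_mem _ _ ht, subgroupBlockCoeff, dif_neg ht']

/-- A nonzero coefficient gives a normal subpair on top. -/
theorem exists_normalSubpair_of_coeff {Q X : Subgroup G} {f : Set (IrrCharacter (cen Q))}
    (hf : IsBrauerPair p M Q f) (hX : IsPGroup p X) (hQX : Q ≤ X) (hXs : X ≤ pairStab M Q f)
    {c : G} (hc : c ∈ cen X) (hne : (sIdem M (cen Q) f).coeff c ≠ 0) :
    ∃ g, IsNormalSubpair p M Q f X g := by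
  have hEinv : IsPInv X (sIdem M (cen Q) f) := isPInv_mono hXs (isPInv_sIdem_pairStab Q f)
  have hEC := isCInv_sIdem hM hQX f
  set e' : Subalgebra.center (kres M) (MonoidAlgebra (kres M) (cen X)) :=
    ⟨resSub (cen X) (sIdem M (cen Q) f), isClassCoeff_iff_mem_center.1 hEC⟩ with he'
  have hid : e' * e' = e' := by
    apply Subtype.ext
    rw [MulMemClass.coe_mul, he']
    show resSub (cen X) _ * resSub (cen X) _ = resSub (cen X) _
    rw [← resSub_mul hM hX hEinv hEinv, sIdem_idem hM hf.2]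
  have hne' : e' ≠ 0 := by
    intro h0
    refine hne ?_
    have := congrArg (fun t : Subalgebra.center (kres M) (MonoidAlgebra (kres M) (cen X)) =>
      (t : MonoidAlgebra (kres M) (cen X)).coeff ⟨c, hc⟩) h0
    simpa [he'] using this
  obtain ⟨η, hη⟩ := exists_lam_eq_one_of_idem hM hid hne'
  refine ⟨blockOf M (η : (cen X) → ℂ), (isNormalSubpair_iff hM (mem_blockOf_self η)
    ⟨hX, isPBlock_blockOf η⟩ hf).2 ⟨hQX, hXs.trans (pairStab_le Q f),
      fun x hx => stabilizesBlock_of_mem hM hf.2 (hXs hx), ?_⟩⟩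
  rw [pairVal_eq η hEC]
  exact hη

/-- Subgroups of defect groups carry pairs above `(Q, f)`. -/
theorem exists_pair_of_le_defect {Q T R : Subgroup G} {f : Set (IrrCharacter (cen Q))}
    {F : Set (IrrCharacter T)} (hF : IsBlockOver M T Q f F) (hf : IsBrauerPair p M Q f)
    (hT : T ≤ pairStab M Q f) (hR : R ≤ T) {D : Subgroup T} (hD : IsDefectGroup p M F D)
    (hRD : R.subgroupOf T ≤ D) : ∃ g, IsNormalSubpair p M Q f (Q ⊔ R) g := by
  have hRp : IsPGroup p R :=
    ((isPGroup_defectGroup hM hF.1 hD).to_le hRD).of_equiv (Subgroup.subgroupOfEquivOfLe hR)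
  obtain ⟨c, hc, hne⟩ := (exists_le_conj_iff_coeff hM hF.1 hD
    ((isPGroup_defectGroup hM hF.1 hD).to_le hRD)).2 ⟨1, by rwa [map_conj_one]⟩
  rw [coeff_blkIdem_over hM hF] at hne
  have hcC : (c : G) ∈ cen Q := by
    by_contra h
    exact hne (coeff_inclSub_of_not_mem _ _ h)
  refine exists_normalSubpair_of_coeff hM hf ?_ le_sup_left
    (sup_le (le_pairStab Q f) (hR.trans hT)) ?_ hne
  · exact hf.1.to_sup_of_normal_left' hRp ((hR.trans hT).trans (pairStab_le Q f))
  · have hle : Q ⊔ R ≤ Subgroup.centralizer ({(c : G)} : Set G) := by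
      refine sup_le (fun q hq => ?_) fun r hr => ?_
      · rw [Subgroup.mem_centralizer_singleton_iff]
        exact Subgroup.mem_centralizer_iff.1 hcC q hq
      · rw [Subgroup.mem_centralizer_singleton_iff]
        exact congrArg Subtype.val (Subgroup.mem_centralizer_iff.1 hc ⟨r, hR hr⟩ hr)
    exact Subgroup.mem_centralizer_iff.2 fun y hy =>
      Subgroup.mem_centralizer_singleton_iff.1 (hle hy)

/-- Subgroups of pairs above `(Q, f)` lie in defect groups. -/
theorem le_defect_of_normal {Q T R S : Subgroup G} {f : Set (IrrCharacter (cen Q))}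
    {g : Set (IrrCharacter (cen S))} {F : Set (IrrCharacter T)} (hF : IsBlockOver M T Q f F)
    (hC : (cen Q) ≤ T) (hs : IsNormalSubpair p M Q f S g) (hRS : R ≤ S) :
    ∃ D : Subgroup T, IsDefectGroup p M F D ∧ R.subgroupOf T ≤ D := by
  have := Fact.mk hM.1
  obtain ⟨ξ, hξ⟩ := isPBlock_nonempty hs.2.1.2
  obtain ⟨hQS, -, -, hv⟩ := (isNormalSubpair_iff hM hξ hs.2.1 hs.1).1 hs
  obtain ⟨c, hc, hne⟩ : ∃ c ∈ (cen S), (sIdem M (cen Q) f).coeff c ≠ 0 := by
    by_contra h
    push Not at h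
    rw [pairVal_eq ξ (isCInv_sIdem hM hQS f)] at hv
    have e : (⟨resSub (cen S) (sIdem M (cen Q) f),
        isClassCoeff_iff_mem_center.1 (isCInv_sIdem hM hQS f)⟩ :
          Subalgebra.center (kres M) (MonoidAlgebra (kres M) (cen S))) = 0 := by
      apply Subtype.ext
      ext d
      simpa using h d d.2
    rw [e, map_zero] at hv
    exact zero_ne_one hv
  have hcT : c ∈ T := hC (centralizer_le_centralizer hQS hc)
  have hRp : IsPGroup p (R.subgroupOf T) := (hs.2.1.1.to_le hRS).comap_subtype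
  obtain ⟨D, hD⟩ := exists_isDefectGroup hM hF.1
  obtain ⟨x, hx⟩ := (exists_le_conj_iff_coeff hM hF.1 hD hRp).1 ⟨⟨c, hcT⟩,
    Subgroup.mem_centralizer_iff.2 fun r hr =>
      Subtype.ext (Subgroup.mem_centralizer_iff.1 hc r (hRS hr)),
    by rwa [coeff_blkIdem_over hM hF]⟩
  exact ⟨_, defectGroup_conj hM hF.1 hD x, hx⟩

theorem card_le_of_normal {Q T R S : Subgroup G} {f : Set (IrrCharacter (cen Q))}
    {g : Set (IrrCharacter (cen S))} {F : Set (IrrCharacter T)} (hF : IsBlockOver M T Q f F)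
    (hC : (cen Q) ≤ T) (hs : IsNormalSubpair p M Q f S g) (hRS : R ≤ S) (hRT : R ≤ T) :
    Nat.card R ≤ p ^ blockDefect p F := by
  obtain ⟨D, hD, hle⟩ := le_defect_of_normal hM hF hC hs hRS
  rw [← natCard_defectGroup hM hF.1 hD,
    ← Nat.card_congr (Subgroup.subgroupOfEquivOfLe hRT).toEquiv]
  exact Subgroup.card_le_of_le hle

/-- The pairs between `(Q, f)` and a pair above it. -/
theorem exists_normal_between {P Q S : Subgroup G} {e : Set (IrrCharacter (cen P))}
    {f : Set (IrrCharacter (cen Q))} (he : IsBrauerPair p M P e)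
    (hle : SubpairLE p M Q f P e) (hQS : Q ≤ S) (hSP : S ≤ P)
    (hSN : S ≤ Subgroup.normalizer (Q : Set G)) :
    ∃ g, IsNormalSubpair p M Q f S g ∧ SubpairLE p M S g P e := by
  obtain ⟨g, hg, hgle⟩ := exists_subpair hM he _ S hSP rfl
  obtain ⟨f', hf'⟩ := exists_normalSubpair hM (isBrauerPair_of_subpairLE he hgle) hQS hSN
  obtain rfl : f' = f := subpair_unique hM he _ Q rfl f' f
    (Relation.ReflTransGen.head (show NormalSubpairRel p M ⟨Q, f'⟩ ⟨S, g⟩ from hf') hgle) hle
  exact ⟨g, hf', hgle⟩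

theorem inf_le_pairStab {P Q : Subgroup G} {e : Set (IrrCharacter (cen P))}
    {f : Set (IrrCharacter (cen Q))} (he : IsBrauerPair p M P e) (hle : SubpairLE p M Q f P e) :
    P ⊓ Subgroup.normalizer (Q : Set G) ≤ pairStab M Q f := by
  obtain ⟨g, hg, -⟩ := exists_normal_between hM he hle
    (le_inf (subpairLE_le hle) Subgroup.le_normalizer) inf_le_left inf_le_right
  exact fun y hy => ⟨hy.2, (stabilizesBlock_iff_coeff hM hg.1.2 hy.2).1 (hg.2.2.2.2.1 y hy)⟩

/-- The stabiliser's subgroups of `P` lie in defect groups. -/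
theorem inf_le_defect {P Q T : Subgroup G} {e : Set (IrrCharacter (cen P))}
    {f : Set (IrrCharacter (cen Q))} {F : Set (IrrCharacter T)} (hF : IsBlockOver M T Q f F)
    (hC : (cen Q) ≤ T) (hT : T ≤ pairStab M Q f) (he : IsBrauerPair p M P e)
    (hle : SubpairLE p M Q f P e) :
    ∃ D : Subgroup T, IsDefectGroup p M F D ∧ (P ⊓ T).subgroupOf T ≤ D := by
  obtain ⟨g, hg, -⟩ := exists_normal_between hM he hle (S := Q ⊔ (P ⊓ T)) le_sup_left
    (sup_le (subpairLE_le hle) inf_le_left)
    (sup_le Subgroup.le_normalizer (inf_le_right.trans (hT.trans (pairStab_le Q f))))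
  exact le_defect_of_normal hM hF hC hg le_sup_right

theorem pairStab_conj {Q : Subgroup G} (f : Set (IrrCharacter (cen Q))) (x : G) :
    pairStab M (Q.map (MulAut.conj x).toMonoidHom) (conjBlock Q x f) =
      (pairStab M Q f).map (MulAut.conj x).toMonoidHom := by
  ext y
  rw [mem_map_conj_iff]
  constructor
  · rintro ⟨h1, h2⟩
    refine ⟨Subgroup.mem_normalizer_iff.2 fun q => ?_, fun g => ?_⟩
    · have h := Subgroup.mem_normalizer_iff.1 h1 (x * q * x⁻¹)
      rw [mem_map_conj_iff, mem_map_conj_iff] at h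
      simpa [mul_assoc] using h
    · have h := h2 (x * g * x⁻¹)
      rw [coeff_sIdem_conjBlock hM, coeff_sIdem_conjBlock hM] at h
      simpa [mul_assoc] using h
  · rintro ⟨h1, h2⟩
    refine ⟨Subgroup.mem_normalizer_iff.2 fun q => ?_, fun g => ?_⟩
    · rw [mem_map_conj_iff, mem_map_conj_iff, Subgroup.mem_normalizer_iff.1 h1 (x⁻¹ * q * x)]
      simp [mul_assoc]
    · rw [coeff_sIdem_conjBlock hM, coeff_sIdem_conjBlock hM, ← h2 (x⁻¹ * g * x)]
      congr 1
      group

theorem isBlockOver_conj {Q T : Subgroup G} {f : Set (IrrCharacter (cen Q))}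
    {F : Set (IrrCharacter T)} (hF : IsBlockOver M T Q f F) (x : G) :
    IsBlockOver M (T.map (MulAut.conj x).toMonoidHom) (Q.map (MulAut.conj x).toMonoidHom)
      (conjBlock Q x f) (blockMap (conjSubIso T x) F) := by
  refine ⟨isPBlock_blockMap _ hF.1, fun t => ?_⟩
  rw [blockCoeff_blockMap, hF.2]
  show subgroupBlockCoeff (cen Q) f (x⁻¹ * t * x) = _
  by_cases ht : (t : G) ∈ cen (Q.map (MulAut.conj x).toMonoidHom)
  · have h1 : x⁻¹ * (t : G) * x ∈ cen Q := (cenMap Q x ⟨t, ht⟩).2
    rw [subgroupBlockCoeff, dif_pos h1, subgroupBlockCoeff, dif_pos ht, conjBlock_eq_blockMap,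
      blockCoeff_blockMap]
    rfl
  · have h1 : x⁻¹ * (t : G) * x ∉ cen Q := fun h => ht (by
      rw [← map_conj_centralizer, mem_map_conj_iff]
      exact h)
    rw [subgroupBlockCoeff, dif_neg h1, subgroupBlockCoeff, dif_neg ht]

/-- **Local defect groups.** Some conjugate of `(Q, f)` below `(P, e)` has the local subgroup of
`P` as a defect group. -/
theorem exists_conj_defect {B : Set (IrrCharacter G)} {P Q T : Subgroup G}
    {e : Set (IrrCharacter (cen P))} {f : Set (IrrCharacter (cen Q))}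
    {F : Set (IrrCharacter T)} (hmax : IsMaximalBrauerPair p M B P e)
    (hle : SubpairLE p M Q f P e) (hF : IsBlockOver M T Q f F) (hC : (cen Q) ≤ T)
    (hT : T ≤ pairStab M Q f) :
    ∃ x : G, SubpairLE p M (Q.map (MulAut.conj x).toMonoidHom) (conjBlock Q x f) P e ∧
      ∀ T' : Subgroup G, T' = T.map (MulAut.conj x).toMonoidHom → ∀ F' : Set (IrrCharacter T'),
        IsBlockOver M T' (Q.map (MulAut.conj x).toMonoidHom) (conjBlock Q x f) F' →
          IsDefectGroup p M F' ((P ⊓ T').subgroupOf T') ∧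
            Nat.card ↥(P ⊓ T') = p ^ blockDefect p F := by
  have hP := hmax.1.1
  have hf := isBrauerPair_of_subpairLE hP hle
  obtain ⟨D, hD⟩ := exists_isDefectGroup hM hF.1
  have hRD : (D.map T.subtype).subgroupOf T = D :=
    Subgroup.comap_map_eq_self_of_injective (Subgroup.subtype_injective T) D
  obtain ⟨g, hg⟩ := exists_pair_of_le_defect hM hF hf hT (Subgroup.map_subtype_le D) hD hRD.le
  have hgB : IsBrauerPairOf p M B (Q ⊔ D.map T.subtype) g :=
    (isBrauerPairOf_iff_of_le hM hg.2.1 (Relation.ReflTransGen.single hg) hmax.1.2.1).2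
      ((isBrauerPairOf_iff_of_le hM hP hle hmax.1.2.1).1 hmax.1)
  obtain ⟨x, hx⟩ := exists_conj_le_maximal hM hmax hgB
  have hxle : SubpairLE p M (Q.map (MulAut.conj x).toMonoidHom) (conjBlock Q x f) P e :=
    Relation.ReflTransGen.trans (subpairLE_conj hM (Relation.ReflTransGen.single hg) x) hx
  refine ⟨x, hxle, ?_⟩
  rintro T' rfl F' hF'
  have hC' : (cen (Q.map (MulAut.conj x).toMonoidHom)) ≤ T.map (MulAut.conj x).toMonoidHom := by
    rw [← map_conj_centralizer]
    exact Subgroup.map_mono hC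
  have hT' : T.map (MulAut.conj x).toMonoidHom ≤
      pairStab M (Q.map (MulAut.conj x).toMonoidHom) (conjBlock Q x f) := by
    rw [pairStab_conj hM]
    exact Subgroup.map_mono hT
  obtain ⟨D', hD', hle'⟩ := inf_le_defect hM hF' hC' hT' hP hxle
  have hd : blockDefect p F' = blockDefect p F := by
    rw [isBlockOver_unique hM hF' (isBlockOver_conj hM hF x), blockDefect_blockMap]
  have h1 : Nat.card D' = p ^ blockDefect p F := by rw [natCard_defectGroup hM hF'.1 hD', hd]
  have h2 : p ^ blockDefect p F ≤ Nat.card ↥(P ⊓ T.map (MulAut.conj x).toMonoidHom) := by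
    rw [← natCard_defectGroup hM hF.1 hD,
      ← Subgroup.card_map_of_injective (Subgroup.subtype_injective T) (K := D),
      ← natCard_map_conj (D.map T.subtype) x]
    exact Subgroup.card_le_of_le (le_inf ((Subgroup.map_mono le_sup_right).trans (subpairLE_le hx))
      (Subgroup.map_mono (Subgroup.map_subtype_le D)))
  have h3 : Nat.card ((P ⊓ T.map (MulAut.conj x).toMonoidHom).subgroupOf
      (T.map (MulAut.conj x).toMonoidHom)) = Nat.card ↥(P ⊓ T.map (MulAut.conj x).toMonoidHom) :=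
    Nat.card_congr (Subgroup.subgroupOfEquivOfLe inf_le_right).toEquiv
  refine ⟨?_, le_antisymm ?_ h2⟩
  · rw [Subgroup.eq_of_le_of_card_ge hle' (by rw [h1, h3]; exact h2)]
    exact hD'
  · rw [← h3, ← h1]
    exact Subgroup.card_le_of_le hle'

/-- **Pairs above `(Q, f)` are locally conjugate below a largest one.** -/
theorem exists_conj_le_local {Q X R S : Subgroup G} {f : Set (IrrCharacter (cen Q))}
    {e : Set (IrrCharacter (cen R))} {g : Set (IrrCharacter (cen S))}
    {F : Set (IrrCharacter X)} (hF : IsBlockOver M X Q f F) (hC : (cen Q) ≤ X)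
    (hX : X ≤ Subgroup.normalizer (Q : Set G)) (he : IsBrauerPair p M R e)
    (hg : IsBrauerPair p M S g) (hR : SubpairLE p M Q f R e) (hS : SubpairLE p M Q f S g)
    (hRX : R ≤ X) (hSX : S ≤ X) (hcard : p ^ blockDefect p F ≤ Nat.card R) :
    ∃ x ∈ X, SubpairLE p M (S.map (MulAut.conj x).toMonoidHom) (conjBlock S x g) R e := by
  obtain ⟨h₁, h₂, hR'⟩ := subpairLE_subBlock hM hR hRX hC
  obtain ⟨_, h₃, hS'⟩ := subpairLE_subBlock hM hS hSX hC
  have hf := isBrauerPair_of_subpairLE he hR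
  obtain ⟨η, hη⟩ := isPBlock_nonempty hf.2
  have hQF : IsBrauerPairOf p M F (Q.subgroupOf X) (subBlock h₁ f) := by
    rw [isBrauerPairOf_iff hM (isBrauerPair_subBlock h₁ hf) hF.1
      (show irrMap (cenIso h₁) η ∈ subBlock h₁ f from ⟨η, hη, rfl⟩),
      (pairVal_subBlock h₁ η (isCInv_sIdem hM le_rfl f)
        fun t _ => coeff_blkIdem_over hM hF t).2]
    classical
    rw [pairVal_sIdem hM hf.2, if_pos hη]
  have hRF : IsBrauerPairOf p M F (R.subgroupOf X) (subBlock h₂ e) :=
    (isBrauerPairOf_iff_of_le hM (isBrauerPair_subBlock h₂ he) hR' hF.1).2 hQF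
  have hSF : IsBrauerPairOf p M F (S.subgroupOf X) (subBlock h₃ g) :=
    (isBrauerPairOf_iff_of_le hM (isBrauerPair_subBlock h₃ hg) hS' hF.1).2 hQF
  obtain ⟨D, hD⟩ := exists_isDefectGroup hM hF.1
  have hmax : IsMaximalBrauerPair p M F (R.subgroupOf X) (subBlock h₂ e) := by
    refine isMaximal_of_card hM hRF hD ?_
    rw [natCard_defectGroup hM hF.1 hD, Nat.card_congr (Subgroup.subgroupOfEquivOfLe hRX).toEquiv]
    exact hcard
  obtain ⟨x, hx⟩ := exists_conj_le_maximal hM hmax hSF
  refine ⟨x, x.2, ?_⟩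
  set S' := S.map (MulAut.conj (x : G)).toMonoidHom with hS'def
  have hQS' : Q ≤ S' := fun q hq => by
    rw [hS'def, mem_map_conj_iff]
    exact subpairLE_le hS ((Subgroup.mem_normalizer_iff''.1 (hX x.2) q).1 hq)
  have hS'X : S' ≤ X := fun y hy => by
    have := mul_mem (mul_mem x.2 (hSX (mem_map_conj_iff.1 hy))) (inv_mem x.2)
    simpa [mul_assoc] using this
  have h₄ : CenEq (S'.subgroupOf X) S' :=
    cenEq_subgroupOf hS'X ((centralizer_le_centralizer hQS').trans hC)
  have hx' : SubpairLE p M (S'.subgroupOf X) (subBlock h₄ (conjBlock S (x : G) g))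
      (R.subgroupOf X) (subBlock h₂ e) := by
    have e1 := conjBlock_subBlock hM x h₃ h₄ hg.2
    unfold SubpairLE at hx ⊢
    rw [← e1]
    exact hx
  have hS'R : S' ≤ R := fun y hy =>
    subpairLE_le hx' (show (⟨y, hS'X hy⟩ : X) ∈ S'.subgroupOf X from hy)
  obtain ⟨g₂, -, hg₂⟩ := exists_subpair hM he _ S' hS'R rfl
  obtain ⟨_, _, hg₂'⟩ := subpairLE_subBlock hM hg₂ hRX ((centralizer_le_centralizer hQS').trans hC)
  have := subpair_unique hM (isBrauerPair_subBlock h₂ he) _ _ rfl _ _ hx' hg₂'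
  rw [subBlock_injective h₄ this]
  exact hg₂

end CfsgLib.BlockA
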