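import Cfsg.Agent.Lib.BlockA.HeightZero

/-! The integer matrix of `|G|_p` times the pairing over the regular elements. -/

set_option autoImplicit false
set_option linter.unusedSectionVars false

namespace CfsgLib.BlockA

open Cfsg CfsgLib.Block
open scoped ComplexConjugate

variable {G : Type*} [Group G]

section Val

variable {p : ℕ} {M : Ideal AlgInt} [M.IsPrime] (hM : IsPModular p M)
include hM

theorem memLocalIdeal_intCast_div_iff_natAbs (z : ℤ) (b : ℕ) :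
    (MemLocalIdeal M ((z : ℂ) / (b : ℂ)) ↔ MemLocalIdeal M ((z.natAbs : ℂ) / (b : ℂ))) ∧
      (MemLocalRing M ((z : ℂ) / (b : ℂ)) ↔ MemLocalRing M ((z.natAbs : ℂ) / (b : ℂ))) := by
  rcases Int.natAbs_eq z with hz | hz
  · conv => enter [1, 1]; rw [hz]
    conv => enter [2, 1]; rw [hz]
    simp only [Int.cast_natCast, iff_self, and_self]
  · conv => enter [1, 1]; rw [hz]
    conv => enter [2, 1]; rw [hz]
    simp only [Int.cast_neg, Int.cast_natCast, neg_div]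
    exact ⟨⟨fun h => neg_neg ((z.natAbs : ℂ) / (b : ℂ)) ▸ memLocalIdeal_neg h, memLocalIdeal_neg⟩,
      ⟨fun h => neg_neg ((z.natAbs : ℂ) / (b : ℂ)) ▸ (lring M).neg_mem h, (lring M).neg_mem⟩⟩

theorem pow_dvd_of_memLocalRing {z : ℤ} {b : ℕ}
    (h : MemLocalRing M ((z : ℂ) / (b : ℂ))) :
    ((p ^ b.factorization p : ℕ) : ℤ) ∣ z := by
  have hp := hM.1
  rw [(memLocalIdeal_intCast_div_iff_natAbs hM z b).2] at h
  rw [Int.natCast_dvd]
  rcases eq_or_ne z.natAbs 0 with h0 | h0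
  · rw [h0]; exact dvd_zero _
  rcases eq_or_ne b 0 with rfl | hb
  · simp
  rw [hp.pow_dvd_iff_le_factorization h0]
  by_contra hlt
  have h2 := memLocalIdeal_mul_left h
    (memLocalIdeal_natCast_div hM h0 (a := b) (Or.inr (by omega)))
  rw [div_mul_div_cancel₀ (Nat.cast_ne_zero.2 hb),
    div_self (Nat.cast_ne_zero.2 h0)] at h2
  exact not_memLocalIdeal_one h2

theorem memLocalIdeal_intCast_div_iff {z : ℤ} {b : ℕ} (hb : b ≠ 0) :
    MemLocalIdeal M ((z : ℂ) / (b : ℂ)) ↔ ((p ^ (b.factorization p + 1) : ℕ) : ℤ) ∣ z := by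
  have hp := hM.1
  rw [(memLocalIdeal_intCast_div_iff_natAbs hM z b).1, Int.natCast_dvd]
  rcases eq_or_ne z.natAbs 0 with h0 | h0
  · simp [h0, memLocalIdeal_zero]
  rw [hp.pow_dvd_iff_le_factorization h0]
  refine ⟨fun h => ?_, fun h => memLocalIdeal_natCast_div hM hb (Or.inr (by omega))⟩
  by_contra hlt
  have h2 := memLocalIdeal_mul_right
    (memLocalRing_natCast_div hM h0 (a := b) (Or.inr (by omega))) h
  rw [div_mul_div_cancel₀ (Nat.cast_ne_zero.2 hb),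
    div_self (Nat.cast_ne_zero.2 h0)] at h2
  exact not_memLocalIdeal_one h2

end Val

variable [Fintype G]

/-- The integer `(|G|_p χ°, ξ)`. -/
noncomputable def regEntry (p : ℕ) (χ ξ : IrrCharacter G) : ℤ :=
  ⌊(Cfsg.classInner (fun x : G => if p ∣ orderOf x then (0 : ℂ)
    else ((p ^ (Nat.card G).factorization p : ℕ) : ℂ) * (χ : G → ℂ) x) (ξ : G → ℂ)).re⌋

variable {p : ℕ} [Fact p.Prime]

theorem regFun_eq (χ : G → ℂ) :
    (fun x : G => if p ∣ orderOf x then (0 : ℂ)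
      else ((p ^ (Nat.card G).factorization p : ℕ) : ℂ) * χ x) =
    (fun g => ((p ^ (Nat.card G).factorization p : ℕ) : ℂ) * regInd p g) * χ := by
  funext x
  simp only [Pi.mul_apply, regInd]
  split_ifs <;> ring

theorem regEntry_cast (χ ξ : IrrCharacter G) :
    (regEntry p χ ξ : ℂ) = Cfsg.classInner (fun x : G => if p ∣ orderOf x then (0 : ℂ)
      else ((p ^ (Nat.card G).factorization p : ℕ) : ℂ) * (χ : G → ℂ) x) (ξ : G → ℂ) := by
  obtain ⟨k, hk⟩ := CfsgLib.Char.classInner_isGeneralized_int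
    (CfsgLib.Char.isGeneralized_mul (isGeneralized_regInd (G := G) (p := p))
      (CfsgLib.Char.isGeneralized_of_isCharacter (CfsgLib.Char.irr_isCharacter χ.2)))
    (CfsgLib.Char.isGeneralized_of_isCharacter (CfsgLib.Char.irr_isCharacter ξ.2))
  rw [regEntry, regFun_eq, hk]
  simp

theorem ordCompl_mul_regEntry (χ ξ : IrrCharacter G) :
    ((ordCompl[p] (Nat.card G) : ℕ) : ℂ) * (regEntry p χ ξ : ℂ) =
      regPair p (χ : G → ℂ) (ξ : G → ℂ) := by
  rw [regEntry_cast, classInner_regInd_mul, ← mul_assoc, mul_left_comm,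
    ← Nat.cast_mul, mul_comm (ordCompl[p] (Nat.card G)), Nat.ordProj_mul_ordCompl_eq_self,
    inv_mul_cancel₀ CfsgLib.Char.natCard_ne_zero, one_mul]

theorem regEntry_symm (χ ξ : IrrCharacter G) : regEntry p χ ξ = regEntry p ξ χ := by
  have h := regPair_symm p (χ : G → ℂ) (ξ : G → ℂ)
  rw [← ordCompl_mul_regEntry, ← ordCompl_mul_regEntry] at h
  have hm : ((ordCompl[p] (Nat.card G) : ℕ) : ℂ) ≠ 0 :=
    Nat.cast_ne_zero.2 (Nat.ordCompl_pos p Nat.card_pos.ne').ne'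
  exact_mod_cast mul_left_cancel₀ hm h

variable {M : Ideal AlgInt} [M.IsPrime] (hM : IsPModular p M)
include hM

theorem regEntry_div (χ ξ : IrrCharacter G) :
    (regEntry p χ ξ : ℂ) / (charDegree (ξ : G → ℂ) : ℂ) =
      (((ordCompl[p] (Nat.card G) : ℕ) : ℂ))⁻¹ *
        (regPair p (χ : G → ℂ) (ξ : G → ℂ) / (ξ : G → ℂ) 1) := by
  rw [← ordCompl_mul_regEntry, charDegree_cast (CfsgLib.Char.irr_isCharacter ξ.2),
    mul_div_assoc, inv_mul_cancel_left₀
      (Nat.cast_ne_zero.2 (Nat.ordCompl_pos p Nat.card_pos.ne').ne')]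

theorem memLocalIdeal_regEntry_div_iff (χ ξ : IrrCharacter G) :
    MemLocalIdeal M ((regEntry p χ ξ : ℂ) / (charDegree (ξ : G → ℂ) : ℂ)) ↔
      MemLocalIdeal M (regPair p (χ : G → ℂ) (ξ : G → ℂ) / (ξ : G → ℂ) 1) := by
  have hm : ¬ p ∣ ordCompl[p] (Nat.card G) := Nat.not_dvd_ordCompl hM.1 Nat.card_pos.ne'
  rw [regEntry_div hM]
  refine ⟨fun h => ?_, fun h => memLocalIdeal_mul_left (memLocalRing_inv_natCast hM hm) h⟩
  have h2 := memLocalIdeal_mul_left (memLocalRing_natCast (ordCompl[p] (Nat.card G))) h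
  rwa [mul_inv_cancel_left₀ (Nat.cast_ne_zero.2 (Nat.ordCompl_pos p Nat.card_pos.ne').ne')] at h2

/-- The entries are divisible by the `p`-part of each degree. -/
theorem pow_dvd_regEntry (χ ξ : IrrCharacter G) :
    ((p ^ (charDegree (ξ : G → ℂ)).factorization p : ℕ) : ℤ) ∣ regEntry p χ ξ := by
  refine pow_dvd_of_memLocalRing hM ?_
  rw [regEntry_div hM]
  exact memLocalRing_mul
    (memLocalRing_inv_natCast hM (Nat.not_dvd_ordCompl hM.1 Nat.card_pos.ne'))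
    (memLocalRing_regPair_div hM (CfsgLib.Char.irr_isClassFunction χ.2)
      (memLocalRing_irr_apply χ) ξ)

variable {B : Set (IrrCharacter G)} (hB : IsPBlock M B)
include hB

theorem pow_succ_dvd_regEntry_iff {χ ξ : IrrCharacter G} (hχ : χ ∈ B) (hξ : ξ ∈ B) :
    ((p ^ ((charDegree (ξ : G → ℂ)).factorization p + 1) : ℕ) : ℤ) ∣ regEntry p χ ξ ↔
      blockHeight p B (χ : G → ℂ) ≠ 0 := by
  rw [← memLocalIdeal_intCast_div_iff hM (charDegree_ne_zero ξ.2),
    memLocalIdeal_regEntry_div_iff hM, ne_eq, ← not_memLocalIdeal_regPair_iff hM hB hχ hξ, not_not]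

theorem regEntry_eq_zero {χ ξ : IrrCharacter G} (hχ : χ ∈ B) (hξ : ξ ∉ B) :
    regEntry p χ ξ = 0 := by
  have h := ordCompl_mul_regEntry (p := p) χ ξ
  rw [regPair_eq_zero hM hB hχ hξ] at h
  have := (mul_eq_zero.1 h).resolve_left
    (Nat.cast_ne_zero.2 (Nat.ordCompl_pos p Nat.card_pos.ne').ne')
  exact_mod_cast this

theorem regEntry_ne_zero {χ ξ : IrrCharacter G} (hχ : χ ∈ B) (hξ : ξ ∈ B)
    (h0 : blockHeight p B (χ : G → ℂ) = 0) : regEntry p χ ξ ≠ 0 := fun h =>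
  (pow_succ_dvd_regEntry_iff hM hB hχ hξ).1 (h ▸ dvd_zero _) h0

/-- The matrix is `|G|_p` times a projection. -/
theorem sum_regEntry_sq {χ : IrrCharacter G} (hχ : χ ∈ B) :
    ∑ᶠ ξ ∈ B, regEntry p χ ξ * regEntry p χ ξ =
      (p ^ (Nat.card G).factorization p : ℕ) * regEntry p χ χ := by
  classical
  have := Fintype.ofFinite (IrrCharacter G)
  rw [finsum_mem_eq_finite_toFinset_sum _ B.toFinite]
  set f : G → ℂ := fun x : G => if p ∣ orderOf x then (0 : ℂ)
    else ((p ^ (Nat.card G).factorization p : ℕ) : ℂ) * (χ : G → ℂ) x with hf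
  have hfc : IsClassFunction G f := by
    intro g h
    have ho : orderOf (h * g * h⁻¹) = orderOf g :=
      orderOf_injective (MulAut.conj h).toMonoidHom (MulAut.conj h).injective g
    simp only [hf, ho, CfsgLib.Char.irr_isClassFunction χ.2 g h]
  have hsum := CfsgLib.Char.classInner_eq_sum_mul hfc f
  have hall : ∀ ξ : IrrCharacter G, Cfsg.classInner f (ξ : G → ℂ) = (regEntry p χ ξ : ℂ) :=
    fun ξ => (regEntry_cast χ ξ).symm
  have hleft : Cfsg.classInner f f =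
      ((p ^ (Nat.card G).factorization p : ℕ) : ℂ) * (regEntry p χ χ : ℂ) := by
    rw [← hall χ, CfsgLib.Char.classInner_def, CfsgLib.Char.classInner_def, mul_left_comm,
      Finset.mul_sum (a := ((p ^ (Nat.card G).factorization p : ℕ) : ℂ))]
    congr 1
    refine Finset.sum_congr rfl fun g _ => ?_
    simp only [hf]
    split_ifs
    · simp
    · rw [map_mul, Complex.conj_natCast]; ring
  rw [hleft] at hsum
  simp only [hall, map_intCast] at hsum
  rw [← Finset.sum_subset (Finset.subset_univ B.toFinite.toFinset) (fun ξ _ hξ => by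
    rw [regEntry_eq_zero hM hB hχ (fun h => hξ (B.toFinite.mem_toFinset.2 h)), Int.cast_zero,
      zero_mul])] at hsum
  exact_mod_cast hsum.symm

/-- The entries divided by the common `p`-part of the degrees. -/
theorem exists_scaled_entries {χ : IrrCharacter G} (hχ : χ ∈ B) :
    ∃ e : IrrCharacter G → ℤ,
      (∑ᶠ ξ ∈ B, e ξ * e ξ = (p ^ blockDefect p B : ℕ) * e χ) ∧
      ∀ ξ ∈ B, ((p ^ blockHeight p B (χ : G → ℂ) : ℕ) : ℤ) ∣ e ξ ∧
        ((p ^ blockHeight p B (ξ : G → ℂ) : ℕ) : ℤ) ∣ e ξ ∧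
        (((p ^ (blockHeight p B (ξ : G → ℂ) + 1) : ℕ) : ℤ) ∣ e ξ ↔
          blockHeight p B (χ : G → ℂ) ≠ 0) ∧
        (((p ^ (blockHeight p B (χ : G → ℂ) + 1) : ℕ) : ℤ) ∣ e ξ ↔
          blockHeight p B (ξ : G → ℂ) ≠ 0) := by
  classical
  have hp := hM.1
  set s := sInf ((fun φ : IrrCharacter G => (charDegree (φ : G → ℂ)).factorization p) '' B) with hs
  have hadd := sInf_degree_add_blockDefect hM hB
  have hdeg : ∀ ξ ∈ B, (charDegree (ξ : G → ℂ)).factorization p =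
      blockHeight p B (ξ : G → ℂ) + s := fun ξ hξ => by
    have : s ≤ (charDegree (ξ : G → ℂ)).factorization p := Nat.sInf_le ⟨ξ, hξ, rfl⟩
    simp only [blockHeight, ← hs]
    omega
  have hq : ((p ^ s : ℕ) : ℤ) ≠ 0 := by exact_mod_cast pow_ne_zero s hp.ne_zero
  have hdvd : ∀ ξ ∈ B, ((p ^ s : ℕ) : ℤ) ∣ regEntry p χ ξ := fun ξ hξ => by
    refine dvd_trans ?_ (pow_dvd_regEntry hM χ ξ)
    exact_mod_cast Nat.pow_dvd_pow p (by rw [hdeg ξ hξ]; omega)
  refine ⟨fun ξ => regEntry p χ ξ / (p ^ s : ℕ), ?_, fun ξ hξ => ?_⟩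
  · have h := sum_regEntry_sq hM hB hχ
    rw [finsum_mem_eq_finite_toFinset_sum _ B.toFinite] at h ⊢
    refine mul_left_cancel₀ hq (mul_left_cancel₀ hq ?_)
    rw [Finset.mul_sum, Finset.mul_sum]
    have e1 : ∀ ξ ∈ B.toFinite.toFinset, ((p ^ s : ℕ) : ℤ) * (((p ^ s : ℕ) : ℤ) *
        (regEntry p χ ξ / (p ^ s : ℕ) * (regEntry p χ ξ / (p ^ s : ℕ)))) =
        regEntry p χ ξ * regEntry p χ ξ := fun ξ hξ => by
      have h2 := Int.mul_ediv_cancel' (hdvd ξ (B.toFinite.mem_toFinset.1 hξ))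
      calc _ = (((p ^ s : ℕ) : ℤ) * (regEntry p χ ξ / (p ^ s : ℕ))) *
            (((p ^ s : ℕ) : ℤ) * (regEntry p χ ξ / (p ^ s : ℕ))) := by ring
        _ = _ := by rw [h2]
    rw [Finset.sum_congr rfl e1, h, ← hadd, ← hs]
    conv_lhs => rw [← Int.mul_ediv_cancel' (hdvd χ hχ)]
    push_cast
    ring
  · have key : ∀ j : ℕ, ((p ^ j : ℕ) : ℤ) ∣ regEntry p χ ξ / (p ^ s : ℕ) ↔
        ((p ^ (j + s) : ℕ) : ℤ) ∣ regEntry p χ ξ := fun j => by
      rw [pow_add, Nat.cast_mul, mul_comm ((p ^ j : ℕ) : ℤ)]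
      conv_rhs => rw [← Int.mul_ediv_cancel' (hdvd ξ hξ)]
      exact (mul_dvd_mul_iff_left hq).symm
    simp only [key]
    refine ⟨?_, ?_, ?_, ?_⟩
    · rw [← hdeg χ hχ, regEntry_symm]
      exact pow_dvd_regEntry hM ξ χ
    · rw [← hdeg ξ hξ]
      exact pow_dvd_regEntry hM χ ξ
    · rw [← pow_succ_dvd_regEntry_iff hM hB hχ hξ, hdeg ξ hξ, Nat.add_right_comm]
    · rw [← pow_succ_dvd_regEntry_iff hM hB hξ hχ, hdeg χ hχ, Nat.add_right_comm, regEntry_symm]

/-- **The Brauer–Feit bound**, weighted by heights. -/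
theorem sum_pow_height_le :
    ∑ᶠ ξ ∈ B, p ^ (2 * blockHeight p B (ξ : G → ℂ)) ≤
      (p ^ blockDefect p B) ^ 2 / 4 + 1 := by
  classical
  obtain ⟨χ, hχ, h0⟩ := exists_height_zero hM hB
  obtain ⟨e, hsum, he⟩ := exists_scaled_entries hM hB hχ
  rw [finsum_mem_eq_finite_toFinset_sum _ B.toFinite] at hsum ⊢
  have hχ' := B.toFinite.mem_toFinset.2 hχ
  rw [← Finset.add_sum_erase _ _ hχ'] at hsum ⊢
  rw [h0, mul_zero, pow_zero, add_comm]
  refine Nat.add_le_add_right ((Nat.le_div_iff_mul_le (by norm_num)).2 ?_) 1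
  have hb : ∀ ξ ∈ B.toFinite.toFinset.erase χ,
      ((p ^ (2 * blockHeight p B (ξ : G → ℂ)) : ℕ) : ℤ) ≤ e ξ * e ξ := by
    intro ξ hξ
    obtain ⟨-, ⟨t, ht⟩, h3, -⟩ := he ξ (B.toFinite.mem_toFinset.1 (Finset.mem_of_mem_erase hξ))
    have ht0 : t ≠ 0 := by
      intro h
      subst h
      rw [mul_zero] at ht
      exact h3.1 (ht ▸ dvd_zero _) h0
    have ht1 : 1 ≤ t * t := by
      rcases lt_or_gt_of_ne ht0 with h | h <;> nlinarith
    rw [ht, pow_mul', sq, Nat.cast_mul]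
    nlinarith [mul_self_nonneg (((p ^ blockHeight p B (ξ : G → ℂ) : ℕ) : ℤ))]
  have h1 := Finset.sum_le_sum hb
  zify
  rw [← Nat.cast_pow] at *
  push_cast at h1 hsum ⊢
  nlinarith [mul_self_nonneg (2 * e χ - (p : ℤ) ^ blockDefect p B)]

end CfsgLib.BlockA
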