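import Cfsg.Agent.Lib.Block.SecondMain
import Cfsg.Agent.Lib.BlockB.RegRank
import Cfsg.Agent.Lib.Char.Column

/-! Characters in a block counted through subsections. -/

set_option autoImplicit false
set_option linter.unusedSectionVars false
set_option maxHeartbeats 1000000

namespace CfsgLib.BlockA

open Cfsg CfsgLib.Block
open scoped ComplexConjugate

universe u

variable {G : Type u} [Group G] [Fintype G] {p : ℕ} {M : Ideal AlgInt} [M.IsPrime]

section General

variable {H : Type u} [Group H] [Fintype H]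

theorem blockPart_eq_kernel (b : Set (IrrCharacter H)) (f : H → ℂ) (y : H) :
    blockPart b f y = (Nat.card H : ℂ)⁻¹ *
      ∑ z : H, (∑ᶠ ψ ∈ b, (ψ : H → ℂ) y * conj ((ψ : H → ℂ) z)) * f z := by
  classical
  have := Fintype.ofFinite (IrrCharacter H)
  simp only [blockPart, finsum_mem_eq_finite_toFinset_sum _ b.toFinite, Finset.sum_mul,
    CfsgLib.Char.classInner_def]
  rw [Finset.sum_comm, Finset.mul_sum]
  refine Finset.sum_congr rfl fun ψ _ => ?_
  rw [mul_assoc, Finset.sum_mul]
  congr 1
  refine Finset.sum_congr (by ext; simp) fun z _ => ?_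
  ring

theorem blockPart_irr (b : Set (IrrCharacter H)) [DecidablePred (· ∈ b)] (φ : IrrCharacter H)
    (y : H) : blockPart b (φ : H → ℂ) y = if φ ∈ b then (φ : H → ℂ) y else 0 := by
  classical
  have := Fintype.ofFinite (IrrCharacter H)
  have key : ∀ ψ : IrrCharacter H, classInner (φ : H → ℂ) (ψ : H → ℂ) * (ψ : H → ℂ) y =
      if φ = ψ then (ψ : H → ℂ) y else 0 := fun ψ => by
    rw [CfsgLib.Char.irr_classInner φ.2 ψ.2]
    simp only [Subtype.coe_inj, ite_mul, one_mul, zero_mul]
  simp only [blockPart, finsum_mem_eq_finite_toFinset_sum _ b.toFinite]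
  refine (Finset.sum_congr rfl (fun ψ _ => ?_)).trans ((Finset.sum_ite_eq _ φ (fun ψ : IrrCharacter H => (ψ : H → ℂ) y)).trans
    (if_congr (Set.Finite.mem_toFinset _) rfl rfl))
  convert key ψ using 3

theorem blockPart_sum_smul {ι : Type*} [Fintype ι] (b : Set (IrrCharacter H)) (c : ι → ℂ)
    (f : ι → H → ℂ) (y : H) :
    blockPart b (fun z => ∑ i, c i * f i z) y = ∑ i, c i * blockPart b (f i) y := by
  simp only [blockPart_eq_kernel, Finset.mul_sum]
  rw [Finset.sum_comm]
  refine Finset.sum_congr rfl fun i _ => Finset.sum_congr rfl fun z _ => ?_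
  ring

/-- At regular elements a block part only sees the regular values. -/
theorem blockPart_congr_regular (hM : IsPModular p M) {b : Set (IrrCharacter H)}
    (hb : IsPBlock M b) {f f' : H → ℂ} (h : ∀ z, ¬ p ∣ orderOf z → f z = f' z) {y : H}
    (hy : ¬ p ∣ orderOf y) : blockPart b f y = blockPart b f' y := by
  rw [blockPart_eq_kernel, blockPart_eq_kernel]
  congr 1
  refine Finset.sum_congr rfl fun z _ => ?_
  by_cases hz : p ∣ orderOf z
  · rw [sum_block_eq_zero_of_regular_singular hM hb hy hz, zero_mul, zero_mul]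
  · rw [h z hz]

end General

variable (hM : IsPModular p M) {x : G} (hx : ∃ k : ℕ, orderOf x = p ^ k)
include hM hx

local notation "C" => Subgroup.centralizer (Singleton.singleton x : Set G)

theorem isPPart_mul_centralizer {y : C} (hy : ¬ p ∣ orderOf y) : IsPPart p (x * (y : G)) x :=
  isPPart_mul (Subgroup.mem_centralizer_singleton_iff.1 y.2).symm hx
    (by rwa [Subgroup.orderOf_coe])

theorem isConj_mul_iff {y z : C} (hy : ¬ p ∣ orderOf y) (hz : ¬ p ∣ orderOf z) :
    IsConj (x * (z : G)) (x * (y : G)) ↔ IsConj z y := by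
  constructor
  · intro h
    obtain ⟨g, hg⟩ := isConj_iff.1 h
    have h1 := isPPart_conj (isPPart_mul_centralizer hM hx hz) g
    rw [hg] at h1
    have h2 := isPPart_unique hM.1 h1 (isPPart_mul_centralizer hM hx hy)
    have hgC : g ∈ C := Subgroup.mem_centralizer_singleton_iff.2 (mul_inv_eq_iff_eq_mul.1 h2)
    refine isConj_iff.2 ⟨⟨g, hgC⟩, Subtype.ext ?_⟩
    show g * (z : G) * g⁻¹ = y
    refine mul_left_cancel (a := x) ?_
    calc x * (g * (z : G) * g⁻¹) = (g * x * g⁻¹) * (g * (z : G) * g⁻¹) := by rw [h2]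
      _ = g * (x * (z : G)) * g⁻¹ := by group
      _ = x * (y : G) := hg
  · intro h
    obtain ⟨g, hg⟩ := isConj_iff.1 h
    refine isConj_iff.2 ⟨(g : G), ?_⟩
    have hgx := Subgroup.mem_centralizer_singleton_iff.1 g.2
    rw [← mul_assoc, hgx, ← hg]
    push_cast
    group

theorem natCard_centralizer_mul {z : C} (hz : ¬ p ∣ orderOf z) :
    Nat.card (Subgroup.centralizer ({x * (z : G)} : Set G)) =
      Nat.card (Subgroup.centralizer ({z} : Set C)) := by
  have hle : Subgroup.centralizer ({x * (z : G)} : Set G) ≤ C := fun g hg => by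
    rw [Subgroup.mem_centralizer_singleton_iff] at hg ⊢
    have h1 := isPPart_conj (isPPart_mul_centralizer hM hx hz) g
    rw [show g * (x * (z : G)) * g⁻¹ = x * z from mul_inv_eq_iff_eq_mul.2 hg] at h1
    exact mul_inv_eq_iff_eq_mul.1 (isPPart_unique hM.1 h1 (isPPart_mul_centralizer hM hx hz))
  rw [← Nat.card_congr (Subgroup.subgroupOfEquivOfLe hle).toEquiv]
  congr 1
  refine congrArg (fun S : Subgroup C => (S : Type u)) ?_
  ext g
  have hgx := Subgroup.mem_centralizer_singleton_iff.1 g.2
  rw [Subgroup.mem_subgroupOf, Subgroup.mem_centralizer_singleton_iff,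
    Subgroup.mem_centralizer_singleton_iff, ← mul_assoc, hgx, mul_assoc, mul_assoc,
    mul_left_cancel_iff, ← Subgroup.coe_mul, ← Subgroup.coe_mul, Subtype.coe_inj]

/-- The values at a section in terms of the characters of the centralizer. -/
theorem column_section [Fintype (IrrCharacter G)] [Fintype (IrrCharacter C)] {y z : C}
    (hy : ¬ p ∣ orderOf y) (hz : ¬ p ∣ orderOf z) :
    ∑ χ : IrrCharacter G, (χ : G → ℂ) (x * (z : G)) * conj ((χ : G → ℂ) (x * (y : G))) =
      ∑ φ : IrrCharacter C, (φ : C → ℂ) z * conj ((φ : C → ℂ) y) := by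
  classical
  rw [CfsgLib.Char.column_orthogonality, CfsgLib.Char.column_orthogonality,
    natCard_centralizer_mul hM hx hz]
  exact if_congr (isConj_mul_iff hM hx hy hz) rfl rfl

open Classical in
/-- Second main theorem, in indicator form. -/
theorem sum_inducing_blockPart {B : Set (IrrCharacter G)} (hB : IsPBlock M B) (χ : IrrCharacter G)
    {y : C} (hy : ¬ p ∣ orderOf y) :
    ∑ b ∈ (allBlocks M C).filter (fun b => IsInducedBlock M C b B),
        blockPart b (fun c : C => (χ : G → ℂ) (x * (c : G))) y =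
      if χ ∈ B then (χ : G → ℂ) (x * (y : G)) else 0 := by
  have hcl : IsClassFunction C (fun c : C => (χ : G → ℂ) (x * (c : G))) := fun c h => by
    have h1 : (h : G) * x = x * (h : G) := Subgroup.mem_centralizer_singleton_iff.1 h.2
    have h2 : x * ((h * c * h⁻¹ : C) : G) = (h : G) * (x * (c : G)) * (h : G)⁻¹ := by
      push_cast
      calc x * ((h : G) * c * (h : G)⁻¹) = (x * (h : G)) * c * (h : G)⁻¹ := by group
        _ = _ := by rw [← h1]; group
    simp only [h2]
    exact CfsgLib.Char.irr_isClassFunction χ.2 _ _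
  split_ifs with hχ
  · rw [← sum_blockPart (M := M) hcl y]
    refine Finset.sum_subset (Finset.filter_subset _ _) fun b hb hnot => ?_
    exact blockPart_centralizer_eq_zero hM hx hB hχ (mem_allBlocks.1 hb)
      (fun h => hnot (Finset.mem_filter.2 ⟨hb, h⟩)) hy
  · refine Finset.sum_eq_zero fun b hb => ?_
    obtain ⟨hb, hind⟩ := Finset.mem_filter.1 hb
    refine blockPart_centralizer_eq_zero hM hx (isPBlock_blockOf χ) (mem_blockOf_self χ)
      (mem_allBlocks.1 hb) (fun h => hχ ?_) hy
    rw [isInducedBlock_unique _ hind h]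
    exact mem_blockOf_self χ

open Classical in
/-- **The squares of the values at a section.** -/
theorem sum_sq_section {B : Set (IrrCharacter G)} (hB : IsPBlock M B) {y : C}
    (hy : ¬ p ∣ orderOf y) :
    ∑ χ ∈ B.toFinite.toFinset, (χ : G → ℂ) (x * (y : G)) * conj ((χ : G → ℂ) (x * (y : G))) =
      ∑ b ∈ (allBlocks M C).filter (fun b => IsInducedBlock M C b B),
        ∑ φ ∈ b.toFinite.toFinset, (φ : C → ℂ) y * conj ((φ : C → ℂ) y) := by
  have := Fintype.ofFinite (IrrCharacter G)
  have := Fintype.ofFinite (IrrCharacter C)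
  calc ∑ χ ∈ B.toFinite.toFinset, (χ : G → ℂ) (x * (y : G)) * conj ((χ : G → ℂ) (x * (y : G)))
      = ∑ χ : IrrCharacter G, conj ((χ : G → ℂ) (x * (y : G))) *
          ∑ b ∈ (allBlocks M C).filter (fun b => IsInducedBlock M C b B),
            blockPart b (fun c : C => (χ : G → ℂ) (x * (c : G))) y := by
        simp only [sum_inducing_blockPart hM hx hB _ hy, mul_ite, mul_zero]
        rw [← Finset.sum_filter]
        refine Finset.sum_congr (by ext; simp) fun χ _ => mul_comm _ _
    _ = ∑ b ∈ (allBlocks M C).filter (fun b => IsInducedBlock M C b B),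
          blockPart b (fun z : C => ∑ χ : IrrCharacter G,
            conj ((χ : G → ℂ) (x * (y : G))) * (χ : G → ℂ) (x * (z : G))) y := by
        simp only [Finset.mul_sum, blockPart_sum_smul]
        exact Finset.sum_comm
    _ = ∑ b ∈ (allBlocks M C).filter (fun b => IsInducedBlock M C b B),
          blockPart b (fun z : C => ∑ φ : IrrCharacter C,
            conj ((φ : C → ℂ) y) * (φ : C → ℂ) z) y := by
        refine Finset.sum_congr rfl fun b hb => ?_
        refine blockPart_congr_regular hM (mem_allBlocks.1 (Finset.mem_filter.1 hb).1)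
          (fun z hz => ?_) hy
        simpa only [mul_comm] using column_section hM hx hy hz
    _ = _ := by
        refine Finset.sum_congr rfl fun b _ => ?_
        rw [blockPart_sum_smul]
        simp only [blockPart_irr, mul_ite, mul_zero]
        rw [← Finset.sum_filter]
        refine Finset.sum_congr (by ext; simp) fun φ _ => mul_comm _ _

omit [M.IsPrime] hM hx in
open Classical in
/-- Sums over `G` split by `p`-parts. -/
theorem sum_isPPart_eq (hp : p.Prime) (hx : ∃ k : ℕ, orderOf x = p ^ k) (F : G → ℂ)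
    [DecidablePred fun g : G => IsPPart p g x] :
    ∑ g with IsPPart p g x, F g = ∑ y : C with ¬ p ∣ orderOf y, F (x * (y : G)) := by
  classical
  refine (Finset.sum_bij (fun (y : C) _ => x * (y : G)) ?_ ?_ ?_ fun _ _ => rfl).symm
  · intro y hy
    exact Finset.mem_filter.2 ⟨Finset.mem_univ _,
      isPPart_mul (Subgroup.mem_centralizer_singleton_iff.1 y.2).symm hx
        (by rw [Subgroup.orderOf_coe]; exact (Finset.mem_filter.1 hy).2)⟩
  · intro a _ b _ h
    exact Subtype.ext (mul_left_cancel h)
  · intro g hg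
    obtain ⟨y, hxy, hc, -, hy⟩ := (Finset.mem_filter.1 hg).2
    refine ⟨⟨y, Subgroup.mem_centralizer_singleton_iff.2 hc.eq.symm⟩, Finset.mem_filter.2
      ⟨Finset.mem_univ _, by rwa [← Subgroup.orderOf_coe]⟩, hxy⟩

omit [M.IsPrime] hM hx in
/-- Number of conjugators. -/
theorem natCard_conjugators {u v : G} [DecidablePred fun a : G => a * u * a⁻¹ = v]
    (h : IsConj u v) :
    (Finset.univ.filter fun a : G => a * u * a⁻¹ = v).card =
      Nat.card (Subgroup.centralizer ({u} : Set G)) := by
  obtain ⟨a, rfl⟩ := isConj_iff.1 h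
  rw [← Nat.card_eq_finsetCard]
  refine Nat.card_congr
    { toFun := fun b => ⟨a⁻¹ * b.1, Subgroup.mem_centralizer_singleton_iff.2 ?_⟩
      invFun := fun c => ⟨a * (c : G), Finset.mem_filter.2 ⟨Finset.mem_univ _, ?_⟩⟩
      left_inv := fun b => Subtype.ext (mul_inv_cancel_left a b.1)
      right_inv := fun c => Subtype.ext (inv_mul_cancel_left a (c : G)) }
  · have hb := (Finset.mem_filter.1 b.2).2
    calc a⁻¹ * b.1 * u = a⁻¹ * (b.1 * u * b.1⁻¹) * b.1 := by group
      _ = u * (a⁻¹ * b.1) := by rw [hb]; group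
  · have hc := Subgroup.mem_centralizer_singleton_iff.1 c.2
    calc a * (c : G) * u * (a * (c : G))⁻¹ = a * ((c : G) * u * (c : G)⁻¹) * a⁻¹ := by group
      _ = a * u * a⁻¹ := by rw [mul_inv_eq_iff_eq_mul.2 hc]

omit [M.IsPrime] hM hx in
open Classical in
/-- A class function summed over `G` through the sections. -/
theorem sum_eq_sum_sections (hp : p.Prime) (X : Finset G)
    (hX : ∀ u ∈ X, ∃ k : ℕ, orderOf u = p ^ k)
    (hXrep : ∀ g : G, (∃ k : ℕ, orderOf g = p ^ k) → ∃! u, u ∈ X ∧ IsConj g u) {F : G → ℂ}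
    (hF : IsClassFunction G F) :
    ∑ g : G, F g = (Nat.card G : ℂ) * ∑ u ∈ X,
      (Nat.card (Subgroup.centralizer ({u} : Set G)) : ℂ)⁻¹ *
        ∑ y : Subgroup.centralizer ({u} : Set G) with ¬ p ∣ orderOf y, F (u * (y : G)) := by
  classical
  have hone : ∀ g : G, ∑ u ∈ X, (Nat.card (Subgroup.centralizer ({u} : Set G)) : ℂ)⁻¹ *
      ∑ a : G, (if IsPPart p g (a * u * a⁻¹) then (1 : ℂ) else 0) = 1 := by
    intro g
    obtain ⟨w, hw⟩ := exists_isPPart hp g
    have hwp : ∃ k : ℕ, orderOf w = p ^ k := by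
      obtain ⟨_, _, _, h, _⟩ := hw; exact h
    obtain ⟨u, ⟨hu, hwu⟩, huniq⟩ := hXrep w hwp
    rw [Finset.sum_eq_single_of_mem u hu ?_]
    · rw [Finset.sum_boole, show (Finset.univ.filter fun a : G => IsPPart p g (a * u * a⁻¹)) =
          Finset.univ.filter fun a : G => a * u * a⁻¹ = w from Finset.filter_congr fun a _ =>
            ⟨fun h => isPPart_unique hp h hw, fun h => h ▸ hw⟩,
        natCard_conjugators hwu.symm, inv_mul_cancel₀]
      exact_mod_cast (Nat.card_pos (α := Subgroup.centralizer ({u} : Set G))).ne'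
    · intro v hv hne
      rw [Finset.sum_eq_zero fun a _ => if_neg fun h => hne (huniq v ⟨hv, ?_⟩), mul_zero]
      rw [← isPPart_unique hp h hw]
      exact (isConj_iff.2 ⟨a, rfl⟩).symm
  calc ∑ g : G, F g = ∑ g : G, ∑ u ∈ X, (Nat.card (Subgroup.centralizer ({u} : Set G)) : ℂ)⁻¹ *
        ∑ a : G, (if IsPPart p g (a * u * a⁻¹) then F g else 0) := by
        refine Finset.sum_congr rfl fun g _ => ?_
        conv_lhs => rw [← one_mul (F g), ← hone g, Finset.sum_mul]
        refine Finset.sum_congr rfl fun u _ => ?_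
        rw [mul_assoc, Finset.sum_mul]
        simp only [ite_mul, one_mul, zero_mul]
    _ = _ := by
        rw [Finset.sum_comm, Finset.mul_sum]
        refine Finset.sum_congr rfl fun u hu => ?_
        rw [← Finset.mul_sum, mul_left_comm]
        congr 1
        rw [Finset.sum_comm]
        have hshift : ∀ a : G, ∑ g : G, (if IsPPart p g (a * u * a⁻¹) then F g else 0) =
            ∑ y : Subgroup.centralizer ({u} : Set G) with ¬ p ∣ orderOf y, F (u * (y : G)) := by
          intro a
          rw [← sum_isPPart_eq hp (hX u hu), Finset.sum_filter]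
          refine Fintype.sum_equiv (MulAut.conj a⁻¹).toEquiv _ _ fun g => ?_
          simp only [MulEquiv.toEquiv_eq_coe, MulEquiv.coe_toEquiv, MulAut.conj_apply, inv_inv]
          refine if_congr ⟨fun h => ?_, fun h => ?_⟩ ?_ rfl
          · have h' := isPPart_conj h a⁻¹
            simpa [mul_assoc] using h'
          · have h' := isPPart_conj h a
            simpa [mul_assoc] using h'
          · simpa using (hF g a⁻¹).symm
        rw [Finset.sum_congr rfl (fun a _ => hshift a), Finset.sum_const, Finset.card_univ,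
          nsmul_eq_mul, ← Nat.card_eq_fintype_card]

omit hx in
open Classical in
/-- **The subsection count.** -/
theorem natCard_block_eq_sum_rank {B : Set (IrrCharacter G)} (hB : IsPBlock M B) (X : Finset G)
    (hX : ∀ u ∈ X, ∃ k : ℕ, orderOf u = p ^ k)
    (hXrep : ∀ g : G, (∃ k : ℕ, orderOf g = p ^ k) → ∃! u, u ∈ X ∧ IsConj g u) :
    Nat.card B = ∑ u ∈ X, ∑ b ∈ (allBlocks M (Subgroup.centralizer ({u} : Set G))).filter
      (fun b => IsInducedBlock M (Subgroup.centralizer ({u} : Set G)) b B), blockRank p b := by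
  have hcast : (Nat.card B : ℂ) * (Nat.card G : ℂ) =
      ∑ g : G, ∑ χ ∈ B.toFinite.toFinset, (χ : G → ℂ) g * conj ((χ : G → ℂ) g) := by
    rw [Finset.sum_comm, Nat.card_eq_card_finite_toFinset]
    rw [Finset.sum_congr rfl (g := fun _ => (Nat.card G : ℂ)) fun χ _ => ?_, Finset.sum_const,
      nsmul_eq_mul]
    have h := CfsgLib.Char.irr_classInner χ.2 χ.2
    rwa [if_pos rfl, CfsgLib.Char.classInner_def,
      inv_mul_eq_one₀ CfsgLib.Char.natCard_ne_zero, eq_comm] at h
  have hF : IsClassFunction G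
      (fun g => ∑ χ ∈ B.toFinite.toFinset, (χ : G → ℂ) g * conj ((χ : G → ℂ) g)) := fun g h => by
    simp only [fun χ : IrrCharacter G => CfsgLib.Char.irr_isClassFunction χ.2 g h]
  rw [sum_eq_sum_sections hM.1 X hX hXrep hF, mul_comm (Nat.card G : ℂ),
    mul_left_inj' CfsgLib.Char.natCard_ne_zero] at hcast
  have key : (Nat.card B : ℂ) = ((∑ u ∈ X, ∑ b ∈ (allBlocks M (Subgroup.centralizer ({u} : Set G))).filter
      (fun b => IsInducedBlock M (Subgroup.centralizer ({u} : Set G)) b B), blockRank p b : ℕ) : ℂ) := by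
    rw [hcast, Nat.cast_sum]
    refine Finset.sum_congr rfl fun u hu => ?_
    rw [Finset.sum_congr rfl (fun y hy => sum_sq_section hM (hX u hu) hB (Finset.mem_filter.1 hy).2),
      Finset.sum_comm, Finset.mul_sum, Nat.cast_sum]
    refine Finset.sum_congr rfl fun b hb => ?_
    rw [CfsgLib.BlockB.blockRank_eq_sum hM (mem_allBlocks.1 (Finset.mem_filter.1 hb).1),
      Finset.sum_comm, Finset.mul_sum]
    refine Finset.sum_congr rfl fun φ _ => ?_
    rw [CfsgLib.Char.classInner_def, Finset.sum_filter]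
    congr 1
    refine Finset.sum_congr (by ext; simp) fun y _ => ?_
    unfold regInd
    split_ifs <;> simp
  exact_mod_cast key

end CfsgLib.BlockA
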