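import Cfsg.Agent.Lib.BlockA.RestrictPrincipal
import Cfsg.Agent.Lib.Block.DegreeAux
import Cfsg.Agent.Lib.BlockB.ClassMul
import Cfsg.Agent.Lib.BlockA.SubsectionCount

/-! Dimensions of a block of the modular group algebra and of its centre, by lifting the rank of
an idempotent matrix over the local ring. -/

set_option autoImplicit false
set_option linter.unusedSectionVars false

namespace CfsgLib.BlockA

open Cfsg CfsgLib.Block Module
open scoped ComplexConjugate

universe u

variable {M : Ideal AlgInt} [M.IsPrime] {m : Type*} [Fintype m]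

/-- Reduction cannot increase the rank. -/
theorem rank_red_le (A : Matrix m m ℂ) (hA : ∀ i j, MemLocalRing M (A i j)) :
    (Matrix.of fun i j => redC M (A i j)).rank ≤ A.rank := by
  classical
  set Q := Matrix.of (fun i j => redC M (A i j)) with hQ
  obtain ⟨κ, a, ha, hspan, hli⟩ := exists_linearIndependent' (kres M) Q.col
  have := Fintype.ofInjective a ha
  have hr : Q.rank = Fintype.card κ := by
    rw [Matrix.rank_eq_finrank_span_cols, ← hspan, finrank_span_eq_card hli]
  have hr1 : (Q.submatrix id a).rank = Fintype.card κ := by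
    rw [Matrix.rank_eq_finrank_span_cols,
      show Set.range (Q.submatrix id a).col = Set.range (Q.col ∘ a) from rfl,
      finrank_span_eq_card hli]
  obtain ⟨κ', b, hb, hspan', hli'⟩ := exists_linearIndependent' (kres M) (Q.submatrix id a).row
  have := Fintype.ofInjective b hb
  have hcard : Fintype.card κ' = Fintype.card κ := by
    rw [← finrank_span_eq_card hli', hspan', ← Matrix.rank_eq_finrank_span_row, hr1]
  let e : κ ≃ κ' := Fintype.equivOfCardEq hcard.symm
  have hrows : LinearIndependent (kres M) (Q.submatrix (b ∘ e) a).row :=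
    hli'.comp e e.injective
  have hdet : (Q.submatrix (b ∘ e) a).det ≠ 0 := by
    have h := Matrix.linearIndependent_rows_iff_isUnit.1 hrows
    rw [Matrix.isUnit_iff_isUnit_det] at h
    exact h.ne_zero
  have h2 : (A.submatrix (b ∘ e) a).det ≠ 0 := det_ne_zero_of_red _ (fun i j => hA _ _) hdet
  rw [hr]
  exact (Matrix.rank_of_det_ne_zero h2).ge.trans (A.rank_submatrix_le _ _)

/-- An idempotent matrix over the local ring keeps its rank under reduction. -/
theorem rank_red_idem [DecidableEq m] (A : Matrix m m ℂ) (hA : ∀ i j, MemLocalRing M (A i j))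
    (hAA : A * A = A) : (Matrix.of fun i j => redC M (A i j)).rank = A.rank := by
  have h1 := rank_red_le A hA
  have hB : ∀ i j, MemLocalRing M ((1 - A) i j) := fun i j => by
    rw [Matrix.sub_apply, Matrix.one_apply]
    refine (lring M).sub_mem ?_ (hA i j)
    split_ifs
    · exact (lring M).one_mem
    · exact (lring M).zero_mem
  have h2 := rank_red_le (1 - A) hB
  have hredB : (Matrix.of fun i j => redC M ((1 - A) i j)) =
      1 - Matrix.of fun i j => redC M (A i j) := by
    ext i j
    simp only [Matrix.of_apply, Matrix.sub_apply]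
    have hone : MemLocalRing M ((1 : Matrix m m ℂ) i j) := by
      rw [Matrix.one_apply]; split_ifs
      · exact (lring M).one_mem
      · exact (lring M).zero_mem
    rw [eq_sub_iff_add_eq, ← redC_add ((lring M).sub_mem hone (hA i j)) (hA i j), sub_add_cancel,
      Matrix.one_apply, Matrix.one_apply]
    split_ifs
    · exact redC_one
    · exact redC_zero
  rw [hredB] at h2
  have h3 := matrix_rank_add_le (Matrix.of fun i j => redC M (A i j))
    (1 - Matrix.of fun i j => redC M (A i j))
  rw [add_sub_cancel, Matrix.rank_one] at h3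
  have h4 : A.rank + (1 - A).rank ≤ Fintype.card m := by
    have hdisj : LinearMap.range A.mulVecLin ⊓ LinearMap.range (1 - A).mulVecLin = ⊥ := by
      rw [Submodule.eq_bot_iff]
      rintro x ⟨⟨v, hv⟩, ⟨w, hw⟩⟩
      rw [Matrix.mulVecLin_apply] at hv hw
      have e1 : A.mulVec x = x := by rw [← hv, Matrix.mulVec_mulVec, hAA]
      have e2 : A.mulVec x = 0 := by
        rw [← hw, Matrix.mulVec_mulVec, mul_sub, mul_one, hAA, sub_self, Matrix.zero_mulVec]
      rw [← e1, e2]
    have h5 := Submodule.finrank_sup_add_finrank_inf_eq (LinearMap.range A.mulVecLin)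
      (LinearMap.range (1 - A).mulVecLin)
    rw [hdisj, finrank_bot, add_zero] at h5
    have h6 := Submodule.finrank_le (LinearMap.range A.mulVecLin ⊔ LinearMap.range (1 - A).mulVecLin)
    rw [finrank_fintype_fun_eq_card, h5] at h6
    exact h6
  omega

/-- The rank of an idempotent matrix is its trace. -/
theorem rank_eq_trace_of_idem [DecidableEq m] (A : Matrix m m ℂ) (hAA : A * A = A) :
    (A.rank : ℂ) = ∑ i, A i i := by
  have hidem : IsIdempotentElem (Matrix.toLin' A) := by
    show Matrix.toLin' A * Matrix.toLin' A = Matrix.toLin' A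
    rw [Module.End.mul_eq_comp, ← Matrix.toLin'_mul, hAA]
  have h := ((LinearMap.isProj_range_iff_isIdempotentElem _).2 hidem).trace
  rw [Matrix.trace_toLin'_eq] at h
  exact h.symm

variable {G : Type u} [Group G] [Fintype G] {p : ℕ} (hM : IsPModular p M)
  {B : Set (IrrCharacter G)} (hB : IsPBlock M B)

theorem blockSum_conv (g j : G) :
    ∑ h : G, blockCoeff B (g * h⁻¹) * blockCoeff B (h * j⁻¹) = blockCoeff B (g * j⁻¹) := by
  have h1 := congrArg (fun a => a.coeff (g * j⁻¹)) (blockSum_mul B B)
  simp only [Set.inter_self, coeff_mul_eq, blockSum, coeff_mkGA] at h1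
  rw [← h1]
  refine Fintype.sum_equiv ((Equiv.inv G).trans (Equiv.mulLeft g)) _ _ fun h => ?_
  simp only [Equiv.trans_apply, Equiv.inv_apply, Equiv.coe_mulLeft]
  congr 2
  group

/-- The coefficient equivalence of a group algebra. -/
noncomputable def coeffEquiv (k : Type*) [CommRing k] (G : Type u) [Group G] [Fintype G] :
    MonoidAlgebra k G ≃ₗ[k] (G → k) where
  toFun a g := a.coeff g
  map_add' a b := by ext g; simp
  map_smul' c a := by ext g; simp
  invFun f := mkGA f
  left_inv a := mkGA_coeff a
  right_inv f := by ext g; simp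

include hM hB

/-- **The dimension of a block** is the sum of the squares of its degrees. -/
theorem finrank_block : finrank (kres M) (LinearMap.range
    (LinearMap.mulLeft (kres M) (blkIdem M B : MonoidAlgebra (kres M) G))) =
      ∑ χ ∈ B.toFinite.toFinset, charDegree (χ : G → ℂ) ^ 2 := by
  classical
  let A : Matrix G G ℂ := Matrix.of fun g h => blockCoeff B (g * h⁻¹)
  have hA : ∀ g h, MemLocalRing M (A g h) := fun g h => blockCoeff_memLocalRing hM hB _
  have hAA : A * A = A := by ext g j; exact blockSum_conv g j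
  let Ar : Matrix G G (kres M) := Matrix.of fun g h => redC M (A g h)
  have hcomm : Ar.mulVecLin = ((coeffEquiv (kres M) G).toLinearMap ∘ₗ
      LinearMap.mulLeft (kres M) (blkIdem M B : MonoidAlgebra (kres M) G)) ∘ₗ
        (coeffEquiv (kres M) G).symm.toLinearMap := by
    refine LinearMap.ext fun v => funext fun g => ?_
    show ∑ h, Ar g h * v h =
      ((blkIdem M B : MonoidAlgebra (kres M) G) * mkGA v).coeff g
    simp only [coeff_mul_eq, coeff_blkIdem, coeff_mkGA, Ar, A, Matrix.of_apply]
    refine Fintype.sum_equiv ((Equiv.inv G).trans (Equiv.mulLeft g)) _ _ fun h => ?_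
    simp
  have h1 : Ar.rank = finrank (kres M) (LinearMap.range
      (LinearMap.mulLeft (kres M) (blkIdem M B : MonoidAlgebra (kres M) G))) := by
    rw [Matrix.rank, hcomm, LinearMap.range_comp_of_range_eq_top _ (LinearEquiv.range _),
      LinearMap.range_comp, LinearEquiv.finrank_map_eq]
  rw [← h1, rank_red_idem A hA hAA]
  have h2 : (A.rank : ℂ) = ((∑ χ ∈ B.toFinite.toFinset, charDegree (χ : G → ℂ) ^ 2 : ℕ) : ℂ) := by
    rw [rank_eq_trace_of_idem A hAA]
    simp only [A, Matrix.of_apply, mul_inv_cancel, Finset.sum_const, Finset.card_univ,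
      nsmul_eq_mul, ← Nat.card_eq_fintype_card]
    rw [blockCoeff, finsum_mem_eq_finite_toFinset_sum _ B.toFinite, ← mul_assoc,
      mul_inv_cancel₀ CfsgLib.Char.natCard_ne_zero, one_mul, Nat.cast_sum]
    refine Finset.sum_congr rfl fun χ _ => ?_
    rw [charDegree_spec (CfsgLib.Char.irr_isCharacter χ.2), Complex.conj_natCast]
    push_cast; ring
  exact_mod_cast h2

/-- Class functions as central elements. -/
noncomputable def classEmb (k : Type*) [CommRing k] (G : Type u) [Group G] [Fintype G] :
    (ConjClasses G → k) →ₗ[k] MonoidAlgebra k G where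
  toFun v := mkGA fun g => v (ConjClasses.mk g)
  map_add' v w := by ext g; simp
  map_smul' c v := by ext g; simp

/-- **The dimension of the centre of a block** is the number of its characters. -/
theorem finrank_block_center : finrank (kres M) (LinearMap.range
    (LinearMap.mulLeft (kres M) (blkIdem M B : MonoidAlgebra (kres M) G) ∘ₗ
      classEmb (kres M) G)) = Nat.card B := by
  classical
  have := Finite.of_surjective _ (ConjClasses.mk_surjective (α := G))
  have := Fintype.ofFinite (ConjClasses G)
  let A : Matrix (ConjClasses G) (ConjClasses G) ℂ := Matrix.of fun C D =>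
    ∑ h ∈ Finset.univ.filter (fun h : G => ConjClasses.mk h = D), blockCoeff B (C.out * h⁻¹)
  have hA : ∀ C D, MemLocalRing M (A C D) := fun C D =>
    memLocalRing_sum _ _ fun h _ => blockCoeff_memLocalRing hM hB _
  have hsum : ∀ {k : Type} [CommRing k] (f : G → k) (v : ConjClasses G → k),
      ∑ D : ConjClasses G, (∑ h ∈ Finset.univ.filter (fun h : G => ConjClasses.mk h = D), f h) *
        v D = ∑ h : G, f h * v (ConjClasses.mk h) := by
    intro k _ f v
    rw [← Finset.sum_fiberwise Finset.univ (fun h : G => ConjClasses.mk h)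
      (fun h => f h * v (ConjClasses.mk h))]
    refine Finset.sum_congr rfl fun D _ => ?_
    rw [Finset.sum_mul]
    exact Finset.sum_congr rfl fun h hh => by rw [(Finset.mem_filter.1 hh).2]
  have hclass : ∀ C : ConjClasses G, ConjClasses.mk C.out = C := fun C => Quotient.out_eq C
  have hcl : ∀ (x g : G), blockCoeff B (g * x * g⁻¹) = blockCoeff B x := fun x g => by
    have h := blockSum_isClassCoeff B x g
    simp only [blockSum, coeff_mkGA] at h
    exact h
  have hAA : A * A = A := by
    ext C E
    rw [Matrix.mul_apply]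
    have hshift : ∀ h : G, A (ConjClasses.mk h) E =
        ∑ j ∈ Finset.univ.filter (fun j : G => ConjClasses.mk j = E), blockCoeff B (h * j⁻¹) := by
      intro h
      have hout : IsConj (ConjClasses.mk h).out h :=
        ConjClasses.mk_eq_mk_iff_isConj.1 (hclass _)
      obtain ⟨c, hc⟩ := isConj_iff.1 hout
      refine Finset.sum_bij' (fun j _ => c * j * c⁻¹) (fun j _ => c⁻¹ * j * c) ?_ ?_
        (fun j _ => by group) (fun j _ => by group) (fun j _ => ?_)
      · intro j hj
        simp only [Finset.mem_filter, Finset.mem_univ, true_and] at hj ⊢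
        rw [← hj]
        exact ConjClasses.mk_eq_mk_iff_isConj.2 (isConj_iff.2 ⟨c⁻¹, by group⟩)
      · intro j hj
        simp only [Finset.mem_filter, Finset.mem_univ, true_and] at hj ⊢
        rw [← hj]
        exact ConjClasses.mk_eq_mk_iff_isConj.2 (isConj_iff.2 ⟨c, by group⟩)
      · rw [← hcl ((ConjClasses.mk h).out * j⁻¹) c]
        congr 1
        calc c * ((ConjClasses.mk h).out * j⁻¹) * c⁻¹
            = (c * (ConjClasses.mk h).out * c⁻¹) * (c * j * c⁻¹)⁻¹ := by group
          _ = h * (c * j * c⁻¹)⁻¹ := by rw [hc]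
    show ∑ D, (∑ h ∈ Finset.univ.filter (fun h : G => ConjClasses.mk h = D),
      blockCoeff B (C.out * h⁻¹)) * A D E = A C E
    rw [hsum (fun h => blockCoeff B (C.out * h⁻¹)) fun D => A D E]
    simp only [hshift, Finset.mul_sum]
    rw [Finset.sum_comm]
    exact Finset.sum_congr rfl fun j _ => blockSum_conv _ _
  let Ar : Matrix (ConjClasses G) (ConjClasses G) (kres M) := Matrix.of fun C D => redC M (A C D)
  have hcomm : classEmb (kres M) G ∘ₗ Ar.mulVecLin =
      LinearMap.mulLeft (kres M) (blkIdem M B : MonoidAlgebra (kres M) G) ∘ₗ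
        classEmb (kres M) G := by
    refine LinearMap.ext fun v => ?_
    have hv : (classEmb (kres M) G v) ∈ Subalgebra.center (kres M) (MonoidAlgebra (kres M) G) := by
      refine isClassCoeff_iff_mem_center.1 fun g h => ?_
      simp only [classEmb, LinearMap.coe_mk, AddHom.coe_mk, coeff_mkGA]
      exact congrArg v (ConjClasses.mk_eq_mk_iff_isConj.2 (isConj_iff.2 ⟨h, rfl⟩).symm)
    have hprod : IsClassCoeff ((blkIdem M B : MonoidAlgebra (kres M) G) * classEmb (kres M) G v) :=
      isClassCoeff_iff_mem_center.2 (Subalgebra.mul_mem _ (blkIdem M B).2 hv)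
    ext g
    show (mkGA fun x => ∑ D, Ar (ConjClasses.mk x) D * v D).coeff g =
      ((blkIdem M B : MonoidAlgebra (kres M) G) * classEmb (kres M) G v).coeff g
    rw [← coeff_eq_of_isConj hprod
      (ConjClasses.mk_eq_mk_iff_isConj.1 (hclass (ConjClasses.mk g))), coeff_mkGA, coeff_mul_eq]
    simp only [coeff_blkIdem, classEmb, LinearMap.coe_mk, AddHom.coe_mk, coeff_mkGA, Ar, A,
      Matrix.of_apply]
    rw [Finset.sum_congr rfl fun D _ => by
      rw [redC_sum _ _ fun h _ => blockCoeff_memLocalRing hM hB _],
      hsum (fun h => redC M (blockCoeff B ((ConjClasses.mk g).out * h⁻¹))) v]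
    refine Fintype.sum_equiv ((Equiv.inv G).trans (Equiv.mulLeft (ConjClasses.mk g).out)) _ _
      fun h => ?_
    simp
  have hinj : Function.Injective (classEmb (kres M) G) := fun v w hvw => funext fun C => by
    have := congrArg (fun a => a.coeff C.out) hvw
    simpa [classEmb, hclass] using this
  rw [← hcomm, LinearMap.range_comp,
    ← (Submodule.equivMapOfInjective _ hinj _).finrank_eq,
    show finrank (kres M) (LinearMap.range Ar.mulVecLin) = Ar.rank from rfl,
    rank_red_idem A hA hAA]
  have h2 : (A.rank : ℂ) = (Nat.card B : ℂ) := by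
    rw [rank_eq_trace_of_idem A hAA, Nat.card_eq_card_finite_toFinset B.toFinite]
    have hd : ∀ C : ConjClasses G, A C C = ((Subgroup.centralizer ({C.out} : Set G)).index : ℂ) *
        ((Nat.card G : ℂ)⁻¹ * ∑ χ ∈ B.toFinite.toFinset,
          (χ : G → ℂ) C.out * conj ((χ : G → ℂ) C.out)) := by
      intro C
      simp only [A, Matrix.of_apply, blockCoeff,
        finsum_mem_eq_finite_toFinset_sum _ B.toFinite, ← Finset.mul_sum]
      rw [mul_left_comm]
      congr 1
      rw [Finset.sum_comm, Finset.mul_sum]
      refine Finset.sum_congr rfl fun χ _ => ?_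
      rw [← Finset.mul_sum, ← map_sum]
      set r := C.out with hr
      set S := Finset.univ.filter (fun h : G => ConjClasses.mk h = C) with hS
      have hconjsum := CfsgLib.BlockB.sum_irr_mul_conj χ r r⁻¹
      have hcount : ∑ t : G, (χ : G → ℂ) (r * (t * r⁻¹ * t⁻¹)) =
          (Nat.card (Subgroup.centralizer ({r} : Set G)) : ℂ) *
            ∑ h ∈ S, (χ : G → ℂ) (r * h⁻¹) := by
        rw [← Finset.sum_fiberwise_of_maps_to (t := S)
          (g := fun t : G => t * r * t⁻¹) (fun t _ => Finset.mem_filter.2 ⟨Finset.mem_univ _, by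
            rw [← hclass C, ← hr]
            exact ConjClasses.mk_eq_mk_iff_isConj.2 (isConj_iff.2 ⟨t⁻¹, by group⟩)⟩),
          Finset.mul_sum]
        refine Finset.sum_congr rfl fun h hh => ?_
        have hrh : IsConj r h := ConjClasses.mk_eq_mk_iff_isConj.1
          ((hclass C).trans (Finset.mem_filter.1 hh).2.symm)
        rw [Finset.sum_congr rfl (g := fun _ => (χ : G → ℂ) (r * h⁻¹)) fun t ht => by
            congr 1
            rw [← (Finset.mem_filter.1 ht).2]; group,
          Finset.sum_const, nsmul_eq_mul]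
        congr 1
        rw [natCard_conjugators hrh]
      rw [hcount] at hconjsum
      rw [CfsgLib.Char.char_inv (CfsgLib.Char.irr_isCharacter χ.2)] at hconjsum
      have hidx : ((Subgroup.centralizer ({r} : Set G)).index : ℂ) *
          (Nat.card (Subgroup.centralizer ({r} : Set G)) : ℂ) = (Nat.card G : ℂ) := by
        rw [← Nat.cast_mul, Subgroup.index_mul_card]
      have hc0 : (Nat.card (Subgroup.centralizer ({r} : Set G)) : ℂ) ≠ 0 :=
        CfsgLib.Char.natCard_ne_zero
      have hd1 := CfsgLib.Char.irr_apply_one_ne_zero χ.2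
      have hsum' : ∑ h ∈ S, (χ : G → ℂ) (r * h⁻¹) =
          ((Subgroup.centralizer ({r} : Set G)).index : ℂ) * (χ : G → ℂ) r *
            conj ((χ : G → ℂ) r) / (χ : G → ℂ) 1 := by
        refine mul_left_cancel₀ hc0 ?_
        rw [hconjsum, ← hidx]; ring
      rw [hsum', charDegree_spec (CfsgLib.Char.irr_isCharacter χ.2)]
      simp only [map_div₀, map_mul, Complex.conj_natCast, Complex.conj_conj]
      rw [charDegree_spec (CfsgLib.Char.irr_isCharacter χ.2)] at hd1
      field_simp
    rw [Finset.sum_congr rfl fun C _ => hd C]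
    simp only [Finset.mul_sum]
    rw [Finset.sum_comm]
    have hone : ∀ χ : IrrCharacter G, ∑ C : ConjClasses G,
        ((Subgroup.centralizer ({C.out} : Set G)).index : ℂ) *
          ((Nat.card G : ℂ)⁻¹ * ((χ : G → ℂ) C.out * conj ((χ : G → ℂ) C.out))) = 1 := by
      intro χ
      have h := CfsgLib.Char.irr_classInner_self χ.2
      rw [CfsgLib.Char.classInner_def, CfsgLib.BlockB.sum_eq_sum_conjClasses (fun a b => by
        simp only [CfsgLib.Char.irr_isClassFunction χ.2 a b]), Finset.mul_sum] at h
      exact (Finset.sum_congr rfl fun C _ => mul_left_comm _ _ _).trans h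
    rw [Finset.sum_congr rfl fun χ _ => hone χ, Finset.sum_const, nsmul_eq_mul, mul_one]
  exact_mod_cast h2

/-- A central idempotent inside a block is trivial. -/
theorem blkIdem_primitive (c : Subalgebra.center (kres M) (MonoidAlgebra (kres M) G))
    (hc : c * c = c) (hcB : c * blkIdem M B = c) : c = 0 ∨ c = blkIdem M B := by
  by_contra h
  push Not at h
  obtain ⟨χ, hχ⟩ := exists_lam_eq_one_of_idem hM hc h.1
  set e := blkIdem M B with he
  have he' : (e : MonoidAlgebra (kres M) G) * e = e := congrArg Subtype.val (blkIdem_idem hM hB)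
  have hce' : (c : MonoidAlgebra (kres M) G) * e = c := congrArg Subtype.val hcB
  have hec' : (e : MonoidAlgebra (kres M) G) * c = c := by
    rw [← Subalgebra.mem_center_iff.1 e.2 c]; exact hce'
  have hc' : (c : MonoidAlgebra (kres M) G) * c = c := congrArg Subtype.val hc
  have hd : (e - c) * (e - c) = e - c := Subtype.ext (by
    show ((e : MonoidAlgebra (kres M) G) - c) * ((e : MonoidAlgebra (kres M) G) - c) = e - c
    rw [mul_sub, sub_mul, sub_mul, he', hce', hec', hc']
    abel)
  obtain ⟨ψ, hψ⟩ := exists_lam_eq_one_of_idem hM hd (sub_ne_zero.2 (Ne.symm h.2))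
  have hχB : χ ∈ B := (algHom_blkIdem_eq_one_iff hM hB χ).1 (by
    have := congrArg (lam M χ) hcB
    rwa [map_mul, hχ, one_mul] at this)
  have hψB : ψ ∈ B := (algHom_blkIdem_eq_one_iff hM hB ψ).1 (by
    have h0 : (e - c) * e = e - c := Subtype.ext (by
      show ((e : MonoidAlgebra (kres M) G) - c) * e = e - c
      rw [sub_mul, he', hce'])
    have := congrArg (lam M ψ) h0
    rwa [map_mul, hψ, one_mul] at this)
  rw [← lam_eq_of_sameBlock (sameBlock_of_mem hB hχB hψB), map_sub, hχ,
    (algHom_blkIdem_eq_one_iff hM hB χ).2 hχB, sub_self] at hψ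
  exact zero_ne_one hψ

end CfsgLib.BlockA
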