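import Cfsg.Agent.Lib.BlockA.BlockNilp
import Cfsg.Agent.Lib.BlockA.NormalBlock

/-! Covering of blocks between two subgroups, in the ambient group algebra; nilpotent blocks and
normal subgroups of `p`-power index. -/

set_option autoImplicit false
set_option linter.unusedSectionVars false
set_option maxHeartbeats 1000000

namespace CfsgLib.BlockA

open Cfsg CfsgLib.Block MonoidAlgebra

universe u

variable {G : Type u} [Group G] [Finite G] {p : ℕ} {M : Ideal AlgInt} [M.IsPrime]

local notation "cen" Q => Subgroup.centralizer ((Q : Subgroup G) : Set G)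

theorem inclSub_resSub (H : Subgroup G) {a : MonoidAlgebra (kres M) G}
    (hs : ∀ x ∉ H, a.coeff x = 0) : inclSub H (resSub H a) = a := by
  ext x
  by_cases hx : x ∈ H
  · rw [show x = ((⟨x, hx⟩ : H) : G) from rfl, coeff_inclSub_of_mem, coeff_resSub]
  · rw [coeff_inclSub_of_not_mem _ _ hx, hs x hx]

theorem inclSub_injective (H : Subgroup G) :
    Function.Injective (inclSub (k := kres M) H) :=
  Function.LeftInverse.injective fun a => resSub_inclSub H a

theorem coeff_sIdem_of_not_mem {H : Subgroup G} (g : Set (IrrCharacter H)) {x : G} (hx : x ∉ H) :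
    (sIdem M H g).coeff x = 0 := coeff_inclSub_of_not_mem _ _ hx

theorem sIdem_mul_comm {H : Subgroup G} (g : Set (IrrCharacter H))
    {z : MonoidAlgebra (kres M) G} (hs : ∀ x ∉ H, z.coeff x = 0) :
    sIdem M H g * z = z * sIdem M H g := by
  rw [← inclSub_resSub H hs, sIdem, ← map_mul, ← map_mul]
  exact congrArg _ (Subalgebra.mem_center_iff.1 (blkIdem M g).2 _).symm

theorem conjGA_conjGA (x y : G) (a : MonoidAlgebra (kres M) G) :
    conjGA x (conjGA y a) = conjGA (x * y) a := by
  ext g
  simp only [coeff_conjGA, mul_inv_rev, mul_assoc]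

theorem conjGA_one (a : MonoidAlgebra (kres M) G) : conjGA 1 a = a := by
  ext g
  simp

theorem conjGA_zero (x : G) : conjGA x (0 : MonoidAlgebra (kres M) G) = 0 := by
  ext g
  simp

theorem conjGA_sum {ι : Type*} (x : G) (s : Finset ι) (f : ι → MonoidAlgebra (kres M) G) :
    conjGA x (∑ i ∈ s, f i) = ∑ i ∈ s, conjGA x (f i) := by
  ext g
  simp [Finsupp.finset_sum_apply]

theorem conjGA_sIdem_of_mem {H : Subgroup G} (g : Set (IrrCharacter H)) {x : G} (hx : x ∈ H) :
    conjGA x (sIdem M H g) = sIdem M H g := by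
  ext y
  rw [coeff_conjGA]
  have := inclSub_conj_invariant H (isClassCoeff_center (blkIdem M g)) (inv_mem hx) y
  rwa [inv_inv] at this

/-- The subgroup fixing an element under conjugation. -/
noncomputable def stabGA (e : MonoidAlgebra (kres M) G) : Subgroup G where
  carrier := {a | conjGA a e = e}
  one_mem' := conjGA_one e
  mul_mem' {a b} ha hb := by
    show conjGA (a * b) e = e
    rw [← conjGA_conjGA, show conjGA b e = e from hb, show conjGA a e = e from ha]
  inv_mem' {a} ha := by
    show conjGA a⁻¹ e = e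
    conv_lhs => rw [← show conjGA a e = e from ha, conjGA_conjGA, inv_mul_cancel, conjGA_one]

variable (hM : IsPModular p M)
include hM

theorem conjGA_sIdem {H : Subgroup G} (g : Set (IrrCharacter H)) {x : G}
    (hx : x ∈ Subgroup.normalizer (H : Set G)) :
    conjGA x (sIdem M H g) = sIdem M H (conjSet ⟨x, hx⟩ g) := by
  ext y
  rw [coeff_conjGA, coeff_sIdem_conjSet hM]

theorem sIdem_ne_zero {H : Subgroup G} {g : Set (IrrCharacter H)} (hg : IsPBlock M g) :
    sIdem M H g ≠ 0 := by
  classical
  intro h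
  obtain ⟨η, hη⟩ := isPBlock_nonempty hg
  have h0 : blkIdem M g = 0 :=
    Subtype.ext (inclSub_injective H (by rw [ZeroMemClass.coe_zero, map_zero]; exact h))
  have h1 := lam_blkIdem hM hg η
  rw [if_pos hη, h0, map_zero] at h1
  exact zero_ne_one h1

theorem eq_of_sIdem_eq {H : Subgroup G} {g h : Set (IrrCharacter H)} (hg : IsPBlock M g)
    (hh : IsPBlock M h) (e : sIdem M H g = sIdem M H h) : g = h := by
  by_contra hne
  have := sIdem_mul_ne hM hg hh hne
  rw [← e, sIdem_idem hM hg] at this
  exact sIdem_ne_zero hM hg this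

/-- An invariant idempotent contains or kills each block idempotent. -/
theorem mul_sIdem_eq {H : Subgroup G} {g : Set (IrrCharacter H)} (hg : IsPBlock M g)
    {z : MonoidAlgebra (kres M) G} (hs : ∀ x ∉ H, z.coeff x = 0) (hid : z * z = z)
    (hinv : IsPInv H z) : z * sIdem M H g = sIdem M H g ∨ z * sIdem M H g = 0 := by
  classical
  obtain ⟨η, hη⟩ := isPBlock_nonempty hg
  have hc : IsClassCoeff (resSub H z) := fun a h => by
    simp only [coeff_resSub]
    exact hinv h h.2 a
  set w : Subalgebra.center (kres M) (MonoidAlgebra (kres M) H) :=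
    ⟨resSub H z, isClassCoeff_iff_mem_center.1 hc⟩ with hw
  have hz : inclSub H (w : MonoidAlgebra (kres M) H) = z := inclSub_resSub H hs
  have hww : w * w = w := Subtype.ext (inclSub_injective H (by
    rw [MulMemClass.coe_mul, map_mul, hz, hid]))
  by_cases h0 : lam M η w = 0
  · right
    have h1 : lam M η (1 - w) = 1 := by rw [map_sub, map_one, h0, sub_zero]
    have h2 : (1 - w) * (1 - w) = 1 - w := by
      apply Subtype.ext
      have hw' := congrArg Subtype.val hww
      simp only [MulMemClass.coe_mul] at hw'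
      simp [sub_mul, mul_sub, hw']
    have h3 : (w : MonoidAlgebra (kres M) H) * (blkIdem M g : MonoidAlgebra (kres M) H) = 0 := by
      have h := congrArg Subtype.val (mul_blkIdem_of_lam_eq_one hM h2 hg hη h1)
      simpa [sub_mul] using h
    rw [← hz, sIdem, ← map_mul, h3, map_zero]
  · left
    have h1 : lam M η w = 1 := by
      have h := congrArg (lam M η) hww
      rw [map_mul] at h
      exact mul_right_eq_self₀.1 h |>.resolve_right h0
    rw [← hz, sIdem, ← map_mul, ← MulMemClass.coe_mul, mul_blkIdem_of_lam_eq_one hM hww hg hη h1]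

theorem exists_mul_sIdem {H : Subgroup G} {z : MonoidAlgebra (kres M) G}
    (hs : ∀ x ∉ H, z.coeff x = 0) (hid : z * z = z) (hinv : IsPInv H z) (h0 : z ≠ 0) :
    ∃ g : Set (IrrCharacter H), IsPBlock M g ∧ z * sIdem M H g = sIdem M H g := by
  by_contra hne
  push Not at hne
  refine h0 ?_
  calc z = z * ∑ g ∈ allBlocks M H, sIdem M H g := by rw [sum_sIdem hM, mul_one]
    _ = 0 := by
      rw [Finset.mul_sum]
      refine Finset.sum_eq_zero fun g hg => ?_
      have hg' := mem_allBlocks.1 hg
      exact (mul_sIdem_eq hM hg' hs hid hinv).resolve_left (hne g hg')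

/-- Brauer pairs of a block, through products of idempotents. -/
theorem isBrauerPairOf_iff_mul {B : Set (IrrCharacter G)} {Q : Subgroup G}
    {e : Set (IrrCharacter (cen Q))} (he : IsBrauerPair p M Q e) (hB : IsPBlock M B) :
    IsBrauerPairOf p M B Q e ↔
      sIdem M (cen Q) e *
          inclSub (cen Q) (resSub (cen Q) (blkIdem M B : MonoidAlgebra (kres M) G)) =
        sIdem M (cen Q) e := by
  classical
  obtain ⟨ξ, hξ⟩ := isPBlock_nonempty he.2
  have hbc : IsClassCoeff (blkIdem M B : MonoidAlgebra (kres M) G) :=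
    isClassCoeff_center (blkIdem M B)
  have hc : IsCInv Q (blkIdem M B : MonoidAlgebra (kres M) G) := isCInv_of_isClassCoeff hbc
  rw [isBrauerPairOf_iff hM he hB hξ, pairVal_eq ξ hc]
  set w : Subalgebra.center (kres M) (MonoidAlgebra (kres M) (cen Q)) :=
    ⟨resSub (cen Q) (blkIdem M B : MonoidAlgebra (kres M) G), isClassCoeff_iff_mem_center.1 hc⟩
    with hw
  have hp : IsPInv Q (blkIdem M B : MonoidAlgebra (kres M) G) := isPInv_of_isClassCoeff hbc Q
  have hww : w * w = w := Subtype.ext (by
    rw [MulMemClass.coe_mul]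
    show resSub (cen Q) _ * resSub (cen Q) _ = resSub (cen Q) _
    rw [← resSub_mul hM he.1 hp hp, ← MulMemClass.coe_mul, blkIdem_idem hM hB])
  constructor
  · intro h
    rw [sIdem, ← map_mul]
    refine congrArg _ ?_
    rw [show resSub (cen Q) (blkIdem M B : MonoidAlgebra (kres M) G) =
      (w : MonoidAlgebra (kres M) (cen Q)) from rfl, ← MulMemClass.coe_mul, mul_comm,
      mul_blkIdem_of_lam_eq_one hM hww he.2 hξ h]
  · intro h
    rw [sIdem, ← map_mul] at h
    have h1 : blkIdem M e * w = blkIdem M e := Subtype.ext (inclSub_injective _ h)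
    have h2 := congrArg (lam M ξ) h1
    rwa [map_mul, lam_blkIdem hM he.2, if_pos hξ, one_mul] at h2

/-- The block of `K` covers the block of `S`. -/
def Covers (M : Ideal AlgInt) [M.IsPrime] (S K : Subgroup G) (g : Set (IrrCharacter S))
    (g' : Set (IrrCharacter K)) : Prop :=
  sIdem M S g * sIdem M K g' = sIdem M S g

section Cover

variable {S K : Subgroup G} (hSK : S ≤ K) (hKS : K ≤ Subgroup.normalizer (S : Set G))
  (hsupp : ∀ g' : Set (IrrCharacter K), IsPBlock M g' → ∀ x ∉ S, (sIdem M K g').coeff x = 0)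

include hSK in
omit hM in
theorem isPInv_sIdem_sub (g' : Set (IrrCharacter K)) : IsPInv S (sIdem M K g') := fun u hu x =>
  inclSub_conj_invariant K (isClassCoeff_center (blkIdem M g')) (hSK hu) x

include hSK hsupp

theorem exists_covers {g : Set (IrrCharacter S)} (hg : IsPBlock M g) :
    ∃ g' : Set (IrrCharacter K), IsPBlock M g' ∧ Covers M S K g g' := by
  by_contra hne
  push Not at hne
  refine sIdem_ne_zero hM hg ?_
  calc sIdem M S g = sIdem M S g * ∑ g' ∈ allBlocks M K, sIdem M K g' := by
        rw [sum_sIdem hM, mul_one]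
    _ = 0 := by
      rw [Finset.mul_sum]
      refine Finset.sum_eq_zero fun g' hg' => ?_
      have h' := mem_allBlocks.1 hg'
      rw [sIdem_mul_comm g (hsupp g' h')]
      refine (mul_sIdem_eq hM hg (hsupp g' h') (sIdem_idem hM h')
        (isPInv_sIdem_sub hSK g')).resolve_left fun h => hne g' h' ?_
      rw [Covers, sIdem_mul_comm g (hsupp g' h'), h]

theorem exists_covered {g' : Set (IrrCharacter K)} (hg' : IsPBlock M g') :
    ∃ g : Set (IrrCharacter S), IsPBlock M g ∧ Covers M S K g g' := by
  obtain ⟨g, hg, h⟩ := exists_mul_sIdem hM (hsupp g' hg') (sIdem_idem hM hg')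
    (isPInv_sIdem_sub hSK g') (sIdem_ne_zero hM hg')
  exact ⟨g, hg, by rw [Covers, sIdem_mul_comm g (hsupp g' hg'), h]⟩

omit hSK hsupp in
theorem covers_unique {g : Set (IrrCharacter S)} (hg : IsPBlock M g)
    {g' h' : Set (IrrCharacter K)} (hg' : IsPBlock M g') (hh' : IsPBlock M h')
    (h1 : Covers M S K g g') (h2 : Covers M S K g h') : g' = h' := by
  by_contra hne
  refine sIdem_ne_zero hM hg ?_
  calc sIdem M S g = sIdem M S g * sIdem M K g' * sIdem M K h' := by rw [h1, h2]
    _ = 0 := by rw [mul_assoc, sIdem_mul_ne hM hg' hh' hne, mul_zero]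

theorem covers_mul_iff {g : Set (IrrCharacter S)} (hg : IsPBlock M g)
    {g' : Set (IrrCharacter K)} (hg' : IsPBlock M g') (hc : Covers M S K g g')
    {z : MonoidAlgebra (kres M) G} (hs : ∀ x ∉ S, z.coeff x = 0) (hid : z * z = z)
    (hinv : IsPInv K z) :
    sIdem M S g * z = sIdem M S g ↔ sIdem M K g' * z = sIdem M K g' := by
  have hsK : ∀ x ∉ K, z.coeff x = 0 := fun x hx => hs x fun h => hx (hSK h)
  have e : sIdem M K g' * z = z * sIdem M K g' := sIdem_mul_comm g' hsK
  constructor
  · intro h
    rcases mul_sIdem_eq hM hg' hsK hid hinv with h1 | h1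
    · rw [e, h1]
    · refine absurd ?_ (sIdem_ne_zero hM hg)
      calc sIdem M S g = sIdem M S g * z * sIdem M K g' := by rw [h, hc]
        _ = 0 := by rw [mul_assoc, h1, mul_zero]
  · intro h
    calc sIdem M S g * z = sIdem M S g * sIdem M K g' * z := by rw [hc]
      _ = sIdem M S g := by rw [mul_assoc, h, hc]

include hKS

/-- The blocks covered by one block are conjugate. -/
theorem exists_conjGA_eq {g h : Set (IrrCharacter S)} (hg : IsPBlock M g) (hh : IsPBlock M h)
    {g' : Set (IrrCharacter K)} (hg' : IsPBlock M g') (h1 : Covers M S K g g')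
    (h2 : Covers M S K h g') :
    ∃ a ∈ K, conjGA a (sIdem M S g) = sIdem M S h := by
  classical
  have := Fintype.ofFinite K
  set T := Finset.univ.image fun a : K => conjGA (a : G) (sIdem M S g) with hTdef
  have hT : ∀ t ∈ T, ∃ k : Set (IrrCharacter S), IsPBlock M k ∧ t = sIdem M S k := by
    intro t ht
    obtain ⟨a, -, rfl⟩ := Finset.mem_image.1 ht
    exact ⟨_, isPBlock_blockMap _ hg, conjGA_sIdem hM g (hKS a.2)⟩
  set s := ∑ t ∈ T, t with hs
  have hsS : ∀ x ∉ S, s.coeff x = 0 := by
    intro x hx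
    rw [hs, MonoidAlgebra.coeff_sum, Finsupp.finset_sum_apply]
    refine Finset.sum_eq_zero fun t ht => ?_
    obtain ⟨k, -, rfl⟩ := hT t ht
    exact coeff_sIdem_of_not_mem k hx
  have hid : s * s = s := by
    rw [hs, Finset.sum_mul]
    refine Finset.sum_congr rfl fun t ht => ?_
    rw [Finset.mul_sum]
    obtain ⟨k, hk, rfl⟩ := hT t ht
    rw [Finset.sum_eq_single_of_mem _ ht ?_, sIdem_idem hM hk]
    intro b hb hne
    obtain ⟨l, hl, rfl⟩ := hT b hb
    exact sIdem_mul_ne hM hk hl fun h => hne (by rw [h])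
  have hinv : IsPInv K s := by
    intro u hu x
    have e : conjGA u⁻¹ s = s := by
      rw [hs, conjGA_sum]
      refine Finset.sum_bij (fun t _ => conjGA u⁻¹ t) ?_ ?_ ?_ fun _ _ => rfl
      · intro t ht
        obtain ⟨a, -, rfl⟩ := Finset.mem_image.1 ht
        exact Finset.mem_image.2 ⟨⟨u⁻¹, inv_mem hu⟩ * a, Finset.mem_univ _,
          by rw [conjGA_conjGA]; rfl⟩
      · intro t _ t' _ e
        have := congrArg (conjGA u) e
        simpa [conjGA_conjGA, conjGA_one] using this
      · intro t ht
        obtain ⟨a, -, rfl⟩ := Finset.mem_image.1 ht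
        refine ⟨conjGA u (conjGA (a : G) (sIdem M S g)), Finset.mem_image.2
          ⟨⟨u, hu⟩ * a, Finset.mem_univ _, by rw [conjGA_conjGA]; rfl⟩, ?_⟩
        rw [conjGA_conjGA u⁻¹ u, inv_mul_cancel, conjGA_one]
    conv_rhs => rw [← e]
    rw [coeff_conjGA, inv_inv]
  have hsz : s * sIdem M K g' = s := by
    rw [hs, Finset.sum_mul]
    refine Finset.sum_congr rfl fun t ht => ?_
    obtain ⟨a, -, rfl⟩ := Finset.mem_image.1 ht
    have e := conjGA_mul (a : G) (sIdem M S g) (sIdem M K g')
    rw [show sIdem M S g * sIdem M K g' = sIdem M S g from h1,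
      conjGA_sIdem_of_mem g' a.2] at e
    exact e.symm
  have hgT : sIdem M S g ∈ T :=
    Finset.mem_image.2 ⟨1, Finset.mem_univ _, conjGA_one _⟩
  have hs0 : s ≠ 0 := by
    intro h0
    refine sIdem_ne_zero hM hg ?_
    have : sIdem M S g * s = sIdem M S g := by
      rw [hs, Finset.mul_sum, Finset.sum_eq_single_of_mem _ hgT ?_, sIdem_idem hM hg]
      intro b hb hne
      obtain ⟨l, hl, rfl⟩ := hT b hb
      exact sIdem_mul_ne hM hg hl fun h => hne (by rw [h])
    rw [h0, mul_zero] at this
    exact this.symm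
  have hsK : ∀ x ∉ K, s.coeff x = 0 := fun x hx => hsS x fun h => hx (hSK h)
  have hseq : sIdem M K g' = s := by
    rcases mul_sIdem_eq hM hg' hsK hid hinv with h | h
    · rw [← hsz, h]
    · exact absurd (hsz ▸ h) hs0
  have hhs : sIdem M S h * s = sIdem M S h := by rw [← hseq]; exact h2
  by_contra hne
  push Not at hne
  refine sIdem_ne_zero hM hh ?_
  rw [← hhs, hs, Finset.mul_sum]
  refine Finset.sum_eq_zero fun t ht => ?_
  obtain ⟨a, -, rfl⟩ := Finset.mem_image.1 ht
  obtain ⟨k, hk, hka⟩ := hT _ ht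
  rw [hka]
  exact sIdem_mul_ne hM hh hk fun e => hne a a.2 (by rw [hka, e])

end Cover

end CfsgLib.BlockA
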