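import Cfsg.Agent.Lib.BlockA.BrauerMax

/-! Brauer pairs of a subgroup `T` read in the whole group. -/

set_option autoImplicit false
set_option linter.unusedSectionVars false

namespace CfsgLib.BlockA

open Cfsg CfsgLib.Block MonoidAlgebra

universe u

variable {G : Type u} [Group G] [Finite G] {p : ℕ} {M : Ideal AlgInt} [M.IsPrime] {T : Subgroup G}

local notation "cen" Q => Subgroup.centralizer ((Q : Subgroup G) : Set G)

/-- The centralizer of `R` in `T` is the centralizer of `S` in `G`. -/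
def CenEq (R : Subgroup T) (S : Subgroup G) : Prop :=
  (Subgroup.centralizer (R : Set T)).map T.subtype = cen S

theorem cenEq_iff (R : Subgroup T) (S : Subgroup G) :
    CenEq R S ↔ (cen S) ≤ T ∧
      ∀ t : T, t ∈ Subgroup.centralizer (R : Set T) ↔ (t : G) ∈ cen S := by
  constructor
  · intro h
    rw [CenEq] at h
    refine ⟨h ▸ Subgroup.map_subtype_le _, fun t => ?_⟩
    rw [← h, Subgroup.mem_map]
    exact ⟨fun ht => ⟨t, ht, rfl⟩, fun ⟨t', ht', e⟩ => Subtype.ext e ▸ ht'⟩
  · rintro ⟨hle, h⟩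
    refine le_antisymm ?_ fun s hs => ⟨⟨s, hle hs⟩, (h _).2 hs, rfl⟩
    rintro _ ⟨t, ht, rfl⟩
    exact (h t).1 ht

theorem cenEq_subgroupOf {S : Subgroup G} (hS : S ≤ T) (hC : (cen S) ≤ T) :
    CenEq (S.subgroupOf T) S := by
  refine (cenEq_iff _ _).2 ⟨hC, fun t => ?_⟩
  rw [Subgroup.mem_centralizer_iff, Subgroup.mem_centralizer_iff]
  refine ⟨fun h s hs => congrArg Subtype.val (h ⟨s, hS hs⟩ hs), fun h r hr => ?_⟩
  exact Subtype.ext (h r hr)

/-- The isomorphism between the two centralizers. -/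
noncomputable def cenIso {R : Subgroup T} {S : Subgroup G} (h : CenEq R S) :
    Subgroup.centralizer (R : Set T) ≃* (cen S) :=
  (Subgroup.equivMapOfInjective _ T.subtype (Subgroup.subtype_injective T)).trans
    (MulEquiv.subgroupCongr h)

theorem coe_cenIso {R : Subgroup T} {S : Subgroup G} (h : CenEq R S)
    (c : Subgroup.centralizer (R : Set T)) : ((cenIso h c : (cen S)) : G) = ((c : T) : G) := rfl

/-- A block of the centralizer in `G`, read in `T`. -/
noncomputable def subBlock {R : Subgroup T} {S : Subgroup G} (h : CenEq R S)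
    (g : Set (IrrCharacter (cen S))) : Set (IrrCharacter (Subgroup.centralizer (R : Set T))) :=
  blockMap (cenIso h) g

theorem isPBlock_subBlock {R : Subgroup T} {S : Subgroup G} (h : CenEq R S)
    {g : Set (IrrCharacter (cen S))} (hg : IsPBlock M g) : IsPBlock M (subBlock h g) :=
  isPBlock_blockMap _ hg

theorem exists_subBlock_eq {R : Subgroup T} {S : Subgroup G} (h : CenEq R S)
    {d : Set (IrrCharacter (Subgroup.centralizer (R : Set T)))} (hd : IsPBlock M d) :
    ∃ g : Set (IrrCharacter (cen S)), IsPBlock M g ∧ d = subBlock h g := by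
  refine ⟨blockMap (cenIso h).symm d, isPBlock_blockMap _ hd, Set.ext fun ξ => ?_⟩
  rw [subBlock, mem_blockMap_iff]
  constructor
  · exact fun hξ => ⟨ξ, hξ, rfl⟩
  · rintro ⟨ξ', hξ', e⟩
    rwa [← irrMap_injective (cenIso h).symm e]

theorem subBlock_injective {R : Subgroup T} {S : Subgroup G} (h : CenEq R S) :
    Function.Injective (subBlock (G := G) h) := fun _ _ e =>
  Set.image_injective.2 (irrMap_injective (cenIso h)) e

theorem coeff_sIdem_subBlock {R : Subgroup T} {S : Subgroup G} (h : CenEq R S)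
    (g : Set (IrrCharacter (cen S))) (t : T) :
    (sIdem M (Subgroup.centralizer (R : Set T)) (subBlock h g)).coeff t =
      (sIdem M (cen S) g).coeff (t : G) := by
  by_cases ht : t ∈ Subgroup.centralizer (R : Set T)
  · rw [sIdem, sIdem, show t = ((⟨t, ht⟩ : Subgroup.centralizer (R : Set T)) : T) from rfl,
      coeff_inclSub_of_mem, show (((⟨t, ht⟩ : Subgroup.centralizer (R : Set T)) : T) : G) =
        ((cenIso h ⟨t, ht⟩ : (cen S)) : G) from rfl, coeff_inclSub_of_mem, coeff_blkIdem,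
      coeff_blkIdem, subBlock, blockCoeff_blockMap]
  · have ht' : (t : G) ∉ cen S := fun hh => ht (((cenEq_iff R S).1 h).2 t |>.2 hh)
    rw [sIdem, sIdem, coeff_inclSub_of_not_mem _ _ ht, coeff_inclSub_of_not_mem _ _ ht']

theorem pairVal_subBlock {R : Subgroup T} {S : Subgroup G} (h : CenEq R S) (ξ : IrrCharacter (cen S))
    {a : MonoidAlgebra (kres M) T} {a' : MonoidAlgebra (kres M) G} (ha' : IsCInv S a')
    (hcoef : ∀ t : T, (t : G) ∈ (cen S) → a.coeff t = a'.coeff (t : G)) :
    IsCInv R a ∧ pairVal R (irrMap (cenIso h) ξ) a = pairVal S ξ a' := by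
  have hc : ∀ c : Subgroup.centralizer (R : Set T),
      a.coeff (c : T) = a'.coeff ((cenIso h c : (cen S)) : G) := fun c => by
    rw [coe_cenIso]
    exact hcoef _ ((cenIso h c).2)
  have ha : IsCInv R a := by
    intro c d
    have := ha' (cenIso h c) (cenIso h d)
    simp only [coeff_resSub] at this ⊢
    rw [hc, hc, map_mul, map_mul, map_inv]
    exact this
  refine ⟨ha, ?_⟩
  rw [pairVal_eq _ ha, pairVal_eq ξ ha']
  refine lam_irrMap (cenIso h) ξ _ _ fun c => ?_
  simp only [coeff_resSub]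
  exact hc c

theorem isBrauerPair_subBlock {S : Subgroup G} (h : CenEq (S.subgroupOf T) S)
    {g : Set (IrrCharacter (cen S))} (hg : IsBrauerPair p M S g) :
    IsBrauerPair p M (S.subgroupOf T) (subBlock h g) :=
  ⟨hg.1.comap_subtype, isPBlock_subBlock h hg.2⟩

/-- The stabiliser read in `T`. -/
theorem mem_normalizer_subgroupOf {S : Subgroup G} (hS : S ≤ T) (t : T) :
    t ∈ Subgroup.normalizer ((S.subgroupOf T : Subgroup T) : Set T) ↔
      (t : G) ∈ Subgroup.normalizer (S : Set G) := by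
  rw [← Subgroup.subgroupOf_normalizer_eq hS, Subgroup.mem_subgroupOf]

variable (hM : IsPModular p M)
include hM

theorem stabilizesBlock_subBlock {S : Subgroup G} (hS : S ≤ T) (h : CenEq (S.subgroupOf T) S)
    {g : Set (IrrCharacter (cen S))} (hg : IsPBlock M g) (t : T)
    (ht : (t : G) ∈ Subgroup.normalizer (S : Set G)) :
    StabilizesBlock (Subgroup.centralizer ((S.subgroupOf T : Subgroup T) : Set T)) (subBlock h g) t ↔
      StabilizesBlock (cen S) g (t : G) := by
  rw [stabilizesBlock_iff_coeff hM hg ht,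
    stabilizesBlock_iff_coeff hM (isPBlock_subBlock h hg) ((mem_normalizer_subgroupOf hS t).2 ht)]
  constructor
  · intro H x
    by_cases hx : x ∈ cen S
    · have := H ⟨x, ((cenEq_iff _ S).1 h).1 hx⟩
      rw [coeff_sIdem_subBlock, coeff_sIdem_subBlock] at this
      simpa using this
    · have hx' : (t : G)⁻¹ * x * (t : G) ∉ cen S := fun hh => hx (by
        simpa [mul_assoc] using (Subgroup.mem_normalizer_iff.1
          (normalizer_le_normalizer_centralizer hM S ht) _).1 hh)
      rw [sIdem, coeff_inclSub_of_not_mem _ _ hx, coeff_inclSub_of_not_mem _ _ hx']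
  · intro H x
    rw [coeff_sIdem_subBlock, coeff_sIdem_subBlock]
    simpa using H (x : G)

/-- Normal inclusions read in `T`. -/
theorem isNormalSubpair_subBlock_iff {R S : Subgroup G} (hR : R ≤ T) (hS : S ≤ T)
    (hRc : CenEq (R.subgroupOf T) R) (hSc : CenEq (S.subgroupOf T) S)
    {f : Set (IrrCharacter (cen R))} {g : Set (IrrCharacter (cen S))}
    (hf : IsBrauerPair p M R f) (hg : IsBrauerPair p M S g) :
    IsNormalSubpair p M (R.subgroupOf T) (subBlock hRc f) (S.subgroupOf T) (subBlock hSc g) ↔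
      IsNormalSubpair p M R f S g := by
  obtain ⟨ξ, hξ⟩ := isPBlock_nonempty hg.2
  have hξ' : irrMap (cenIso hSc) ξ ∈ subBlock hSc g := ⟨ξ, hξ, rfl⟩
  rw [isNormalSubpair_iff hM hξ hg hf,
    isNormalSubpair_iff hM hξ' (isBrauerPair_subBlock hSc hg) (isBrauerPair_subBlock hRc hf)]
  have hval : R ≤ S → pairVal (S.subgroupOf T) (irrMap (cenIso hSc) ξ)
      (sIdem M (Subgroup.centralizer ((R.subgroupOf T : Subgroup T) : Set T)) (subBlock hRc f)) =
      pairVal S ξ (sIdem M (cen R) f) := fun hRS =>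
    (pairVal_subBlock hSc ξ (isCInv_sIdem hM hRS f) fun t _ => coeff_sIdem_subBlock hRc f t).2
  constructor
  · rintro ⟨h1, h2, h3, h4⟩
    have hRS : R ≤ S := fun r hr => h1 (show (⟨r, hR hr⟩ : T) ∈ R.subgroupOf T from hr)
    have hN : S ≤ Subgroup.normalizer (R : Set G) := fun s hs =>
      (mem_normalizer_subgroupOf hR ⟨s, hS hs⟩).1 (h2 hs)
    refine ⟨hRS, hN, fun x hx => ?_, hval hRS ▸ h4⟩
    exact (stabilizesBlock_subBlock hM hR hRc hf.2 ⟨x, hS hx⟩ (hN hx)).1 (h3 _ hx)
  · rintro ⟨h1, h2, h3, h4⟩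
    refine ⟨fun r hr => h1 hr, fun s hs => (mem_normalizer_subgroupOf hR s).2 (h2 hs),
      fun x hx => ?_, (hval h1).trans h4⟩
    exact (stabilizesBlock_subBlock hM hR hRc hf.2 x (h2 hx)).2 (h3 _ hx)

/-- Inclusions of pairs inside `T` read in `T`. -/
theorem subpairLE_subBlock {Q S : Subgroup G} {f : Set (IrrCharacter (cen Q))}
    {g : Set (IrrCharacter (cen S))} (hle : SubpairLE p M Q f S g)
    (hS : S ≤ T) (hC : (cen Q) ≤ T) :
    ∃ (h₁ : CenEq (Q.subgroupOf T) Q) (h₂ : CenEq (S.subgroupOf T) S),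
      SubpairLE p M (Q.subgroupOf T) (subBlock h₁ f) (S.subgroupOf T) (subBlock h₂ g) := by
  suffices H : ∀ a : BrauerPairIdx G, Relation.ReflTransGen (NormalSubpairRel p M) a ⟨S, g⟩ →
      (cen a.1) ≤ T → ∃ (h₁ : CenEq (a.1.subgroupOf T) a.1) (h₂ : CenEq (S.subgroupOf T) S),
        SubpairLE p M (a.1.subgroupOf T) (subBlock h₁ a.2) (S.subgroupOf T) (subBlock h₂ g) from
    H ⟨Q, f⟩ hle hC
  intro a ha
  induction ha using Relation.ReflTransGen.head_induction_on with
  | refl => exact fun hC => ⟨cenEq_subgroupOf hS hC, cenEq_subgroupOf hS hC,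
      Relation.ReflTransGen.refl⟩
  | @head a c hs hc ih =>
    intro hCa
    have hac : a.1 ≤ c.1 := hs.2.2.1
    have hcS : c.1 ≤ S := subpairLE_le hc
    have haT : a.1 ≤ T := hac.trans (hcS.trans hS)
    obtain ⟨h₁, h₂, hle'⟩ := ih ((centralizer_le_centralizer hac).trans hCa)
    refine ⟨cenEq_subgroupOf haT hCa, h₂, Relation.ReflTransGen.head ?_ hle'⟩
    exact (isNormalSubpair_subBlock_iff hM haT (hcS.trans hS) (cenEq_subgroupOf haT hCa) h₁
      hs.1 hs.2.1).2 hs

omit hM in
/-- Conjugation by an element of `T` read in `T`. -/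
theorem map_conj_subgroupOf {S : Subgroup G} (x : T) :
    (S.subgroupOf T).map (MulAut.conj x).toMonoidHom =
      (S.map (MulAut.conj (x : G)).toMonoidHom).subgroupOf T := by
  ext t
  rw [mem_map_conj_iff, Subgroup.mem_subgroupOf, Subgroup.mem_subgroupOf, mem_map_conj_iff]
  simp

theorem conjBlock_subBlock {S : Subgroup G} (x : T) (h : CenEq (S.subgroupOf T) S)
    (h' : CenEq ((S.map (MulAut.conj (x : G)).toMonoidHom).subgroupOf T)
      (S.map (MulAut.conj (x : G)).toMonoidHom))
    {g : Set (IrrCharacter (cen S))} (hg : IsPBlock M g) :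
    (⟨(S.subgroupOf T).map (MulAut.conj x).toMonoidHom, conjBlock _ x (subBlock h g)⟩ :
        BrauerPairIdx T) =
      ⟨_, subBlock h' (conjBlock S (x : G) g)⟩ := by
  refine pairIdx_ext hM (map_conj_subgroupOf x)
    (conjBlock_eq_blockMap _ x (subBlock h g) ▸ isPBlock_blockMap _ (isPBlock_subBlock h hg))
    (isPBlock_subBlock h' (conjBlock_eq_blockMap S (x : G) g ▸ isPBlock_blockMap _ hg)) ?_
  ext t
  rw [coeff_sIdem_conjBlock hM, coeff_sIdem_subBlock, coeff_sIdem_subBlock,
    coeff_sIdem_conjBlock hM]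
  simp

end CfsgLib.BlockA
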