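import Cfsg.Agent.Lib.Char.Induce
import Cfsg.Agent.Lib.Char.Inner
import Mathlib.Tactic

/-! Constituents of the restriction of an irreducible character to a normal subgroup: they exist
and are conjugate. -/

namespace CfsgLib.BlockA

open scoped ComplexConjugate

variable {G : Type*} [Group G] [Fintype G]

theorem exists_constituent (H : Subgroup G) [Fintype H] {χ : G → ℂ}
    (hχ : Cfsg.IsIrrCharacter G χ) :
    ∃ θ : Cfsg.IrrCharacter H, Cfsg.classInner (fun h : H => χ h) (θ : H → ℂ) ≠ 0 := by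
  by_contra h
  push Not at h
  have h0 := CfsgLib.Char.classFunction_eq_zero (f := fun n : H => χ n)
    (CfsgLib.Char.isCharacter_isClassFunction (CfsgLib.Char.isCharacter_restrict
      (CfsgLib.Char.irr_isCharacter hχ) H)) (fun ψ hψ => h ⟨ψ, hψ⟩)
  have h1 := congrFun h0 1
  simp only [OneMemClass.coe_one, Pi.zero_apply] at h1
  exact CfsgLib.Char.irr_apply_one_ne_zero hχ h1

/-- Conjugate of a character of a normal subgroup. -/
theorem isIrrCharacter_conjNormal (N : Subgroup G) [N.Normal] {θ : N → ℂ}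
    (hθ : Cfsg.IsIrrCharacter N θ) (g : G) :
    Cfsg.IsIrrCharacter N (fun n : N => θ (MulAut.conjNormal g n)) :=
  CfsgLib.Char.isIrrCharacter_comp_surjective hθ (MulAut.conjNormal g).toMonoidHom
    (MulAut.conjNormal g).surjective

theorem indFun_apply_normal (N : Subgroup G) [N.Normal] (η : N → ℂ) (n : N) :
    Cfsg.indFun N η (n : G) =
      (Nat.card N : ℂ)⁻¹ * ∑ g : G, η (MulAut.conjNormal g⁻¹ n) := by
  rw [CfsgLib.Char.indFun_def]
  congr 1
  refine Finset.sum_congr rfl fun g _ => ?_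
  have hv : g⁻¹ * (n : G) * g = ((MulAut.conjNormal g⁻¹ n : N) : G) := by simp
  rw [hv, CfsgLib.Char.extendByZero_coe]

/-- Two constituents of the restriction of an irreducible character to a normal subgroup are
conjugate. -/
theorem exists_conj_of_constituents (N : Subgroup G) [N.Normal] [Fintype N] {χ : G → ℂ}
    (hχ : Cfsg.IsIrrCharacter G χ) {θ η : N → ℂ} (hθ : Cfsg.IsIrrCharacter N θ)
    (hη : Cfsg.IsIrrCharacter N η)
    (h1 : Cfsg.classInner (fun n : N => χ n) θ ≠ 0)
    (h2 : Cfsg.classInner (fun n : N => χ n) η ≠ 0) :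
    ∃ g : G, θ = fun n : N => η (MulAut.conjNormal g n) := by
  classical
  have := Fintype.ofFinite (Cfsg.IrrCharacter G)
  have hcθ := CfsgLib.Char.isCharacter_indFun N (CfsgLib.Char.irr_isCharacter hθ)
  have hcη := CfsgLib.Char.isCharacter_indFun N (CfsgLib.Char.irr_isCharacter hη)
  choose a ha using fun ψ : Cfsg.IrrCharacter G =>
    CfsgLib.Char.classInner_isCharacter_nat hcθ (CfsgLib.Char.irr_isCharacter ψ.2)
  choose b hb using fun ψ : Cfsg.IrrCharacter G =>
    CfsgLib.Char.classInner_isCharacter_nat hcη (CfsgLib.Char.irr_isCharacter ψ.2)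
  have hval : Cfsg.classInner (Cfsg.indFun N θ) (Cfsg.indFun N η) =
      ((∑ ψ, a ψ * b ψ : ℕ) : ℂ) := by
    rw [CfsgLib.Char.classInner_eq_sum_mul (CfsgLib.Char.indFun_isClassFunction N θ)]
    simp [ha, hb, Complex.conj_natCast]
  have hne : ∀ {φ : N → ℂ}, Cfsg.classInner (fun n : N => χ n) φ ≠ 0 →
      Cfsg.classInner (Cfsg.indFun N φ) χ ≠ 0 := by
    intro φ hφ
    rw [CfsgLib.Char.frobenius_reciprocity N φ χ (CfsgLib.Char.irr_isClassFunction hχ),
      ← CfsgLib.Char.classInner_conj_symm]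
    simpa using hφ
  have hpos : (∑ ψ, a ψ * b ψ) ≠ 0 := by
    have ha0 : a ⟨χ, hχ⟩ ≠ 0 := by
      have := hne h1
      rw [ha ⟨χ, hχ⟩] at this
      exact_mod_cast this
    have hb0 : b ⟨χ, hχ⟩ ≠ 0 := by
      have := hne h2
      rw [hb ⟨χ, hχ⟩] at this
      exact_mod_cast this
    intro h
    exact Nat.mul_ne_zero ha0 hb0 (Finset.sum_eq_zero_iff.1 h ⟨χ, hχ⟩ (Finset.mem_univ _))
  by_contra hcon
  push Not at hcon
  have hzero : Cfsg.classInner (Cfsg.indFun N θ) (Cfsg.indFun N η) = 0 := by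
    rw [CfsgLib.Char.frobenius_reciprocity N θ _ (CfsgLib.Char.indFun_isClassFunction N η)]
    have hfun : (fun n : N => Cfsg.indFun N η (n : G)) =
        (Nat.card N : ℂ)⁻¹ • ∑ g : G, (fun n : N => η (MulAut.conjNormal g⁻¹ n)) := by
      funext n
      rw [indFun_apply_normal]
      simp [Finset.sum_apply]
    rw [hfun, CfsgLib.Char.classInner_smul_right, CfsgLib.Char.classInner_sum_right,
      Finset.sum_eq_zero, mul_zero]
    intro g _
    exact CfsgLib.Char.irr_classInner_ne hθ (isIrrCharacter_conjNormal N hη g⁻¹) (hcon g⁻¹)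
  rw [hval] at hzero
  exact hpos (by exact_mod_cast hzero)

end CfsgLib.BlockA
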