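import Cfsg.Agent.Lib.BlockA.Glauberman
import Cfsg.Agent.Lib.BlockA.CliffordBasic
import Cfsg.Agent.Lib.BlockB.InvolutionSum
import Cfsg.Agent.Lib.Char.Brauer
import Mathlib.GroupTheory.Transfer
import Mathlib.RingTheory.Ideal.Quotient.Operations
import Mathlib.Algebra.CharP.Quotient
import Mathlib.Algebra.CharP.Lemmas

/-! The indicator of the `p`-regular elements times the full `p`-part of the order is a generalized
character, and elementary congruences at `p`-elements. -/

namespace CfsgLib.BlockA

open scoped ComplexConjugate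

variable {G : Type*} [Group G]

/-- The indicator function of the `p`-regular elements. -/
noncomputable def regInd (p : ℕ) (g : G) : ℂ := if p ∣ orderOf g then 0 else 1

theorem regInd_isClassFunction (p : ℕ) : Cfsg.IsClassFunction G (regInd p) := fun g h => by
  unfold regInd
  have : orderOf (h * g * h⁻¹) = orderOf g :=
    orderOf_injective (MulAut.conj h).toMonoidHom (MulAut.conj h).injective g
  simp only [this]

theorem not_dvd_orderOf_one {p : ℕ} (hp : p.Prime) : ¬ p ∣ orderOf (1 : G) := by
  simp [hp.one_lt.ne']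

variable {p : ℕ} [Fact p.Prime]

/-- An elementary group has a subgroup consisting of exactly its `p`-regular elements. -/
theorem exists_regular_subgroup {E : Type*} [Group E] [Finite E] {q : ℕ} (hq : q.Prime)
    (hE : Cfsg.IsElementary q E) :
    ∃ R : Subgroup E, ∀ y : E, y ∈ R ↔ ¬ p ∣ orderOf y := by
  have hp := (Fact.out : p.Prime)
  obtain ⟨x, hx, hcop, k, hk⟩ := hE
  have hle : Subgroup.zpowers x ≤ Subgroup.center E := Subgroup.zpowers_le.2 hx
  have hn : (Subgroup.zpowers x).Normal := by
    constructor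
    intro a ha g
    rw [(Subgroup.mem_center_iff.1 (hle ha) g), mul_inv_cancel_right]
    exact ha
  by_cases hpq : q = p
  · subst hpq
    refine ⟨Subgroup.zpowers x, fun y => ⟨fun hy hd => ?_, fun hy => ?_⟩⟩
    · obtain ⟨i, rfl⟩ := Subgroup.mem_zpowers_iff.1 hy
      have h1 : orderOf (x ^ i) ∣ orderOf x :=
        orderOf_dvd_of_mem_zpowers (Subgroup.mem_zpowers_iff.2 ⟨i, rfl⟩)
      exact hq.not_dvd_one (hcop ▸ Nat.dvd_gcd (hd.trans h1) dvd_rfl)
    · have h1 : orderOf (y : E ⧸ Subgroup.zpowers x) ∣ q ^ k := by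
        rw [← hk, Subgroup.index_eq_card]
        exact orderOf_dvd_natCard _
      have h2 : orderOf (y : E ⧸ Subgroup.zpowers x) ∣ orderOf y :=
        orderOf_map_dvd (QuotientGroup.mk' _) y
      have h3 : (q ^ k).Coprime (orderOf y) :=
        Nat.Coprime.pow_left k (hq.coprime_iff_not_dvd.2 hy)
      have h4 := Nat.dvd_gcd h1 h2
      rw [h3.gcd_eq_one, Nat.dvd_one, orderOf_eq_one_iff, QuotientGroup.eq_one_iff] at h4
      exact h4
  · -- the map `y ↦ y ^ n`, with `n` the part of the order prime to `p`, is a homomorphism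
    set n := ordCompl[p] (Nat.card E) with hn'
    have hidx : (Subgroup.center E).index ∣ n := by
      refine Nat.dvd_trans (Subgroup.index_dvd_of_le hle) ?_
      rw [hk]
      refine (Nat.Coprime.pow_left k ?_).dvd_of_dvd_mul_left
        (m := ordProj[p] (Nat.card E)) ?_
      · exact Nat.Coprime.pow_right _ ((Nat.coprime_primes hq hp).2 hpq)
      · rw [hn', Nat.ordProj_mul_ordCompl_eq_self, ← hk]
        exact Subgroup.index_dvd_card _
    obtain ⟨c, hc⟩ := hidx
    let f : E →* Subgroup.center E :=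
      { toFun := fun y => MonoidHom.transferCenterPow E y ^ c
        map_one' := by simp
        map_mul' := fun a b => by
          rw [map_mul, Commute.mul_pow]
          exact Subtype.ext (Subgroup.mem_center_iff.1 (MonoidHom.transferCenterPow E b).2 _) }
    have hf : ∀ y : E, (f y : E) = y ^ n := fun y => by
      simp [f, hc, pow_mul]
    refine ⟨f.ker, fun y => ?_⟩
    rw [MonoidHom.mem_ker, ← OneMemClass.coe_eq_one, hf, ← orderOf_dvd_iff_pow_eq_one]
    refine ⟨fun h hd => Nat.not_dvd_ordCompl hp Nat.card_pos.ne' (hd.trans h), fun h => ?_⟩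
    refine ((hp.coprime_iff_not_dvd.2 h).symm.pow_right _).dvd_of_dvd_mul_left
      (m := ordProj[p] (Nat.card E)) ?_
    rw [hn', Nat.ordProj_mul_ordCompl_eq_self]
    exact orderOf_dvd_natCard y

/-- On a group with a subgroup of all regular elements, the indicator is a generalized character
up to the `p`-part of the order. -/
theorem isGeneralized_regInd_of_subgroup {E : Type*} [Group E] [Finite E] {N : ℕ}
    (hN : ordProj[p] (Nat.card E) ∣ N) (R : Subgroup E)
    (hR : ∀ y : E, y ∈ R ↔ ¬ p ∣ orderOf y) :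
    Cfsg.IsGeneralizedCharacter E (fun y => (N : ℂ) * regInd p y) := by
  classical
  have hp := (Fact.out : p.Prime)
  have := Fintype.ofFinite E
  have := Fintype.ofFinite R
  have hn : R.Normal := by
    constructor
    intro a ha g
    rw [hR] at ha ⊢
    rwa [show orderOf (g * a * g⁻¹) = orderOf a from
      orderOf_injective (MulAut.conj g).toMonoidHom (MulAut.conj g).injective a]
  have hcop : ¬ p ∣ Nat.card R := by
    intro hd
    obtain ⟨z, hz⟩ := exists_prime_orderOf_dvd_card' p hd
    exact (hR z).1 z.2 (by rw [Subgroup.orderOf_coe, hz])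
  have hidx : R.index ∣ ordProj[p] (Nat.card E) := by
    have hP : IsPGroup p (E ⧸ R) := by
      intro z
      obtain ⟨y, rfl⟩ := QuotientGroup.mk_surjective z
      refine ⟨(orderOf y).factorization p, ?_⟩
      rw [← QuotientGroup.mk_pow, QuotientGroup.eq_one_iff, hR, orderOf_pow,
        Nat.gcd_eq_right (Nat.ordProj_dvd _ _)]
      exact Nat.not_dvd_ordCompl hp (orderOf_pos y).ne'
    obtain ⟨m, hm⟩ := (IsPGroup.iff_card).1 hP
    rw [Subgroup.index_eq_card, hm]
    refine Nat.pow_dvd_pow p ?_
    rw [← hp.pow_dvd_iff_le_factorization Nat.card_pos.ne', ← hm, ← Subgroup.index_eq_card]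
    exact Subgroup.index_dvd_card R
  obtain ⟨c, hc⟩ := hidx.trans hN
  have hval : (fun y => (N : ℂ) * regInd p y) =
      (c : ℂ) • Cfsg.indFun R (fun _ : R => (1 : ℂ)) := by
    funext y
    rw [Pi.smul_apply, smul_eq_mul, regInd]
    by_cases hy : p ∣ orderOf y
    · have : Cfsg.indFun R (fun _ : R => (1 : ℂ)) y = 0 := by
        rw [CfsgLib.Char.indFun_def, Finset.sum_eq_zero, mul_zero]
        intro z _
        refine CfsgLib.Char.extendByZero_of_not_mem _ fun hz => ?_
        have h1 := hn.conj_mem _ hz z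
        rw [show z * (z⁻¹ * y * z) * z⁻¹ = y by group, hR] at h1
        exact h1 hy
      rw [if_pos hy, this, mul_zero, mul_zero]
    · have hy' : y ∈ R := (hR y).2 hy
      rw [if_neg hy, show y = ((⟨y, hy'⟩ : R) : E) from rfl, indFun_apply_normal, mul_one, hc]
      simp only [Finset.sum_const, Finset.card_univ, nsmul_eq_mul, mul_one, Nat.cast_mul,
        ← Nat.card_eq_fintype_card]
      rw [← R.card_mul_index, Nat.cast_mul, inv_mul_cancel_left₀
        (by exact_mod_cast Nat.card_pos.ne' : (Nat.card R : ℂ) ≠ 0)]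
      ring
  rw [hval]
  have h := CfsgLib.Char.isGeneralized_zsmul (CfsgLib.Char.isGeneralized_indFun R
    (CfsgLib.Char.isGeneralized_of_isCharacter
      (CfsgLib.Char.isCharacter_one (G := R)))) (c : ℤ)
  simpa [← Nat.cast_smul_eq_nsmul ℂ] using h

/-- `|G|_p` times the indicator of the regular elements is a generalized character. -/
theorem isGeneralized_regInd [Finite G] :
    Cfsg.IsGeneralizedCharacter G
      (fun g => ((p ^ (Nat.card G).factorization p : ℕ) : ℂ) * regInd p g) := by
  have := Fintype.ofFinite G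
  refine CfsgLib.Char.brauer_characterization
    (fun g h => by simp only [regInd_isClassFunction p g h]) fun E q hq hE => ?_
  obtain ⟨R, hR⟩ := exists_regular_subgroup (p := p) hq hE
  have h := isGeneralized_regInd_of_subgroup
    (N := p ^ (Nat.card G).factorization p)
    (Nat.pow_dvd_pow p ((Nat.factorization_le_iff_dvd Nat.card_pos.ne' Nat.card_pos.ne').2
      (Subgroup.card_subgroup_dvd_card E) p)) R hR
  have he : (fun e : E => ((p ^ (Nat.card G).factorization p : ℕ) : ℂ) * regInd p (e : G)) =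
      fun e : E => ((p ^ (Nat.card G).factorization p : ℕ) : ℂ) * regInd p e := by
    funext e
    simp only [regInd, Subgroup.orderOf_coe]
  rw [he]
  exact h

/-- A generalized character vanishing on the nontrivial elements of a subgroup has degree
divisible by the order of the subgroup. -/
theorem exists_apply_one_eq_card_mul [Finite G] {θ : G → ℂ}
    (hθ : Cfsg.IsGeneralizedCharacter G θ) (P : Subgroup G)
    (h0 : ∀ u ∈ P, u ≠ 1 → θ u = 0) : ∃ k : ℤ, θ 1 = (Nat.card P : ℂ) * k := by
  classical
  have := Fintype.ofFinite G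
  have := Fintype.ofFinite P
  obtain ⟨χ, ψ, hχ, hψ, rfl⟩ := hθ
  have hgen : Cfsg.IsGeneralizedCharacter P (fun u : P => (χ - ψ) u) :=
    CfsgLib.Char.isGeneralized_sub
      (CfsgLib.Char.isGeneralized_of_isCharacter (CfsgLib.Char.isCharacter_restrict hχ P))
      (CfsgLib.Char.isGeneralized_of_isCharacter (CfsgLib.Char.isCharacter_restrict hψ P))
  obtain ⟨k, hk⟩ := CfsgLib.Char.classInner_isGeneralized_int hgen
    (CfsgLib.Char.isGeneralized_of_isCharacter (CfsgLib.Char.isCharacter_one (G := P)))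
  refine ⟨k, ?_⟩
  rw [← hk, CfsgLib.Char.classInner_def, ← mul_assoc,
    mul_inv_cancel₀ (by exact_mod_cast Nat.card_pos.ne' : (Nat.card P : ℂ) ≠ 0), one_mul,
    Finset.sum_eq_single 1]
  · simp
  · intro u _ hu
    rw [h0 _ u.2 (fun h => hu (Subtype.ext h)), zero_mul]
  · simp

theorem dvd_orderOf_of_mem [Finite G] {P : Subgroup G} (hP : IsPGroup p P) {u : G}
    (hu : u ∈ P) (h1 : u ≠ 1) : p ∣ orderOf u := by
  obtain ⟨j, hj⟩ := (IsPGroup.iff_orderOf.1 hP) ⟨u, hu⟩
  rw [Subgroup.orderOf_mk] at hj
  rcases Nat.eq_zero_or_pos j with rfl | h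
  · rw [pow_zero, orderOf_eq_one_iff] at hj
    exact absurd hj h1
  · rw [hj]
    exact dvd_pow_self p h.ne'

/-- The `p ^ j`-th power of a character value at an element of order `p ^ j` is the degree
modulo `p`. -/
theorem pDiv_pow_sub_apply_one [Finite G] {χ : G → ℂ} (hχ : Cfsg.IsCharacter G χ) (g : G)
    {j : ℕ} (hg : orderOf g = p ^ j) : PDiv p (χ g ^ p ^ j - χ 1) := by
  have hp := (Fact.out : p.Prime)
  obtain ⟨n, ρ, rfl⟩ := hχ
  obtain ⟨ι, hι, b, μ, -, hμ, hval, -⟩ := CfsgLib.Char.exists_char_eigen ρ g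
  have hint : ∀ i, IsIntegral ℤ (μ i) := fun i =>
    ⟨Polynomial.X ^ orderOf g - Polynomial.C 1,
      Polynomial.monic_X_pow_sub_C 1 (orderOf_pos g).ne', by simp [hμ i]⟩
  let z : ι → Cfsg.AlgInt := fun i => ⟨μ i, hint i⟩
  set I : Ideal Cfsg.AlgInt := Ideal.span {(p : Cfsg.AlgInt)} with hI
  have hnu : (p : Cfsg.AlgInt) ∈ nonunits Cfsg.AlgInt := by
    intro hu
    obtain ⟨w, hw⟩ := hu.exists_right_inv
    have h1 : PDiv p ((1 : ℕ) : ℂ) := by
      have h2 := congrArg (Subalgebra.val (integralClosure ℤ ℂ)) hw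
      simp only [map_mul, map_natCast, map_one] at h2
      rw [Nat.cast_one, PDiv, ← h2,
        mul_div_cancel_left₀ _ (Nat.cast_ne_zero.2 hp.ne_zero)]
      exact w.2
    exact hp.not_dvd_one ((pDiv_natCast_iff 1).1 h1)
  have : CharP (Cfsg.AlgInt ⧸ I) p := CharP.quotient _ p hnu
  have key : (∑ i, z i) ^ p ^ j - ∑ i, z i ^ p ^ j ∈ I := by
    rw [← Ideal.Quotient.eq_zero_iff_mem, map_sub, map_pow, map_sum, map_sum,
      sum_pow_char_pow]
    simp [map_pow]
  obtain ⟨w, hw⟩ := Ideal.mem_span_singleton'.1 key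
  have h2 := congrArg (Subalgebra.val (integralClosure ℤ ℂ)) hw
  simp only [map_mul, map_natCast, map_sub, map_sum, map_pow, Subalgebra.coe_val, z] at h2
  have h3 : ρ.character g ^ p ^ j - ρ.character 1 = (w : ℂ) * p := by
    rw [h2]
    have e1 := hval 1
    have e0 := hval 0
    simp only [pow_one, pow_zero] at e1 e0
    rw [e1, e0]
    congr 1
    exact Finset.sum_congr rfl fun i _ => by rw [← hg, hμ i]
  rw [PDiv, h3, mul_div_cancel_right₀ _ (Nat.cast_ne_zero.2 hp.ne_zero)]
  exact w.2

/-- A character sum over the regular elements is divisible by the degree. -/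
theorem isIntegral_sum_regInd_div [Fintype G] (χ ψ : Cfsg.IrrCharacter G) :
    IsIntegral ℤ ((∑ g : G, regInd p g * (χ : G → ℂ) g * conj ((ψ : G → ℂ) g)) /
      (χ : G → ℂ) 1) := by
  classical
  have := Finite.of_surjective _ (ConjClasses.mk_surjective (α := G))
  have := Fintype.ofFinite (ConjClasses G)
  have hF : Cfsg.IsClassFunction G
      (fun g => regInd p g * (χ : G → ℂ) g * conj ((ψ : G → ℂ) g)) := fun g h => by
    simp only [regInd_isClassFunction p g h, CfsgLib.Char.irr_isClassFunction χ.2 g h,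
      CfsgLib.Char.irr_isClassFunction ψ.2 g h]
  rw [CfsgLib.BlockB.sum_eq_sum_conjClasses hF, Finset.sum_div]
  refine IsIntegral.sum _ fun C _ => ?_
  set g := Quotient.out C
  have h1 : ((Subgroup.centralizer ({g} : Set G)).index : ℂ) *
      (regInd p g * (χ : G → ℂ) g * conj ((ψ : G → ℂ) g)) / (χ : G → ℂ) 1 =
      Cfsg.centralChar (χ : G → ℂ) g * (regInd p g * (ψ : G → ℂ) g⁻¹) := by
    rw [CfsgLib.Char.char_inv (CfsgLib.Char.irr_isCharacter ψ.2), Cfsg.centralChar]
    ring
  rw [h1]
  refine (CfsgLib.BlockB.irr_centralChar_isIntegral χ g).mul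
    (IsIntegral.mul ?_ (CfsgLib.BlockB.irr_isIntegral ψ _))
  unfold regInd
  split_ifs
  · exact isIntegral_zero
  · exact isIntegral_one

end CfsgLib.BlockA
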