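import Cfsg.Agent.Lib.BlockB.RegRank
import Cfsg.Agent.Lib.Block.SecondMain
import Cfsg.Agent.Lib.Block.RegularSum

/-! Blocks with central defect group. -/

set_option autoImplicit false
set_option linter.unusedSectionVars false
set_option maxHeartbeats 1000000

namespace CfsgLib.BlockA

open Cfsg CfsgLib.Block MonoidAlgebra
open scoped ComplexConjugate

universe u

variable {G : Type u} [Group G] [Fintype G] {p : ℕ} {M : Ideal AlgInt} [M.IsPrime]

/-- Central elements act by a scalar. -/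
theorem irr_central_mul (χ : IrrCharacter G) {z : G} (hz : ∀ w, z * w = w * z) (y : G) :
    (χ : G → ℂ) (z * y) = (χ : G → ℂ) z / (χ : G → ℂ) 1 * (χ : G → ℂ) y := by
  classical
  have hcl : IsClassCoeff (MonoidAlgebra.single z (1 : ℂ)) := by
    intro g h
    simp only [MonoidAlgebra.coeff_single, Finsupp.single_apply]
    refine if_congr ⟨fun e => ?_, fun e => ?_⟩ rfl rfl
    · calc z = h⁻¹ * z * h := by rw [mul_assoc, hz, inv_mul_cancel_left]
        _ = g := by rw [e]; group
    · rw [← e, mul_assoc, hz, mul_inv_cancel_left]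
  have hstep : ∀ v : G, (χ : G → ℂ) (z * v) =
      omegaC (χ : G → ℂ) (MonoidAlgebra.single z (1 : ℂ)) * (χ : G → ℂ) v := by
    intro v
    rw [← chiExt_one (χ : G → ℂ) v, ← chiExt_mul_central χ.2 1 hcl v, one_mul, chiExt_eq,
      Finset.sum_eq_single z]
    · simp
    · intro k _ hk
      simp [Ne.symm hk]
    · simp
  have h1 := hstep 1
  rw [mul_one] at h1
  rw [hstep, h1, mul_div_assoc, div_self (CfsgLib.Char.irr_apply_one_ne_zero χ.2), mul_one]

variable (hM : IsPModular p M) {B : Set (IrrCharacter G)} (hB : IsPBlock M B) {P : Subgroup G}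
  (hD : IsDefectGroup p M B P) (hPZ : P ≤ Subgroup.center G)
include hM hB hD hPZ

theorem isPPart_central_mul {z y : G} (hz : z ∈ P) (hy : ¬ p ∣ orderOf y) :
    IsPPart p (z * y) z := by
  have := Fact.mk hM.1
  obtain ⟨k, hk⟩ := (IsPGroup.iff_orderOf.1 (isPGroup_defectGroup hM hB hD)) ⟨z, hz⟩
  exact ⟨y, rfl, (Subgroup.mem_center_iff.1 (hPZ hz) y).symm,
    ⟨k, by rw [← hk, Subgroup.orderOf_mk]⟩, hy⟩

theorem sum_irr_mul_conj_central [Fintype P] {φ ψ : IrrCharacter G} (hφ : φ ∈ B) :
    ∑ g : G, (φ : G → ℂ) g * conj ((ψ : G → ℂ) g) =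
      (∑ z : P, (φ : G → ℂ) z / (φ : G → ℂ) 1 * conj ((ψ : G → ℂ) z / (ψ : G → ℂ) 1)) *
        ∑ y with ¬ p ∣ orderOf y, (φ : G → ℂ) y * conj ((ψ : G → ℂ) y) := by
  classical
  have hcen : ∀ z : P, ∀ w : G, (z : G) * w = w * (z : G) := fun z w =>
    (Subgroup.mem_center_iff.1 (hPZ z.2) w).symm
  rw [Finset.sum_mul]
  simp only [Finset.mul_sum]
  rw [← Finset.sum_product', ← Finset.sum_subset (Finset.subset_univ
    (((Finset.univ : Finset P) ×ˢ Finset.univ.filter fun y : G => ¬ p ∣ orderOf y).image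
      fun t => (t.1 : G) * t.2)) ?_]
  · rw [Finset.sum_image]
    · refine Finset.sum_congr rfl fun t _ => ?_
      rw [irr_central_mul φ (hcen t.1), irr_central_mul ψ (hcen t.1), map_mul]
      ring
    · intro t ht t' ht' e
      simp only [Finset.coe_product, Set.mem_prod, Finset.mem_coe, Finset.mem_filter] at ht ht'
      change (t.1 : G) * t.2 = (t'.1 : G) * t'.2 at e
      have h1 := isPPart_central_mul hM hB hD hPZ t.1.2 ht.2.2
      have h2 := isPPart_central_mul hM hB hD hPZ t'.1.2 ht'.2.2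
      rw [e] at h1
      have e1 : t.1 = t'.1 := Subtype.ext (isPPart_unique hM.1 h1 h2)
      rw [e1] at e
      exact Prod.ext e1 (mul_left_cancel e)
  · intro g _ hg
    obtain ⟨u, hu⟩ := exists_isPPart hM.1 g
    have hu' := hu
    obtain ⟨y, hxy, -, -, hy⟩ := hu'
    rw [irr_apply_eq_zero_of_not_mem_defect hM hB hu (fun D hD' hmem => hg ?_) hφ, zero_mul]
    obtain ⟨x, rfl⟩ := defectGroup_exists_conj hM hB hD hD'
    obtain ⟨z, hz, hzx⟩ := hmem
    have huz : u = z := by
      rw [← hzx]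
      show x * z * x⁻¹ = z
      rw [Subgroup.mem_center_iff.1 (hPZ hz) x, mul_inv_cancel_right]
    exact Finset.mem_image.2 ⟨(⟨z, hz⟩, y), by simp [hy],
      show z * y = g by rw [← huz]; exact hxy⟩

theorem sum_regular_self {φ : IrrCharacter G} (hφ : φ ∈ B) :
    (Nat.card P : ℂ) * ∑ y with ¬ p ∣ orderOf y, (φ : G → ℂ) y * conj ((φ : G → ℂ) y) =
      (Nat.card G : ℂ) := by
  classical
  have := Fintype.ofFinite P
  have h := sum_irr_mul_conj_central hM hB hD hPZ (ψ := φ) hφ
  have h1 := CfsgLib.Char.irr_classInner φ.2 φ.2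
  rw [if_pos rfl, CfsgLib.Char.classInner_def,
    inv_mul_eq_one₀ CfsgLib.Char.natCard_ne_zero] at h1
  rw [← h1] at h
  rw [h]
  congr 1
  rw [Nat.card_eq_fintype_card, ← nsmul_one, ← Finset.card_univ, ← Finset.sum_const]
  refine Finset.sum_congr rfl fun z _ => ?_
  rw [Complex.mul_conj, Complex.normSq_eq_norm_sq, norm_div]
  have hn := norm_apply_central_mul φ
    (fun w => (Subgroup.mem_center_iff.1 (hPZ z.2) w).symm) (1 : G)
  rw [mul_one] at hn
  rw [hn, div_self (norm_ne_zero_iff.2 (CfsgLib.Char.irr_apply_one_ne_zero φ.2))]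
  simp

/-- Every member of a block with central defect group has height zero. -/
theorem blockHeight_eq_zero_of_central {φ : IrrCharacter G} (hφ : φ ∈ B) :
    blockHeight p B (φ : G → ℂ) = 0 := by
  classical
  rw [blockHeight_eq_zero_iff hM hB hφ]
  refine le_antisymm ?_ (Nat.sInf_le ⟨φ, hφ, rfl⟩)
  by_contra hlt
  have hcard : (Nat.card P).factorization p = blockDefect p B := by
    rw [natCard_defectGroup hM hB hD, Nat.factorization_pow, hM.1.factorization]
    simp
  have hsum := sInf_degree_add_blockDefect hM hB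
  have hP0 : Nat.card P ≠ 0 := Nat.card_pos.ne'
  have hd0 := charDegree_ne_zero φ.2
  have hI : MemLocalIdeal M
      (((Nat.card P * charDegree (φ : G → ℂ) : ℕ) : ℂ) / (Nat.card G : ℂ)) :=
    memLocalIdeal_natCast_div hM Nat.card_pos.ne' (Or.inr (by
      rw [Nat.factorization_mul hP0 hd0, Finsupp.add_apply, hcard]
      omega))
  have hloc : MemLocalRing M (omegaC (φ : G → ℂ) (regSum p (φ : G → ℂ))) :=
    memLocalRing_omegaC φ.2 (isLocalCentral_regSum (CfsgLib.Char.irr_isCharacter φ.2))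
  have hval : omegaC (φ : G → ℂ) (regSum p (φ : G → ℂ)) =
      (Nat.card G : ℂ) / ((Nat.card P : ℂ) * (φ : G → ℂ) 1) := by
    rw [omegaC_eq, ← div_div]
    congr 1
    rw [eq_div_iff (by exact_mod_cast hP0), mul_comm, ← sum_regular_self hM hB hD hPZ hφ,
      Finset.sum_filter]
    congr 1
    refine Finset.sum_congr rfl fun x _ => ?_
    rw [coeff_regSum, irr_conj_eq φ.2]
    split <;> simp [mul_comm]
  have hone : MemLocalIdeal M (1 : ℂ) := by
    have hb := memLocalIdeal_mul_right hloc hI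
    rw [hval, Nat.cast_mul, charDegree_cast (CfsgLib.Char.irr_isCharacter φ.2)] at hb
    have h0 : (Nat.card P : ℂ) * (φ : G → ℂ) 1 ≠ 0 :=
      mul_ne_zero (by exact_mod_cast hP0) (CfsgLib.Char.irr_apply_one_ne_zero φ.2)
    rwa [mul_comm, div_mul_div_cancel₀ h0, div_self CfsgLib.Char.natCard_ne_zero] at hb
  exact one_ne_zero ((redC_one (M := M)).symm.trans
    ((redC_eq_zero_iff (lring M).one_mem).2 hone))

theorem blockRank_mul_natCard_central : blockRank p B * Nat.card P = Nat.card B := by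
  classical
  have := Fintype.ofFinite P
  have hPc : (Nat.card P : ℂ) ≠ 0 := by exact_mod_cast (Nat.card_pos (α := P)).ne'
  have hsum : ∀ φ : IrrCharacter G, φ ∈ B →
      classInner (fun x => regInd p x * (φ : G → ℂ) x) (φ : G → ℂ) = (Nat.card P : ℂ)⁻¹ := by
    intro φ hφ
    rw [CfsgLib.Char.classInner_def, inv_mul_eq_iff_eq_mul₀ CfsgLib.Char.natCard_ne_zero,
      ← sum_regular_self hM hB hD hPZ hφ, mul_comm (Nat.card P : ℂ), mul_assoc,
      mul_inv_cancel₀ hPc, mul_one, Finset.sum_filter]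
    refine Finset.sum_congr rfl fun x _ => ?_
    unfold regInd
    split <;> simp
  have hrank : (blockRank p B : ℂ) * (Nat.card P : ℂ) = (Nat.card B : ℂ) := by
    rw [CfsgLib.BlockB.blockRank_eq_sum hM hB,
      Finset.sum_congr rfl (fun φ hφ => hsum φ (by simpa using hφ)), Finset.sum_const,
      nsmul_eq_mul, mul_assoc, inv_mul_cancel₀ hPc, mul_one,
      ← Nat.card_eq_card_finite_toFinset]
  exact_mod_cast hrank

theorem blockRank_of_central_defect : blockRank p B = 1 := by
  classical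
  have := Fact.mk hM.1
  have := Fintype.ofFinite P
  have := Fintype.ofFinite B
  have hPc : (Nat.card P : ℂ) ≠ 0 := by exact_mod_cast (Nat.card_pos (α := P)).ne'
  have hrankN := blockRank_mul_natCard_central hM hB hD hPZ
  let w : B → (P → ℂ) := fun φ z =>
    ((φ : IrrCharacter G) : G → ℂ) z / ((φ : IrrCharacter G) : G → ℂ) 1
  have horth : ∀ φ ψ : B, φ ≠ ψ → ∑ z : P, w φ z * conj (w ψ z) = 0 := by
    intro φ ψ hne
    have h := sum_irr_mul_conj_central hM hB hD hPZ (φ := φ.1) (ψ := ψ.1) φ.2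
    have h1 := CfsgLib.Char.irr_classInner φ.1.2 ψ.1.2
    rw [if_neg (fun e => hne (Subtype.ext (Subtype.ext e))), CfsgLib.Char.classInner_def,
      mul_eq_zero, or_iff_right (inv_ne_zero CfsgLib.Char.natCard_ne_zero)] at h1
    rw [h1] at h
    refine (mul_eq_zero.1 h.symm).resolve_right ?_
    intro h0
    refine (lam_regZ_ne_zero_iff hM hB ψ.2 φ.2).2
      (blockHeight_eq_zero_of_central hM hB hD hPZ ψ.2) ?_
    rw [lam_regZ, omegaC_eq]
    refine (congrArg (fun s => redC M (s / ((φ.1 : IrrCharacter G) : G → ℂ) 1)) ?_).trans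
      (by rw [zero_div, redC_zero] : redC M (0 / ((φ.1 : IrrCharacter G) : G → ℂ) 1) = 0)
    rw [← h0, Finset.sum_filter]
    refine Finset.sum_congr rfl fun x _ => ?_
    rw [coeff_regSum, irr_conj_eq ψ.1.2]
    split <;> simp [mul_comm]
  have hli : LinearIndependent ℂ w := by
    rw [Fintype.linearIndependent_iff]
    intro c hc φ
    have h := congrArg (fun f : P → ℂ => ∑ z, f z * conj (w φ z)) hc
    simp only [Finset.sum_apply, Pi.smul_apply, smul_eq_mul, Pi.zero_apply, zero_mul,
      Finset.sum_const_zero, Finset.sum_mul] at h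
    rw [Finset.sum_comm, Finset.sum_eq_single φ] at h
    · simp only [mul_assoc, ← Finset.mul_sum] at h
      refine (mul_eq_zero.1 h).resolve_right ?_
      have e : ∑ z : P, w φ z * conj (w φ z) = (Nat.card P : ℂ) := by
        have h2 := sum_irr_mul_conj_central hM hB hD hPZ (φ := φ.1) (ψ := φ.1) φ.2
        have h1 := CfsgLib.Char.irr_classInner φ.1.2 φ.1.2
        rw [if_pos rfl, CfsgLib.Char.classInner_def,
          inv_mul_eq_one₀ CfsgLib.Char.natCard_ne_zero] at h1
        rw [← h1, ← sum_regular_self hM hB hD hPZ φ.2] at h2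
        refine (mul_right_cancel₀ ?_ h2).symm
        intro h0
        have := sum_regular_self hM hB hD hPZ φ.2
        rw [h0, mul_zero] at this
        exact CfsgLib.Char.natCard_ne_zero this.symm
      rw [e]
      exact hPc
    · intro ψ _ hne
      simp only [mul_assoc, ← Finset.mul_sum]
      rw [horth ψ φ hne, mul_zero]
    · simp
  have hcard : Nat.card B ≤ Nat.card P := by
    have := hli.fintype_card_le_finrank
    rwa [Module.finrank_pi, ← Nat.card_eq_fintype_card, ← Nat.card_eq_fintype_card] at this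
  have hpos : 0 < Nat.card B := by
    obtain ⟨φ, hφ⟩ := isPBlock_nonempty hB
    have : Nonempty B := ⟨⟨φ, hφ⟩⟩
    exact Nat.card_pos
  refine le_antisymm ?_ (Nat.pos_of_ne_zero fun h => by rw [h, zero_mul] at hrankN; omega)
  by_contra h
  have h3 := Nat.mul_le_mul_right (Nat.card P) (show 2 ≤ blockRank p B by omega)
  have hP0 : 0 < Nat.card P := Nat.card_pos
  omega

theorem natCard_block_of_central_defect : Nat.card B = Nat.card P := by
  rw [← blockRank_mul_natCard_central hM hB hD hPZ, blockRank_of_central_defect hM hB hD hPZ,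
    one_mul]

/-- The members of a block with central defect group agree on regular elements, up to degrees. -/
theorem regular_eq_of_central_defect {φ ψ : IrrCharacter G} (hφ : φ ∈ B) (hψ : ψ ∈ B) {y : G}
    (hy : ¬ p ∣ orderOf y) : (φ : G → ℂ) y = (ψ : G → ℂ) y := by
  classical
  obtain ⟨w, hw0, hw⟩ := finrank_eq_one_iff'.1
    (show Module.finrank ℂ (Submodule.span ℂ
      ((fun χ : IrrCharacter G => pRegularPart p (χ : G → ℂ)) '' B)) = 1 from
      blockRank_of_central_defect hM hB hD hPZ)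
  obtain ⟨a, ha⟩ := hw ⟨_, Submodule.subset_span ⟨φ, hφ, rfl⟩⟩
  obtain ⟨c, hc⟩ := hw ⟨_, Submodule.subset_span ⟨ψ, hψ, rfl⟩⟩
  have ha' : ∀ t : G, ¬ p ∣ orderOf t → a * (w : G → ℂ) t = (φ : G → ℂ) t := fun t ht => by
    have := congrFun (congrArg Subtype.val ha) t
    simp only [Submodule.coe_smul, Pi.smul_apply, smul_eq_mul, pRegularPart,
      if_pos (show IsPRegular p t from ht)] at this
    exact this
  have hc' : ∀ t : G, ¬ p ∣ orderOf t → c * (w : G → ℂ) t = (ψ : G → ℂ) t := fun t ht => by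
    have := congrFun (congrArg Subtype.val hc) t
    simp only [Submodule.coe_smul, Pi.smul_apply, smul_eq_mul, pRegularPart,
      if_pos (show IsPRegular p t from ht)] at this
    exact this
  have h1 : ¬ p ∣ orderOf (1 : G) := by
    rw [orderOf_one]
    exact hM.1.not_dvd_one
  have hw1 : (w : G → ℂ) 1 ≠ 0 := fun h => CfsgLib.Char.irr_apply_one_ne_zero φ.2 (by
    rw [← ha' 1 h1, h, mul_zero])
  obtain ⟨m, hm⟩ := CfsgLib.Char.char_apply_one_eq_nat (CfsgLib.Char.irr_isCharacter φ.2)
  obtain ⟨n, hn⟩ := CfsgLib.Char.char_apply_one_eq_nat (CfsgLib.Char.irr_isCharacter ψ.2)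
  set r : ℂ := (m : ℂ) / n with hr
  have hn0 : (n : ℂ) ≠ 0 := hn ▸ CfsgLib.Char.irr_apply_one_ne_zero ψ.2
  have hrel : ∀ t : G, ¬ p ∣ orderOf t → (φ : G → ℂ) t = r * (ψ : G → ℂ) t := by
    intro t ht
    rw [hr, ← hm, ← hn, ← ha' 1 h1, ← hc' 1 h1, ← ha' t ht, ← hc' t ht]
    have hc0 : c ≠ 0 := fun h => CfsgLib.Char.irr_apply_one_ne_zero ψ.2 (by
      rw [← hc' 1 h1, h, zero_mul])
    field_simp
  have hrc : conj r = r := by rw [hr]; simp
  have hsum : ∑ t with ¬ p ∣ orderOf t, (φ : G → ℂ) t * conj ((φ : G → ℂ) t) =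
      r * r * ∑ t with ¬ p ∣ orderOf t, (ψ : G → ℂ) t * conj ((ψ : G → ℂ) t) := by
    rw [Finset.mul_sum]
    refine Finset.sum_congr rfl fun t ht => ?_
    rw [hrel t (Finset.mem_filter.1 ht).2, map_mul, hrc]
    ring
  have e1 := sum_regular_self hM hB hD hPZ hφ
  have e2 := sum_regular_self hM hB hD hPZ hψ
  rw [hsum, mul_left_comm, e2] at e1
  have h2 : r * r = 1 := (mul_eq_right₀ CfsgLib.Char.natCard_ne_zero).1 e1
  have h3 : ((m * m : ℕ) : ℂ) = ((n * n : ℕ) : ℂ) := by
    rw [hr] at h2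
    field_simp at h2
    push_cast
    linear_combination h2
  rw [hrel y hy, hr, Nat.mul_self_inj.1 (Nat.cast_inj.1 h3), div_self hn0, one_mul]

end CfsgLib.BlockA
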