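import Cfsg.Agent.Lib.Char.FS
import Cfsg.Agent.Lib.Char.Fixed
import Cfsg.Agent.Lib.Char.LinearSum
import Cfsg.Agent.Lib.Clifford.Constituents
import Cfsg.Agent.Lib.BlockB.ClassMul
import Cfsg.Agent.Lib.BlockB.DefectZero
import Cfsg.Agent.Lib.BlockB.SqrtCount
import Cfsg.Agent.Lib.Invol.Basic
import Cfsg.Agent.Lib.Invol.TwoGroups
import Mathlib.GroupTheory.Nilpotent
import Mathlib.Algebra.Order.Chebyshev

/-! Consequences of the Frobenius–Schur count of involutions. -/

set_option autoImplicit false
set_option linter.unusedSectionVars false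

namespace CfsgLib.BlockA

open CfsgLib.Char
open scoped ComplexConjugate

universe u

variable {G : Type u} [Group G] [Fintype G]

theorem natCard_sq_eq_one :
    Nat.card {s : G // s * s = 1} = Nat.card {x : G // orderOf x = 2} + 1 := by
  classical
  rw [← Finite.card_option]
  refine Nat.card_congr
    { toFun := fun s => if h : (s.1 : G) = 1 then none else
        some ⟨s.1, CfsgLib.Invol.invol_of_mul_self s.2 h⟩
      invFun := fun o => o.elim ⟨1, one_mul 1⟩ fun t => ⟨t.1, CfsgLib.Invol.invol_mul_self t.2⟩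
      left_inv := fun s => by
        by_cases h : (s.1 : G) = 1
        · simp only [h, dite_true, Option.elim_none]; exact Subtype.ext h.symm
        · simp only [h, dite_false, Option.elim_some]
      right_inv := fun o => by
        rcases o with _ | t
        · simp
        · simp [CfsgLib.Invol.invol_ne_one t.2] }

theorem fsInd_one : BlockB.fsInd (⟨fun _ => 1, isIrrCharacter_one⟩ : Cfsg.IrrCharacter G) = 1 := by
  simp [BlockB.fsInd, Nat.card_eq_fintype_card, inv_mul_cancel₀,
    (Nat.cast_ne_zero.2 Fintype.card_ne_zero : (Fintype.card G : ℂ) ≠ 0)]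

theorem fsInd_int (χ : Cfsg.IrrCharacter G) :
    ∃ e : ℤ, BlockB.fsInd χ = e ∧ (e = 0 ∨ e = 1 ∨ e = -1) ∧
      (e = 0 ↔ ¬ ∀ s : G, ((χ : G → ℂ) s).im = 0) := by
  rcases BlockB.fsInd_cases χ with ⟨h, hn⟩ | ⟨h | h, hr⟩
  · exact ⟨0, by simp [h], Or.inl rfl, iff_of_true rfl hn⟩
  · exact ⟨1, by simp [h], Or.inr (Or.inl rfl), by simp [hr]⟩
  · exact ⟨-1, by simp [h], Or.inr (Or.inr rfl), by simp [hr]⟩

/-- The involution count as a statement about integers. -/
theorem involution_count_int [Fintype (Cfsg.IrrCharacter G)] :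
    ∃ e : Cfsg.IrrCharacter G → ℤ, (∀ χ, (BlockB.fsInd χ = (e χ : ℂ)) ∧
        (e χ = 0 ∨ e χ = 1 ∨ e χ = -1) ∧ (e χ = 0 ↔ ¬ ∀ s : G, ((χ : G → ℂ) s).im = 0)) ∧
      (Nat.card {x : G // orderOf x = 2} : ℤ) + 1 =
        ∑ χ, e χ * (Cfsg.charDegree (χ : G → ℂ) : ℤ) := by
  choose e he using fun χ : Cfsg.IrrCharacter G => fsInd_int χ
  refine ⟨e, he, ?_⟩
  apply Int.cast_injective (α := ℂ)
  have h := involution_count (G := G)
  rw [natCard_sq_eq_one] at h
  push_cast at h ⊢
  rw [h]
  refine Finset.sum_congr rfl fun χ _ => ?_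
  rw [BlockB.irr_degree_cast]
  congr 1
  exact (he χ).1

/-- Brauer: small centralizer index and small real degree. -/
theorem small_class_and_real_degree (heven : Even (Nat.card G)) {t : ℕ}
    (ht : Nat.card {x : G // orderOf x = 2} = t) :
    (∃ x : G, x ≠ 1 ∧ ((Subgroup.centralizer ({x} : Set G)).index : ℚ) ≤
      (((Nat.card G : ℚ) - 1) / t) ^ 2) ∧
    ∃ χ : Cfsg.IrrCharacter G, (χ : G → ℂ) ≠ (fun _ => 1) ∧
      (∀ g : G, ((χ : G → ℂ) g).im = 0) ∧
      (Cfsg.charDegree (χ : G → ℂ) : ℚ) ≤ ((Nat.card G : ℚ) - 1) / t := by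
  classical
  have := Fintype.ofFinite (Cfsg.IrrCharacter G)
  have : Finite (ConjClasses G) := Finite.of_surjective _ ConjClasses.mk_surjective
  have := Fintype.ofFinite (ConjClasses G)
  have ht0 : 0 < t := by
    obtain ⟨x, hx⟩ := exists_prime_orderOf_dvd_card' (G := G) 2 (even_iff_two_dvd.1 heven)
    rw [← ht]
    have : Nonempty {x : G // orderOf x = 2} := ⟨⟨x, hx⟩⟩
    exact Nat.card_pos
  obtain ⟨e, he, hsum⟩ := involution_count_int (G := G)
  rw [ht] at hsum
  let one : Cfsg.IrrCharacter G := ⟨fun _ => 1, isIrrCharacter_one⟩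
  have hd1 : Cfsg.charDegree (one : G → ℂ) = 1 := by simp [one, Cfsg.charDegree]
  set R := (Finset.univ.erase one).filter fun χ : Cfsg.IrrCharacter G =>
    ∀ g : G, ((χ : G → ℂ) g).im = 0 with hR
  have hlin : (t : ℚ) ≤ ∑ χ ∈ R, (Cfsg.charDegree (χ : G → ℂ) : ℚ) := by
    have e1 : e one = 1 := by
      have := (he one).1
      rw [fsInd_one] at this
      exact_mod_cast this.symm
    have h2 : (t : ℤ) ≤ ∑ χ ∈ R, (Cfsg.charDegree (χ : G → ℂ) : ℤ) := by
      rw [← Finset.add_sum_erase _ _ (Finset.mem_univ one), e1, hd1] at hsum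
      have h3 : ∑ χ ∈ Finset.univ.erase one, e χ * (Cfsg.charDegree (χ : G → ℂ) : ℤ) ≤
          ∑ χ ∈ R, (Cfsg.charDegree (χ : G → ℂ) : ℤ) := by
        rw [hR, Finset.sum_filter]
        refine Finset.sum_le_sum fun χ _ => ?_
        by_cases hr : ∀ g : G, ((χ : G → ℂ) g).im = 0
        · rw [if_pos hr]
          rcases (he χ).2.1 with h | h | h <;> rw [h] <;> simp
        · rw [if_neg hr, (he χ).2.2.2 hr, zero_mul]
      push_cast at hsum
      linarith
    exact_mod_cast h2
  have hsq : ∑ χ ∈ R, (Cfsg.charDegree (χ : G → ℂ) : ℚ) ^ 2 ≤ (Nat.card G : ℚ) - 1 := by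
    have h := sum_irr_sq (G := G)
    simp only [← BlockB.irr_degree_cast] at h
    have h2 : ∑ χ : Cfsg.IrrCharacter G, (Cfsg.charDegree (χ : G → ℂ) : ℚ) ^ 2 = Nat.card G := by
      exact_mod_cast h
    rw [← Finset.add_sum_erase _ _ (Finset.mem_univ one), hd1] at h2
    have h3 : ∑ χ ∈ R, (Cfsg.charDegree (χ : G → ℂ) : ℚ) ^ 2 ≤
        ∑ χ ∈ Finset.univ.erase one, (Cfsg.charDegree (χ : G → ℂ) : ℚ) ^ 2 :=
      Finset.sum_le_sum_of_subset_of_nonneg (Finset.filter_subset _ _) fun _ _ _ => sq_nonneg _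
    push_cast at h2
    linarith
  have htq : (0 : ℚ) < t := by exact_mod_cast ht0
  constructor
  · set Rc := (Finset.univ.erase (ConjClasses.mk (1 : G))).filter fun C : ConjClasses G =>
      ∀ g : G, ConjClasses.mk g = C → IsConj g g⁻¹ with hRc
    have hcard : R.card = Rc.card := by
      have h := natCard_real_irr (G := G)
      rw [Nat.card_eq_fintype_card, Nat.card_eq_fintype_card, Fintype.card_subtype,
        Fintype.card_subtype] at h
      rw [hR, hRc, Finset.filter_erase, Finset.filter_erase,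
        Finset.card_erase_of_mem (by simp [one]), Finset.card_erase_of_mem, h]
      refine Finset.mem_filter.2 ⟨Finset.mem_univ _, fun g hg => ?_⟩
      have : g = 1 := isConj_one_left.1 (ConjClasses.mk_eq_mk_iff_isConj.1 hg)
      rw [this, inv_one]
    have hsize : ∑ C ∈ Rc, (Nat.card C.carrier : ℚ) ≤ (Nat.card G : ℚ) - 1 := by
      have h : ∑ C : ConjClasses G, Nat.card C.carrier = Nat.card G := by
        rw [← Nat.card_sigma]
        exact Nat.card_congr
          { toFun := fun x => x.2.1
            invFun := fun g => ⟨ConjClasses.mk g, ⟨g, ConjClasses.mem_carrier_mk⟩⟩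
            left_inv := fun ⟨C, g, hg⟩ => by
              have := ConjClasses.mem_carrier_iff_mk_eq.1 hg
              subst this
              rfl
            right_inv := fun g => rfl }
      rw [← Finset.add_sum_erase _ _ (Finset.mem_univ (ConjClasses.mk (1 : G)))] at h
      have h1 : 1 ≤ Nat.card (ConjClasses.mk (1 : G)).carrier := by
        have : Nonempty (ConjClasses.mk (1 : G)).carrier := ⟨⟨1, ConjClasses.mem_carrier_mk⟩⟩
        exact Nat.card_pos
      have h2 : ∑ C ∈ Rc, Nat.card C.carrier + 1 ≤ Nat.card G := by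
        have := Finset.sum_le_sum_of_subset (f := fun C : ConjClasses G => Nat.card C.carrier)
          (show Rc ⊆ Finset.univ.erase (ConjClasses.mk (1 : G)) from Finset.filter_subset _ _)
        omega
      have h3 : ((∑ C ∈ Rc, Nat.card C.carrier : ℕ) : ℚ) + 1 ≤ Nat.card G := by exact_mod_cast h2
      push_cast at h3
      linarith
    by_contra hcon
    push Not at hcon
    set α := ((Nat.card G : ℚ) - 1) / t with hα
    have hcs : (∑ χ ∈ R, (Cfsg.charDegree (χ : G → ℂ) : ℚ)) ^ 2 ≤
        (R.card : ℚ) * ∑ χ ∈ R, (Cfsg.charDegree (χ : G → ℂ) : ℚ) ^ 2 :=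
      sq_sum_le_card_mul_sum_sq
    have hRc0 : Rc.Nonempty := by
      rw [← Finset.card_pos, ← hcard, Finset.card_pos]
      by_contra h0
      rw [Finset.not_nonempty_iff_eq_empty] at h0
      rw [h0, Finset.sum_empty] at hlin
      linarith
    have hbig : ∑ C ∈ Rc, α ^ 2 < ∑ C ∈ Rc, (Nat.card C.carrier : ℚ) := by
      refine Finset.sum_lt_sum_of_nonempty hRc0 fun C hC => ?_
      obtain ⟨g, rfl⟩ := ConjClasses.mk_surjective C
      rw [natCard_carrier_eq_index]
      exact hcon g fun h1 => (Finset.mem_erase.1 (Finset.mem_filter.1 hC).1).1 (by rw [h1])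
    rw [Finset.sum_const, nsmul_eq_mul, ← hcard] at hbig
    have hα0 : (Nat.card G : ℚ) - 1 = α * t := by rw [hα]; field_simp
    have hαpos : 0 ≤ α := by
      rw [hα]
      refine div_nonneg ?_ htq.le
      have : (1 : ℚ) ≤ Nat.card G := by exact_mod_cast (Nat.card_pos : 0 < Nat.card G)
      linarith
    have hR0 : (0 : ℚ) ≤ R.card := Nat.cast_nonneg _
    have : (t : ℚ) ^ 2 ≤ (R.card : ℚ) * (α * t) := by
      calc (t : ℚ) ^ 2 ≤ (∑ χ ∈ R, (Cfsg.charDegree (χ : G → ℂ) : ℚ)) ^ 2 :=
            pow_le_pow_left₀ htq.le hlin 2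
        _ ≤ _ := hcs.trans (mul_le_mul_of_nonneg_left (hsq.trans hα0.le) hR0)
    have h4 : (t : ℚ) ≤ R.card * α := le_of_mul_le_mul_right (by linarith) htq
    have h5 : (R.card : ℚ) * α ^ 2 < α * t := by linarith
    nlinarith [mul_le_mul_of_nonneg_left h4 hαpos]
  · by_contra hcon
    push Not at hcon
    set α := ((Nat.card G : ℚ) - 1) / t with hα
    have hR0 : R.Nonempty := by
      by_contra h0
      rw [Finset.not_nonempty_iff_eq_empty] at h0
      rw [h0, Finset.sum_empty] at hlin
      linarith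
    have hbig : ∑ χ ∈ R, α * (Cfsg.charDegree (χ : G → ℂ) : ℚ) <
        ∑ χ ∈ R, (Cfsg.charDegree (χ : G → ℂ) : ℚ) ^ 2 := by
      refine Finset.sum_lt_sum_of_nonempty hR0 fun χ hχ => ?_
      have hd : (0 : ℚ) < Cfsg.charDegree (χ : G → ℂ) := by exact_mod_cast BlockB.irr_degree_pos χ
      rw [sq]
      refine mul_lt_mul_of_pos_right (hcon χ ?_ (Finset.mem_filter.1 hχ).2) hd
      exact fun h => (Finset.mem_erase.1 (Finset.mem_filter.1 hχ).1).1 (Subtype.ext h)
    rw [← Finset.mul_sum] at hbig
    have hα0 : (Nat.card G : ℚ) - 1 = α * t := by rw [hα]; field_simp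
    have hαpos : 0 ≤ α := by
      rw [hα]
      refine div_nonneg ?_ htq.le
      have : (1 : ℚ) ≤ Nat.card G := by exact_mod_cast (Nat.card_pos : 0 < Nat.card G)
      linarith
    have := mul_le_mul_of_nonneg_left hlin hαpos
    linarith

/-- A character of full defect zero for the primes of an involution centralizer. -/
theorem one_class_of_defect_zero (heven : Even (Nat.card G)) (χ : Cfsg.IrrCharacter G)
    (h2 : 2 ^ (Nat.card G).factorization 2 ∣ Cfsg.charDegree (χ : G → ℂ))
    (hp : ∀ p : ℕ, p.Prime → p ≠ 2 → (∃ g : G, orderOf g = 2 * p) →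
      p ^ (Nat.card G).factorization p ∣ Cfsg.charDegree (χ : G → ℂ)) :
    (∀ s t : G, orderOf s = 2 → orderOf t = 2 → IsConj s t) ∧
    (∀ s : G, orderOf s = 2 →
      Nat.card (Subgroup.centralizer ({s} : Set G)) = Cfsg.charDegree (χ : G → ℂ) ∧
      (Nat.card (Subgroup.centralizer ({s} : Set G))).Coprime
        (Subgroup.centralizer ({s} : Set G)).index) ∧
    BlockB.fsInd χ = 1 := by
  classical
  set x := Cfsg.charDegree (χ : G → ℂ) with hx
  -- the full prime powers of every prime of an involution centralizer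
  have hprime : ∀ (s : G), orderOf s = 2 → ∀ p : ℕ, p.Prime →
      p ∣ Nat.card (Subgroup.centralizer ({s} : Set G)) →
        p ^ (Nat.card G).factorization p ∣ x := fun s hs p hpp hd => by
    rcases eq_or_ne p 2 with rfl | hne
    · exact h2
    · have := Fact.mk hpp
      obtain ⟨v, hv⟩ := exists_prime_orderOf_dvd_card' p hd
      refine hp p hpp hne ⟨s * (v : G), ?_⟩
      have hc : Commute s (v : G) := (Subgroup.mem_centralizer_singleton_iff.1 v.2).symm
      rw [hc.orderOf_mul_eq_mul_orderOf_of_coprime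
        (by rw [hs, Subgroup.orderOf_coe, hv]; exact (Nat.coprime_primes Nat.prime_two hpp).2 hne.symm),
        hs, Subgroup.orderOf_coe, hv]
  -- the character vanishes on the elements centralizing an involution
  have hvan : ∀ (s v : G), orderOf s = 2 → Commute v s → v ≠ 1 → (χ : G → ℂ) v = 0 :=
    fun s v hs hc hv1 => by
      obtain ⟨p, hpp, hpd⟩ := Nat.exists_prime_and_dvd (mt orderOf_eq_one_iff.1 hv1)
      have := Fact.mk hpp
      refine BlockB.irr_apply_eq_zero_of_defect_zero χ (hprime s hs p hpp ?_) hpd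
      have hv : v ∈ Subgroup.centralizer ({s} : Set G) := Subgroup.mem_centralizer_singleton_iff.2 hc.eq
      exact hpd.trans (Subgroup.orderOf_dvd_natCard _ hv)
  have hdvd : ∀ s : G, orderOf s = 2 → Nat.card (Subgroup.centralizer ({s} : Set G)) ∣ x := fun s hs => by
    refine (Nat.factorization_le_iff_dvd Nat.card_pos.ne' (BlockB.irr_degree_ne_zero χ)).1 ?_
    intro p
    by_cases hpd : p.Prime ∧ p ∣ Nat.card (Subgroup.centralizer ({s} : Set G))
    · exact ((Nat.factorization_le_iff_dvd Nat.card_pos.ne' Nat.card_pos.ne').2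
        (Subgroup.card_subgroup_dvd_card _) p).trans
        ((hpd.1.pow_dvd_iff_le_factorization (BlockB.irr_degree_ne_zero χ)).1
          (hprime s hs p hpd.1 hpd.2))
    · have hz : (Nat.card (Subgroup.centralizer ({s} : Set G))).factorization p = 0 := by
        rw [Nat.factorization_eq_zero_iff]
        tauto
      rw [hz]; exact Nat.zero_le _
  -- the sum of the squares
  have hsum : ∑ h : G, (χ : G → ℂ) (h * h) =
      (Nat.card {t : G // orderOf t = 2} : ℂ) * (χ : G → ℂ) 1 := by
    have hterm : ∀ h : G, (χ : G → ℂ) (h * h) =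
        (if orderOf h = 2 then (χ : G → ℂ) 1 else 0) +
        (if Odd (orderOf h) then (χ : G → ℂ) (h * h) else 0) := fun h => by
      by_cases ho : Odd (orderOf h)
      · rw [if_pos ho, if_neg fun e => by rw [e] at ho; exact absurd ho (by decide), zero_add]
      · rw [if_neg ho, add_zero]
        split_ifs with h2o
        · rw [CfsgLib.Invol.invol_mul_self h2o]
        · have hev : Even (orderOf h) := Nat.not_odd_iff_even.1 ho
          obtain ⟨m, hm⟩ := hev
          have hm0 : m ≠ 0 := by have := orderOf_pos h; omega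
          have hu : orderOf (h ^ m) = 2 := by
            rw [orderOf_pow' h hm0, hm, Nat.gcd_eq_right ⟨2, by omega⟩]
            rw [← two_mul, Nat.mul_div_cancel _ (Nat.pos_of_ne_zero hm0)]
          refine hvan (h ^ m) (h * h) hu (((Commute.refl h).pow_right m).mul_left
            ((Commute.refl h).pow_right m)) fun e => ?_
          rw [← pow_two, ← orderOf_dvd_iff_pow_eq_one] at e
          rcases (Nat.dvd_prime Nat.prime_two).1 e with e | e
          · omega
          · exact h2o e
    have hodd : ∑ h : G, (if Odd (orderOf h) then (χ : G → ℂ) (h * h) else 0) =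
        ∑ h : G, (χ : G → ℂ) h := by
      rw [← Finset.sum_filter]
      have : ∑ h : G, (χ : G → ℂ) h = ∑ h ∈ Finset.univ.filter (fun h : G => Odd (orderOf h)),
          (χ : G → ℂ) h := by
        refine (Finset.sum_subset (Finset.subset_univ _) fun h _ hh => ?_).symm
        rw [Finset.mem_filter, not_and] at hh
        exact BlockB.irr_apply_eq_zero_of_defect_zero (p := 2) χ h2
          (even_iff_two_dvd.1 (Nat.not_odd_iff_even.1 (hh (Finset.mem_univ _))))
      rw [this]
      refine Finset.sum_bij' (fun h _ => h * h) (fun h _ => h ^ ((orderOf h + 1) / 2)) ?_ ?_ ?_ ?_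
        fun h _ => rfl
      · intro h hh
        simp only [Finset.mem_filter, Finset.mem_univ, true_and] at hh ⊢
        rw [← pow_two]
        exact hh.of_dvd_nat (orderOf_pow_dvd 2)
      · intro h hh
        simp only [Finset.mem_filter, Finset.mem_univ, true_and] at hh ⊢
        exact hh.of_dvd_nat (orderOf_pow_dvd _)
      · intro h hh
        simp only [Finset.mem_filter, Finset.mem_univ, true_and] at hh
        have ho : orderOf (h * h) = orderOf h := by
          rw [← pow_two]
          exact Nat.Coprime.orderOf_pow (Nat.coprime_two_right.2 hh)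
        obtain ⟨m, hm⟩ := hh
        rw [ho, hm, show (2 * m + 1 + 1) / 2 = m + 1 by omega, ← pow_two, ← pow_mul,
          show 2 * (m + 1) = orderOf h + 1 by omega, pow_succ, pow_orderOf_eq_one, one_mul]
      · intro h hh
        simp only [Finset.mem_filter, Finset.mem_univ, true_and] at hh
        obtain ⟨m, hm⟩ := hh
        rw [hm, show (2 * m + 1 + 1) / 2 = m + 1 by omega, ← pow_add,
          show m + 1 + (m + 1) = orderOf h + 1 by omega, pow_succ, pow_orderOf_eq_one, one_mul]
    have hzero : ∑ h : G, (χ : G → ℂ) h = 0 := by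
      have hne : (χ : G → ℂ) ≠ fun _ => 1 := fun e => by
        have h1 : x = 1 := by simp [hx, e, Cfsg.charDegree]
        rw [h1, Nat.dvd_one] at h2
        have := Nat.prime_two.factorization_pos_of_dvd Nat.card_pos.ne' (even_iff_two_dvd.1 heven)
        rcases Nat.pow_eq_one.1 h2 with h2 | h2 <;> omega
      have h := irr_classInner_ne χ.2 isIrrCharacter_one hne
      rw [classInner_def, mul_eq_zero, inv_eq_zero] at h
      simpa using h.resolve_left natCard_ne_zero
    rw [Finset.sum_congr rfl fun h _ => hterm h, Finset.sum_add_distrib, hodd, hzero, add_zero,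
      ← Finset.sum_filter, Finset.sum_const, nsmul_eq_mul, Nat.card_eq_fintype_card,
      Fintype.card_subtype]
  obtain ⟨s₀, hs₀⟩ := exists_prime_orderOf_dvd_card' (G := G) 2 (even_iff_two_dvd.1 heven)
  set t := Nat.card {t : G // orderOf t = 2} with ht
  have ht0 : 0 < t := by
    have : Nonempty {t : G // orderOf t = 2} := ⟨⟨s₀, hs₀⟩⟩
    exact Nat.card_pos
  obtain ⟨ε, hε, hε3, -⟩ := fsInd_int χ
  have hνg : (ε : ℤ) * Nat.card G = (t : ℤ) * x := by
    have h : BlockB.fsInd χ * (Nat.card G : ℂ) = (t : ℂ) * (χ : G → ℂ) 1 := by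
      rw [BlockB.fsInd, hsum, mul_comm, ← mul_assoc, mul_inv_cancel₀ natCard_ne_zero, one_mul]
    rw [hε, ← BlockB.irr_degree_cast, ← hx] at h
    exact_mod_cast h
  have hx0 : 0 < x := BlockB.irr_degree_pos χ
  have hε1 : ε = 1 := by
    have hpos : (0 : ℤ) < (t : ℤ) * x := by positivity
    rcases hε3 with rfl | rfl | rfl
    · simp at hνg; omega
    · rfl
    · simp only [neg_mul, one_mul] at hνg; omega
  subst hε1
  rw [one_mul] at hνg
  have hG : Nat.card G = t * x := by exact_mod_cast hνg
  -- a single class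
  have hclass : ∀ s : G, orderOf s = 2 →
      Nat.card (Subgroup.centralizer ({s} : Set G)) = x ∧
      ∀ u : G, orderOf u = 2 → IsConj s u := fun s hs => by
    have hk := CfsgLib.Invol.card_class_mul_card_centralizer s
    have hkt : Nat.card {u : G // IsConj s u} ≤ t :=
      Nat.card_le_card_of_injective (fun u => ⟨u.1, by
        rw [CfsgLib.Invol.orderOf_eq_of_isConj u.2, hs]⟩)
        fun a b e => Subtype.ext (congrArg (fun w : {t : G // orderOf t = 2} => (w : G)) e)
    have hcx := Nat.le_of_dvd hx0 (hdvd s hs)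
    set k := Nat.card {u : G // IsConj s u}
    set c := Nat.card (Subgroup.centralizer ({s} : Set G))
    have hc : c = x := by
      refine le_antisymm hcx ?_
      refine Nat.le_of_mul_le_mul_left ?_ ht0
      rw [← hG, ← hk]
      exact Nat.mul_le_mul_right _ hkt
    refine ⟨hc, fun u hu => ?_⟩
    rw [hc, hG] at hk
    have hkt' : k = t := Nat.eq_of_mul_eq_mul_right hx0 hk
    have hsub : {u : G | IsConj s u} = {u : G | orderOf u = 2} := by
      refine Set.eq_of_subset_of_ncard_le
        (fun u (hu : IsConj s u) => (CfsgLib.Invol.orderOf_eq_of_isConj hu).trans hs) ?_ (Set.toFinite _)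
      rw [← Nat.card_coe_set_eq, ← Nat.card_coe_set_eq]
      exact hkt'.ge
    exact hsub.ge hu
  refine ⟨fun s u hs hu => (hclass s hs).2 u hu, fun s hs => ⟨(hclass s hs).1, ?_⟩, ?_⟩
  · refine Nat.coprime_of_dvd fun p hpp hpc hpi => ?_
    have h1 := hprime s hs p hpp hpc
    rw [← (hclass s hs).1, hpp.pow_dvd_iff_le_factorization Nat.card_pos.ne'] at h1
    have h3 : (Nat.card G).factorization p = (Nat.card (Subgroup.centralizer ({s} : Set G))).factorization p +
        (Subgroup.centralizer ({s} : Set G)).index.factorization p := by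
      rw [← Subgroup.card_mul_index (Subgroup.centralizer ({s} : Set G)),
        Nat.factorization_mul Nat.card_pos.ne' Subgroup.index_ne_zero_of_finite, Finsupp.add_apply]
    have := hpp.factorization_pos_of_dvd Subgroup.index_ne_zero_of_finite hpi
    omega
  · rw [hε, Int.cast_one]

/-- A twist by a linear character. -/
noncomputable def twist (l : G →* ℂˣ) (χ : Cfsg.IrrCharacter G) : Cfsg.IrrCharacter G :=
  ⟨fun g => (l g : ℂ) * (χ : G → ℂ) g, isIrrCharacter_mul_linear χ.2 l⟩

theorem twist_twist (a b : G →* ℂˣ) (χ : Cfsg.IrrCharacter G) :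
    twist a (twist b χ) = twist (a * b) χ :=
  Subtype.ext (funext fun g => by simp [twist, mul_assoc])

theorem twist_one (χ : Cfsg.IrrCharacter G) : twist 1 χ = χ :=
  Subtype.ext (funext fun g => by simp [twist])

theorem charDegree_twist (l : G →* ℂˣ) (χ : Cfsg.IrrCharacter G) :
    Cfsg.charDegree (twist l χ : G → ℂ) = Cfsg.charDegree (χ : G → ℂ) := by
  simp [twist, Cfsg.charDegree]

/-- A group of linear characters fixing a character of degree at most two has at most four
elements. -/
theorem card_stab_le_four (χ : Cfsg.IrrCharacter G) (hd : Cfsg.charDegree (χ : G → ℂ) ≤ 2)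
    (S : Subgroup (G →* ℂˣ)) [Fintype S] (hS : ∀ l ∈ S, twist l χ = χ) : Nat.card S ≤ 4 := by
  classical
  have hnorm : ∀ g : G, ‖(χ : G → ℂ) g‖ ^ 2 ≤ 4 := fun g => by
    have h := (CfsgLib.Clifford.norm_char_le_one (irr_isCharacter χ.2) g).1
    rw [← BlockB.irr_degree_cast, Complex.natCast_re] at h
    have h2 : (Cfsg.charDegree (χ : G → ℂ) : ℝ) ≤ 2 := by exact_mod_cast hd
    nlinarith [norm_nonneg ((χ : G → ℂ) g)]
  have hsum : ∑ g : G, ‖(χ : G → ℂ) g‖ ^ 2 = (Nat.card G : ℝ) := by
    have h := irr_classInner_self χ.2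
    rw [classInner_def, inv_mul_eq_iff_eq_mul₀ natCard_ne_zero, mul_one] at h
    simp only [Complex.mul_conj'] at h
    exact_mod_cast h
  have hfix : ∀ (l : S) (g : G), (χ : G → ℂ) g ≠ 0 → ((l : G →* ℂˣ) g : ℂ) = 1 := fun l g hg => by
    have h := congrFun (congrArg Subtype.val (hS l l.2)) g
    simp only [twist] at h
    exact mul_right_cancel₀ hg (h.trans (one_mul _).symm)
  -- the kernel indicator
  have horth : ∀ g : G, ∑ l : S, ((l : G →* ℂˣ) g : ℂ) =
      if (∀ l : S, (l : G →* ℂˣ) g = 1) then (Fintype.card S : ℂ) else 0 := fun g => by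
    split_ifs with h
    · simp [h]
    · push Not at h
      obtain ⟨l₀, hl₀⟩ := h
      have e : ∑ l : S, ((l : G →* ℂˣ) g : ℂ) = ((l₀ : G →* ℂˣ) g : ℂ) * ∑ l : S, ((l : G →* ℂˣ) g : ℂ) := by
        rw [Finset.mul_sum]
        refine (Equiv.sum_comp (Equiv.mulLeft l₀) fun l : S => ((l : G →* ℂˣ) g : ℂ)).symm.trans ?_
        exact Finset.sum_congr rfl fun l _ => Units.val_mul _ _
      by_contra h0
      refine hl₀ (Units.ext (mul_right_cancel₀ h0 ?_))
      rw [← e, Units.val_one, one_mul]
  have htot : (Nat.card G : ℂ) = ∑ g : G, ∑ l : S, ((l : G →* ℂˣ) g : ℂ) := by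
    rw [Finset.sum_comm, Finset.sum_eq_single (1 : S)]
    · simp [Nat.card_eq_fintype_card]
    · intro l _ hl
      have h := irr_classInner_ne (isIrrCharacter_linear (l : G →* ℂˣ)) isIrrCharacter_one
        fun e => hl (Subtype.ext (MonoidHom.ext fun g => Units.ext (by simpa using congrFun e g)))
      rw [classInner_def, mul_eq_zero, inv_eq_zero] at h
      simpa using h.resolve_left natCard_ne_zero
    · simp
  have hcard : (Nat.card S : ℝ) * Nat.card G ≤ 4 * Nat.card G := by
    have hK : ((Nat.card G : ℕ) : ℂ) =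
        ((Fintype.card S * (Finset.univ.filter fun g : G => ∀ l : S, (l : G →* ℂˣ) g = 1).card : ℕ) : ℂ) := by
      rw [htot, Finset.sum_congr rfl fun g _ => horth g, ← Finset.sum_filter, Finset.sum_const,
        nsmul_eq_mul]
      push_cast; ring
    have hK' := Nat.cast_injective hK
    have hle : (Nat.card G : ℝ) ≤
        4 * ((Finset.univ.filter fun g : G => ∀ l : S, (l : G →* ℂˣ) g = 1).card : ℝ) := by
      rw [← hsum, ← Finset.sum_subset (Finset.filter_subset
        (fun g : G => ∀ l : S, (l : G →* ℂˣ) g = 1) Finset.univ) fun g _ hg => ?_]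
      · refine (Finset.sum_le_card_nsmul _ _ 4 fun g _ => hnorm g).trans_eq ?_
        rw [nsmul_eq_mul, mul_comm]
      · by_contra hne
        refine hg (Finset.mem_filter.2 ⟨Finset.mem_univ _, fun l => Units.ext ?_⟩)
        rw [Units.val_one]
        exact hfix l g fun h0 => hne (by rw [h0, norm_zero]; norm_num)
    have hK2 : (Nat.card G : ℝ) = (Nat.card S : ℝ) *
        ((Finset.univ.filter fun g : G => ∀ l : S, (l : G →* ℂˣ) g = 1).card : ℝ) := by
      rw [Nat.card_eq_fintype_card (α := S)]
      exact_mod_cast hK'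
    calc (Nat.card S : ℝ) * Nat.card G ≤ (Nat.card S : ℝ) *
          (4 * ((Finset.univ.filter fun g : G => ∀ l : S, (l : G →* ℂˣ) g = 1).card : ℝ)) :=
          mul_le_mul_of_nonneg_left hle (Nat.cast_nonneg _)
      _ = 4 * Nat.card G := by rw [hK2]; ring
  exact_mod_cast le_of_mul_le_mul_right hcard (by exact_mod_cast (Nat.card_pos : 0 < Nat.card G))

/-- A 2-group with `1 mod 4` involutions is cyclic or has abelianization of order four. -/
theorem cyclic_or_commutator_index_four (hG : IsPGroup 2 G)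
    (ht : Nat.card {x : G // orderOf x = 2} % 4 = 1) :
    IsCyclic G ∨ (commutator G).index = 4 := by
  classical
  rcases em (IsCyclic G) with hcyc | hcyc
  · exact Or.inl hcyc
  refine Or.inr ?_
  have := Fintype.ofFinite (Cfsg.IrrCharacter G)
  have hfinA : Finite (G →* ℂˣ) :=
    Nat.finite_of_card_ne_zero (by rw [natCard_linear]; exact Subgroup.index_ne_zero_of_finite)
  have := Fintype.ofFinite (G →* ℂˣ)
  set V : Subgroup (G →* ℂˣ) :=
    { carrier := {l | l * l = 1}
      one_mem' := one_mul 1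
      mul_mem' := fun {a b} (ha : a * a = 1) (hb : b * b = 1) =>
        show a * b * (a * b) = 1 from (mul_mul_mul_comm a b a b).trans ((congrArg₂ (· * ·) ha hb).trans (one_mul (1 : G →* ℂˣ)))
      inv_mem' := fun {a} (ha : a * a = 1) =>
        show a⁻¹ * a⁻¹ = 1 from ((mul_inv a a).symm).trans (inv_eq_one.2 ha) }
  have hVp : IsPGroup 2 V := fun l => ⟨1, Subtype.ext (by
    show ((l : G →* ℂˣ)) ^ (2 ^ 1) = 1
    rw [pow_one, pow_two]; exact l.2)⟩
  -- two maximal subgroups give two sign characters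
  have hsign : ∀ M : Subgroup G, IsCoatom M →
      ∃ l ∈ V, ∀ g, l g = 1 ↔ g ∈ M := fun M hM => by
    have hM2 := CfsgLib.Invol.index_two_of_isCoatom hG hM
    refine ⟨{ toFun := fun g => if g ∈ M then 1 else -1
              map_one' := if_pos M.one_mem
              map_mul' := fun a b => ?_ }, ?_, fun g => ?_⟩
    · show (if a * b ∈ M then (1 : ℂˣ) else -1) = _
      rw [Subgroup.mul_mem_iff_of_index_two hM2]
      by_cases ha : a ∈ M <;> by_cases hb : b ∈ M <;> simp [ha, hb]
    · refine MonoidHom.ext fun g => ?_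
      show (if g ∈ M then (1 : ℂˣ) else -1) * (if g ∈ M then (1 : ℂˣ) else -1) = 1
      split_ifs <;> simp
    · show (if g ∈ M then (1 : ℂˣ) else -1) = 1 ↔ g ∈ M
      by_cases hg : g ∈ M
      · simp [hg]
      · simp only [hg, if_false, iff_false]
        exact fun e => absurd (congrArg Units.val e) (by norm_num)
  have hV4 : 4 ∣ Nat.card V := by
    have hne : ∀ x : G, Subgroup.zpowers x ≠ ⊤ := fun x e =>
      hcyc ⟨⟨x, fun y => by
        have h : y ∈ Subgroup.zpowers x := e.symm ▸ Subgroup.mem_top y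
        exact h⟩⟩
    obtain ⟨M₁, hM₁, h1⟩ := (eq_top_or_exists_le_coatom (Subgroup.zpowers (1 : G))).resolve_left (hne 1)
    obtain ⟨y, -, hy⟩ := SetLike.exists_of_lt (lt_top_iff_ne_top.2 hM₁.1)
    obtain ⟨M₂, hM₂, h2⟩ := (eq_top_or_exists_le_coatom (Subgroup.zpowers y)).resolve_left (hne y)
    obtain ⟨l₁, hl₁, hk₁⟩ := hsign M₁ hM₁
    obtain ⟨l₂, hl₂, hk₂⟩ := hsign M₂ hM₂
    have hne12 : l₁ ≠ l₂ := fun e => hy ((hk₁ y).1 (by
      rw [e]; exact (hk₂ y).2 (h2 (Subgroup.mem_zpowers y))))
    have hne1 : ∀ (M : Subgroup G), IsCoatom M → ∀ l : G →* ℂˣ, (∀ g, l g = 1 ↔ g ∈ M) → l ≠ 1 :=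
      fun M hM l hk e => hM.1 (Subgroup.eq_top_iff' M |>.2 fun g => (hk g).1 (by rw [e]; rfl))
    have h3 : 3 ≤ Nat.card V := by
      have hn1 := hne1 M₁ hM₁ l₁ hk₁
      have hn2 := hne1 M₂ hM₂ l₂ hk₂
      have hsub : (↑({1, l₁, l₂} : Finset (G →* ℂˣ)) : Set (G →* ℂˣ)) ⊆ (V : Set (G →* ℂˣ)) := by
        simp only [Finset.coe_insert, Finset.coe_singleton, Set.insert_subset_iff,
          Set.singleton_subset_iff]
        exact ⟨V.one_mem, hl₁, hl₂⟩
      have h := Set.ncard_le_ncard hsub (Set.toFinite _)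
      rw [Set.ncard_coe_finset, Finset.card_insert_of_notMem (by
          rw [Finset.mem_insert, Finset.mem_singleton]; push Not; exact ⟨hn1.symm, hn2.symm⟩),
        Finset.card_insert_of_notMem (by rw [Finset.mem_singleton]; exact hne12),
        Finset.card_singleton, ← Nat.card_coe_set_eq] at h
      exact h
    obtain ⟨k, hk⟩ := IsPGroup.iff_card.1 hVp
    rw [hk] at h3 ⊢
    have : 2 ≤ k := by
      by_contra h
      interval_cases k <;> omega
    exact dvd_trans (by norm_num) (pow_dvd_pow 2 this)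
  -- parity of the real characters of degree two
  set D := (Finset.univ : Finset (Cfsg.IrrCharacter G)).filter fun χ : Cfsg.IrrCharacter G =>
    (∀ g : G, ((χ : G → ℂ) g).im = 0) ∧ Cfsg.charDegree (χ : G → ℂ) = 2 with hD
  have hDodd : ¬ 2 ∣ D.card := by
    intro hdvd
    obtain ⟨e, he, hsum⟩ := involution_count_int (G := G)
    set L := (Finset.univ : Finset (Cfsg.IrrCharacter G)).filter fun χ : Cfsg.IrrCharacter G =>
      (∀ g : G, ((χ : G → ℂ) g).im = 0) ∧ Cfsg.charDegree (χ : G → ℂ) = 1 with hL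
    have hLV : L.card = Nat.card V := by
      rw [Nat.card_eq_fintype_card, ← Finset.card_univ]
      refine (Finset.card_bij (fun l _ => ⟨fun g => ((l : G →* ℂˣ) g : ℂ), isIrrCharacter_linear _⟩)
        ?_ ?_ ?_).symm
      · intro l _
        refine Finset.mem_filter.2 ⟨Finset.mem_univ _, fun g => ?_, by simp [Cfsg.charDegree]⟩
        have h := congrArg Units.val (DFunLike.congr_fun (l.2 : (l : G →* ℂˣ) * l = 1) g)
        simp only [MonoidHom.mul_apply, MonoidHom.one_apply, Units.val_mul, Units.val_one] at h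
        rcases mul_self_eq_one_iff.1 h with e | e <;> simp [e]
      · intro a _ b _ h
        exact Subtype.ext (MonoidHom.ext fun g => Units.ext (congrFun (congrArg Subtype.val h) g))
      · intro χ hχ
        obtain ⟨-, hre, hd⟩ := Finset.mem_filter.1 hχ
        obtain ⟨l, hl⟩ := exists_hom_of_degree_one (irr_isCharacter χ.2)
          (by rw [← BlockB.irr_degree_cast, hd, Nat.cast_one])
        refine ⟨⟨l, MonoidHom.ext fun g => Units.ext ?_⟩, Finset.mem_univ _, Subtype.ext hl.symm⟩
        have hc := Complex.conj_eq_iff_im.2 (hre g)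
        rw [hl] at hc
        have hc' : conj (l g : ℂ) = (l g : ℂ) := hc
        rw [conj_linear_apply] at hc'
        simp only [MonoidHom.mul_apply, MonoidHom.one_apply, Units.val_mul, Units.val_one]
        nth_rewrite 1 [← hc']
        rw [MonoidHom.inv_apply, ← Units.val_mul, inv_mul_cancel, Units.val_one]
    have hterm : ∀ χ : Cfsg.IrrCharacter G, (4 : ℤ) ∣ e χ * (Cfsg.charDegree (χ : G → ℂ) : ℤ) -
        ((if χ ∈ L then 1 else 0) + (if χ ∈ D then 2 else 0)) := fun χ => by
      by_cases hr : ∀ g : G, ((χ : G → ℂ) g).im = 0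
      · obtain ⟨k, hk⟩ := (Nat.dvd_prime_pow Nat.prime_two).1
          ((IsPGroup.iff_card.1 hG).choose_spec ▸ BlockB.irr_degree_dvd_card χ)
        rcases (by omega : k = 0 ∨ k = 1 ∨ 2 ≤ k) with h | h | h
        · have hd : Cfsg.charDegree (χ : G → ℂ) = 1 := by rw [hk.2, h, pow_zero]
          have he1 : e χ = 1 := by
            obtain ⟨l, hl⟩ := exists_hom_of_degree_one (irr_isCharacter χ.2)
              (by rw [← BlockB.irr_degree_cast, hd, Nat.cast_one])
            have h1 : BlockB.fsInd χ = 1 := by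
              rw [BlockB.fsInd, hl, Finset.sum_eq_card_nsmul (b := (1 : ℂ)) fun s _ => ?_]
              · rw [Finset.card_univ, nsmul_eq_mul, mul_one, Nat.card_eq_fintype_card,
                  inv_mul_cancel₀ (Nat.cast_ne_zero.2 Fintype.card_ne_zero)]
              · have hc := Complex.conj_eq_iff_im.2 (hr s)
                rw [hl] at hc
                have hc' : conj (l s : ℂ) = (l s : ℂ) := hc
                rw [conj_linear_apply] at hc'
                show (l (s * s) : ℂ) = 1
                rw [map_mul, Units.val_mul]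
                nth_rewrite 1 [← hc']
                rw [MonoidHom.inv_apply, ← Units.val_mul, inv_mul_cancel, Units.val_one]
            have := (he χ).1
            rw [h1] at this
            exact_mod_cast this.symm
          have h2 : χ ∉ D := fun hm => by have := (Finset.mem_filter.1 hm).2.2; omega
          rw [if_pos (Finset.mem_filter.2 ⟨Finset.mem_univ _, hr, hd⟩), if_neg h2, he1, hd]
          norm_num
        · have hd : Cfsg.charDegree (χ : G → ℂ) = 2 := by rw [hk.2, h, pow_one]
          have h1 : χ ∉ L := fun hm => by have := (Finset.mem_filter.1 hm).2.2; omega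
          rw [if_neg h1, if_pos (Finset.mem_filter.2 ⟨Finset.mem_univ _, hr, hd⟩), hd]
          rcases (he χ).2.1 with e' | e' | e'
          · exact absurd hr ((he χ).2.2.1 e')
          all_goals rw [e']; norm_num
        · have hd : 4 ∣ Cfsg.charDegree (χ : G → ℂ) := hk.2 ▸ dvd_trans (by norm_num) (pow_dvd_pow 2 h)
          have h1 : χ ∉ L := fun hm => by have := (Finset.mem_filter.1 hm).2.2; omega
          have h2 : χ ∉ D := fun hm => by have := (Finset.mem_filter.1 hm).2.2; omega
          rw [if_neg h1, if_neg h2, add_zero, sub_zero]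
          exact dvd_mul_of_dvd_right (by exact_mod_cast hd) _
      · have h1 : χ ∉ L := fun hm => hr (Finset.mem_filter.1 hm).2.1
        have h2 : χ ∉ D := fun hm => hr (Finset.mem_filter.1 hm).2.1
        rw [if_neg h1, if_neg h2, (he χ).2.2.2 hr]
        simp
    have h4 := Finset.dvd_sum fun χ (_ : χ ∈ (Finset.univ : Finset (Cfsg.IrrCharacter G))) => hterm χ
    rw [Finset.sum_sub_distrib, ← hsum, Finset.sum_add_distrib, Finset.sum_ite_mem,
      Finset.sum_ite_mem, Finset.univ_inter, Finset.univ_inter, Finset.sum_const, Finset.sum_const,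
      nsmul_eq_mul, nsmul_eq_mul, mul_one, hLV] at h4
    obtain ⟨a, ha⟩ := hV4
    obtain ⟨b, hb⟩ := hdvd
    rw [ha, hb] at h4
    push_cast at h4
    omega
  -- a real character of degree two fixed by all sign characters
  have hstab : ∀ (l : G →* ℂˣ) (χ : Cfsg.IrrCharacter G), l * l = 1 →
      (∀ g : G, ((χ : G → ℂ) g).im = 0) → ∀ g : G, ((twist l χ : G → ℂ) g).im = 0 := by
    intro l χ hl hr g
    have h := congrArg Units.val (DFunLike.congr_fun hl g)
    simp only [MonoidHom.mul_apply, MonoidHom.one_apply, Units.val_mul, Units.val_one] at h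
    rcases mul_self_eq_one_iff.1 h with e | e <;> simp [twist, e, hr g]
  let X := {χ : Cfsg.IrrCharacter G // χ ∈ D}
  let : MulAction V X :=
    { smul := fun l χ => ⟨twist (l : G →* ℂˣ) χ.1, Finset.mem_filter.2 ⟨Finset.mem_univ _,
        hstab _ _ l.2 (Finset.mem_filter.1 χ.2).2.1,
        by rw [charDegree_twist]; exact (Finset.mem_filter.1 χ.2).2.2⟩⟩
      one_smul := fun χ => Subtype.ext (twist_one _)
      mul_smul := fun a b χ => Subtype.ext (twist_twist _ _ _).symm }
  have hX : Nat.card X = D.card := by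
    rw [Nat.card_eq_fintype_card, Fintype.card_coe]
  have hfix := hVp.card_modEq_card_fixedPoints X
  rw [hX] at hfix
  have hFodd : ¬ 2 ∣ Nat.card (MulAction.fixedPoints V X) := fun h => hDodd
    ((Nat.ModEq.dvd_iff hfix dvd_rfl).2 h)
  obtain ⟨⟨χ₀, hχ₀⟩⟩ : Nonempty (MulAction.fixedPoints V X) := by
    by_contra h
    rw [not_nonempty_iff] at h
    exact hFodd (by rw [Nat.card_of_isEmpty]; exact dvd_zero 2)
  have hfixV : ∀ χ : MulAction.fixedPoints V X, ∀ l ∈ V, twist l (χ : X).1 = (χ : X).1 :=
    fun χ l hl => congrArg Subtype.val (χ.2 ⟨l, hl⟩)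
  -- every linear character has square one
  have hall : ∀ l : G →* ℂˣ, l ∈ V := by
    by_contra h
    push Not at h
    obtain ⟨l₀, hl₀⟩ := h
    have hAp : IsPGroup 2 (G →* ℂˣ) := fun l => by
      obtain ⟨k, hk⟩ := IsPGroup.iff_card.1 hG
      refine ⟨k, MonoidHom.ext fun g => ?_⟩
      rw [MonoidHom.pow_apply, MonoidHom.one_apply, ← map_pow, ← hk, pow_card_eq_one', map_one]
    obtain ⟨k, hk⟩ := (Nat.dvd_prime_pow Nat.prime_two).1
      (show orderOf l₀ ∣ 2 ^ (hAp l₀).choose from orderOf_dvd_of_pow_eq_one (hAp l₀).choose_spec)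
    have hk2 : 2 ≤ k := by
      by_contra hlt
      refine hl₀ (show l₀ * l₀ = 1 from (pow_two l₀).symm.trans (orderOf_dvd_iff_pow_eq_one.1 ?_))
      rw [hk.2]
      exact (pow_dvd_pow 2 (show k ≤ 1 by omega)).trans (by norm_num)
    obtain ⟨j, rfl⟩ : ∃ j, k = j + 2 := ⟨k - 2, by omega⟩
    set μ := l₀ ^ (2 ^ j) with hμdef
    have hμμ : μ * μ = l₀ ^ 2 ^ (j + 1) := by
      rw [hμdef, ← pow_add, ← two_mul, ← pow_succ']
    have hμV : μ * μ ∈ V := by
      show μ * μ * (μ * μ) = 1
      rw [hμμ, ← pow_add, ← two_mul, ← pow_succ', ← hk.2, pow_orderOf_eq_one]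
    have hμn : μ ∉ V := fun e => by
      have e' : μ * μ = 1 := e
      rw [hμμ, ← orderOf_dvd_iff_pow_eq_one, hk.2] at e'
      have := (Nat.pow_dvd_pow_iff_le_right (by norm_num)).1 e'
      omega
    have hne : ∀ χ : MulAction.fixedPoints V X, twist μ (χ : X).1 ≠ (χ : X).1 := fun χ he => by
      let S : Subgroup (G →* ℂˣ) :=
        { carrier := {l | twist l (χ : X).1 = (χ : X).1}
          one_mem' := twist_one _
          mul_mem' := fun {a b} ha hb => show twist (a * b) _ = _ by
            rw [← twist_twist]; exact (congrArg (twist a) hb).trans ha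
          inv_mem' := fun {a} ha => show twist a⁻¹ _ = _ by
            have h := congrArg (twist a⁻¹) (ha : twist a (χ : X).1 = (χ : X).1)
            rw [twist_twist, show a⁻¹ * a = 1 from inv_mul_cancel a, twist_one] at h
            exact h.symm }
      have hVS : V ≤ S := fun l hl => hfixV χ l hl
      have hS4 : Nat.card S ≤ 4 := card_stab_le_four _ (Finset.mem_filter.1 (χ : X).2).2.2.le S
        fun l hl => hl
      have hV4' : 4 ≤ Nat.card V := Nat.le_of_dvd Nat.card_pos hV4
      exact hμn (Subgroup.eq_of_le_of_card_ge hVS (hS4.trans hV4') ▸ (he : μ ∈ S))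
    have hreal : ∀ χ : MulAction.fixedPoints V X, ∀ g,
        ((twist μ (χ : X).1 : G → ℂ) g).im = 0 := fun χ g => by
      rw [← Complex.conj_eq_iff_im]
      have hr := Complex.conj_eq_iff_im.2 ((Finset.mem_filter.1 (χ : X).2).2.1 g)
      have hsq := congrFun (congrArg Subtype.val (hfixV χ _ hμV)) g
      simp only [twist, MonoidHom.mul_apply, Units.val_mul] at hsq
      have hcancel : ((μ⁻¹ g : ℂˣ) : ℂ) * ((μ g : ℂˣ) : ℂ) = 1 := by
        rw [MonoidHom.inv_apply, ← Units.val_mul, inv_mul_cancel, Units.val_one]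
      simp only [twist, map_mul, conj_linear_apply, hr]
      conv_lhs => rw [← hsq, mul_assoc, ← mul_assoc, hcancel, one_mul]
    let f : MulAction.fixedPoints V X → MulAction.fixedPoints V X := fun χ =>
      ⟨⟨twist μ (χ : X).1, Finset.mem_filter.2 ⟨Finset.mem_univ _, hreal χ,
        (charDegree_twist _ _).trans (Finset.mem_filter.1 (χ : X).2).2.2⟩⟩, fun l => Subtype.ext (by
          show twist (l : G →* ℂˣ) (twist μ (χ : X).1) = twist μ (χ : X).1
          rw [twist_twist, show (l : G →* ℂˣ) * μ = μ * (l : G →* ℂˣ) from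
            MonoidHom.ext fun g => mul_comm ((l : G →* ℂˣ) g) (μ g),
            ← twist_twist, hfixV χ _ l.2])⟩
    have hff : ∀ χ, f (f χ) = χ := fun χ => Subtype.ext (Subtype.ext (by
      show twist μ (twist μ (χ : X).1) = (χ : X).1
      rw [twist_twist, hfixV χ _ hμV]))
    have := Fintype.ofFinite (MulAction.fixedPoints V X)
    have hzero : ∑ _χ : MulAction.fixedPoints V X, (1 : ZMod 2) = 0 :=
      Finset.sum_involution (fun χ _ => f χ) (fun _ _ => rfl)
        (fun χ _ _ h => hne χ (congrArg (fun z : MulAction.fixedPoints V X => (z : X).1) h))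
        (fun _ _ => Finset.mem_univ _) (fun χ _ => hff χ)
    rw [Finset.sum_const, Finset.card_univ, nsmul_eq_mul, mul_one,
      ZMod.natCast_eq_zero_iff_even, even_iff_two_dvd, ← Nat.card_eq_fintype_card] at hzero
    exact hFodd hzero
  have hS : Nat.card V ≤ 4 := card_stab_le_four _ (Finset.mem_filter.1 χ₀.2).2.2.le V
    fun l hl => hfixV ⟨χ₀, hχ₀⟩ l hl
  rw [← natCard_linear, ← Nat.card_congr (Equiv.subtypeUnivEquiv hall)]
  exact le_antisymm hS (Nat.le_of_dvd Nat.card_pos hV4)

end CfsgLib.BlockA
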