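import Cfsg.Agent.Lib.Char.Induce
import Cfsg.Agent.Lib.Char.Inner
import Cfsg.Agent.Lib.Char.Linear
import Cfsg.Agent.Lib.Clifford.CosetAvg
import Cfsg.Agent.Lib.Clifford.Correspondence
import Cfsg.Agent.Lib.Block.Covering
import Mathlib.GroupTheory.RegularWreathProduct
import Mathlib.GroupTheory.Solvable
import Mathlib.Data.ZMod.Basic
import Mathlib.GroupTheory.SpecificGroups.Cyclic

/-! Finite solvable groups embed into M-groups (iterated wreath products of groups of prime
order). -/

set_option autoImplicit false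
set_option linter.unusedSectionVars false
set_option maxHeartbeats 1000000

namespace CfsgLib.BlockA.MGroupEmbed

open Cfsg CfsgLib.Char
open scoped ComplexConjugate

universe u

/-- Every irreducible character is induced from a linear character. -/
def IsMon (G : Type u) [Group G] [Fintype G] : Prop :=
  ∀ χ : G → ℂ, IsIrrCharacter G χ →
    ∃ (H : Subgroup G) (lam : ↥H →* ℂˣ), χ = indFun H (fun h => (lam h : ℂ))

section Pi

variable {ι : Type} [Fintype ι] {H : Type u} [Group H] [Fintype H]

/-- The outer product of functions. -/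
noncomputable def prodFn (θ : ι → H → ℂ) : (ι → H) → ℂ := fun b => ∏ i, θ i (b i)

theorem isCharacter_prodFn {θ : ι → H → ℂ} (h : ∀ i, IsCharacter H (θ i)) :
    IsCharacter (ι → H) (prodFn θ) := by
  classical
  have hs : ∀ s : Finset ι, IsCharacter (ι → H) (fun b => ∏ i ∈ s, θ i (b i)) := by
    intro s
    induction s using Finset.induction with
    | empty => simpa using irr_isCharacter (isIrrCharacter_one (G := ι → H))
    | insert i s hi ih =>
      have e : (fun b : ι → H => ∏ j ∈ insert i s, θ j (b j)) =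
          (θ i ∘ Pi.evalMonoidHom (fun _ => H) i) * fun b => ∏ j ∈ s, θ j (b j) := by
        funext b
        simp [Finset.prod_insert hi]
      rw [e]
      exact isCharacter_mul (isCharacter_comp (h i) _) ih
  exact hs Finset.univ

variable [Fintype (ι → H)]

theorem classInner_prodFn (θ φ : ι → H → ℂ) :
    classInner (prodFn θ) (prodFn φ) = ∏ i, classInner (θ i) (φ i) := by
  classical
  simp only [classInner_def, Finset.prod_mul_distrib, Finset.prod_const, Finset.card_univ,
    prodFn, map_prod, ← Finset.prod_mul_distrib]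
  rw [Finset.prod_mul_distrib, Finset.prod_const, Finset.card_univ, Fintype.prod_sum, Nat.card_fun,
    Nat.card_eq_fintype_card (α := ι), Nat.cast_pow, inv_pow]
  congr 1
  convert rfl

theorem isIrr_prodFn (θ : ι → IrrCharacter H) :
    IsIrrCharacter (ι → H) (prodFn fun i => (θ i : H → ℂ)) :=
  isIrrCharacter_iff.2 ⟨isCharacter_prodFn fun i => irr_isCharacter (θ i).2, by
    rw [classInner_prodFn]
    exact Finset.prod_eq_one fun i _ => irr_classInner_self (θ i).2⟩

theorem prodFn_injective :
    Function.Injective (fun θ : ι → IrrCharacter H => prodFn fun i => (θ i : H → ℂ)) := by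
  intro θ φ h
  have h1 := classInner_prodFn (fun i => (θ i : H → ℂ)) (fun i => (φ i : H → ℂ))
  rw [show prodFn (fun i => (θ i : H → ℂ)) = prodFn (fun i => (φ i : H → ℂ)) from h,
    irr_classInner_self (isIrr_prodFn φ)] at h1
  funext i
  by_contra hne
  rw [Finset.prod_eq_zero (Finset.mem_univ i) (irr_classInner_ne (θ i).2 (φ i).2
    (fun e => hne (Subtype.ext e)))] at h1
  exact one_ne_zero h1

theorem exists_eq_prodFn {χ : (ι → H) → ℂ} (hχ : IsIrrCharacter (ι → H) χ) :
    ∃ θ : ι → IrrCharacter H, χ = prodFn fun i => (θ i : H → ℂ) := by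
  classical
  have := Fintype.ofFinite (IrrCharacter H)
  have := Fintype.ofFinite (IrrCharacter (ι → H))
  let F : (ι → IrrCharacter H) → IrrCharacter (ι → H) := fun θ => ⟨_, isIrr_prodFn θ⟩
  have hF : Function.Injective F := fun a b h => prodFn_injective (congrArg Subtype.val h)
  have e : ConjClasses (ι → H) ≃ (ι → ConjClasses H) :=
    Equiv.ofBijective (fun C i => ConjClasses.map (Pi.evalMonoidHom (fun _ => H) i) C)
      ⟨fun C D h => by
        induction C using Quotient.ind with | _ b => ?_
        induction D using Quotient.ind with | _ c => ?_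
        have hc : ∀ i, IsConj (b i) (c i) := fun i =>
          ConjClasses.mk_eq_mk_iff_isConj.1 (congrFun h i)
        choose x hx using fun i => isConj_iff.1 (hc i)
        exact ConjClasses.mk_eq_mk_iff_isConj.2 (isConj_iff.2 ⟨x, funext hx⟩),
      fun f => by
        choose b hb using fun i => ConjClasses.mk_surjective (f i)
        exact ⟨ConjClasses.mk b, funext fun i => hb i⟩⟩
  have : Finite (ConjClasses H) := Finite.of_surjective _ ConjClasses.mk_surjective
  have hcard : Fintype.card (ι → IrrCharacter H) = Fintype.card (IrrCharacter (ι → H)) := by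
    rw [← Nat.card_eq_fintype_card, ← Nat.card_eq_fintype_card, irr_card_eq, Nat.card_congr e,
      Nat.card_fun, Nat.card_fun, irr_card_eq]
  obtain ⟨θ, hθ⟩ := ((Fintype.bijective_iff_injective_and_card F).2 ⟨hF, hcard⟩).2 ⟨χ, hχ⟩
  exact ⟨θ, (congrArg Subtype.val hθ).symm⟩

/-- The product subgroup. -/
def piSub (K : ι → Subgroup H) : Subgroup (ι → H) := Subgroup.pi Set.univ K

/-- The product of linear characters. -/
noncomputable def piLam {K : ι → Subgroup H} (lam : ∀ i, K i →* ℂˣ) : piSub K →* ℂˣ where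
  toFun b := ∏ i, lam i ⟨(b : ι → H) i, b.2 i (Set.mem_univ i)⟩
  map_one' := Finset.prod_eq_one fun i _ => (lam i).map_one
  map_mul' a b := by
    rw [← Finset.prod_mul_distrib]
    exact Finset.prod_congr rfl fun i _ => (lam i).map_mul ⟨_, _⟩ ⟨_, _⟩

theorem extendByZero_pi {K : ι → Subgroup H} (lam : ∀ i, K i →* ℂˣ) (b : ι → H) :
    extendByZero (piSub K) (fun h => (piLam lam h : ℂ)) b =
      ∏ i, extendByZero (K i) (fun h => (lam i h : ℂ)) (b i) := by
  classical
  by_cases h : b ∈ piSub K
  · rw [extendByZero_of_mem _ h]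
    simp only [piLam, MonoidHom.coe_mk, OneHom.coe_mk, Units.coe_prod]
    refine Finset.prod_congr rfl fun i _ => ?_
    rw [extendByZero_of_mem _ (h i (Set.mem_univ i))]
  · rw [extendByZero_of_not_mem _ h]
    obtain ⟨i, hi⟩ : ∃ i, b i ∉ K i := by
      by_contra hc
      push Not at hc
      exact h fun i _ => hc i
    refine (Finset.prod_eq_zero (Finset.mem_univ i) ?_).symm
    exact extendByZero_of_not_mem _ hi

theorem card_piSub (K : ι → Subgroup H) : Nat.card (piSub K) = ∏ i, Nat.card (K i) := by
  rw [← Nat.card_pi]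
  exact Nat.card_congr
    { toFun := fun b i => ⟨(b : ι → H) i, b.2 i (Set.mem_univ i)⟩
      invFun := fun f => ⟨fun i => f i, fun i _ => (f i).2⟩
      left_inv := fun b => rfl
      right_inv := fun f => rfl }

theorem indFun_pi {K : ι → Subgroup H} (lam : ∀ i, K i →* ℂˣ) :
    indFun (piSub K) (fun h => (piLam lam h : ℂ)) =
      prodFn fun i => indFun (K i) (fun h => (lam i h : ℂ)) := by
  classical
  funext b
  simp only [prodFn, indFun_def, extendByZero_pi, Finset.prod_mul_distrib, card_piSub, Nat.cast_prod,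
    Finset.prod_inv_distrib]
  congr 1
  rw [Fintype.prod_sum]
  convert rfl
  all_goals simp [mul_assoc]

theorem isMon_pi (hH : IsMon H) : IsMon (ι → H) := by
  intro χ hχ
  obtain ⟨θ, rfl⟩ := exists_eq_prodFn hχ
  choose K lam hK using fun i => hH (θ i : H → ℂ) (θ i).2
  refine ⟨piSub K, piLam lam, ?_⟩
  rw [indFun_pi]
  exact congrArg prodFn (funext fun i => hK i)

end Pi

theorem isMon_equiv {A B : Type u} [Group A] [Fintype A] [Group B] [Fintype B] (e : A ≃* B)
    (hA : IsMon A) : IsMon B := by
  intro χ hχ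
  obtain ⟨H, lam, h⟩ := hA (χ ∘ e.toMonoidHom)
    (isIrrCharacter_comp_surjective hχ _ e.surjective)
  refine ⟨H.map e.toMonoidHom,
    lam.comp (H.equivMapOfInjective e.toMonoidHom e.injective).symm.toMonoidHom, ?_⟩
  funext b
  obtain ⟨a, rfl⟩ := e.surjective b
  rw [show χ (e a) = (χ ∘ e.toMonoidHom) a from rfl, h, indFun_def, indFun_def,
    Nat.card_congr (H.equivMapOfInjective e.toMonoidHom e.injective).toEquiv]
  congr 1
  refine Fintype.sum_equiv e.toEquiv _ _ fun x => ?_
  rw [show (e.toEquiv x)⁻¹ * e a * e.toEquiv x = e (x⁻¹ * a * x) by simp]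
  by_cases hx : x⁻¹ * a * x ∈ H
  · rw [extendByZero_of_mem _ hx,
      extendByZero_of_mem _ (show e (x⁻¹ * a * x) ∈ H.map e.toMonoidHom from ⟨_, hx, rfl⟩)]
    show (lam ⟨_, hx⟩ : ℂ) = (lam _ : ℂ)
    congr 2
    exact ((H.equivMapOfInjective e.toMonoidHom e.injective).symm_apply_apply ⟨_, hx⟩).symm
  · rw [extendByZero_of_not_mem _ hx, extendByZero_of_not_mem]
    rintro ⟨y, hy, he⟩
    exact hx (e.injective he ▸ hy)

theorem isMon_of_comm {G : Type u} [Group G] [Fintype G] (h : ∀ a b : G, a * b = b * a) :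
    IsMon G := by
  intro χ hχ
  obtain ⟨lam, rfl⟩ := exists_hom_of_degree_one (irr_isCharacter hχ) (irr_degree_one_of_comm h hχ)
  refine ⟨⊤, lam.comp (Subgroup.subtype ⊤), ?_⟩
  funext g
  rw [indFun_def]
  have : ∀ x : G, extendByZero (⊤ : Subgroup G)
      (fun y => ((lam.comp (Subgroup.subtype ⊤)) y : ℂ)) (x⁻¹ * g * x) = (lam g : ℂ) := fun x => by
    rw [extendByZero_of_mem _ (Subgroup.mem_top _)]
    show (lam (x⁻¹ * g * x) : ℂ) = _
    rw [h x⁻¹ g, mul_assoc, inv_mul_cancel, mul_one]
  simp only [this, Finset.sum_const, Finset.card_univ, nsmul_eq_mul, Subgroup.card_top,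
    Nat.card_eq_fintype_card]
  rw [inv_mul_cancel_left₀ (Nat.cast_ne_zero.2 Fintype.card_ne_zero)]

theorem indFun_congr_eq {G : Type u} [Group G] [Fintype G] {K K' : Subgroup G} (h : K = K')
    (θ : K → ℂ) (θ' : K' → ℂ) (hv : ∀ g hg hg', θ ⟨g, hg⟩ = θ' ⟨g, hg'⟩) :
    indFun K θ = indFun K' θ' := by
  subst h
  rw [show θ = θ' from funext fun x => hv x.1 x.2 x.2]

section Wreath

variable {H : Type u} [Group H] [Fintype H] (p : ℕ) [Fact p.Prime]

/-- The cyclic group on top. -/
abbrev Top := Multiplicative (ZMod p)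

/-- The wreath product. -/
abbrev Wr (H : Type u) (p : ℕ) := RegularWreathProduct H (Top p)

variable [Fintype (Wr H p)]

/-- The base. -/
abbrev base (H : Type u) [Group H] (p : ℕ) : Subgroup (Wr H p) :=
  (RegularWreathProduct.rightHom (D := H) (Q := Top p)).ker

/-- The base as functions. -/
def baseEquiv : base H p ≃* (Top p → H) where
  toFun b := (b : Wr H p).left
  invFun f := ⟨⟨f, 1⟩, rfl⟩
  left_inv b := Subtype.ext (RegularWreathProduct.ext rfl
    (show (1 : Top p) = (b : Wr H p).right from (show (b : Wr H p).right = 1 from b.2).symm))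
  right_inv f := rfl
  map_mul' a b := by
    funext i
    show ((a : Wr H p) * (b : Wr H p)).left i = _
    simp [show (a : Wr H p).right = 1 from a.2]

theorem baseEquiv_apply (b : base H p) : baseEquiv p b = (b : Wr H p).left := rfl

/-- The wreath product of a subgroup. -/
def wrSub (K : Subgroup H) : Subgroup (Wr H p) where
  carrier := {x | ∀ i, x.left i ∈ K}
  one_mem' := fun i => K.one_mem
  mul_mem' := fun {a b} ha hb i => K.mul_mem (ha i) (hb _)
  inv_mem' := fun {a} ha i => K.inv_mem (ha _)

/-- The linear character of the wreath product of a subgroup. -/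
noncomputable def wrLam {K : Subgroup H} (lam : K →* ℂˣ) : wrSub p K →* ℂˣ where
  toFun x := ∏ i, lam ⟨(x : Wr H p).left i, x.2 i⟩
  map_one' := Finset.prod_eq_one fun i _ => lam.map_one
  map_mul' a b := by
    rw [← Equiv.prod_comp (Equiv.mulLeft (a : Wr H p).right⁻¹)
      (fun i => lam ⟨(b : Wr H p).left i, b.2 i⟩), ← Finset.prod_mul_distrib]
    exact Finset.prod_congr rfl fun i _ => lam.map_mul ⟨_, _⟩ ⟨_, _⟩

theorem card_wrSub (K : Subgroup H) :
    Nat.card (wrSub p K) = Nat.card K ^ Fintype.card (Top p) * Fintype.card (Top p) := by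
  rw [← Nat.card_eq_fintype_card, ← Nat.card_fun, ← Nat.card_prod]
  exact Nat.card_congr
    { toFun := fun x => (fun i => ⟨(x : Wr H p).left i, x.2 i⟩, (x : Wr H p).right)
      invFun := fun f => ⟨⟨fun i => f.1 i, f.2⟩, fun i => (f.1 i).2⟩
      left_inv := fun x => rfl
      right_inv := fun f => rfl }

theorem indFun_wr_base {K : Subgroup H} (lam : K →* ℂˣ) (b : base H p) :
    indFun (wrSub p K) (fun h => (wrLam p lam h : ℂ)) (b : Wr H p) =
      prodFn (fun _ : Top p => indFun K (fun h => (lam h : ℂ))) (baseEquiv p b) := by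
  classical
  have hb1 : (b : Wr H p).right = 1 := b.2
  have hterm : ∀ x : Wr H p, extendByZero (wrSub p K) (fun h => (wrLam p lam h : ℂ))
      (x⁻¹ * (b : Wr H p) * x) = ∏ i, extendByZero K (fun h => (lam h : ℂ))
        ((x.left i)⁻¹ * (b : Wr H p).left i * x.left i) := fun x => by
    have hl : ∀ i, (x⁻¹ * (b : Wr H p) * x).left i =
        (x.left (x.right * i))⁻¹ * (b : Wr H p).left (x.right * i) * x.left (x.right * i) := by
      intro i
      simp [hb1]
    rw [← Equiv.prod_comp (Equiv.mulLeft x.right) (fun i => extendByZero K (fun h => (lam h : ℂ))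
        ((x.left i)⁻¹ * (b : Wr H p).left i * x.left i))]
    simp only [Equiv.coe_mulLeft, ← hl]
    by_cases h : x⁻¹ * (b : Wr H p) * x ∈ wrSub p K
    · rw [extendByZero_of_mem _ h]
      simp only [wrLam, MonoidHom.coe_mk, OneHom.coe_mk, Units.coe_prod]
      exact Finset.prod_congr rfl fun i _ => by rw [extendByZero_of_mem _ (h i)]
    · rw [extendByZero_of_not_mem _ h]
      obtain ⟨i, hi⟩ : ∃ i, (x⁻¹ * (b : Wr H p) * x).left i ∉ K := by
        by_contra hc
        push Not at hc
        exact h hc
      refine (Finset.prod_eq_zero (Finset.mem_univ i) ?_).symm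
      exact extendByZero_of_not_mem _ hi
  simp only [indFun_def, hterm, prodFn, Finset.prod_mul_distrib, Finset.prod_const,
    Finset.card_univ, Fintype.prod_sum, card_wrSub]
  rw [← Equiv.sum_comp (RegularWreathProduct.equivProd H (Top p)).symm, Fintype.sum_prod_type]
  dsimp only [RegularWreathProduct.equivProd, Equiv.coe_fn_symm_mk]
  simp only [Finset.sum_const]
  simp only [Finset.card_univ, nsmul_eq_mul, ← Finset.mul_sum, baseEquiv_apply]
  have hp0 : ((Fintype.card (Top p) : ℕ) : ℂ) ≠ 0 := Nat.cast_ne_zero.2 Fintype.card_ne_zero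
  push_cast
  rw [mul_inv, inv_pow, mul_assoc, inv_mul_cancel_left₀ hp0]

theorem index_base : (base H p).index = p := by
  rw [Subgroup.index_ker, MonoidHom.range_eq_top.2
    (fun q => ⟨RegularWreathProduct.inl q, rfl⟩), Subgroup.card_top]
  simp

theorem isMon_wr (hH : IsMon H) : IsMon (Wr H p) := by
  classical
  have := Fintype.ofFinite (base H p)
  intro χ hχ
  obtain ⟨θ₀, hθ₀⟩ := CfsgLib.Block.exists_constituent_res (N := base H p) ⟨χ, hχ⟩
  obtain ⟨θs, hθs⟩ := exists_eq_prodFn (χ := (θ₀ : base H p → ℂ) ∘ (baseEquiv p).symm.toMonoidHom)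
    (isIrrCharacter_comp_surjective θ₀.2 (baseEquiv (H := H) p).symm.toMonoidHom
      (baseEquiv (H := H) p).symm.surjective)
  have hθ : ∀ b, (θ₀ : base H p → ℂ) b = prodFn (fun i => (θs i : H → ℂ)) (baseEquiv p b) := fun b => by
    rw [← hθs]
    simp
  by_cases hinv : ∀ g : Wr H p, CfsgLib.Clifford.conjFn g (θ₀ : base H p → ℂ) = θ₀
  · have hconst : ∀ q, θs q = θs 1 := fun q => by
      have h : (fun i => θs (q * i)) = θs := by
        refine prodFn_injective (funext fun f => ?_)
        have h1 := congrFun (hinv (RegularWreathProduct.inl q)) ((baseEquiv p).symm f)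
        rw [CfsgLib.Clifford.conjFn_apply, hθ, hθ, MulEquiv.apply_symm_apply] at h1
        refine Eq.trans ?_ h1
        unfold prodFn
        rw [← Equiv.prod_comp (Equiv.mulLeft q) (fun i => (θs i : H → ℂ) ((baseEquiv p)
          (CfsgLib.Clifford.conjN (RegularWreathProduct.inl q) ((baseEquiv p).symm f)) i))]
        refine Finset.prod_congr rfl fun i _ => ?_
        congr 1
        simp [baseEquiv, CfsgLib.Clifford.conjN]
      simpa using congrFun h 1
    obtain ⟨K, lam, hK⟩ := hH (θs 1 : H → ℂ) (θs 1).2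
    set Θ := indFun (wrSub p K) (fun h => (wrLam p lam h : ℂ)) with hΘ
    have hres : (fun b : base H p => Θ b) = (θ₀ : base H p → ℂ) := funext fun b => by
      rw [hΘ, indFun_wr_base, hθ]
      simp only [fun i => show (θs i : H → ℂ) = indFun K (fun h => (lam h : ℂ)) by rw [hconst i, hK]]
    have hΘc : IsCharacter (Wr H p) Θ :=
      isCharacter_indFun _ (irr_isCharacter (isIrrCharacter_linear (wrLam p lam)))
    have hresirr : IsIrrCharacter (base H p) (fun b : base H p => Θ b) := hres ▸ θ₀.2
    obtain ⟨hβ, heq⟩ := CfsgLib.Clifford.gallagher_factor (base H p) hχ hΘc hresirr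
      (hres ▸ hθ₀)
    set β := CfsgLib.Clifford.gallagherQuot (base H p) χ Θ
    have hker : ∀ n ∈ base H p, β n = β 1 := fun n hn =>
      CfsgLib.Clifford.cosetAvg_mem (base H p) (fun g => χ g * conj (Θ g)) ⟨n, hn⟩
    obtain ⟨ψ, hψ, hψe⟩ := isIrr_quotient_lift (base H p) hβ hker
    have hcyc : IsCyclic (Wr H p ⧸ base H p) := isCyclic_of_prime_card (p := p) (by
      rw [← Subgroup.index_eq_card, index_base])
    have hd : β 1 = 1 := by
      rw [hψe, Function.comp_apply, map_one]
      exact irr_degree_one_of_comm (fun a b => IsMulCommutative.is_comm.comm a b) hψ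
    obtain ⟨ν, hν⟩ := exists_hom_of_degree_one (irr_isCharacter hβ) hd
    refine ⟨wrSub p K, wrLam p lam * ν.comp (wrSub p K).subtype, ?_⟩
    rw [heq, hν, indFun_mul _ _ (irr_isClassFunction (isIrrCharacter_linear ν))]
    rfl
  · push Not at hinv
    obtain ⟨g, hg⟩ := hinv
    have hpr : (base H p).index.Prime := (index_base (H := H) p).symm ▸ Fact.out
    set T := CfsgLib.Clifford.inertia (θ₀ : base H p → ℂ) with hT
    have hle : base H p ≤ T := CfsgLib.Clifford.le_inertia (irr_isClassFunction θ₀.2)
    have hTB : T = base H p := by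
      rcases (Nat.dvd_prime hpr).1 (Subgroup.index_dvd_of_le hle) with h | h
      · exact absurd (CfsgLib.Clifford.mem_inertia_iff_conjFn.1
          (show g ∈ T by rw [Subgroup.index_eq_one.1 h]; exact Subgroup.mem_top g)) hg
      · refine (le_antisymm hle (Subgroup.relIndex_eq_one.1 ?_)).symm
        have := Subgroup.relIndex_mul_index hle
        rw [h] at this
        exact Nat.eq_of_mul_eq_mul_right hpr.pos (this.trans (one_mul _).symm)
    obtain ⟨ψ, hψ, hψχ, -⟩ := CfsgLib.Clifford.exists_indFun_inertia (base H p) le_rfl θ₀.2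
      (fun x => by rw [← CfsgLib.Clifford.mem_inertia_iff_conjFn, ← hT, hTB]) hχ hθ₀
    obtain ⟨K, lam, hK⟩ := isMon_equiv (baseEquiv p).symm (isMon_pi hH) ψ hψ
    have hKB : K.map (base H p).subtype ≤ base H p := Subgroup.map_subtype_le K
    refine ⟨K.map (base H p).subtype, lam.comp
      (K.equivMapOfInjective _ (base H p).subtype_injective).symm.toMonoidHom, ?_⟩
    rw [← hψχ, ← indFun_trans (K.map (base H p).subtype) (base H p) hKB]
    congr 1
    rw [hK]
    refine indFun_congr_eq (Subgroup.comap_map_eq_self_of_injective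
      (base H p).subtype_injective K).symm _ _ fun x h1 h2 => ?_
    show (lam _ : ℂ) = (lam _ : ℂ)
    congr 2
    exact ((K.equivMapOfInjective _ (base H p).subtype_injective).symm_apply_apply ⟨x, h1⟩).symm

end Wreath

theorem exists_prime_index {G : Type u} [Group G] [Finite G] [Nontrivial G]
    (hs : Group.IsSolvable G) :
    ∃ N : Subgroup G, N.Normal ∧ N.index.Prime := by
  obtain ⟨N, hN, hcN⟩ : ∃ N : Subgroup G, IsCoatom N ∧ commutator G ≤ N := by
    rcases IsCoatomic.eq_top_or_exists_le_coatom (commutator G) with h | ⟨N, hN, hle⟩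
    · exact absurd h (Group.IsSolvable.commutator_lt_top_of_nontrivial G).ne
    · exact ⟨N, hN, hle⟩
  have hNn : N.Normal := ⟨fun x hx g => by
    have h := N.mul_mem (hcN (Subgroup.commutator_mem_commutator (Subgroup.mem_top g)
      (Subgroup.mem_top x))) hx
    rwa [commutatorElement_def, inv_mul_cancel_right] at h⟩
  refine ⟨N, hNn, ?_⟩
  have hne : N.index ≠ 1 := fun h => hN.1 (Subgroup.index_eq_one.1 h)
  obtain ⟨q, hq, hd⟩ := Nat.exists_prime_and_dvd hne
  have := Fact.mk hq
  rw [Subgroup.index_eq_card] at hd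
  obtain ⟨x, hx⟩ := exists_prime_orderOf_dvd_card' q hd
  have hlt : N < (Subgroup.zpowers x).comap (QuotientGroup.mk' N) := by
    refine lt_of_le_of_ne (fun n hn => ?_) fun he => ?_
    · rw [Subgroup.mem_comap, QuotientGroup.mk'_apply, (QuotientGroup.eq_one_iff n).2 hn]
      exact one_mem _
    · obtain ⟨y, rfl⟩ := QuotientGroup.mk'_surjective N x
      have : y ∈ N := he ▸ Subgroup.mem_comap.2 (Subgroup.mem_zpowers _)
      rw [QuotientGroup.mk'_apply, (QuotientGroup.eq_one_iff y).2 this, orderOf_one] at hx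
      exact hq.one_lt.ne hx
  have htop := congrArg (Subgroup.map (QuotientGroup.mk' N)) (hN.2 _ hlt)
  rw [Subgroup.map_comap_eq_self_of_surjective (QuotientGroup.mk'_surjective N),
    Subgroup.map_top_of_surjective _ (QuotientGroup.mk'_surjective N)] at htop
  rw [Subgroup.index_eq_card, ← Subgroup.card_top, ← htop, Nat.card_zpowers, hx]
  exact hq

/-- The Kaloujnine–Krasner embedding. -/
theorem exists_wr_embedding {G : Type u} [Group G] [Finite G] {N : Subgroup G} [N.Normal] {p : ℕ}
    [Fact p.Prime] (hp : N.index = p) :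
    ∃ f : G →* Wr N p, Function.Injective f := by
  have hc : Nat.card (G ⧸ N) = p := by rw [← Subgroup.index_eq_card, hp]
  haveI : IsCyclic (G ⧸ N) := isCyclic_of_prime_card hc
  have hc' : Nat.card (G ⧸ N) = Nat.card (Top p) := by
    rw [hc]; simp
  let e := mulEquivOfCyclicCardEq hc'
  let φ : G →* Top p := e.toMonoidHom.comp (QuotientGroup.mk' N)
  have hφ : Function.Surjective φ := e.surjective.comp (QuotientGroup.mk'_surjective N)
  have hker : ∀ g : G, φ g = 1 → g ∈ N := fun g hg => by
    rw [← QuotientGroup.eq_one_iff]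
    exact e.map_eq_one_iff.1 hg
  choose T hT using hφ
  have hmem : ∀ g q, (T q)⁻¹ * g * T ((φ g)⁻¹ * q) ∈ N := fun g q => hker _ (by
    simp only [map_mul, map_inv, hT]
    group)
  refine ⟨{ toFun := fun g => ⟨fun q => ⟨_, hmem g q⟩, φ g⟩
            map_one' := ?_
            map_mul' := fun a b => ?_ }, fun a b h => ?_⟩
  · refine RegularWreathProduct.ext (funext fun q => Subtype.ext ?_) φ.map_one
    show (T q)⁻¹ * 1 * T ((φ 1)⁻¹ * q) = 1
    rw [map_one, inv_one, one_mul, mul_one, inv_mul_cancel]
  · refine RegularWreathProduct.ext (funext fun q => Subtype.ext ?_) (φ.map_mul a b)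
    show (T q)⁻¹ * (a * b) * T ((φ (a * b))⁻¹ * q) =
      (T q)⁻¹ * a * T ((φ a)⁻¹ * q) *
        ((T ((φ a)⁻¹ * q))⁻¹ * b * T ((φ b)⁻¹ * ((φ a)⁻¹ * q)))
    rw [map_mul, mul_inv_rev, mul_assoc (φ b)⁻¹]
    simp only [mul_assoc, mul_inv_cancel_left]
  · have h1 : φ a = φ b := congrArg RegularWreathProduct.right h
    have h2 := congrArg Subtype.val (congrFun (congrArg RegularWreathProduct.left h) 1)
    change (T 1)⁻¹ * a * T ((φ a)⁻¹ * 1) = (T 1)⁻¹ * b * T ((φ b)⁻¹ * 1) at h2
    rw [h1, mul_left_inj, mul_right_inj] at h2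
    exact h2

/-- **Solvable groups embed in M-groups.** -/
theorem exists_embedding : ∀ (n : ℕ) (G : Type u) [Group G] [Finite G], Nat.card G ≤ n →
    Group.IsSolvable G → ∃ (M : Type u) (_ : Group M) (_ : Fintype M), IsMon M ∧
      ∃ f : G →* M, Function.Injective f := by
  intro n
  induction n with
  | zero => intro G _ _ h; exact absurd h (Nat.card_pos (α := G)).not_ge
  | succ n ih =>
    intro G _ _ hn hs
    classical
    rcases subsingleton_or_nontrivial G with hT | hT
    · exact ⟨G, inferInstance, Fintype.ofFinite G, @isMon_of_comm G _ (Fintype.ofFinite G)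
        (fun a b => Subsingleton.elim _ _), MonoidHom.id G, Function.injective_id⟩
    obtain ⟨N, hN, hp⟩ := exists_prime_index hs
    haveI := Fact.mk hp
    have hlt : Nat.card N ≤ n := by
      have h1 := N.card_mul_index
      have h2 := hp.two_le
      have h3 : 0 < Nat.card N := Nat.card_pos
      have : Nat.card N < Nat.card G := by rw [← h1]; exact lt_mul_of_one_lt_right h3 h2
      omega
    obtain ⟨M, _, _, hM, f, hf⟩ := ih N hlt (by have := hs; infer_instance)
    obtain ⟨g, hg⟩ := exists_wr_embedding (N := N) rfl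
    let F : Wr N N.index →* Wr M N.index :=
      { toFun := fun x => ⟨fun i => f (x.left i), x.right⟩
        map_one' := RegularWreathProduct.ext (funext fun i => f.map_one) rfl
        map_mul' := fun a b => RegularWreathProduct.ext (funext fun i => f.map_mul _ _) rfl }
    haveI := Fintype.ofFinite (Wr M N.index)
    have hF : Function.Injective F := fun a b h => ?_
    · exact ⟨Wr M N.index, inferInstance, inferInstance, isMon_wr _ hM, F.comp g, hF.comp hg⟩
    exact RegularWreathProduct.ext (funext fun i => hf (congrFun (congrArg RegularWreathProduct.left h) i))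
      (congrArg RegularWreathProduct.right h :)

end CfsgLib.BlockA.MGroupEmbed
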