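import Cfsg.Agent.Lib.BlockA.Unitary
import Mathlib.Analysis.SpecialFunctions.Trigonometric.Bounds
import Mathlib.Analysis.SpecialFunctions.Complex.Arg
import Mathlib.GroupTheory.Index
import Mathlib.RingTheory.RootsOfUnity.Complex
import Mathlib.Tactic

/-! Blichfeldt's lemma: in a finite unitary group, two elements all of whose eigenvalues have real
part greater than `√3 / 2` (an arc of length less than `π / 3` round `1`) commute. -/

namespace CfsgLib.BlockA

open Matrix
open scoped commutatorElement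

variable {G : Type*} [Group G] [Finite G] {n : Type*} [Fintype n] [DecidableEq n]
  (R : G →* Matrix n n ℂ)

/-- All eigenvalues of `R g` have real part above `√3 / 2`. -/
def SmallArc (g : G) : Prop :=
  ∀ μ ∈ muSet (Nat.card G), specIdem (R g) (Nat.card G) μ ≠ 0 → 0 < μ.re ∧ 3 / 4 < μ.re ^ 2

omit [Fintype n] [DecidableEq n] in
theorem natCard_ne : Nat.card G ≠ 0 := Nat.card_pos.ne'

theorem map_pow_natCard (g : G) : R g ^ Nat.card G = 1 := by
  rw [← map_pow, pow_card_eq_one', map_one]

variable {R}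

theorem unit_of_mem {μ : ℂ} (h : μ ∈ muSet (Nat.card G)) : μ.re * μ.re + μ.im * μ.im = 1 := by
  have h1 := Complex.norm_eq_one_of_pow_eq_one ((mem_muSet natCard_ne).1 h) natCard_ne
  have h2 := Complex.sq_norm μ
  rw [h1, one_pow, Complex.normSq_apply] at h2
  exact h2.symm

theorem norm_sub_one_lt {μ : ℂ} (h : μ.re * μ.re + μ.im * μ.im = 1) (h0 : 0 < μ.re)
    (h1 : 3 / 4 < μ.re ^ 2) : ‖μ - 1‖ ^ 2 < 1 / 2 := by
  rw [Complex.sq_norm, Complex.normSq_apply]
  simp only [Complex.sub_re, Complex.one_re, Complex.sub_im, Complex.one_im, sub_zero]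
  nlinarith [sq_nonneg (μ.re - 3 / 4)]

theorem norm_sub_lt {μ ν : ℂ} (h : μ.re * μ.re + μ.im * μ.im = 1) (h0 : 0 < μ.re)
    (h1 : 3 / 4 < μ.re ^ 2) (k : ν.re * ν.re + ν.im * ν.im = 1) (k0 : 0 < ν.re)
    (k1 : 3 / 4 < ν.re ^ 2) : ‖μ - ν‖ ^ 2 < 1 := by
  rw [Complex.sq_norm, Complex.normSq_apply]
  simp only [Complex.sub_re, Complex.sub_im]
  have hi : μ.im ^ 2 < 1 / 4 := by nlinarith
  have hj : ν.im ^ 2 < 1 / 4 := by nlinarith
  have hcd : (μ.im * ν.im) ^ 2 < 1 / 16 := by
    rw [mul_pow]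
    nlinarith [sq_nonneg μ.im, sq_nonneg ν.im]
  have hab : 9 / 16 < (μ.re * ν.re) ^ 2 := by
    rw [mul_pow]
    nlinarith [sq_nonneg μ.re, sq_nonneg ν.re]
  have hcd' : -(1 / 4) < μ.im * ν.im := by nlinarith
  have hab' : 3 / 4 < μ.re * ν.re := by nlinarith [mul_pos h0 k0]
  nlinarith

variable (hR : ∀ g, star (R g) * R g = 1)

include hR

theorem star_idem (g : G) {μ : ℂ} (hμ : μ ∈ muSet (Nat.card G)) :
    star (specIdem (R g) (Nat.card G) μ) = specIdem (R g) (Nat.card G) μ :=
  star_specIdem (map_pow_natCard R g) (hR g) ((mem_muSet natCard_ne).1 hμ)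

theorem frobSq_sub_one_lt {x : G} (hx : SmallArc R x) {V : Matrix n n ℂ} (hV : V ≠ 0) :
    frobSq (R x * V - V) < 1 / 2 * frobSq V := by
  classical
  set m := Nat.card G
  set T := muSet m
  set E := fun μ => specIdem (R x) m μ with hE
  have hA := map_pow_natCard R x
  have horth : ∀ c : ℂ → ℂ, ∀ a ∈ T, ∀ b ∈ T, a ≠ b →
      (star (c a • (E a * V)) * (c b • (E b * V))).trace = 0 := by
    intro c a ha b hb hne
    rw [star_smul, star_mul, star_idem hR x ha, smul_mul_assoc, mul_smul_comm, mul_assoc,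
      ← mul_assoc (E a), hE, specIdem_mul_specIdem natCard_ne hA ((mem_muSet natCard_ne).1 ha)
        ((mem_muSet natCard_ne).1 hb), if_neg hne]
    simp
  have h1 : R x * V - V = ∑ μ ∈ T, (μ - 1) • (E μ * V) := by
    simp only [sub_smul, one_smul, Finset.sum_sub_distrib, ← Finset.sum_mul, ← smul_mul_assoc]
    rw [hE, sum_specIdem natCard_ne, ← self_eq_sum_smul_specIdem natCard_ne hA, sub_mul, one_mul]
  have h2 : V = ∑ μ ∈ T, (1 : ℂ) • (E μ * V) := by
    simp only [one_smul, ← Finset.sum_mul]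
    rw [hE, sum_specIdem natCard_ne, one_mul]
  have e2 : frobSq V = ∑ μ ∈ T, frobSq (E μ * V) := by
    conv_lhs => rw [h2, frobSq_sum_of_orth T _ (horth fun _ => 1)]
    simp
  rw [h1, frobSq_sum_of_orth T _ (horth fun a => a - 1), e2, Finset.mul_sum]
  simp only [frobSq_smul]
  obtain ⟨a, ha, hane⟩ : ∃ a ∈ T, E a * V ≠ 0 := by
    by_contra! h
    apply hV
    rw [h2]
    exact Finset.sum_eq_zero fun μ hμ => by rw [h μ hμ, smul_zero]
  refine Finset.sum_lt_sum (fun μ hμ => ?_) ⟨a, ha, ?_⟩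
  · by_cases h : specIdem (R x) m μ = 0
    · simp [hE, h, frobSq]
    · exact mul_le_mul_of_nonneg_right
        (norm_sub_one_lt (unit_of_mem hμ) (hx μ hμ h).1 (hx μ hμ h).2).le (frobSq_nonneg _)
  · have hE0 : specIdem (R x) m a ≠ 0 := fun h => hane (by simp [hE, h])
    exact mul_lt_mul_of_pos_right
      (norm_sub_one_lt (unit_of_mem ha) (hx a ha hE0).1 (hx a ha hE0).2)
      (lt_of_le_of_ne (frobSq_nonneg _) fun h => hane (frobSq_eq_zero.1 h.symm))

theorem frobSq_commutator_lt {x c : G} (hx : SmallArc R x) (hc : R c ≠ 1) :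
    frobSq (R ⁅x, c⁆ - 1) < frobSq (R c - 1) := by
  classical
  set m := Nat.card G
  set T := muSet m
  set E := fun μ => specIdem (R x) m μ with hE
  set D := R c - 1 with hD
  have hA := map_pow_natCard R x
  have hmu : ∀ a ∈ T, a ^ m = 1 := fun a ha => (mem_muSet natCard_ne).1 ha
  have h0 : R ⁅x, c⁆ - 1 = (R x * D - D * R x) * (R x⁻¹ * R c⁻¹) := by
    rw [commutatorElement_def, hD]
    simp only [map_mul, mul_sub, sub_mul, mul_one, one_mul]
    have e1 : R c * R x * (R x⁻¹ * R c⁻¹) = 1 := by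
      simp [← map_mul, mul_assoc]
    rw [e1]
    simp only [mul_assoc]
    abel
  have hu : star (R x⁻¹ * R c⁻¹) * (R x⁻¹ * R c⁻¹) = 1 := by rw [← map_mul]; exact hR _
  have horth : ∀ w : ℂ × ℂ → ℂ, ∀ a ∈ T ×ˢ T, ∀ b ∈ T ×ˢ T, a ≠ b →
      (star (w a • (E a.1 * D * E a.2)) * (w b • (E b.1 * D * E b.2))).trace = 0 := by
    intro w a ha b hb hne
    rw [Finset.mem_product] at ha hb
    rw [star_smul, smul_mul_assoc, mul_smul_comm, Matrix.trace_smul, Matrix.trace_smul, star_mul,
      star_mul, hE]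
    simp only
    rw [star_idem hR x ha.1, star_idem hR x ha.2]
    set e1 := specIdem (R x) m a.1
    set e2 := specIdem (R x) m a.2
    set f1 := specIdem (R x) m b.1
    set f2 := specIdem (R x) m b.2
    have key : (e2 * (star D * e1) * (f1 * D * f2)).trace = 0 := by
      rw [show e2 * (star D * e1) * (f1 * D * f2) = e2 * (star D * (e1 * f1) * D) * f2 by
        simp [mul_assoc], Matrix.trace_mul_cycle, specIdem_mul_specIdem natCard_ne hA (hmu _ hb.2)
        (hmu _ ha.2), specIdem_mul_specIdem natCard_ne hA (hmu _ ha.1) (hmu _ hb.1)]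
      by_cases h1 : b.2 = a.2
      · rw [if_pos h1, if_neg fun h => hne (Prod.ext h h1.symm)]; simp
      · rw [if_neg h1]; simp
    rw [key]; simp
  have hsum : (∑ μ ∈ T, E μ) = 1 := sum_specIdem natCard_ne
  have hself : (∑ μ ∈ T, μ • E μ) = R x := (self_eq_sum_smul_specIdem natCard_ne hA).symm
  have h1 : D = ∑ a ∈ T ×ˢ T, (1 : ℂ) • (E a.1 * D * E a.2) := by
    simp only [one_smul, Finset.sum_product, ← Finset.mul_sum, ← Finset.sum_mul, hsum, one_mul,
      mul_one]
  have h2 : R x * D - D * R x = ∑ a ∈ T ×ˢ T, (a.1 - a.2) • (E a.1 * D * E a.2) := by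
    simp only [sub_smul, Finset.sum_sub_distrib]
    congr 1
    · simp only [Finset.sum_product, ← smul_mul_assoc, ← Finset.mul_sum, ← Finset.sum_mul, hsum,
        hself, mul_one]
    · simp only [Finset.sum_product, ← mul_smul_comm, ← Finset.mul_sum, ← Finset.sum_mul, hsum,
        hself, one_mul]
  have hDne : D ≠ 0 := sub_ne_zero.2 hc
  have e1 : frobSq D = ∑ a ∈ T ×ˢ T, frobSq (E a.1 * D * E a.2) := by
    conv_lhs => rw [h1, frobSq_sum_of_orth _ _ (horth fun _ => 1)]
    simp
  rw [h0, frobSq_mul_unitary hu, h2, frobSq_sum_of_orth _ _ (horth fun a => a.1 - a.2), e1]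
  simp only [frobSq_smul]
  obtain ⟨a, ha, hane⟩ : ∃ a ∈ T ×ˢ T, E a.1 * D * E a.2 ≠ 0 := by
    by_contra! h
    apply hDne
    rw [h1]
    exact Finset.sum_eq_zero fun μ hμ => by rw [h μ hμ, smul_zero]
  refine Finset.sum_lt_sum (fun b hb => ?_) ⟨a, ha, ?_⟩
  · rw [Finset.mem_product] at hb
    by_cases h : specIdem (R x) m b.1 = 0 ∨ specIdem (R x) m b.2 = 0
    · rcases h with h | h <;> simp [hE, h, frobSq]
    · push Not at h
      exact mul_le_of_le_one_left (frobSq_nonneg _) (norm_sub_lt (unit_of_mem hb.1) (hx _ hb.1 h.1).1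
        (hx _ hb.1 h.1).2 (unit_of_mem hb.2) (hx _ hb.2 h.2).1 (hx _ hb.2 h.2).2).le
  · rw [Finset.mem_product] at ha
    have g1 : specIdem (R x) m a.1 ≠ 0 := fun h => hane (by simp [hE, h])
    have g2 : specIdem (R x) m a.2 ≠ 0 := fun h => hane (by simp [hE, h])
    exact mul_lt_of_lt_one_left
      (lt_of_le_of_ne (frobSq_nonneg _) fun h => hane (frobSq_eq_zero.1 h.symm))
      (norm_sub_lt (unit_of_mem ha.1) (hx _ ha.1 g1).1
        (hx _ ha.1 g1).2 (unit_of_mem ha.2) (hx _ ha.2 g2).1 (hx _ ha.2 g2).2)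

/-- If `x` commutes with `z x z⁻¹` and `R z` is close enough to the identity, `x = z x z⁻¹`. -/
theorem eq_conj_of_commute {x z : G}
    (hz : ∀ V : Matrix n n ℂ, V ≠ 0 → frobSq (R z * V - V) < 2 * frobSq V)
    (hc : Commute x (z * x * z⁻¹)) : R x = R (z * x * z⁻¹) := by
  classical
  set m := Nat.card G
  set T := muSet m
  set E := fun μ => specIdem (R x) m μ with hE
  set F := fun μ => R z * specIdem (R x) m μ * R z⁻¹ with hF
  have hA := map_pow_natCard R x
  have hz1 : R z⁻¹ * R z = 1 := by rw [← map_mul, inv_mul_cancel, map_one]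
  have hz2 : R z * R z⁻¹ = 1 := by rw [← map_mul, mul_inv_cancel, map_one]
  have hF' : ∀ μ, F μ = specIdem (R (z * x * z⁻¹)) m μ := by
    intro μ
    have hp : ∀ k : ℕ, R z * R x ^ k * R z⁻¹ = R (z * x * z⁻¹) ^ k := by
      intro k
      rw [← map_pow, ← map_pow, ← map_mul, ← map_mul, conj_pow]
    simp only [hF, specIdem, Finset.mul_sum, Finset.sum_mul, mul_smul_comm, smul_mul_assoc, hp]
  have hcomm : ∀ μ ν, Commute (E μ) (F ν) := by
    intro μ ν
    rw [hF']
    have h := hc.map R
    exact (Commute.sum_right _ _ _ fun k _ => Commute.smul_right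
      ((Commute.sum_left _ _ _ fun l _ => Commute.smul_left (h.pow_pow l k) _).smul_left _) _).smul_right _
  have hzero : ∀ μ ∈ T, ∀ ν ∈ T, μ ≠ ν → E μ * F ν = 0 := by
    intro μ hμ ν hν hne
    set V := R z⁻¹ * (E μ * F ν) with hV
    have hyV : R z * V = E μ * F ν := by rw [hV, ← mul_assoc, hz2, one_mul]
    by_contra hne0
    have hVne : V ≠ 0 := fun h => hne0 (by rw [← hyV, h, mul_zero])
    have hE2 : ∀ a ∈ T, E a * E a = E a := fun a ha => by
      rw [hE, specIdem_mul_specIdem natCard_ne hA ((mem_muSet natCard_ne).1 ha)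
        ((mem_muSet natCard_ne).1 ha), if_pos rfl]
    have h1 : E ν * V = V := by
      have hEz : E ν * R z⁻¹ = R z⁻¹ * F ν := by
        simp only [hF, hE, ← mul_assoc, hz1, one_mul]
      have hFF : F ν * F ν = F ν := by
        calc F ν * F ν = R z * (E ν * (R z⁻¹ * R z) * E ν) * R z⁻¹ := by
              simp only [hF, hE, mul_assoc]
          _ = F ν := by rw [hz1, mul_one, hE2 ν hν]
      rw [hV, ← mul_assoc, hEz, mul_assoc, ← mul_assoc (F ν), ← (hcomm μ ν).eq, mul_assoc, hFF]
    have h2 : E μ * (R z * V) = R z * V := by rw [hyV, ← mul_assoc, hE2 μ hμ]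
    have h3 : (star V * (R z * V)).trace = 0 := by
      rw [show star V * (R z * V) = star (E ν * V) * (E μ * (R z * V)) by rw [h1, h2], star_mul, hE, star_idem hR x hν, mul_assoc, ← mul_assoc (specIdem (R x) m ν),
        specIdem_mul_specIdem natCard_ne hA ((mem_muSet natCard_ne).1 hν)
          ((mem_muSet natCard_ne).1 hμ), if_neg hne.symm]
      simp
    have h4 : (star (R z * V) * V).trace = 0 := by
      have := congrArg star h3
      rw [star_zero, ← Matrix.trace_conjTranspose, ← Matrix.star_eq_conjTranspose, star_mul,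
        star_star] at this
      exact this
    have h5 : frobSq (R z * V - V) = 2 * frobSq V := by
      have := frobSq_unitary_mul (hR z) V
      simp only [frobSq, star_sub, sub_mul, mul_sub, Matrix.trace_sub, Complex.sub_re, h3, h4,
        Complex.zero_re] at *
      linarith
    exact absurd (hz V hVne) (by rw [h5]; exact lt_irrefl _)
  have hsum : (∑ μ ∈ T, E μ) = 1 := sum_specIdem natCard_ne
  have hsumF : (∑ μ ∈ T, F μ) = 1 := by
    simp only [hF, ← Finset.mul_sum, ← Finset.sum_mul]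
    rw [sum_specIdem natCard_ne, mul_one, hz2]
  have hEF : ∀ ν ∈ T, F ν = E ν * F ν := by
    intro ν hν
    conv_lhs => rw [← one_mul (F ν), ← hsum, Finset.sum_mul]
    rw [Finset.sum_eq_single ν]
    · exact fun μ hμ hne => hzero μ hμ ν hν hne
    · exact fun h => absurd hν h
  calc R x = ∑ ν ∈ T, R x * F ν := by rw [← Finset.mul_sum, hsumF, mul_one]
    _ = ∑ ν ∈ T, ν • F ν := Finset.sum_congr rfl fun ν hν => by
        rw [hEF ν hν, ← mul_assoc, hE, mul_specIdem natCard_ne hA ((mem_muSet natCard_ne).1 hν),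
          smul_mul_assoc]
    _ = R (z * x * z⁻¹) := by
        simp only [hF']
        exact (self_eq_sum_smul_specIdem natCard_ne (map_pow_natCard R _)).symm

/-- Blichfeldt: in a faithful finite unitary group two small-arc elements commute. -/
theorem commute_of_smallArc (hinj : ∀ g, R g = 1 → g = 1) {x y : G} (hx : SmallArc R x)
    (hy : SmallArc R y) : Commute x y := by
  classical
  let c : ℕ → G := fun i => (fun z => ⁅x, z⁆)^[i] y
  have hcs : ∀ i, c (i + 1) = ⁅x, c i⁆ := fun i => Function.iterate_succ_apply' _ _ _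
  have hclose : ∀ i, ∀ V : Matrix n n ℂ, V ≠ 0 → frobSq (R (c i) * V - V) < 2 * frobSq V := by
    intro i V hV
    have hpos : 0 < frobSq V :=
      lt_of_le_of_ne (frobSq_nonneg V) fun h => hV (frobSq_eq_zero.1 h.symm)
    cases i with
    | zero =>
      have := frobSq_sub_one_lt hR hy hV
      show frobSq (R y * V - V) < _
      linarith
    | succ i =>
      set a := R x
      set g := c i
      have hb : frobSq (R (g * x⁻¹ * g⁻¹) * V - V) < 1 / 2 * frobSq V := by
        set W := R g⁻¹ * V with hW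
        have hWne : W ≠ 0 := fun h => hV (by
          have : R g * W = V := by rw [hW, ← mul_assoc, ← map_mul, mul_inv_cancel, map_one, one_mul]
          rw [← this, h, mul_zero])
        set W' := R x⁻¹ * W
        have hWW : R x * W' = W := by
          show R x * (R x⁻¹ * W) = W
          rw [← mul_assoc, ← map_mul, mul_inv_cancel, map_one, one_mul]
        have hW'ne : W' ≠ 0 := fun h => hWne (by rw [← hWW, h, mul_zero])
        have h1 := frobSq_sub_one_lt hR hx hW'ne
        rw [hWW] at h1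
        have hgg : R g * (R g⁻¹ * V) = V := by
          rw [← mul_assoc, ← map_mul, mul_inv_cancel, map_one, one_mul]
        have h2 : R (g * x⁻¹ * g⁻¹) * V - V = R g * -(W - W') := by
          show _ = R g * -(R g⁻¹ * V - R x⁻¹ * (R g⁻¹ * V))
          rw [neg_sub, mul_sub, hgg]
          simp only [map_mul, mul_assoc]
        rw [h2, frobSq_unitary_mul (hR g), frobSq_neg]
        calc _ < 1 / 2 * frobSq W' := h1
          _ = _ := by rw [frobSq_unitary_mul (hR _), hW, frobSq_unitary_mul (hR _)]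
      have ha : frobSq (R x⁻¹ * V - V) < 1 / 2 * frobSq V := by
        set W := R x⁻¹ * V with hW
        have hWW : R x * W = V := by rw [hW, ← mul_assoc, ← map_mul, mul_inv_cancel, map_one, one_mul]
        have hWne : W ≠ 0 := fun h => hV (by rw [← hWW, h, mul_zero])
        have h1 := frobSq_sub_one_lt hR hx hWne
        rw [hWW] at h1
        rw [← frobSq_neg, neg_sub]
        calc _ < 1 / 2 * frobSq W := h1
          _ = _ := by rw [hW, frobSq_unitary_mul (hR _)]
      have he : c (i + 1) = x * (g * x⁻¹ * g⁻¹) := by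
        rw [hcs, commutatorElement_def]
        show x * c i * x⁻¹ * (c i)⁻¹ = x * (c i * x⁻¹ * (c i)⁻¹)
        simp only [mul_assoc]
      have h2 : R (c (i + 1)) * V - V = R x * ((R (g * x⁻¹ * g⁻¹) * V - V) + -(R x⁻¹ * V - V)) := by
        rw [he, map_mul, neg_sub, sub_add_sub_cancel, mul_sub, mul_assoc, ← mul_assoc (R x) (R x⁻¹),
          ← map_mul R x x⁻¹, mul_inv_cancel, map_one, one_mul]
      rw [h2, frobSq_unitary_mul (hR x)]
      have := frobSq_add_le (R (g * x⁻¹ * g⁻¹) * V - V) (-(R x⁻¹ * V - V))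
      rw [frobSq_neg] at this
      linarith
  have hend : ∃ i, c i = 1 := by
    by_contra! h
    have hlt : StrictAnti fun i => frobSq (R (c i) - 1) := strictAnti_nat_of_succ_lt fun i => by
      show frobSq (R (c (i + 1)) - 1) < _
      rw [hcs]
      exact frobSq_commutator_lt hR hx fun h1 => h i (hinj _ h1)
    exact not_injective_infinite_finite c fun i j hij => hlt.injective (by simp [hij])
  obtain ⟨i, hi⟩ := hend
  induction i with
  | zero =>
    have : y = 1 := hi
    rw [this]; exact Commute.one_right x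
  | succ i ih =>
    cases i with
    | zero =>
      have : ⁅x, y⁆ = 1 := by rw [← hi, hcs]; rfl
      exact commutatorElement_eq_one_iff_mul_comm.1 this
    | succ i =>
      refine ih ?_
      have hcomm : Commute x (c (i + 1)) :=
        commutatorElement_eq_one_iff_mul_comm.1 (by rw [← hcs]; exact hi)
      rw [hcs] at hcomm ⊢
      set z := c i with hz
      have hcj : Commute x (z * x * z⁻¹) := by
        have h1 : z * x * z⁻¹ = (⁅x, z⁆)⁻¹ * x := by rw [commutatorElement_def]; group
        rw [h1]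
        exact hcomm.inv_right.mul_right (Commute.refl x)
      have h2 := eq_conj_of_commute hR (hclose i) hcj
      have h3 : ⁅x, z⁆ = x * (z * x * z⁻¹)⁻¹ := by rw [commutatorElement_def]; group
      have h4 : R (x * (z * x * z⁻¹)⁻¹) = 1 := by
        rw [map_mul, h2, ← map_mul, mul_inv_cancel, map_one]
      rw [h3]
      exact hinj _ h4

theorem smallArc_conj {x : G} (hx : SmallArc R x) (g : G) : SmallArc R (g * x * g⁻¹) := by
  intro μ hμ hne
  refine hx μ hμ fun h => hne ?_
  have hp : ∀ k : ℕ, R (g * x * g⁻¹) ^ k = R g * R x ^ k * R g⁻¹ := by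
    intro k
    rw [← map_pow, ← map_pow, ← map_mul, ← map_mul, conj_pow]
  have : specIdem (R (g * x * g⁻¹)) (Nat.card G) μ =
      R g * specIdem (R x) (Nat.card G) μ * R g⁻¹ := by
    simp only [specIdem, Finset.mul_sum, Finset.sum_mul, mul_smul_comm, smul_mul_assoc, hp]
  rw [this, h]
  simp

/-- The subgroup generated by the small-arc elements is a normal abelian subgroup. -/
theorem closure_smallArc (hinj : ∀ g, R g = 1 → g = 1) :
    (Subgroup.closure {g | SmallArc R g}).Normal ∧
      ∀ x ∈ Subgroup.closure {g | SmallArc R g}, ∀ y ∈ Subgroup.closure {g | SmallArc R g},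
        x * y = y * x := by
  refine ⟨⟨fun x hx g => ?_⟩, fun x hx y hy => ?_⟩
  · refine (Subgroup.closure_le (K := (Subgroup.closure {g | SmallArc R g}).comap
      (MulAut.conj g).toMonoidHom)).2 ?_ hx
    exact fun s hs => Subgroup.subset_closure (smallArc_conj hR hs g)
  · have hgen : ∀ u ∈ {g | SmallArc R g}, ∀ v ∈ {g | SmallArc R g}, u * v = v * u :=
      fun u hu v hv => commute_of_smallArc hR hinj hu hv
    haveI := Subgroup.isMulCommutative_closure hgen
    exact congrArg Subtype.val (IsMulCommutative.is_comm.comm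
      (⟨x, hx⟩ : Subgroup.closure {g | SmallArc R g}) ⟨y, hy⟩)

/-- Criterion for small arcs in terms of the trace of powers. -/
theorem smallArc_of_trace_pow {x : G} {l : ℕ} (a : Fin l → ℂ)
    (ha : ∀ i, a i ^ Nat.card G = 1) (htr : ∀ k : ℕ, (R x ^ k).trace = ∑ i, a i ^ k)
    (hre : ∀ i, 0 < (a i).re ∧ 3 / 4 < (a i).re ^ 2) : SmallArc R x := by
  classical
  intro μ hμ hne
  have hμm := (mem_muSet natCard_ne).1 hμ
  have hμ0 : μ ≠ 0 := fun h => by simp [h, natCard_ne (G := G)] at hμm
  suffices ∃ i, a i = μ by obtain ⟨i, rfl⟩ := this; exact hre i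
  by_contra! hno
  apply hne
  have h1 : (specIdem (R x) (Nat.card G) μ).trace = 0 := by
    rw [trace_specIdem]
    simp only [htr, Finset.mul_sum]
    rw [Finset.sum_comm]
    refine Finset.sum_eq_zero fun i _ => ?_
    rw [← Finset.mul_sum]
    simp only [← mul_pow]
    have : μ⁻¹ * a i ≠ 1 := fun h => hno i ((inv_mul_eq_one₀ hμ0).1 h).symm
    rw [geom_sum_eq this, mul_pow, inv_pow, hμm, ha, inv_one, mul_one, sub_self, zero_div, mul_zero]
  rw [← frobSq_eq_zero, frobSq, star_idem hR x hμ,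
    specIdem_mul_specIdem natCard_ne (map_pow_natCard R x) hμm hμm, if_pos rfl, h1,
    Complex.zero_re]

omit hR

/-- The sector (one of twelve) of a complex number. -/
noncomputable def sector (z : ℂ) : Fin 12 :=
  ⟨(⌊(Real.pi - Complex.arg z) * 6 / Real.pi⌋₊) % 12, Nat.mod_lt _ (by norm_num)⟩

theorem sector_close {z w : ℂ} (hz : ‖z‖ = 1) (hw : ‖w‖ = 1) (h : sector z = sector w) :
    0 < (z⁻¹ * w).re ∧ 3 / 4 < (z⁻¹ * w).re ^ 2 := by
  have hπ := Real.pi_pos
  have hb : ∀ u : ℂ, 0 ≤ (Real.pi - Complex.arg u) * 6 / Real.pi ∧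
      (Real.pi - Complex.arg u) * 6 / Real.pi < 12 := by
    intro u
    have h1 := Complex.arg_le_pi u
    have h2 := Complex.neg_pi_lt_arg u
    constructor
    · apply div_nonneg _ hπ.le; nlinarith
    · rw [div_lt_iff₀ hπ]; nlinarith
  have hm : ∀ u : ℂ, ⌊(Real.pi - Complex.arg u) * 6 / Real.pi⌋₊ % 12 =
      ⌊(Real.pi - Complex.arg u) * 6 / Real.pi⌋₊ := fun u =>
    Nat.mod_eq_of_lt ((Nat.floor_lt (hb u).1).2 (by exact_mod_cast (hb u).2))
  have hv : ⌊(Real.pi - Complex.arg z) * 6 / Real.pi⌋₊ =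
      ⌊(Real.pi - Complex.arg w) * 6 / Real.pi⌋₊ := by
    rw [← hm z, ← hm w]; exact congrArg Fin.val h
  have z1 := Nat.floor_le (hb z).1
  have z2 := Nat.lt_floor_add_one ((Real.pi - Complex.arg z) * 6 / Real.pi)
  have w1 := Nat.floor_le (hb w).1
  have w2 := Nat.lt_floor_add_one ((Real.pi - Complex.arg w) * 6 / Real.pi)
  rw [hv] at z1 z2
  set t := Complex.arg w - Complex.arg z with ht
  have htlt : |t| < Real.pi / 6 := by
    have : |(Real.pi - Complex.arg z) * 6 / Real.pi - (Real.pi - Complex.arg w) * 6 / Real.pi| < 1 :=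
      abs_lt.2 ⟨by linarith, by linarith⟩
    have e : (Real.pi - Complex.arg z) * 6 / Real.pi - (Real.pi - Complex.arg w) * 6 / Real.pi =
        t * (6 / Real.pi) := by rw [ht]; ring
    rw [e, abs_mul, abs_of_pos (show (0 : ℝ) < 6 / Real.pi by positivity), ← mul_div_assoc,
      div_lt_one hπ] at this
    linarith
  have hre : (z⁻¹ * w).re = Real.cos t := by
    have ez := Complex.norm_mul_exp_arg_mul_I z
    have ew := Complex.norm_mul_exp_arg_mul_I w
    rw [hz, Complex.ofReal_one, one_mul] at ez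
    rw [hw, Complex.ofReal_one, one_mul] at ew
    conv_lhs => rw [← ez, ← ew]
    rw [← Complex.exp_neg, ← Complex.exp_add]
    have : -((Complex.arg z : ℂ) * Complex.I) + (Complex.arg w : ℂ) * Complex.I =
        ((t : ℝ) : ℂ) * Complex.I := by rw [ht]; push_cast; ring
    rw [this, Complex.exp_ofReal_mul_I_re]
  rw [hre]
  have hcos : Real.cos (Real.pi / 6) < Real.cos t := by
    rw [← Real.cos_abs t]
    exact Real.cos_lt_cos_of_nonneg_of_le_pi_div_two (abs_nonneg t) (by linarith) htlt
  rw [Real.cos_pi_div_six] at hcos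
  have h3 : Real.sqrt 3 ^ 2 = 3 := Real.sq_sqrt (by norm_num)
  have h4 := Real.sqrt_nonneg 3
  constructor <;> nlinarith

end CfsgLib.BlockA
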