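import Cfsg.Agent.Lib.BlockA.Blichfeldt
import Cfsg.Agent.Lib.Char.Basic
import Mathlib.RepresentationTheory.Irreducible

/-! An abelian subgroup meets the small-arc subgroup in index at most `12 ^ n`. -/

namespace CfsgLib.BlockA

open Matrix

variable {G : Type*} [Group G]

/-- An irreducible character of an abelian group is a homomorphism into `ℂ`. -/
theorem exists_hom_of_irr_comm {H : Type*} [Group H] [Finite H] (hH : ∀ a b : H, a * b = b * a)
    {ψ : H → ℂ} (h : Cfsg.IsIrrCharacter H ψ) : ∃ f : H →* ℂ, ψ = f := by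
  classical
  obtain ⟨m, ρ, hρ, rfl⟩ := h
  haveI : IsMulCommutative H := ⟨⟨hH⟩⟩
  have h1 : Module.finrank ℂ (Fin m → ℂ) = 1 :=
    Representation.IsIrreducible.finrank_eq_one_of_isMulCommutative (ρ := ρ)
  have hm : m = 1 := by simpa using h1
  subst hm
  refine ⟨{ toFun := ρ.character, map_one' := ?_, map_mul' := fun a b => ?_ }, rfl⟩
  · simp [Representation.character]
  · simp only [Representation.character, map_mul,
      LinearMap.trace_eq_matrix_trace ℂ (Pi.basisFun ℂ (Fin 1)), LinearMap.toMatrix_mul]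
    simp [Matrix.trace_fin_one, Matrix.mul_apply]

theorem char_restrict_abelian [Finite G] {χ : G → ℂ} (hχ : Cfsg.IsCharacter G χ) (H : Subgroup G)
    (hH : ∀ x ∈ H, ∀ y ∈ H, x * y = y * x) :
    ∃ (l : ℕ) (f : Fin l → H →* ℂ), ∀ h : H, χ h = ∑ i, f i h := by
  classical
  obtain ⟨s, hs, hsum⟩ := CfsgLib.Char.isCharacter_exists_multiset
    (CfsgLib.Char.isCharacter_restrict hχ H)
  have hlist : ∀ L : List (H → ℂ), (∀ ψ ∈ L, Cfsg.IsIrrCharacter H ψ) →
      ∃ (l : ℕ) (f : Fin l → H →* ℂ), ∀ h, L.sum h = ∑ i, f i h := by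
    intro L hL
    induction L with
    | nil => exact ⟨0, Fin.elim0, fun h => by simp⟩
    | cons a L ih =>
      obtain ⟨l, f, hf⟩ := ih fun ψ hψ => hL ψ (List.mem_cons_of_mem _ hψ)
      obtain ⟨g, hg⟩ := exists_hom_of_irr_comm
        (fun u v : H => Subtype.ext (hH u u.2 v v.2)) (hL a (List.mem_cons_self ..))
      refine ⟨l + 1, Fin.cons g f, fun h => ?_⟩
      rw [List.sum_cons, Pi.add_apply, hf, Fin.sum_univ_succ, hg]
      simp
  obtain ⟨l, f, hf⟩ := hlist s.toList fun ψ hψ => hs ψ (Multiset.mem_toList.1 hψ)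
  refine ⟨l, f, fun h => ?_⟩
  rw [← hf h, Multiset.sum_toList, ← hsum]

/-- For a faithful unitary representation of degree `n`: a normal abelian subgroup `A` such that
every abelian subgroup meets it in index at most `12 ^ n`. -/
theorem exists_abelian_normal_bound [Finite G] {χ : G → ℂ} (hχ : Cfsg.IsCharacter G χ)
    (hfaith : ∀ g : G, χ g = χ 1 → g = 1) (n : ℕ) (hn : χ 1 = n) :
    ∃ A : Subgroup G, A.Normal ∧ (∀ x ∈ A, ∀ y ∈ A, x * y = y * x) ∧
      ∀ H : Subgroup G, (∀ x ∈ H, ∀ y ∈ H, x * y = y * x) → (A.subgroupOf H).index ≤ 12 ^ n := by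
  classical
  obtain ⟨k, R, hR, htr⟩ := exists_unitary_rep hχ
  have hinj : ∀ g, R g = 1 → g = 1 := fun g hg => hfaith g (by rw [← htr, ← htr, hg, map_one])
  obtain ⟨hN, hA⟩ := closure_smallArc hR hinj
  refine ⟨Subgroup.closure {g | SmallArc R g}, hN, hA, fun H hH => ?_⟩
  set A := Subgroup.closure {g | SmallArc R g}
  obtain ⟨l, f, hf⟩ := char_restrict_abelian hχ H hH
  have hl : l = n := by
    have := hf 1
    rw [OneMemClass.coe_one, hn] at this
    simpa using this.symm
  have hroot : ∀ (i : Fin l) (h : H), f i h ^ Nat.card G = 1 := by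
    intro i h
    have h1 : h ^ Nat.card G = 1 := Subtype.ext (by simp)
    rw [← map_pow, h1, map_one]
  have hnorm : ∀ (i : Fin l) (h : H), ‖f i h‖ = 1 := fun i h =>
    Complex.norm_eq_one_of_pow_eq_one (hroot i h) Nat.card_pos.ne'
  have hmem : ∀ g h : H, (∀ i, sector (f i g) = sector (f i h)) →
      g⁻¹ * h ∈ A.subgroupOf H := by
    intro g h hgh
    rw [Subgroup.mem_subgroupOf]
    refine Subgroup.subset_closure (smallArc_of_trace_pow hR (fun i => f i (g⁻¹ * h))
      (fun i => hroot i _) (fun j => ?_) fun i => ?_)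
    · rw [← map_pow, htr, ← SubmonoidClass.coe_pow, hf]
      simp only [map_pow]
    · have h1 : f i g⁻¹ = (f i g)⁻¹ :=
        eq_inv_of_mul_eq_one_left (by rw [← map_mul, inv_mul_cancel, map_one])
      rw [map_mul, h1]
      exact sector_close (hnorm i g) (hnorm i h) (hgh i)
  rw [Subgroup.index_eq_card]
  let F : H ⧸ A.subgroupOf H → (Fin l → Fin 12) := fun q i => sector (f i q.out)
  calc Nat.card (H ⧸ A.subgroupOf H) ≤ Nat.card (Fin l → Fin 12) :=
        Nat.card_le_card_of_injective F fun a b hab => by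
          rw [← Quotient.out_eq a, ← Quotient.out_eq b]
          exact QuotientGroup.eq.2 (hmem a.out b.out fun i => congrFun hab i)
    _ = 12 ^ n := by simp [hl]

end CfsgLib.BlockA
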