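import Cfsg.Agent.Lib.Char.Inner
import Cfsg.Agent.Lib.Char.Column
import Cfsg.Agent.Lib.Char.Integral
import Mathlib.GroupTheory.GroupAction.Quotient
import Mathlib.GroupTheory.PGroup
import Mathlib.Tactic

/-! The Glauberman correspondence for the coprime action of a `p`-group: restriction to the fixed
points, read modulo `p`, matches the invariant irreducible characters with those of the fixed
points. -/

namespace CfsgLib.BlockA

open scoped ComplexConjugate

/-- `z` is divisible by `p` among the algebraic integers. -/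
def PDiv (p : ℕ) (z : ℂ) : Prop := IsIntegral ℤ (z / (p : ℂ))

variable {p : ℕ}

theorem pDiv_zero : PDiv p 0 := by simp [PDiv, isIntegral_zero]

theorem pDiv_add {a b : ℂ} (ha : PDiv p a) (hb : PDiv p b) : PDiv p (a + b) := by
  unfold PDiv at *; rw [add_div]; exact ha.add hb

theorem pDiv_neg {a : ℂ} (ha : PDiv p a) : PDiv p (-a) := by
  unfold PDiv at *; rw [neg_div]; exact ha.neg

theorem pDiv_sub {a b : ℂ} (ha : PDiv p a) (hb : PDiv p b) : PDiv p (a - b) := by
  rw [sub_eq_add_neg]; exact pDiv_add ha (pDiv_neg hb)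

theorem pDiv_mul_left {a b : ℂ} (ha : IsIntegral ℤ a) (hb : PDiv p b) : PDiv p (a * b) := by
  unfold PDiv at *; rw [mul_div_assoc]; exact ha.mul hb

theorem pDiv_mul_right {a b : ℂ} (ha : PDiv p a) (hb : IsIntegral ℤ b) : PDiv p (a * b) := by
  rw [mul_comm]; exact pDiv_mul_left hb ha

theorem pDiv_sum {ι : Type*} (s : Finset ι) (f : ι → ℂ) (h : ∀ i ∈ s, PDiv p (f i)) :
    PDiv p (∑ i ∈ s, f i) := by
  classical
  induction s using Finset.induction with
  | empty => simpa using pDiv_zero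
  | insert a s ha ih =>
    rw [Finset.sum_insert ha]
    exact pDiv_add (h a (Finset.mem_insert_self a s))
      (ih fun i hi => h i (Finset.mem_insert_of_mem hi))

theorem pDiv_intCast_iff [Fact p.Prime] (k : ℤ) : PDiv p (k : ℂ) ↔ (p : ℤ) ∣ k := by
  have hp : (p : ℂ) ≠ 0 := Nat.cast_ne_zero.2 (Fact.out : p.Prime).ne_zero
  constructor
  · intro h
    have h' : IsIntegral ℤ (((k : ℚ) / (p : ℚ) : ℚ) : ℂ) := by push_cast; exact h
    obtain ⟨m, hm⟩ := CfsgLib.Char.exists_int_of_isIntegral_rat h'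
    refine ⟨m, ?_⟩
    rw [div_eq_iff (Nat.cast_ne_zero.2 (Fact.out : p.Prime).ne_zero)] at hm
    rw [mul_comm]
    exact_mod_cast hm
  · rintro ⟨m, rfl⟩
    unfold PDiv
    rw [Int.cast_mul, Int.cast_natCast, mul_div_cancel_left₀ _ hp]
    exact isIntegral_algebraMap (R := ℤ) (A := ℂ) (x := m)

theorem pDiv_natCast_iff [Fact p.Prime] (k : ℕ) : PDiv p (k : ℂ) ↔ p ∣ k := by
  have := pDiv_intCast_iff (p := p) (k : ℤ)
  rw [Int.cast_natCast, Int.natCast_dvd_natCast] at this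
  exact this

theorem pDiv_of_natCast_mul [Fact p.Prime] {z : ℂ} (hz : IsIntegral ℤ z) {k : ℕ} (hk : ¬ p ∣ k)
    (h : PDiv p ((k : ℂ) * z)) : PDiv p z := by
  have hc : Nat.Coprime k p := ((Fact.out : p.Prime).coprime_iff_not_dvd.2 hk).symm
  have hb := congrArg (fun t : ℤ => (t : ℂ)) (Nat.gcd_eq_gcd_ab k p)
  rw [hc.gcd_eq_one] at hb
  push_cast at hb
  have e : z = (Nat.gcdA k p : ℂ) * ((k : ℂ) * z) + (Nat.gcdB k p : ℂ) * ((p : ℂ) * z) := by
    conv_lhs => rw [← one_mul z, hb]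
    ring
  rw [e]
  refine pDiv_add (pDiv_mul_left ?_ h) (pDiv_mul_left ?_ ?_)
  · exact isIntegral_algebraMap (R := ℤ) (A := ℂ) (x := Nat.gcdA k p)
  · exact isIntegral_algebraMap (R := ℤ) (A := ℂ) (x := Nat.gcdB k p)
  · exact pDiv_mul_right ((pDiv_natCast_iff p).2 dvd_rfl) hz

theorem isIntegral_natCast' (k : ℕ) : IsIntegral ℤ (k : ℂ) :=
  by simpa using (isIntegral_algebraMap (R := ℤ) (A := ℂ) (x := (k : ℤ)))

/-- Sum over a set acted on by a `p`-group: only fixed points matter modulo `p`. -/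
theorem pDiv_sum_sub_sum_fixed [Fact p.Prime] {S X : Type*} [Group S] [MulAction S X] [Fintype X]
    (hS : IsPGroup p S) (f : X → ℂ) (hint : ∀ x, IsIntegral ℤ (f x))
    (hf : ∀ (s : S) (x : X), f (s • x) = f x) [DecidablePred fun x : X => ∀ s : S, s • x = x] :
    PDiv p (∑ x, f x - ∑ x with ∀ s : S, s • x = x, f x) := by
  classical
  have hsplit : ∑ x, f x - ∑ x with ∀ s : S, s • x = x, f x =
      ∑ x, if ∀ s : S, s • x = x then 0 else f x := by
    rw [Finset.sum_filter, ← Finset.sum_sub_distrib]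
    exact Finset.sum_congr rfl fun x _ => by split_ifs <;> simp
  rw [hsplit]
  have : Fintype (Quotient (MulAction.orbitRel S X)) := Fintype.ofFinite _
  rw [← Finset.sum_fiberwise Finset.univ (Quotient.mk (MulAction.orbitRel S X))]
  refine pDiv_sum _ _ fun q _ => ?_
  induction q using Quotient.inductionOn with | _ a => ?_
  set O := Finset.univ.filter fun x => Quotient.mk (MulAction.orbitRel S X) x = Quotient.mk _ a
  have hO : ∀ x ∈ O, ∃ s : S, s • a = x := by
    intro x hx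
    rw [Finset.mem_filter] at hx
    exact MulAction.orbitRel_apply.1 (Quotient.exact hx.2)
  by_cases ha : ∀ s : S, s • a = a
  · refine pDiv_sum _ _ fun x hx => ?_
    obtain ⟨s, rfl⟩ := hO x hx
    rw [ha s, if_pos ha]
    exact pDiv_zero
  · have hval : ∀ x ∈ O, (if ∀ s : S, s • x = x then (0 : ℂ) else f x) = f a := by
      intro x hx
      obtain ⟨s, rfl⟩ := hO x hx
      rw [if_neg, hf]
      intro hh
      apply ha
      have h2 : s • a = a := smul_left_cancel s (hh s)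
      rwa [h2] at hh
    rw [Finset.sum_congr rfl hval, Finset.sum_const, nsmul_eq_mul]
    refine pDiv_mul_right ((pDiv_natCast_iff _).2 ?_) (hint a)
    have hcard : O.card = Nat.card (MulAction.orbit S a) := by
      rw [← Nat.card_eq_finsetCard]
      refine Nat.card_congr (Equiv.subtypeEquivRight fun x => ?_)
      rw [Finset.mem_filter, Quotient.eq, MulAction.orbitRel_apply]
      simp
    obtain ⟨k, hk⟩ := hS.card_orbit a
    rw [hcard, hk]
    rcases Nat.eq_zero_or_pos k with rfl | hk0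
    · exfalso
      apply ha
      intro s
      rw [pow_zero] at hk
      haveI := (Nat.card_eq_one_iff_unique.1 hk).1
      exact congrArg Subtype.val (Subsingleton.elim
        (⟨s • a, MulAction.mem_orbit a s⟩ : MulAction.orbit S a) ⟨a, MulAction.mem_orbit_self a⟩)
    · exact dvd_pow_self p hk0.ne'

theorem isIntegral_char {G : Type*} [Group G] [Finite G] {χ : G → ℂ}
    (h : Cfsg.IsCharacter G χ) (g : G) : IsIntegral ℤ (χ g) := by
  obtain ⟨n, ρ, rfl⟩ := h
  obtain ⟨ι, hι, b, μ, -, hμ, hval, -⟩ := CfsgLib.Char.exists_char_eigen ρ g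
  have h1 := hval 1
  rw [pow_one] at h1
  rw [h1]
  refine IsIntegral.sum _ fun i _ => ?_
  exact ⟨Polynomial.X ^ orderOf g - Polynomial.C 1, Polynomial.monic_X_pow_sub_C 1 (orderOf_pos g).ne',
    by simp [hμ i]⟩

/-- Convolution of a class function with an irreducible character. -/
theorem sum_classFun_mul_irr {G : Type*} [Group G] [Fintype G] {f : G → ℂ}
    (hf : Cfsg.IsClassFunction G f) {β : G → ℂ} (hβ : Cfsg.IsIrrCharacter G β) (d : G) :
    ∑ h : G, f h * β (d * h⁻¹) = (∑ h : G, f h * β h⁻¹) / β 1 * β d := by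
  obtain ⟨n, ρ, hρ, rfl⟩ := hβ
  have h := CfsgLib.Char.classOp_eq_scalar hf ρ
  have h2 := congrArg (fun T => LinearMap.trace ℂ (Fin n → ℂ) (ρ d * T)) h
  simp only [CfsgLib.Char.classOp, Finset.mul_sum, mul_smul_comm, map_sum, map_smul,
    smul_eq_mul, ← map_mul] at h2
  rw [← Module.End.one_eq_id, mul_one] at h2
  show _ = _ / ρ.character 1 * ρ.character d
  rw [Representation.char_one]
  refine h2.trans ?_
  congr 1
  congr 1
  rw [CfsgLib.Char.classInner_def, ← mul_assoc,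
    mul_inv_cancel₀ (CfsgLib.Char.natCard_ne_zero (G := G)), one_mul]
  exact Finset.sum_congr rfl fun g _ => by rw [CfsgLib.Char.char_inv_eq_conj]

section Action

variable {G C S : Type*} [Group G] [Group C] [Group S] [MulDistribMulAction S G]

/-- The translate of an irreducible character by an element acting on the group. -/
noncomputable def smulIrr (s : S) (χ : Cfsg.IrrCharacter G) : Cfsg.IrrCharacter G :=
  ⟨fun g => (χ : G → ℂ) (s⁻¹ • g),
    CfsgLib.Char.isIrrCharacter_comp_surjective χ.2 (MulDistribMulAction.toMonoidHom G s⁻¹)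
      (MulAction.surjective s⁻¹)⟩

noncomputable instance irrMulAction : MulAction S (Cfsg.IrrCharacter G) where
  smul := smulIrr
  one_smul χ := Subtype.ext (funext fun g => by show (χ : G → ℂ) ((1 : S)⁻¹ • g) = _; simp)
  mul_smul a b χ := Subtype.ext (funext fun g => by
    show (χ : G → ℂ) ((a * b)⁻¹ • g) = (χ : G → ℂ) (b⁻¹ • a⁻¹ • g)
    rw [mul_inv_rev, mul_smul])

theorem smul_irr_apply (s : S) (χ : Cfsg.IrrCharacter G) (g : G) :
    ((s • χ : Cfsg.IrrCharacter G) : G → ℂ) g = (χ : G → ℂ) (s⁻¹ • g) := rfl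

/-- A character is invariant under the action. -/
def IsInv (S : Type*) [Group S] [MulDistribMulAction S G] (χ : G → ℂ) : Prop :=
  ∀ (s : S) (g : G), χ (s • g) = χ g

theorem isInv_iff_fixed (χ : Cfsg.IrrCharacter G) :
    IsInv S (χ : G → ℂ) ↔ ∀ s : S, s • χ = χ := by
  constructor
  · exact fun h s => Subtype.ext (funext fun g => h s⁻¹ g)
  · intro h s g
    have := congrArg (fun ψ : Cfsg.IrrCharacter G => (ψ : G → ℂ) g) (h s⁻¹)
    simpa [smul_irr_apply] using this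

variable [Fintype G] [Fintype C] (ι : C →* G) (hι : Function.Injective ι)
  (hrange : ∀ g : G, g ∈ ι.range ↔ ∀ s : S, s • g = g)

include hι hrange

theorem sum_fixed_eq (f : G → ℂ) [DecidablePred fun g : G => ∀ s : S, s • g = g] :
    ∑ g with ∀ s : S, s • g = g, f g = ∑ c, f (ι c) := by
  refine (Finset.sum_bij (fun c _ => ι c) (fun c _ => ?_) (fun a _ b _ h => hι h) (fun g hg => ?_)
    (fun _ _ => rfl)).symm
  · simpa using (hrange (ι c)).1 ⟨c, rfl⟩
  · simp only [Finset.mem_filter, Finset.mem_univ, true_and] at hg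
    obtain ⟨c, hc⟩ := (hrange g).2 hg
    exact ⟨c, Finset.mem_univ c, hc⟩

variable [Fact p.Prime] (hS : IsPGroup p S)

include hS

theorem pDiv_sum_sub_sum_range (f : G → ℂ) (hint : ∀ x, IsIntegral ℤ (f x))
    (hf : ∀ (s : S) (x : G), f (s • x) = f x) : PDiv p (∑ g, f g - ∑ c, f (ι c)) := by
  classical
  rw [← sum_fixed_eq ι hι hrange]
  exact pDiv_sum_sub_sum_fixed hS f hint hf

theorem natCard_sub_dvd : PDiv p ((Nat.card G : ℂ) - (Nat.card C : ℂ)) := by
  have := pDiv_sum_sub_sum_range ι hι hrange hS (fun _ => 1) (fun _ => isIntegral_one) fun _ _ => rfl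
  simpa [Nat.card_eq_fintype_card] using this

variable (hcop : ¬ p ∣ Nat.card G)

include hcop

theorem not_dvd_card_fixed : ¬ p ∣ Nat.card C := by
  intro h
  apply hcop
  rw [← pDiv_natCast_iff]
  have := pDiv_add (natCard_sub_dvd ι hι hrange hS) ((pDiv_natCast_iff _).2 h)
  simpa using this

/-- Fixed points conjugate in `G` are conjugate by a fixed point. -/
theorem isConj_of_isConj {c d : C} (h : IsConj (ι c) (ι d)) : IsConj c d := by
  classical
  obtain ⟨x, hx⟩ := isConj_iff.1 h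
  let X := {g : G // g * ι c * g⁻¹ = ι d}
  letI : MulAction S X :=
    { smul := fun s g => ⟨s • g.1, by
        have h1 := congrArg (s • ·) g.2
        simp only [smul_mul', smul_inv', (hrange _).1 ⟨c, rfl⟩ s, (hrange _).1 ⟨d, rfl⟩ s] at h1
        exact h1⟩
      one_smul := fun g => Subtype.ext (one_smul S g.1)
      mul_smul := fun a b g => Subtype.ext (mul_smul a b g.1) }
  have hcard : Nat.card X = Nat.card (Subgroup.centralizer ({ι c} : Set G)) := by
    refine (Nat.card_congr ?_).symm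
    exact
      { toFun := fun z => ⟨x * z.1, by
          have := Subgroup.mem_centralizer_singleton_iff.1 z.2
          rw [mul_inv_rev, ← mul_assoc, mul_assoc x, this, ← mul_assoc, mul_inv_cancel_right, hx]⟩
        invFun := fun g => ⟨x⁻¹ * g.1, by
          rw [Subgroup.mem_centralizer_singleton_iff]
          calc x⁻¹ * g.1 * ι c = x⁻¹ * (g.1 * ι c * g.1⁻¹) * g.1 := by group
            _ = x⁻¹ * (x * ι c * x⁻¹) * g.1 := by rw [g.2, hx]
            _ = ι c * (x⁻¹ * g.1) := by group⟩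
        left_inv := fun z => by simp
        right_inv := fun g => by simp }
  have hnp : ¬ p ∣ Nat.card X := by
    rw [hcard]
    exact fun hd => hcop (hd.trans (Subgroup.card_subgroup_dvd_card _))
  obtain ⟨g, hg⟩ := hS.nonempty_fixed_point_of_prime_not_dvd_card X hnp
  obtain ⟨e, he⟩ := (hrange g.1).2 fun s => congrArg Subtype.val (hg s)
  refine isConj_iff.2 ⟨e, hι ?_⟩
  rw [map_mul, map_mul, map_inv, he, g.2]

omit hcop in
theorem sum_restrict_mul (χ : G → ℂ) (hχ : Cfsg.IsCharacter G χ) (β : Cfsg.IrrCharacter C) :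
    ∃ v : ℕ, Cfsg.classInner (fun c => χ (ι c)) (β : C → ℂ) = v ∧
      ∑ c, χ (ι c) * (β : C → ℂ) c⁻¹ = (Nat.card C : ℂ) * v := by
  obtain ⟨v, hv⟩ := CfsgLib.Char.classInner_isCharacter_nat
    (CfsgLib.Char.isCharacter_comp hχ ι) (CfsgLib.Char.irr_isCharacter β.2)
  refine ⟨v, hv, ?_⟩
  rw [← hv, CfsgLib.Char.classInner_def, ← mul_assoc, mul_inv_cancel₀ CfsgLib.Char.natCard_ne_zero,
    one_mul]
  exact Finset.sum_congr rfl fun c _ => by
    rw [CfsgLib.Char.char_inv (CfsgLib.Char.irr_isCharacter β.2)]; rfl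

/-- Two different invariant characters do not share a constituent with multiplicity prime to `p`. -/
theorem dvd_or_dvd_of_ne (χ ψ : Cfsg.IrrCharacter G) (hχ : IsInv S (χ : G → ℂ))
    (hψ : IsInv S (ψ : G → ℂ)) (hne : χ ≠ ψ) (β : Cfsg.IrrCharacter C) {v w : ℕ}
    (hv : Cfsg.classInner (fun c => (χ : G → ℂ) (ι c)) (β : C → ℂ) = v)
    (hw : Cfsg.classInner (fun c => (ψ : G → ℂ) (ι c)) (β : C → ℂ) = w) : p ∣ v ∨ p ∣ w := by
  classical
  obtain ⟨v', hv', hU⟩ := sum_restrict_mul ι hι hrange hS _ (CfsgLib.Char.irr_isCharacter χ.2) β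
  obtain ⟨w', hw', hW⟩ := sum_restrict_mul ι hι hrange hS _ (CfsgLib.Char.irr_isCharacter ψ.2) β
  rw [hv, Nat.cast_inj] at hv'
  rw [hw, Nat.cast_inj] at hw'
  subst v' w'
  have hβi := fun c : C => isIntegral_char (CfsgLib.Char.irr_isCharacter β.2) c
  have hχi := fun g : G => isIntegral_char (CfsgLib.Char.irr_isCharacter χ.2) g
  have hψi := fun g : G => isIntegral_char (CfsgLib.Char.irr_isCharacter ψ.2) g
  obtain ⟨b, hb⟩ := CfsgLib.Char.char_apply_one_eq_nat (CfsgLib.Char.irr_isCharacter β.2)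
  have hkey : ∀ e : C, PDiv p (∑ d, (χ : G → ℂ) (ι d) * (ψ : G → ℂ) (ι e * (ι d)⁻¹)) := by
    intro e
    have h0 : ∑ g : G, (χ : G → ℂ) g * (ψ : G → ℂ) (ι e * g⁻¹) = 0 := by
      rw [sum_classFun_mul_irr (CfsgLib.Char.irr_isClassFunction χ.2) ψ.2]
      have hz : ∑ g : G, (χ : G → ℂ) g * (ψ : G → ℂ) g⁻¹ = 0 := by
        have := CfsgLib.Char.irr_classInner_ne χ.2 ψ.2 (fun h => hne (Subtype.ext h))
        rw [CfsgLib.Char.classInner_def, mul_eq_zero, or_iff_right (by simp)] at this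
        simpa [CfsgLib.Char.char_inv (CfsgLib.Char.irr_isCharacter ψ.2)] using this
      rw [hz, zero_div, zero_mul]
    have := pDiv_sum_sub_sum_range ι hι hrange hS
      (fun g => (χ : G → ℂ) g * (ψ : G → ℂ) (ι e * g⁻¹)) (fun g => (hχi _).mul (hψi _))
      (fun s g => by
        show (χ : G → ℂ) (s • g) * (ψ : G → ℂ) (ι e * (s • g)⁻¹) = _
        rw [hχ, ← hψ s (ι e * g⁻¹), smul_mul', smul_inv', (hrange _).1 ⟨e, rfl⟩ s])
    rw [h0, zero_sub] at this
    simpa using pDiv_neg this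
  have hUW : PDiv p (∑ e, (∑ d, (χ : G → ℂ) (ι d) * (ψ : G → ℂ) (ι e * (ι d)⁻¹)) *
      (β : C → ℂ) e⁻¹) := pDiv_sum _ _ fun e _ => pDiv_mul_right (hkey e) (hβi _)
  have hcalc : ∑ e, (∑ d, (χ : G → ℂ) (ι d) * (ψ : G → ℂ) (ι e * (ι d)⁻¹)) * (β : C → ℂ) e⁻¹ =
      ((Nat.card C : ℂ) * v) * ((Nat.card C : ℂ) * w) / (b : ℂ) := by
    rw [← hU, ← hW, ← hb]
    simp only [Finset.sum_mul]
    rw [Finset.sum_comm, Finset.sum_div]
    refine Finset.sum_congr rfl fun d _ => ?_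
    have hcl : Cfsg.IsClassFunction C (fun c => (ψ : G → ℂ) (ι c)) := fun a c => by
      simp only [map_mul, map_inv]; exact CfsgLib.Char.irr_isClassFunction ψ.2 _ _
    have := sum_classFun_mul_irr hcl β.2 d⁻¹
    calc ∑ e, (χ : G → ℂ) (ι d) * (ψ : G → ℂ) (ι e * (ι d)⁻¹) * (β : C → ℂ) e⁻¹
        = (χ : G → ℂ) (ι d) * ∑ e, (ψ : G → ℂ) (ι e) * (β : C → ℂ) (d⁻¹ * e⁻¹) := by
          rw [Finset.mul_sum]
          refine Fintype.sum_equiv (Equiv.mulRight d⁻¹) _ _ fun e => ?_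
          simp [map_mul, mul_assoc]
      _ = _ := by rw [this]; ring
  rw [hcalc] at hUW
  have hb0 : (b : ℂ) ≠ 0 := hb ▸ CfsgLib.Char.irr_apply_one_ne_zero β.2
  have h3 := pDiv_mul_right hUW (isIntegral_natCast' b)
  rw [div_mul_cancel₀ _ hb0,
    show ((Nat.card C : ℂ) * v) * ((Nat.card C : ℂ) * w) =
      ((Nat.card C * v * (Nat.card C * w) : ℕ) : ℂ) by push_cast; rfl, pDiv_natCast_iff] at h3
  have hp := (Fact.out : p.Prime)
  have hC := not_dvd_card_fixed ι hι hrange hS hcop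
  rcases hp.dvd_mul.1 h3 with h | h <;> rcases hp.dvd_mul.1 h with h' | h'
  exacts [absurd h' hC, Or.inl h', absurd h' hC, Or.inr h']

omit hcop in
/-- The squares of the multiplicities of an invariant character sum to one modulo `p`. -/
theorem sum_sq_modEq (χ : Cfsg.IrrCharacter G) (hχ : IsInv S (χ : G → ℂ))
    [Fintype (Cfsg.IrrCharacter C)] (v : Cfsg.IrrCharacter C → ℕ)
    (hv : ∀ β : Cfsg.IrrCharacter C, Cfsg.classInner (fun c => (χ : G → ℂ) (ι c)) (β : C → ℂ) = v β) :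
    PDiv p ((Nat.card G : ℂ) - (Nat.card C : ℂ) * ∑ β, (v β : ℂ) ^ 2) := by
  classical
  have hint : ∀ g : G, IsIntegral ℤ ((χ : G → ℂ) g * conj ((χ : G → ℂ) g)) := fun g => by
    rw [← CfsgLib.Char.char_inv (CfsgLib.Char.irr_isCharacter χ.2)]
    exact (isIntegral_char (CfsgLib.Char.irr_isCharacter χ.2) _).mul
      (isIntegral_char (CfsgLib.Char.irr_isCharacter χ.2) _)
  have h := pDiv_sum_sub_sum_range ι hι hrange hS
    (fun g => (χ : G → ℂ) g * conj ((χ : G → ℂ) g)) hint (fun s g => by rw [hχ s g])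
  have e1 : ∑ g : G, (χ : G → ℂ) g * conj ((χ : G → ℂ) g) = (Nat.card G : ℂ) := by
    have := CfsgLib.Char.irr_classInner_self χ.2
    rwa [CfsgLib.Char.classInner_def, inv_mul_eq_one₀ CfsgLib.Char.natCard_ne_zero, eq_comm] at this
  have hcl : Cfsg.IsClassFunction C (fun c => (χ : G → ℂ) (ι c)) :=
    CfsgLib.Char.isCharacter_isClassFunction
      (CfsgLib.Char.isCharacter_comp (CfsgLib.Char.irr_isCharacter χ.2) ι)
  have e2 : ∑ c : C, (χ : G → ℂ) (ι c) * conj ((χ : G → ℂ) (ι c)) =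
      (Nat.card C : ℂ) * ∑ β, (v β : ℂ) ^ 2 := by
    have := CfsgLib.Char.classInner_eq_sum_mul hcl (fun c => (χ : G → ℂ) (ι c))
    rw [CfsgLib.Char.classInner_def, inv_mul_eq_iff_eq_mul₀ CfsgLib.Char.natCard_ne_zero] at this
    simp only [hv] at this
    rw [this]
    simp [sq]
  rw [e1, e2] at h
  exact h

/-- For every two irreducible characters `β β'` of the fixed points, the multiplicities of the
invariant characters span the identity matrix modulo `p`. -/
theorem exists_span (β : Cfsg.IrrCharacter C) [Fintype (Cfsg.IrrCharacter G)]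
    [DecidableEq (Cfsg.IrrCharacter C)] [DecidablePred fun χ : Cfsg.IrrCharacter G => ∀ s : S, s • χ = χ] :
    ∃ a : Cfsg.IrrCharacter G → ℂ, (∀ χ, IsIntegral ℤ (a χ)) ∧ ∀ β' : Cfsg.IrrCharacter C,
      PDiv p ((Nat.card G : ℂ) * (if β = β' then (Nat.card C : ℂ) else 0) -
        ∑ χ with ∀ s : S, s • χ = χ, a χ * ((Nat.card C : ℂ) *
          Cfsg.classInner (fun c => ((χ : Cfsg.IrrCharacter G) : G → ℂ) (ι c)) (β' : C → ℂ))) := by
  classical
  let F : G → ℂ := fun g => if h : ∃ c, IsConj g (ι c) then (β : C → ℂ) h.choose else 0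
  have hFc : ∀ g c, IsConj g (ι c) → F g = (β : C → ℂ) c := by
    intro g c hgc
    have h : ∃ c, IsConj g (ι c) := ⟨c, hgc⟩
    simp only [F, dif_pos h]
    exact CfsgLib.Char.isClassFunction_isConj (CfsgLib.Char.irr_isClassFunction β.2)
      (isConj_of_isConj ι hι hrange hS hcop (h.choose_spec.symm.trans hgc))
  have hF0 : ∀ g, (¬ ∃ c, IsConj g (ι c)) → F g = 0 := fun g h => by simp only [F, dif_neg h]
  have hFinv : ∀ g h : G, (∀ c, IsConj g (ι c) ↔ IsConj h (ι c)) → F g = F h := by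
    intro g h hiff
    by_cases he : ∃ c, IsConj g (ι c)
    · obtain ⟨c, hc⟩ := he
      rw [hFc g c hc, hFc h c ((hiff c).1 hc)]
    · rw [hF0 g he, hF0 h fun ⟨c, hc⟩ => he ⟨c, (hiff c).2 hc⟩]
  have hFcl : Cfsg.IsClassFunction G F := fun g h => hFinv _ _ fun c =>
    ⟨(isConj_iff.2 ⟨h, rfl⟩ : IsConj g (h * g * h⁻¹)).trans,
      (isConj_iff.2 ⟨h, rfl⟩ : IsConj g (h * g * h⁻¹)).symm.trans⟩
  have hFs : ∀ (s : S) (g : G), F (s • g) = F g := fun s g => hFinv _ _ fun c => by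
    constructor <;> intro hc <;> obtain ⟨x, hx⟩ := isConj_iff.1 hc
    · refine isConj_iff.2 ⟨s⁻¹ • x, ?_⟩
      have := congrArg (s⁻¹ • ·) hx
      simpa [smul_mul', smul_inv', inv_smul_smul, (hrange _).1 ⟨c, rfl⟩ s⁻¹] using this
    · refine isConj_iff.2 ⟨s • x, ?_⟩
      rw [← smul_inv', ← smul_mul', ← smul_mul', hx, (hrange _).1 ⟨c, rfl⟩ s]
  have hFint : ∀ g, IsIntegral ℤ (F g) := fun g => by
    by_cases he : ∃ c, IsConj g (ι c)
    · obtain ⟨c, hc⟩ := he; rw [hFc g c hc]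
      exact isIntegral_char (CfsgLib.Char.irr_isCharacter β.2) c
    · rw [hF0 g he]; exact isIntegral_zero
  let a : Cfsg.IrrCharacter G → ℂ := fun χ => ∑ g, F g * conj ((χ : G → ℂ) g)
  have haint : ∀ χ, IsIntegral ℤ (a χ) := fun χ => IsIntegral.sum _ fun g _ =>
    (hFint g).mul (by
      rw [← CfsgLib.Char.char_inv (CfsgLib.Char.irr_isCharacter χ.2)]
      exact isIntegral_char (CfsgLib.Char.irr_isCharacter χ.2) _)
  refine ⟨a, haint, fun β' => ?_⟩
  let w : Cfsg.IrrCharacter G → ℂ := fun χ => (Nat.card C : ℂ) *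
    Cfsg.classInner (fun c => (χ : G → ℂ) (ι c)) (β' : C → ℂ)
  have hwint : ∀ χ, IsIntegral ℤ (w χ) := fun χ => by
    obtain ⟨v, hv⟩ := CfsgLib.Char.classInner_isCharacter_nat
      (CfsgLib.Char.isCharacter_comp (CfsgLib.Char.irr_isCharacter χ.2) ι)
      (CfsgLib.Char.irr_isCharacter β'.2)
    exact (isIntegral_natCast' _).mul (hv ▸ isIntegral_natCast' v)
  have hsum : (Nat.card G : ℂ) * (if β = β' then (Nat.card C : ℂ) else 0) = ∑ χ, a χ * w χ := by
    have hb : (fun c => F (ι c)) = (β : C → ℂ) := funext fun c => hFc _ c (IsConj.refl _)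
    have hcl := CfsgLib.Char.classFunction_eq_sum hFcl
    have h1 : (fun c => F (ι c)) = ∑ χ : Cfsg.IrrCharacter G,
        Cfsg.classInner F (χ : G → ℂ) • (fun c => (χ : G → ℂ) (ι c)) := by
      funext c
      conv_lhs => rw [hcl]
      simp
    have h2 : Cfsg.classInner (β : C → ℂ) (β' : C → ℂ) = if β = β' then 1 else 0 := by
      split_ifs with h
      · rw [h]; exact CfsgLib.Char.irr_classInner_self β'.2
      · exact CfsgLib.Char.irr_classInner_ne β.2 β'.2 fun h' => h (Subtype.ext h')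
    rw [← hb, h1, CfsgLib.Char.classInner_sum_left] at h2
    simp only [CfsgLib.Char.classInner_smul_left] at h2
    have h3 := congrArg (fun z => (Nat.card G : ℂ) * (Nat.card C : ℂ) * z) h2
    simp only [Finset.mul_sum, mul_ite, mul_one, mul_zero] at h3
    rw [mul_ite, mul_zero, ← h3]
    refine Finset.sum_congr rfl fun χ _ => ?_
    simp only [a, w, CfsgLib.Char.classInner_def]
    field_simp [CfsgLib.Char.natCard_ne_zero (G := G)]
  rw [hsum]
  refine pDiv_sum_sub_sum_fixed hS (fun χ => a χ * w χ) (fun χ => (haint χ).mul (hwint χ))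
    fun s χ => ?_
  congr 1
  · show ∑ g, F g * conj (((s • χ : Cfsg.IrrCharacter G) : G → ℂ) g) = _
    refine Fintype.sum_equiv (MulAction.toPerm s⁻¹) _ _ fun g => ?_
    simp [smul_irr_apply, hFs]
  · simp only [w, smul_irr_apply, (hrange _).1 ⟨_, rfl⟩ _]

/-- Glauberman correspondence for a `p`-group of operators. -/
theorem glauberman_pGroup :
    (∀ χ : Cfsg.IrrCharacter G, IsInv S (χ : G → ℂ) →
      ∃! β : Cfsg.IrrCharacter C, ∃ m : ℕ,
        Cfsg.classInner (fun c => (χ : G → ℂ) (ι c)) (β : C → ℂ) = m ∧ ¬ p ∣ m) ∧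
    (∀ χ : Cfsg.IrrCharacter G, IsInv S (χ : G → ℂ) → ∀ (β : Cfsg.IrrCharacter C) (m : ℕ),
      Cfsg.classInner (fun c => (χ : G → ℂ) (ι c)) (β : C → ℂ) = m → ¬ p ∣ m →
        ((m : ℤ) ≡ 1 [ZMOD p] ∨ (m : ℤ) ≡ -1 [ZMOD p])) ∧
    (∀ χ ψ : Cfsg.IrrCharacter G, IsInv S (χ : G → ℂ) → IsInv S (ψ : G → ℂ) →
      ∀ (β : Cfsg.IrrCharacter C) (m m' : ℕ),
      Cfsg.classInner (fun c => (χ : G → ℂ) (ι c)) (β : C → ℂ) = m → ¬ p ∣ m →
      Cfsg.classInner (fun c => (ψ : G → ℂ) (ι c)) (β : C → ℂ) = m' → ¬ p ∣ m' → χ = ψ) ∧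
    (∀ β : Cfsg.IrrCharacter C, ∃ χ : Cfsg.IrrCharacter G, IsInv S (χ : G → ℂ) ∧
      ∃ m : ℕ, Cfsg.classInner (fun c => (χ : G → ℂ) (ι c)) (β : C → ℂ) = m ∧ ¬ p ∣ m) := by
  classical
  have := Fintype.ofFinite (Cfsg.IrrCharacter C)
  have := Fintype.ofFinite (Cfsg.IrrCharacter G)
  have hp := (Fact.out : p.Prime)
  have hC := not_dvd_card_fixed ι hι hrange hS hcop
  have hnat : ∀ (χ : Cfsg.IrrCharacter G) (β : Cfsg.IrrCharacter C), ∃ m : ℕ,
      Cfsg.classInner (fun c => (χ : G → ℂ) (ι c)) (β : C → ℂ) = m := fun χ β =>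
    CfsgLib.Char.classInner_isCharacter_nat
      (CfsgLib.Char.isCharacter_comp (CfsgLib.Char.irr_isCharacter χ.2) ι)
      (CfsgLib.Char.irr_isCharacter β.2)
  choose v hv using hnat
  have hdisj : ∀ χ ψ : Cfsg.IrrCharacter G, IsInv S (χ : G → ℂ) → IsInv S (ψ : G → ℂ) →
      ∀ β, ¬ p ∣ v χ β → ¬ p ∣ v ψ β → χ = ψ := by
    intro χ ψ hχ hψ β h1 h2
    by_contra hne
    rcases dvd_or_dvd_of_ne ι hι hrange hS hcop χ ψ hχ hψ hne β (hv χ β) (hv ψ β) with h | h
    exacts [h1 h, h2 h]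
  have hGC : ¬ p ∣ Nat.card G * Nat.card C := fun h => (hp.dvd_mul.1 h).elim hcop hC
  have hterm : ∀ (χ : Cfsg.IrrCharacter G) (β' : Cfsg.IrrCharacter C) (z : ℂ), IsIntegral ℤ z →
      p ∣ v χ β' → PDiv p (z * ((Nat.card C : ℂ) *
        Cfsg.classInner (fun c => (χ : G → ℂ) (ι c)) (β' : C → ℂ))) := fun χ β' z hz hd => by
    rw [hv]
    exact pDiv_mul_left hz (pDiv_mul_left (isIntegral_natCast' _) ((pDiv_natCast_iff _).2 hd))
  have hexist : ∀ β, ∃ χ : Cfsg.IrrCharacter G, IsInv S (χ : G → ℂ) ∧ ¬ p ∣ v χ β := by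
    intro β
    by_contra! hno
    obtain ⟨a, ha, h⟩ := exists_span ι hι hrange hS hcop β
    have h1 := h β
    rw [if_pos rfl] at h1
    apply hGC
    rw [← pDiv_natCast_iff, Nat.cast_mul]
    have h2 : PDiv p (∑ χ with ∀ s : S, s • χ = χ, a χ * ((Nat.card C : ℂ) *
        Cfsg.classInner (fun c => ((χ : Cfsg.IrrCharacter G) : G → ℂ) (ι c)) (β : C → ℂ))) :=
      pDiv_sum _ _ fun χ hχ => hterm χ β _ (ha χ)
        (hno χ ((isInv_iff_fixed χ).2 (Finset.mem_filter.1 hχ).2))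
    simpa using pDiv_add h1 h2
  have hone : ∀ χ : Cfsg.IrrCharacter G, IsInv S (χ : G → ℂ) → ∀ β β',
      ¬ p ∣ v χ β → ¬ p ∣ v χ β' → β = β' := by
    intro χ hχ β β' h1 h2
    by_contra hne
    obtain ⟨a, ha, h⟩ := exists_span ι hι hrange hS hcop β
    have hsingle : ∀ b, ¬ p ∣ v χ b → PDiv p ((∑ ψ with ∀ s : S, s • ψ = ψ, a ψ *
        ((Nat.card C : ℂ) *
          Cfsg.classInner (fun c => ((ψ : Cfsg.IrrCharacter G) : G → ℂ) (ι c)) (b : C → ℂ))) -
        a χ * ((Nat.card C : ℂ) * (v χ b : ℂ))) := by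
      intro b hb
      rw [← Finset.add_sum_erase _ _ (Finset.mem_filter.2 ⟨Finset.mem_univ χ,
        (isInv_iff_fixed χ).1 hχ⟩), hv χ b, add_sub_cancel_left]
      refine pDiv_sum _ _ fun ψ hψ => hterm ψ b _ (ha ψ) ?_
      rw [Finset.mem_erase, Finset.mem_filter] at hψ
      by_contra hnd
      exact hψ.1 (hdisj ψ χ ((isInv_iff_fixed ψ).2 hψ.2.2) hχ b hnd hb)
    have e2 := h β'
    rw [if_neg hne, mul_zero] at e2
    have e3 := pDiv_add e2 (hsingle β' h2)
    simp only [sub_add_sub_cancel, zero_sub] at e3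
    have e4 : PDiv p (((Nat.card C * v χ β' : ℕ) : ℂ) * a χ) := by
      have := pDiv_neg e3
      convert this using 1
      push_cast; ring
    have haP : PDiv p (a χ) :=
      pDiv_of_natCast_mul (ha χ) (fun hd => (hp.dvd_mul.1 hd).elim hC h2) e4
    have e1 := h β
    rw [if_pos rfl] at e1
    have e5 := pDiv_add (pDiv_add e1 (hsingle β h1))
      (pDiv_mul_right haP ((isIntegral_natCast' (Nat.card C)).mul (isIntegral_natCast' (v χ β))))
    simp only [sub_add_sub_cancel, sub_add_cancel] at e5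
    apply hGC
    rw [← pDiv_natCast_iff, Nat.cast_mul]
    exact e5
  have hsome : ∀ χ : Cfsg.IrrCharacter G, IsInv S (χ : G → ℂ) → ∃ β, ¬ p ∣ v χ β := by
    intro χ hχ
    by_contra! hno
    have h := sum_sq_modEq ι hι hrange hS χ hχ (v χ) (hv χ)
    have h2 : PDiv p ((Nat.card C : ℂ) * ∑ β, (v χ β : ℂ) ^ 2) :=
      pDiv_mul_left (isIntegral_natCast' _) (pDiv_sum _ _ fun β _ => by
        rw [sq]; exact pDiv_mul_right ((pDiv_natCast_iff _).2 (hno β)) (isIntegral_natCast' _))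
    apply hcop
    rw [← pDiv_natCast_iff]
    simpa using pDiv_add h h2
  have hkey : ∀ χ β m, Cfsg.classInner (fun c => ((χ : Cfsg.IrrCharacter G) : G → ℂ) (ι c))
      ((β : Cfsg.IrrCharacter C) : C → ℂ) = (m : ℕ) → v χ β = m := fun χ β m hm => by
    rw [hv] at hm; exact_mod_cast hm
  refine ⟨fun χ hχ => ?_, fun χ hχ β m hm hnd => ?_, fun χ ψ hχ hψ β m m' hm h1 hm' h2 => ?_,
    fun β => ?_⟩
  · obtain ⟨β, hβ⟩ := hsome χ hχ
    refine ⟨β, ⟨v χ β, hv χ β, hβ⟩, ?_⟩
    rintro β' ⟨m, hm, hnd⟩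
    exact (hone χ hχ β β' hβ (hkey χ β' m hm ▸ hnd)).symm
  · have hβ : ¬ p ∣ v χ β := by rw [hkey χ β m hm]; exact hnd
    have h := sum_sq_modEq ι hι hrange hS χ hχ (v χ) (hv χ)
    have h2 : PDiv p (∑ b, (v χ b : ℂ) ^ 2 - (m : ℂ) ^ 2) := by
      rw [← Finset.add_sum_erase _ _ (Finset.mem_univ β), hkey χ β m hm, add_sub_cancel_left]
      refine pDiv_sum _ _ fun b hb => ?_
      rw [sq]
      refine pDiv_mul_right ((pDiv_natCast_iff _).2 ?_) (isIntegral_natCast' _)
      by_contra hnd'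
      exact (Finset.mem_erase.1 hb).1 (hone χ hχ b β hnd' hβ)
    have h3 := pDiv_add h (pDiv_mul_left (isIntegral_natCast' (Nat.card C)) h2)
    have h4 := pDiv_sub h3 (natCard_sub_dvd ι hι hrange hS)
    have e : ((Nat.card G : ℂ) - (Nat.card C : ℂ) * ∑ b, (v χ b : ℂ) ^ 2 +
        (Nat.card C : ℂ) * (∑ b, (v χ b : ℂ) ^ 2 - (m : ℂ) ^ 2)) -
        ((Nat.card G : ℂ) - (Nat.card C : ℂ)) =
        (((Nat.card C : ℤ) * (1 - (m : ℤ) * m) : ℤ) : ℂ) := by push_cast; ring
    rw [e, pDiv_intCast_iff] at h4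
    have hpi : Prime (p : ℤ) := Nat.prime_iff_prime_int.1 hp
    have h5 : (p : ℤ) ∣ ((m : ℤ) - 1) * ((m : ℤ) + 1) := by
      have h6 : (p : ℤ) ∣ 1 - (m : ℤ) * m :=
        (hpi.dvd_mul.1 h4).resolve_left fun hd => hC (Int.natCast_dvd_natCast.1 hd)
      obtain ⟨k, hk⟩ := h6
      exact ⟨-k, by linear_combination -hk⟩
    rcases hpi.dvd_mul.1 h5 with h7 | h7
    · exact Or.inl (Int.modEq_of_dvd (by simpa using dvd_neg.2 h7))
    · refine Or.inr (Int.modEq_of_dvd ?_)
      obtain ⟨k, hk⟩ := h7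
      exact ⟨-k, by linear_combination -hk⟩
  · exact hdisj χ ψ hχ hψ β (hkey χ β m hm ▸ h1) (hkey ψ β m' hm' ▸ h2)
  · obtain ⟨χ, hχ, h⟩ := hexist β
    exact ⟨χ, hχ, v χ β, hv χ β, h⟩

end Action

end CfsgLib.BlockA
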