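import Cfsg.Agent.Lib.BlockA.FreeSignRows

/-!
A `2`-block with abelian defect group of order eight and one Brauer character does not have five
characters: it has eight, four, or at most four of them.
-/

set_option autoImplicit false
set_option linter.unusedSectionVars false

namespace CfsgLib.BlockA.AbelianEight

open Cfsg CfsgLib.Block CfsgLib.BlockA CfsgLib.BlockB AbelianSub AbelianTrace

universe u

/-! ### Groups of automorphisms of odd order -/

section Action

variable {P : Type u} [Group P] [Finite P] (S : Subgroup (MulAut P))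

/-- The common fixed points. -/
def fixedSub : Subgroup P where
  carrier := {v | ∀ φ ∈ S, φ v = v}
  one_mem' := fun φ _ => map_one φ
  mul_mem' := fun {a b} ha hb φ hφ => by rw [map_mul, ha φ hφ, hb φ hφ]
  inv_mem' := fun {a} ha φ hφ => by rw [map_inv, ha φ hφ]

theorem mem_fixedSub {v : P} : v ∈ fixedSub S ↔ ∀ φ ∈ S, φ v = v := Iff.rfl

theorem mem_orbit_iff {v w : P} : w ∈ MulAction.orbit S v ↔ ∃ φ ∈ S, φ v = w :=
  ⟨fun ⟨φ, h⟩ => ⟨φ.1, φ.2, h⟩, fun ⟨φ, hφ, h⟩ => ⟨⟨φ, hφ⟩, h⟩⟩

variable {S} (hodd : Odd (Nat.card S))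
include hodd

theorem odd_orbit (v : P) : Odd (MulAction.orbit S v).ncard := by
  refine Odd.of_dvd_nat hodd ⟨Nat.card (MulAction.stabilizer S v), ?_⟩
  rw [← Nat.card_coe_set_eq, ← Nat.card_prod,
    Nat.card_congr (MulAction.orbitProdStabilizerEquivGroup S v)]

theorem three_le_orbit {v : P} (hv : v ∉ fixedSub S) : 3 ≤ (MulAction.orbit S v).ncard := by
  have h1 : 1 < (MulAction.orbit S v).ncard := by
    rw [mem_fixedSub] at hv
    push Not at hv
    obtain ⟨φ, hφ, hne⟩ := hv
    exact (Set.one_lt_ncard).2 ⟨φ v, (mem_orbit_iff S).2 ⟨φ, hφ, rfl⟩, v,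
      MulAction.mem_orbit_self v, hne⟩
  obtain ⟨j, hj⟩ := odd_orbit hodd v
  omega

theorem orbit_subset {v : P} (hv : v ∉ fixedSub S) :
    MulAction.orbit S v ⊆ (fixedSub S : Set P)ᶜ := by
  intro w hw hwf
  obtain ⟨φ, hφ, rfl⟩ := (mem_orbit_iff S).1 hw
  have h := hwf φ⁻¹ (inv_mem hφ)
  rw [← MulAut.mul_apply, inv_mul_cancel, MulAut.one_apply] at h
  exact hv (h ▸ hwf)

/-- An orbit which is not all of the moved points leaves room for another. -/
theorem orbit_room {v : P} (hv : v ∉ fixedSub S)
    (hne : (MulAction.orbit S v).ncard ≠ Nat.card P - Nat.card (fixedSub S)) :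
    ∃ w, w ∉ fixedSub S ∧ Disjoint (MulAction.orbit S v) (MulAction.orbit S w) ∧
      (MulAction.orbit S v).ncard + (MulAction.orbit S w).ncard ≤
        Nat.card P - Nat.card (fixedSub S) := by
  have hc : ((fixedSub S : Set P)ᶜ).ncard = Nat.card P - Nat.card (fixedSub S) :=
    Set.ncard_compl (fixedSub S : Set P)
  obtain ⟨w, hw, hwv⟩ : ∃ w, w ∉ fixedSub S ∧ w ∉ MulAction.orbit S v := by
    by_contra h
    push Not at h
    refine hne (hc ▸ congrArg Set.ncard (Set.Subset.antisymm (orbit_subset hodd hv) h))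
  have hd : Disjoint (MulAction.orbit S v) (MulAction.orbit S w) := by
    rw [Set.disjoint_left]
    intro y hy hy'
    exact hwv (MulAction.orbit_eq_iff.1
      ((MulAction.orbit_eq_iff.2 hy').symm.trans (MulAction.orbit_eq_iff.2 hy)))
  refine ⟨w, hw, hd, ?_⟩
  rw [← Set.ncard_union_eq hd, ← hc]
  exact Set.ncard_le_ncard (Set.union_subset (orbit_subset hodd hv) (orbit_subset hodd hw))

/-- The fixed points of a group of order eight never number four. -/
theorem fixed_ne_four (h8 : Nat.card P = 8) : Nat.card (fixedSub S) ≠ 4 := by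
  intro h4
  obtain ⟨v, hv⟩ : ∃ v, v ∉ fixedSub S := by
    by_contra h
    push Not at h
    rw [(Subgroup.eq_top_iff' _).2 h, Subgroup.card_top, h8] at h4
    omega
  have h3 := three_le_orbit hodd hv
  obtain ⟨w, hw, -, hle⟩ := orbit_room hodd hv (fun h => by
    obtain ⟨j, hj⟩ := odd_orbit hodd v
    omega)
  have := three_le_orbit hodd hw
  omega

/-- With two fixed points every other orbit has three points. -/
theorem orbit_three (h8 : Nat.card P = 8) (h2 : Nat.card (fixedSub S) = 2) {v : P}
    (hv : v ∉ fixedSub S) : (MulAction.orbit S v).ncard = 3 := by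
  have h3 := three_le_orbit hodd hv
  obtain ⟨j, hj⟩ := odd_orbit hodd v
  obtain ⟨w, hw, -, hle⟩ := orbit_room hodd hv (by omega)
  have := three_le_orbit hodd hw
  omega

/-- With one fixed point the others form one orbit. -/
theorem orbit_seven (h8 : Nat.card P = 8) (h1 : Nat.card (fixedSub S) = 1) {v : P}
    (hv : v ∉ fixedSub S) : (MulAction.orbit S v).ncard = 7 := by
  by_contra hne
  have e1 : (fixedSub S : Set P).ncard = 1 := by
    rw [← Nat.card_coe_set_eq]
    exact h1
  obtain ⟨w, hw, hd, hle⟩ := orbit_room hodd hv (by omega)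
  have h3 := three_le_orbit hodd hv
  have h3' := three_le_orbit hodd hw
  -- the complement of two orbits holds a third one
  obtain ⟨x, hx, hxv, hxw⟩ : ∃ x, x ∉ fixedSub S ∧ x ∉ MulAction.orbit S v ∧
      x ∉ MulAction.orbit S w := by
    by_contra h
    push Not at h
    have heq : MulAction.orbit S v ∪ MulAction.orbit S w = (fixedSub S : Set P)ᶜ :=
      Set.Subset.antisymm (Set.union_subset (orbit_subset hodd hv) (orbit_subset hodd hw))
        fun x hx => or_iff_not_imp_left.2 (h x hx)
    have hc := congrArg Set.ncard heq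
    rw [Set.ncard_union_eq hd, Set.ncard_compl, e1, h8] at hc
    obtain ⟨i, hi⟩ := odd_orbit hodd v
    obtain ⟨j, hj⟩ := odd_orbit hodd w
    omega
  have h3'' := three_le_orbit hodd hx
  have hdisj : ∀ {y}, x ∉ MulAction.orbit S y →
      Disjoint (MulAction.orbit S y) (MulAction.orbit S x) := fun {y} hxy => by
    rw [Set.disjoint_left]
    intro z hz hz'
    exact hxy (MulAction.orbit_eq_iff.1
      ((MulAction.orbit_eq_iff.2 hz').symm.trans (MulAction.orbit_eq_iff.2 hz)))
  have hle' := Set.ncard_le_ncard (Set.union_subset (Set.union_subset (orbit_subset hodd hv)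
    (orbit_subset hodd hw)) (orbit_subset hodd hx))
  rw [Set.ncard_union_eq (Set.disjoint_union_left.2 ⟨hdisj hxv, hdisj hxw⟩),
    Set.ncard_union_eq hd, Set.ncard_compl, e1, h8] at hle'
  omega

end Action

/-! ### Local ranks -/

/-- At most three Brauer characters for abelian defect groups of order at most four. -/
theorem rank_le_three {H : Type u} [Group H] [Finite H] {M : Ideal AlgInt} [M.IsPrime]
    (hM : IsPModular 2 M) {B : Set (IrrCharacter H)} (hB : IsPBlock M B)
    (hd : blockDefect 2 B ≤ 2) : blockRank 2 B ≤ 3 := by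
  classical
  have : Fact (Nat.Prime 2) := ⟨Nat.prime_two⟩
  have := Fintype.ofFinite H
  obtain ⟨D, hD⟩ := exists_isDefectGroup hM hB
  have hle : Nat.card D ≤ 2 ^ 2 := by
    rw [natCard_defectGroup hM hB hD]
    exact Nat.pow_le_pow_right two_pos hd
  have hab : ∀ x ∈ D, ∀ y ∈ D, x * y = y * x := by
    have hcomm : IsMulCommutative D := by
      have hc := natCard_defectGroup hM hB hD
      rcases (show blockDefect 2 B = 0 ∨ blockDefect 2 B = 1 ∨ blockDefect 2 B = 2 by omega) with
        h | h | h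
      · rw [h, pow_zero] at hc
        have : Subsingleton D := (Nat.card_eq_one_iff_unique.1 hc).1
        exact ⟨⟨fun a b => Subsingleton.elim _ _⟩⟩
      · rw [h, pow_one] at hc
        have := isCyclic_of_prime_card hc
        exact IsCyclic.commutative
      · rw [h] at hc
        exact IsPGroup.isMulCommutative_of_card_eq_prime_sq hc
    exact fun x hx y hy => congrArg Subtype.val (hcomm.is_comm.comm ⟨x, hx⟩ ⟨y, hy⟩)
  obtain ⟨a, ha, b, hb, hgen⟩ : ∃ a ∈ D, ∃ b ∈ D, D ≤ Subgroup.closure {a, b} := by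
    by_contra h
    push Not at h
    obtain ⟨a, ha, ha1⟩ := SetLike.not_le_iff_exists.1 (h 1 (one_mem _) 1 (one_mem _))
    obtain ⟨b, hb, hb1⟩ := SetLike.not_le_iff_exists.1 (h a ha a ha)
    have hab' := h a ha b hb
    have hlt1 : Subgroup.closure ({1, 1} : Set H) < Subgroup.closure {a, a} :=
      lt_of_le_of_ne (Subgroup.closure_le _ |>.2 fun x hx => by
        rcases hx with rfl | rfl <;> exact one_mem _) fun he => ha1 (by
          rw [he]; exact Subgroup.subset_closure (by simp))
    have hlt2 : Subgroup.closure ({a, a} : Set H) < Subgroup.closure {a, b} :=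
      lt_of_le_of_ne (Subgroup.closure_mono (by intro x hx; rcases hx with rfl | rfl <;> simp))
        fun he => hb1 (by rw [he]; exact Subgroup.subset_closure (by simp))
    have hlt3 : Subgroup.closure ({a, b} : Set H) < D :=
      lt_of_le_of_ne (Subgroup.closure_le _ |>.2 fun x hx => by
        rcases hx with rfl | rfl <;> assumption) fun he => hab' he.ge
    have key : ∀ {K L : Subgroup H}, K < L → 2 * Nat.card K ≤ Nat.card L := fun {K L} hKL => by
      obtain ⟨i, hi⟩ := Subgroup.card_dvd_of_le hKL.le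
      rw [hi, mul_comm 2]
      refine Nat.mul_le_mul le_rfl ?_
      by_contra hlt
      interval_cases i
      · simp at hi
      · exact hKL.ne (Subgroup.eq_of_le_of_card_ge hKL.le (by omega))
    have := key hlt1
    have := key hlt2
    have := key hlt3
    have h1 : 0 < Nat.card (Subgroup.closure ({1, 1} : Set H)) := Nat.card_pos
    omega
  have hk : Nat.card B ≤ 4 := (AbelianRankCount.card_le_of_two hM hB hD hab ha hb hgen).trans hle
  rcases Nat.lt_or_ge (Nat.card B) 2 with h | h
  · have := CfsgLib.BlockB.blockRank_le_card (p := 2) (B := B)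
    omega
  · have := blockRank_lt_card hM hB h
    omega

variable {G : Type u} [Group G] [Fintype G] {M : Ideal AlgInt} [M.IsPrime]
  {B : Set (IrrCharacter G)} {P : Subgroup G}
  {c : Set (IrrCharacter (Subgroup.centralizer (P : Set G)))}
  (hM : IsPModular 2 M) (hmax : IsMaximalBrauerPair 2 M B P c)
  (hab : ∀ v ∈ P, ∀ w ∈ P, v * w = w * v)
include hM hmax hab

/-- Local blocks off the identity. -/
theorem rank_blk_le (h8 : Nat.card P = 8) {v : P} (hv : v ≠ 1) :
    blockRank 2 (blk hM hmax hab v.2) ≤ 3 := by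
  classical
  have : Fact (Nat.Prime 2) := ⟨Nat.prime_two⟩
  set C := Subgroup.centralizer ({(v : G)} : Set G)
  set z : C := ⟨v, Subgroup.mem_centralizer_singleton_iff.2 rfl⟩ with hz
  set Z : Subgroup C := Subgroup.zpowers z with hZ
  have hzc : Z ≤ Subgroup.center _ := Subgroup.zpowers_le.2 (Subgroup.mem_center_iff.2 fun w =>
    Subtype.ext (Subgroup.mem_centralizer_singleton_iff.1 w.2))
  have hzn : Z.Normal := ⟨fun a ha g => by
    rw [Subgroup.mem_center_iff.1 (hzc ha) g, mul_inv_cancel_right]; exact ha⟩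
  obtain ⟨i, hi⟩ := IsPGroup.iff_orderOf.1 hmax.1.1.1 v
  have hcard : Nat.card Z = 2 ^ i := by
    rw [hZ, Nat.card_zpowers, hz, Subgroup.orderOf_mk, Subgroup.orderOf_coe, hi]
  have hi1 : 1 ≤ i := by
    by_contra h
    rw [Nat.lt_one_iff.1 (not_le.1 h), pow_zero, orderOf_eq_one_iff] at hi
    exact hv hi
  have := Fintype.ofFinite C
  have := Fintype.ofFinite (C ⧸ Z)
  obtain ⟨f, hf, -, hrank, hdf, -⟩ := Dominated.exists_dominated hzc
    (IsPGroup.of_card hcard) hM (blk_spec hM hmax hab v.2).1.1
  rw [hrank]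
  refine rank_le_three hM hf ?_
  have hdB : blockDefect 2 B = 3 := by
    have h := natCard_defectGroup hM hmax.1.2.1 (maximal_core hM hmax).1
    rw [h8] at h
    exact (Nat.pow_right_injective le_rfl (h : 2 ^ 3 = 2 ^ blockDefect 2 B)).symm
  have hdv : blockDefect 2 (blk hM hmax hab v.2) = blockDefect 2 B :=
    (exists_blk hM hmax hab v.2).choose_spec.2.2
  rw [hcard, Nat.factorization_pow_self Nat.prime_two, hdv, hdB] at hdf
  omega

open Classical in
/-- **Not five.** -/
theorem natCard_ne_five (h8 : Nat.card P = 8) (hl : blockRank 2 B = 1) : Nat.card B ≠ 5 := by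
  classical
  set S := (FreeSignRows.act M P c).range with hS
  have hodd : Odd (Nat.card S) := by
    rw [hS, FreeSignRows.card_range_act, ← Nat.not_even_iff_odd, even_iff_two_dvd]
    exact Watanabe.not_dvd_relIndex hM hmax hab
  have horb : ∀ v : P, (orb M P c (v : G)).card = (MulAction.orbit S v).ncard := by
    intro v
    rw [← Set.ncard_coe_finset, ← Set.ncard_image_of_injective _ (Subtype.val_injective (p := (· ∈ P)))]
    congr 1
    ext w
    constructor
    · intro hw
      obtain ⟨t, ht, rfl⟩ := mem_orb.1 hw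
      exact ⟨FreeSignRows.act M P c ⟨t, ht⟩ v, (mem_orbit_iff S).2 ⟨_, ⟨⟨t, ht⟩, rfl⟩, rfl⟩, rfl⟩
    · rintro ⟨y, hy, rfl⟩
      exact (FreeSignRows.mem_orb_iff).2 ((mem_orbit_iff S).1 hy)
  set r : P → ℕ := fun v => blockRank 2 (blk hM hmax hab v.2) with hr
  have hrk : ∀ v, AbelianTrace.rk hM hmax hab v = (r v : ℂ) := fun v => rfl
  have hfix : ∀ v ∈ fixedSub S, r v = 1 ∧ (MulAction.orbit S v).ncard = 1 := by
    intro v hv
    refine ⟨?_, ?_⟩
    · obtain ⟨-, hin, -⟩ := Watanabe.blk_in hM hmax hab v.2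
      refine ((Watanabe.main 2 M hM _ G rfl B P c hmax hab v v.2 (fun t ht => ?_) _ hin).1).trans hl
      exact congrArg Subtype.val (hv _ ⟨⟨t, ht⟩, rfl⟩)
    · rw [Set.ncard_eq_one]
      refine ⟨v, Set.eq_singleton_iff_unique_mem.2 ⟨MulAction.mem_orbit_self v, fun w hw => ?_⟩⟩
      obtain ⟨φ, hφ, rfl⟩ := (mem_orbit_iff S).1 hw
      exact hv φ hφ
  have hsum := Watanabe.natCard_eq_sum hM hmax hab
  simp only [hrk, horb] at hsum
  rw [← Finset.sum_filter_add_sum_filter_not Finset.univ (fun v => v ∈ fixedSub S)] at hsum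
  rw [Finset.sum_congr rfl (g := fun _ => (1 : ℂ)) (fun v hv => by
    obtain ⟨h1, h2⟩ := hfix v (Finset.mem_filter.1 hv).2
    rw [h1, h2, Nat.cast_one, div_one]), Finset.sum_const, nsmul_eq_mul, mul_one] at hsum
  set F := Finset.univ.filter fun v : P => v ∈ fixedSub S with hF
  set N := Finset.univ.filter fun v : P => ¬ v ∈ fixedSub S with hN
  have hFc : F.card = Nat.card (fixedSub S) := by
    rw [hF, Nat.card_eq_fintype_card, Fintype.card_subtype]
  have hNc : F.card + N.card = 8 := by
    rw [hF, hN, Finset.card_filter_add_card_filter_not, Finset.card_univ,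
      ← Nat.card_eq_fintype_card, h8]
  intro h5
  rw [h5] at hsum
  have hdvd : Nat.card (fixedSub S) ∣ 2 ^ 3 := by
    rw [show 2 ^ 3 = Nat.card P by rw [h8]; rfl]
    exact Subgroup.card_subgroup_dvd_card _
  obtain ⟨i, hi, hfi⟩ := (Nat.dvd_prime_pow Nat.prime_two).1 hdvd
  interval_cases i
  · -- one fixed point
    simp only [Nat.reducePow, pow_zero, pow_one] at hfi
    have h7 : ∀ v ∈ N, ((r v : ℂ) / ((MulAction.orbit S v).ncard : ℂ)) = (r v : ℂ) / 7 :=
      fun v hv => by
        rw [orbit_seven hodd h8 hfi (Finset.mem_filter.1 hv).2]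
        norm_num
    rw [Finset.sum_congr rfl h7, ← Finset.sum_div, ← Nat.cast_sum, hFc, hfi] at hsum
    have hle : ∑ v ∈ N, r v ≤ N.card * 3 := by
      refine (Finset.sum_le_card_nsmul _ _ 3 fun v hv => ?_).trans (by simp)
      refine rank_blk_le hM hmax hab h8 fun h => (Finset.mem_filter.1 hv).2 ?_
      rw [h]
      exact one_mem _
    have h28 : ((∑ v ∈ N, r v : ℕ) : ℂ) = (28 : ℕ) := by
      push_cast at hsum ⊢
      linear_combination (-7 : ℂ) * hsum
    have h28' : ∑ v ∈ N, r v = 28 := by exact_mod_cast h28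
    omega
  · -- two fixed points, two free orbits
    simp only [Nat.reducePow, pow_zero, pow_one] at hfi
    have hfree : ∀ v ∈ N, r v = 1 := by
      intro v hv
      have hvF := (Finset.mem_filter.1 hv).2
      have := Fintype.ofFinite (Subgroup.centralizer ({(v : G)} : Set G))
      refine (FreeSignDatum.blk_shape hM hmax hab v.2 fun t ht htv => ?_).1
      -- an automorphism fixing `v` fixes four points
      set φ := FreeSignRows.act M P c ⟨t, ht⟩ with hφ
      have hφS : φ ∈ S := ⟨_, rfl⟩
      have hodd' : Odd (Nat.card (Subgroup.zpowers φ)) :=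
        hodd.of_dvd_nat (Subgroup.card_dvd_of_le (Subgroup.zpowers_le.2 hφS))
      have hle : fixedSub S ≤ fixedSub (Subgroup.zpowers φ) := fun w hw ψ hψ =>
        hw ψ (Subgroup.zpowers_le.2 hφS hψ)
      have hvφ : v ∈ fixedSub (Subgroup.zpowers φ) := fun ψ hψ => by
        have hfix' : φ ∈ MulAction.stabilizer (MulAut P) v := Subtype.ext htv
        exact MulAction.mem_stabilizer_iff.1 (Subgroup.zpowers_le.2 hfix' hψ)
      have hlt : fixedSub S < fixedSub (Subgroup.zpowers φ) :=
        lt_of_le_of_ne hle fun e => hvF (e ▸ hvφ)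
      have h2lt : 2 < Nat.card (fixedSub (Subgroup.zpowers φ)) := by
        refine lt_of_le_of_ne (hfi ▸ Subgroup.card_le_of_le hle) fun e => hlt.ne
          (Subgroup.eq_of_le_of_card_ge hle (by omega))
      have hd8 : Nat.card (fixedSub (Subgroup.zpowers φ)) ∣ 2 ^ 3 := by
        rw [show 2 ^ 3 = Nat.card P by rw [h8]; rfl]
        exact Subgroup.card_subgroup_dvd_card _
      obtain ⟨j, hj, hfj⟩ := (Nat.dvd_prime_pow Nat.prime_two).1 hd8
      have hne4 := fixed_ne_four hodd' h8
      replace hfj : Nat.card (fixedSub (Subgroup.zpowers φ)) = 8 := by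
        interval_cases j <;> simp only [Nat.reducePow, pow_zero, pow_one] at hfj <;> omega
      have htop : fixedSub (Subgroup.zpowers φ) = ⊤ := Subgroup.eq_top_of_card_eq _ (by rw [hfj, h8])
      rw [Subgroup.mem_centralizer_iff]
      intro w hw
      have hmem : (⟨w, hw⟩ : P) ∈ fixedSub (Subgroup.zpowers φ) := htop ▸ Subgroup.mem_top _
      have h := congrArg Subtype.val (hmem φ (Subgroup.mem_zpowers φ))
      rw [hφ, FreeSignRows.coe_act] at h
      exact (mul_inv_eq_iff_eq_mul.1 h).symm
    rw [Finset.sum_congr rfl (g := fun _ => (1 / 3 : ℂ)) (fun v hv => by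
      rw [hfree v hv, orbit_three hodd h8 hfi (Finset.mem_filter.1 hv).2]
      norm_num), Finset.sum_const, nsmul_eq_mul, hFc, hfi,
      show N.card = 6 by omega] at hsum
    norm_num at hsum
  · simp only [Nat.reducePow, pow_zero, pow_one] at hfi
    exact fixed_ne_four hodd h8 hfi
  · simp only [Nat.reducePow, pow_zero, pow_one] at hfi
    rw [hFc, hfi, Finset.card_eq_zero.1 (show N.card = 0 by omega), Finset.sum_empty] at hsum
    norm_num at hsum

end CfsgLib.BlockA.AbelianEight
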