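import Cfsg.Agent.Lib.BlockA.NormalBlock
import Cfsg.Agent.Lib.Block.MainTheorems
import Cfsg.Agent.Lib.Clifford.AbelianQuot
import Cfsg.Prelude.Def_BlockRank

/-! Blocks with abelian defect groups over stable blocks of normal subgroups of `p`-power index. -/

set_option autoImplicit false
set_option linter.unusedSectionVars false
set_option maxHeartbeats 1000000

namespace CfsgLib.BlockA

open Cfsg CfsgLib.Block MonoidAlgebra
open scoped ComplexConjugate

universe u

variable {G : Type u} [Group G] [Fintype G] {p : ℕ} {M : Ideal AlgInt} [M.IsPrime]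
  {N : Subgroup G} [hN : N.Normal] [Fintype N]

/-- The stable block of `N` determines the block above it. -/
theorem blockSum_of_covers (hM : IsPModular p M) (hidx : ∃ k : ℕ, N.index = p ^ k)
    {b : Set (IrrCharacter N)} (hb : IsPBlock M b) (hst : ∀ g : G, StabilizesBlock N b g)
    {B : Set (IrrCharacter G)} (hB : IsPBlock M B) {χ : IrrCharacter G} (hχ : χ ∈ B)
    {θ : IrrCharacter N} (hθ : θ ∈ b)
    (h : classInner (fun n : N => (χ : G → ℂ) n) (θ : N → ℂ) ≠ 0) :
    blockSum B = inclSub N (blockSum b) := by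
  obtain ⟨B', hB', hs⟩ := exists_block_covering hM (isBlockSupported_of_index hM hidx) hb (G := G)
  have h1 : χ ∈ B' := (mem_iff_constituent hM hs h).2 (subset_coverSet b hθ)
  rw [isPBlock_eq_of_mem hB hB' hχ h1, hs, coverSet_of_stable hb hst]

/-- For an element of an abelian defect group some element of its coset carries no zero. -/
theorem exists_coset_ne_zero (hM : IsPModular p M) {B : Set (IrrCharacter G)} (hB : IsPBlock M B)
    (hsupp : ∀ x, (blkIdem M B : MonoidAlgebra (kres M) G).coeff x ≠ 0 → x ∈ N)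
    {P : Subgroup G} (hP : IsDefectGroup p M B P) (hab : ∀ x ∈ P, ∀ y ∈ P, x * y = y * x)
    {u : G} (hu : u ∈ P) :
    ∃ y ∈ N, ∀ χ ∈ B, (χ : G → ℂ) (u * y) ≠ 0 := by
  obtain ⟨g, hg, S, hPS⟩ := hP
  obtain ⟨χ₀, hχ₀⟩ := isPBlock_nonempty hB
  refine ⟨g, hsupp g ((isDefectClass_iff hM hB hχ₀ g).1 hg).1, fun χ hχ h0 => ?_⟩
  subst hPS
  obtain ⟨x, hx, rfl⟩ := hu
  refine lam_classSumZ_mul_ne_zero hM hB hg S hx (fun w hw => Subtype.ext
    (hab _ ⟨x, hx, rfl⟩ _ ⟨w, hw, rfl⟩)) hχ ?_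
  rw [lam_classSumZ, centralChar_eq_div]
  change redC M (_ * (χ : G → ℂ) ((x : G) * g)) = 0
  rw [show (χ : G → ℂ) ((x : G) * g) = 0 from h0, mul_zero, redC_zero]

/-- If no nontrivial linear twist fixes `χ`, its restriction is irreducible. -/
theorem isIrrCharacter_restrict_of_free (hab : ∀ x y : G, x * y * x⁻¹ * y⁻¹ ∈ N) {χ : G → ℂ}
    (hχ : IsIrrCharacter G χ)
    (hfree : ∀ l : G ⧸ N →* ℂˣ, (fun g : G => (l (g : G ⧸ N) : ℂ) * χ g) = χ → l = 1) :
    IsIrrCharacter N (fun n : N => χ n) := by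
  classical
  have hcomm : ∀ a b : G ⧸ N, a * b = b * a := fun a b => by
    obtain ⟨x, rfl⟩ := QuotientGroup.mk'_surjective N a
    obtain ⟨y, rfl⟩ := QuotientGroup.mk'_surjective N b
    rw [← map_mul, ← map_mul]
    refine (QuotientGroup.eq).mpr ?_
    have := hab y⁻¹ x⁻¹
    convert this using 1
    group
  have hfin : Finite (G ⧸ N →* ℂˣ) := Nat.finite_of_card_ne_zero
    (by rw [CfsgLib.Char.natCard_linear]; exact Subgroup.index_ne_zero_of_finite)
  have := Fintype.ofFinite (G ⧸ N →* ℂˣ)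
  have hcard : Fintype.card (G ⧸ N →* ℂˣ) = N.index := by
    rw [← Nat.card_eq_fintype_card, CfsgLib.Char.natCard_linear,
      show commutator (G ⧸ N) = ⊥ by
        rw [commutator_def, Subgroup.commutator_eq_bot_iff_le_centralizer]
        exact fun a _ => Subgroup.mem_centralizer_iff.2 fun b _ => hcomm b a,
      Subgroup.index_bot]
    rfl
  have horth : ∀ g : G, ∑ l : G ⧸ N →* ℂˣ, (l (g : G ⧸ N) : ℂ) =
      if g ∈ N then (N.index : ℂ) else 0 := by
    intro g
    split_ifs with hg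
    · rw [(QuotientGroup.eq_one_iff g).2 hg]
      simp [hcard]
    · obtain ⟨l₀, hl₀⟩ := CfsgLib.Char.exists_linear_ne_one hcomm
        (fun h => hg ((QuotientGroup.eq_one_iff g).1 h))
      have h1 : (l₀ (g : G ⧸ N) : ℂ) * ∑ l : G ⧸ N →* ℂˣ, (l (g : G ⧸ N) : ℂ) =
          ∑ l : G ⧸ N →* ℂˣ, (l (g : G ⧸ N) : ℂ) := by
        rw [Finset.mul_sum]
        exact Fintype.sum_equiv (Equiv.mulLeft l₀) _ _ fun l => by simp
      by_contra h0
      exact hl₀ (Units.ext ((mul_eq_right₀ h0).1 h1))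
  have htw : ∀ l : G ⧸ N →* ℂˣ, ∑ g : G, (l (g : G ⧸ N) : ℂ) * χ g * conj (χ g) =
      if l = 1 then (Nat.card G : ℂ) else 0 := by
    intro l
    have h1 := CfsgLib.Char.irr_classInner
      (CfsgLib.Char.isIrrCharacter_mul_linear hχ (l.comp (QuotientGroup.mk' N))) hχ
    rw [CfsgLib.Char.classInner_def, inv_mul_eq_iff_eq_mul₀ CfsgLib.Char.natCard_ne_zero] at h1
    refine h1.trans ?_
    by_cases hl : l = 1
    · rw [if_pos hl, if_pos, mul_one]
      subst hl
      funext g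
      simp
    · have hne : (fun g : G => ((l.comp (QuotientGroup.mk' N)) g : ℂ) * χ g) ≠ χ := fun h => hl (hfree l h)
      rw [if_neg hl, if_neg hne, mul_zero]
  have h2 : (N.index : ℂ) * ∑ n : N, χ n * conj (χ n) = (Nat.card G : ℂ) := by
    calc (N.index : ℂ) * ∑ n : N, χ n * conj (χ n)
        = ∑ g : G, if g ∈ N then (N.index : ℂ) * (χ g * conj (χ g)) else 0 := by
          rw [← Finset.sum_filter, Finset.mul_sum]
          exact (Finset.sum_subtype (Finset.univ.filter (· ∈ N)) (by simp)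
            (fun g => (N.index : ℂ) * (χ g * conj (χ g)))).symm
      _ = ∑ g : G, (∑ l : G ⧸ N →* ℂˣ, (l (g : G ⧸ N) : ℂ)) * (χ g * conj (χ g)) := by
          simp only [horth, ite_mul, zero_mul]
      _ = ∑ l : G ⧸ N →* ℂˣ, ∑ g : G, (l (g : G ⧸ N) : ℂ) * χ g * conj (χ g) := by
          simp only [Finset.sum_mul, mul_assoc]
          exact Finset.sum_comm
      _ = _ := by simp [htw]
  refine CfsgLib.Clifford.isIrrCharacter_of_classInner_self
    (CfsgLib.Char.isCharacter_restrict (CfsgLib.Char.irr_isCharacter hχ) N) ?_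
  rw [CfsgLib.Char.classInner_def, inv_mul_eq_one₀ CfsgLib.Char.natCard_ne_zero]
  refine mul_left_cancel₀ (a := (N.index : ℂ))
    (by exact_mod_cast Subgroup.index_ne_zero_of_finite) ?_
  rw [h2, ← Nat.cast_mul, Subgroup.index_mul_card]

variable (hM : IsPModular p M) (hidx : ∃ k : ℕ, N.index = p ^ k) {b : Set (IrrCharacter N)}
  (hb : IsPBlock M b) (hst : ∀ g : G, StabilizesBlock N b g) {B : Set (IrrCharacter G)}
  (hB : IsPBlock M B) (hBb : blockSum B = inclSub N (blockSum b))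
  {P : Subgroup G} (hPD : IsDefectGroup p M B P) (hPab : ∀ x ∈ P, ∀ y ∈ P, x * y = y * x)
include hM hidx hb hst hB hBb hPD hPab

theorem sup_defect_eq_top : N ⊔ P = ⊤ := by
  obtain ⟨k, hk⟩ := hidx
  have h := (stable_defect hM hb hst hB hBb hPD).1
  have h2 : (N ⊔ P).index ∣ p ^ k := hk ▸ Subgroup.index_dvd_of_le le_sup_left
  obtain ⟨i, _, hi⟩ := (Nat.dvd_prime_pow hM.1).1 h2
  rw [← Subgroup.index_eq_one, hi]
  rcases Nat.eq_zero_or_pos i with rfl | hi0
  · rfl
  · exact absurd (hi ▸ dvd_pow_self p hi0.ne') h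

theorem commutator_mem_defect : ∀ x y : G, x * y * x⁻¹ * y⁻¹ ∈ N := by
  intro x y
  have hall : ∀ g : G, ∃ a ∈ P, (g : G ⧸ N) = (a : G ⧸ N) := by
    intro g
    obtain ⟨n, hn, a, ha, rfl⟩ := Subgroup.mem_sup_of_normal_left.1
      (show g ∈ N ⊔ P by rw [sup_defect_eq_top hM hidx hb hst hB hBb hPD hPab]; trivial)
    exact ⟨a, ha, by rw [QuotientGroup.mk_mul, (QuotientGroup.eq_one_iff n).2 hn, one_mul]⟩
  obtain ⟨a, ha, hxa⟩ := hall x
  obtain ⟨c, hc, hyc⟩ := hall y
  rw [← QuotientGroup.eq_one_iff]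
  simp only [QuotientGroup.mk_mul, QuotientGroup.mk_inv, hxa, hyc]
  rw [← QuotientGroup.mk_mul, hPab a ha c hc, QuotientGroup.mk_mul]
  group

theorem twist_free {χ : IrrCharacter G} (hχ : χ ∈ B) (l : G ⧸ N →* ℂˣ)
    (hl : (fun g : G => (l (g : G ⧸ N) : ℂ) * (χ : G → ℂ) g) = (χ : G → ℂ)) : l = 1 := by
  have hP : ∀ a ∈ P, l (a : G ⧸ N) = 1 := by
    intro a ha
    obtain ⟨y, hy, hne⟩ := exists_coset_ne_zero hM hB
      (fun x hx => isBlockSupported_of_index hM hidx B hB x hx) hPD hPab ha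
    have h := congr_fun hl (a * y)
    simp only [QuotientGroup.mk_mul, (QuotientGroup.eq_one_iff y).2 hy, mul_one] at h
    exact Units.ext ((mul_eq_right₀ (hne χ hχ)).1 h)
  refine MonoidHom.ext fun q => ?_
  obtain ⟨g, rfl⟩ := QuotientGroup.mk'_surjective N q
  obtain ⟨n, hn, a, ha, rfl⟩ := Subgroup.mem_sup_of_normal_left.1
    (show g ∈ N ⊔ P by rw [sup_defect_eq_top hM hidx hb hst hB hBb hPD hPab]; trivial)
  simp only [QuotientGroup.mk'_apply, QuotientGroup.mk_mul, (QuotientGroup.eq_one_iff n).2 hn,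
    one_mul, hP a ha, MonoidHom.one_apply]

theorem restrict_irr {χ : IrrCharacter G} (hχ : χ ∈ B) :
    IsIrrCharacter N (fun n : N => (χ : G → ℂ) n) :=
  isIrrCharacter_restrict_of_free (commutator_mem_defect hM hidx hb hst hB hBb hPD hPab) χ.2
    (twist_free hM hidx hb hst hB hBb hPD hPab hχ)

theorem exists_restrict_mem {χ : IrrCharacter G} (hχ : χ ∈ B) :
    ∃ θ ∈ b, ∀ n : N, (χ : G → ℂ) n = (θ : N → ℂ) n := by
  let θ : IrrCharacter N := ⟨_, restrict_irr hM hidx hb hst hB hBb hPD hPab hχ⟩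
  refine ⟨θ, ?_, fun n => rfl⟩
  have h := (mem_iff_constituent hM (c := b) (by rw [coverSet_of_stable hb hst, hBb])
    (χ := χ) (θ := θ) (by
      rw [show (fun n : N => (χ : G → ℂ) n) = (θ : N → ℂ) from rfl,
        CfsgLib.Char.irr_classInner θ.2 θ.2, if_pos rfl]; exact one_ne_zero)).1 hχ
  rwa [coverSet_of_stable hb hst] at h

theorem natCard_fibre {θ : IrrCharacter N} (hθ : θ ∈ b) :
    Nat.card {χ : IrrCharacter G // χ ∈ B ∧ ∀ n : N, (χ : G → ℂ) n = (θ : N → ℂ) n} = N.index := by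
  classical
  have hBc : blockSum B = inclSub N (blockSum (coverSet N b)) := by
    rw [coverSet_of_stable hb hst, hBb]
  obtain ⟨χ₀, h₀⟩ := exists_over_constituent (G := G) θ
  have hχ₀ : χ₀ ∈ B := (mem_iff_constituent hM hBc h₀).2 (subset_coverSet b hθ)
  have hres : ∀ n : N, (χ₀ : G → ℂ) n = (θ : N → ℂ) n := by
    obtain ⟨θ', -, h⟩ := exists_restrict_mem hM hidx hb hst hB hBb hPD hPab hχ₀
    rw [funext h, CfsgLib.Char.irr_classInner θ'.2 θ.2] at h₀
    intro n
    rw [h n]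
    by_cases he : (θ' : N → ℂ) = (θ : N → ℂ)
    · rw [he]
    · rw [if_neg he] at h₀; exact absurd rfl h₀
  have hab := commutator_mem_defect hM hidx hb hst hB hBb hPD hPab
  have hinv : ∀ g : G, CfsgLib.Clifford.conjFn g (θ : N → ℂ) = (θ : N → ℂ) := fun g => funext fun n => by
    rw [CfsgLib.Clifford.conjFn_apply, ← hres, ← hres]
    exact CfsgLib.Char.irr_isClassFunction χ₀.2 (n : G) g
  let tw : (G ⧸ N →* ℂˣ) → IrrCharacter G := fun l =>
    ⟨fun g => ((l.comp (QuotientGroup.mk' N)) g : ℂ) * (χ₀ : G → ℂ) g,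
      CfsgLib.Char.isIrrCharacter_mul_linear χ₀.2 _⟩
  have htw : ∀ l (n : N), (tw l : G → ℂ) n = (θ : N → ℂ) n := fun l n => by
    change ((l ((n : G) : G ⧸ N) : ℂˣ) : ℂ) * (χ₀ : G → ℂ) n = _
    rw [(QuotientGroup.eq_one_iff (n : G)).2 n.2, map_one, Units.val_one, one_mul, hres]
  have htwB : ∀ l, tw l ∈ B := fun l => (mem_iff_constituent hM hBc (θ := θ) (by
    rw [funext (htw l), CfsgLib.Char.irr_classInner θ.2 θ.2, if_pos rfl]; exact one_ne_zero)).2
      (subset_coverSet b hθ)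
  rw [← Nat.card_congr (Equiv.ofBijective (fun l : G ⧸ N →* ℂˣ =>
    (⟨tw l, htwB l, htw l⟩ : {χ : IrrCharacter G // χ ∈ B ∧ ∀ n : N, (χ : G → ℂ) n = (θ : N → ℂ) n}))
    ⟨fun l l' h => ?_, fun χ => ?_⟩), CfsgLib.Char.natCard_linear,
    show commutator (G ⧸ N) = ⊥ by
      rw [commutator_def, Subgroup.commutator_eq_bot_iff_le_centralizer]
      intro a _
      refine Subgroup.mem_centralizer_iff.2 fun c _ => ?_
      obtain ⟨x, rfl⟩ := QuotientGroup.mk'_surjective N a
      obtain ⟨y, rfl⟩ := QuotientGroup.mk'_surjective N c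
      rw [← map_mul, ← map_mul]
      refine (QuotientGroup.eq).mpr ?_
      have := hab x⁻¹ y⁻¹
      convert this using 1
      group,
    Subgroup.index_bot]
  · rfl
  · have h' := congr_arg (fun χ : {χ : IrrCharacter G // χ ∈ B ∧ ∀ n : N, (χ : G → ℂ) n = (θ : N → ℂ) n} =>
      ((χ.1 : IrrCharacter G) : G → ℂ)) h
    refine inv_mul_eq_one.1 (twist_free hM hidx hb hst hB hBb hPD hPab hχ₀ (l⁻¹ * l') ?_)
    funext g
    have hg := congr_fun h' g
    change ((l (g : G ⧸ N) : ℂˣ) : ℂ) * _ = ((l' (g : G ⧸ N) : ℂˣ) : ℂ) * _ at hg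
    rw [MonoidHom.mul_apply, MonoidHom.inv_apply, Units.val_mul, mul_assoc, ← hg, ← mul_assoc,
      Units.inv_mul, one_mul]
  · obtain ⟨lam, hlN, hlam⟩ := CfsgLib.Clifford.exists_twist_of_abelian_quot hab θ.2 hinv χ₀.2
      χ.1.2 (by rw [funext hres, CfsgLib.Char.irr_classInner θ.2 θ.2, if_pos rfl]; exact one_ne_zero)
      (by rw [funext χ.2.2, CfsgLib.Char.irr_classInner θ.2 θ.2, if_pos rfl]; exact one_ne_zero)
    exact ⟨QuotientGroup.lift N lam (fun n hn => hlN ⟨n, hn⟩), Subtype.ext (Subtype.ext (hlam ▸ rfl))⟩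

theorem natCard_block_index : Nat.card B = N.index * Nat.card b := by
  have := Fintype.ofFinite b
  have := Fintype.ofFinite (IrrCharacter G)
  have hex := fun χ : B => exists_restrict_mem hM hidx hb hst hB hBb hPD hPab χ.2
  choose f hf hfr using hex
  rw [← Nat.card_congr (Equiv.sigmaFiberEquiv (fun χ : B => (⟨f χ, hf χ⟩ : b))), Nat.card_sigma]
  rw [Finset.sum_congr rfl (g := fun _ => N.index) fun θ _ => ?_, Finset.sum_const, Finset.card_univ,
    Nat.card_eq_fintype_card, smul_eq_mul, mul_comm]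
  rw [← natCard_fibre hM hidx hb hst hB hBb hPD hPab θ.2]
  refine Nat.card_congr
    { toFun := fun χ => ⟨χ.1.1, χ.1.2, fun n => (hfr χ.1 n).trans (congr_fun (congrArg Subtype.val (congrArg Subtype.val χ.2)) n)⟩
      invFun := fun χ => ⟨⟨χ.1, χ.2.1⟩, Subtype.ext (Subtype.ext (funext fun n =>
        (hfr ⟨χ.1, χ.2.1⟩ n).symm.trans (χ.2.2 n)))⟩
      left_inv := fun χ => rfl
      right_inv := fun χ => rfl }

theorem blockRank_index : blockRank p B = blockRank p b := by
  classical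
  let L : (N → ℂ) →ₗ[ℂ] (G → ℂ) :=
    { toFun := fun f g => if hg : g ∈ N then f ⟨g, hg⟩ else 0
      map_add' := fun f f' => funext fun g => by by_cases hg : g ∈ N <;> simp [hg]
      map_smul' := fun c f => funext fun g => by by_cases hg : g ∈ N <;> simp [hg] }
  have hL : Function.Injective L := fun f f' h => funext fun n => by
    have := congr_fun h (n : G)
    simpa [L] using this
  have hpr : ∀ (χ : IrrCharacter G) (θ : IrrCharacter N),
      (∀ n : N, (χ : G → ℂ) n = (θ : N → ℂ) n) →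
        pRegularPart p (χ : G → ℂ) = L (pRegularPart p (θ : N → ℂ)) := by
    intro χ θ h
    funext g
    change _ = dite _ _ _
    by_cases hr : IsPRegular p g
    · have hg : g ∈ N := mem_of_regular_of_index hM hidx hr
      rw [dif_pos hg]
      have hr' : IsPRegular p (⟨g, hg⟩ : N) := by
        unfold IsPRegular at *
        rwa [← Subgroup.orderOf_coe]
      simp only [pRegularPart, hr, hr', if_true, ← h]
    · simp only [pRegularPart, hr, if_false]
      split_ifs with hg hr'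
      · refine absurd ?_ hr
        unfold IsPRegular at *
        rwa [← Subgroup.orderOf_coe] at hr'
      · rfl
      · rfl
  have himg : (fun χ : IrrCharacter G => pRegularPart p (χ : G → ℂ)) '' B =
      L '' ((fun θ : IrrCharacter N => pRegularPart p (θ : N → ℂ)) '' b) := by
    ext v
    constructor
    · rintro ⟨χ, hχ, rfl⟩
      obtain ⟨θ, hθ, h⟩ := exists_restrict_mem hM hidx hb hst hB hBb hPD hPab hχ
      exact ⟨_, ⟨θ, hθ, rfl⟩, (hpr χ θ h).symm⟩
    · rintro ⟨_, ⟨θ, hθ, rfl⟩, rfl⟩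
      have hne : 0 < Nat.card {χ : IrrCharacter G // χ ∈ B ∧ ∀ n : N, (χ : G → ℂ) n = (θ : N → ℂ) n} := by
        rw [natCard_fibre hM hidx hb hst hB hBb hPD hPab hθ]
        exact Nat.pos_of_ne_zero Subgroup.index_ne_zero_of_finite
      obtain ⟨⟨χ, hχ, h⟩⟩ := (Nat.card_pos_iff.1 hne).1
      exact ⟨χ, hχ, hpr χ θ h⟩
  unfold blockRank
  rw [himg, Submodule.span_image]
  exact (Submodule.equivMapOfInjective L hL _).finrank_eq.symm

end CfsgLib.BlockA
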