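import Cfsg.Agent.Lib.BlockA.FongReynolds
import Cfsg.Agent.Lib.BlockA.Glauberman

/-! Blocks over an invariant character of a normal `p'`-subgroup: the single block criterion and
the reduction of Glauberman's correspondence. -/

set_option autoImplicit false
set_option linter.unusedSectionVars false
set_option maxHeartbeats 1000000

namespace CfsgLib.BlockA

open Cfsg CfsgLib.Block MonoidAlgebra
open scoped ComplexConjugate

universe u

section Singleton

variable {H : Type u} [Group H] [Finite H] {p : ℕ} {M : Ideal AlgInt} [M.IsPrime]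

theorem isPBlock_singleton (hM : IsPModular p M) (hH : ¬ p ∣ Nat.card H) (θ : IrrCharacter H) :
    IsPBlock M ({θ} : Set (IrrCharacter H)) := by
  refine ⟨θ, Set.ext fun ψ => ⟨fun h => ?_, fun h => ?_⟩⟩
  · rw [Set.mem_singleton_iff.1 h]; exact mem_blockOf_self θ
  · exact mem_of_integral_blockSum (memLocalRing_blockCoeff_of_coprime hM hH _)
      (Set.mem_singleton θ) h

theorem blockCoeff_singleton (θ : IrrCharacter H) (x : H) :
    blockCoeff ({θ} : Set (IrrCharacter H)) x =
      (Nat.card H : ℂ)⁻¹ * ((θ : H → ℂ) 1 * conj ((θ : H → ℂ) x)) := by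
  rw [blockCoeff, finsum_mem_singleton]

theorem exists_blockCoeff_ne_zero (hM : IsPModular p M) {b : Set (IrrCharacter H)}
    (hb : IsPBlock M b) : ∃ x : H, redC M (blockCoeff b x) ≠ 0 := by
  classical
  by_contra hall
  push Not at hall
  obtain ⟨χ, hχ⟩ := isPBlock_nonempty hb
  have h := lam_blkIdem hM hb χ
  rw [if_pos hχ, show blkIdem M b = 0 from Subtype.ext (by
    ext x; rw [coeff_blkIdem, hall x]; simp), map_zero] at h
  exact zero_ne_one h

end Singleton

variable {G : Type u} [Group G] [Fintype G] {p : ℕ} {M : Ideal AlgInt} [M.IsPrime]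
  {K : Subgroup G} [hKn : K.Normal] [Fintype K]

/-- **Glauberman's correspondence read modulo `M`.** -/
theorem exists_glauberman_coeff [Fact p.Prime] (hM : IsPModular p M) (hKp : ¬ p ∣ Nat.card K)
    {R : Subgroup G} (hR : IsPGroup p R) (θ : IrrCharacter K)
    (hθ : ∀ r ∈ R, conjIrr K θ r = θ) {C : Subgroup G} (hC : C = Subgroup.centralizer (R : Set G))
    [Fintype (K.subgroupOf C)] :
    ∃ (β : IrrCharacter (K.subgroupOf C)) (a : kres M), a ≠ 0 ∧ ∀ x : K.subgroupOf C,
      redC M (blockCoeff ({θ} : Set (IrrCharacter K)) ⟨((x : C) : G), x.2⟩) =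
        a * redC M (blockCoeff ({β} : Set (IrrCharacter (K.subgroupOf C))) x) := by
  classical
  let _inst : MulDistribMulAction R K :=
    MulDistribMulAction.compHom K ((MulAut.conjNormal : G →* MulAut K).comp R.subtype)
  have hsmul : ∀ (r : R) (k : K), ((r • k : K) : G) = (r : G) * k * (r : G)⁻¹ := fun r k =>
    MulAut.conjNormal_apply (r : G) k
  let ι : K.subgroupOf C →* K :=
    { toFun := fun x => ⟨((x : C) : G), x.2⟩
      map_one' := rfl
      map_mul' := fun _ _ => rfl }
  have hι : Function.Injective ι := fun x y h =>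
    Subtype.ext (Subtype.ext (congrArg (fun k : K => (k : G)) h))
  have hrange : ∀ g : K, g ∈ ι.range ↔ ∀ r : R, r • g = g := by
    intro g
    constructor
    · rintro ⟨x, rfl⟩ r
      apply Subtype.ext
      rw [hsmul]
      have hx : ((x : C) : G) ∈ Subgroup.centralizer (R : Set G) := hC ▸ (x : C).2
      show (r : G) * ((x : C) : G) * (r : G)⁻¹ = ((x : C) : G)
      rw [Subgroup.mem_centralizer_iff.1 hx r r.2, mul_inv_cancel_right]
    · intro h
      have hg : (g : G) ∈ C := by
        rw [hC, Subgroup.mem_centralizer_iff]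
        intro r hr
        have := congrArg Subtype.val (h ⟨r, hr⟩)
        rw [hsmul] at this
        exact mul_inv_eq_iff_eq_mul.1 this
      exact ⟨⟨⟨(g : G), hg⟩, g.2⟩, rfl⟩
  have hinv : IsInv R (θ : K → ℂ) := by
    intro r k
    have := congrArg (fun φ : IrrCharacter K => (φ : K → ℂ) k) (hθ r r.2)
    simp only [conjIrr_apply] at this
    refine Eq.trans ?_ this
    exact congrArg (θ : K → ℂ) (Subtype.ext (hsmul r k))
  obtain ⟨hex, -, -, -⟩ := glauberman_pGroup ι hι hrange hR hKp
  obtain ⟨β, ⟨m, hm, hmp⟩, huniq⟩ := hex θ hinv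
  have := Fintype.ofFinite (IrrCharacter (K.subgroupOf C))
  have hcl : IsClassFunction (K.subgroupOf C) (fun x => (θ : K → ℂ) (ι x)) :=
    CfsgLib.Char.isCharacter_isClassFunction
      (CfsgLib.Char.isCharacter_comp (CfsgLib.Char.irr_isCharacter θ.2) ι)
  have hcong : ∀ x : K.subgroupOf C,
      redC M (conj ((θ : K → ℂ) (ι x))) =
        redC M (m : ℂ) * redC M (conj ((β : K.subgroupOf C → ℂ) x)) := by
    intro x
    have hid : MemLocalIdeal M (conj ((θ : K → ℂ) (ι x)) -
        (m : ℂ) * conj ((β : K.subgroupOf C → ℂ) x)) := by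
      rw [CfsgLib.Char.classFunction_apply_eq_sum hcl x, map_sum,
        ← Finset.add_sum_erase _ _ (Finset.mem_univ β), hm, map_mul, Complex.conj_natCast,
        add_sub_cancel_left]
      refine memLocalIdeal_sum _ _ fun β' hβ' => ?_
      obtain ⟨v, hv⟩ := CfsgLib.Char.classInner_isCharacter_nat
        (CfsgLib.Char.isCharacter_comp (CfsgLib.Char.irr_isCharacter θ.2) ι)
        (CfsgLib.Char.irr_isCharacter β'.2)
      have hpv : p ∣ v := by
        by_contra hnd
        exact (Finset.mem_erase.1 hβ').1 (huniq β' ⟨v, hv, hnd⟩)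
      rw [show classInner (fun x => (θ : K → ℂ) (ι x)) (β' : K.subgroupOf C → ℂ) = (v : ℂ) from hv,
        map_mul, Complex.conj_natCast, irr_conj_eq β'.2]
      exact memLocalIdeal_mul_right (memLocalRing_irr_apply β' _)
        ((memLocalIdeal_natCast_iff hM v).2 hpv)
    rw [← redC_mul (memLocalRing_natCast m) (by
      rw [irr_conj_eq β.2]; exact memLocalRing_irr_apply β _)]
    exact (redC_eq_iff (by rw [irr_conj_eq θ.2]; exact memLocalRing_irr_apply θ _)
      (memLocalRing_mul (memLocalRing_natCast m) (by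
        rw [irr_conj_eq β.2]; exact memLocalRing_irr_apply β _))).2 hid
  have hKC : ¬ p ∣ Nat.card (K.subgroupOf C) := not_dvd_card_fixed ι hι hrange hR hKp
  have hθR : MemLocalRing M ((Nat.card K : ℂ)⁻¹ * (θ : K → ℂ) 1) :=
    memLocalRing_mul (memLocalRing_inv_natCast hM hKp) (memLocalRing_irr_apply θ _)
  have hβR : MemLocalRing M ((Nat.card (K.subgroupOf C) : ℂ)⁻¹ * (β : K.subgroupOf C → ℂ) 1) :=
    memLocalRing_mul (memLocalRing_inv_natCast hM hKC) (memLocalRing_irr_apply β _)
  have hθcoef : ∀ y : K, redC M (blockCoeff ({θ} : Set (IrrCharacter K)) y) =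
      redC M ((Nat.card K : ℂ)⁻¹ * (θ : K → ℂ) 1) * redC M (conj ((θ : K → ℂ) y)) := fun y => by
    rw [blockCoeff_singleton, ← mul_assoc]
    exact redC_mul hθR (by rw [irr_conj_eq θ.2]; exact memLocalRing_irr_apply θ _)
  have hβcoef : ∀ y : K.subgroupOf C,
      redC M (blockCoeff ({β} : Set (IrrCharacter (K.subgroupOf C))) y) =
      redC M ((Nat.card (K.subgroupOf C) : ℂ)⁻¹ * (β : K.subgroupOf C → ℂ) 1) *
        redC M (conj ((β : K.subgroupOf C → ℂ) y)) := fun y => by
    rw [blockCoeff_singleton, ← mul_assoc]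
    exact redC_mul hβR (by rw [irr_conj_eq β.2]; exact memLocalRing_irr_apply β _)
  set t := redC M ((Nat.card K : ℂ)⁻¹ * (θ : K → ℂ) 1) with ht
  set s := redC M ((Nat.card (K.subgroupOf C) : ℂ)⁻¹ * (β : K.subgroupOf C → ℂ) 1) with hs
  have ht0 : t ≠ 0 := by
    obtain ⟨y, hy⟩ := exists_blockCoeff_ne_zero hM (isPBlock_singleton hM hKp θ)
    rw [hθcoef y] at hy
    exact left_ne_zero_of_mul hy
  have hs0 : s ≠ 0 := by
    obtain ⟨y, hy⟩ := exists_blockCoeff_ne_zero hM (isPBlock_singleton hM hKC β)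
    rw [hβcoef y] at hy
    exact left_ne_zero_of_mul hy
  have hm0 : redC M (m : ℂ) ≠ 0 := by
    rw [Ne, redC_eq_zero_iff (memLocalRing_natCast m), memLocalIdeal_natCast_iff hM]
    exact hmp
  refine ⟨β, t * redC M (m : ℂ) * s⁻¹, mul_ne_zero (mul_ne_zero ht0 hm0) (inv_ne_zero hs0),
    fun x => ?_⟩
  rw [hθcoef, hβcoef, show (⟨((x : C) : G), x.2⟩ : K) = ι x from rfl, hcong]
  field_simp

section Criterion

variable {L : Subgroup G} [hLn : L.Normal] [Fintype L] (hM : IsPModular p M) (hKL : K ≤ L)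
  (hKp : ¬ p ∣ Nat.card K) (hidx : ∃ k : ℕ, K.relIndex L = p ^ k) (β : IrrCharacter K)
  (hinv : ∀ g : G, conjIrr K β g = β)
include hM hKp hinv

/-- A block over an invariant character lies under its idempotent. -/
theorem blkIdem_mul_sIdem_invariant {χ : IrrCharacter G}
    (hχ : classInner (fun k : K => (χ : G → ℂ) k) (β : K → ℂ) ≠ 0) :
    (blkIdem M (blockOf M (χ : G → ℂ)) : MonoidAlgebra (kres M) G) *
      sIdem M K ({β} : Set (IrrCharacter K)) =
      (blkIdem M (blockOf M (χ : G → ℂ)) : MonoidAlgebra (kres M) G) := by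
  classical
  have hb := isPBlock_singleton hM hKp β
  have hT : ∀ g : G, g ∈ (⊤ : Subgroup G) ↔
      ∀ θ ∈ ({β} : Set (IrrCharacter K)), conjIrr K θ g ∈ ({β} : Set (IrrCharacter K)) :=
    fun g => ⟨fun _ θ hθ => by rw [Set.mem_singleton_iff.1 hθ, hinv]; rfl, fun _ => trivial⟩
  have h := blkIdem_mul_orbitIdem hM hb (isPBlock_blockOf χ) (mem_blockOf_self χ)
    (Set.mem_singleton β) hχ
  have e : orbitIdem M K ({β} : Set (IrrCharacter K)) = sIdem M K ({β} : Set (IrrCharacter K)) := by
    have := Fintype.ofFinite (⊤ : Subgroup G)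
    rw [orbitIdem]
    refine Finset.sum_eq_single_of_mem _ (Finset.mem_image.2 ⟨1, Finset.mem_univ _, conjGA_one _⟩)
      fun t ht hne => absurd ?_ hne
    obtain ⟨x, -, rfl⟩ := Finset.mem_image.1 ht
    exact conjGA_sIdem_stab (T := (⊤ : Subgroup G)) hM hb hT trivial
  rwa [e] at h

variable {Q : Subgroup G} (hQ : IsPGroup p Q) (hQL : Q ≤ L)
  (hbr : ∃ x : K, (x : G) ∈ Subgroup.centralizer (Q : Set G) ∧
    redC M (blockCoeff ({β} : Set (IrrCharacter K)) x) ≠ 0)
  (hreg : ∀ x ∈ Subgroup.centralizer (Q : Set G), ¬ p ∣ orderOf x → x ∈ L)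
include hKL hidx hQ hQL hbr hreg

/-- **One block over an invariant character.** -/
theorem sameBlock_of_core {χ χ' : IrrCharacter G}
    (hχ : classInner (fun k : K => (χ : G → ℂ) k) (β : K → ℂ) ≠ 0)
    (hχ' : classInner (fun k : K => (χ' : G → ℂ) k) (β : K → ℂ) ≠ 0) :
    SameBlock M (χ : G → ℂ) (χ' : G → ℂ) := by
  classical
  have := Fintype.ofFinite (K.subgroupOf L)
  have hK'n : (K.subgroupOf L).Normal := Subgroup.Normal.subgroupOf hKn L
  set e := Subgroup.subgroupOfEquivOfLe hKL with he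
  set β' : IrrCharacter (K.subgroupOf L) := irrMap e β with hβ'
  have hKp' : ¬ p ∣ Nat.card (K.subgroupOf L) := by
    rwa [Nat.card_congr e.toEquiv]
  have hb' := isPBlock_singleton hM hKp' β'
  obtain ⟨bL, hbL, hsum⟩ := exists_block_covering hM (N := K.subgroupOf L)
    (isBlockSupported_of_index hM hidx) hb' (G := L)
  have hcv : coverSet (K.subgroupOf L) ({β'} : Set (IrrCharacter (K.subgroupOf L))) = {β'} := by
    refine Set.Subset.antisymm (fun η hη => ?_) (subset_coverSet _)
    obtain ⟨g, hg⟩ := hη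
    have h1 : η = conjIrr (K.subgroupOf L) β' g⁻¹ := by
      rw [← Set.mem_singleton_iff.1 hg, conjIrr_conjIrr, mul_inv_cancel, conjIrr_one]
    rw [Set.mem_singleton_iff, h1]
    refine Subtype.ext (funext fun m => ?_)
    have := congrArg (fun φ : IrrCharacter K => (φ : K → ℂ) (e m)) (hinv ((g⁻¹ : L) : G))
    exact this
  rw [hcv] at hsum
  have heq : sIdem M L bL = sIdem M K ({β} : Set (IrrCharacter K)) := by
    ext x
    by_cases hx : x ∈ L
    · rw [show x = ((⟨x, hx⟩ : L) : G) from rfl]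
      conv_lhs => rw [sIdem, coeff_inclSub_of_mem, coeff_blkIdem,
        show blockCoeff bL ⟨x, hx⟩ = (blockSum bL).coeff ⟨x, hx⟩ by simp [blockSum], hsum]
      by_cases hxK : x ∈ K
      · rw [show (⟨x, hx⟩ : L) = ((⟨⟨x, hx⟩, hxK⟩ : K.subgroupOf L) : L) from rfl,
          coeff_inclSub_of_mem, show (((⟨⟨x, hx⟩, hxK⟩ : K.subgroupOf L) : L) : G) =
            ((⟨x, hxK⟩ : K) : G) from rfl, sIdem, coeff_inclSub_of_mem, coeff_blkIdem]
        simp only [blockSum, coeff_mkGA]
        rw [show ({β'} : Set (IrrCharacter (K.subgroupOf L))) = blockMap e {β} by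
          simp [blockMap, hβ'], blockCoeff_blockMap]
        rfl
      · rw [coeff_inclSub_of_not_mem _ _ (show (⟨x, hx⟩ : L) ∉ K.subgroupOf L from hxK), redC_zero]
        exact (coeff_sIdem_of_not_mem _ hxK).symm
    · rw [coeff_sIdem_of_not_mem _ hx, coeff_sIdem_of_not_mem _ fun h => hx (hKL h)]
  obtain ⟨x₀, hx₀, hx₀'⟩ := hbr
  have hbrL : ∃ x : L, (x : G) ∈ Subgroup.centralizer (Q : Set G) ∧
      (blkIdem M bL : MonoidAlgebra (kres M) L).coeff x ≠ 0 := by
    refine ⟨⟨(x₀ : G), hKL x₀.2⟩, hx₀, ?_⟩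
    rw [← coeff_inclSub_of_mem L, ← sIdem, heq]
    show (sIdem M K ({β} : Set (IrrCharacter K))).coeff (x₀ : G) ≠ 0
    rw [sIdem, coeff_inclSub_of_mem, coeff_blkIdem]
    exact hx₀'
  obtain ⟨ψ₀, hψ₀⟩ := isPBlock_nonempty hbL
  let w : IrrCharacter G → MonoidAlgebra (kres M) G := fun φ =>
    (blkIdem M (blockOf M (φ : G → ℂ)) : MonoidAlgebra (kres M) G)
  have hwinv : ∀ (φ : IrrCharacter G) (X : Subgroup G), IsPInv X (w φ) := fun φ X =>
    isPInv_of_isClassCoeff (isClassCoeff_center _) X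
  let z : IrrCharacter G → Subalgebra.center (kres M) (MonoidAlgebra (kres M) L) := fun φ =>
    resZ L (blkIdem M (blockOf M (φ : G → ℂ)))
  have hres : ∀ φ : IrrCharacter G, resSub (Subgroup.centralizer (Q : Set G)) (w φ) =
      resSub (Subgroup.centralizer (Q : Set G))
        (inclSub L (z φ : MonoidAlgebra (kres M) L)) := by
    intro φ
    ext c
    rw [coeff_resSub, coeff_resSub]
    by_cases hc : (c : G) ∈ L
    · rw [show (c : G) = ((⟨c, hc⟩ : L) : G) from rfl, coeff_inclSub_of_mem]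
      show _ = (resSub L (w φ)).coeff _
      rw [coeff_resSub]
    · rw [coeff_inclSub_of_not_mem _ _ hc]
      by_contra hne
      exact hc (hreg _ c.2 fun hd => hne (blkIdem_coeff_eq_zero_of_singular hM
        (isPBlock_blockOf φ) hd))
  have hzinv : ∀ φ : IrrCharacter G, IsPInv Q (inclSub L (z φ : MonoidAlgebra (kres M) L)) :=
    fun φ u hu g => inclSub_conj_invariant L (isClassCoeff_center (z φ)) (hQL hu) g
  have hsupp : ∀ x ∉ L, (sIdem M L bL).coeff x = 0 := fun x hx => coeff_sIdem_of_not_mem _ hx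
  have hze : ∀ φ : IrrCharacter G,
      classInner (fun k : K => (φ : G → ℂ) k) (β : K → ℂ) ≠ 0 →
        z φ * blkIdem M bL = z φ := by
    intro φ hφ
    apply Subtype.ext
    rw [MulMemClass.coe_mul]
    show resSub L (w φ) * _ = resSub L (w φ)
    rw [← resSub_inclSub L (blkIdem M bL : MonoidAlgebra (kres M) L), ← sIdem,
      ← resSub_mul_of_supported L _ hsupp, heq]
    exact congrArg _ (blkIdem_mul_sIdem_invariant hM hKp β hinv hφ)
  have hne : ∀ φ : IrrCharacter G,
      classInner (fun k : K => (φ : G → ℂ) k) (β : K → ℂ) ≠ 0 → lam M ψ₀ (z φ) ≠ 0 := by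
    intro φ hφ h0
    have hnil : IsNilpotent (z φ) := by
      refine isNilpotent_of_lam_eq_zero hM fun ψ => ?_
      rw [← hze φ hφ, map_mul, lam_blkIdem hM hbL]
      split_ifs with hψ
      · rw [lam_eq_of_sameBlock (sameBlock_of_mem hbL hψ hψ₀), h0, zero_mul]
      · rw [mul_zero]
    obtain ⟨n, hn⟩ := hnil
    have hw1 : w φ * w φ = w φ := by
      exact Eq.trans (MulMemClass.coe_mul (S' := Subalgebra.center (kres M) (MonoidAlgebra (kres M) G)) _ _).symm
        (congrArg Subtype.val (blkIdem_idem hM (isPBlock_blockOf φ)))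
    have hw0 : w φ ≠ 0 := by
      intro h
      have h1 := lam_blkIdem hM (isPBlock_blockOf φ) φ
      rw [if_pos (mem_blockOf_self φ), show blkIdem M (blockOf M (φ : G → ℂ)) = 0 from
        Subtype.ext h, map_zero] at h1
      exact zero_ne_one h1
    obtain ⟨x, hx, hxne⟩ := exists_coeff_of_mul_ne_zero hM hbL hQL hQ hbrL (hwinv φ L) hw1
      (by rw [heq]; exact blkIdem_mul_sIdem_invariant hM hKp β hinv hφ) hw0
    apply hxne
    have hpow : ∀ j : ℕ, resSub (Subgroup.centralizer (Q : Set G)) (w φ) =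
        resSub (Subgroup.centralizer (Q : Set G))
          (inclSub L ((z φ : MonoidAlgebra (kres M) L) ^ (j + 1))) := by
      intro j
      induction j with
      | zero => rw [pow_one]; exact hres φ
      | succ j ih =>
        have hpinv : IsPInv Q (inclSub L ((z φ : MonoidAlgebra (kres M) L) ^ (j + 1))) :=
          fun u hu g => inclSub_conj_invariant L
            (isClassCoeff_iff_mem_center.2 (pow_mem (z φ).2 _)) (hQL hu) g
        conv_lhs => rw [← hw1, resSub_mul hM hQ (hwinv φ Q) (hwinv φ Q)]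
        rw [pow_succ _ (j + 1), map_mul, resSub_mul hM hQ hpinv (hzinv φ), ← ih, ← hres]
    have hn' : (z φ : MonoidAlgebra (kres M) L) ^ (n + 1) = 0 := by
      rw [pow_succ, ← SubmonoidClass.coe_pow, hn]
      simp
    have h2 := congrArg (fun a : MonoidAlgebra (kres M) (Subgroup.centralizer (Q : Set G)) =>
      a.coeff ⟨x, hx⟩) (hpow n)
    simpa [hn'] using h2
  by_contra hno
  have hB : blockOf M (χ : G → ℂ) ≠ blockOf M (χ' : G → ℂ) := fun h => hno (sameBlock_of_mem
    (isPBlock_blockOf χ) (mem_blockOf_self χ) (h ▸ mem_blockOf_self χ'))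
  have hse : z χ * z χ' * blkIdem M bL = z χ * z χ' := by rw [mul_assoc, hze χ' hχ']
  have hzero : lam M ψ₀ (z χ * z χ') = 0 := by
    refine lam_eq_zero_of_brauer hM hbL hQL hQ hbrL hse (fun x hx => ?_) ψ₀
    have h1 : resSub (Subgroup.centralizer (Q : Set G))
        (inclSub L ((z χ * z χ' : Subalgebra.center (kres M) (MonoidAlgebra (kres M) L)) :
          MonoidAlgebra (kres M) L)) = 0 := by
      rw [MulMemClass.coe_mul, map_mul, resSub_mul hM hQ (hzinv χ) (hzinv χ'), ← hres, ← hres,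
        ← resSub_mul hM hQ (hwinv χ Q) (hwinv χ' Q)]
      have hww : w χ * w χ' = 0 := Eq.trans (MulMemClass.coe_mul (S' := Subalgebra.center (kres M) (MonoidAlgebra (kres M) G)) _ _).symm
        (congrArg Subtype.val (blkIdem_mul_ne hM (isPBlock_blockOf χ) (isPBlock_blockOf χ') hB))
      rw [hww]
      ext c
      simp
    have h2 := congrArg (fun a : MonoidAlgebra (kres M) (Subgroup.centralizer (Q : Set G)) =>
      a.coeff ⟨(x : G), hx⟩) h1
    rw [coeff_resSub, coeff_inclSub_of_mem] at h2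
    simpa using h2
  rw [map_mul] at hzero
  exact mul_ne_zero (hne χ hχ) (hne χ' hχ') hzero

end Criterion

end CfsgLib.BlockA
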