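import Cfsg.Agent.Lib.BlockA.CoverSub
import Cfsg.Agent.Lib.BlockA.SubsectionCount
import Cfsg.Agent.Lib.Clifford.Correspondence

/-! Characters of the stabiliser of a block of a normal subgroup lying over that block, and their
induced characters. -/

set_option autoImplicit false
set_option linter.unusedSectionVars false
set_option maxHeartbeats 1000000

namespace CfsgLib.BlockA

open Cfsg CfsgLib.Block MonoidAlgebra
open scoped ComplexConjugate

universe u

variable {G : Type u} [Group G] [Fintype G] {p : ℕ} {M : Ideal AlgInt} [M.IsPrime]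
  {N : Subgroup G} [hN : N.Normal] [Fintype N] {T : Subgroup G} [Fintype T] (hNT : N ≤ T)
  {b : Set (IrrCharacter N)}

/-- Restriction from `T` to `N`. -/
def resN (f : T → ℂ) : N → ℂ := fun n => f ⟨(n : G), hNT n.2⟩

/-- A function on `T` has a constituent in `b`. -/
def OverBlock (b : Set (IrrCharacter N)) (f : T → ℂ) : Prop :=
  ∃ θ ∈ b, classInner (resN hNT f) (θ : N → ℂ) ≠ 0

theorem classInner_subgroupOf [Fintype (N.subgroupOf T)] (f : T → ℂ) (η : IrrCharacter N) :
    classInner (fun m : N.subgroupOf T => f m)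
      (irrMap (Subgroup.subgroupOfEquivOfLe hNT) η : N.subgroupOf T → ℂ) =
      classInner (resN hNT f) (η : N → ℂ) := by
  rw [CfsgLib.Char.classInner_def, CfsgLib.Char.classInner_def,
    Nat.card_congr (Subgroup.subgroupOfEquivOfLe hNT).toEquiv]
  congr 1
  exact Fintype.sum_equiv (Subgroup.subgroupOfEquivOfLe hNT).toEquiv _ _ fun m => rfl

theorem irrMap_mem_blockMap_iff {H K : Type u} [Group H] [Finite H] [Group K] [Finite K]
    (φ : H ≃* K) (B : Set (IrrCharacter K)) (χ : IrrCharacter K) :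
    irrMap φ χ ∈ blockMap φ B ↔ χ ∈ B := by
  rw [mem_blockMap_iff, irrMap_symm_irrMap]

/-- The class of `g` meets `T` in the summands of the induced character. -/
theorem centralChar_indFun (ψ : IrrCharacter T) (g : G) :
    centralChar (indFun T (ψ : T → ℂ)) g = inducedCentralChar T (ψ : T → ℂ) g := by
  classical
  have hsum : ∑ x : G, extendByZero T (ψ : T → ℂ) (x⁻¹ * g * x) =
      (Nat.card (Subgroup.centralizer ({g} : Set G)) : ℂ) *
        ∑ h : T, if IsConj g (h : G) then (ψ : T → ℂ) h else 0 := by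
    calc ∑ x : G, extendByZero T (ψ : T → ℂ) (x⁻¹ * g * x)
        = ∑ x : G, ∑ h : T, if x⁻¹ * g * x = (h : G) then (ψ : T → ℂ) h else 0 := by
          refine Finset.sum_congr rfl fun x _ => ?_
          by_cases hx : x⁻¹ * g * x ∈ T
          · rw [CfsgLib.Char.extendByZero_of_mem _ hx,
              Finset.sum_eq_single (⟨x⁻¹ * g * x, hx⟩ : T)]
            · rw [if_pos rfl]
            · exact fun h _ hne => if_neg fun e => hne (Subtype.ext e.symm)
            · exact fun h => absurd (Finset.mem_univ _) h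
          · rw [CfsgLib.Char.extendByZero_of_not_mem _ hx]
            exact (Finset.sum_eq_zero fun h _ => if_neg fun e => hx (by rw [e]; exact h.2)).symm
      _ = _ := by
          rw [Finset.sum_comm, Finset.mul_sum]
          refine Finset.sum_congr rfl fun h _ => ?_
          by_cases hc : IsConj g (h : G)
          · rw [if_pos hc, ← Finset.sum_filter, Finset.sum_const, nsmul_eq_mul,
              ← natCard_conjugators hc]
            congr 2
            refine Finset.card_bij (fun x _ => x⁻¹) ?_ ?_ ?_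
            · intro x hx
              simpa using hx
            · exact fun a _ c _ e => inv_injective e
            · intro a ha
              exact ⟨a⁻¹, by simpa using ha, inv_inv a⟩
          · rw [if_neg hc, mul_zero]
            exact Finset.sum_eq_zero fun x _ =>
              if_neg fun e => hc (isConj_iff.2 ⟨x⁻¹, by simpa using e⟩)
  have hidx := Subgroup.index_mul_card (Subgroup.centralizer ({g} : Set G))
  have hidT := Subgroup.index_mul_card T
  have hT0 : (Nat.card T : ℂ) ≠ 0 := by exact_mod_cast Nat.card_pos.ne'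
  have hI0 : (T.index : ℂ) ≠ 0 := by exact_mod_cast Subgroup.index_ne_zero_of_finite
  have h1 := CfsgLib.Char.irr_apply_one_ne_zero ψ.2
  have hG : ((Subgroup.centralizer ({g} : Set G)).index : ℂ) *
      (Nat.card (Subgroup.centralizer ({g} : Set G)) : ℂ) =
        (T.index : ℂ) * (Nat.card T : ℂ) := by
    exact_mod_cast hidx.trans hidT.symm
  rw [centralChar, CfsgLib.Char.indFun_apply_one, CfsgLib.Char.indFun_def, hsum,
    inducedCentralChar, finsum_mem_def, finsum_eq_sum_of_fintype]
  have hR : ∑ h : T, Set.indicator {h : T | IsConj g (h : G)}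
      (fun h : T => (ψ : T → ℂ) h / (ψ : T → ℂ) 1) h =
      (∑ h : T, if IsConj g (h : G) then (ψ : T → ℂ) h else 0) / (ψ : T → ℂ) 1 := by
    rw [Finset.sum_div]
    refine Finset.sum_congr rfl fun h _ => ?_
    rw [Set.indicator_apply]
    simp only [Set.mem_setOf_eq]
    split <;> simp
  rw [hR]
  generalize (∑ h : T, if IsConj g (h : G) then (ψ : T → ℂ) h else 0) = S
  field_simp
  linear_combination S * hG

section Stab

variable (hb : IsPBlock M b) (hT : ∀ g : G, g ∈ T ↔ ∀ θ ∈ b, conjIrr N θ g ∈ b)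
include hb hT

omit hb in
theorem conjIrr_mem {θ : IrrCharacter N} (hθ : θ ∈ b) {x : G} (hx : x ∈ T) :
    conjIrr N θ x ∈ b := (hT x).1 hx θ hθ

theorem mem_of_conjIrr_mem {θ : IrrCharacter N} (hθ : θ ∈ b) {x : G}
    (hx : conjIrr N θ x ∈ b) : x ∈ T :=
  (hT x).2 fun _ h => mem_of_sameBlock hb hx (sameBlock_conjIrr (sameBlock_of_mem hb hθ h) x)

omit hb in
include hNT in
theorem blockMap_invariant : ∀ θ ∈ blockMap (Subgroup.subgroupOfEquivOfLe hNT) b,
    ∀ t : T, conjIrr (N.subgroupOf T) θ t ∈ blockMap (Subgroup.subgroupOfEquivOfLe hNT) b := by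
  rintro _ ⟨η, hη, rfl⟩ t
  refine ⟨conjIrr N η (t : G), conjIrr_mem hT hη t.2, Subtype.ext (funext fun m => ?_)⟩
  rfl

theorem mem_of_over [Fintype (N.subgroupOf T)] {ψ : IrrCharacter T}
    (h : OverBlock hNT b (ψ : T → ℂ))
    {η : IrrCharacter N} (hη : classInner (resN hNT (ψ : T → ℂ)) (η : N → ℂ) ≠ 0) : η ∈ b := by
  obtain ⟨θ, hθ, hne⟩ := h
  have h1 := mem_iff_mem_of_constituent (blockMap_invariant hNT hT) (χ := ψ)
    (θ := irrMap (Subgroup.subgroupOfEquivOfLe hNT) θ)
    (θ' := irrMap (Subgroup.subgroupOfEquivOfLe hNT) η)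
    (by rwa [classInner_subgroupOf hNT]) (by rwa [classInner_subgroupOf hNT])
  rwa [irrMap_mem_blockMap_iff, irrMap_mem_blockMap_iff, iff_true_left hθ] at h1

theorem over_of_sameBlock (hM : IsPModular p M) {ψ ψ' : IrrCharacter T}
    (h : OverBlock hNT b (ψ : T → ℂ)) (hs : SameBlock M (ψ : T → ℂ) (ψ' : T → ℂ)) :
    OverBlock hNT b (ψ' : T → ℂ) := by
  have := Fintype.ofFinite (N.subgroupOf T)
  obtain ⟨θ, hθ, hne⟩ := h
  obtain ⟨θ', hθ'⟩ := exists_constituent_res (N := N.subgroupOf T) ψ'
  have h1 := (mem_iff_mem_of_sameBlock (blockMap_invariant hNT hT)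
    (fun n => blockCoeff_memLocalRing hM (isPBlock_blockMap _ hb) n) hs
    (θ := irrMap (Subgroup.subgroupOfEquivOfLe hNT) θ)
    (by rwa [classInner_subgroupOf hNT]) hθ').1 ((irrMap_mem_blockMap_iff _ _ _).2 hθ)
  obtain ⟨η, hη, rfl⟩ := h1
  exact ⟨η, hη, by rwa [classInner_subgroupOf hNT] at hθ'⟩

theorem classInner_indFun_stab {ψ : IrrCharacter T} (h : OverBlock hNT b (ψ : T → ℂ))
    {η : IrrCharacter N} (hη : η ∈ b) :
    classInner (fun n : N => indFun T (ψ : T → ℂ) n) (η : N → ℂ) =
      classInner (resN hNT (ψ : T → ℂ)) (η : N → ℂ) := by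
  classical
  have := Fintype.ofFinite (N.subgroupOf T)
  set r := resN hNT (ψ : T → ℂ) with hr
  have e : (fun n : N => indFun T (ψ : T → ℂ) n) =
      (Nat.card T : ℂ)⁻¹ • ∑ x : G, fun n => r (conjEquiv N x n) := by
    funext n
    simp only [CfsgLib.Char.indFun_def, Pi.smul_apply, Finset.sum_apply, smul_eq_mul]
    congr 1
    refine Fintype.sum_equiv (Equiv.inv G) _ _ fun x => ?_
    rw [CfsgLib.Char.extendByZero_of_mem _ (hNT (hN.conj_mem' _ n.2 x))]
    exact congrArg (ψ : T → ℂ) (Subtype.ext (by simp [conjEquiv]))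
  have hx : ∀ x : G, classInner (fun n => r (conjEquiv N x n)) (η : N → ℂ) =
      if x ∈ T then classInner r (η : N → ℂ) else 0 := by
    intro x
    have h1 : classInner (fun n => r (conjEquiv N x n)) (η : N → ℂ) =
        classInner r (conjIrr N η x⁻¹ : N → ℂ) := by
      rw [CfsgLib.Char.classInner_def, CfsgLib.Char.classInner_def]
      congr 1
      refine Fintype.sum_equiv (conjEquiv N x).toEquiv _ _ fun n => ?_
      rw [conjIrr_apply]
      refine congrArg (fun a => r (conjEquiv N x n) * conj a)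
        (congrArg (η : N → ℂ) (Subtype.ext ?_))
      simp [conjEquiv, mul_assoc]
    split_ifs with hxT
    · refine congrArg (fun f => classInner f (η : N → ℂ)) (funext fun n => ?_)
      rw [hr, resN, resN, ← CfsgLib.Char.irr_isClassFunction ψ.2 ⟨(n : G), hNT n.2⟩ ⟨x, hxT⟩]
      rfl
    · rw [h1]
      by_contra h0
      refine hxT ?_
      rw [← inv_inv x]
      exact T.inv_mem (mem_of_conjIrr_mem hb hT hη (mem_of_over hNT hb hT h h0))
  rw [e, CfsgLib.Char.classInner_smul_left, CfsgLib.Char.classInner_sum_left]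
  simp only [hx, Finset.sum_ite, Finset.sum_const_zero, add_zero, Finset.sum_const, nsmul_eq_mul]
  rw [← Fintype.card_subtype, ← Nat.card_eq_fintype_card, ← mul_assoc, inv_mul_cancel₀
    (by exact_mod_cast Nat.card_pos.ne'), one_mul]

/-- Induction from the stabiliser is injective and preserves irreducibility. -/
theorem indFun_stab {ψ : IrrCharacter T} (h : OverBlock hNT b (ψ : T → ℂ)) :
    IsIrrCharacter G (indFun T (ψ : T → ℂ)) ∧ ∀ ψ' : IrrCharacter T,
      OverBlock hNT b (ψ' : T → ℂ) →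
        classInner (indFun T (ψ : T → ℂ)) (indFun T (ψ' : T → ℂ)) ≠ 0 → ψ = ψ' := by
  have hFc : IsCharacter G (indFun T (ψ : T → ℂ)) :=
    Char.isCharacter_indFun T (Char.irr_isCharacter ψ.2)
  set F : T → ℂ := fun t => indFun T (ψ : T → ℂ) t with hFdef
  have hF : IsCharacter T F := Char.isCharacter_restrict hFc T
  have hrec : ∀ ψ' : IrrCharacter T, classInner (indFun T (ψ' : T → ℂ)) (indFun T (ψ : T → ℂ)) =
      classInner (ψ' : T → ℂ) F := fun ψ' =>
    Char.frobenius_reciprocity T _ _ (Char.indFun_isClassFunction T _)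
  have hne : classInner F (ψ : T → ℂ) ≠ 0 := by
    rw [← Char.classInner_conj_symm, ← hrec, Char.classInner_conj_symm]
    intro h0
    have := congr_fun (Char.classInner_self_eq_zero h0) 1
    rw [Char.indFun_apply_one, Pi.zero_apply, mul_eq_zero] at this
    exact this.elim (by exact_mod_cast Subgroup.index_ne_zero_of_finite)
      (Char.irr_apply_one_ne_zero ψ.2)
  obtain ⟨R, hR, hRe⟩ := CfsgLib.Clifford.exists_add_of_constituent hF ψ.2 hne
  have hR0 : ∀ η ∈ b, classInner (resN hNT R) (η : N → ℂ) = 0 := by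
    intro η hη
    have h1 := classInner_indFun_stab hNT hb hT h hη
    rw [show (fun n : N => indFun T (ψ : T → ℂ) n) = resN hNT (ψ : T → ℂ) + resN hNT R from
      funext fun n => congr_fun hRe ⟨(n : G), hNT n.2⟩,
      Char.classInner_add_left, add_eq_left] at h1
    exact h1
  have hR1 : ∀ ψ' : IrrCharacter T, OverBlock hNT b (ψ' : T → ℂ) →
      classInner R (ψ' : T → ℂ) = 0 := by
    intro ψ' h'
    by_contra hcon
    obtain ⟨θ, hθ, hne'⟩ := h'
    obtain ⟨R', hR', hRe'⟩ := CfsgLib.Clifford.exists_add_of_constituent hR ψ'.2 hcon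
    obtain ⟨i, hi⟩ := Char.classInner_isCharacter_nat
      (Char.isCharacter_comp (Char.irr_isCharacter ψ'.2) (Subgroup.inclusion hNT))
      (Char.irr_isCharacter θ.2)
    obtain ⟨j, hj⟩ := Char.classInner_isCharacter_nat
      (Char.isCharacter_comp hR' (Subgroup.inclusion hNT)) (Char.irr_isCharacter θ.2)
    have h0 := hR0 θ hθ
    rw [show resN hNT R =
      ((ψ' : T → ℂ) ∘ Subgroup.inclusion hNT) + (R' ∘ Subgroup.inclusion hNT) from
      funext fun n => congr_fun hRe' ⟨(n : G), hNT n.2⟩, Char.classInner_add_left, hi, hj] at h0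
    have h0' : i + j = 0 := by exact_mod_cast h0
    exact hne' ((show classInner (resN hNT (ψ' : T → ℂ)) (θ : N → ℂ) = (i : ℂ) from hi).trans
      (by rw [show i = 0 by omega, Nat.cast_zero]))
  refine ⟨Char.isIrrCharacter_iff.mpr ⟨hFc, ?_⟩, fun ψ' h' hne' => ?_⟩
  · rw [hrec, ← Char.classInner_conj_symm, hRe, Char.classInner_add_left,
      Char.irr_classInner_self ψ.2, hR1 ψ h]
    simp
  · by_contra hd
    apply hne'
    rw [← Char.classInner_conj_symm, hrec ψ', Char.classInner_conj_symm, hRe,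
      Char.classInner_add_left, Char.irr_classInner_ne ψ.2 ψ'.2 (fun e => hd (Subtype.ext e)),
      hR1 ψ' h', add_zero]

theorem eq_of_indFun_eq {ψ ψ' : IrrCharacter T} (h : OverBlock hNT b (ψ : T → ℂ))
    (h' : OverBlock hNT b (ψ' : T → ℂ))
    (e : indFun T (ψ : T → ℂ) = indFun T (ψ' : T → ℂ)) : ψ = ψ' := by
  obtain ⟨hirr, hu⟩ := indFun_stab hNT hb hT h
  refine hu ψ' h' ?_
  rw [← e, Char.irr_classInner_self hirr]
  exact one_ne_zero

/-- Every character of `G` over `b` is induced from the stabiliser. -/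
theorem exists_indFun_stab {χ : IrrCharacter G} {θ : IrrCharacter N} (hθ : θ ∈ b)
    (h : classInner (fun n : N => (χ : G → ℂ) n) (θ : N → ℂ) ≠ 0) :
    ∃ ψ : IrrCharacter T, OverBlock hNT b (ψ : T → ℂ) ∧
      indFun T (ψ : T → ℂ) = (χ : G → ℂ) := by
  have := Fintype.ofFinite (N.subgroupOf T)
  obtain ⟨ψ, hψ, hψχ, hψθ⟩ := CfsgLib.Clifford.exists_constituent_over (H := N.subgroupOf T)
    (Char.isCharacter_restrict (Char.irr_isCharacter χ.2) T)
    (θ := (irrMap (Subgroup.subgroupOfEquivOfLe hNT) θ : N.subgroupOf T → ℂ))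
    (by rw [classInner_subgroupOf hNT (fun t : T => (χ : G → ℂ) t)]; exact h)
  rw [classInner_subgroupOf hNT ψ] at hψθ
  have hov : OverBlock hNT b ψ := ⟨θ, hθ, hψθ⟩
  refine ⟨⟨ψ, hψ⟩, hov, ?_⟩
  obtain ⟨hirr, -⟩ := indFun_stab hNT hb hT (ψ := ⟨ψ, hψ⟩) hov
  by_contra hne
  apply hψχ
  rw [← Char.classInner_conj_symm, ← Char.frobenius_reciprocity T ψ (χ : G → ℂ)
    (Char.irr_isClassFunction χ.2), Char.irr_classInner_ne hirr χ.2 hne, map_zero]

end Stab

end CfsgLib.BlockA
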