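import Cfsg.Agent.Lib.BlockA.BrauerChain

/-! Conjugation of Brauer pairs; pairs are determined by their idempotents; the principal pairs. -/

set_option autoImplicit false
set_option linter.unusedSectionVars false

namespace CfsgLib.BlockA

open Cfsg CfsgLib.Block MonoidAlgebra

universe u

variable {G : Type u} [Group G] [Finite G] {p : ℕ} {M : Ideal AlgInt} [M.IsPrime]

local notation "cen" Q => Subgroup.centralizer ((Q : Subgroup G) : Set G)

theorem lam_irrMap {H K : Type u} [Group H] [Finite H] [Group K] [Finite K] (φ : H ≃* K)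
    (χ : IrrCharacter K) (w : Subalgebra.center (kres M) (MonoidAlgebra (kres M) H))
    (z : Subalgebra.center (kres M) (MonoidAlgebra (kres M) K))
    (h : ∀ x : H, (w : MonoidAlgebra (kres M) H).coeff x =
      (z : MonoidAlgebra (kres M) K).coeff (φ x)) :
    lam M (irrMap φ χ) w = lam M χ z := by
  have := Fintype.ofFinite H
  have := Fintype.ofFinite K
  set a := liftA (z : MonoidAlgebra (kres M) K) with ha
  have hloc : IsLocalCentral M a := isLocalCentral_liftA (isClassCoeff_center z)
  have hloc' : IsLocalCentral M (mkGA fun x : H => a.coeff (φ x)) :=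
    ⟨fun g k => by simpa using hloc.1 (φ g) (φ k), fun g => by simpa using hloc.2 (φ g)⟩
  rw [lam_apply χ hloc z (redA_liftA _), lam_apply (irrMap φ χ) hloc' w ?_]
  · congr 1
    rw [omegaC_eq, omegaC_eq]
    simp only [irrMap_apply, map_one, coeff_mkGA]
    congr 1
    exact Fintype.sum_equiv φ.toEquiv _ _ fun x => rfl
  · ext x
    have e := congrArg (fun t : MonoidAlgebra (kres M) K => t.coeff (φ x))
      (redA_liftA (M := M) (z : MonoidAlgebra (kres M) K))
    rw [h, ← e]
    simp [redA, ha]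

/-- The isomorphism between the centralizers of conjugate subgroups. -/
def cenMap (Q : Subgroup G) (x : G) :
    (cen (Q.map (MulAut.conj x).toMonoidHom)) ≃* (cen Q) where
  toFun c := ⟨x⁻¹ * c * x, Subgroup.mem_centralizer_iff.2 fun q hq => by
    have h := Subgroup.mem_centralizer_iff.1 c.2 (x * q * x⁻¹)
      (Subgroup.mem_map_of_mem (MulAut.conj x).toMonoidHom hq)
    calc q * (x⁻¹ * c * x) = x⁻¹ * ((x * q * x⁻¹) * c) * x := by group
      _ = x⁻¹ * (c * (x * q * x⁻¹)) * x := by rw [h]
      _ = _ := by group⟩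
  invFun c := ⟨x * c * x⁻¹, Subgroup.mem_centralizer_iff.2 fun q hq => by
    have hq' : x⁻¹ * q * x ∈ Q := mem_map_conj_iff.1 hq
    have h := Subgroup.mem_centralizer_iff.1 c.2 (x⁻¹ * q * x) hq'
    calc q * (x * c * x⁻¹) = x * ((x⁻¹ * q * x) * c) * x⁻¹ := by group
      _ = x * (c * (x⁻¹ * q * x)) * x⁻¹ := by rw [h]
      _ = _ := by group⟩
  left_inv c := Subtype.ext (by simp [mul_assoc])
  right_inv c := Subtype.ext (by simp [mul_assoc])
  map_mul' a b := Subtype.ext (by simp only [Subgroup.coe_mul]; group)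

theorem coe_cenMap (Q : Subgroup G) (x : G) (c : cen (Q.map (MulAut.conj x).toMonoidHom)) :
    ((cenMap Q x c : (cen Q)) : G) = x⁻¹ * c * x := rfl

theorem conjBlock_eq_blockMap (Q : Subgroup G) (x : G) (f : Set (IrrCharacter (cen Q))) :
    conjBlock Q x f = blockMap (cenMap Q x) f := by
  ext ξ'
  constructor
  · rintro ⟨ξ, hξ, h⟩
    refine ⟨ξ, hξ, Subtype.ext (funext fun c' => ?_)⟩
    rw [irrMap_apply]
    exact (h _ c' (by rw [coe_cenMap]; group)).symm
  · rintro ⟨ξ, hξ, rfl⟩
    refine ⟨ξ, hξ, fun c c' h => ?_⟩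
    rw [irrMap_apply]
    refine congrArg (ξ : (cen Q) → ℂ) (Subtype.ext ?_)
    rw [coe_cenMap, h]; group

theorem pairVal_conj {Q : Subgroup G} (x : G) (ξ : IrrCharacter (cen Q))
    {a a' : MonoidAlgebra (kres M) G} (ha : IsCInv Q a)
    (h : ∀ g, a'.coeff g = a.coeff (x⁻¹ * g * x)) :
    pairVal (Q.map (MulAut.conj x).toMonoidHom) (irrMap (cenMap Q x) ξ) a' = pairVal Q ξ a := by
  have ha' : IsCInv (Q.map (MulAut.conj x).toMonoidHom) a' := by
    intro c d
    have := ha (cenMap Q x c) (cenMap Q x d)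
    simp only [coeff_resSub, h] at this ⊢
    convert this using 2
    · simp only [coe_cenMap, Subgroup.coe_mul, Subgroup.coe_inv]; group
    · exact (coe_cenMap Q x c).symm
  rw [pairVal_eq _ ha', pairVal_eq ξ ha]
  refine lam_irrMap (cenMap Q x) ξ _ _ fun c => ?_
  simp only [coeff_resSub]
  rw [h, coe_cenMap]

variable (hM : IsPModular p M)
include hM

theorem blkIdem_injective {H : Type u} [Group H] [Finite H] {f g : Set (IrrCharacter H)}
    (hf : IsPBlock M f) (hg : IsPBlock M g) (h : blkIdem M f = blkIdem M g) : f = g := by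
  obtain ⟨χ, hχ⟩ := isPBlock_nonempty hf
  refine isPBlock_eq_of_mem hf hg hχ ?_
  rw [← algHom_blkIdem_eq_one_iff hM hg, ← h, algHom_blkIdem_eq_one_iff hM hf]
  exact hχ

theorem sIdem_injective {H : Subgroup G} {f g : Set (IrrCharacter H)}
    (hf : IsPBlock M f) (hg : IsPBlock M g) (h : sIdem M H f = sIdem M H g) : f = g := by
  refine blkIdem_injective hM hf hg (Subtype.ext ?_)
  rw [← resSub_inclSub H (blkIdem M f : MonoidAlgebra (kres M) H),
    ← resSub_inclSub H (blkIdem M g : MonoidAlgebra (kres M) H)]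
  exact congrArg (resSub H) h

/-- A pair is determined by its subgroup and its idempotent. -/
theorem pairIdx_ext {Q R : Subgroup G} {f : Set (IrrCharacter (cen Q))}
    {g : Set (IrrCharacter (cen R))} (hQR : Q = R) (hf : IsPBlock M f) (hg : IsPBlock M g)
    (h : sIdem M (cen Q) f = sIdem M (cen R) g) :
    (⟨Q, f⟩ : BrauerPairIdx G) = ⟨R, g⟩ := by
  subst hQR
  rw [sIdem_injective hM hf hg h]

theorem coeff_sIdem_conjBlock (Q : Subgroup G) (x : G) (f : Set (IrrCharacter (cen Q))) (g : G) :
    (sIdem M (cen (Q.map (MulAut.conj x).toMonoidHom)) (conjBlock Q x f)).coeff g =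
      (sIdem M (cen Q) f).coeff (x⁻¹ * g * x) := by
  by_cases hg : g ∈ cen (Q.map (MulAut.conj x).toMonoidHom)
  · obtain ⟨c, rfl⟩ : ∃ c : (cen (Q.map (MulAut.conj x).toMonoidHom)), (c : G) = g :=
      ⟨⟨g, hg⟩, rfl⟩
    rw [← coe_cenMap, sIdem, sIdem, coeff_inclSub_of_mem, coeff_inclSub_of_mem, coeff_blkIdem,
      coeff_blkIdem, conjBlock_eq_blockMap, blockCoeff_blockMap]
  · have hg' : x⁻¹ * g * x ∉ cen Q := fun hh => hg (by
      have h2 := ((cenMap Q x).symm ⟨_, hh⟩).2
      have e : ((cenMap Q x).symm ⟨_, hh⟩ : G) = g := by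
        show x * (x⁻¹ * g * x) * x⁻¹ = g
        group
      rwa [e] at h2)
    rw [sIdem, sIdem, coeff_inclSub_of_not_mem _ _ hg, coeff_inclSub_of_not_mem _ _ hg']

theorem stabilizesBlock_iff_coeff {Q : Subgroup G} {f : Set (IrrCharacter (cen Q))}
    (hf : IsPBlock M f) {u : G} (hu : u ∈ Subgroup.normalizer (Q : Set G)) :
    StabilizesBlock (cen Q) f u ↔
      ∀ g, (sIdem M (cen Q) f).coeff (u⁻¹ * g * u) = (sIdem M (cen Q) f).coeff g := by
  have hu' := normalizer_le_normalizer_centralizer hM Q hu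
  rw [stabilizesBlock_iff hf]
  constructor
  · rintro ⟨hx, he⟩ g
    have := coeff_sIdem_conjSet hM (⟨u, hx⟩ : Subgroup.normalizer ((cen Q : Subgroup G) : Set G)) f g
    rw [he] at this
    exact this.symm
  · intro h
    refine ⟨hu', sIdem_injective hM (isPBlock_blockMap _ hf) hf ?_⟩
    ext g
    rw [coeff_sIdem_conjSet hM]
    exact h g

theorem isBrauerPair_conj {Q : Subgroup G} {f : Set (IrrCharacter (cen Q))}
    (h : IsBrauerPair p M Q f) (x : G) :
    IsBrauerPair p M (Q.map (MulAut.conj x).toMonoidHom) (conjBlock Q x f) :=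
  ⟨h.1.map _, conjBlock_eq_blockMap Q x f ▸ isPBlock_blockMap _ h.2⟩

theorem isBrauerPairOf_conj {B : Set (IrrCharacter G)} {Q : Subgroup G}
    {f : Set (IrrCharacter (cen Q))} (h : IsBrauerPairOf p M B Q f) (x : G) :
    IsBrauerPairOf p M B (Q.map (MulAut.conj x).toMonoidHom) (conjBlock Q x f) := by
  obtain ⟨ξ, hξ⟩ := isPBlock_nonempty h.1.2
  have hmem : irrMap (cenMap Q x) ξ ∈ conjBlock Q x f := by
    rw [conjBlock_eq_blockMap]; exact ⟨ξ, hξ, rfl⟩
  rw [isBrauerPairOf_iff hM (isBrauerPair_conj hM h.1 x) h.2.1 hmem,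
    pairVal_conj x ξ (isCInv_of_isClassCoeff (isClassCoeff_center (blkIdem M B))) fun g => by
      have := isClassCoeff_center (blkIdem M B) g x⁻¹
      rw [inv_inv] at this
      exact this.symm]
  exact (isBrauerPairOf_iff hM h.1 h.2.1 hξ).1 h

theorem isNormalSubpair_conj {P Q : Subgroup G} {e : Set (IrrCharacter (cen P))}
    {f : Set (IrrCharacter (cen Q))} (h : IsNormalSubpair p M Q f P e) (x : G) :
    IsNormalSubpair p M (Q.map (MulAut.conj x).toMonoidHom) (conjBlock Q x f)
      (P.map (MulAut.conj x).toMonoidHom) (conjBlock P x e) := by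
  obtain ⟨ξ, hξ⟩ := isPBlock_nonempty h.2.1.2
  obtain ⟨hQP, hPN, hst, hv⟩ := (isNormalSubpair_iff hM hξ h.2.1 h.1).1 h
  have hmem : irrMap (cenMap P x) ξ ∈ conjBlock P x e := by
    rw [conjBlock_eq_blockMap]; exact ⟨ξ, hξ, rfl⟩
  have hP' : P.map (MulAut.conj x).toMonoidHom ≤
      Subgroup.normalizer ((Q.map (MulAut.conj x).toMonoidHom : Subgroup G) : Set G) := by
    intro y hy
    have hn := Subgroup.mem_normalizer_iff.1 (hPN (mem_map_conj_iff.1 hy))
    rw [Subgroup.mem_normalizer_iff]
    intro q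
    rw [mem_map_conj_iff, mem_map_conj_iff, hn]
    simp [mul_assoc]
  refine (isNormalSubpair_iff hM hmem (isBrauerPair_conj hM h.2.1 x)
    (isBrauerPair_conj hM h.1 x)).2 ⟨Subgroup.map_mono hQP, hP', fun y hy => ?_, ?_⟩
  · rw [stabilizesBlock_iff_coeff hM (isBrauerPair_conj hM h.1 x).2 (hP' hy)]
    intro g
    rw [coeff_sIdem_conjBlock hM, coeff_sIdem_conjBlock hM,
      ← (stabilizesBlock_iff_coeff hM h.1.2 (hPN (mem_map_conj_iff.1 hy))).1
        (hst _ (mem_map_conj_iff.1 hy)) (x⁻¹ * g * x)]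
    congr 1
    group
  · rw [pairVal_conj x ξ (isCInv_sIdem hM hQP f) (coeff_sIdem_conjBlock hM Q x f)]
    exact hv

theorem subpairLE_conj {P Q : Subgroup G} {e : Set (IrrCharacter (cen P))}
    {f : Set (IrrCharacter (cen Q))} (h : SubpairLE p M Q f P e) (x : G) :
    SubpairLE p M (Q.map (MulAut.conj x).toMonoidHom) (conjBlock Q x f)
      (P.map (MulAut.conj x).toMonoidHom) (conjBlock P x e) :=
  Relation.ReflTransGen.lift
    (fun a : BrauerPairIdx G =>
      (⟨a.1.map (MulAut.conj x).toMonoidHom, conjBlock a.1 x a.2⟩ : BrauerPairIdx G))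
    (p := NormalSubpairRel p M) (fun _ _ hs => isNormalSubpair_conj hM hs x) _ _ h

/-- At the trivial character the value is the sum of the coefficients. -/
theorem lam_trivIrr_eq_sum {H : Type u} [Group H] [Fintype H]
    (z : Subalgebra.center (kres M) (MonoidAlgebra (kres M) H)) :
    lam M (trivIrr : IrrCharacter H) z = ∑ h : H, (z : MonoidAlgebra (kres M) H).coeff h := by
  set a := liftA (z : MonoidAlgebra (kres M) H)
  have hloc : IsLocalCentral M a := isLocalCentral_liftA (isClassCoeff_center z)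
  rw [lam_apply _ hloc z (redA_liftA _), omegaC_eq]
  have e : (∑ g : H, a.coeff g * ((trivIrr : IrrCharacter H) : H → ℂ) g) /
      ((trivIrr : IrrCharacter H) : H → ℂ) 1 = ∑ g : H, a.coeff g := by simp [trivIrr]
  rw [e, redC_sum _ _ fun g _ => hloc.2 g]
  refine Finset.sum_congr rfl fun g _ => ?_
  have := congrArg (fun t : MonoidAlgebra (kres M) H => t.coeff g)
    (redA_liftA (M := M) (z : MonoidAlgebra (kres M) H))
  simpa [redA] using this

/-- At the trivial character, the value is the augmentation. -/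
theorem pairVal_trivIrr [Fintype G] {Q : Subgroup G} (hQ : IsPGroup p Q)
    {a : MonoidAlgebra (kres M) G} (ha : IsPInv Q a) (hc : IsCInv Q a) :
    pairVal Q (trivIrr : IrrCharacter (cen Q)) a = ∑ g : G, a.coeff g := by
  classical
  have := Fact.mk hM.1
  have := charP_kres hM
  have := Fintype.ofFinite (cen Q)
  rw [pairVal_eq _ hc, lam_trivIrr_eq_sum hM]
  let _ : MulAction Q G :=
    { smul := fun u x => (u : G) * x * (u : G)⁻¹
      one_smul := fun x => by change (1 : G) * x * (1 : G)⁻¹ = x; simp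
      mul_smul := fun u v x => by
        change ((u * v : Q) : G) * x * ((u * v : Q) : G)⁻¹
          = (u : G) * ((v : G) * x * (v : G)⁻¹) * (u : G)⁻¹
        push_cast
        group }
  rw [sum_eq_sum_fixed hQ (p := p) (fun v => by simp [nsmul_eq_mul]) (fun g : G => a.coeff g)
    (fun u x => ha u u.2 x)]
  refine Finset.sum_bij (fun c _ => (c : G)) (fun c _ => ?_) (fun a _ b _ h => Subtype.ext h)
    (fun y hy => ?_) (fun c _ => by simp)
  · refine Finset.mem_filter.2 ⟨Finset.mem_univ _, fun u => ?_⟩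
    show (u : G) * (c : G) * (u : G)⁻¹ = c
    rw [Subgroup.mem_centralizer_iff.1 c.2 u u.2, mul_inv_cancel_right]
  · refine ⟨⟨y, Subgroup.mem_centralizer_iff.2 fun u hu => ?_⟩, Finset.mem_univ _, rfl⟩
    have h : (u : G) * y * (u : G)⁻¹ = y := (Finset.mem_filter.1 hy).2 ⟨u, hu⟩
    exact mul_inv_eq_iff_eq_mul.1 h

theorem sum_coeff_sIdem_principal [Fintype G] (H : Subgroup G) :
    ∑ g : G, (sIdem M H (principalBlock M H)).coeff g = 1 := by
  classical
  have := Fintype.ofFinite H
  have h := lam_trivIrr_eq_sum hM (blkIdem M (principalBlock M H))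
  rw [(algHom_blkIdem_eq_one_iff hM isPBlock_principalBlock _).2
    (show (trivIrr : IrrCharacter H) ∈ principalBlock M H from one_mem_principalBlock)] at h
  rw [h, ← Finset.sum_filter_of_ne (s := (Finset.univ : Finset G)) (p := fun g => g ∈ H)
    (fun g _ hg => by
      by_contra hgH
      exact hg (coeff_inclSub_of_not_mem H _ hgH))]
  refine (Finset.sum_bij (s := (Finset.univ : Finset H)) (fun c _ => (c : G)) (fun c _ => by simp)
    (fun a _ b _ h => Subtype.ext h)
    (fun y hy => ⟨⟨y, (Finset.mem_filter.1 hy).2⟩, Finset.mem_univ _, rfl⟩)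
    (fun c _ => by rw [sIdem, coeff_inclSub_of_mem])).symm

theorem isBrauerPairOf_principal {Q : Subgroup G} (hQ : IsPGroup p Q) :
    IsBrauerPairOf p M (principalBlock M G) Q (principalBlock M (cen Q)) := by
  have := Fintype.ofFinite G
  rw [isBrauerPairOf_iff hM ⟨hQ, isPBlock_principalBlock⟩ isPBlock_principalBlock
    one_mem_principalBlock]
  have h := lam_trivIrr_eq_sum hM (blkIdem M (principalBlock M G))
  rw [(algHom_blkIdem_eq_one_iff hM isPBlock_principalBlock _).2
    (show (trivIrr : IrrCharacter G) ∈ principalBlock M G from one_mem_principalBlock)] at h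
  rw [h]
  exact pairVal_trivIrr hM hQ (isPInv_of_isClassCoeff (isClassCoeff_center _) Q)
    (isCInv_of_isClassCoeff (isClassCoeff_center _))

theorem isNormalSubpair_principal {P Q : Subgroup G} (hP : IsPGroup p P) (hQP : Q ≤ P)
    (hPN : P ≤ Subgroup.normalizer (Q : Set G)) :
    IsNormalSubpair p M Q (principalBlock M (cen Q)) P (principalBlock M (cen P)) := by
  have := Fintype.ofFinite G
  have hst : ∀ x ∈ P, StabilizesBlock (cen Q) (principalBlock M (cen Q)) x := fun x hx =>
    (stabilizesBlock_iff isPBlock_principalBlock x).2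
      ⟨normalizer_le_normalizer_centralizer hM Q (hPN hx), blockMap_principalBlock _⟩
  refine (isNormalSubpair_iff hM one_mem_principalBlock ⟨hP, isPBlock_principalBlock⟩
    ⟨hP.to_le hQP, isPBlock_principalBlock⟩).2 ⟨hQP, hPN, hst, ?_⟩
  exact (pairVal_trivIrr hM hP (isPInv_sIdem_of_stable hM hPN isPBlock_principalBlock hst)
    (isCInv_sIdem hM hQP _)).trans (sum_coeff_sIdem_principal hM _)

theorem subpairLE_principal {P : Subgroup G} (hP : IsPGroup p P) : ∀ (n : ℕ) (Q : Subgroup G),
    Q ≤ P → Nat.card P - Nat.card Q = n →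
      SubpairLE p M Q (principalBlock M (cen Q)) P (principalBlock M (cen P)) := by
  intro n
  induction n using Nat.strong_induction_on with
  | _ n ih =>
    intro Q hQP hn
    by_cases hne : Q = P
    · subst hne
      exact Relation.ReflTransGen.refl
    have hlt := lt_normalizer_inf hM hP hQP hne
    have hc : Nat.card Q < Nat.card ↥(P ⊓ Subgroup.normalizer (Q : Set G)) :=
      lt_of_le_of_ne (Subgroup.card_le_of_le hlt.le)
        fun h => hlt.ne (Subgroup.eq_of_le_of_card_ge hlt.le h.ge)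
    have hcP : Nat.card ↥(P ⊓ Subgroup.normalizer (Q : Set G)) ≤ Nat.card P :=
      Subgroup.card_le_of_le inf_le_left
    exact Relation.ReflTransGen.head
      (show NormalSubpairRel p M ⟨Q, principalBlock M (cen Q)⟩ ⟨_, _⟩ from
        isNormalSubpair_principal hM (hP.to_le inf_le_left) hlt.le inf_le_right)
      (ih _ (by omega) _ inf_le_left rfl)

theorem conjBlock_principal (Q : Subgroup G) (x : G) :
    conjBlock Q x (principalBlock M (cen Q)) =
      principalBlock M (cen (Q.map (MulAut.conj x).toMonoidHom)) := by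
  rw [conjBlock_eq_blockMap, blockMap_principalBlock]

end CfsgLib.BlockA
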