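import Cfsg.Agent.Lib.BlockA.CoverSub
import Cfsg.Agent.Lib.Block.FirstMain

/-! The Brauer correspondence. -/

set_option autoImplicit false
set_option linter.unusedSectionVars false
set_option maxHeartbeats 1000000

namespace CfsgLib.BlockA

open Cfsg CfsgLib.Block MonoidAlgebra

universe u

variable {G : Type u} [Group G] [Finite G] {p : ℕ} {M : Ideal AlgInt} [M.IsPrime]

local notation "cen" Q => Subgroup.centralizer ((Q : Subgroup G) : Set G)

/-- The Brauer image of the idempotent, in the group algebra of `G`. -/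
noncomputable def trunc (M : Ideal AlgInt) [M.IsPrime] (D : Subgroup G) (B : Set (IrrCharacter G)) :
    MonoidAlgebra (kres M) G :=
  inclSub (cen D) (resSub (cen D) (blkIdem M B : MonoidAlgebra (kres M) G))

theorem coeff_trunc_of_mem {D : Subgroup G} (B : Set (IrrCharacter G)) {x : G} (hx : x ∈ cen D) :
    (trunc M D B).coeff x = redC M (blockCoeff B x) := by
  rw [trunc, show x = ((⟨x, hx⟩ : (cen D)) : G) from rfl, coeff_inclSub_of_mem, coeff_resSub,
    coeff_blkIdem]

theorem coeff_trunc_of_not_mem {D : Subgroup G} (B : Set (IrrCharacter G)) {x : G}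
    (hx : x ∉ cen D) : (trunc M D B).coeff x = 0 :=
  coeff_inclSub_of_not_mem _ _ hx

/-- The normalizer of a subgroup of `H`, when `N_G(R) ≤ H`. -/
def normIso (R H : Subgroup G) (hR : R ≤ H) (hN : Subgroup.normalizer (R : Set G) ≤ H) :
    Subgroup.normalizer ((R.subgroupOf H : Subgroup H) : Set H) ≃*
      Subgroup.normalizer (R : Set G) where
  toFun t := ⟨((t : H) : G), Subgroup.mem_normalizer_iff.2 fun r => by
    constructor
    · intro hr
      exact (Subgroup.mem_normalizer_iff.1 t.2 ⟨r, hR hr⟩).1 hr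
    · intro hr
      have hrH : r ∈ H := by
        simpa [mul_assoc] using mul_mem (mul_mem (inv_mem (t : H).2) (hR hr)) (t : H).2
      exact (Subgroup.mem_normalizer_iff.1 t.2 ⟨r, hrH⟩).2 hr⟩
  invFun s := ⟨⟨(s : G), hN s.2⟩, Subgroup.mem_normalizer_iff.2 fun r =>
    Subgroup.mem_normalizer_iff.1 s.2 (r : G)⟩
  left_inv _ := rfl
  right_inv _ := rfl
  map_mul' _ _ := rfl

theorem inclSub_sIdem_normIso {R H : Subgroup G} (hR : R ≤ H)
    (hN : Subgroup.normalizer (R : Set G) ≤ H)
    (b : Set (IrrCharacter (Subgroup.normalizer (R : Set G)))) :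
    inclSub H (sIdem M (Subgroup.normalizer ((R.subgroupOf H : Subgroup H) : Set H))
      (blockMap (normIso R H hR hN) b)) = sIdem M (Subgroup.normalizer (R : Set G)) b := by
  ext x
  by_cases hx : x ∈ Subgroup.normalizer (R : Set G)
  · obtain ⟨t, rfl⟩ : ∃ t : Subgroup.normalizer ((R.subgroupOf H : Subgroup H) : Set H),
        ((t : H) : G) = x := ⟨(normIso R H hR hN).symm ⟨x, hx⟩, rfl⟩
    rw [coeff_inclSub_of_mem, sIdem, sIdem, coeff_inclSub_of_mem, coeff_blkIdem,
      blockCoeff_blockMap,
      show ((t : H) : G) = ((normIso R H hR hN t : Subgroup.normalizer (R : Set G)) : G) from rfl,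
      coeff_inclSub_of_mem, coeff_blkIdem]
  · rw [coeff_sIdem_of_not_mem b hx]
    by_cases hxH : x ∈ H
    · rw [show x = ((⟨x, hxH⟩ : H) : G) from rfl, coeff_inclSub_of_mem]
      exact coeff_sIdem_of_not_mem _ fun h => hx ((normIso R H hR hN) ⟨⟨x, hxH⟩, h⟩).2
    · exact coeff_inclSub_of_not_mem _ _ hxH

theorem mem_cen_subgroupOf {R H : Subgroup G} (hR : R ≤ H) (t : H) :
    t ∈ Subgroup.centralizer ((R.subgroupOf H : Subgroup H) : Set H) ↔ (t : G) ∈ cen R := by
  rw [Subgroup.mem_centralizer_iff, Subgroup.mem_centralizer_iff]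
  exact ⟨fun h r hr => congrArg Subtype.val (h ⟨r, hR hr⟩ hr),
    fun h r hr => Subtype.ext (h (r : G) hr)⟩

variable (hM : IsPModular p M)
include hM

theorem defectGroup_of_normal_of_card {D : Subgroup G} [D.Normal] (hD : IsPGroup p D)
    {b : Set (IrrCharacter G)} (hb : IsPBlock M b) (hcard : p ^ blockDefect p b ≤ Nat.card D) :
    IsDefectGroup p M b D := by
  obtain ⟨E, hE⟩ := exists_isDefectGroup hM hb
  rw [Subgroup.eq_of_le_of_card_ge (normal_le_defectGroup hM hD hb hE)
    (by rw [natCard_defectGroup hM hb hE]; exact hcard)]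
  exact hE

/-- From `G` to the normalizer. -/
theorem exists_local [Fact p.Prime] {D : Subgroup G} {B : Set (IrrCharacter G)}
    (hB : IsPBlock M B) (hBD : IsDefectGroup p M B D) :
    ∃ b : Set (IrrCharacter (Subgroup.normalizer (D : Set G))), IsPBlock M b ∧
      IsDefectGroup p M b (D.subgroupOf (Subgroup.normalizer (D : Set G))) ∧
      IsInducedBlock M (Subgroup.normalizer (D : Set G)) b B ∧
      sIdem M (Subgroup.normalizer (D : Set G)) b = trunc M D B := by
  classical
  have := charP_kres hM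
  have hD : IsPGroup p D := isPGroup_defectGroup hM hB hBD
  have hCN := Subgroup.centralizer_le_normalizer (D : Set G)
  obtain ⟨b, hb, hbD, hind⟩ := firstMain_exists hM hB hBD
  refine ⟨b, hb, hbD, hind, ?_⟩
  obtain ⟨χ, hχ⟩ := isPBlock_nonempty hB
  set w := brHom (k := kres M) hD hCN le_rfl (blkIdem M B) with hw
  have hval : ∀ ξ : IrrCharacter (Subgroup.normalizer (D : Set G)),
      lam M ξ w = if ξ ∈ b then 1 else 0 := by
    intro ξ
    have hz : lam M ξ w = lam M ξ (resZ _ (blkIdem M B)) :=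
      (lam_resZ_eq_brHom hM hD Subgroup.le_normalizer hCN le_rfl ξ _).symm
    by_cases hξ : ξ ∈ b
    · rw [if_pos hξ, hz, (isInducedBlock_iff _ hb hB hξ hχ).1 hind,
        (algHom_blkIdem_eq_one_iff hM hB χ).2 hχ]
    · rw [if_neg hξ]
      by_contra h0
      have h1 : lam M ξ w = 1 := by
        have h := congrArg (lam M ξ)
          (show w * w = w by rw [hw, ← map_mul, blkIdem_idem hM hB])
        rw [map_mul] at h
        exact mul_right_eq_self₀.1 h |>.resolve_right h0
      obtain ⟨φ, hφ⟩ := exists_eq_lam hM ((lam M ξ).comp (brHom hD hCN le_rfl))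
      have hφB : φ ∈ B := by
        rw [← algHom_blkIdem_eq_one_iff hM hB φ, ← hφ]
        exact h1
      have hind' : IsInducedBlock M _ (blockOf M (ξ : Subgroup.normalizer (D : Set G) → ℂ)) B := by
        refine (isInducedBlock_iff _ (isPBlock_blockOf ξ) hB (mem_blockOf_self ξ) hχ).2 fun z => ?_
        rw [lam_resZ_eq_brHom hM hD Subgroup.le_normalizer hCN le_rfl,
          lam_eq_of_sameBlock (sameBlock_of_mem hB hχ hφB), ← hφ]
        rfl
      exact hξ (firstMain_unique hM hD hbD hind hind' ▸ mem_blockOf_self ξ)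
  have hwb : w = blkIdem M b := by
    have hww : w * w = w := by rw [hw, ← map_mul, blkIdem_idem hM hB]
    calc w = w * ∑ c ∈ allBlocks M _, blkIdem M c := by rw [sum_blkIdem hM, mul_one]
      _ = ∑ c ∈ allBlocks M _, w * blkIdem M c := Finset.mul_sum _ _ _
      _ = blkIdem M b := by
        rw [Finset.sum_eq_single_of_mem b (mem_allBlocks.2 hb) ?_]
        · obtain ⟨ξ, hξ⟩ := isPBlock_nonempty hb
          exact mul_blkIdem_of_lam_eq_one hM hww hb hξ (by rw [hval, if_pos hξ])
        · intro c hc hne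
          have hcB := mem_allBlocks.1 hc
          by_contra h0
          obtain ⟨ξ, hξ⟩ := exists_lam_eq_one_of_idem hM
            (by rw [mul_mul_mul_comm, hww, blkIdem_idem hM hcB]) h0
          rw [map_mul, hval, lam_blkIdem hM hcB] at hξ
          by_cases h1 : ξ ∈ b <;> by_cases h2 : ξ ∈ c <;> simp [h1, h2] at hξ
          exact hne (isPBlock_eq_of_mem hcB hb h2 h1)
  ext x
  by_cases hx : x ∈ cen D
  · rw [coeff_trunc_of_mem B hx, sIdem,
      show x = ((⟨x, hCN hx⟩ : Subgroup.normalizer (D : Set G)) : G) from rfl, coeff_inclSub_of_mem,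
      ← hwb, hw, coe_brHom, coeff_brRes_of_mem _ hx, coeff_blkIdem]
  · rw [coeff_trunc_of_not_mem B hx]
    by_cases hxN : x ∈ Subgroup.normalizer (D : Set G)
    · rw [sIdem, show x = ((⟨x, hxN⟩ : Subgroup.normalizer (D : Set G)) : G) from rfl,
        coeff_inclSub_of_mem, ← hwb, hw, coe_brHom, coeff_brRes_of_not_mem _ hx]
    · exact coeff_sIdem_of_not_mem b hxN

/-- From the normalizer to `G`. -/
theorem exists_global [Fact p.Prime] {D : Subgroup G} (hD : IsPGroup p D)
    {b : Set (IrrCharacter (Subgroup.normalizer (D : Set G)))} (hb : IsPBlock M b)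
    (hbD : IsDefectGroup p M b (D.subgroupOf (Subgroup.normalizer (D : Set G)))) :
    ∃ B : Set (IrrCharacter G), IsPBlock M B ∧ IsDefectGroup p M B D ∧
      sIdem M (Subgroup.normalizer (D : Set G)) b = trunc M D B := by
  obtain ⟨B, hB, hBD, hind⟩ := firstMain_induced hM hD hb hbD
  obtain ⟨b', hb', hb'D, hind', he⟩ := exists_local hM hB hBD
  refine ⟨B, hB, hBD, ?_⟩
  rw [← firstMain_unique hM hD hbD hind hind']
  exact he

/-- The Brauer image determines the block. -/
theorem eq_of_trunc_eq [Fact p.Prime] {D : Subgroup G} {B B' : Set (IrrCharacter G)}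
    (hB : IsPBlock M B) (hB' : IsPBlock M B') (hBD : IsDefectGroup p M B D)
    (h : trunc M D B = trunc M D B') : B = B' := by
  have hD : IsPGroup p D := isPGroup_defectGroup hM hB hBD
  obtain ⟨b, hb, -, -, he⟩ := exists_local hM hB hBD
  have hp := isPInv_of_isClassCoeff
    (isClassCoeff_center (blkIdem M B) : IsClassCoeff (blkIdem M B : MonoidAlgebra (kres M) G)) D
  obtain ⟨f, hf, hfe⟩ := exists_mul_sIdem hM (H := (cen D)) (z := trunc M D B)
    (fun x hx => coeff_trunc_of_not_mem B hx)
    (by rw [trunc, ← map_mul, ← resSub_mul hM hD hp hp, ← MulMemClass.coe_mul, blkIdem_idem hM hB])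
    (fun u hu x => inclSub_conj_invariant _
      (resSub_isClassCoeff _ (isClassCoeff_center (blkIdem M B))) hu x)
    (by rw [← he]; exact sIdem_ne_zero hM hb)
  rw [← sIdem_mul_comm f (fun x hx => coeff_trunc_of_not_mem B hx)] at hfe
  have h1 : IsBrauerPairOf p M B D f := (isBrauerPairOf_iff_mul hM ⟨hD, hf⟩ hB).2 hfe
  have h2 : IsBrauerPairOf p M B' D f :=
    (isBrauerPairOf_iff_mul hM ⟨hD, hf⟩ hB').2 (show sIdem M (cen D) f * trunc M D B' = _ by
      rw [← h]; exact hfe)
  exact (existsUnique_block hM ⟨hD, hf⟩).unique h1 h2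

omit hM in
open Classical in
theorem inclSub_trunc {R H : Subgroup G} (hR : R ≤ H) (hC : (cen R) ≤ H)
    (c : Set (IrrCharacter H)) {x : G} :
    (inclSub H (trunc M (R.subgroupOf H) c)).coeff x =
      if x ∈ cen R then redC M (subgroupBlockCoeff H c x) else 0 := by
  classical
  by_cases hx : x ∈ cen R
  · rw [if_pos hx, show x = ((⟨x, hC hx⟩ : H) : G) from rfl, coeff_inclSub_of_mem,
      coeff_trunc_of_mem c ((mem_cen_subgroupOf hR _).2 hx), subgroupBlockCoeff,
      dif_pos (SetLike.coe_mem _)]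
  · rw [if_neg hx]
    by_cases hxH : x ∈ H
    · rw [show x = ((⟨x, hxH⟩ : H) : G) from rfl, coeff_inclSub_of_mem]
      exact coeff_trunc_of_not_mem c fun h => hx ((mem_cen_subgroupOf hR _).1 h)
    · exact coeff_inclSub_of_not_mem _ _ hxH

/-- Agreement modulo `M` is equality of the Brauer images. -/
theorem agree_iff {R H : Subgroup G} (hR : R ≤ H) (hC : (cen R) ≤ H)
    {c : Set (IrrCharacter H)} (hc : IsPBlock M c) {B : Set (IrrCharacter G)}
    (hB : IsPBlock M B) :
    (∀ x : G, x ∈ (cen R) → MemLocalIdeal M (blockCoeff B x - subgroupBlockCoeff H c x)) ↔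
      inclSub H (trunc M (R.subgroupOf H) c) = trunc M R B := by
  classical
  have hloc : ∀ x, MemLocalRing M (subgroupBlockCoeff H c x) := fun x => by
    unfold subgroupBlockCoeff
    split_ifs
    · exact blockCoeff_memLocalRing hM hc _
    · exact (lring M).zero_mem
  constructor
  · intro h
    ext x
    rw [inclSub_trunc hR hC]
    by_cases hx : x ∈ cen R
    · rw [if_pos hx, coeff_trunc_of_mem B hx,
        (redC_eq_iff (blockCoeff_memLocalRing hM hB x) (hloc x)).2 (h x hx)]
    · rw [if_neg hx, coeff_trunc_of_not_mem B hx]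
  · intro h x hx
    rw [← redC_eq_iff (blockCoeff_memLocalRing hM hB x) (hloc x), ← coeff_trunc_of_mem B hx, ← h,
      inclSub_trunc hR hC, if_pos hx]

/-- **The Brauer correspondence, downwards.** -/
theorem corr_down [Fact p.Prime] {P H : Subgroup G} (hH : Subgroup.normalizer (P : Set G) ≤ H)
    {B : Set (IrrCharacter G)} (hB : IsPBlock M B) (hBD : IsDefectGroup p M B P) :
    ∃ c : Set (IrrCharacter H), IsPBlock M c ∧ IsDefectGroup p M c (P.subgroupOf H) ∧
      ∀ x : G, x ∈ (cen P) → MemLocalIdeal M (blockCoeff B x - subgroupBlockCoeff H c x) := by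
  have hP : IsPGroup p P := isPGroup_defectGroup hM hB hBD
  have hPH : P ≤ H := Subgroup.le_normalizer.trans hH
  have hC : (cen P) ≤ H := (Subgroup.centralizer_le_normalizer _).trans hH
  obtain ⟨b, hb, hbD, -, he⟩ := exists_local hM hB hBD
  have hP' : IsPGroup p (P.subgroupOf H) := hP.comap_subtype
  have : ((P.subgroupOf H).subgroupOf
      (Subgroup.normalizer ((P.subgroupOf H : Subgroup H) : Set H))).Normal :=
    Subgroup.normal_in_normalizer
  have hb0 := isPBlock_blockMap (normIso P H hPH hH) hb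
  obtain ⟨c, hc, hcD, hce⟩ := exists_global hM hP' hb0
    (defectGroup_of_normal_of_card hM (D := (P.subgroupOf H).subgroupOf
      (Subgroup.normalizer ((P.subgroupOf H : Subgroup H) : Set H))) (hP'.comap_subtype) hb0 (by
      rw [blockDefect_blockMap, ← natCard_defectGroup hM hb hbD,
        Nat.card_congr (Subgroup.subgroupOfEquivOfLe Subgroup.le_normalizer).toEquiv,
        Nat.card_congr (Subgroup.subgroupOfEquivOfLe Subgroup.le_normalizer).toEquiv,
        Nat.card_congr (Subgroup.subgroupOfEquivOfLe hPH).toEquiv]))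
  refine ⟨c, hc, hcD, (agree_iff hM hPH hC hc hB).2 ?_⟩
  rw [← hce, inclSub_sIdem_normIso hPH hH, he]

/-- **The Brauer correspondence, upwards.** -/
theorem corr_up [Fact p.Prime] {P H : Subgroup G} (hP : IsPGroup p P)
    (hH : Subgroup.normalizer (P : Set G) ≤ H)
    {c : Set (IrrCharacter H)} (hc : IsPBlock M c) (hcD : IsDefectGroup p M c (P.subgroupOf H)) :
    ∃ B : Set (IrrCharacter G), IsPBlock M B ∧ IsDefectGroup p M B P ∧
      ∀ x : G, x ∈ (cen P) → MemLocalIdeal M (blockCoeff B x - subgroupBlockCoeff H c x) := by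
  have hPH : P ≤ H := Subgroup.le_normalizer.trans hH
  have hC : (cen P) ≤ H := (Subgroup.centralizer_le_normalizer _).trans hH
  obtain ⟨b₀, hb₀, hb₀D, -, he⟩ := exists_local hM hc hcD
  set ν := normIso P H hPH hH with hν
  have hb := isPBlock_blockMap ν.symm hb₀
  have hback : blockMap ν (blockMap ν.symm b₀) = b₀ := by
    ext ξ
    rw [mem_blockMap_iff, mem_blockMap_iff, MulEquiv.symm_symm, irrMap_irrMap_symm]
  have : (P.subgroupOf (Subgroup.normalizer (P : Set G))).Normal := Subgroup.normal_in_normalizer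
  obtain ⟨B, hB, hBD, hBe⟩ := exists_global hM hP hb
    (defectGroup_of_normal_of_card hM (D := P.subgroupOf (Subgroup.normalizer (P : Set G)))
      (hP.comap_subtype) hb (by
      rw [blockDefect_blockMap, ← natCard_defectGroup hM hb₀ hb₀D,
        Nat.card_congr (Subgroup.subgroupOfEquivOfLe Subgroup.le_normalizer).toEquiv,
        Nat.card_congr (Subgroup.subgroupOfEquivOfLe hPH).toEquiv,
        Nat.card_congr (Subgroup.subgroupOfEquivOfLe Subgroup.le_normalizer).toEquiv]))
  refine ⟨B, hB, hBD, (agree_iff hM hPH hC hc hB).2 ?_⟩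
  rw [← he, ← hback, inclSub_sIdem_normIso hPH hH, hBe]

end CfsgLib.BlockA
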