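import Cfsg.Agent.Lib.BlockA.CoreBlock
import Cfsg.Agent.Lib.BlockA.SectionNorms
import Cfsg.Agent.Lib.Block.Fong
import Cfsg.Agent.Lib.Block.DefectClass
import Cfsg.Agent.Lib.Comp.PConstrained
import Cfsg.Agent.Lib.Block.PSolvable

/-! Blocks over an invariant character of the `p'`-core in a constrained group: a single block,
of full defect and of principal type. -/

set_option autoImplicit false
set_option linter.unusedSectionVars false
set_option maxHeartbeats 1000000

namespace CfsgLib.BlockA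

open Cfsg CfsgLib.Block MonoidAlgebra
open scoped ComplexConjugate

universe u

section Subgroups

variable {A : Type u} [Group A] [Finite A] {B : Type u} [Group B] [Finite B] {p : ℕ}

theorem relIndex_map_dvd_relIndex (φ : A →* B) {H L : Subgroup A} (hHL : H ≤ L) :
    (H.map φ).relIndex (L.map φ) ∣ H.relIndex L := by
  have e : (H.map φ).subgroupOf (L.map φ) = (H.subgroupOf L).map (φ.subgroupMap L) := by
    ext ⟨b, hb⟩
    simp only [Subgroup.mem_subgroupOf, Subgroup.mem_map]
    constructor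
    · rintro ⟨a, ha, rfl⟩
      exact ⟨⟨a, hHL ha⟩, ha, rfl⟩
    · rintro ⟨a, ha, he⟩
      exact ⟨a, ha, congrArg Subtype.val he⟩
  rw [Subgroup.relIndex, Subgroup.relIndex, e]
  exact Subgroup.index_map_dvd _ (φ.subgroupMap_surjective L)

theorem relIndex_ker_comap_pow [Fact p.Prime] (φ : A →* B) {P : Subgroup B} (hP : IsPGroup p P) :
    ∃ k : ℕ, φ.ker.relIndex (P.comap φ) = p ^ k := by
  obtain ⟨k, hk⟩ := IsPGroup.iff_card.1 (hP.to_le (Subgroup.map_comap_le φ P))
  exact ⟨k, by rw [← MonoidHom.comap_bot, Subgroup.relIndex_comap, Subgroup.relIndex_bot_left, hk]⟩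

theorem exists_sylow_le [Fact p.Prime] (L : Subgroup A) :
    ∃ Q : Subgroup A, Q ≤ L ∧ IsPGroup p Q ∧ ¬ p ∣ Q.relIndex L := by
  obtain ⟨P⟩ := (inferInstance : Nonempty (Sylow p L))
  refine ⟨(P : Subgroup L).map L.subtype, Subgroup.map_subtype_le _, P.isPGroup'.map _, ?_⟩
  rw [Subgroup.relIndex, Subgroup.subgroupOf,
    Subgroup.comap_map_eq_self_of_injective L.subtype_injective]
  exact P.not_dvd_index

theorem map_eq_map_comap [Fact p.Prime] (φ : A →* B) {P : Subgroup B} (hP : IsPGroup p P)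
    {Q : Subgroup A} (hQ : Q ≤ P.comap φ) (hidx : ¬ p ∣ Q.relIndex (P.comap φ)) :
    Q.map φ = (P.comap φ).map φ := by
  refine le_antisymm (Subgroup.map_mono hQ) (Subgroup.relIndex_eq_one.1 ?_)
  obtain ⟨k, hk⟩ := IsPGroup.iff_card.1 (hP.to_le (Subgroup.map_comap_le φ P))
  have h1 : (Q.map φ).relIndex ((P.comap φ).map φ) ∣ p ^ k := hk ▸ Subgroup.relIndex_dvd_card _ _
  have hp : p.Prime := Fact.out
  exact Nat.eq_one_of_dvd_coprimes (Nat.Coprime.pow_left k (hp.coprime_iff_not_dvd.2 hidx))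
    h1 (relIndex_map_dvd_relIndex φ hQ)

/-- Quotients of `p`-solvable groups are `p`-solvable. -/
theorem isPSolvable_of_surjective [Fact p.Prime] (φ : A →* B) (hφ : Function.Surjective φ)
    (h : IsPSolvable p A) : IsPSolvable p B := by
  obtain ⟨n, H, h0, hl, hmono, hn, hfac⟩ := h
  refine ⟨n, fun i => (H i).map φ, by simp [h0], ?_, fun i j hij => Subgroup.map_mono (hmono hij),
    fun i => (hn i).map φ hφ, fun i => ?_⟩
  · simp only [hl]
    rw [← MonoidHom.range_eq_map, MonoidHom.range_eq_top.2 hφ]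
  have hd := relIndex_map_dvd_relIndex φ (hmono (Fin.castSucc_lt_succ (i := i)).le)
  rcases hfac i with ⟨m, hm⟩ | hc
  · obtain ⟨j, -, hj⟩ := (Nat.dvd_prime_pow (Fact.out : p.Prime)).1 (hm ▸ hd)
    exact Or.inl ⟨j, hj⟩
  · exact Or.inr (Nat.Coprime.coprime_dvd_left hd hc)

end Subgroups

variable {G : Type u} [Group G] [Fintype G] {p : ℕ} [Fact p.Prime] {M : Ideal AlgInt} [M.IsPrime]
  (hM : IsPModular p M) {K : Subgroup G} [hKn : K.Normal] [Fintype K]

section Restrict

variable (hKp : ¬ p ∣ Nat.card K) (θ : IrrCharacter K) (hinv : ∀ g : G, conjIrr K θ g = θ)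
include hM hKp hinv

theorem blockCoeff_singleton_conj (g : G) (k : K) :
    blockCoeff ({θ} : Set (IrrCharacter K)) ⟨g * k * g⁻¹, hKn.conj_mem k k.2 g⟩ =
      blockCoeff ({θ} : Set (IrrCharacter K)) k := by
  have h := congrArg (fun φ : IrrCharacter K => (φ : K → ℂ) k) (hinv g)
  simp only [conjIrr_apply] at h
  rw [blockCoeff_singleton, blockCoeff_singleton, h]

theorem sIdem_isClassCoeff_invariant :
    IsClassCoeff (sIdem M K ({θ} : Set (IrrCharacter K))) := by
  intro x g
  by_cases hx : x ∈ K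
  · obtain ⟨k, rfl⟩ : ∃ k : K, (k : G) = x := ⟨⟨x, hx⟩, rfl⟩
    rw [show g * (k : G) * g⁻¹ = ((⟨g * k * g⁻¹, hKn.conj_mem k hx g⟩ : K) : G) from rfl,
      sIdem, coeff_inclSub_of_mem, coeff_inclSub_of_mem, coeff_blkIdem, coeff_blkIdem]
    exact congrArg (redC M) (blockCoeff_singleton_conj hM hKp θ hinv g k)
  · rw [coeff_sIdem_of_not_mem _ hx, coeff_sIdem_of_not_mem _]
    exact fun h => hx (by simpa [mul_assoc] using hKn.conj_mem _ h g⁻¹)

/-- The character of the fixed points attached to an invariant character, with its invariance. -/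
theorem exists_restrict {R C : Subgroup G} (hR : IsPGroup p R)
    (hC : C = Subgroup.centralizer (R : Set G)) [Fintype C] [Fintype (K.subgroupOf C)] :
    ∃ (β : IrrCharacter (K.subgroupOf C)) (a : kres M), a ≠ 0 ∧
      (∀ x : K.subgroupOf C, redC M (blockCoeff ({θ} : Set (IrrCharacter K)) ⟨((x : C) : G), x.2⟩) =
        a * redC M (blockCoeff ({β} : Set (IrrCharacter (K.subgroupOf C))) x)) ∧
      ∀ c : C, conjIrr (K.subgroupOf C) β c = β := by
  obtain ⟨β, a, ha, hx⟩ := exists_glauberman_coeff hM hKp hR θ (fun r _ => hinv r) hC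
  refine ⟨β, a, ha, hx, fun c => ?_⟩
  have hp' : ¬ p ∣ Nat.card (K.subgroupOf C) := fun h => hKp (h.trans (by
    rw [← Subgroup.inf_subgroupOf_right, Nat.card_congr
      (Subgroup.subgroupOfEquivOfLe (inf_le_right : K ⊓ C ≤ C)).toEquiv]
    exact Subgroup.card_dvd_of_le inf_le_left))
  have := Fintype.ofFinite C
  refine Set.singleton_eq_singleton_iff.1 (blkIdem_injective hM (isPBlock_singleton hM hp' _)
    (isPBlock_singleton hM hp' β) (Subtype.ext ?_))
  ext x
  rw [coeff_blkIdem, coeff_blkIdem]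
  set y : K.subgroupOf C := ⟨c * x * c⁻¹, Subgroup.Normal.conj_mem inferInstance _ x.2 c⟩ with hy
  have h1 : blockCoeff ({conjIrr (K.subgroupOf C) β c} : Set (IrrCharacter (K.subgroupOf C))) x =
      blockCoeff ({β} : Set (IrrCharacter (K.subgroupOf C))) y := by
    rw [blockCoeff_singleton, blockCoeff_singleton, conjIrr_apply, conjIrr_apply]
    have e1 : (⟨(c : C) * ((1 : K.subgroupOf C) : C) * (c : C)⁻¹,
        Subgroup.Normal.conj_mem inferInstance _ (1 : K.subgroupOf C).2 c⟩ : K.subgroupOf C) = 1 :=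
      Subtype.ext (by simp)
    rw [e1]
  refine (congrArg (redC M) h1).trans (mul_left_cancel₀ ha ?_)
  rw [← hx, ← hx]
  exact congrArg (redC M) (blockCoeff_singleton_conj hM hKp θ hinv (c : G) ⟨((x : C) : G), x.2⟩)

theorem exists_coeff_centralizer {R : Subgroup G} (hR : IsPGroup p R) :
    ∃ x : K, (x : G) ∈ Subgroup.centralizer (R : Set G) ∧
      redC M (blockCoeff ({θ} : Set (IrrCharacter K)) x) ≠ 0 := by
  set C := Subgroup.centralizer (R : Set G) with hC
  have := Fintype.ofFinite C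
  have := Fintype.ofFinite (K.subgroupOf C)
  obtain ⟨β, a, ha, hx, -⟩ := exists_restrict hM hKp θ hinv hR hC
  have hp' : ¬ p ∣ Nat.card (K.subgroupOf C) := fun h => hKp (h.trans (by
    rw [← Subgroup.inf_subgroupOf_right, Nat.card_congr
      (Subgroup.subgroupOfEquivOfLe (inf_le_right : K ⊓ C ≤ C)).toEquiv]
    exact Subgroup.card_dvd_of_le inf_le_left))
  obtain ⟨x, hne⟩ := exists_blockCoeff_ne_zero hM (isPBlock_singleton hM hp' β)
  exact ⟨⟨((x : C) : G), x.2⟩, (x : C).2, by rw [hx]; exact mul_ne_zero ha hne⟩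

/-- A pair of a block over `θ` lies over the character of the fixed points. -/
theorem pair_over_restrict {R : Subgroup G} (hR : IsPGroup p R)
    [Fintype (K.subgroupOf (Subgroup.centralizer (R : Set G)))]
    {β : IrrCharacter (K.subgroupOf (Subgroup.centralizer (R : Set G)))} {a : kres M} (ha : a ≠ 0)
    (hx : ∀ x : K.subgroupOf (Subgroup.centralizer (R : Set G)),
      redC M (blockCoeff ({θ} : Set (IrrCharacter K))
          ⟨((x : Subgroup.centralizer (R : Set G)) : G), x.2⟩) =
        a * redC M (blockCoeff ({β} :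
          Set (IrrCharacter (K.subgroupOf (Subgroup.centralizer (R : Set G))))) x))
    {χ : IrrCharacter G} (hχ : classInner (fun k : K => (χ : G → ℂ) k) (θ : K → ℂ) ≠ 0)
    {f : Set (IrrCharacter (Subgroup.centralizer (R : Set G)))}
    (hf : IsInducedBlock M (Subgroup.centralizer (R : Set G)) f (blockOf M (χ : G → ℂ)))
    {ξ : IrrCharacter (Subgroup.centralizer (R : Set G))} (hξ : ξ ∈ f) :
    classInner (fun x : K.subgroupOf (Subgroup.centralizer (R : Set G)) =>
        (ξ : Subgroup.centralizer (R : Set G) → ℂ) x)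
      (β : K.subgroupOf (Subgroup.centralizer (R : Set G)) → ℂ) ≠ 0 := by
  classical
  have := Fintype.ofFinite (Subgroup.centralizer (R : Set G))
  have hpair : IsBrauerPair p M R f := ⟨hR, hf.1⟩
  obtain ⟨B', hB', -⟩ := existsUnique_block hM hpair
  have hBB : B' = blockOf M (χ : G → ℂ) :=
    isInducedBlock_unique (Subgroup.centralizer (R : Set G)) (isInducedBlock_of_isBrauerPairOf hM hB') hf
  subst hBB
  set w : MonoidAlgebra (kres M) G := (blkIdem M (blockOf M (χ : G → ℂ)) : MonoidAlgebra (kres M) G)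
  have h1 := (isBrauerPairOf_iff hM hpair hB'.2.1 hξ).1 hB'
  rw [pairVal_eq ξ (isCInv_of_isClassCoeff (isClassCoeff_center _))] at h1
  set s := sIdem M K ({θ} : Set (IrrCharacter K)) with hs
  have hsc : IsClassCoeff s := sIdem_isClassCoeff_invariant hM hKp θ hinv
  have hmul : resSub (Subgroup.centralizer (R : Set G)) w = resSub (Subgroup.centralizer (R : Set G)) w * resSub (Subgroup.centralizer (R : Set G)) s := by
    conv_lhs => rw [show w = w * s from (blkIdem_mul_sIdem_invariant hM hKp θ hinv hχ).symm]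
    exact resSub_mul hM hR (isPInv_of_isClassCoeff (isClassCoeff_center _) R)
      (isPInv_of_isClassCoeff hsc R)
  set z : Subalgebra.center (kres M) (MonoidAlgebra (kres M) (Subgroup.centralizer (R : Set G))) :=
    ⟨resSub (Subgroup.centralizer (R : Set G)) s, isClassCoeff_iff_mem_center.1 (resSub_isClassCoeff (Subgroup.centralizer (R : Set G)) hsc)⟩ with hz
  have hzne : lam M ξ z ≠ 0 := by
    intro h0
    apply one_ne_zero (α := kres M)
    rw [← h1]
    set u : Subalgebra.center (kres M) (MonoidAlgebra (kres M) (Subgroup.centralizer (R : Set G))) :=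
      ⟨resSub (Subgroup.centralizer (R : Set G)) w, isClassCoeff_iff_mem_center.1 (resSub_isClassCoeff (Subgroup.centralizer (R : Set G)) (isClassCoeff_center _))⟩
    show lam M ξ u = 0
    rw [show u = u * z from Subtype.ext hmul, map_mul, h0, mul_zero]
  obtain ⟨η, hη⟩ := exists_constituent_res (N := K.subgroupOf (Subgroup.centralizer (R : Set G))) ξ
  have hzs : ∀ x ∉ K.subgroupOf (Subgroup.centralizer (R : Set G)), (z : MonoidAlgebra (kres M) (Subgroup.centralizer (R : Set G))).coeff x = 0 := by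
    intro x hx
    show (resSub (Subgroup.centralizer (R : Set G)) s).coeff x = 0
    rw [coeff_resSub]
    exact coeff_sIdem_of_not_mem _ hx
  have hp' : ¬ p ∣ Nat.card (K.subgroupOf (Subgroup.centralizer (R : Set G))) := fun h => hKp (h.trans (by
    rw [← Subgroup.inf_subgroupOf_right, Nat.card_congr
      (Subgroup.subgroupOfEquivOfLe (inf_le_right : K ⊓ (Subgroup.centralizer (R : Set G)) ≤ (Subgroup.centralizer (R : Set G)))).toEquiv]
    exact Subgroup.card_dvd_of_le inf_le_left))
  have hzb : resZ (K.subgroupOf (Subgroup.centralizer (R : Set G))) z =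
      a • blkIdem M ({β} : Set (IrrCharacter (K.subgroupOf (Subgroup.centralizer (R : Set G))))) := by
    apply Subtype.ext
    ext x
    rw [coe_resZ, coeff_resSub, SetLike.val_smul, MonoidAlgebra.coeff_smul, Finsupp.smul_apply,
      smul_eq_mul, coeff_blkIdem, ← hx]
    show (resSub (Subgroup.centralizer (R : Set G)) s).coeff
      (x : (Subgroup.centralizer (R : Set G))) = _
    rw [coeff_resSub, hs, sIdem]
    exact (coeff_inclSub_of_mem K (blkIdem M ({θ} : Set (IrrCharacter K)) : MonoidAlgebra (kres M) K)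
      ⟨((x : (Subgroup.centralizer (R : Set G))) : G), x.2⟩).trans (coeff_blkIdem _ _)
  rw [lam_eq_lam_resZ hη z hzs, hzb, map_smul, smul_eq_mul,
    lam_blkIdem hM (isPBlock_singleton hM hp' β)] at hzne
  split_ifs at hzne with hmem
  · rwa [Set.mem_singleton_iff.1 hmem] at hη
  · exact absurd (mul_zero a) hzne

end Restrict

section Main

variable (hcons : Subgroup.centralizer (pCore p (G ⧸ K) : Set (G ⧸ K)) ≤ pCore p (G ⧸ K))
  (hKc : (Nat.card K).Coprime p) (θ : IrrCharacter K) (hinv : ∀ g : G, conjIrr K θ g = θ)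
include hM hcons hKc hinv

/-- **Blocks over an invariant character of the `p'`-core in a constrained group.** -/
theorem principalType : ∃ B : Set (IrrCharacter G), IsPBlock M B ∧
    (∀ χ : IrrCharacter G, χ ∈ B ↔ classInner (fun k : K => (χ : G → ℂ) k) (θ : K → ℂ) ≠ 0) ∧
    (∀ S : Sylow p G, IsDefectGroup p M B S) ∧
    (∀ D : Subgroup G, IsDefectGroup p M B D → ∃ S : Sylow p G, D = S) ∧
    ∀ R : Subgroup G, IsPGroup p R →
      ∃! f : Set (IrrCharacter (Subgroup.centralizer (R : Set G))),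
        IsInducedBlock M (Subgroup.centralizer (R : Set G)) f B := by
  classical
  have hp : p.Prime := Fact.out
  set q := QuotientGroup.mk' K with hq
  set P := pCore p (G ⧸ K) with hPdef
  have hP : IsPGroup p P := CfsgLib.Solvable.pCore_isPGroup p
  have hKp : ¬ p ∣ Nat.card K := hp.coprime_iff_not_dvd.1 hKc.symm
  set L := P.comap q with hL
  have hLn : L.Normal := by
    have := CfsgLib.Solvable.pCore_normal p (G ⧸ K)
    exact Subgroup.Normal.comap inferInstance q
  have hKL : K ≤ L := fun k hk => by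
    show q k ∈ P
    rw [hq, QuotientGroup.mk'_apply, (QuotientGroup.eq_one_iff k).2 hk]
    exact P.one_mem
  have := Fintype.ofFinite L
  have hidx : ∃ k : ℕ, K.relIndex L = p ^ k := by
    obtain ⟨k, hk⟩ := relIndex_ker_comap_pow q hP
    exact ⟨k, by rwa [hq, QuotientGroup.ker_mk'] at hk⟩
  obtain ⟨Q, hQL, hQ, hQi⟩ := exists_sylow_le (p := p) L
  have hCQ : Subgroup.centralizer (Q : Set G) ≤ L := by
    rw [hL, ← Subgroup.map_le_iff_le_comap, CfsgLib.Comp.map_centralizer_eq hKc hQ,
      map_eq_map_comap q hP hQL hQi,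
      Subgroup.map_comap_eq_self_of_surjective (QuotientGroup.mk'_surjective K)]
    exact hcons
  obtain ⟨χ₀, hχ₀⟩ := exists_over_constituent (G := G) θ
  set B := blockOf M (χ₀ : G → ℂ) with hBdef
  have hB : IsPBlock M B := isPBlock_blockOf χ₀
  have hmem : ∀ χ : IrrCharacter G,
      χ ∈ B ↔ classInner (fun k : K => (χ : G → ℂ) k) (θ : K → ℂ) ≠ 0 := fun χ =>
    ⟨fun h => constituent_of_sameBlock_of_coprime hM hKp
        (sameBlock_of_mem hB (mem_blockOf_self χ₀) h) hχ₀,
      fun h => mem_of_sameBlock hB (mem_blockOf_self χ₀)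
        (sameBlock_of_core hM hKL hKp hidx θ hinv hQ hQL
          (exists_coeff_centralizer hM hKp θ hinv hQ) (fun x hx _ => hCQ hx) hχ₀ h)⟩
  have hfull : ∀ D : Subgroup G, IsDefectGroup p M B D → ∃ S : Sylow p G, D = S := by
    intro D hD
    have hDp : IsPGroup p D := by
      obtain ⟨g, -, S, rfl⟩ := hD
      exact S.isPGroup'.map _
    have h1 := (fong_covering hM (isPBlock_singleton hM hKp θ)
      (fun φ hφ g => by rw [Set.mem_singleton_iff.1 hφ, hinv]; rfl) hB
      ⟨χ₀, mem_blockOf_self χ₀, θ, rfl, hχ₀⟩ (fun B' hB' ⟨χ, hχ, φ, hφ, hne⟩ => by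
        rw [Set.mem_singleton_iff.1 hφ] at hne
        rw [isPBlock_eq_of_mem hB' hB hχ ((hmem χ).2 hne)]) hD).1
    obtain ⟨j, hj⟩ := IsPGroup.iff_card.1 hDp
    have h2 : Nat.card (D ⊔ K : Subgroup G) ∣ Nat.card D * Nat.card K := by
      have e1 := (K.subgroupOf (D ⊔ K)).card_mul_index
      rw [Nat.card_congr (Subgroup.subgroupOfEquivOfLe le_sup_right).toEquiv, ← Subgroup.relIndex,
        Subgroup.relIndex_sup_right] at e1
      rw [← e1, mul_comm]
      exact Nat.mul_dvd_mul_right (Subgroup.relIndex_dvd_card _ _) _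
    obtain ⟨S⟩ := (inferInstance : Nonempty (Sylow p G))
    have h3 : Nat.card (S : Subgroup G) ∣ Nat.card D := by
      obtain ⟨a, ha⟩ := IsPGroup.iff_card.1 S.isPGroup'
      rw [ha]
      have h4 : p ^ a ∣ Nat.card (D ⊔ K : Subgroup G) * (D ⊔ K).index := by
        rw [Subgroup.card_mul_index, ← ha]
        exact Subgroup.card_subgroup_dvd_card _
      exact (Nat.Coprime.pow_left a (hp.coprime_iff_not_dvd.2 hKp)).dvd_of_dvd_mul_right
        (((Nat.Coprime.pow_left a (hp.coprime_iff_not_dvd.2 h1)).dvd_of_dvd_mul_right h4).trans h2)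
    obtain ⟨S', hS'⟩ := hDp.exists_le_sylow
    refine ⟨S', Subgroup.eq_of_le_of_card_ge hS' ?_⟩
    rw [S'.card_eq_multiplicity, ← S.card_eq_multiplicity]
    exact Nat.le_of_dvd Nat.card_pos h3
  have hsyl : ∀ S : Sylow p G, IsDefectGroup p M B S := by
    intro S
    obtain ⟨D, hD⟩ := exists_isDefectGroup hM hB
    obtain ⟨S', rfl⟩ := hfull D hD
    obtain ⟨g, hg⟩ := MulAction.exists_smul_eq G S' S
    rw [← hg]
    exact defectGroup_conj hM hB hD g
  refine ⟨B, hB, hmem, hsyl, hfull, fun R hR => ?_⟩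
  set C := Subgroup.centralizer (R : Set G) with hC
  have := Fintype.ofFinite C
  obtain ⟨S, hS⟩ := hR.exists_le_sylow
  obtain ⟨f, hf⟩ := exists_isBrauerPairOf hM hB hR
    ((exists_le_conj_iff_coeff hM hB (hsyl S) hR).2 ⟨1, by
      rwa [show MulAut.conj (1 : G) = 1 from map_one _, show
        (S : Subgroup G).map (1 : MulAut G).toMonoidHom = S from Subgroup.map_id _]⟩)
  refine ⟨f, isInducedBlock_of_isBrauerPairOf hM hf, fun f' hf' => ?_⟩
  have hfB := isInducedBlock_of_isBrauerPairOf hM hf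
  obtain ⟨ξ, hξ⟩ := isPBlock_nonempty hfB.1
  obtain ⟨ξ', hξ'⟩ := isPBlock_nonempty hf'.1
  have := Fintype.ofFinite (K.subgroupOf C)
  obtain ⟨β, a, ha, hx, hβ⟩ := exists_restrict hM hKp θ hinv hR hC
  have o1 := pair_over_restrict hM hKp θ hinv hR ha hx hχ₀ hfB hξ
  have o2 := pair_over_restrict hM hKp θ hinv hR ha hx hχ₀ hf' hξ'
  set φ := q.comp C.subtype with hφ
  have hker : φ.ker = K.subgroupOf C := by
    rw [hφ, ← MonoidHom.comap_ker, hq, QuotientGroup.ker_mk']
    rfl
  have hKp' : ¬ p ∣ Nat.card (K.subgroupOf C) := fun h => hKp (h.trans (by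
    rw [← Subgroup.inf_subgroupOf_right, Nat.card_congr
      (Subgroup.subgroupOfEquivOfLe (inf_le_right : K ⊓ C ≤ C)).toEquiv]
    exact Subgroup.card_dvd_of_le inf_le_left))
  have hL'n : (L.subgroupOf C).Normal := Subgroup.Normal.subgroupOf hLn C
  have := Fintype.ofFinite (L.subgroupOf C)
  obtain ⟨Q', hQ'L, hQ', hQ'i⟩ := exists_sylow_le (p := p) (L.subgroupOf C)
  have hidx' : ∃ k : ℕ, (K.subgroupOf C).relIndex (L.subgroupOf C) = p ^ k := by
    obtain ⟨k, hk⟩ := relIndex_ker_comap_pow φ hP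
    exact ⟨k, by rwa [hker] at hk⟩
  have hrange : φ.range = Subgroup.centralizer ((R.map q : Subgroup (G ⧸ K)) : Set (G ⧸ K)) := by
    rw [hφ, MonoidHom.range_comp, Subgroup.range_subtype, hC,
      CfsgLib.Comp.map_centralizer_eq hKc hR]
  refine isPBlock_eq_of_mem hf'.1 hfB.1 hξ' (mem_of_sameBlock hfB.1 hξ
    (sameBlock_of_core (G := C) (K := K.subgroupOf C) (L := L.subgroupOf C) hM
      (show K.subgroupOf C ≤ L.subgroupOf C from Subgroup.comap_mono hKL) hKp' hidx' β hβ hQ' hQ'L
      (exists_coeff_centralizer hM hKp' β hβ hQ') (fun x hx hxo => ?_) o1 o2))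
  -- a `p'`-element centralizing `Q'`
  have hQ'map : Q'.map φ = φ.range ⊓ P := by
    rw [map_eq_map_comap φ hP hQ'L hQ'i, Subgroup.map_comap_eq]
  have hxR : φ x ∈ Subgroup.centralizer ((R.map q : Subgroup (G ⧸ K)) : Set (G ⧸ K)) := by
    rw [← hrange]
    exact ⟨x, rfl⟩
  have hxo' : ¬ p ∣ orderOf (φ x) := fun h => hxo (h.trans (orderOf_map_dvd φ x))
  have hxc : φ x ∈ Subgroup.centralizer ((P ⊓ Subgroup.centralizer
      ((R.map q : Subgroup (G ⧸ K)) : Set (G ⧸ K)) : Subgroup (G ⧸ K)) : Set (G ⧸ K)) := by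
    rw [← hrange, inf_comm, ← hQ'map, Subgroup.mem_centralizer_iff]
    rintro _ ⟨y, hy, rfl⟩
    rw [← map_mul, ← map_mul, Subgroup.mem_centralizer_iff.1 hx y hy]
  have hPn := CfsgLib.Solvable.pCore_normal p (G ⧸ K)
  have h1 : Subgroup.zpowers (φ x) ≤ Subgroup.centralizer (P : Set (G ⧸ K)) :=
    CfsgLib.Comp.le_centralizer_of_centralizes_fixed hP (hR.map q)
      (by rw [Nat.card_zpowers]; exact (hp.coprime_iff_not_dvd.2 hxo').symm)
      (by rw [Subgroup.normalizer_eq_top]; exact le_top)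
      (by rw [Subgroup.normalizer_eq_top]; exact le_top)
      (Subgroup.zpowers_le.2 hxR) (Subgroup.zpowers_le.2 hxc)
  have h2 : φ x ∈ P := hcons (h1 (Subgroup.mem_zpowers _))
  exact h2

end Main

end CfsgLib.BlockA
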