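import Cfsg.Agent.Lib.BlockA.BlockFusion

/-! Nilpotent blocks and blocks with abelian defect group. -/

set_option autoImplicit false
set_option linter.unusedSectionVars false
set_option maxHeartbeats 1000000

namespace CfsgLib.BlockA

open Cfsg CfsgLib.Block MonoidAlgebra CfsgLib.Fusion

universe u

variable {G : Type u} [Group G] [Finite G] {p : ℕ} {M : Ideal AlgInt} [M.IsPrime]

local notation "cen" Q => Subgroup.centralizer ((Q : Subgroup G) : Set G)

variable (hM : IsPModular p M)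
include hM

variable {P : Subgroup G} {e : Set (IrrCharacter (Subgroup.centralizer (P : Set G)))}
  {B : Set (IrrCharacter G)} {F : FusionSystem P}

/-- The automorphism groups of the fusion system of a nilpotent block are `p`-groups. -/
theorem isPGroup_autGroup_of_nilpotent (hF : IsBlockFusionSystemOn p M B P e F)
    (hnil : IsNilpotentBlock p M B) {Q : Subgroup G} (hQ : Q ≤ P) :
    IsPGroup p (F.autGroup Q) := by
  have he := hF.1.1.1
  rintro ⟨α, hα⟩
  obtain ⟨-, g, hg, hfus⟩ := (isMap_iff hM hF).1 (isMap_of_autGroup hQ hα)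
  have hgx : ∀ x : Q, ((α x : Q) : G) = g * (x : G) * g⁻¹ := fun x => by
    rw [← hg x x.2, toFun_aut_apply α x.2]
  have hgN := mem_normalizer_of_aut hgx
  obtain ⟨f, hfb, hle⟩ := exists_subpair hM he _ Q hQ rfl
  have hst := mem_pairStab_of_fus hM he hle hfus hgN
  obtain ⟨k, m, hm, hord⟩ := Nat.exists_eq_pow_mul_and_not_dvd (orderOf_pos g).ne' p hM.1.ne_one
  refine ⟨k, Subtype.ext (MulEquiv.ext fun x => Subtype.ext ?_)⟩
  have hreg : IsPRegular p (g ^ p ^ k) := by
    unfold IsPRegular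
    rw [orderOf_pow' g (pow_ne_zero k hM.1.ne_zero), hord, Nat.gcd_mul_right_left,
      Nat.mul_div_cancel_left _ (pow_pos hM.1.pos k)]
    exact hm
  have hc : g ^ p ^ k ∈ cen Q :=
    hnil.2 Q f ((isBrauerPairOf_iff_of_le hM he hle hF.1.1.2.1).1 hF.1.1) _
      (pow_mem hgN _) (stabilizesBlock_of_mem hM hfb ((pairStab M Q f).pow_mem hst _)) hreg
  have hpow : ∀ (n : ℕ) (x : Q), (((α ^ n) x : Q) : G) = g ^ n * (x : G) * (g ^ n)⁻¹ := by
    intro n
    induction n with
    | zero => intro x; simp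
    | succ n ih =>
      intro x
      rw [pow_succ', MulAut.mul_apply, hgx, ih, pow_succ']
      group
  show (((((⟨α, hα⟩ : F.autGroup Q) ^ p ^ k : F.autGroup Q) : MulAut Q) x : Q) : G) = _
  rw [SubmonoidClass.coe_pow, hpow, ← Subgroup.mem_centralizer_iff.1 hc x x.2,
    mul_inv_cancel_right]
  rfl

/-- **A nilpotent block has the inner fusion system.** -/
theorem eq_inner_of_nilpotent [Fact p.Prime] (hF : IsBlockFusionSystemOn p M B P e F)
    (hnil : IsNilpotentBlock p M B) : F = innerFusionSystem P :=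
  eq_inner_of_pGroup hF.1.1.1.1 (isSaturated_block hM hF) fun _ hQ =>
    isPGroup_autGroup_of_nilpotent hM hF hnil (hQ.elim le_of_eq fun h => h.2.1.1)

/-- **A block with inner fusion system is nilpotent.** -/
theorem nilpotent_of_inner [Fact p.Prime] (hF : IsBlockFusionSystemOn p M B P e F)
    (hin : ∀ Q : Subgroup G, F.Hom Q = (innerFusionSystem P).Hom Q) : IsNilpotentBlock p M B := by
  refine ⟨hF.1.1.2.1, fun Q f hQf x hx hst hreg => ?_⟩
  obtain ⟨y, hy⟩ := exists_conj_le_maximal hM hF.1 hQf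
  set Q' := Q.map (MulAut.conj y).toMonoidHom with hQ'
  have hz : y * x * y⁻¹ ∈ pairStab M Q' (conjBlock Q y f) := by
    show y * x * y⁻¹ ∈ pairStab M (Q.map (MulAut.conj y).toMonoidHom) (conjBlock Q y f)
    rw [pairStab_conj hM, mem_map_conj_iff]
    have e1 : y⁻¹ * (y * x * y⁻¹) * y = x := by group
    rw [e1]
    exact ⟨hx, (stabilizesBlock_iff_coeff hM hQf.1.2 hx).1 hst⟩
  set z := y * x * y⁻¹ with hzdef
  have hfus := isFus_of_mem_pairStab hM hF.1.1.1 hy hz
  have hmem : conjHom Q' z ∈ F.Hom Q' :=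
    (hF.2 Q' _).2 ⟨subpairLE_le hy, z, fun _ => rfl, hfus⟩
  rw [hin] at hmem
  obtain ⟨-, w, hw, hagree⟩ := hmem
  have hagree' : ∀ q ∈ Q', z * q * z⁻¹ = w * q * w⁻¹ := fun q hq => hagree ⟨q, hq⟩
  have hwN : w ∈ Subgroup.normalizer (Q' : Set G) := by
    refine mem_normalizer_of_map_le ?_
    rw [← map_conj_eq_of_agree hagree', map_conj_of_mem_normalizer hz.1]
  let ρ := Q'.normalizerMonoidHom
  have hρ : ρ ⟨z, hz.1⟩ = ρ ⟨w, hwN⟩ := MulEquiv.ext fun q => Subtype.ext (hagree' q q.2)
  have hzo : orderOf z = orderOf x :=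
    MulEquiv.orderOf_eq (MulAut.conj y) x
  obtain ⟨k, hk⟩ := hF.1.1.1.1 ⟨w, hw⟩
  have hwk : (⟨w, hwN⟩ : Subgroup.normalizer (Q' : Set G)) ^ p ^ k = 1 :=
    Subtype.ext (by simpa using congrArg Subtype.val hk)
  have hd1 : orderOf (ρ ⟨z, hz.1⟩) ∣ orderOf x := by
    rw [← hzo, ← Subgroup.orderOf_mk z hz.1]
    exact orderOf_map_dvd ρ _
  have hd2 : orderOf (ρ ⟨z, hz.1⟩) ∣ p ^ k := by
    rw [hρ, orderOf_dvd_iff_pow_eq_one, ← map_pow, hwk, map_one]
  have hone : ρ ⟨z, hz.1⟩ = 1 := orderOf_eq_one_iff.1 (Nat.eq_one_of_dvd_coprimes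
    (Nat.Coprime.pow_left k (hM.1.coprime_iff_not_dvd.2 hreg)) hd2 hd1)
  rw [Subgroup.mem_centralizer_iff]
  intro q hq
  have h1 : z * (y * q * y⁻¹) * z⁻¹ = y * q * y⁻¹ :=
    congrArg (fun t : MulAut Q' => ((t ⟨y * q * y⁻¹, ⟨q, hq, rfl⟩⟩ : Q') : G)) hone
  have h2 : x * q * x⁻¹ = q := by
    calc x * q * x⁻¹ = y⁻¹ * (z * (y * q * y⁻¹) * z⁻¹) * y := by rw [hzdef]; group
      _ = q := by rw [h1]; group
  calc q * x = x * q * x⁻¹ * x := by rw [h2]
    _ = x * q := by group

/-- With abelian `P`, every fusion map comes from the stabiliser of `(P, e)`. -/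
theorem exists_mem_stab_of_abelian (hmax : IsMaximalBrauerPair p M B P e)
    (hab : ∀ x ∈ P, ∀ y ∈ P, x * y = y * x) {Q : Subgroup G} {g : G}
    (hg : IsFus p M P e Q g) :
    ∃ c ∈ cen (Q.map (MulAut.conj g).toMonoidHom), c * g ∈ pairStab M P e := by
  have he := hmax.1.1
  obtain ⟨hgP, f, hf, hgf⟩ := hg
  set Q' := Q.map (MulAut.conj g).toMonoidHom with hQ'
  have hPC : P ≤ cen Q' := fun u hu =>
    Subgroup.mem_centralizer_iff.2 fun q hq => hab q (hgP hq) u hu
  have hgPC : P.map (MulAut.conj g).toMonoidHom ≤ cen Q' := by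
    rw [hQ', ← map_conj_centralizer]
    exact Subgroup.map_mono fun u hu =>
      Subgroup.mem_centralizer_iff.2 fun q hq => hab q (subpairLE_le hf hq) u hu
  have hfp := isBrauerPair_of_subpairLE he hgf
  have hF' := isBlockOver_cen (M := M) hfp.2
  have hd : p ^ blockDefect p (conjBlock Q g f) ≤ Nat.card P := by
    obtain ⟨D, hD⟩ := exists_isDefectGroup hM hfp.2
    have hRD : (D.map (cen Q').subtype).subgroupOf (cen Q') = D :=
      Subgroup.comap_map_eq_self_of_injective (Subgroup.subtype_injective _) D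
    obtain ⟨k, hk⟩ := exists_pair_of_le_defect hM hF' hfp (centralizer_le_pairStab (M := M) Q' _)
      (Subgroup.map_subtype_le D) hD hRD.le
    have hkB := (isBrauerPairOf_iff_of_le hM hk.2.1 (Relation.ReflTransGen.single hk) hmax.1.2.1).2
      ((isBrauerPairOf_iff_of_le hM he hgf hmax.1.2.1).1 hmax.1)
    obtain ⟨y, hy⟩ := exists_le_conj_defectGroup hM hkB (maximal_core hM hmax).1
    rw [← natCard_defectGroup hM hfp.2 hD,
      ← Subgroup.card_map_of_injective (Subgroup.subtype_injective (cen Q')) (K := D),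
      ← natCard_map_conj P y]
    exact Subgroup.card_le_of_le (le_sup_right.trans hy)
  obtain ⟨c, hc, hcle⟩ := exists_conj_le_local hM hF' le_rfl
    (Subgroup.centralizer_le_normalizer _) he (isBrauerPair_conj hM he g) hgf
    (subpairLE_conj hM hf g) hPC hgPC hd
  refine ⟨c, hc, mem_pairStab_of_conjIdx hM ?_⟩
  rw [← conjIdx_comp hM he.2 g c]
  exact idx_eq_of_below hM he
    (Subgroup.eq_of_le_of_card_ge (subpairLE_le hcle) (by rw [natCard_map_conj, natCard_map_conj]))
    hcle Relation.ReflTransGen.refl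

/-- **Nilpotency with abelian defect group.** -/
theorem nilpotent_iff_abelian [Fact p.Prime] (hmax : IsMaximalBrauerPair p M B P e)
    (hab : ∀ x ∈ P, ∀ y ∈ P, x * y = y * x) :
    IsNilpotentBlock p M B ↔ pairStab M P e ≤ cen P := by
  have he := hmax.1.1
  constructor
  · intro hnil x hx
    have hF := isBlockFusionSystemOn_blockFusion hM hmax
    have h := (hF.2 P (conjHom P x)).2
      ⟨le_rfl, x, fun _ => rfl, isFus_of_mem_pairStab hM he Relation.ReflTransGen.refl hx⟩
    rw [eq_inner_of_nilpotent hM hF hnil] at h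
    obtain ⟨-, w, hw, hagree⟩ := h
    rw [Subgroup.mem_centralizer_iff]
    intro q hq
    have h1 : x * q * x⁻¹ = w * q * w⁻¹ := hagree ⟨q, hq⟩
    rw [hab w hw q hq, mul_inv_cancel_right] at h1
    conv_lhs => rw [← h1]
    group
  · intro hst
    refine ⟨hmax.1.2.1, fun Q f hQf x hx hxf _ => ?_⟩
    obtain ⟨y, hy⟩ := exists_conj_le_maximal hM hmax hQf
    set Q' := Q.map (MulAut.conj y).toMonoidHom with hQ'
    have hz : y * x * y⁻¹ ∈ pairStab M Q' (conjBlock Q y f) := by
      show y * x * y⁻¹ ∈ pairStab M (Q.map (MulAut.conj y).toMonoidHom) (conjBlock Q y f)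
      rw [pairStab_conj hM, mem_map_conj_iff]
      have e1 : y⁻¹ * (y * x * y⁻¹) * y = x := by group
      rw [e1]
      exact ⟨hx, (stabilizesBlock_iff_coeff hM hQf.1.2 hx).1 hxf⟩
    obtain ⟨c, hc, hcz⟩ := exists_mem_stab_of_abelian hM hmax hab
      (isFus_of_mem_pairStab hM he hy hz)
    rw [map_conj_of_mem_normalizer hz.1] at hc
    have h1 : y * x * y⁻¹ ∈ cen Q' := by
      have h2 := (Subgroup.mul_mem _ (inv_mem hc)
        (centralizer_le_centralizer (subpairLE_le hy) (hst hcz)))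
      simpa using h2
    rw [hQ', ← map_conj_centralizer, mem_map_conj_iff] at h1
    simpa [mul_assoc] using h1

/-- The blocks below a nilpotent block are nilpotent. -/
theorem nilpotent_below (hnil : IsNilpotentBlock p M B) {Q : Subgroup G}
    {f : Set (IrrCharacter (cen Q))} (hQf : IsBrauerPairOf p M B Q f) :
    IsNilpotentBlock p M f := by
  refine ⟨hQf.1.2, fun R d hRd x hx hxd hreg => ?_⟩
  set S := Q ⊔ R.map (cen Q).subtype with hS
  have hRC : R.map (cen Q).subtype ≤ cen Q := Subgroup.map_subtype_le R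
  have h : CenEq R S := by
    refine (cenEq_iff R S).2 ⟨centralizer_le_centralizer le_sup_left, fun t => ?_⟩
    rw [Subgroup.mem_centralizer_iff]
    constructor
    · intro ht
      have hle : S ≤ Subgroup.centralizer ({(t : G)} : Set G) := by
        refine sup_le (fun q hq => ?_) ?_
        · rw [Subgroup.mem_centralizer_singleton_iff]
          exact Subgroup.mem_centralizer_iff.1 t.2 q hq
        · rintro _ ⟨r, hr, rfl⟩
          rw [Subgroup.mem_centralizer_singleton_iff]
          exact congrArg Subtype.val (ht r hr)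
      exact Subgroup.mem_centralizer_iff.2 fun y hy =>
        Subgroup.mem_centralizer_singleton_iff.1 (hle hy)
    · intro ht r hr
      exact Subtype.ext (Subgroup.mem_centralizer_iff.1 ht r
        (Subgroup.mem_sup_right ⟨r, hr, rfl⟩))
  obtain ⟨k, hk, rfl⟩ := exists_subBlock_eq h hRd.1.2
  have hSp : IsPGroup p S := hQf.1.1.to_sup_of_normal_left' (hRd.1.1.map _)
    (hRC.trans (Subgroup.centralizer_le_normalizer _))
  obtain ⟨η, hη⟩ := isPBlock_nonempty hk
  have h1 := (isBrauerPairOf_iff hM hRd.1 hQf.1.2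
    (show irrMap (cenIso h) η ∈ subBlock h k from ⟨η, hη, rfl⟩)).1 hRd
  rw [(pairVal_subBlock h η (isCInv_sIdem hM le_sup_left f)
    fun t _ => coeff_blkIdem_over hM (isBlockOver_cen hQf.1.2) t).2] at h1
  have hSst : S ≤ pairStab M Q f :=
    sup_le (le_pairStab Q f) (hRC.trans (centralizer_le_pairStab Q f))
  have hstep : IsNormalSubpair p M Q f S k :=
    (isNormalSubpair_iff hM hη ⟨hSp, hk⟩ hQf.1).2 ⟨le_sup_left, hSst.trans (pairStab_le Q f),
      fun y hy => stabilizesBlock_of_mem hM hQf.1.2 (hSst hy), h1⟩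
  have hSB : IsBrauerPairOf p M B S k :=
    (isBrauerPairOf_iff_of_le hM ⟨hSp, hk⟩ (Relation.ReflTransGen.single hstep) hQf.2.1).2 hQf
  have hxN : (x : G) ∈ Subgroup.normalizer (S : Set G) := by
    refine mem_normalizer_of_map_le ?_
    rw [hS, Subgroup.map_sup]
    refine sup_le_sup (map_conj_of_mem_normalizer (Subgroup.centralizer_le_normalizer _ x.2)).le ?_
    rintro _ ⟨_, ⟨r, hr, rfl⟩, rfl⟩
    exact ⟨x * r * x⁻¹, (Subgroup.mem_normalizer_iff.1 hx r).1 hr, rfl⟩
  have hxst : StabilizesBlock (cen S) k (x : G) := by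
    rw [stabilizesBlock_iff_coeff hM hk hxN]
    intro g
    have hxd' := (stabilizesBlock_iff_coeff hM (isPBlock_subBlock h hk) hx).1 hxd
    by_cases hg : g ∈ cen S
    · have := hxd' ⟨g, ((cenEq_iff R S).1 h).1 hg⟩
      rw [coeff_sIdem_subBlock, coeff_sIdem_subBlock] at this
      simpa using this
    · have hg' : (x : G)⁻¹ * g * x ∉ cen S := fun hh => hg (by
        simpa [mul_assoc] using (Subgroup.mem_normalizer_iff.1
          (normalizer_le_normalizer_centralizer hM S hxN) _).1 hh)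
      rw [sIdem, coeff_inclSub_of_not_mem _ _ hg, coeff_inclSub_of_not_mem _ _ hg']
  have hxS := hnil.2 S k hSB (x : G) hxN hxst
    (fun hh => hreg (by rwa [Subgroup.orderOf_coe] at hh))
  exact (((cenEq_iff R S).1 h).2 x).2 hxS

/-- In a nilpotent block `C_P(Q)` is a defect group of the block below. -/
theorem nilpotent_centralizer_defect [Fact p.Prime] (hmax : IsMaximalBrauerPair p M B P e)
    (hnil : IsNilpotentBlock p M B) {Q : Subgroup G} {f : Set (IrrCharacter (cen Q))}
    (hle : SubpairLE p M Q f P e) :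
    IsDefectGroup p M f ((P ⊓ (cen Q)).subgroupOf (cen Q)) := by
  have he := hmax.1.1
  have hF := isBlockFusionSystemOn_blockFusion hM hmax
  have hfb := (isBrauerPair_of_subpairLE he hle).2
  refine (inf_isDefectGroup_iff hM (isBlockOver_cen hfb) le_rfl (centralizer_le_pairStab Q f) he
    hle).2 ((fullyCentralized_iff hM hF hle).1 ⟨subpairLE_le hle, fun R hR => ?_⟩)
  rw [eq_inner_of_nilpotent hM hF hnil] at hR
  obtain ⟨φ, ⟨hQ, w, hw, hφ⟩, rfl⟩ := hR
  rw [range_eq_map_conj hφ]
  show Nat.card ↥(P ⊓ (cen _)) ≤ Nat.card ↥(P ⊓ (cen Q))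
  conv_lhs => rw [← map_conj_of_mem_normalizer (Subgroup.le_normalizer hw : w ∈
    Subgroup.normalizer (P : Set G))]
  rw [← map_conj_centralizer, ← Subgroup.map_inf _ _ _ (MulAut.conj w).injective,
    natCard_map_conj]

end CfsgLib.BlockA
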