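import Cfsg.Agent.Lib.BlockA.PairSub
import Cfsg.Agent.Lib.BlockA.BlockNilp
import Cfsg.Agent.Lib.BlockA.SectionNorms
import Cfsg.Agent.Lib.BlockA.PairNorm
import Cfsg.Agent.Lib.Block.FirstMain

/-! The block of `C(Q)` below a pair on an abelian `p`-group: block induction inside `C(Q)`,
maximal pairs and nilpotency. -/

set_option autoImplicit false
set_option linter.unusedSectionVars false

namespace CfsgLib.BlockA.CentralizerBlock

open Cfsg CfsgLib.Block CfsgLib.BlockA MonoidAlgebra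

universe u

variable {G : Type u} [Group G] [Finite G] {p : ℕ} [hp : Fact p.Prime] {M : Ideal AlgInt}
  [M.IsPrime]

local notation "cen" Q => Subgroup.centralizer ((Q : Subgroup G) : Set G)

theorem le_cen_of_le {P Q : Subgroup G} (hab : ∀ x ∈ P, ∀ y ∈ P, x * y = y * x) (hQ : Q ≤ P) :
    P ≤ (cen Q) := fun x hx =>
  Subgroup.mem_centralizer_iff.2 fun y hy => hab y (hQ hy) x hx

/-- Induction inside a subgroup, read in the subgroup. -/
theorem isInducedBlockIn_iff {Q S : Subgroup G}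
    (h : CenEq (S.subgroupOf (cen Q)) S) {c : Set (IrrCharacter (cen S))} (hc : IsPBlock M c)
    (f : Set (IrrCharacter (cen Q))) :
    IsInducedBlockIn M (cen Q) (cen S) c f ↔
      IsInducedBlock M (Subgroup.centralizer
        ((S.subgroupOf (cen Q) : Subgroup (cen Q)) : Set (cen Q))) (subBlock h c) f := by
  have key : ∀ (ξ : IrrCharacter (cen S)) (n : (cen Q)),
      inducedCentralChar (Subgroup.centralizer
        ((S.subgroupOf (cen Q) : Subgroup (cen Q)) : Set (cen Q))) (irrMap (cenIso h) ξ : _ → ℂ) n =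
      inducedCentralCharIn (cen Q) (cen S) (ξ : _ → ℂ) (n : G) := by
    intro ξ n
    rw [inducedCentralChar, inducedCentralCharIn]
    refine finsum_mem_eq_of_bijOn (cenIso h) ⟨?_, (cenIso h).injective.injOn, ?_⟩ fun k _ => ?_
    · intro k hk
      obtain ⟨c, hc⟩ := isConj_iff.1 hk
      refine ⟨c⁻¹, ?_⟩
      rw [coe_cenIso, ← hc]
      push_cast
      group
    · rintro l ⟨x, hx⟩
      refine ⟨(cenIso h).symm l, isConj_iff.2 ⟨x⁻¹, Subtype.ext ?_⟩,
        (cenIso h).apply_symm_apply l⟩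
      have hl := coe_cenIso h ((cenIso h).symm l)
      rw [MulEquiv.apply_symm_apply] at hl
      push_cast
      rw [← hl, ← hx]
      group
    · rw [irrMap_apply, irrMap_apply, map_one]
  constructor
  · intro hi
    refine ⟨isPBlock_subBlock h hc, hi.2.1, ?_⟩
    rintro _ ⟨ξ, hξ, rfl⟩ χ hχ n
    rw [key]
    exact hi.2.2 ξ hξ χ hχ n
  · intro hi
    refine ⟨hc, hi.2.1, fun ξ hξ χ hχ n => ?_⟩
    rw [← key]
    exact hi.2.2 _ ⟨ξ, hξ, rfl⟩ χ hχ n

variable (hM : IsPModular p M) {B : Set (IrrCharacter G)} {P : Subgroup G}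
  {c : Set (IrrCharacter (Subgroup.centralizer (P : Set G)))}

include hM in
/-- The block below a pair is the one induced inside `C(Q)`, and its maximal pair. -/
theorem exists_below_data (hmax : IsMaximalBrauerPair p M B P c) (hPD : IsDefectGroup p M B P)
    (hab : ∀ x ∈ P, ∀ y ∈ P, x * y = y * x) {Q : Subgroup G} (hQ : Q ≤ P) :
    ∃ (g : Set (IrrCharacter (cen Q))) (h : CenEq (P.subgroupOf (cen Q)) P),
      IsInducedBlockIn M (cen Q) (cen P) c g ∧ IsInducedBlock M (cen Q) g B ∧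
      IsMaximalBrauerPair p M g (P.subgroupOf (cen Q)) (subBlock h c) ∧
      ∀ f, IsInducedBlockIn M (cen Q) (cen P) c f → f = g := by
  classical
  have := Fintype.ofFinite G
  have := Fintype.ofFinite (cen Q)
  obtain ⟨g, hg, hgle⟩ := exists_subpair hM hmax.1.1 _ Q hQ rfl
  have hDH := le_cen_of_le hab hQ
  obtain ⟨h₁, h₂, hle⟩ := subpairLE_subBlock hM hgle hDH le_rfl
  have hD' : IsBrauerPair p M (P.subgroupOf (cen Q)) (subBlock h₂ c) :=
    isBrauerPair_subBlock h₂ hmax.1.1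
  have hQpair : IsBrauerPair p M (Q.subgroupOf (cen Q)) (subBlock h₁ g) :=
    isBrauerPair_of_subpairLE hD' hle
  have hBQ : IsBrauerPairOf p M g (Q.subgroupOf (cen Q)) (subBlock h₁ g) := by
    obtain ⟨ξ, hξ⟩ := isPBlock_nonempty hg
    rw [isBrauerPairOf_iff hM hQpair hg
      (show irrMap (cenIso h₁) ξ ∈ subBlock h₁ g from ⟨ξ, hξ, rfl⟩)]
    have hcoef : ∀ t : (cen Q), (t : G) ∈ (cen Q) →
        (blkIdem M g : MonoidAlgebra (kres M) (cen Q)).coeff t =
          (sIdem M (cen Q) g).coeff (t : G) := by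
      intro t _
      rw [sIdem, coeff_inclSub_of_mem]
    rw [(pairVal_subBlock h₁ ξ (isCInv_sIdem hM le_rfl g) hcoef).2,
      pairVal_sIdem hM hg, if_pos hξ]
  have hBD := (isBrauerPairOf_iff_of_le hM hD' hle hg).2 hBQ
  have hind := isInducedBlock_of_isBrauerPairOf hM hBD
  have hQB : IsInducedBlock M (cen Q) g B :=
    isInducedBlock_of_isBrauerPairOf hM
      ((isBrauerPairOf_iff_of_le hM hmax.1.1 hgle hmax.1.2.1).1 hmax.1)
  obtain ⟨D, hD⟩ := exists_isDefectGroup (p := p) hM hg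
  obtain ⟨E, hE, hDE⟩ := exists_map_subtype_le_defect hM hQB hD
  have hcard : Nat.card D ≤ Nat.card (P.subgroupOf (cen Q)) := by
    obtain ⟨x, hx⟩ := defectGroup_exists_conj hM hmax.1.2.1 hPD hE
    rw [Nat.card_congr (Subgroup.subgroupOfEquivOfLe hDH).toEquiv,
      ← Subgroup.card_map_of_injective (Subgroup.subtype_injective (cen Q))]
    refine (Subgroup.card_le_of_le hDE).trans ?_
    rw [hx, natCard_map_conj]
  refine ⟨g, h₂, (isInducedBlockIn_iff h₂ hmax.1.1.2 g).2 hind, hQB, isMaximal_of_card hM hBD hD hcard,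
    fun f hf => isInducedBlock_unique _ ((isInducedBlockIn_iff h₂ hmax.1.1.2 f).1 hf) hind⟩

include hM in
/-- Nilpotency of the local blocks, by the stabilizer. -/
theorem nilpotent_iff (hmax : IsMaximalBrauerPair p M B P c) (hPD : IsDefectGroup p M B P)
    (hab : ∀ x ∈ P, ∀ y ∈ P, x * y = y * x) {Q : Subgroup G} (hQ : Q ≤ P)
    {f : Set (IrrCharacter (cen Q))} (hf : IsInducedBlockIn M (cen Q) (cen P) c f) :
    IsNilpotentBlock p M f ↔ ∀ t ∈ pairStab M P c, t ∈ (cen Q) → t ∈ (cen P) := by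
  obtain ⟨g, h, -, -, hmax', huniq⟩ := exists_below_data hM hmax hPD hab hQ
  obtain rfl := huniq f hf
  have hDH := le_cen_of_le hab hQ
  rw [nilpotent_iff_abelian hM hmax' (fun x hx y hy => Subtype.ext (hab _ hx _ hy))]
  have hst : ∀ t : (cen Q), (t : G) ∈ pairStab M P c ↔
      t ∈ pairStab M (P.subgroupOf (cen Q)) (subBlock h c) := by
    intro t
    change _ ∧ _ ↔ _ ∧ _
    constructor
    · rintro ⟨h1, h2⟩
      refine ⟨(mem_normalizer_subgroupOf hDH t).2 h1, ?_⟩
      rw [← stabilizesBlock_iff_coeff hM (isPBlock_subBlock h hmax.1.1.2)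
        ((mem_normalizer_subgroupOf hDH t).2 h1), stabilizesBlock_subBlock hM hDH h hmax.1.1.2 t h1,
        stabilizesBlock_iff_coeff hM hmax.1.1.2 h1]
      exact h2
    · rintro ⟨h1, h2⟩
      have h1' := (mem_normalizer_subgroupOf hDH t).1 h1
      refine ⟨h1', ?_⟩
      rw [← stabilizesBlock_iff_coeff hM hmax.1.1.2 h1',
        ← stabilizesBlock_subBlock hM hDH h hmax.1.1.2 t h1',
        stabilizesBlock_iff_coeff hM (isPBlock_subBlock h hmax.1.1.2) h1]
      exact h2
  constructor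
  · intro hle t ht htQ
    exact ((cenEq_iff _ P).1 h).2 ⟨t, htQ⟩ |>.1 (hle ((hst ⟨t, htQ⟩).1 ht))
  · intro hh t ht
    exact (((cenEq_iff _ P).1 h).2 t).2 (hh _ ((hst t).2 ht) t.2)

end CfsgLib.BlockA.CentralizerBlock
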