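import Cfsg.Agent.Lib.BlockA.BrauerFeit
import Cfsg.Agent.Lib.BlockA.CoverSub
import Cfsg.Agent.Lib.Block.CyclicCount

/-! Blocks of defect one have the shape of a star. -/

set_option autoImplicit false
set_option linter.unusedSectionVars false

namespace CfsgLib.BlockA.DefectOneStar

open Cfsg CfsgLib.Block CfsgLib.BlockA MonoidAlgebra

universe u

variable {G : Type u} [Group G] [Finite G] {p : ℕ} {M : Ideal AlgInt} [M.IsPrime]

local notation "cen" Q => Subgroup.centralizer ((Q : Subgroup G) : Set G)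

/-- A maximal pair on a defect group. -/
theorem exists_maximal_pair (hM : IsPModular p M) {B : Set (IrrCharacter G)} (hB : IsPBlock M B)
    {D : Subgroup G} (hD : IsDefectGroup p M B D) :
    ∃ e : Set (IrrCharacter (cen D)), IsMaximalBrauerPair p M B D e := by
  classical
  have := Fact.mk hM.1
  have hDp := isPGroup_defectGroup hM hB hD
  have hbc : IsClassCoeff (blkIdem M B : MonoidAlgebra (kres M) G) :=
    isClassCoeff_center (blkIdem M B)
  have hp : IsPInv D (blkIdem M B : MonoidAlgebra (kres M) G) := isPInv_of_isClassCoeff hbc D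
  set z := inclSub (cen D) (resSub (cen D) (blkIdem M B : MonoidAlgebra (kres M) G)) with hz
  obtain ⟨c, hc, hc0⟩ := (exists_le_conj_iff_coeff hM hB hD hDp).2
    ⟨1, by rw [map_conj_one]⟩
  have hz0 : z ≠ 0 := fun h => hc0 (by
    have h1 := congrArg (fun a : MonoidAlgebra (kres M) G => a.coeff c) h
    simp only [hz, coeff_zero, Finsupp.zero_apply] at h1
    rwa [show c = ((⟨c, hc⟩ : (cen D)) : G) from rfl, coeff_inclSub_of_mem, coeff_resSub] at h1)
  have hid : z * z = z := by
    rw [hz, ← map_mul, ← resSub_mul hM hDp hp hp, ← MulMemClass.coe_mul, blkIdem_idem hM hB]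
  have hinv : IsPInv (cen D) z := fun u hu x =>
    inclSub_conj_invariant (cen D) (resSub_isClassCoeff _ hbc) hu x
  obtain ⟨e, he, hmul⟩ := exists_mul_sIdem hM (H := cen D)
    (fun x hx => coeff_inclSub_of_not_mem _ _ hx) hid hinv hz0
  have hep : IsBrauerPair p M D e := ⟨hDp, he⟩
  refine ⟨e, isMaximal_of_card hM ((isBrauerPairOf_iff_mul hM hep hB).2 ?_) hD le_rfl⟩
  have hs : ∀ x ∉ (cen D), z.coeff x = 0 := fun x hx => coeff_inclSub_of_not_mem _ _ hx
  exact (sIdem_mul_comm e hs).trans hmul

/-- **Blocks of defect one are stars.** -/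
theorem isStar_of_defect_one (hM : IsPModular p M) {B : Set (IrrCharacter G)} (hB : IsPBlock M B)
    (hd : blockDefect p B = 1) : BrauerFeit.IsStar p B := by
  classical
  have := Fact.mk hM.1
  have := Fintype.ofFinite G
  obtain ⟨D, hD⟩ := exists_isDefectGroup (p := p) hM hB
  have hcard : Nat.card D = p := by rw [natCard_defectGroup hM hB hD, hd, pow_one]
  have : IsCyclic D := isCyclic_of_prime_card hcard
  obtain ⟨g, hg⟩ := IsCyclic.exists_generator (α := D)
  obtain ⟨e, hmax⟩ := exists_maximal_pair hM hB hD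
  let S : CycBlock G p M := ⟨hM, B, D, e, hmax, g,
    le_antisymm (Subgroup.zpowers_le.2 g.2) fun x hx => by
      obtain ⟨k, hk⟩ := Subgroup.mem_zpowers_iff.1 (hg ⟨x, hx⟩)
      exact Subgroup.mem_zpowers_iff.2 ⟨k, by rw [← Subgroup.coe_zpow, hk]⟩,
    1, le_rfl, by rw [Subgroup.orderOf_coe, orderOf_eq_card_of_forall_mem_zpowers hg, hcard,
      pow_one]⟩
  obtain ⟨t, ht1, ht⟩ := S.exists_t
  obtain ⟨hl, hk⟩ := S.counts ht
  have hfin : (B : Set (IrrCharacter G)).Finite := B.toFinite
  have hkc : hfin.toFinset.card = S.e + t := by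
    rw [← Set.ncard_eq_toFinset_card B hfin, ← Nat.card_coe_set_eq]
    exact hk
  have hta : t * S.e + 1 = p := by
    have h : t * S.e = p ^ (1 : ℕ) - 1 := ht
    rw [pow_one] at h
    have := hM.1.two_le
    omega
  by_cases he1 : S.e = 1
  · obtain ⟨χ₀, hχ₀⟩ := isPBlock_nonempty hB
    refine ⟨{χ₀}, hfin.toFinset.erase χ₀, fun _ => 1, -1, fun η => ?_, ?_, ?_, ?_, ?_,
      fun _ _ => Or.inl rfl, Or.inr rfl, fun ψ hψ y hy => ?_⟩
    · simp only [Finset.mem_singleton, Finset.mem_erase, Set.Finite.mem_toFinset]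
      constructor
      · intro h
        by_cases h' : η = χ₀
        · exact Or.inl h'
        · exact Or.inr ⟨h', h⟩
      · rintro (rfl | ⟨-, h⟩)
        · exact hχ₀
        · exact h
    · exact Finset.disjoint_singleton_left.2 (Finset.notMem_erase _ _)
    · rw [Finset.card_erase_of_mem (hfin.mem_toFinset.2 hχ₀), hkc, he1]
      omega
    · rw [Finset.card_erase_of_mem (hfin.mem_toFinset.2 hχ₀), hkc, Finset.card_singleton, he1]
      rw [he1] at hta
      omega
    · rw [Finset.card_singleton]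
      exact hl.trans he1
    · rw [Finset.sum_singleton, S.regular_eq_of_e_eq_one he1
        (hfin.mem_toFinset.1 (Finset.mem_of_mem_erase hψ)) hχ₀ hy]
      push_cast
      ring
  · obtain ⟨R⟩ := S.nonempty_signedRows fun h => he1 (S.eq_two_of_even h)
    have hsub : R.X ⊆ hfin.toFinset := fun χ hχ => hfin.mem_toFinset.2 (R.hXB χ hχ)
    have hY : (hfin.toFinset \ R.X).card = t := by
      rw [Finset.card_sdiff_of_subset hsub, hkc, R.hXcard]
      omega
    refine ⟨R.X, hfin.toFinset \ R.X, R.δ, R.δ₀, fun η => ?_, Finset.disjoint_sdiff, ?_, ?_,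
      hl.trans R.hXcard.symm, fun χ _ => R.hδ χ, R.hδ₀, fun ψ hψ y hy => ?_⟩
    · simp only [Finset.mem_sdiff, Set.Finite.mem_toFinset]
      constructor
      · intro h
        by_cases h' : η ∈ R.X
        · exact Or.inl h'
        · exact Or.inr ⟨h, h'⟩
      · rintro (h | ⟨h, -⟩)
        · exact R.hXB η h
        · exact h
    · rw [hY]; exact ht1
    · rw [hY, R.hXcard, mul_comm]; exact hta
    · rw [Finset.mem_sdiff, Set.Finite.mem_toFinset] at hψ
      exact R.hrel y hy ψ hψ.1 hψ.2

end CfsgLib.BlockA.DefectOneStar
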