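import Cfsg.Agent.Lib.BlockA.SubsectionCount
import Cfsg.Agent.Lib.Block.MainTheorems

/-! Height-zero characters do not vanish on any subsection of their block. -/

set_option autoImplicit false
set_option linter.unusedSectionVars false
set_option maxHeartbeats 1000000

namespace CfsgLib.BlockA

open Cfsg CfsgLib.Block MonoidAlgebra
open scoped ComplexConjugate

universe u

variable {G : Type u} [Group G] [Fintype G] {p : ℕ} {M : Ideal AlgInt} [M.IsPrime]

open Classical in
/-- Where the regular sum of the block part and of the function agree. -/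
theorem omegaC_regSum_blockPart (hM : IsPModular p M) {H : Type u} [Group H] [Fintype H]
    {b : Set (IrrCharacter H)} (hb : IsPBlock M b) {θ : H → ℂ} (hθ : IsClassFunction H θ)
    {ξ : IrrCharacter H} (hξ : ξ ∈ b) :
    omegaC (ξ : H → ℂ) (regSum p (blockPart b θ)) = omegaC (ξ : H → ℂ) (regSum p θ) := by
  have := Fintype.ofFinite (IrrCharacter H)
  have e1 : blockPart b θ = ∑ ψ : IrrCharacter H,
      (if ψ ∈ b then classInner θ (ψ : H → ℂ) else 0) • (ψ : H → ℂ) := by
    funext h
    simp only [blockPart, finsum_mem_eq_finite_toFinset_sum _ b.toFinite, Finset.sum_apply,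
      Pi.smul_apply, smul_eq_mul, ite_mul, zero_mul]
    rw [← Finset.sum_filter]
    refine Finset.sum_congr (by ext; simp) fun ψ _ => ?_
    congr 1
    unfold classInner
    congr
    exact Subsingleton.elim _ _
  have e2 : θ = ∑ ψ : IrrCharacter H, classInner θ (ψ : H → ℂ) • (ψ : H → ℂ) := by
    funext h
    rw [CfsgLib.Char.classFunction_apply_eq_sum hθ h, Finset.sum_apply]
    rfl
  conv_rhs => rw [e2]
  rw [e1, regSum_sum, regSum_sum, omegaC_sum, omegaC_sum]
  refine Finset.sum_congr rfl fun ψ _ => ?_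
  split_ifs with h
  · rfl
  · rw [regSum_smul, regSum_smul, omegaC_smul, omegaC_smul, omegaC_regSum_eq_zero hM
      (χ := ψ) (φ := ξ) (fun hs => h (mem_of_sameBlock hb hξ (sameBlock_symm hs))), zero_mul,
      mul_zero]

/-- **Height-zero characters on subsections.** -/
theorem exists_blockPart_ne_zero (hM : IsPModular p M) {B : Set (IrrCharacter G)}
    {χ : IrrCharacter G} (hχ : χ ∈ B) (h0 : blockHeight p B (χ : G → ℂ) = 0) {x : G}
    (hx : ∃ k : ℕ, orderOf x = p ^ k)
    {b : Set (IrrCharacter (Subgroup.centralizer ({x} : Set G)))}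
    (hb : IsInducedBlock M (Subgroup.centralizer ({x} : Set G)) b B) :
    ∃ y : Subgroup.centralizer ({x} : Set G), ¬ p ∣ orderOf y ∧
      blockPart b (fun c : Subgroup.centralizer ({x} : Set G) => (χ : G → ℂ) (x * (c : G))) y
        ≠ 0 := by
  classical
  have := Fintype.ofFinite (Subgroup.centralizer ({x} : Set G))
  by_contra hne
  push Not at hne
  set θ : Subgroup.centralizer ({x} : Set G) → ℂ := fun c => (χ : G → ℂ) c with hθdef
  have hθc : IsCharacter _ θ :=
    CfsgLib.Char.isCharacter_restrict (CfsgLib.Char.irr_isCharacter χ.2) _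
  have hθ := CfsgLib.Char.isCharacter_isClassFunction hθc
  have hcl : IsClassFunction (Subgroup.centralizer ({x} : Set G))
      (fun c : Subgroup.centralizer ({x} : Set G) => (χ : G → ℂ) (x * (c : G))) := fun c h => by
    have h1 : (h : G) * x = x * (h : G) := Subgroup.mem_centralizer_singleton_iff.1 h.2
    have h2 : x * ((h * c * h⁻¹ : Subgroup.centralizer ({x} : Set G)) : G) =
        (h : G) * (x * (c : G)) * (h : G)⁻¹ := by
      push_cast
      calc x * ((h : G) * c * (h : G)⁻¹) = (x * (h : G)) * c * (h : G)⁻¹ := by group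
        _ = _ := by rw [← h1]; group
    simp only [h2]
    exact CfsgLib.Char.irr_isClassFunction χ.2 _ _
  obtain ⟨ξ, hξ⟩ := isPBlock_nonempty hb.1
  have hne0 := (lam_regZ_restrict_ne_zero_iff hM hb hξ χ).2 ⟨hχ, h0⟩
  rw [lam_regZ] at hne0
  refine hne0 ((redC_eq_zero_iff (memLocalRing_omegaC ξ.2 (isLocalCentral_regSum hθc))).2 ?_)
  rw [← omegaC_regSum_blockPart hM hb.1 hθ hξ]
  refine memLocalIdeal_omegaC ξ.2 (regSum_isClassCoeff ?_) fun g => ?_
  · intro g h
    rw [blockPart_eq_sum b hθ, blockPart_eq_sum b hθ]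
    refine Fintype.sum_equiv (MulAut.conj h⁻¹).toEquiv _ _ fun k => ?_
    simp only [MulEquiv.toEquiv_eq_coe, MulEquiv.coe_toEquiv, MulAut.conj_apply, inv_inv]
    congr 1
    · have h2 := blockSum_isClassCoeff b k h⁻¹
      simp only [blockSum, coeff_mkGA, inv_inv] at h2
      exact h2.symm
    · rw [← hθ (h⁻¹ * k * h * g) h]
      congr 1
      group
  · rw [coeff_regSum]
    split_ifs with hg
    · exact memLocalIdeal_zero
    have hg' : ¬ p ∣ orderOf g⁻¹ := by rwa [orderOf_inv]
    have hloc : ∀ (t : G) (k : Subgroup.centralizer ({x} : Set G)),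
        MemLocalRing M (blockCoeff b k * (χ : G → ℂ) t) := fun t k =>
      memLocalRing_mul (blockCoeff_memLocalRing hM hb.1 k) (memLocalRing_irr_apply χ t)
    have hmem : MemLocalRing M (blockPart b θ g⁻¹) := by
      rw [blockPart_eq_sum b hθ]
      exact memLocalRing_sum _ _ fun k _ => hloc _ k
    rw [← redC_eq_zero_iff hmem]
    have hz := congrArg (redC M) (hne g⁻¹ hg')
    rw [blockPart_eq_sum b hcl, redC_zero, redC_sum _ _ fun k _ => hloc _ k] at hz
    rw [blockPart_eq_sum b hθ, redC_sum _ _ fun k _ => hloc _ k, ← hz]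
    refine Finset.sum_congr rfl fun k _ => ?_
    rw [redC_mul (blockCoeff_memLocalRing hM hb.1 k) (memLocalRing_irr_apply χ _),
      redC_mul (blockCoeff_memLocalRing hM hb.1 k) (memLocalRing_irr_apply χ _)]
    congr 1
    exact (redC_char_mul_pelement hM (CfsgLib.Char.irr_isCharacter χ.2)
      (Subgroup.mem_centralizer_singleton_iff.1 (k * g⁻¹).2).symm hx).symm

end CfsgLib.BlockA
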