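import Cfsg.Agent.Lib.BlockA.SubsectionUnit
import Cfsg.Agent.Lib.BlockB.SubSum
import Cfsg.Agent.Lib.Block.PermTrace

/-!
The contributions at a major subsection: divisibility by the height, with equality exactly against
the characters of height zero.
-/

set_option autoImplicit false
set_option linter.unusedSectionVars false

namespace CfsgLib.BlockA

open Cfsg MonoidAlgebra CfsgLib.Block CfsgLib.BlockB CfsgLib.BlockB.SubSum
open scoped ComplexConjugate

universe u

variable {G : Type u} [Group G] [Fintype G] {p : ℕ} {M : Ideal AlgInt} [M.IsPrime]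
variable (hM : IsPModular p M) {x : G} (hx : ∃ k : ℕ, orderOf x = p ^ k)
variable [Fintype (Subgroup.centralizer ({x} : Set G))]
variable [Fintype (IrrCharacter G)]
variable {B : Set (IrrCharacter G)}
variable {b : Set (IrrCharacter (Subgroup.centralizer ({x} : Set G)))}
variable (hind : IsInducedBlock M (Subgroup.centralizer ({x} : Set G)) b B)
include hM hx hind

local notation "CC" => Subgroup.centralizer (Singleton.singleton x : Set G)

/-- The contributions are symmetric modulo the ideal. -/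
theorem memLocalIdeal_subEntry_sub_swap (χ ξ : IrrCharacter G) :
    MemLocalIdeal M (subEntry p b χ ξ 1 - subEntry p b ξ χ 1) := by
  classical
  have := Fact.mk hM.1
  obtain ⟨i, hi⟩ := id hx
  have hω : ∀ θ η : IrrCharacter CC,
      MemLocalIdeal M (centralRoot x θ * conj (centralRoot x η) - 1) := fun θ η =>
    memLocalIdeal_root_sub_one hM (n := i) (by
      rw [mul_pow, ← map_pow, ← hi, (centralRoot_spec hM hx θ).2.1,
        (centralRoot_spec hM hx η).2.1, map_one, mul_one])
  let s := sInf ((fun φ : IrrCharacter CC => (charDegree (φ : CC → ℂ)).factorization p) '' b)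
  let c : IrrCharacter G → IrrCharacter G → IrrCharacter CC → IrrCharacter CC → ℤ := fun α β θ η =>
    (resMult x α θ : ℤ) * (resMult x β η : ℤ) * (regEntry p θ η / (p ^ s : ℕ))
  have hP : ∀ α β, MemLocalIdeal M (subEntry p b α β 1 -
      ∑ θ ∈ b.toFinite.toFinset, ∑ η ∈ b.toFinite.toFinset, (c α β θ η : ℂ)) := by
    intro α β
    simp only [subEntry, pow_one, ← Finset.sum_sub_distrib]
    refine memLocalIdeal_sum _ _ fun θ _ => memLocalIdeal_sum _ _ fun η _ => ?_
    rw [← mul_sub_one]
    exact memLocalIdeal_mul_left (memLocalRing_intCast _) (hω θ η)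
  have hs : ∑ θ ∈ b.toFinite.toFinset, ∑ η ∈ b.toFinite.toFinset, (c χ ξ θ η : ℂ) =
      ∑ θ ∈ b.toFinite.toFinset, ∑ η ∈ b.toFinite.toFinset, (c ξ χ θ η : ℂ) := by
    rw [Finset.sum_comm]
    refine Finset.sum_congr rfl fun θ _ => Finset.sum_congr rfl fun η _ => ?_
    simp only [c, regEntry_symm (p := p) η θ]
    push_cast
    ring
  have h := memLocalIdeal_sub (hP χ ξ) (hP ξ χ)
  rwa [hs, sub_sub_sub_cancel_right] at h

variable (hd : blockDefect p b = blockDefect p B)
include hd

/-- The contribution as a degree times a central character value. -/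
theorem exists_subEntry_eq_omega (ξ : IrrCharacter G) :
    ∃ a : MonoidAlgebra ℂ G, IsLocalCentral M a ∧ ∀ χ : IrrCharacter G,
      subEntry p b χ ξ 1 = ((p ^ blockDefect p B * charDegree (χ : G → ℂ) : ℕ) : ℂ) /
        (Nat.card G : ℂ) * omegaC (χ : G → ℂ) a := by
  classical
  have hb := hind.1
  have hcl := CfsgLib.Char.irr_isClassFunction ξ.2
  obtain ⟨a, ha, hom⟩ := exists_sectionSum hM hx
    (fun g => conj (subFun (ξ : G → ℂ) (subgroupBlockCoeff CC b) g))
    (fun c hc v _ _ => by rw [subFun_conj_mem hM hx hcl hc]) (fun g => by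
      rw [subFun, map_sum]
      refine memLocalRing_sum _ _ fun k _ => ?_
      rw [map_mul, irr_conj_eq ξ.2]
      refine memLocalRing_mul ?_ (memLocalRing_irr_apply ξ _)
      unfold subgroupBlockCoeff
      split_ifs with hk
      · rw [blockCoeff_conj]
        exact blockCoeff_memLocalRing hM hb _
      · rw [map_zero]; exact (lring M).zero_mem)
  refine ⟨a, ha, fun χ => ?_⟩
  have hsum : ∑ v : CC, regInd p v * (conj (subFun (ξ : G → ℂ) (subgroupBlockCoeff CC b)
        (x * (v : G))) * (χ : G → ℂ) (x * (v : G))) =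
      ∑ v : CC, sectionFun p x b (χ : G → ℂ) v * conj (sectionFun p x b (ξ : G → ℂ) v) := by
    let co : IrrCharacter G → IrrCharacter CC → ℂ := fun α θ =>
      (resMult x α θ : ℂ) * centralRoot x θ
    have hpart : ∀ (α : IrrCharacter G) (v : CC),
        blockPart b (fun c : CC => (α : G → ℂ) (x * (c : G))) v =
          ∑ θ ∈ b.toFinite.toFinset, co α θ * (θ : CC → ℂ) v := fun α v => by
      simpa using blockPart_pow hM hx (b := b) α 1 v
    have hpair : ∀ θ ∈ b.toFinite.toFinset,
        ∑ v : CC, regInd p v * (conj ((θ : CC → ℂ) v) * (χ : G → ℂ) (x * (v : G))) =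
          ∑ η ∈ b.toFinite.toFinset, co χ η * regPair p (η : CC → ℂ) (θ : CC → ℂ) := fun θ hθ => by
      simpa using sum_regInd_conj_mul hM hx hb χ 1 (b.toFinite.mem_toFinset.1 hθ)
    calc _ = ∑ θ ∈ b.toFinite.toFinset, conj (co ξ θ) *
          ∑ v : CC, regInd p v * (conj ((θ : CC → ℂ) v) * (χ : G → ℂ) (x * (v : G))) := by
          simp only [Finset.mul_sum]
          rw [Finset.sum_comm]
          refine Finset.sum_congr rfl fun v _ => ?_
          rw [subFun_coeff b hcl le_rfl, hpart, map_sum, Finset.sum_mul, Finset.mul_sum]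
          exact Finset.sum_congr rfl fun θ _ => by rw [map_mul]; ring
      _ = _ := by
          rw [Finset.sum_congr rfl fun θ hθ => by rw [hpair θ hθ]]
          simp only [sectionFun, hpart, regPair, map_mul, map_sum, Finset.mul_sum, Finset.sum_mul]
          conv_rhs => rw [Finset.sum_comm]
          refine Finset.sum_congr rfl fun θ _ => ?_
          conv_rhs => rw [Finset.sum_comm]
          refine Finset.sum_congr rfl fun η _ => Finset.sum_congr rfl fun v _ => ?_
          rw [irr_conj_eq θ.2]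
          unfold regInd
          split_ifs <;> simp <;> ring
  rw [subEntry_one hM hx hind, hd, CfsgLib.Char.classInner_def, ← hsum, hom χ,
    ← CfsgLib.Block.charDegree_cast (CfsgLib.Char.irr_isCharacter χ.2)]
  push_cast
  have : (charDegree (χ : G → ℂ) : ℂ) ≠ 0 := Nat.cast_ne_zero.2 (charDegree_ne_zero χ.2)
  have : (Nat.card G : ℂ) ≠ 0 := Nat.cast_ne_zero.2 Nat.card_pos.ne'
  have : (Nat.card CC : ℂ) ≠ 0 := Nat.cast_ne_zero.2 Nat.card_pos.ne'
  field_simp

/-- The scaled contributions: a unit times a central character value. -/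
theorem exists_subEntry_div_eq (ξ : IrrCharacter G) :
    ∃ a : MonoidAlgebra ℂ G, IsLocalCentral M a ∧ ∀ χ ∈ B, ∃ w : ℂ,
      MemLocalRing M w ∧ ¬ MemLocalIdeal M w ∧
        subEntry p b χ ξ 1 / ((p ^ blockHeight p B (χ : G → ℂ) : ℕ) : ℂ) =
          w * omegaC (χ : G → ℂ) a := by
  classical
  have hp := hM.1
  have := Fact.mk hM.1
  obtain ⟨a, ha, h⟩ := exists_subEntry_eq_omega hM hx hind hd ξ
  refine ⟨a, ha, fun χ hχ => ?_⟩
  set num := p ^ blockDefect p B * charDegree (χ : G → ℂ) with hnum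
  set den := Nat.card G * p ^ blockHeight p B (χ : G → ℂ) with hden
  have hnum0 : num ≠ 0 := mul_ne_zero (pow_ne_zero _ hp.ne_zero) (charDegree_ne_zero χ.2)
  have hden0 : den ≠ 0 := mul_ne_zero Nat.card_pos.ne' (pow_ne_zero _ hp.ne_zero)
  have hval : den.factorization p = num.factorization p := by
    rw [hnum, hden, Nat.factorization_mul Nat.card_pos.ne' (pow_ne_zero _ hp.ne_zero),
      Nat.factorization_mul (pow_ne_zero _ hp.ne_zero) (charDegree_ne_zero χ.2),
      Finsupp.add_apply, Finsupp.add_apply, Nat.Prime.factorization_pow hp,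
      Nat.Prime.factorization_pow hp, Finsupp.single_eq_same, Finsupp.single_eq_same,
      ← sInf_degree_add_blockDefect hM hind.2.1, blockHeight]
    have : sInf ((fun ψ : IrrCharacter G => (charDegree (ψ : G → ℂ)).factorization p) '' B) ≤
        (charDegree (χ : G → ℂ)).factorization p := Nat.sInf_le ⟨χ, hχ, rfl⟩
    omega
  refine ⟨(num : ℂ) / (den : ℂ), memLocalRing_natCast_div hM hden0 (Or.inr hval.le), ?_, ?_⟩
  · intro h0
    have h1 := memLocalIdeal_mul_left (memLocalRing_natCast_div hM (a := den) hnum0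
      (Or.inr hval.ge)) h0
    rw [div_mul_div_comm, mul_comm (num : ℂ), div_self (mul_ne_zero (Nat.cast_ne_zero.2 hden0)
      (Nat.cast_ne_zero.2 hnum0))] at h1
    exact hp.not_dvd_one ((memLocalIdeal_natCast_iff hM 1).1 (by simpa using h1))
  · rw [h χ, hden, hnum]
    push_cast
    ring

/-- **Divisibility by the height.** -/
theorem memLocalRing_subEntry_div {χ : IrrCharacter G} (hχ : χ ∈ B) (ξ : IrrCharacter G) :
    MemLocalRing M (subEntry p b χ ξ 1 / ((p ^ blockHeight p B (χ : G → ℂ) : ℕ) : ℂ)) := by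
  obtain ⟨a, ha, h⟩ := exists_subEntry_div_eq hM hx hind hd ξ
  obtain ⟨w, hw, -, he⟩ := h χ hχ
  rw [he]
  exact memLocalRing_mul hw (memLocalRing_omegaC χ.2 ha)

/-- **Equality exactly against height zero.** -/
theorem memLocalIdeal_subEntry_div_iff {χ ξ : IrrCharacter G} (hχ : χ ∈ B) (hξ : ξ ∈ B) :
    MemLocalIdeal M (subEntry p b χ ξ 1 / ((p ^ blockHeight p B (χ : G → ℂ) : ℕ) : ℂ)) ↔
      blockHeight p B (ξ : G → ℂ) ≠ 0 := by
  classical
  have := Fact.mk hM.1
  have hB := hind.2.1
  obtain ⟨ζ, hζ, hζ0⟩ := exists_height_zero hM hB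
  obtain ⟨a, ha, h⟩ := exists_subEntry_div_eq hM hx hind hd ξ
  have key : ∀ α ∈ B, MemLocalIdeal M
      (subEntry p b α ξ 1 / ((p ^ blockHeight p B (α : G → ℂ) : ℕ) : ℂ)) ↔
        MemLocalIdeal M (omegaC (ζ : G → ℂ) a) := by
    intro α hα
    obtain ⟨w, hw, hwu, he⟩ := h α hα
    have hsub := omegaC_sub_memLocalIdeal ha (sameBlock_of_mem hB hα hζ)
    rw [he, ← redC_eq_zero_iff (memLocalRing_mul hw (memLocalRing_omegaC α.2 ha)),
      ← redC_eq_zero_iff (memLocalRing_omegaC ζ.2 ha),
      redC_mul hw (memLocalRing_omegaC α.2 ha), mul_eq_zero,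
      (redC_eq_iff (memLocalRing_omegaC α.2 ha) (memLocalRing_omegaC ζ.2 ha)).2 hsub]
    exact or_iff_right fun h0 => hwu ((redC_eq_zero_iff hw).1 h0)
  have hswap := memLocalIdeal_subEntry_sub_swap hM hx hind ζ ξ
  have hiff : MemLocalIdeal M (subEntry p b ζ ξ 1) ↔ MemLocalIdeal M (subEntry p b ξ ζ 1) := by
    constructor <;> intro h1
    · simpa using memLocalIdeal_sub h1 hswap
    · simpa using memLocalIdeal_add hswap h1
  rw [key χ hχ, ← key ζ hζ, hζ0, pow_zero, Nat.cast_one, div_one, hiff]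
  constructor
  · intro h1 h0
    exact not_memLocalIdeal_subEntry hM hx hind hξ hζ h0 hζ0 h1
  · intro hne
    have h1 := memLocalRing_subEntry_div hM hx hind hd hξ ζ
    have h2 : MemLocalIdeal M ((p ^ blockHeight p B (ξ : G → ℂ) : ℕ) : ℂ) :=
      (memLocalIdeal_natCast_iff hM _).2 (dvd_pow_self p hne)
    have h3 := memLocalIdeal_mul_left h1 h2
    rwa [div_mul_cancel₀ _ (Nat.cast_ne_zero.2 (pow_ne_zero _ hM.1.ne_zero))] at h3

end CfsgLib.BlockA
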