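import Cfsg.Agent.Lib.BlockA.Dominated
import Cfsg.Agent.Lib.Block.DefectClass
import Cfsg.Agent.Lib.Block.FirstMain
import Cfsg.Agent.Lib.Block.LamZero

/-! Defect groups of blocks of quotient groups. -/

set_option autoImplicit false
set_option linter.unusedSectionVars false
set_option maxHeartbeats 1000000

namespace CfsgLib.BlockA.QuotientDefect

open Cfsg CfsgLib.Block CfsgLib.BlockA.Dominated MonoidAlgebra

universe u

variable {G : Type u} [Group G] [Finite G] (N : Subgroup G) [N.Normal]

/-- The full preimage of the centralizer of an image. -/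
noncomputable def preCen (g : G) : Subgroup G :=
  (Subgroup.centralizer ({(g : G ⧸ N)} : Set (G ⧸ N))).comap (QuotientGroup.mk' N)

theorem centralizer_le_preCen (g : G) : Subgroup.centralizer ({g} : Set G) ≤ preCen N g := by
  intro h hh
  rw [Subgroup.mem_centralizer_singleton_iff] at hh
  rw [preCen, Subgroup.mem_comap, Subgroup.mem_centralizer_singleton_iff]
  exact congrArg (QuotientGroup.mk' N) hh

theorem le_preCen (g : G) : N ≤ preCen N g := by
  intro h hh
  rw [preCen, Subgroup.mem_comap]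
  rw [show QuotientGroup.mk' N h = 1 from (QuotientGroup.eq_one_iff h).2 hh]
  exact Subgroup.one_mem _

/-- The multiplicity of the class of the image in the image of a class. -/
noncomputable def mult (g : G) : ℕ :=
  (Subgroup.centralizer ({g} : Set G)).relIndex (preCen N g)

theorem centralChar_infl (η : IrrCharacter (G ⧸ N)) (g : G) :
    centralChar (infl N η : G → ℂ) g =
      (mult N g : ℂ) * centralChar (η : G ⧸ N → ℂ) (g : G ⧸ N) := by
  have h := Subgroup.relIndex_mul_index (centralizer_le_preCen N g)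
  rw [preCen, Subgroup.index_comap_of_surjective _ (QuotientGroup.mk'_surjective N)] at h
  simp only [centralChar, infl_apply, QuotientGroup.mk_one]
  rw [← h, Nat.cast_mul, mult, preCen]
  ring

variable {p : ℕ} [hp : Fact p.Prime] {M : Ideal AlgInt} [M.IsPrime] (hM : IsPModular p M)

theorem sameBlock_infl {η η' : IrrCharacter (G ⧸ N)}
    (h : SameBlock M (η : G ⧸ N → ℂ) (η' : G ⧸ N → ℂ)) :
    SameBlock M (infl N η : G → ℂ) (infl N η' : G → ℂ) := fun g => by
  rw [centralChar_infl, centralChar_infl, ← mul_sub]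
  exact memLocalIdeal_mul_left (memLocalRing_natCast _) (h _)

omit [M.IsPrime] in
/-- The image of a Sylow subgroup of a centralizer. -/
theorem exists_sylow_image {g : G} (hm : ¬ p ∣ mult N g)
    (P : Sylow p (Subgroup.centralizer ({g} : Set G))) :
    ∃ Q : Sylow p (Subgroup.centralizer ({(g : G ⧸ N)} : Set (G ⧸ N))),
      cenSub (g : G ⧸ N) (Q : Subgroup _) =
        (cenSub g (P : Subgroup _)).map (QuotientGroup.mk' N) := by
  have hle : (cenSub g (P : Subgroup _)).map (QuotientGroup.mk' N) ≤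
      Subgroup.centralizer ({(g : G ⧸ N)} : Set (G ⧸ N)) :=
    Subgroup.map_le_iff_le_comap.2 ((cenSub_le g _).trans (centralizer_le_preCen N g))
  obtain ⟨Q, hQ⟩ := exists_sylow_cenSub_ge ((isPGroup_cenSub g P).map _) hle
  refine ⟨Q, (le_antisymm hQ ?_).symm⟩
  rw [← Subgroup.relIndex_eq_one]
  obtain ⟨k, hk⟩ := (isPGroup_cenSub (g : G ⧸ N) Q).index
    (((cenSub g (P : Subgroup _)).map (QuotientGroup.mk' N)).subgroupOf
      (cenSub (g : G ⧸ N) (Q : Subgroup _)))
  have hk' : ((cenSub g (P : Subgroup _)).map (QuotientGroup.mk' N)).relIndex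
      (cenSub (g : G ⧸ N) (Q : Subgroup _)) = p ^ k := hk
  rcases Nat.eq_zero_or_pos k with rfl | hk0
  · rw [hk', pow_zero]
  exfalso
  have hdvd : p ∣ ((cenSub g (P : Subgroup _)).map (QuotientGroup.mk' N)).relIndex
      (Subgroup.centralizer ({(g : G ⧸ N)} : Set (G ⧸ N))) := by
    rw [← Subgroup.relIndex_mul_relIndex _ _ _ hQ (cenSub_le (g : G ⧸ N) _), hk']
    exact Dvd.dvd.mul_right (dvd_pow_self p hk0.ne') _
  have hH : (preCen N g).map (QuotientGroup.mk' N) =
      Subgroup.centralizer ({(g : G ⧸ N)} : Set (G ⧸ N)) :=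
    Subgroup.map_comap_eq_self_of_surjective (QuotientGroup.mk'_surjective N) _
  rw [← hH, Subgroup.relIndex_map_map, QuotientGroup.ker_mk',
    sup_of_le_left (le_preCen N g)] at hdvd
  have hPH := hdvd.trans (Subgroup.relIndex_dvd_of_le_left _
    (le_sup_left : cenSub g (P : Subgroup _) ≤ cenSub g (P : Subgroup _) ⊔ N))
  rw [← Subgroup.relIndex_mul_relIndex _ _ _ (cenSub_le g _) (centralizer_le_preCen N g)] at hPH
  rcases hp.out.dvd_mul.1 hPH with h | h
  · have hrel : (cenSub g (P : Subgroup _)).relIndex (Subgroup.centralizer ({g} : Set G)) =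
        (P : Subgroup (Subgroup.centralizer ({g} : Set G))).index := by
      rw [Subgroup.relIndex, Subgroup.subgroupOf, Subgroup.comap_map_eq_self_of_injective
        (Subgroup.subtype_injective _)]
    rw [hrel] at h
    exact P.not_dvd_index h
  · exact hm h

theorem map_conj_mk (D : Subgroup G) (x : G) :
    (D.map (QuotientGroup.mk' N)).map (MulAut.conj (QuotientGroup.mk' N x)).toMonoidHom =
      (D.map (MulAut.conj x).toMonoidHom).map (QuotientGroup.mk' N) := by
  rw [Subgroup.map_map, Subgroup.map_map]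
  exact congrArg (fun f => D.map f) (MonoidHom.ext fun y => by simp)

include hM in
/-- The first half: blocks of a quotient have defect groups inside images of defect groups. -/
theorem exists_defect_le_map {Bbar : Set (IrrCharacter (G ⧸ N))} (hBbar : IsPBlock M Bbar)
    {B : Set (IrrCharacter G)} (hB : IsPBlock M B) (hsub : ∀ η ∈ Bbar, infl N η ∈ B)
    {Dbar : Subgroup (G ⧸ N)} (hDbar : IsDefectGroup p M Bbar Dbar) :
    ∃ P : Subgroup G, IsDefectGroup p M B P ∧ Dbar ≤ P.map (QuotientGroup.mk' N) := by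
  obtain ⟨η, hη⟩ := isPBlock_nonempty hBbar
  have hψ := hsub η hη
  obtain ⟨g, hg0, hgl⟩ := exists_classSumZ_of_lam_ne_zero hM hB hψ (z := blkIdem M B)
    (by rw [(algHom_blkIdem_eq_one_iff hM hB _).2 hψ]; exact one_ne_zero)
  have hdef := (isDefectClass_iff hM hB hψ g).2 ⟨hg0, hgl⟩
  rw [lam_classSumZ, centralChar_infl,
    redC_mul (memLocalRing_natCast _) (memLocalRing_centralChar η.2 _), redC_natCast] at hgl
  have hm : ¬ p ∣ mult N g := by
    have := charP_kres hM
    exact fun h => left_ne_zero_of_mul hgl ((CharP.cast_eq_zero_iff (kres M) p _).2 h)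
  let P : Sylow p (Subgroup.centralizer ({g} : Set G)) := Classical.arbitrary _
  obtain ⟨Q, hQ⟩ := exists_sylow_image N hm P
  obtain ⟨gbar, hgbar, R, rfl⟩ := hDbar
  obtain ⟨xbar, hx⟩ := exists_defect_le_conj hM hBbar hgbar R hη
    (h := (g : G ⧸ N)) (by rw [lam_classSumZ]; exact right_ne_zero_of_mul hgl) Q
  obtain ⟨x, rfl⟩ := QuotientGroup.mk'_surjective N xbar
  refine ⟨_, defectGroup_conj hM hB ⟨g, hdef, P, rfl⟩ x, hx.trans_eq ?_⟩
  rw [hQ, map_conj_mk]

omit hp [M.IsPrime] in
theorem eq_one_of_regular_mul (hNp : IsPGroup p N) {g n : G} (hn : n ∈ N)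
    (hc : Commute g n) (hg : ¬ p ∣ orderOf g) (hgn : ¬ p ∣ orderOf (g * n)) (hpp : p.Prime) :
    n = 1 := by
  obtain ⟨k, hk⟩ := hNp ⟨n, hn⟩
  have hk' : n ^ p ^ k = 1 := congrArg Subtype.val hk
  obtain ⟨i, -, hi⟩ := (Nat.dvd_prime_pow hpp).1 (orderOf_dvd_of_pow_eq_one hk')
  rcases Nat.eq_zero_or_pos i with rfl | hi0
  · rwa [pow_zero, orderOf_eq_one_iff] at hi
  exfalso
  apply hgn
  rw [hc.orderOf_mul_eq_mul_orderOf_of_coprime (by
    rw [hi]
    exact Nat.Coprime.pow_right i (Nat.Coprime.symm (hpp.coprime_iff_not_dvd.2 hg))), hi]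
  exact Dvd.dvd.mul_left (dvd_pow_self p hi0.ne') _

/-- Summing a function along the cosets. -/
noncomputable def pushGA (a : MonoidAlgebra ℂ G) : MonoidAlgebra ℂ (G ⧸ N) :=
  MonoidAlgebra.mapDomainRingHom ℂ (QuotientGroup.mk' N) a

theorem omegaC_push [Fintype G] [Fintype (G ⧸ N)] (η : IrrCharacter (G ⧸ N))
    (a : MonoidAlgebra ℂ G) :
    omegaC (η : G ⧸ N → ℂ) (pushGA N a) = omegaC (infl N η : G → ℂ) a := by
  classical
  induction a using MonoidAlgebra.induction_linear with
  | zero => simp [pushGA, omegaC_zero]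
  | add x y hx hy => simp only [pushGA, map_add, omegaC_add] at hx hy ⊢; rw [hx, hy]
  | single g r =>
      rw [omegaC_eq, omegaC_eq]
      simp [pushGA, MonoidAlgebra.mapDomainRingHom, infl_apply, Finsupp.single_apply]

theorem isClassCoeff_push {a : MonoidAlgebra ℂ G} (ha : IsClassCoeff a) :
    IsClassCoeff (pushGA N a) := by
  refine isClassCoeff_iff_mem_center.2 (Subalgebra.mem_center_iff.2 fun b => ?_)
  have hsurj : ∃ b', pushGA N b' = b := by
    induction b using MonoidAlgebra.induction_linear with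
    | zero => exact ⟨0, by simp [pushGA]⟩
    | add x y hx hy =>
        obtain ⟨x', rfl⟩ := hx
        obtain ⟨y', rfl⟩ := hy
        exact ⟨x' + y', map_add _ _ _⟩
    | single x r =>
        obtain ⟨g, rfl⟩ := QuotientGroup.mk'_surjective N x
        exact ⟨single g r, by simp [pushGA, MonoidAlgebra.mapDomainRingHom]⟩
  obtain ⟨b', rfl⟩ := hsurj
  rw [pushGA, pushGA, ← map_mul, ← map_mul,
    Subalgebra.mem_center_iff.1 (isClassCoeff_iff_mem_center.1 ha) b']

theorem coeff_push [Fintype G] [DecidableEq (G ⧸ N)] (a : MonoidAlgebra ℂ G) (x : G ⧸ N) :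
    (pushGA N a).coeff x = ∑ h : G, if (h : G ⧸ N) = x then a.coeff h else 0 := by
  classical
  induction a using MonoidAlgebra.induction_linear with
  | zero => simp [pushGA]
  | add y z hy hz =>
      simp only [pushGA, map_add, coeff_add, Finsupp.add_apply] at hy hz ⊢
      rw [hy, hz, ← Finset.sum_add_distrib]
      refine Finset.sum_congr rfl fun h _ => ?_
      split <;> simp
  | single g r =>
      rw [Finset.sum_eq_single g]
      · simp [pushGA, MonoidAlgebra.mapDomainRingHom, Finsupp.single_apply]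
      · intro h _ hh
        simp [Ne.symm hh]
      · simp

include hM in
/-- The second half: by a normal `p`-subgroup some block of the quotient has exactly the images. -/
theorem exists_block_images (hN : IsPGroup p N) {B : Set (IrrCharacter G)} (hB : IsPBlock M B) :
    ∃ Bbar : Set (IrrCharacter (G ⧸ N)), IsPBlock M Bbar ∧ (∀ η ∈ Bbar, infl N η ∈ B) ∧
      ∀ Dbar : Subgroup (G ⧸ N), IsDefectGroup p M Bbar Dbar ↔
        ∃ P : Subgroup G, IsDefectGroup p M B P ∧ Dbar = P.map (QuotientGroup.mk' N) := by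
  classical
  have := Fintype.ofFinite G
  have := Fintype.ofFinite (G ⧸ N)
  have := Fintype.ofFinite (IrrCharacter (G ⧸ N))
  obtain ⟨χ, hχ⟩ := isPBlock_nonempty hB
  obtain ⟨g, hg⟩ := exists_isDefectClass hM hB
  obtain ⟨hg0, hgl⟩ := (isDefectClass_iff hM hB hχ g).1 hg
  let P : Sylow p (Subgroup.centralizer ({g} : Set G)) := Classical.arbitrary _
  have hP : IsDefectGroup p M B (cenSub g (P : Subgroup _)) := ⟨g, hg, P, rfl⟩
  have hNg : N ≤ Subgroup.centralizer ({g} : Set G) :=
    (normal_le_defectGroup hM hN hB hP).trans (cenSub_le g _)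
  have hreg : ¬ p ∣ orderOf g := fun h => hg0 (blkIdem_coeff_eq_zero_of_singular hM hB h)
  set S : Set (IrrCharacter (G ⧸ N)) := {η | infl N η ∈ B} with hS
  have hpush : pushGA N (blockSum B) = blockSum S := by
    refine eq_of_omegaC_eq (isClassCoeff_push N (blockSum_isClassCoeff B))
      (blockSum_isClassCoeff S) fun η => ?_
    rw [omegaC_push, omegaC_blockSum, omegaC_blockSum]
    rfl
  have hcg : blockCoeff S (g : G ⧸ N) = blockCoeff B g := by
    have h := congrArg (fun a : MonoidAlgebra ℂ (G ⧸ N) => a.coeff (g : G ⧸ N)) hpush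
    simp only [blockSum, coeff_mkGA, coeff_push] at h
    rw [← h, Finset.sum_eq_single g]
    · rw [if_pos rfl]
    · intro h' _ hne
      split
      · next heq =>
          have hn : g⁻¹ * h' ∈ N := QuotientGroup.eq.1 heq.symm
          by_contra hne0
          have hr : ¬ p ∣ orderOf h' := fun h'' =>
            hne0 (blockCoeff_eq_zero_of_singular hM hB h'')
          have hc : Commute g (g⁻¹ * h') :=
            (Subgroup.mem_centralizer_singleton_iff.1 (hNg hn)).symm
          have := eq_one_of_regular_mul N hN hn hc hreg (by rwa [mul_inv_cancel_left]) hM.1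
          exact hne (inv_mul_eq_one.1 this).symm
      · rfl
    · simp
  have hne : ¬ MemLocalIdeal M (blockCoeff S (g : G ⧸ N)) := hcg ▸ hg.2.1
  have hclosed : ∀ η ∈ S, ∀ η' : IrrCharacter (G ⧸ N), SameBlock M (η : G ⧸ N → ℂ) (η' : G ⧸ N → ℂ) → η' ∈ S :=
    fun η hη η' h => mem_of_sameBlock hB hη (sameBlock_infl N h)
  have hex : ∃ η ∈ S,
      ¬ MemLocalIdeal M (blockCoeff (blockOf M (η : G ⧸ N → ℂ)) (g : G ⧸ N)) := by
    by_contra hcon
    push Not at hcon
    apply hne
    rw [blockCoeff_eq_sum, ← Finset.sum_filter, ← Finset.sum_fiberwise_of_maps_to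
      (g := fun η : IrrCharacter (G ⧸ N) => blockOf M (η : G ⧸ N → ℂ))
      (t := (Finset.univ.filter (· ∈ S)).image
        (fun η : IrrCharacter (G ⧸ N) => blockOf M (η : G ⧸ N → ℂ)))
      (fun η hη => Finset.mem_image_of_mem _ hη)]
    refine memLocalIdeal_sum _ _ fun b hb => ?_
    obtain ⟨η, hη, rfl⟩ := Finset.mem_image.1 hb
    have hηS : η ∈ S := (Finset.mem_filter.1 hη).2
    refine (congrArg (MemLocalIdeal M) ?_).mp (hcon η hηS)
    rw [blockCoeff_eq_sum, ← Finset.sum_filter]
    refine Finset.sum_congr ?_ fun _ _ => rfl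
    ext η'
    simp only [Finset.mem_filter, Finset.mem_univ, true_and]
    constructor
    · exact fun h' => ⟨hclosed η hηS η' h', blockOf_eq_of_mem h'⟩
    · rintro ⟨-, h'⟩
      rw [← h']
      exact mem_blockOf_self η'
  obtain ⟨η, hηS, hη⟩ := hex
  set Bbar := blockOf M (η : G ⧸ N → ℂ) with hBdef
  have hBbar : IsPBlock M Bbar := isPBlock_blockOf η
  have hsub : ∀ η' ∈ Bbar, infl N η' ∈ B := fun η' h => hclosed η hηS η' h
  have hlg : lam M (infl N η) (classSumZ (kres M) g) ≠ 0 := by
    rw [lam_eq_of_sameBlock (sameBlock_of_mem hB hηS hχ)]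
    exact hgl
  rw [lam_classSumZ, centralChar_infl,
    redC_mul (memLocalRing_natCast _) (memLocalRing_centralChar η.2 _), redC_natCast] at hlg
  have hm : ¬ p ∣ mult N g := by
    have := charP_kres hM
    exact fun h => left_ne_zero_of_mul hlg ((CharP.cast_eq_zero_iff (kres M) p _).2 h)
  have hdefbar : IsDefectClass M Bbar (g : G ⧸ N) := by
    refine (isDefectClass_iff hM hBbar (mem_blockOf_self η) _).2 ⟨?_, ?_⟩
    · rw [coeff_blkIdem, Ne, redC_eq_zero_iff (blockCoeff_memLocalRing hM hBbar _)]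
      exact hη
    · rw [lam_classSumZ]
      exact right_ne_zero_of_mul hlg
  obtain ⟨Q, hQ⟩ := exists_sylow_image N hm P
  have hD0 : IsDefectGroup p M Bbar ((cenSub g (P : Subgroup _)).map (QuotientGroup.mk' N)) :=
    ⟨_, hdefbar, Q, hQ.symm⟩
  refine ⟨Bbar, hBbar, hsub, fun Dbar => ⟨fun hD => ?_, ?_⟩⟩
  · obtain ⟨xbar, hx⟩ := defectGroup_exists_conj hM hBbar hD0 hD
    obtain ⟨x, rfl⟩ := QuotientGroup.mk'_surjective N xbar
    refine ⟨_, defectGroup_conj hM hB hP x, hx.trans ?_⟩
    rw [map_conj_mk]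
  · rintro ⟨P', hP', rfl⟩
    obtain ⟨x, hx⟩ := defectGroup_exists_conj hM hB hP hP'
    rw [hx]
    have h := defectGroup_conj hM hBbar hD0 (x : G ⧸ N)
    rw [← map_conj_mk]
    exact h

end CfsgLib.BlockA.QuotientDefect
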