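import Cfsg.Agent.Lib.BlockA.StarCount
import Cfsg.Agent.Lib.BlockA.MajorValuation
import Cfsg.Agent.Lib.BlockA.DefectOneStar
import Cfsg.Agent.Lib.BlockA.CentralizerBlock
import Cfsg.Agent.Lib.BlockA.QuotientDefect
import Cfsg.Agent.S4733
import Cfsg.Agent.Lib.BlockB.RegRank

/-! The number of characters of a block with an abelian defect group on few generators. -/

set_option autoImplicit false
set_option linter.unusedSectionVars false
set_option maxHeartbeats 1000000

namespace CfsgLib.BlockA.AbelianRankCount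

open Cfsg CfsgLib.Block CfsgLib.BlockB CfsgLib.BlockA CfsgLib.BlockA.Dominated

universe u

variable {p : ℕ} {M : Ideal AlgInt} [M.IsPrime]

local notation "cen" Q => Subgroup.centralizer ((Q : Subgroup _) : Set _)

/-- Blocks with a cyclic defect group are stars. -/
theorem isStarN_of_cyclic {G : Type u} [Group G] [Finite G] (hM : IsPModular p M)
    {B : Set (IrrCharacter G)} (hB : IsPBlock M B) {D : Subgroup G}
    (hD : IsDefectGroup p M B D) (hcyc : IsCyclic D) {a : ℕ} (ha : 1 ≤ a)
    (hcard : Nat.card D = p ^ a) : StarCount.IsStarN p (p ^ a) B := by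
  classical
  have := Fact.mk hM.1
  have := Fintype.ofFinite G
  obtain ⟨g, hg⟩ := IsCyclic.exists_generator (α := D)
  obtain ⟨e, hmax⟩ := DefectOneStar.exists_maximal_pair hM hB hD
  let S : CycBlock G p M := ⟨hM, B, D, e, hmax, g,
    le_antisymm (Subgroup.zpowers_le.2 g.2) fun x hx => by
      obtain ⟨k, hk⟩ := Subgroup.mem_zpowers_iff.1 (hg ⟨x, hx⟩)
      exact Subgroup.mem_zpowers_iff.2 ⟨k, by rw [← Subgroup.coe_zpow, hk]⟩,
    a, ha, by rw [Subgroup.orderOf_coe, orderOf_eq_card_of_forall_mem_zpowers hg, hcard]⟩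
  obtain ⟨t, ht1, ht⟩ := S.exists_t
  obtain ⟨hl, hk⟩ := S.counts ht
  have hfin : (B : Set (IrrCharacter G)).Finite := B.toFinite
  have hkc : hfin.toFinset.card = S.e + t := by
    rw [← Set.ncard_eq_toFinset_card B hfin, ← Nat.card_coe_set_eq]
    exact hk
  have hta : t * S.e + 1 = p ^ a := by
    have h : t * S.e = p ^ a - 1 := ht
    have := Nat.one_le_pow a p hM.1.pos
    omega
  by_cases he1 : S.e = 1
  · obtain ⟨χ₀, hχ₀⟩ := isPBlock_nonempty hB
    refine ⟨{χ₀}, hfin.toFinset.erase χ₀, fun _ => 1, -1, fun η => ?_, ?_, ?_, ?_, ?_,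
      fun _ _ => Or.inl rfl, Or.inr rfl, fun ψ hψ y hy => ?_⟩
    · simp only [Finset.mem_singleton, Finset.mem_erase, Set.Finite.mem_toFinset]
      constructor
      · intro h
        by_cases h' : η = χ₀
        · exact Or.inl h'
        · exact Or.inr ⟨h', h⟩
      · rintro (rfl | ⟨-, h⟩)
        · exact hχ₀
        · exact h
    · exact Finset.disjoint_singleton_left.2 (Finset.notMem_erase _ _)
    · rw [Finset.card_erase_of_mem (hfin.mem_toFinset.2 hχ₀), hkc, he1]
      omega
    · rw [Finset.card_erase_of_mem (hfin.mem_toFinset.2 hχ₀), hkc, Finset.card_singleton, he1]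
      rw [he1] at hta
      omega
    · rw [Finset.card_singleton]
      exact hl.trans he1
    · rw [Finset.sum_singleton, S.regular_eq_of_e_eq_one he1
        (hfin.mem_toFinset.1 (Finset.mem_of_mem_erase hψ)) hχ₀ hy]
      push_cast
      ring
  · obtain ⟨R⟩ := S.nonempty_signedRows fun h => he1 (S.eq_two_of_even h)
    have hsub : R.X ⊆ hfin.toFinset := fun χ hχ => hfin.mem_toFinset.2 (R.hXB χ hχ)
    have hY : (hfin.toFinset \ R.X).card = t := by
      rw [Finset.card_sdiff_of_subset hsub, hkc, R.hXcard]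
      omega
    refine ⟨R.X, hfin.toFinset \ R.X, R.δ, R.δ₀, fun η => ?_, Finset.disjoint_sdiff, ?_, ?_,
      hl.trans R.hXcard.symm, fun χ _ => R.hδ χ, R.hδ₀, fun ψ hψ y hy => ?_⟩
    · simp only [Finset.mem_sdiff, Set.Finite.mem_toFinset]
      constructor
      · intro h
        by_cases h' : η ∈ R.X
        · exact Or.inl h'
        · exact Or.inr ⟨h, h'⟩
      · rintro (h | ⟨h, -⟩)
        · exact R.hXB η h
        · exact h
    · rw [hY]; exact ht1
    · rw [hY, R.hXcard, mul_comm]; exact hta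
    · rw [Finset.mem_sdiff, Set.Finite.mem_toFinset] at hψ
      exact R.hrel y hy ψ hψ.1 hψ.2

/-- No member vanishes on a major subsection. -/
theorem subEntry_self_ne_zero {G : Type u} [Group G] [Fintype G] {x : G}
    [Fintype (Subgroup.centralizer ({x} : Set G))] [Fintype (IrrCharacter G)]
    (hM : IsPModular p M) (hx : ∃ k : ℕ, orderOf x = p ^ k) {B : Set (IrrCharacter G)}
    {b : Set (IrrCharacter (Subgroup.centralizer ({x} : Set G)))}
    (hind : IsInducedBlock M (Subgroup.centralizer ({x} : Set G)) b B)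
    (hd : blockDefect p b = blockDefect p B) {χ : IrrCharacter G} (hχ : χ ∈ B) :
    subEntry p b χ χ 1 ≠ 0 := by
  classical
  have := Fact.mk hM.1
  intro h0
  rw [subEntry_one hM hx hind χ χ, mul_eq_zero] at h0
  have hz : sectionFun p x b (χ : G → ℂ) = 0 := CfsgLib.Char.classInner_self_eq_zero
    (h0.resolve_left (Nat.cast_ne_zero.2 (pow_ne_zero _ hM.1.ne_zero)))
  obtain ⟨ζ, hζ, hζ0⟩ := exists_height_zero hM hind.2.1
  refine (not_not.2 hζ0) ((memLocalIdeal_subEntry_div_iff hM hx hind hd hχ hζ).1 ?_)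
  rw [subEntry_one hM hx hind χ ζ, hz]
  have h : classInner (0 : Subgroup.centralizer ({x} : Set G) → ℂ)
      (sectionFun p x b (ζ : G → ℂ)) = 0 := by simp [CfsgLib.Char.classInner_def]
  rw [h, mul_zero, zero_div]
  exact memLocalIdeal_zero

/-- The block below an element of an abelian defect group and the block it dominates. -/
theorem exists_dominated_data {G : Type u} [Group G] [Finite G] (hM : IsPModular p M)
    {B : Set (IrrCharacter G)} (hB : IsPBlock M B) {D : Subgroup G}
    (hD : IsDefectGroup p M B D) (hab : ∀ x ∈ D, ∀ y ∈ D, x * y = y * x) {z : G} (hz : z ∈ D) :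
    ∃ (b : Set (IrrCharacter (Subgroup.centralizer ({z} : Set G))))
      (Z : Subgroup (Subgroup.centralizer ({z} : Set G))) (_ : Z.Normal)
      (c : Set (IrrCharacter ((Subgroup.centralizer ({z} : Set G)) ⧸ Z))),
      IsInducedBlock M (Subgroup.centralizer ({z} : Set G)) b B ∧
      blockDefect p b = blockDefect p B ∧ Z ≤ Subgroup.center _ ∧
      Z = Subgroup.zpowers ⟨z, Subgroup.mem_centralizer_singleton_iff.2 rfl⟩ ∧
      IsPBlock M c ∧ (∀ η, η ∈ c ↔ infl Z η ∈ b) ∧ blockRank p b = blockRank p c ∧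
      sInf ((fun χ : IrrCharacter (Subgroup.centralizer ({z} : Set G)) =>
        (charDegree (χ : (Subgroup.centralizer ({z} : Set G)) → ℂ)).factorization p) '' b) =
      sInf ((fun χ : IrrCharacter ((Subgroup.centralizer ({z} : Set G)) ⧸ Z) =>
        (charDegree (χ : (Subgroup.centralizer ({z} : Set G)) ⧸ Z → ℂ)).factorization p) '' c) ∧
      IsDefectGroup p M c
        ((D.subgroupOf (Subgroup.centralizer ({z} : Set G))).map (QuotientGroup.mk' Z)) ∧
      blockDefect p c + (Nat.card Z).factorization p = blockDefect p B := by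
  classical
  have := Fact.mk hM.1
  have := Fintype.ofFinite G
  obtain ⟨e, hmax⟩ := DefectOneStar.exists_maximal_pair hM hB hD
  obtain ⟨g, h, -, hgB, hmax', -⟩ := CentralizerBlock.exists_below_data hM hmax hD hab
    (Subgroup.zpowers_le.2 hz)
  have hdat : ∃ b : Set (IrrCharacter (Subgroup.centralizer ({z} : Set G))),
      IsInducedBlock M (Subgroup.centralizer ({z} : Set G)) b B ∧
        IsDefectGroup p M b (D.subgroupOf (Subgroup.centralizer ({z} : Set G))) := by
    have hcen : Subgroup.centralizer ({z} : Set G) =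
        Subgroup.centralizer ((Subgroup.zpowers z : Subgroup G) : Set G) := by
      refine le_antisymm (fun w hw => Subgroup.mem_centralizer_iff.2 ?_) fun w hw => ?_
      · intro v hv
        obtain ⟨k, rfl⟩ := Subgroup.mem_zpowers_iff.1 hv
        exact ((show Commute w z from Subgroup.mem_centralizer_singleton_iff.1 hw).zpow_right k).symm
      · exact Subgroup.mem_centralizer_singleton_iff.2
          (Subgroup.mem_centralizer_iff.1 hw z (Subgroup.mem_zpowers z)).symm
    have key : ∀ H : Subgroup G,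
        H = Subgroup.centralizer ((Subgroup.zpowers z : Subgroup G) : Set G) →
        ∃ b : Set (IrrCharacter H), IsInducedBlock M H b B ∧
          IsDefectGroup p M b (D.subgroupOf H) := by
      rintro _ rfl
      exact ⟨g, hgB, (maximal_core hM hmax').1⟩
    exact key _ hcen
  obtain ⟨b, hb, hbD⟩ := hdat
  set Z : Subgroup (Subgroup.centralizer ({z} : Set G)) :=
    Subgroup.zpowers ⟨z, Subgroup.mem_centralizer_singleton_iff.2 rfl⟩ with hZ
  have hZc : Z ≤ Subgroup.center _ := Subgroup.zpowers_le.2 (Subgroup.mem_center_iff.2 fun w =>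
    Subtype.ext (Subgroup.mem_centralizer_singleton_iff.1 w.2))
  have hZn : Z.Normal := ⟨fun a ha w => by
    rw [Subgroup.mem_center_iff.1 (hZc ha) w, mul_inv_cancel_right]; exact ha⟩
  have hDp := isPGroup_defectGroup hM hB hD
  obtain ⟨i, hi⟩ := IsPGroup.iff_orderOf.1 hDp ⟨z, hz⟩
  rw [Subgroup.orderOf_mk] at hi
  have hZp : IsPGroup p Z := IsPGroup.of_card (n := i) (by
    rw [hZ, Nat.card_zpowers, Subgroup.orderOf_mk, hi])
  have := Fintype.ofFinite (Subgroup.centralizer ({z} : Set G))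
  have := Fintype.ofFinite ((Subgroup.centralizer ({z} : Set G)) ⧸ Z)
  obtain ⟨c, hc, hmem, hrank, hdc, hsc⟩ := exists_dominated hZc hZp hM hb.1
  obtain ⟨Bbar, hBb, hsub, hiff⟩ := QuotientDefect.exists_block_images Z hM hZp hb.1
  obtain ⟨η, hη⟩ := isPBlock_nonempty hBb
  have hcB : Bbar = c := isPBlock_eq_of_mem hBb hc hη ((hmem η).2 (hsub η hη))
  have hDle : D ≤ Subgroup.centralizer ({z} : Set G) := fun w hw =>
    Subgroup.mem_centralizer_singleton_iff.2 (hab w hw z hz)
  have hdb : blockDefect p b = blockDefect p B := by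
    have h1 := natCard_defectGroup hM hb.1 hbD
    rw [Nat.card_congr (Subgroup.subgroupOfEquivOfLe hDle).toEquiv,
      natCard_defectGroup hM hB hD] at h1
    exact Nat.pow_right_injective hM.1.two_le h1.symm
  refine ⟨b, Z, hZn, c, hb, hdb, hZc, rfl, hc, hmem, hrank, hsc,
    hcB ▸ (hiff _).2 ⟨_, hbD, rfl⟩, ?_⟩
  have hle : (Nat.card Z).factorization p ≤ blockDefect p b := by
    have h1 := Subgroup.card_le_of_le (normal_le_defectGroup hM hZp hb.1 hbD)
    rw [natCard_defectGroup hM hb.1 hbD, hZ, Nat.card_zpowers, Subgroup.orderOf_mk, hi] at h1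
    rw [hZ, Nat.card_zpowers, Subgroup.orderOf_mk, hi, Nat.factorization_pow_self hM.1]
    exact (Nat.pow_le_pow_iff_right hM.1.one_lt).1 h1
  omega

/-- Two generators: at most as many characters as the order of the defect group. -/
theorem card_le_of_two {G : Type u} [Group G] [Finite G] (hM : IsPModular p M)
    {B : Set (IrrCharacter G)} (hB : IsPBlock M B) {D : Subgroup G}
    (hD : IsDefectGroup p M B D) (hab : ∀ x ∈ D, ∀ y ∈ D, x * y = y * x) {u v : G}
    (hu : u ∈ D) (hv : v ∈ D) (hgen : D ≤ Subgroup.closure {u, v}) :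
    Nat.card B ≤ Nat.card D := by
  classical
  have := Fact.mk hM.1
  have := Fintype.ofFinite G
  have := Fintype.ofFinite (IrrCharacter G)
  obtain ⟨b, Z, hZn, c, hb, hdb, hZc, hZdef, hc, hmem, hrank, hsc, hcD, hdsum⟩ :=
    exists_dominated_data hM hB hD hab hu
  have := Fintype.ofFinite (Subgroup.centralizer ({u} : Set G))
  obtain ⟨i, hi⟩ := IsPGroup.iff_orderOf.1 (isPGroup_defectGroup hM hB hD) ⟨u, hu⟩
  rw [Subgroup.orderOf_mk] at hi
  have hx : ∃ k : ℕ, orderOf u = p ^ k := ⟨i, hi⟩
  have hZcard : Nat.card Z = p ^ i := by rw [hZdef, Nat.card_zpowers, Subgroup.orderOf_mk, hi]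
  rw [hZcard, Nat.factorization_pow_self hM.1] at hdsum
  have hne : ∀ χ ∈ B.toFinite.toFinset, subEntry p b χ χ 1 ≠ 0 := fun χ hχ =>
    subEntry_self_ne_zero hM hx hb hdb (B.toFinite.mem_toFinset.1 hχ)
  have hSB : ∀ χ ∈ B.toFinite.toFinset, χ ∈ B := fun χ hχ => B.toFinite.mem_toFinset.1 hχ
  rw [natCard_defectGroup hM hB hD, Nat.card_coe_set_eq, Set.ncard_eq_toFinset_card B B.toFinite]
  set D' := (D.subgroupOf (Subgroup.centralizer ({u} : Set G))).map (QuotientGroup.mk' Z) with hD'
  rcases Nat.eq_zero_or_pos (blockDefect p c) with hj | hj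
  · have h := BrauerFeit.card_le_mul_rank hM hx hb hSB hne
    refine h.trans (le_of_eq ?_)
    rw [hdb, hrank]
    have hl : blockRank p c ≤ 1 := by
      refine (blockRank_le_card (p := p) (B := c)).trans ?_
      exact (((Cfsg.Agent.S4733.result p M hM c hc).2.1.1 hj).1).le
    have hl1 : 1 ≤ blockRank p c := by
      by_contra h0
      rw [not_le, Nat.lt_one_iff] at h0
      rw [hrank, h0, mul_zero, Nat.le_zero, Finset.card_eq_zero] at h
      obtain ⟨χ, hχ⟩ := isPBlock_nonempty hB
      have h' := B.toFinite.mem_toFinset.2 hχ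
      rw [h] at h'
      exact absurd h' (Finset.notMem_empty _)
    rw [le_antisymm hl hl1, mul_one]
  have hcyc : IsCyclic D' := by
    have hv' : ∃ t : (Subgroup.centralizer ({u} : Set G)) ⧸ Z, D' ≤ Subgroup.zpowers t := by
      have hvC : v ∈ Subgroup.centralizer ({u} : Set G) :=
        Subgroup.mem_centralizer_singleton_iff.2 (hab v hv u hu)
      refine ⟨QuotientGroup.mk' Z ⟨v, hvC⟩, ?_⟩
      rintro _ ⟨w, hw, rfl⟩
      let f := QuotientGroup.mk' Z
      have hle : Subgroup.closure ({u, v} : Set G) ≤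
          ((Subgroup.zpowers (f ⟨v, hvC⟩)).comap f).map
            (Subgroup.centralizer ({u} : Set G)).subtype := by
        rw [Subgroup.closure_le]
        rintro y (hy | hy)
        · refine ⟨⟨u, Subgroup.mem_centralizer_singleton_iff.2 rfl⟩, ?_, hy.symm⟩
          show f _ ∈ Subgroup.zpowers _
          have h1 : f ⟨u, Subgroup.mem_centralizer_singleton_iff.2 rfl⟩ = 1 :=
            (QuotientGroup.eq_one_iff _).2 (hZdef ▸ Subgroup.mem_zpowers _)
          rw [h1]
          exact one_mem _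
        · exact ⟨⟨v, hvC⟩, Subgroup.mem_zpowers _, (Set.mem_singleton_iff.1 hy).symm⟩
      obtain ⟨w', hw', hww⟩ := hle (hgen hw)
      have hw'' : w' = w := Subtype.ext hww
      exact hw'' ▸ hw'
    obtain ⟨t, ht⟩ := hv'
    exact isCyclic_of_injective (Subgroup.inclusion ht) (Subgroup.inclusion_injective ht)
  have hcard' : Nat.card D' = p ^ blockDefect p c := natCard_defectGroup hM hc hcD
  have h := StarCount.card_le_of_starN hM hx hb (hdb.trans (by omega : blockDefect p B = i + blockDefect p c))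
    hSB (by omega) hne hZc hZcard hc hmem hrank hsc
    (isStarN_of_cyclic hM hc hcD hcyc hj hcard')
  rwa [show i + blockDefect p c = blockDefect p B by omega] at h

/-- Three generators: the cube of the number of characters is at most the fifth power. -/
theorem card_pow_three_le {G : Type u} [Group G] [Finite G] (hM : IsPModular p M)
    {B : Set (IrrCharacter G)} (hB : IsPBlock M B) {D : Subgroup G}
    (hD : IsDefectGroup p M B D) (hab : ∀ x ∈ D, ∀ y ∈ D, x * y = y * x) {u v w : G}
    (hu : u ∈ D) (hv : v ∈ D) (hw : w ∈ D) (hgen : D ≤ Subgroup.closure {u, v, w})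
    (hvu : orderOf v ≤ orderOf u) (hwu : orderOf w ≤ orderOf u) :
    Nat.card B ^ 3 ≤ Nat.card D ^ 5 := by
  classical
  have := Fact.mk hM.1
  have := Fintype.ofFinite G
  have := Fintype.ofFinite (IrrCharacter G)
  obtain ⟨b, Z, hZn, c, hb, hdb, hZc, hZdef, hc, -, hrank, -, hcD, hdsum⟩ :=
    exists_dominated_data hM hB hD hab hu
  have := Fintype.ofFinite (Subgroup.centralizer ({u} : Set G))
  obtain ⟨i, hi⟩ := IsPGroup.iff_orderOf.1 (isPGroup_defectGroup hM hB hD) ⟨u, hu⟩
  rw [Subgroup.orderOf_mk] at hi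
  have hx : ∃ k : ℕ, orderOf u = p ^ k := ⟨i, hi⟩
  have hZcard : Nat.card Z = p ^ i := by rw [hZdef, Nat.card_zpowers, Subgroup.orderOf_mk, hi]
  rw [hZcard, Nat.factorization_pow_self hM.1] at hdsum
  -- the defect group has at most the cube of the largest order
  have hDcard : Nat.card D ≤ orderOf u ^ 3 := by
    let f : Fin (orderOf u) × Fin (orderOf u) × Fin (orderOf u) → G :=
      fun t => u ^ (t.1 : ℕ) * v ^ (t.2.1 : ℕ) * w ^ (t.2.2 : ℕ)
    have huv : Commute u v := hab u hu v hv
    have huw : Commute u w := hab u hu w hw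
    have hvw : Commute v w := hab v hv w hw
    let K : Subgroup G :=
      { carrier := Set.range fun t : ℕ × ℕ × ℕ => u ^ t.1 * v ^ t.2.1 * w ^ t.2.2
        one_mem' := ⟨(0, 0, 0), by simp⟩
        mul_mem' := by
          rintro _ _ ⟨t, rfl⟩ ⟨s, rfl⟩
          refine ⟨(t.1 + s.1, t.2.1 + s.2.1, t.2.2 + s.2.2), ?_⟩
          simp only [pow_add]
          calc u ^ t.1 * u ^ s.1 * (v ^ t.2.1 * v ^ s.2.1) * (w ^ t.2.2 * w ^ s.2.2)
              = u ^ t.1 * (u ^ s.1 * v ^ t.2.1) * v ^ s.2.1 * (w ^ t.2.2 * w ^ s.2.2) := by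
                simp only [mul_assoc]
            _ = u ^ t.1 * (v ^ t.2.1 * u ^ s.1) * v ^ s.2.1 * (w ^ t.2.2 * w ^ s.2.2) := by
                rw [(huv.pow_pow _ _).eq]
            _ = u ^ t.1 * v ^ t.2.1 * (u ^ s.1 * v ^ s.2.1 * w ^ t.2.2) * w ^ s.2.2 := by
                simp only [mul_assoc]
            _ = u ^ t.1 * v ^ t.2.1 * (w ^ t.2.2 * (u ^ s.1 * v ^ s.2.1)) * w ^ s.2.2 := by
                rw [((huw.pow_pow _ _).mul_left (hvw.pow_pow _ _)).eq]
            _ = _ := by simp only [mul_assoc]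
        inv_mem' := by
          rintro _ ⟨t, rfl⟩
          have hvu' : v ^ (t.2.1 * (orderOf v - 1)) = (v ^ t.2.1)⁻¹ := by
            refine eq_inv_of_mul_eq_one_left ?_
            rw [← pow_add, ← Nat.mul_add_one, Nat.sub_add_cancel (orderOf_pos v), mul_comm,
              pow_mul, pow_orderOf_eq_one, one_pow]
          have hu' : u ^ (t.1 * (orderOf u - 1)) = (u ^ t.1)⁻¹ := by
            refine eq_inv_of_mul_eq_one_left ?_
            rw [← pow_add, ← Nat.mul_add_one, Nat.sub_add_cancel (orderOf_pos u), mul_comm,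
              pow_mul, pow_orderOf_eq_one, one_pow]
          have hw' : w ^ (t.2.2 * (orderOf w - 1)) = (w ^ t.2.2)⁻¹ := by
            refine eq_inv_of_mul_eq_one_left ?_
            rw [← pow_add, ← Nat.mul_add_one, Nat.sub_add_cancel (orderOf_pos w), mul_comm,
              pow_mul, pow_orderOf_eq_one, one_pow]
          refine ⟨(t.1 * (orderOf u - 1), t.2.1 * (orderOf v - 1), t.2.2 * (orderOf w - 1)), ?_⟩
          simp only [hvu', hu', hw', mul_inv_rev]
          rw [(huv.pow_pow _ _).inv_inv.eq]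
          exact ((hvw.pow_pow _ _).inv_inv.symm.mul_right (huw.pow_pow _ _).inv_inv.symm).eq.symm }
    have hle : D ≤ K := hgen.trans ((Subgroup.closure_le _).2 (by
      rintro y (hy | hy | hy)
      · exact ⟨(1, 0, 0), by simp [hy]⟩
      · exact ⟨(0, 1, 0), by simp [hy]⟩
      · exact ⟨(0, 0, 1), by simp [Set.mem_singleton_iff.1 hy]⟩))
    have hmem : ∀ y ∈ D, ∃ t, f t = y := by
      intro y hy
      obtain ⟨t, rfl⟩ := hle hy
      refine ⟨(⟨t.1 % orderOf u, Nat.mod_lt _ (orderOf_pos u)⟩,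
        ⟨t.2.1 % orderOf v, (Nat.mod_lt _ (orderOf_pos v)).trans_le hvu⟩,
        ⟨t.2.2 % orderOf w, (Nat.mod_lt _ (orderOf_pos w)).trans_le hwu⟩), ?_⟩
      simp only [f, pow_mod_orderOf]
    choose g hg using hmem
    have h := Nat.card_le_card_of_injective (fun y : D => g y.1 y.2) fun y y' e =>
      Subtype.ext (((hg y.1 y.2).symm.trans (congrArg f e)).trans (hg y'.1 y'.2))
    rw [Nat.card_prod, Nat.card_prod, Nat.card_fin] at h
    exact h.trans (le_of_eq (by ring))
  -- the dominated block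
  set D' := (D.subgroupOf (Subgroup.centralizer ({u} : Set G))).map (QuotientGroup.mk' Z) with hD'
  have hvC : v ∈ Subgroup.centralizer ({u} : Set G) :=
    Subgroup.mem_centralizer_singleton_iff.2 (hab v hv u hu)
  have hwC : w ∈ Subgroup.centralizer ({u} : Set G) :=
    Subgroup.mem_centralizer_singleton_iff.2 (hab w hw u hu)
  let f := QuotientGroup.mk' Z
  have hab' : ∀ x ∈ D', ∀ y ∈ D', x * y = y * x := by
    rintro _ ⟨x, hx, rfl⟩ _ ⟨y, hy, rfl⟩
    rw [← map_mul, ← map_mul]
    exact congrArg _ (Subtype.ext (hab _ hx _ hy))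
  have hgen' : D' ≤ Subgroup.closure {f ⟨v, hvC⟩, f ⟨w, hwC⟩} := by
    rintro _ ⟨y, hy, rfl⟩
    have hle : Subgroup.closure ({u, v, w} : Set G) ≤
        ((Subgroup.closure {f ⟨v, hvC⟩, f ⟨w, hwC⟩}).comap f).map
          (Subgroup.centralizer ({u} : Set G)).subtype := by
      rw [Subgroup.closure_le]
      rintro a (ha | ha | ha)
      · refine ⟨⟨u, Subgroup.mem_centralizer_singleton_iff.2 rfl⟩, ?_, ha.symm⟩
        show f _ ∈ Subgroup.closure _
        have h1 : f ⟨u, Subgroup.mem_centralizer_singleton_iff.2 rfl⟩ = 1 :=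
          (QuotientGroup.eq_one_iff _).2 (hZdef ▸ Subgroup.mem_zpowers _)
        rw [h1]
        exact one_mem _
      · exact ⟨⟨v, hvC⟩, Subgroup.subset_closure (Or.inl rfl), ha.symm⟩
      · exact ⟨⟨w, hwC⟩, Subgroup.subset_closure (Or.inr rfl), (Set.mem_singleton_iff.1 ha).symm⟩
    obtain ⟨y', hy', hyy⟩ := hle (hgen hy)
    have hy'' : y' = y := Subtype.ext hyy
    exact hy'' ▸ hy'
  have h2 := card_le_of_two hM hc hcD hab' (u := f ⟨v, hvC⟩) (v := f ⟨w, hwC⟩)
    ⟨⟨v, hvC⟩, hv, rfl⟩ ⟨⟨w, hwC⟩, hw, rfl⟩ hgen'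
  have hl : blockRank p b ≤ p ^ blockDefect p c := by
    rw [hrank, ← natCard_defectGroup hM hc hcD]
    exact (blockRank_le_card (p := p) (B := c)).trans h2
  have hk := BrauerFeit.card_le_mul_rank hM hx hb
    (fun χ hχ => B.toFinite.mem_toFinset.1 hχ)
    (fun χ hχ => subEntry_self_ne_zero hM hx hb hdb (B.toFinite.mem_toFinset.1 hχ))
  rw [← Set.ncard_eq_toFinset_card B B.toFinite, ← Nat.card_coe_set_eq, hdb] at hk
  rw [natCard_defectGroup hM hB hD, hi, ← pow_mul] at hDcard
  have hd3 : blockDefect p B ≤ i * 3 := (Nat.pow_le_pow_iff_right hM.1.one_lt).1 hDcard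
  rw [natCard_defectGroup hM hB hD, ← pow_mul]
  refine (Nat.pow_le_pow_left (hk.trans (Nat.mul_le_mul_left _ hl)) 3).trans ?_
  rw [← pow_add, ← pow_mul]
  exact Nat.pow_le_pow_right hM.1.pos (by omega)

end CfsgLib.BlockA.AbelianRankCount
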