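import Cfsg.Agent.Lib.BlockB.HeightBound

/-!
The subsections of a block with abelian defect group: they correspond to the orbits of the
stabilizer of a maximal pair on the defect group.
-/

set_option autoImplicit false
set_option linter.unusedSectionVars false

namespace CfsgLib.BlockA.AbelianSub

open Cfsg MonoidAlgebra CfsgLib.Block CfsgLib.BlockA CfsgLib.BlockB CfsgLib.BlockB.SubSum
  CfsgLib.BlockB.HeightBound
open scoped ComplexConjugate

universe u

variable {G : Type u} [Group G] [Fintype G] {p : ℕ} {M : Ideal AlgInt} [M.IsPrime]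
variable (hM : IsPModular p M) {B : Set (IrrCharacter G)} {P : Subgroup G}

local notation "cen" Q => Subgroup.centralizer ((Q : Subgroup G) : Set G)

variable {eP : Set (IrrCharacter (Subgroup.centralizer (P : Set G)))} (hmax : IsMaximalBrauerPair p M B P eP)

/-- The coefficient function of a conjugate block. -/
theorem coeff_conjBlock (Q : Subgroup G) (x : G) (f : Set (IrrCharacter (cen Q))) :
    subgroupBlockCoeff (cen (Q.map (MulAut.conj x).toMonoidHom)) (conjBlock Q x f) =
      conjFun x (subgroupBlockCoeff (cen Q) f) := by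
  funext k
  rw [conjBlock_eq_blockMap]
  unfold conjFun subgroupBlockCoeff
  have hiff : k ∈ (cen (Q.map (MulAut.conj x).toMonoidHom)) ↔ x⁻¹ * k * x ∈ (cen Q) := by
    constructor
    · intro hk
      exact (cenMap Q x ⟨k, hk⟩).2
    · intro hk
      rw [← map_conj_centralizer, mem_map_conj_iff]
      exact hk
  by_cases hk : k ∈ (cen (Q.map (MulAut.conj x).toMonoidHom))
  · rw [dif_pos hk, dif_pos (hiff.1 hk), blockCoeff_blockMap]
    rfl
  · rw [dif_neg hk, dif_neg fun h2 => hk (hiff.2 h2)]

omit [M.IsPrime] in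
/-- Induction of blocks commutes with conjugation of the centralizers. -/
theorem isInducedBlock_cenConj {z : G}
    {b : Set (IrrCharacter (Subgroup.centralizer ({z} : Set G)))}
    (hb : IsInducedBlock M (Subgroup.centralizer ({z} : Set G)) b B) (a : G) :
    IsInducedBlock M (Subgroup.centralizer ({a * z * a⁻¹} : Set G)) (blockMap (cenConj a z) b) B := by
  refine ⟨isPBlock_blockMap _ hb.1, hb.2.1, fun ξ hξ χ hχ g => ?_⟩
  obtain ⟨θ, hθ, rfl⟩ := hξ
  have h : inducedCentralChar (Subgroup.centralizer ({a * z * a⁻¹} : Set G))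
      (irrMap (cenConj a z) θ : _ → ℂ) g =
        inducedCentralChar (Subgroup.centralizer ({z} : Set G)) (θ : _ → ℂ) g := by
    rw [inducedCentralChar, inducedCentralChar]
    have hcj : ∀ h : Subgroup.centralizer ({a * z * a⁻¹} : Set G),
        IsConj ((h : G)) (cenConj a z h : G) :=
      fun h => isConj_iff.2 ⟨a⁻¹, by
        show a⁻¹ * (h : G) * a⁻¹⁻¹ = a⁻¹ * h * a
        rw [inv_inv]⟩
    refine finsum_mem_eq_of_bijOn (cenConj a z) ⟨fun h hh => hh.trans (hcj h),
      (cenConj a z).injective.injOn, fun c hc =>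
        ⟨(cenConj a z).symm c, ?_, (cenConj a z).apply_symm_apply c⟩⟩ fun h _ => ?_
    · have h1 := hcj ((cenConj a z).symm c)
      rw [(cenConj a z).apply_symm_apply] at h1
      exact hc.trans h1.symm
    · rw [irrMap_apply, irrMap_apply, map_one]
  rw [h]
  exact hb.2.2 θ hθ χ hχ g

omit [Fintype G] [M.IsPrime] in
/-- The defect of a block is invariant under isomorphisms. -/
theorem blockDefect_blockMap {H K : Type u} [Group H] [Group K] [Finite H] [Finite K]
    (φ : H ≃* K) (c : Set (IrrCharacter K)) :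
    blockDefect p (blockMap φ c) = blockDefect p c := by
  have hdeg : ∀ ψ : IrrCharacter K,
      charDegree (irrMap φ ψ : H → ℂ) = charDegree (ψ : K → ℂ) := fun ψ => by
    simp only [charDegree, irrMap_apply, map_one]
  simp only [blockDefect, blockMap, Set.image_image, hdeg, Nat.card_congr φ.toEquiv]

include hM hmax

theorem exists_below {z : G} (hz : z ∈ P) :
    ∃ f, IsPBlock M f ∧ SubpairLE p M (Subgroup.zpowers z) f P eP :=
  exists_subpair hM hmax.1.1 _ _ (Subgroup.zpowers_le.2 hz) rfl

open Classical in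
/-- The coefficients of the block below the maximal pair at an element. -/
noncomputable def beta (z : G) : G → ℂ :=
  if hz : z ∈ P then
    subgroupBlockCoeff (cen (Subgroup.zpowers z)) (exists_below hM hmax hz).choose
  else 0

theorem beta_eq_of_below {z : G} (hz : z ∈ P) {Q : Subgroup G} (h : Q = Subgroup.zpowers z)
    {f : Set (IrrCharacter (cen Q))} (hf : SubpairLE p M Q f P eP) :
    subgroupBlockCoeff (cen Q) f = beta hM hmax z := by
  rw [beta, dif_pos hz]
  exact congrArg (fun q : BrauerPairIdx G => subgroupBlockCoeff (cen q.1) q.2)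
    (idx_eq_of_below hM hmax.1.1 h hf (exists_below hM hmax hz).choose_spec.2)

/-- The major subsection at an element of the abelian defect group. -/
theorem exists_blk (hab : ∀ v ∈ P, ∀ w ∈ P, v * w = w * v) {z : G} (hz : z ∈ P) :
    ∃ b : Set (IrrCharacter (Subgroup.centralizer ({z} : Set G))),
      IsInducedBlock M (Subgroup.centralizer ({z} : Set G)) b B ∧
      subgroupBlockCoeff (Subgroup.centralizer ({z} : Set G)) b = beta hM hmax z ∧
      blockDefect p b = blockDefect p B := by
  obtain ⟨b, h1, h2, h3⟩ := exists_major hM hmax hz (fun w hw => hab w hw z hz)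
    (exists_below hM hmax hz).choose_spec.2
  exact ⟨b, h1, h2.trans (by rw [beta, dif_pos hz]), h3⟩

/-- The stabilizer permutes the blocks below. -/
theorem beta_stab {z t : G} (hz : z ∈ P) (ht : t ∈ pairStab M P eP) :
    t * z * t⁻¹ ∈ P ∧ conjFun t (beta hM hmax z) = beta hM hmax (t * z * t⁻¹) := by
  have htz : t * z * t⁻¹ ∈ P := ((Subgroup.mem_normalizer_iff).1 (pairStab_le P eP ht) z).1 hz
  refine ⟨htz, ?_⟩
  have h := subpairLE_conj hM (exists_below hM hmax hz).choose_spec.2 t
  have e1 := conjIdx_eq_of_mem hM hmax.1.1.2 ht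
  have h' : SubpairLE p M ((Subgroup.zpowers z).map (MulAut.conj t).toMonoidHom)
      (conjBlock _ t (exists_below hM hmax hz).choose) P eP := by
    unfold SubpairLE at h ⊢
    rwa [e1] at h
  have hQ : (Subgroup.zpowers z).map (MulAut.conj t).toMonoidHom =
      Subgroup.zpowers (t * z * t⁻¹) := by
    rw [MonoidHom.map_zpowers]
    rfl
  rw [← beta_eq_of_below hM hmax htz hQ h', coeff_conjBlock, beta, dif_pos hz]

/-- **Every subsection is conjugate to one below the maximal pair.** -/
theorem exists_conj_major {u : G} (hu : ∃ k : ℕ, orderOf u = p ^ k)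
    {b : Set (IrrCharacter (Subgroup.centralizer ({u} : Set G)))}
    (hb : IsInducedBlock M (Subgroup.centralizer ({u} : Set G)) b B) :
    ∃ x : G, x * u * x⁻¹ ∈ P ∧
      conjFun x (subgroupBlockCoeff (Subgroup.centralizer ({u} : Set G)) b) =
        beta hM hmax (x * u * x⁻¹) := by
  classical
  have key : ∀ H : Subgroup G, H = Subgroup.centralizer ({u} : Set G) →
      ∃ b' : Set (IrrCharacter H), IsInducedBlock M H b' B ∧
        subgroupBlockCoeff H b' = subgroupBlockCoeff (Subgroup.centralizer ({u} : Set G)) b := by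
    rintro _ rfl
    exact ⟨b, hb, rfl⟩
  obtain ⟨b', hb', hcoef⟩ := key (cen (Subgroup.zpowers u)) (cen_zpowers u)
  have hQ : IsPGroup p (Subgroup.zpowers u) := by
    obtain ⟨k, hk⟩ := hu
    exact IsPGroup.of_card (n := k) (by rw [Nat.card_zpowers, hk])
  have hpair : IsBrauerPair p M (Subgroup.zpowers u) b' := ⟨hQ, hb'.1⟩
  obtain ⟨B', hB', -⟩ := existsUnique_block hM hpair
  have hB'B : B' = B :=
    isInducedBlock_unique _ (isInducedBlock_of_isBrauerPairOf hM hB') hb'
  subst hB'B
  obtain ⟨x, hx⟩ := exists_conj_le_maximal hM hmax hB'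
  have hmap : (Subgroup.zpowers u).map (MulAut.conj x).toMonoidHom =
      Subgroup.zpowers (x * u * x⁻¹) := by
    rw [MonoidHom.map_zpowers]
    rfl
  have hmem : x * u * x⁻¹ ∈ P := by
    refine subpairLE_le hx ?_
    rw [hmap]
    exact Subgroup.mem_zpowers _
  refine ⟨x, hmem, ?_⟩
  rw [← hcoef, ← coeff_conjBlock, beta_eq_of_below hM hmax hmem hmap hx]

/-- **Subsections over one orbit of the stabilizer coincide.** -/
theorem eq_of_orbit {u u' x x' t : G} (ht : t ∈ pairStab M P eP) (hxu : x * u * x⁻¹ ∈ P)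
    (htx : t * (x * u * x⁻¹) * t⁻¹ = x' * u' * x'⁻¹)
    {b : Set (IrrCharacter (Subgroup.centralizer ({u} : Set G)))}
    (hb : IsPBlock M b)
    (hβ : conjFun x (subgroupBlockCoeff (Subgroup.centralizer ({u} : Set G)) b) =
      beta hM hmax (x * u * x⁻¹))
    {b' : Set (IrrCharacter (Subgroup.centralizer ({u'} : Set G)))}
    (hb' : IsPBlock M b')
    (hβ' : conjFun x' (subgroupBlockCoeff (Subgroup.centralizer ({u'} : Set G)) b') =
      beta hM hmax (x' * u' * x'⁻¹)) :
    IsConj u u' ∧ ∀ h : u = u', h ▸ b = b' := by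
  set c := x'⁻¹ * t * x with hc
  have hcu : c * u * c⁻¹ = u' := by
    rw [hc]
    calc x'⁻¹ * t * x * u * (x'⁻¹ * t * x)⁻¹ = x'⁻¹ * (t * (x * u * x⁻¹) * t⁻¹) * x' := by group
      _ = u' := by rw [htx]; group
  refine ⟨isConj_iff.2 ⟨c, hcu⟩, ?_⟩
  rintro rfl
  refine subgroupBlockCoeff_injective hM hb hb' ?_
  have h1 := (beta_stab hM hmax hxu ht).2
  rw [← hβ, htx, ← hβ', conjFun_conjFun] at h1
  have h2 := congrArg (conjFun x'⁻¹) h1
  rw [conjFun_conjFun, conjFun_conjFun, ← mul_assoc, ← hc, inv_mul_cancel] at h2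
  have hone : ∀ β : G → ℂ, conjFun (1 : G) β = β := fun β => by funext k; simp [conjFun]
  rw [hone] at h2
  refine Eq.trans ?_ h2
  funext k
  unfold conjFun subgroupBlockCoeff
  have hcC : c ∈ Subgroup.centralizer ({u} : Set G) := Subgroup.mem_centralizer_singleton_iff.2 (by
    calc c * u = c * u * c⁻¹ * c := by group
      _ = u * c := by rw [hcu])
  by_cases hk : k ∈ Subgroup.centralizer ({u} : Set G)
  · have hk' : c⁻¹ * k * c ∈ Subgroup.centralizer ({u} : Set G) :=
      mul_mem (mul_mem (inv_mem hcC) hk) hcC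
    rw [dif_pos hk, dif_pos hk']
    have h3 := blockSum_isClassCoeff b (⟨k, hk⟩ : Subgroup.centralizer ({u} : Set G))
      (⟨c, hcC⟩⁻¹ : Subgroup.centralizer ({u} : Set G))
    simp only [blockSum, coeff_mkGA] at h3
    rw [← h3]
    congr 1
    exact Subtype.ext (by simp)
  · have hk' : c⁻¹ * k * c ∉ Subgroup.centralizer ({u} : Set G) := fun hh => hk (by
      have h3 := mul_mem (mul_mem hcC hh) (inv_mem hcC)
      simpa [mul_assoc] using h3)
    rw [dif_neg hk, dif_neg hk']

end CfsgLib.BlockA.AbelianSub
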