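import Cfsg.Agent.Lib.BlockA.BlockMap
import Cfsg.Agent.Lib.BlockB.RegRank
import Cfsg.Agent.Lib.Invol.Basic

/-!
The subsection at the identity: a block seen in an improper subgroup induces itself and keeps its
rank.
-/

set_option autoImplicit false
set_option linter.unusedSectionVars false

namespace CfsgLib.BlockA

open Cfsg CfsgLib.Block CfsgLib.BlockB
open scoped ComplexConjugate

universe u

variable {G : Type u} [Group G] [Fintype G] {p : ℕ} {M : Ideal AlgInt} [M.IsPrime]

theorem blockRank_blockMap {H K : Type u} [Group H] [Group K] [Fintype H] [Fintype K]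
    (hM : IsPModular p M) (φ : H ≃* K) {B : Set (IrrCharacter K)} (hB : IsPBlock M B) :
    blockRank p (blockMap φ B) = blockRank p B := by
  classical
  refine Nat.cast_injective (R := ℂ) ?_
  rw [blockRank_eq_sum hM (isPBlock_blockMap φ hB), blockRank_eq_sum hM hB,
    show (blockMap φ B).toFinite.toFinset = B.toFinite.toFinset.image (irrMap φ) by
      ext ξ; simp [blockMap],
    Finset.sum_image fun χ _ ψ _ h => irrMap_injective φ h]
  refine Finset.sum_congr rfl fun χ _ => ?_
  simp only [CfsgLib.Char.classInner_def, Nat.card_congr φ.toEquiv, irrMap_apply]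
  congr 1
  refine Fintype.sum_equiv φ.toEquiv _ _ fun h => ?_
  simp [regInd, MulEquiv.orderOf_eq]

/-- **A block induces itself from the whole group, with the same rank.** -/
theorem exists_top_induced (hM : IsPModular p M) {B : Set (IrrCharacter G)} (hB : IsPBlock M B)
    {H : Subgroup G} [Fintype H] (hH : H = ⊤) :
    ∃ b : Set (IrrCharacter H), IsInducedBlock M H b B ∧ blockRank p b = blockRank p B := by
  classical
  subst hH
  set φ : (⊤ : Subgroup G) ≃* G := Subgroup.topEquiv with hφ
  refine ⟨blockMap φ B, ⟨isPBlock_blockMap φ hB, hB, fun ξ hξ χ hχ g => ?_⟩,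
    blockRank_blockMap hM φ hB⟩
  obtain ⟨ψ, hψ, rfl⟩ := hξ
  have hsame := sameBlock_of_mem hB hψ hχ g
  have hval : inducedCentralChar (⊤ : Subgroup G) (irrMap φ ψ : (⊤ : Subgroup G) → ℂ) g =
      centralChar (ψ : G → ℂ) g := by
    rw [inducedCentralChar, finsum_mem_congr rfl (g := fun _ => (ψ : G → ℂ) g / (ψ : G → ℂ) 1)
      (fun h hh => ?_), finsum_mem_eq_finite_toFinset_sum _ (Set.toFinite _), Finset.sum_const,
      nsmul_eq_mul]
    · have hcard : (Set.toFinite {h : (⊤ : Subgroup G) | IsConj g (h : G)}).toFinset.card =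
          (Subgroup.centralizer ({g} : Set G)).index := by
        refine Nat.eq_of_mul_eq_mul_right
          (Nat.card_pos (α := Subgroup.centralizer ({g} : Set G))) ?_
        rw [Subgroup.index_mul_card, ← Set.ncard_eq_toFinset_card, ← Nat.card_coe_set_eq,
          show Nat.card {h : (⊤ : Subgroup G) | IsConj g (h : G)} = Nat.card {t : G | IsConj g t} from
            Nat.card_congr ⟨fun h => ⟨(h.1 : G), h.2⟩, fun t => ⟨⟨t.1, Subgroup.mem_top _⟩, t.2⟩,
              fun _ => rfl, fun _ => rfl⟩,
          Set.coe_setOf, CfsgLib.Invol.card_class_mul_card_centralizer]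
      rw [hcard, centralChar]
      ring
    · obtain ⟨c, hc⟩ := isConj_iff.1 (hh : IsConj g (h : G))
      rw [irrMap_apply, irrMap_apply, map_one, hφ, Subgroup.topEquiv_apply, ← hc,
        CfsgLib.Char.irr_isClassFunction ψ.2 g c]
  rw [hval]
  exact hsame

end CfsgLib.BlockA
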