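import Cfsg.Agent.Lib.BlockA.AbelianSubsections
import Cfsg.Agent.Lib.BlockA.TrivialSubsection
import Cfsg.Agent.Lib.BlockA.SectionNorms
import Cfsg.Agent.Lib.BlockA.BlockNilp
import Cfsg.Agent.Lib.BlockB.StarOrbits

/-!
The traces of the products with stable functions, for a block with abelian defect group, as sums
over the defect group of the ranks of the local blocks.
-/

set_option autoImplicit false
set_option linter.unusedSectionVars false
set_option maxHeartbeats 1000000

namespace CfsgLib.BlockA.AbelianTrace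

open Cfsg CfsgLib.Block CfsgLib.BlockA CfsgLib.BlockB CfsgLib.BlockB.SubSum
  CfsgLib.BlockB.HeightBound CfsgLib.BlockB.Star AbelianSub
open scoped ComplexConjugate

universe u

variable {G : Type u} [Group G] [Fintype G] {p : ℕ} {M : Ideal AlgInt} [M.IsPrime]

open Classical in
/-- The orbit of an element under the stabilizer of a pair. -/
noncomputable def orb (M : Ideal AlgInt) [M.IsPrime] (P : Subgroup G)
    (c : Set (IrrCharacter (Subgroup.centralizer (P : Set G)))) (v : G) : Finset G :=
  Finset.univ.filter fun w => ∃ t ∈ pairStab M P c, t * v * t⁻¹ = w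

variable {P : Subgroup G} {c : Set (IrrCharacter (Subgroup.centralizer (P : Set G)))}

theorem mem_orb {v w : G} : w ∈ orb M P c v ↔ ∃ t ∈ pairStab M P c, t * v * t⁻¹ = w := by
  simp [orb]

theorem self_mem_orb (v : G) : v ∈ orb M P c v := mem_orb.2 ⟨1, one_mem _, by simp⟩

theorem orb_eq {v w : G} (h : w ∈ orb M P c v) : orb M P c w = orb M P c v := by
  obtain ⟨t, ht, rfl⟩ := mem_orb.1 h
  ext z
  simp only [mem_orb]
  constructor
  · rintro ⟨s, hs, rfl⟩
    exact ⟨s * t, mul_mem hs ht, by group⟩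
  · rintro ⟨s, hs, rfl⟩
    exact ⟨s * t⁻¹, mul_mem hs (inv_mem ht), by group⟩

variable (hM : IsPModular p M) {B : Set (IrrCharacter G)} (hmax : IsMaximalBrauerPair p M B P c)
  (hab : ∀ v ∈ P, ∀ w ∈ P, v * w = w * v)
include hM hmax hab

/-- Functions invariant under the stabilizer are stable. -/
theorem isStable_of_invariant {lam : P → ℂ}
    (h : ∀ t ∈ pairStab M P c, ∀ x y : P, t * (x : G) * t⁻¹ = y → lam y = lam x) :
    IsStable p M P c lam := by
  intro x y g hg hgxy
  obtain ⟨d, hd, hdt⟩ := exists_mem_stab_of_abelian hM hmax hab hg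
  refine h _ hdt x y ?_
  have hy : (y : G) ∈ (Subgroup.zpowers (x : G)).map (MulAut.conj g).toMonoidHom :=
    ⟨x, Subgroup.mem_zpowers _, hgxy⟩
  calc d * g * (x : G) * (d * g)⁻¹ = d * (g * (x : G) * g⁻¹) * d⁻¹ := by group
    _ = y := by rw [hgxy, ← Subgroup.mem_centralizer_iff.1 hd y hy, mul_inv_cancel_right]

/-- The block of the centralizer below the maximal pair. -/
noncomputable def blk {v : G} (hv : v ∈ P) :
    Set (IrrCharacter (Subgroup.centralizer ({v} : Set G))) :=
  (exists_blk hM hmax hab hv).choose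

theorem blk_spec {v : G} (hv : v ∈ P) :
    IsInducedBlock M (Subgroup.centralizer ({v} : Set G)) (blk hM hmax hab hv) B ∧
      subgroupBlockCoeff (Subgroup.centralizer ({v} : Set G)) (blk hM hmax hab hv) =
        beta hM hmax v :=
  ⟨(exists_blk hM hmax hab hv).choose_spec.1, (exists_blk hM hmax hab hv).choose_spec.2.1⟩

theorem coeff_conj_blk (a : G) {v : G} (hv : v ∈ P) :
    subgroupBlockCoeff (Subgroup.centralizer ({a * v * a⁻¹} : Set G))
        (blockMap (cenConj a v) (blk hM hmax hab hv)) = conjFun a (beta hM hmax v) := by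
  rw [← conjFun_subgroupBlockCoeff, (blk_spec hM hmax hab hv).2]

theorem rank_eq_of_coeff {a v x : G} (hv : v ∈ P) (hx : a * v * a⁻¹ = x)
    {b : Set (IrrCharacter (Subgroup.centralizer ({x} : Set G)))} (hb : IsPBlock M b)
    (hβ : subgroupBlockCoeff (Subgroup.centralizer ({x} : Set G)) b =
      conjFun a (beta hM hmax v)) :
    blockRank p b = blockRank p (blk hM hmax hab hv) := by
  subst hx
  have := Fintype.ofFinite (Subgroup.centralizer ({v} : Set G))
  have := Fintype.ofFinite (Subgroup.centralizer ({a * v * a⁻¹} : Set G))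
  rw [subgroupBlockCoeff_injective hM hb
    (isPBlock_blockMap _ (blk_spec hM hmax hab hv).1.1)
    (hβ.trans (coeff_conj_blk hM hmax hab a hv).symm),
    blockRank_blockMap hM _ (blk_spec hM hmax hab hv).1.1]

theorem conjFun_beta_centralizer {v d : G} (hv : v ∈ P)
    (hd : d ∈ Subgroup.centralizer ({v} : Set G)) :
    conjFun d (beta hM hmax v) = beta hM hmax v := by
  rw [← (blk_spec hM hmax hab hv).2]
  funext k
  unfold conjFun subgroupBlockCoeff
  by_cases hk : k ∈ Subgroup.centralizer ({v} : Set G)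
  · have hk' : d⁻¹ * k * d ∈ Subgroup.centralizer ({v} : Set G) :=
      mul_mem (mul_mem (inv_mem hd) hk) hd
    rw [dif_pos hk, dif_pos hk']
    have h3 := blockSum_isClassCoeff (blk hM hmax hab hv)
      (⟨k, hk⟩ : Subgroup.centralizer ({v} : Set G))
      (⟨d, hd⟩⁻¹ : Subgroup.centralizer ({v} : Set G))
    simp only [blockSum, coeff_mkGA] at h3
    rw [← h3]
    congr 1
    exact Subtype.ext (by simp)
  · have hk' : d⁻¹ * k * d ∉ Subgroup.centralizer ({v} : Set G) := fun hh => hk (by
      have h3 := mul_mem (mul_mem hd hh) (inv_mem hd)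
      simpa [mul_assoc] using h3)
    rw [dif_neg hk, dif_neg hk']

/-- The weight of an element of the defect group. -/
noncomputable def rk (v : P) : ℂ := (blockRank p (blk hM hmax hab v.2) : ℂ)

open Classical in
/-- The conjugations carrying a local block below the pair to a given one. -/
noncomputable def carriers (x : G) (β : G → ℂ) : Finset (G × P) :=
  Finset.univ.filter fun q =>
    q.1 * (q.2 : G) * q.1⁻¹ = x ∧ conjFun q.1 (beta hM hmax (q.2 : G)) = β

theorem mem_carriers {x : G} {β : G → ℂ} {q : G × P} :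
    q ∈ carriers hM hmax x β ↔
      q.1 * (q.2 : G) * q.1⁻¹ = x ∧ conjFun q.1 (beta hM hmax (q.2 : G)) = β := by
  simp [carriers]

theorem card_carriers {x : G} {β : G → ℂ} {a₀ : G} {v₀ : P}
    (h₀ : (a₀, v₀) ∈ carriers hM hmax x β) :
    (carriers hM hmax x β).card =
        (orb M P c (v₀ : G)).card * Nat.card (Subgroup.centralizer ({(v₀ : G)} : Set G)) ∧
      ∀ q ∈ carriers hM hmax x β, (q.2 : G) ∈ orb M P c (v₀ : G) := by
  classical
  obtain ⟨hx₀, hβ₀⟩ := (mem_carriers hM hmax hab).1 h₀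
  have horb : ∀ q ∈ carriers hM hmax x β, (q.2 : G) ∈ orb M P c (v₀ : G) := by
    rintro ⟨a, v⟩ hq
    obtain ⟨hx, hβ⟩ := (mem_carriers hM hmax hab).1 hq
    obtain ⟨f, -, hf⟩ := exists_below hM hmax v₀.2
    obtain ⟨f', -, hf'⟩ := exists_below hM hmax v.2
    refine mem_orb.2 (exists_stab_conj hM hmax v₀.2 (fun w hw => hab w hw _ v₀.2) v.2
      (fun w hw => hab w hw _ v.2) (a := a⁻¹ * a₀) ?_ hf hf' ?_)
    · calc a⁻¹ * a₀ * (v₀ : G) * (a⁻¹ * a₀)⁻¹ = a⁻¹ * (a₀ * (v₀ : G) * a₀⁻¹) * a := by group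
        _ = a⁻¹ * (a * (v : G) * a⁻¹) * a := by rw [hx₀, hx]
        _ = v := by group
    · rw [beta_eq_of_below hM hmax v₀.2 rfl hf, beta_eq_of_below hM hmax v.2 rfl hf',
        ← conjFun_conjFun, hβ₀, ← hβ, conjFun_inv]
  refine ⟨?_, horb⟩
  rw [Finset.card_eq_sum_card_fiberwise (t := orb M P c (v₀ : G)) (f := fun q => (q.2 : G))
    (fun q hq => Finset.mem_coe.2 (horb q (Finset.mem_coe.1 hq))),
    Finset.sum_congr rfl (g := fun _ => Nat.card (Subgroup.centralizer ({(v₀ : G)} : Set G)))
      fun w hw => ?_, Finset.sum_const, smul_eq_mul]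
  obtain ⟨t, ht, rfl⟩ := mem_orb.1 hw
  obtain ⟨hwP, hbt⟩ := beta_stab hM hmax v₀.2 ht
  have hbase : a₀ * t⁻¹ * (t * (v₀ : G) * t⁻¹) * (a₀ * t⁻¹)⁻¹ = x := by
    rw [← hx₀]; group
  rw [Finset.card_bij (t := Finset.univ.filter fun a : G => a * (t * (v₀ : G) * t⁻¹) * a⁻¹ = x)
    (fun q _ => q.1) (fun q hq => ?_) (fun q hq q' hq' e => ?_) (fun a ha => ?_),
    natCard_conjugators (isConj_iff.2 ⟨_, hbase⟩)]
  · exact (Nat.card_congr (cenConj t (v₀ : G)).toEquiv)
  · obtain ⟨hq1, hq2⟩ := Finset.mem_filter.1 hq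
    refine Finset.mem_filter.2 ⟨Finset.mem_univ _, ?_⟩
    rw [← hq2]
    exact ((mem_carriers hM hmax hab).1 hq1).1
  · exact Prod.ext e (Subtype.ext ((Finset.mem_filter.1 hq).2.trans (Finset.mem_filter.1 hq').2.symm))
  · have ha' := (Finset.mem_filter.1 ha).2
    refine ⟨(a, ⟨t * (v₀ : G) * t⁻¹, hwP⟩), Finset.mem_filter.2
      ⟨(mem_carriers hM hmax hab).2 ⟨ha', ?_⟩, rfl⟩, rfl⟩
    have hd : (a₀ * t⁻¹)⁻¹ * a ∈ Subgroup.centralizer ({t * (v₀ : G) * t⁻¹} : Set G) := by
      rw [Subgroup.mem_centralizer_singleton_iff]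
      calc (a₀ * t⁻¹)⁻¹ * a * (t * (v₀ : G) * t⁻¹)
          = (a₀ * t⁻¹)⁻¹ * (a * (t * (v₀ : G) * t⁻¹) * a⁻¹) * a := by group
        _ = (a₀ * t⁻¹)⁻¹ * x * a := by rw [ha']
        _ = t * (v₀ : G) * t⁻¹ * ((a₀ * t⁻¹)⁻¹ * a) := by rw [← hbase]; group
    show conjFun a (beta hM hmax (t * (v₀ : G) * t⁻¹)) = β
    conv_lhs => rw [show a = a₀ * t⁻¹ * ((a₀ * t⁻¹)⁻¹ * a) from (mul_inv_cancel_left _ a).symm,
      ← conjFun_conjFun, conjFun_beta_centralizer hM hmax hab hwP hd, ← conjFun_conjFun, ← hbt,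
      conjFun_inv, hβ₀]

/-- Conjugate of a block part. -/
theorem blockPart_inv_eq_conj {x : G} [Fintype (Subgroup.centralizer ({x} : Set G))]
    (b : Set (IrrCharacter (Subgroup.centralizer ({x} : Set G)))) (χ : IrrCharacter G)
    (y : Subgroup.centralizer ({x} : Set G)) :
    blockPart b (fun c : Subgroup.centralizer ({x} : Set G) => (χ : G → ℂ) (x⁻¹ * (c : G))) y⁻¹ =
      conj (blockPart b
        (fun c : Subgroup.centralizer ({x} : Set G) => (χ : G → ℂ) (x * (c : G))) y) := by
  classical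
  rw [blockPart_eq_kernel, blockPart_eq_kernel, map_mul, map_inv₀, Complex.conj_natCast, map_sum]
  congr 1
  refine Fintype.sum_equiv (Equiv.inv _) _ _ fun z => ?_
  simp only [Equiv.inv_apply, map_mul, finsum_mem_eq_finite_toFinset_sum _ b.toFinite, map_sum,
    Complex.conj_conj, Finset.sum_mul]
  refine Finset.sum_congr rfl fun ψ _ => ?_
  rw [irr_conj_eq χ.2, irr_conj_eq ψ.2, irr_conj_eq ψ.2]
  congr 2
  push_cast
  have hz : x * (z : G) = (z : G) * x := (Subgroup.mem_centralizer_singleton_iff.1 z.2).symm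
  rw [mul_inv_rev, inv_inv]
  refine congrArg (χ : G → ℂ) ?_
  rw [eq_mul_inv_iff_mul_eq, mul_assoc, ← hz, inv_mul_cancel_left]

open Classical in
/-- **The trace of the product with an invariant function.** -/
theorem trace_star {lam : P → ℂ}
    (hlam : ∀ t ∈ pairStab M P c, ∀ x y : P, t * (x : G) * t⁻¹ = y → lam y = lam x) :
    ∑ χ ∈ B.toFinite.toFinset, classInner (CfsgLib.BlockB.Star.star p M P c (χ : G → ℂ) lam) (χ : G → ℂ) =
      ∑ v : P, lam v * rk hM hmax hab v / ((orb M P c (v : G)).card : ℂ) := by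
  have hst := isStable_of_invariant hM hmax hab hlam
  have hp := hM.1
  have hB := hmax.1.2.1
  set F : P → ℂ := fun v => lam v * rk hM hmax hab v / ((orb M P c (v : G)).card : ℂ) with hF
  let X : Finset G := Finset.univ.filter fun x : G => ∃ k : ℕ, orderOf x = p ^ k
  -- one subsection
  have key : ∀ x ∈ X, ∀ b ∈ allBlocks M (Subgroup.centralizer ({x} : Set G)),
      L p M P c lam x (subgroupBlockCoeff (Subgroup.centralizer ({x} : Set G)) b) *
          ∑ χ ∈ B.toFinite.toFinset,
            ∑ y : Subgroup.centralizer ({x} : Set G) with ¬ p ∣ orderOf y,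
              blockPart b
                  (fun c : Subgroup.centralizer ({x} : Set G) => (χ : G → ℂ) (x * (c : G))) y *
                conj (blockPart b
                  (fun c : Subgroup.centralizer ({x} : Set G) => (χ : G → ℂ) (x * (c : G))) y) =
        ∑ q ∈ carriers hM hmax x (subgroupBlockCoeff (Subgroup.centralizer ({x} : Set G)) b),
          F q.2 := by
    intro x hxX b hbA
    have hx := (Finset.mem_filter.1 hxX).2
    have hb := mem_allBlocks.1 hbA
    set β := subgroupBlockCoeff (Subgroup.centralizer ({x} : Set G)) b with hβ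
    by_cases hne : (carriers hM hmax x β).Nonempty
    · obtain ⟨⟨a₀, v₀⟩, h₀⟩ := hne
      obtain ⟨hx₀, hβ₀⟩ := (mem_carriers hM hmax hab).1 h₀
      obtain ⟨f, -, hf⟩ := exists_below hM hmax v₀.2
      have hrep : Rep p M P c x β v₀ := ⟨a₀, f, hx₀, hf, by
        rw [beta_eq_of_below hM hmax v₀.2 rfl hf, hβ₀]⟩
      have hind := induced_of_rep hM hmax hb hrep
      obtain ⟨hcard, horb⟩ := card_carriers hM hmax hab h₀
      have hFeq : ∀ q ∈ carriers hM hmax x β, F q.2 = F v₀ := by
        intro q hq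
        obtain ⟨hq1, hq2⟩ := (mem_carriers hM hmax hab).1 hq
        obtain ⟨t, ht, htv⟩ := mem_orb.1 (horb q hq)
        simp only [hF, rk]
        rw [hlam t ht v₀ q.2 htv, orb_eq (horb q hq),
          ← rank_eq_of_coeff hM hmax hab q.2.2 hq1 hb hq2.symm,
          ← rank_eq_of_coeff hM hmax hab v₀.2 hx₀ hb hβ₀.symm]
      rw [Finset.sum_congr rfl hFeq, Finset.sum_const, hcard, nsmul_eq_mul,
        L_eq hM hmax.1.1 hst hrep]
      have hsum : ∑ χ ∈ B.toFinite.toFinset,
          ∑ y : Subgroup.centralizer ({x} : Set G) with ¬ p ∣ orderOf y,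
            blockPart b
                (fun c : Subgroup.centralizer ({x} : Set G) => (χ : G → ℂ) (x * (c : G))) y *
              conj (blockPart b
                (fun c : Subgroup.centralizer ({x} : Set G) => (χ : G → ℂ) (x * (c : G))) y) =
          (Nat.card (Subgroup.centralizer ({x} : Set G)) : ℂ) * (blockRank p b : ℂ) := by
        have hy_sum : ∀ y : Subgroup.centralizer ({x} : Set G), ¬ p ∣ orderOf y →
            ∑ χ ∈ B.toFinite.toFinset, blockPart b
                (fun c : Subgroup.centralizer ({x} : Set G) => (χ : G → ℂ) (x * (c : G))) y *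
              conj (blockPart b
                (fun c : Subgroup.centralizer ({x} : Set G) => (χ : G → ℂ) (x * (c : G))) y) =
              ∑ φ ∈ b.toFinite.toFinset, (φ : Subgroup.centralizer ({x} : Set G) → ℂ) y *
                conj ((φ : Subgroup.centralizer ({x} : Set G) → ℂ) y) := fun y hy => by
          rw [← sum_norm_section hM hx hB hind hy]
          exact Finset.sum_congr rfl fun χ _ => by
            rw [blockPart_inv_eq_conj hM hmax hab b χ y]
        rw [Finset.sum_comm, CfsgLib.BlockB.blockRank_eq_sum hM hb, Finset.mul_sum,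
          Finset.sum_congr rfl (fun y hy => hy_sum y (Finset.mem_filter.1 hy).2), Finset.sum_comm]
        refine Finset.sum_congr rfl fun φ _ => ?_
        rw [CfsgLib.Char.classInner_def, ← mul_assoc, mul_inv_cancel₀ CfsgLib.Char.natCard_ne_zero,
          one_mul, Finset.sum_filter]
        refine Finset.sum_congr (by ext; simp) fun y _ => ?_
        unfold regInd
        split_ifs <;> simp
      rw [hsum, rank_eq_of_coeff hM hmax hab v₀.2 hx₀ hb hβ₀.symm]
      have hC : Nat.card (Subgroup.centralizer ({x} : Set G)) =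
          Nat.card (Subgroup.centralizer ({(v₀ : G)} : Set G)) := by
        rw [← hx₀]
        exact Nat.card_congr (cenConj a₀ (v₀ : G)).toEquiv
      rw [hC, hF]
      simp only [rk]
      have ho : ((orb M P c (v₀ : G)).card : ℂ) ≠ 0 :=
        Nat.cast_ne_zero.2 (Finset.card_pos.2 ⟨_, self_mem_orb _⟩).ne'
      push_cast
      field_simp
    · rw [Finset.not_nonempty_iff_eq_empty.1 hne, Finset.sum_empty,
        L_eq_zero hM hmax.1.1 (fun y hy => hne ?_), zero_mul]
      obtain ⟨a, f, ha, hf, hfβ⟩ := hy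
      exact ⟨(a, y), (mem_carriers hM hmax hab).2 ⟨ha, by
        rw [← beta_eq_of_below hM hmax y.2 rfl hf, hfβ]⟩⟩
  -- each character
  have hone : ∀ χ ∈ B.toFinite.toFinset,
      classInner (CfsgLib.BlockB.Star.star p M P c (χ : G → ℂ) lam) (χ : G → ℂ) =
        (Nat.card G : ℂ)⁻¹ * ∑ x ∈ X, ∑ b ∈ allBlocks M (Subgroup.centralizer ({x} : Set G)),
          L p M P c lam x (subgroupBlockCoeff (Subgroup.centralizer ({x} : Set G)) b) *
            ∑ y : Subgroup.centralizer ({x} : Set G) with ¬ p ∣ orderOf y,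
              blockPart b
                  (fun c : Subgroup.centralizer ({x} : Set G) => (χ : G → ℂ) (x * (c : G))) y *
                conj (blockPart b
                  (fun c : Subgroup.centralizer ({x} : Set G) => (χ : G → ℂ) (x * (c : G))) y) := by
    intro χ hχ
    conv_lhs => arg 2; rw [← star_one hM hmax (B.toFinite.mem_toFinset.1 hχ)]
    rw [CfsgLib.Char.classInner_def, sum_mul_conj_eq hM hmax χ χ lam (fun _ => 1)]
    simp only [map_one, mul_one]
    rfl
  rw [Finset.sum_congr rfl hone, ← Finset.mul_sum, Finset.sum_comm]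
  rw [Finset.sum_congr rfl fun x hx => (Finset.sum_comm.trans (Finset.sum_congr rfl fun b hb => by
    rw [← Finset.mul_sum, key x hx b hb]))]
  have hGne : (Nat.card G : ℂ) ≠ 0 := CfsgLib.Char.natCard_ne_zero
  rw [inv_mul_eq_iff_eq_mul₀ hGne]
  calc _ = ∑ q : G × P, F q.2 := by
        simp only [carriers, Finset.sum_filter]
        rw [Finset.sum_congr rfl fun x _ => Finset.sum_comm, Finset.sum_comm]
        refine Finset.sum_congr rfl fun q _ => ?_
        have hxq : q.1 * (q.2 : G) * q.1⁻¹ ∈ X := by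
          refine Finset.mem_filter.2 ⟨Finset.mem_univ _, ?_⟩
          have := Fact.mk hM.1
          obtain ⟨k, hk⟩ := IsPGroup.iff_orderOf.1 hmax.1.1.1 q.2
          exact ⟨k, by rw [show q.1 * (q.2 : G) * q.1⁻¹ = MulAut.conj q.1 (q.2 : G) from rfl,
            MulEquiv.orderOf_eq, Subgroup.orderOf_coe, hk]⟩
        have hb0 := isPBlock_blockMap (cenConj q.1 (q.2 : G)) (blk_spec hM hmax hab q.2.2).1.1
        rw [Finset.sum_eq_single_of_mem _ hxq, Finset.sum_eq_single_of_mem _ (mem_allBlocks.2 hb0),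
          if_pos ⟨rfl, (coeff_conj_blk hM hmax hab q.1 q.2.2).symm⟩]
        · intro b hb hne
          refine if_neg fun h => hne (subgroupBlockCoeff_injective hM (mem_allBlocks.1 hb) hb0 ?_)
          rw [← h.2, coeff_conj_blk hM hmax hab]
        · intro x _ hne
          exact Finset.sum_eq_zero fun b _ => if_neg fun h => hne h.1.symm
    _ = _ := by
        rw [Fintype.sum_prod_type]
        simp only
        rw [Finset.sum_const, Finset.card_univ, nsmul_eq_mul, Nat.card_eq_fintype_card]

end CfsgLib.BlockA.AbelianTrace
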