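import Cfsg.Agent.Lib.BlockA.SymSelfConj
import Cfsg.Agent.Lib.Block.Covering
import Cfsg.Agent.Lib.BlockA.CliffordBasic
import Mathlib.GroupTheory.SpecificGroups.Alternating

/-!
# Blocks of alternating groups below blocks of symmetric groups
-/

set_option autoImplicit false
set_option linter.unusedSectionVars false

namespace CfsgLib.BlockA.SymBlock

open Cfsg CfsgLib.Block
open scoped ComplexConjugate Classical

universe u

section Normal

variable {G : Type u} [Group G] [Fintype G] {N : Subgroup G} [hN : N.Normal] [Fintype N]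

/-- The central character of a class coefficient supported on `N` agrees with that of every
constituent. -/
theorem omegaC_eq_of_constituent {a : MonoidAlgebra ℂ G} (ha : IsClassCoeff a)
    (hs : ∀ x ∉ N, a.coeff x = 0) {χ : IrrCharacter G} {θ : IrrCharacter N}
    (hθ : classInner (fun n : N => (χ : G → ℂ) n) (θ : N → ℂ) ≠ 0) :
    omegaC (θ : N → ℂ) (resSub N a) = omegaC (χ : G → ℂ) a := by
  have := Fintype.ofFinite (IrrCharacter N)
  have hconst : ∀ η : IrrCharacter N, classInner (fun n : N => (χ : G → ℂ) n) (η : N → ℂ) ≠ 0 →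
      omegaC (η : N → ℂ) (resSub N a) = omegaC (θ : N → ℂ) (resSub N a) := by
    intro η hη
    obtain ⟨g, hg⟩ := CfsgLib.BlockA.exists_conj_of_constituents N χ.2 η.2 θ.2 hη hθ
    have h1 : (η : N → ℂ) 1 = (θ : N → ℂ) 1 := by rw [hg]; simp
    rw [omegaC_eq, omegaC_eq, h1]
    congr 1
    rw [hg]
    refine Fintype.sum_equiv (MulAut.conjNormal g).toEquiv _ _ fun n => ?_
    refine congrArg₂ (· * ·) ?_ rfl
    rw [coeff_resSub, coeff_resSub]
    show a.coeff (n : G) = a.coeff (((MulAut.conjNormal g) n : N) : G)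
    rw [MulAut.conjNormal_apply, ha]
  have h := omegaC_mul_degree_of_supported hs χ
  have hcf : IsClassFunction N (fun n : N => (χ : G → ℂ) n) := fun n h => by
    push_cast
    exact CfsgLib.Char.irr_isClassFunction χ.2 (n : G) (h : G)
  have hdeg := CfsgLib.Char.classFunction_apply_eq_sum hcf (1 : N)
  simp only [OneMemClass.coe_one] at hdeg
  rw [Finset.sum_congr rfl (g := fun η : IrrCharacter N =>
    omegaC (θ : N → ℂ) (resSub N a) *
      (classInner (fun n : N => (χ : G → ℂ) n) (η : N → ℂ) * (η : N → ℂ) 1)) fun η _ => by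
    by_cases hη : classInner (fun n : N => (χ : G → ℂ) n) (η : N → ℂ) = 0
    · simp [hη]
    · rw [hconst η hη]; ring, ← Finset.mul_sum, ← hdeg] at h
  exact (mul_right_cancel₀ (CfsgLib.Char.irr_apply_one_ne_zero χ.2) h).symm

end Normal

variable {ι : Type} [Fintype ι] [DecidableEq ι]

/-- The sign character as a complex function. -/
noncomputable def sgnC (σ : Equiv.Perm ι) : ℂ := ((Equiv.Perm.sign σ : ℤ) : ℂ)

theorem sgnC_mul (σ τ : Equiv.Perm ι) : sgnC (σ * τ) = sgnC σ * sgnC τ := by
  simp [sgnC]

theorem sgnC_sq (σ : Equiv.Perm ι) : sgnC σ * sgnC σ = 1 := by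
  rcases Int.units_eq_one_or (Equiv.Perm.sign σ) with h | h <;> simp [sgnC, h]

theorem sgnC_of_mem {σ : Equiv.Perm ι} (h : σ ∈ alternatingGroup ι) : sgnC σ = 1 := by
  simp [sgnC, Equiv.Perm.mem_alternatingGroup.1 h]

theorem sgnC_of_not_mem {σ : Equiv.Perm ι} (h : σ ∉ alternatingGroup ι) : sgnC σ = -1 := by
  rw [Equiv.Perm.mem_alternatingGroup] at h
  rcases Int.units_eq_one_or (Equiv.Perm.sign σ) with h' | h'
  · exact absurd h' h
  · simp [sgnC, h']

/-- The sign twist of an irreducible character. -/
noncomputable def twist (χ : IrrCharacter (Equiv.Perm ι)) : IrrCharacter (Equiv.Perm ι) :=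
  ⟨fun σ => sgnC σ * (χ : Equiv.Perm ι → ℂ) σ, by
    have h := CfsgLib.Char.isIrrCharacter_mul_linear χ.2
      ((Units.map (Int.castRingHom ℂ).toMonoidHom).comp Equiv.Perm.sign)
    exact h⟩

theorem twist_apply (χ : IrrCharacter (Equiv.Perm ι)) (σ : Equiv.Perm ι) :
    (twist χ : Equiv.Perm ι → ℂ) σ = sgnC σ * (χ : Equiv.Perm ι → ℂ) σ := rfl

theorem twist_res (χ : IrrCharacter (Equiv.Perm ι)) :
    (fun a : alternatingGroup ι => (twist χ : Equiv.Perm ι → ℂ) a) =
      fun a : alternatingGroup ι => (χ : Equiv.Perm ι → ℂ) a :=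
  funext fun a => by rw [twist_apply, sgnC_of_mem a.2, one_mul]

theorem classInner_res [Nontrivial ι] (f g : Equiv.Perm ι → ℂ) :
    classInner (fun a : alternatingGroup ι => f a) (fun a : alternatingGroup ι => g a) =
      classInner f g + classInner f (fun σ => sgnC σ * g σ) := by
  rw [CfsgLib.Char.classInner_def, CfsgLib.Char.classInner_def, CfsgLib.Char.classInner_def,
    ← mul_add, ← Finset.sum_add_distrib]
  have hcard : (Nat.card (Equiv.Perm ι) : ℂ) = 2 * (Nat.card (alternatingGroup ι) : ℂ) := by
    rw [Nat.card_eq_fintype_card, Nat.card_eq_fintype_card, ← two_mul_card_alternatingGroup]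
    push_cast
    rfl
  have hsum : ∑ σ : Equiv.Perm ι, (f σ * conj (g σ) + f σ * conj (sgnC σ * g σ)) =
      2 * ∑ a : alternatingGroup ι, f a * conj (g a) := by
    rw [Finset.mul_sum, ← Finset.sum_subset (Finset.subset_univ
      (Finset.univ.filter (· ∈ alternatingGroup ι))) (fun σ _ hσ => ?_)]
    · rw [Finset.sum_subtype (Finset.univ.filter (· ∈ alternatingGroup ι))
        (p := (· ∈ alternatingGroup ι)) (by simp)]
      refine Finset.sum_congr rfl fun a _ => ?_
      rw [sgnC_of_mem a.2, one_mul]; ring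
    · rw [sgnC_of_not_mem (by simpa using hσ), neg_one_mul, map_neg]; ring
  rw [hsum, hcard]
  field_simp

/-- Restriction to the alternating group. -/
theorem res_cases [Nontrivial ι] (χ : IrrCharacter (Equiv.Perm ι))
    {θ : IrrCharacter (alternatingGroup ι)}
    (hθ : classInner (fun a : alternatingGroup ι => (χ : Equiv.Perm ι → ℂ) a)
      (θ : alternatingGroup ι → ℂ) ≠ 0) :
    (twist χ ≠ χ → ∀ a : alternatingGroup ι, (χ : Equiv.Perm ι → ℂ) a =
        (θ : alternatingGroup ι → ℂ) a) ∧
      ∀ θ' : IrrCharacter (alternatingGroup ι),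
        classInner (fun a : alternatingGroup ι => (χ : Equiv.Perm ι → ℂ) a)
          (θ' : alternatingGroup ι → ℂ) ≠ 0 → θ' ≠ θ → ∀ a : alternatingGroup ι,
            (θ' : alternatingGroup ι → ℂ) a =
              (χ : Equiv.Perm ι → ℂ) a - (θ : alternatingGroup ι → ℂ) a := by
  set R : alternatingGroup ι → ℂ := fun a => (χ : Equiv.Perm ι → ℂ) a
  have := Fintype.ofFinite (IrrCharacter (alternatingGroup ι))
  have hchar : IsCharacter (alternatingGroup ι) R :=
    CfsgLib.Char.isCharacter_restrict (CfsgLib.Char.irr_isCharacter χ.2) _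
  have hcf : IsClassFunction (alternatingGroup ι) R :=
    CfsgLib.Char.isCharacter_isClassFunction hchar
  have hnorm : classInner R R = 1 + if twist χ = χ then 1 else 0 := by
    rw [classInner_res (χ : Equiv.Perm ι → ℂ) χ, CfsgLib.Char.irr_classInner_self χ.2,
      show (fun σ => sgnC σ * (χ : Equiv.Perm ι → ℂ) σ) = (twist χ : Equiv.Perm ι → ℂ) from rfl,
      CfsgLib.Char.irr_classInner χ.2 (twist χ).2]
    by_cases h : twist χ = χ
    · rw [if_pos h, if_pos (by rw [h])]
    · rw [if_neg h, if_neg fun hh => h (Subtype.ext hh.symm)]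
  choose m hm using fun η : IrrCharacter (alternatingGroup ι) =>
    CfsgLib.Char.classInner_isCharacter_nat hchar (CfsgLib.Char.irr_isCharacter η.2)
  have hsq : classInner R R = ((∑ η, m η ^ 2 : ℕ) : ℂ) := by
    rw [CfsgLib.Char.classInner_eq_sum_mul hcf]
    simp [hm, Complex.conj_natCast, sq]
  have hexp : ∀ a, R a = ∑ η : IrrCharacter (alternatingGroup ι),
      (m η : ℂ) * (η : alternatingGroup ι → ℂ) a := fun a => by
    rw [CfsgLib.Char.classFunction_apply_eq_sum hcf a]
    exact Finset.sum_congr rfl fun η _ => by rw [hm]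
  have hpos : ∀ η : IrrCharacter (alternatingGroup ι),
      classInner R (η : alternatingGroup ι → ℂ) ≠ 0 → 1 ≤ m η := fun η hη => by
    rcases Nat.eq_zero_or_pos (m η) with h | h
    · exact absurd (by rw [hm, h, Nat.cast_zero]) hη
    · exact h
  have hS : ∑ η, m η ^ 2 = 1 + if twist χ = χ then 1 else 0 := by
    have := hsq.symm.trans hnorm
    split_ifs at this ⊢ with h <;> exact_mod_cast this
  refine ⟨fun hne a => ?_, fun θ' hθ' hne a => ?_⟩
  · rw [if_neg hne, add_zero, ← Finset.add_sum_erase _ _ (Finset.mem_univ θ)] at hS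
    have h1 := Nat.pow_le_pow_left (hpos θ hθ) 2
    have h2 : m θ = 1 := by
      have hsq : m θ ^ 2 = 1 := by simp at h1; omega
      simpa using hsq
    rw [h2] at hS
    show R a = _
    rw [hexp a, Finset.sum_eq_single θ]
    · rw [h2]; simp
    · intro η _ hη
      have : m η ^ 2 = 0 := by
        have h3 := Finset.single_le_sum (f := fun η => m η ^ 2) (fun _ _ => Nat.zero_le _)
          (Finset.mem_erase.2 ⟨hη, Finset.mem_univ η⟩)
        simp only [one_pow] at hS h3
        omega
      simp [pow_eq_zero_iff two_ne_zero |>.1 this]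
    · simp
  · have h1 := hpos θ hθ
    have h1' := hpos θ' hθ'
    have hle : m θ ^ 2 + m θ' ^ 2 + ∑ η ∈ (Finset.univ.erase θ).erase θ', m η ^ 2 ≤ 2 := by
      rw [add_assoc, Finset.add_sum_erase _ (fun η => m η ^ 2)
          (Finset.mem_erase.2 ⟨hne, Finset.mem_univ θ'⟩),
        Finset.add_sum_erase _ (fun η => m η ^ 2) (Finset.mem_univ θ), hS]
      split_ifs <;> omega
    have hm1 := Nat.le_mul_self (m θ)
    have hm2 := Nat.le_mul_self (m θ')
    have hle' : m θ * m θ + m θ' * m θ' ≤ 2 := by rw [← sq, ← sq]; omega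
    have e1 : m θ = 1 := by omega
    have e2 : m θ' = 1 := by omega
    rw [e1, e2] at hle
    have h0 : ∑ η ∈ (Finset.univ.erase θ).erase θ', m η ^ 2 = 0 := by
      simp only [one_pow] at hle
      omega
    rw [eq_sub_iff_add_eq']
    show _ = R a
    rw [hexp a, ← Finset.add_sum_erase _ _ (Finset.mem_univ θ),
      ← Finset.add_sum_erase _ _ (Finset.mem_erase.2 ⟨hne, Finset.mem_univ θ'⟩),
      Finset.sum_eq_zero (fun η hη => by
        rw [pow_eq_zero_iff two_ne_zero |>.1 (Finset.sum_eq_zero_iff.1 h0 η hη)]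
        simp), e1, e2]
    simp

variable {p : ℕ} {M : Ideal AlgInt} [M.IsPrime]

theorem lam_eq_of_classSums {χ ψ : IrrCharacter (Equiv.Perm ι)}
    (h : ∀ g : Equiv.Perm ι,
      lam M χ (classSumZ (kres M) g) = lam M ψ (classSumZ (kres M) g)) : lam M χ = lam M ψ := by
  have : Finite (ConjClasses (Equiv.Perm ι)) :=
    Finite.of_surjective ConjClasses.mk ConjClasses.mk_surjective
  have := Fintype.ofFinite (ConjClasses (Equiv.Perm ι))
  refine AlgHom.ext fun z => ?_
  rw [algHom_eq_sum_classes _ z, algHom_eq_sum_classes (lam M ψ) z]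
  exact Finset.sum_congr rfl fun C _ => by rw [h]

theorem lam_twist (χ : IrrCharacter (Equiv.Perm ι)) (g : Equiv.Perm ι) :
    lam M (twist χ) (classSumZ (kres M) g) =
      redC M (sgnC g) * lam M χ (classSumZ (kres M) g) := by
  rw [lam_classSumZ, lam_classSumZ, ← redC_mul ?_ (memLocalRing_centralChar χ.2 g)]
  · refine congrArg _ ?_
    rw [centralChar, centralChar, twist_apply, twist_apply,
      show sgnC (1 : Equiv.Perm ι) = 1 by simp [sgnC]]
    ring
  · refine memLocalRing_of_isIntegral ?_
    exact isIntegral_algebraMap (R := ℤ) (x := (Equiv.Perm.sign g : ℤ))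

/-- Characters of the symmetric group over characters in one block of the alternating group are
in one block up to a sign twist. -/
theorem exists_mem_block_over (hM : IsPModular p M) {b : Set (IrrCharacter (alternatingGroup ι))}
    (hb : IsPBlock M b) {θ θ' : IrrCharacter (alternatingGroup ι)} (hθ : θ ∈ b) (hθ' : θ' ∈ b)
    {χ χ' : IrrCharacter (Equiv.Perm ι)}
    (h : classInner (fun a : alternatingGroup ι => (χ : Equiv.Perm ι → ℂ) a)
      (θ : alternatingGroup ι → ℂ) ≠ 0)
    (h' : classInner (fun a : alternatingGroup ι => (χ' : Equiv.Perm ι → ℂ) a)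
      (θ' : alternatingGroup ι → ℂ) ≠ 0) :
    ∃ ψ ∈ blockOf M (χ : Equiv.Perm ι → ℂ),
      classInner (fun a : alternatingGroup ι => (ψ : Equiv.Perm ι → ℂ) a)
        (θ' : alternatingGroup ι → ℂ) ≠ 0 := by
  have hlam : lam M θ = lam M θ' := lam_eq_of_sameBlock (sameBlock_of_mem hb hθ hθ')
  have heven : ∀ g ∈ alternatingGroup ι,
      lam M χ (classSumZ (kres M) g) = lam M χ' (classSumZ (kres M) g) := by
    intro g hg
    have hs : ∀ x ∉ alternatingGroup ι, (classSum ℂ g).coeff x = 0 := by
      intro x hx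
      rw [coeff_classSum, if_neg]
      intro hc
      apply hx
      obtain ⟨c, rfl⟩ := isConj_iff.1 hc
      exact (alternatingGroup.normal (α := ι)).conj_mem g hg c
    have hl : IsLocalCentral M (resSub (alternatingGroup ι) (classSum ℂ g)) :=
      ⟨resSub_isClassCoeff _ (classSum_isClassCoeff g), fun x => by
        rw [coeff_resSub]; exact (isLocalCentral_classSum g).2 _⟩
    let z : Subalgebra.center (kres M) (MonoidAlgebra (kres M) (alternatingGroup ι)) :=
      ⟨redA M (resSub (alternatingGroup ι) (classSum ℂ g)),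
        isClassCoeff_iff_mem_center.1 (redA_isClassCoeff hl.1)⟩
    rw [lam_classSumZ, lam_classSumZ,
      ← omegaC_classSum (CfsgLib.Char.irr_isClassFunction χ.2),
      ← omegaC_classSum (CfsgLib.Char.irr_isClassFunction χ'.2),
      ← omegaC_eq_of_constituent (classSum_isClassCoeff g) hs h,
      ← omegaC_eq_of_constituent (classSum_isClassCoeff g) hs h',
      ← lam_apply θ hl z rfl, ← lam_apply θ' hl z rfl, hlam]
  have hprod : ∀ g k : Equiv.Perm ι, g ∉ alternatingGroup ι → k ∉ alternatingGroup ι →
      lam M χ (classSumZ (kres M) g) * lam M χ (classSumZ (kres M) k) =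
        lam M χ' (classSumZ (kres M) g) * lam M χ' (classSumZ (kres M) k) := by
    intro g k hg hk
    have : Finite (ConjClasses (Equiv.Perm ι)) :=
      Finite.of_surjective ConjClasses.mk ConjClasses.mk_surjective
    have := Fintype.ofFinite (ConjClasses (Equiv.Perm ι))
    rw [← map_mul, ← map_mul, algHom_eq_sum_classes, algHom_eq_sum_classes (lam M χ')]
    refine Finset.sum_congr rfl fun C _ => ?_
    by_cases hC : C.out ∈ alternatingGroup ι
    · rw [heven _ hC]
    · have h0 : (((classSumZ (kres M) g * classSumZ (kres M) k :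
          Subalgebra.center (kres M) (MonoidAlgebra (kres M) (Equiv.Perm ι))) :
            MonoidAlgebra (kres M) (Equiv.Perm ι))).coeff C.out = 0 := by
        show (classSum (kres M) g * classSum (kres M) k).coeff C.out = 0
        rw [coeff_mul_eq]
        refine Finset.sum_eq_zero fun u _ => ?_
        rw [coeff_classSum, coeff_classSum]
        by_cases hu : IsConj g u
        · by_cases hu' : IsConj k (u⁻¹ * C.out)
          · exfalso
            apply hC
            have hsg : ∀ {a b : Equiv.Perm ι}, IsConj a b → Equiv.Perm.sign a = Equiv.Perm.sign b := by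
              intro a b hab
              obtain ⟨c, rfl⟩ := isConj_iff.1 hab
              rw [map_mul, map_mul, map_inv, mul_comm, ← mul_assoc, inv_mul_cancel, one_mul]
            rw [Equiv.Perm.mem_alternatingGroup] at hg hk ⊢
            have e1 := (hsg hu)
            have e2 := (hsg hu')
            rw [map_mul, map_inv] at e2
            rcases Int.units_eq_one_or (Equiv.Perm.sign g) with a1 | a1
            · exact absurd a1 hg
            rcases Int.units_eq_one_or (Equiv.Perm.sign k) with a2 | a2
            · exact absurd a2 hk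
            rw [a1] at e1
            rw [a2, ← e1] at e2
            have := congrArg (fun x => (-1 : ℤˣ) * x) e2
            simpa using this.symm
          · rw [if_neg hu', mul_zero]
        · rw [if_neg hu, zero_mul]
      rw [h0, zero_mul, zero_mul]
  by_cases hall : ∀ g ∉ alternatingGroup ι,
      lam M χ (classSumZ (kres M) g) = lam M χ' (classSumZ (kres M) g)
  · refine ⟨χ', sameBlock_of_lam_eq (lam_eq_of_classSums fun g => ?_), h'⟩
    by_cases hg : g ∈ alternatingGroup ι
    · exact heven g hg
    · exact hall g hg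
  push Not at hall
  obtain ⟨g₀, hg₀, hne⟩ := hall
  have hsq := hprod g₀ g₀ hg₀ hg₀
  rcases mul_self_eq_mul_self_iff.1 hsq with h1 | h1
  · exact absurd h1 hne
  have hne0 : lam M χ' (classSumZ (kres M) g₀) ≠ 0 := fun h0 => hne (by rw [h1, h0, neg_zero])
  refine ⟨twist χ', sameBlock_of_lam_eq (lam_eq_of_classSums fun g => ?_), by rwa [twist_res]⟩
  rw [lam_twist]
  by_cases hg : g ∈ alternatingGroup ι
  · rw [sgnC_of_mem hg, redC_one, one_mul, heven g hg]
  · have := hprod g₀ g hg₀ hg
    rw [h1] at this
    have h2 : lam M χ (classSumZ (kres M) g) = -lam M χ' (classSumZ (kres M) g) :=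
      mul_left_cancel₀ hne0 (by linear_combination -this)
    rw [h2, sgnC_of_not_mem hg]
    have hneg : redC M (-1 : ℂ) = -1 := by
      have h1' : MemLocalRing M (1 : ℂ) := (lring M).one_mem
      have h2' : MemLocalRing M (-1 : ℂ) := (lring M).neg_mem (lring M).one_mem
      have := redC_add (M := M) h2' h1'
      rw [neg_add_cancel, redC_zero, redC_one] at this
      exact eq_neg_of_add_eq_zero_left this.symm
    rw [hneg, neg_one_mul]

end CfsgLib.BlockA.SymBlock
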