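import Cfsg.Agent.Lib.BlockA.CoverDefect

/-! Defect groups of a block and of the blocks of a normal subgroup that it covers. -/

set_option autoImplicit false
set_option linter.unusedSectionVars false
set_option maxHeartbeats 1000000

namespace CfsgLib.BlockA

open Cfsg CfsgLib.Block MonoidAlgebra

universe u

variable {G : Type u} [Group G] [Fintype G] {p : ℕ} {M : Ideal AlgInt} [M.IsPrime]
  {N : Subgroup G} [hN : N.Normal] [Fintype N]

local notation "cen" Q => Subgroup.centralizer ((Q : Subgroup G) : Set G)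

/-- The sum of the conjugates of a block idempotent of a normal subgroup. -/
noncomputable def orbitIdem (M : Ideal AlgInt) [M.IsPrime] (N : Subgroup G) [Fintype G]
    (b : Set (IrrCharacter N)) : MonoidAlgebra (kres M) G :=
  open Classical in
  ∑ t ∈ Finset.univ.image (fun x : G => conjGA x (sIdem M N b)), t

theorem mem_normalizer_of_normal (x : G) : x ∈ Subgroup.normalizer (N : Set G) := by
  rw [Subgroup.normalizer_eq_top]; trivial

theorem conjGA_blkIdem (B : Set (IrrCharacter G)) (x : G) :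
    conjGA x (blkIdem M B : MonoidAlgebra (kres M) G) = blkIdem M B := by
  ext y
  rw [coeff_conjGA]
  have := isClassCoeff_center (blkIdem M B) y x⁻¹
  simpa [mul_assoc] using this

variable (hM : IsPModular p M) {b : Set (IrrCharacter N)} (hb : IsPBlock M b)
  {B : Set (IrrCharacter G)} (hB : IsPBlock M B) {χ : IrrCharacter G} (hχ : χ ∈ B)
  {θ : IrrCharacter N} (hθ : θ ∈ b)
  (hcov : classInner (fun n : N => (χ : G → ℂ) n) (θ : N → ℂ) ≠ 0)
include hM hb hB hχ hθ hcov

omit hB hχ hθ hcov in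
theorem exists_block_of_mem_orbit {t : MonoidAlgebra (kres M) G}
    (ht : ∃ x : G, t = conjGA x (sIdem M N b)) :
    ∃ k : Set (IrrCharacter N), IsPBlock M k ∧ t = sIdem M N k := by
  obtain ⟨x, rfl⟩ := ht
  exact ⟨_, isPBlock_blockMap _ hb, conjGA_sIdem hM b (mem_normalizer_of_normal x)⟩

/-- A covering block lies in the orbit idempotent. -/
theorem blkIdem_mul_orbitIdem :
    (blkIdem M B : MonoidAlgebra (kres M) G) * orbitIdem M N b =
      (blkIdem M B : MonoidAlgebra (kres M) G) := by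
  classical
  set T := Finset.univ.image (fun x : G => conjGA x (sIdem M N b)) with hTdef
  have hT : ∀ t ∈ T, ∃ k : Set (IrrCharacter N), IsPBlock M k ∧ t = sIdem M N k := fun t ht => by
    obtain ⟨x, -, rfl⟩ := Finset.mem_image.1 ht
    exact exists_block_of_mem_orbit hM hb ⟨x, rfl⟩
  set s := orbitIdem M N b with hs
  have hsT : s = ∑ t ∈ T, t := by rw [hs, orbitIdem]
  have hbT : sIdem M N b ∈ T := Finset.mem_image.2 ⟨1, Finset.mem_univ _, conjGA_one _⟩
  have hsN : ∀ x ∉ N, s.coeff x = 0 := by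
    intro x hx
    rw [hsT, coeff_sum, Finsupp.finsetSum_apply]
    refine Finset.sum_eq_zero fun t ht => ?_
    obtain ⟨k, -, rfl⟩ := hT t ht
    exact coeff_sIdem_of_not_mem k hx
  have hcl : IsClassCoeff s := by
    intro x g
    have e : conjGA g⁻¹ s = s := by
      rw [hsT, conjGA_sum]
      refine Finset.sum_bij (fun t _ => conjGA g⁻¹ t) ?_ ?_ ?_ fun _ _ => rfl
      · intro t ht
        obtain ⟨a, -, rfl⟩ := Finset.mem_image.1 ht
        exact Finset.mem_image.2 ⟨g⁻¹ * a, Finset.mem_univ _, (conjGA_conjGA _ _ _).symm⟩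
      · intro t _ t' _ e
        have := congrArg (conjGA g) e
        simpa [conjGA_conjGA, conjGA_one] using this
      · intro t ht
        obtain ⟨a, -, rfl⟩ := Finset.mem_image.1 ht
        refine ⟨conjGA g (conjGA a (sIdem M N b)),
          Finset.mem_image.2 ⟨g * a, Finset.mem_univ _, (conjGA_conjGA _ _ _).symm⟩, ?_⟩
        rw [conjGA_conjGA g⁻¹ g, inv_mul_cancel, conjGA_one]
    conv_rhs => rw [← e]
    rw [coeff_conjGA, inv_inv]
  have hid : s * s = s := by
    rw [hsT, Finset.sum_mul]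
    refine Finset.sum_congr rfl fun t ht => ?_
    rw [Finset.mul_sum]
    obtain ⟨k, hk, rfl⟩ := hT t ht
    rw [Finset.sum_eq_single_of_mem _ ht ?_, sIdem_idem hM hk]
    intro t' ht' hne
    obtain ⟨l, hl, rfl⟩ := hT t' ht'
    exact sIdem_mul_ne hM hk hl fun h => hne (by rw [h])
  set z : Subalgebra.center (kres M) (MonoidAlgebra (kres M) G) :=
    ⟨s, isClassCoeff_iff_mem_center.1 hcl⟩ with hz
  have hlam : lam M χ z = 1 := by
    rw [lam_eq_lam_resZ hcov z hsN]
    have hres : resZ N z = ∑ t ∈ T.attach,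
        blkIdem M (hT t.1 t.2).choose := by
      apply Subtype.ext
      rw [coe_resZ, AddSubmonoidClass.coe_finsetSum]
      show resSub N s = _
      refine inclSub_injective N ?_
      rw [inclSub_resSub N hsN, map_sum, hsT]
      conv_lhs => rw [← Finset.sum_attach]
      exact Finset.sum_congr rfl fun t _ => (hT t.1 t.2).choose_spec.2
    rw [hres, map_sum, Finset.sum_eq_single ⟨sIdem M N b, hbT⟩]
    · rw [← eq_of_sIdem_eq hM hb (hT _ hbT).choose_spec.1 (hT _ hbT).choose_spec.2,
        lam_blkIdem hM hb, if_pos hθ]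
    · intro t _ hne
      rw [lam_blkIdem hM (hT t.1 t.2).choose_spec.1, if_neg]
      intro hm
      refine hne (Subtype.ext ?_)
      rw [(hT t.1 t.2).choose_spec.2, isPBlock_eq_of_mem (hT t.1 t.2).choose_spec.1 hb hm hθ]
    · exact fun h => absurd (Finset.mem_attach _ _) h
  have h := congrArg Subtype.val (mul_blkIdem_of_lam_eq_one hM
    (Subtype.ext hid : z * z = z) hB hχ hlam)
  rw [mul_comm, MulMemClass.coe_mul] at h
  exact h

theorem blkIdem_mul_sIdem_ne_zero :
    (blkIdem M B : MonoidAlgebra (kres M) G) * sIdem M N b ≠ 0 := by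
  classical
  intro h0
  have h := blkIdem_mul_orbitIdem hM hb hB hχ hθ hcov
  rw [orbitIdem, Finset.mul_sum, Finset.sum_eq_zero fun t ht => ?_] at h
  · have h1 := lam_blkIdem hM hB χ
    rw [if_pos hχ, show blkIdem M B = 0 from Subtype.ext h.symm, map_zero] at h1
    exact zero_ne_one h1
  · obtain ⟨x, -, rfl⟩ := Finset.mem_image.1 ht
    rw [← conjGA_blkIdem B x, ← conjGA_mul, h0, conjGA_zero]

/-- **Defect groups of covering blocks.** -/
theorem exists_defect_inf_eq {Q : Subgroup G} (hQN : Q ≤ N)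
    (hQ : IsDefectGroup p M b (Q.subgroupOf N)) :
    ∃ P : Subgroup G, IsDefectGroup p M B P ∧ P ⊓ N = Q := by
  classical
  have := Fact.mk hM.1
  have hQp : IsPGroup p Q :=
    (isPGroup_defectGroup hM hb hQ).of_equiv (Subgroup.subgroupOfEquivOfLe hQN)
  have hbr : ∃ x : N, (x : G) ∈ (cen Q) ∧
      (blkIdem M b : MonoidAlgebra (kres M) N).coeff x ≠ 0 := by
    obtain ⟨x, hx, hne⟩ := (exists_le_conj_iff_coeff hM hb hQ hQp.comap_subtype).2
      ⟨1, by rw [map_conj_one]; exact le_rfl⟩
    exact ⟨x, Subgroup.mem_centralizer_iff.2 fun q hq =>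
      congrArg Subtype.val (Subgroup.mem_centralizer_iff.1 hx ⟨q, hQN hq⟩ hq), hne⟩
  set w := (blkIdem M B : MonoidAlgebra (kres M) G) * sIdem M N b with hw
  have hBid : (blkIdem M B : MonoidAlgebra (kres M) G) * blkIdem M B = blkIdem M B := by
    rw [← MulMemClass.coe_mul, blkIdem_idem hM hB]
  have hBc : ∀ a : MonoidAlgebra (kres M) G,
      a * (blkIdem M B : MonoidAlgebra (kres M) G) = blkIdem M B * a := fun a =>
    Subalgebra.mem_center_iff.1 (blkIdem M B).2 a
  have hbi : IsPInv N (sIdem M N b) := fun u hu x =>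
    inclSub_conj_invariant N (isClassCoeff_center (blkIdem M b)) hu x
  have hBi : ∀ X : Subgroup G, IsPInv X (blkIdem M B : MonoidAlgebra (kres M) G) := fun X =>
    isPInv_of_isClassCoeff (isClassCoeff_center _) X
  obtain ⟨x, hx, hne⟩ := exists_coeff_of_mul_ne_zero hM hb hQN hQp hbr
    (w := w) (isPInv_mul (hBi N) hbi)
    (by rw [hw, mul_assoc, ← mul_assoc (sIdem M N b), hBc, mul_assoc, sIdem_idem hM hb,
      ← mul_assoc, hBid])
    (by rw [hw, mul_assoc, sIdem_idem hM hb])
    (blkIdem_mul_sIdem_ne_zero hM hb hB hχ hθ hcov)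
  obtain ⟨D, hD⟩ := exists_isDefectGroup hM hB
  obtain ⟨y, hy⟩ := (exists_le_conj_iff_coeff hM hB hD hQp).1 (by
    by_contra hall
    push Not at hall
    apply hne
    have h0 : resSub (cen Q) (blkIdem M B : MonoidAlgebra (kres M) G) = 0 := by
      ext c
      rw [coeff_resSub, hall c c.2]
      simp
    have h1 := congrArg (fun a : MonoidAlgebra (kres M) (cen Q) => a.coeff ⟨x, hx⟩)
      (resSub_mul hM hQp (hBi Q) (fun u hu => hbi u (hQN hu) : IsPInv Q (sIdem M N b)))
    simpa [h0, ← hw] using h1)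
  set P := D.map (MulAut.conj y).toMonoidHom with hPdef
  have hP : IsDefectGroup p M B P := defectGroup_conj hM hB hD y
  refine ⟨P, hP, (Subgroup.eq_of_le_of_card_ge (le_inf hy hQN) ?_).symm⟩
  set R := P ⊓ N with hR
  have hRp : IsPGroup p R := (isPGroup_defectGroup hM hB hP).to_le inf_le_left
  obtain ⟨c, hc, hc0⟩ := (exists_le_conj_iff_coeff hM hB hP hRp).2
    ⟨1, by rw [map_conj_one]; exact inf_le_left⟩
  have hsp : IsPInv R (orbitIdem M N b) := by
    intro u hu g
    simp only [orbitIdem, coeff_sum, Finsupp.finsetSum_apply]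
    refine Finset.sum_congr rfl fun t ht => ?_
    obtain ⟨a, -, rfl⟩ := Finset.mem_image.1 ht
    obtain ⟨k, -, hk⟩ := exists_block_of_mem_orbit hM hb ⟨a, rfl⟩
    rw [hk]
    exact inclSub_conj_invariant N (isClassCoeff_center (blkIdem M k))
      (inf_le_right (a := P) hu) g
  have h2 : resSub (cen R) (orbitIdem M N b) ≠ 0 := by
    intro h0
    apply hc0
    have h1 := congrArg (fun a : MonoidAlgebra (kres M) (cen R) => a.coeff ⟨c, hc⟩)
      (resSub_mul hM hRp (hBi R) hsp)
    simp only [blkIdem_mul_orbitIdem hM hb hB hχ hθ hcov, h0, mul_zero, coeff_resSub] at h1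
    simpa using h1
  obtain ⟨t, ht, d, hd, hd0⟩ : ∃ t ∈ Finset.univ.image (fun a : G => conjGA a (sIdem M N b)),
      ∃ d ∈ (cen R), t.coeff d ≠ 0 := by
    by_contra hall
    push Not at hall
    refine h2 ?_
    ext d
    simp only [coeff_resSub, orbitIdem, coeff_sum, Finsupp.finsetSum_apply]
    rw [Finset.sum_eq_zero fun t ht => hall t ht d d.2]
    simp
  obtain ⟨a, -, rfl⟩ := Finset.mem_image.1 ht
  rw [coeff_conjGA] at hd0
  have hdN : a⁻¹ * d * a ∈ N := by
    by_contra h
    exact hd0 (coeff_sIdem_of_not_mem b h)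
  rw [show a⁻¹ * d * a = ((⟨_, hdN⟩ : N) : G) from rfl] at hd0
  rw [sIdem, coeff_inclSub_of_mem] at hd0
  have hR' : R.map (MulAut.conj a⁻¹).toMonoidHom ≤ N := by
    rintro _ ⟨r, hr, rfl⟩
    exact hN.conj_mem _ (inf_le_right (a := P) hr) _
  obtain ⟨n, hn⟩ := (exists_le_conj_iff_coeff hM hb hQ
    (R := (R.map (MulAut.conj a⁻¹).toMonoidHom).subgroupOf N)
    ((hRp.map _).comap_subtype)).1 ⟨⟨_, hdN⟩, Subgroup.mem_centralizer_iff.2 fun r hr => by
      apply Subtype.ext
      obtain ⟨r₀, hr₀, hr₁⟩ := hr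
      have h := Subgroup.mem_centralizer_iff.1 hd r₀ hr₀
      simp only [Subgroup.coe_mul]
      rw [show (r : G) = a⁻¹ * r₀ * a from (show (r : G) = _ from hr₁.symm).trans (by simp)]
      calc a⁻¹ * r₀ * a * (a⁻¹ * d * a) = a⁻¹ * (r₀ * d) * a := by group
        _ = a⁻¹ * (d * r₀) * a := by rw [h]
        _ = _ := by group, hd0⟩
  have h3 := Subgroup.card_le_of_le hn
  rw [natCard_map_conj, Nat.card_congr (Subgroup.subgroupOfEquivOfLe hQN).toEquiv,
    Nat.card_congr (Subgroup.subgroupOfEquivOfLe hR').toEquiv, natCard_map_conj] at h3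
  exact h3

end CfsgLib.BlockA
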