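import Cfsg.Agent.Lib.BlockA.SymDegree

/-!
# Configurations of prescribed core realizing the two smallest heights
-/

set_option autoImplicit false
set_option linter.unusedSectionVars false

namespace CfsgLib.BlockA.SymBlock

open Finset

variable {N : ℕ} {p : ℕ}

theorem gapCount_range (c : ℕ) : gapCount (range c) = 0 := by
  refine sum_eq_zero fun a ha => card_eq_zero.2 (sdiff_eq_empty_iff_subset.2 ?_)
  exact range_subset_range.2 (mem_range.1 ha).le

theorem gapVal_range (c : ℕ) : gapVal p (range c) = 0 := by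
  refine sum_eq_zero fun a ha => ?_
  rw [sdiff_eq_empty_iff_subset.2 (range_subset_range.2 (mem_range.1 ha).le), sum_empty]

/-- The entry at `h` of an initial segment moved up by `q`, leaving `l` entries above `h`. -/
def movSet (h l q : ℕ) : Finset ℕ := insert (h + q) ((range (h + l + 1)).erase h)

theorem movSet_facts {h l q : ℕ} (hlq : l < q) :
    (movSet h l q).card = h + l + 1 ∧ gapCount (movSet h l q) = q ∧
      gapVal p (movSet h l q) = padicValNat p q +
        ∑ i ∈ range (q - l - 1), padicValNat p (q - l - 1 - i) +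
        ∑ i ∈ range l, padicValNat p (i + 1) := by
  have hnot : h + q ∉ (range (h + l + 1)).erase h := by simp; omega
  have hcard : (movSet h l q).card = h + l + 1 := by
    rw [movSet, card_insert_of_notMem hnot, card_erase_of_mem (mem_range.2 (by omega)), card_range]
    omega
  have hlow : ∀ a ∈ range h, range a \ movSet h l q = ∅ := by
    intro a ha
    refine sdiff_eq_empty_iff_subset.2 fun x hx => ?_
    have := mem_range.1 ha
    have := mem_range.1 hx
    simp only [movSet, mem_insert, mem_erase, mem_range]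
    omega
  have hmid : ∀ a ∈ Ico (h + 1) (h + l + 1), range a \ movSet h l q = {h} := by
    intro a ha
    have := mem_Ico.1 ha
    ext x
    simp only [movSet, mem_sdiff, mem_insert, mem_erase, mem_range, mem_singleton]
    omega
  have htop : range (h + q) \ movSet h l q = insert h (Ico (h + l + 1) (h + q)) := by
    ext x
    simp only [movSet, mem_sdiff, mem_insert, mem_erase, mem_range, mem_Ico]
    omega
  have hsplit : (range (h + l + 1)).erase h = range h ∪ Ico (h + 1) (h + l + 1) := by
    ext x
    simp only [mem_erase, mem_range, mem_union, mem_Ico]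
    omega
  have hdisj : Disjoint (range h) (Ico (h + 1) (h + l + 1)) := by
    refine disjoint_left.2 fun x hx hx' => ?_
    have := mem_range.1 hx
    have := mem_Ico.1 hx'
    omega
  refine ⟨hcard, ?_, ?_⟩
  · have hA : ∑ a ∈ range h, (range a \ movSet h l q).card = 0 :=
      sum_eq_zero fun a ha => by rw [hlow a ha, card_empty]
    have hB : ∑ a ∈ Ico (h + 1) (h + l + 1), (range a \ movSet h l q).card = l := by
      rw [sum_congr rfl fun a ha => congrArg Finset.card (hmid a ha)]
      simp
    unfold gapCount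
    conv_lhs => arg 1; unfold movSet
    rw [sum_insert hnot, hsplit, sum_union hdisj, htop, hA, hB,
      card_insert_of_notMem (by simp), Nat.card_Ico]
    omega
  · have hA : ∑ a ∈ range h, ∑ x ∈ range a \ movSet h l q, padicValNat p (a - x) = 0 :=
      sum_eq_zero fun a ha => by rw [hlow a ha, sum_empty]
    have hB : ∑ a ∈ Ico (h + 1) (h + l + 1), ∑ x ∈ range a \ movSet h l q, padicValNat p (a - x) =
        ∑ i ∈ range l, padicValNat p (i + 1) := by
      rw [sum_congr rfl fun a ha => by rw [hmid a ha, sum_singleton], sum_Ico_eq_sum_range,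
        show h + l + 1 - (h + 1) = l by omega]
      exact sum_congr rfl fun i _ => congrArg _ (by omega)
    unfold gapVal
    conv_lhs => arg 1; unfold movSet
    rw [sum_insert hnot, hsplit, sum_union hdisj, htop, sum_insert (by simp), hA, hB, zero_add,
      sum_Ico_eq_sum_range, show h + q - h = q by omega,
      show h + q - (h + l + 1) = q - l - 1 by omega]
    congr 2
    exact sum_congr rfl fun i _ => congrArg _ (by omega)

theorem padicValNat_factorial_eq_sum [Fact p.Prime] (a : ℕ) :
    padicValNat p a.factorial = ∑ i ∈ range a, padicValNat p (i + 1) ∧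
      padicValNat p a.factorial = ∑ i ∈ range a, padicValNat p (a - i) := by
  refine ⟨?_, ?_⟩
  · rw [← prod_range_add_one_eq_factorial, padicValNat_prod _ _ fun i _ => Nat.succ_ne_zero i]
  · rw [factorial_eq_prod_range_sub, padicValNat_prod _ _ fun i hi => by
      have := mem_range.1 hi; omega]

theorem gapVal_movSet [Fact p.Prime] {h l q : ℕ} (hlq : l < q) :
    gapVal p (movSet h l q) = padicValNat p q + padicValNat p (q - l - 1).factorial +
      padicValNat p l.factorial := by
  rw [(movSet_facts hlq).2.2, (padicValNat_factorial_eq_sum l).1,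
    (padicValNat_factorial_eq_sum (q - l - 1)).2]

/-- The last entry of an initial segment moved up by `q`. -/
def topSet (c q : ℕ) : Finset ℕ := if q = 0 then range c else movSet (c - 1) 0 q

theorem topSet_facts [Fact p.Prime] {c : ℕ} (hc : 0 < c) (q : ℕ) :
    (topSet c q).card = c ∧ gapCount (topSet c q) = q ∧
      gapVal p (topSet c q) = padicValNat p q.factorial := by
  unfold topSet
  split_ifs with h
  · subst h
    simp [gapCount_range, gapVal_range]
  · obtain ⟨h1, h2, -⟩ := movSet_facts (p := p) (h := c - 1) (l := 0) (Nat.pos_of_ne_zero h)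
    refine ⟨by omega, h2, ?_⟩
    rw [gapVal_movSet (Nat.pos_of_ne_zero h), Nat.factorial_zero, padicValNat_one_right, add_zero,
      ← padicValNat.mul h (Nat.factorial_ne_zero _), Nat.sub_zero, Nat.mul_factorial_pred h]

theorem sum_resCount (hp : 0 < p) (α : Fin N → ℕ) : ∑ r ∈ range p, resCount p α r = N := by
  have h := card_eq_sum_card_fiberwise (f := fun i => α i % p) (s := (univ : Finset (Fin N)))
    (t := range p) fun i _ => mem_range.2 (Nat.mod_lt _ hp)
  rw [card_univ, Fintype.card_fin] at h
  exact h.symm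

/-- Configurations with prescribed runners. -/
theorem exists_config (hp : 0 < p) {n : ℕ} {α : Fin N → ℕ} (hα : α ∈ monos N n)
    (S : ℕ → Finset ℕ) (hS : ∀ r < p, (S r).card = resCount p α r)
    (hw : ∑ r ∈ range p, gapCount (S r) = coreWeight p α) :
    ∃ β ∈ monos N n, resCount p β = resCount p α ∧ ∀ r < p, runSet p β r = S r := by
  obtain ⟨hs, hm⟩ := mem_monos.1 hα
  set X := (range p).biUnion fun r => (S r).image fun k => r + p * k
  have hmem : ∀ a, a ∈ X ↔ a / p ∈ S (a % p) := by
    intro a
    simp only [X, mem_biUnion, mem_range, mem_image]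
    constructor
    · rintro ⟨r, hr, k, hk, rfl⟩
      rwa [Nat.add_mul_mod_self_left, Nat.mod_eq_of_lt hr, Nat.add_mul_div_left _ _ hp,
        Nat.div_eq_of_lt hr, zero_add]
    · intro h
      exact ⟨a % p, Nat.mod_lt _ hp, a / p, h, Nat.mod_add_div a p⟩
  have hcard : X.card = N := by
    rw [← sum_resCount hp α, card_biUnion]
    · refine sum_congr rfl fun r hr => ?_
      rw [card_image_of_injective _ fun a b h => Nat.eq_of_mul_eq_mul_left hp (Nat.add_left_cancel h),
        hS r (mem_range.1 hr)]
    · intro r hr r' hr' hne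
      refine disjoint_left.2 fun a ha ha' => hne ?_
      simp only [mem_coe, mem_range, mem_image] at hr hr' ha ha'
      obtain ⟨k, -, rfl⟩ := ha
      obtain ⟨k', -, hk'⟩ := ha'
      have := congrArg (fun x => x % p) hk'
      simpa [Nat.add_mul_mod_self_left, Nat.mod_eq_of_lt hr, Nat.mod_eq_of_lt hr'] using this.symm
  set β : Fin N → ℕ := ⇑(X.orderEmbOfFin hcard)
  have hβm : StrictMono β := (X.orderEmbOfFin hcard).strictMono
  have hrange : ∀ a, (∃ i, β i = a) ↔ a ∈ X := by
    intro a
    rw [← image_orderEmbOfFin_univ X hcard, mem_image]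
    simp [β]
  have hrun : ∀ r < p, runSet p β r = S r := by
    intro r hr
    ext k
    rw [mem_runSet hp hr, hrange, hmem, Nat.add_mul_mod_self_left, Nat.mod_eq_of_lt hr,
      Nat.add_mul_div_left _ _ hp, Nat.div_eq_of_lt hr, zero_add]
  have hres : resCount p β = resCount p α := by
    funext r
    rcases Nat.lt_or_ge r p with hr | hr
    · rw [← (card_runSet hβm.injective r).1, hrun r hr, hS r hr]
    · have h0 : ∀ γ : Fin N → ℕ, resCount p γ r = 0 := fun γ => card_eq_zero.2
        (filter_eq_empty_iff.2 fun i _ h => by have := Nat.mod_lt (γ i) hp; omega)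
      rw [h0, h0]
  have hwt : coreWeight p β = coreWeight p α := by
    rw [← hw, coreWeight_eq_sum_runWeight hp]
    refine sum_congr rfl fun r hr => ?_
    rw [← hrun r (mem_range.1 hr), gapCount_runSet hβm.injective]
  refine ⟨β, mem_monos.2 ⟨?_, hβm⟩, hres, hrun⟩
  obtain ⟨π, hπ⟩ := exists_core_perm hp hm.injective hβm.injective hres.symm
  rw [sum_eq_sum_core (p := p) hβm.injective, hwt, hπ]
  simp only [Function.comp_apply]
  rw [Equiv.sum_comp π (coreBead p α), ← sum_eq_sum_core hm.injective, hs]

/-- In a long configuration every runner carries at least `p` entries. -/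
theorem le_resCount (hp : 0 < p) {n : ℕ} (hN : N = p * (n + p + 1)) {α : Fin N → ℕ}
    (hα : α ∈ monos N n) {r : ℕ} (hr : r < p) : p ≤ resCount p α r := by
  obtain ⟨hs, hm⟩ := mem_monos.1 hα
  by_contra hc
  set X := univ.image α
  have hX : X.card = N := (image_of_strictMono hm).1
  set miss := ((range (n + p + 1)) \ runSet p α r).image fun k => r + p * k
  have hmiss : miss ⊆ range N \ X := by
    intro a ha
    obtain ⟨k, hk, rfl⟩ := mem_image.1 ha
    obtain ⟨hk1, hk2⟩ := mem_sdiff.1 hk
    refine mem_sdiff.2 ⟨mem_range.2 ?_, fun h => hk2 ((mem_runSet hp hr).2 ?_)⟩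
    · have : p * (k + 1) ≤ p * (n + p + 1) := Nat.mul_le_mul_left _ (mem_range.1 hk1)
      rw [Nat.mul_add, Nat.mul_one] at this
      omega
    · obtain ⟨i, -, hi⟩ := mem_image.1 h
      exact ⟨i, hi⟩
  have hcm : n + 1 ≤ miss.card := by
    rw [card_image_of_injective _ fun a b h => Nat.eq_of_mul_eq_mul_left hp (Nat.add_left_cancel h)]
    have h1 := le_card_sdiff (runSet p α r) (range (n + p + 1))
    rw [card_range, (card_runSet hm.injective r).1] at h1
    omega
  obtain ⟨a, ha, haN⟩ : ∃ a ∈ X, N ≤ a := by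
    by_contra h
    push Not at h
    have heq : X = range N := eq_of_subset_of_card_le (fun a ha => mem_range.2 (h a ha))
      (by rw [hX, card_range])
    obtain ⟨b, hb⟩ := card_pos.1 (by omega : 0 < miss.card)
    obtain ⟨h1, h2⟩ := mem_sdiff.1 (hmiss hb)
    exact h2 (heq ▸ h1)
  have hle : miss.card ≤ (range a \ X).card := card_le_card fun b hb => by
    obtain ⟨h1, h2⟩ := mem_sdiff.1 (hmiss hb)
    exact mem_sdiff.2 ⟨mem_range.2 (lt_of_lt_of_le (mem_range.1 h1) haN), h2⟩
  have h3 : (range a \ X).card ≤ gapCount X :=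
    single_le_sum (f := fun a => (range a \ X).card) (fun _ _ => Nat.zero_le _) ha
  have h4 : gapCount X = n := gapCount_image hm hs
  omega

/-- Configurations moving entries on the first two runners only. -/
theorem exists_config_two [hp : Fact p.Prime] {n : ℕ} {α : Fin N → ℕ} (hα : α ∈ monos N n)
    (S₀ S₁ : Finset ℕ) (h₀ : S₀.card = resCount p α 0) (h₁ : S₁.card = resCount p α 1)
    (hw : gapCount S₀ + gapCount S₁ = coreWeight p α) :
    ∃ β ∈ monos N n, resCount p β = resCount p α ∧ runSet p β 0 = S₀ ∧ runSet p β 1 = S₁ ∧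
      gapVal p (univ.image β) = coreWeight p α + (gapVal p S₀ + gapVal p S₁) := by
  have hp0 := hp.out.pos
  have hp1 := hp.out.one_lt
  let S : ℕ → Finset ℕ := fun r => if r = 0 then S₀ else if r = 1 then S₁ else range (resCount p α r)
  have hsum : ∀ f : Finset ℕ → ℕ, (∀ c, f (range c) = 0) →
      ∑ r ∈ range p, f (S r) = f S₀ + f S₁ := by
    intro f hf
    rw [← sum_subset (range_subset_range.2 hp1 : range 2 ⊆ range p) fun r _ hr => by
      rw [mem_range] at hr
      simp [S, show r ≠ 0 by omega, show r ≠ 1 by omega, hf], sum_range_succ, sum_range_one]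
    simp [S]
  obtain ⟨β, hβ, hres, hrun⟩ := exists_config hp0 hα S (fun r _ => by
    simp only [S]
    split_ifs with a b
    · rw [h₀, a]
    · rw [h₁, b]
    · rw [card_range]) (by rw [hsum _ gapCount_range, hw])
  refine ⟨β, hβ, hres, hrun 0 hp0, hrun 1 hp1, ?_⟩
  rw [gapVal_eq_sum_runners (mem_monos.1 hβ).2, sum_congr rfl fun r hr => by
    rw [hrun r (mem_range.1 hr)], hsum _ gapVal_range,
    coreWeight_eq_of_resCount hp0 (mem_monos.1 hβ).2.injective (mem_monos.1 hα).2.injective hres
      ((mem_monos.1 hβ).1.trans (mem_monos.1 hα).1.symm)]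

/-- A configuration of height zero. -/
theorem exists_config_height_zero [hp : Fact p.Prime] {n : ℕ} (hN : N = p * (n + p + 1))
    {α : Fin N → ℕ} (hα : α ∈ monos N n) :
    ∃ β ∈ monos N n, resCount p β = resCount p α ∧
      gapVal p (univ.image β) = padicValNat p (p * coreWeight p α).factorial := by
  have hp0 := hp.out.pos
  have hc := fun r hr => lt_of_lt_of_le hp0 (le_resCount hp0 hN hα (r := r) hr)
  obtain ⟨a1, a2, a3⟩ := topSet_facts (p := p) (hc 0 hp0) (coreWeight p α)
  obtain ⟨b1, b2, b3⟩ := topSet_facts (p := p) (hc 1 hp.out.one_lt) 0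
  obtain ⟨β, hβ, hres, -, -, hv⟩ := exists_config_two hα _ _ a1 b1 (by rw [a2, b2, add_zero])
  refine ⟨β, hβ, hres, ?_⟩
  rw [hv, a3, b3, padicValNat_factorial_mul, Nat.factorial_zero, padicValNat_one_right]
  omega

theorem padicValNat_factorial_mul_add' [hp : Fact p.Prime] (u r : ℕ) (hr : r < p) :
    padicValNat p (p * u + r).factorial = padicValNat p u.factorial + u := by
  rw [padicValNat_factorial_mul_add u hr, padicValNat_factorial_mul]

theorem padicValNat_factorial_succ_of_not_dvd [hp : Fact p.Prime] (v : ℕ) (h : ¬ p ∣ v + 1) :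
    padicValNat p (v + 1).factorial = padicValNat p v.factorial := by
  rw [Nat.factorial_succ, padicValNat.mul (Nat.succ_ne_zero v) (Nat.factorial_ne_zero v),
    padicValNat.eq_zero_of_not_dvd h, zero_add]

/-- A splitting with exactly one carry. -/
theorem exists_one_carry [hp : Fact p.Prime] : ∀ w : ℕ, p ≤ w →
    (w % p ≠ p - 1 ∨ p ∣ w / p) → ∃ A B, A + B = w ∧ 0 < A ∧ 0 < B ∧
      padicValNat p A.factorial + padicValNat p B.factorial + 1 = padicValNat p w.factorial := by
  intro w
  induction w using Nat.strong_induction_on with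
  | _ w ih =>
    intro hpw hcase
    have hp1 := hp.out.one_lt
    have hr : w % p < p := Nat.mod_lt _ hp.out.pos
    have hu : 1 ≤ w / p := by rw [Nat.le_div_iff_mul_le hp.out.pos, one_mul]; exact hpw
    have hwe : w = p * (w / p) + w % p := (Nat.div_add_mod w p).symm
    have hvw : padicValNat p w.factorial = padicValNat p (w / p).factorial + w / p := by
      conv_lhs => rw [hwe]
      exact padicValNat_factorial_mul_add' _ _ hr
    by_cases hd : p ∣ w / p
    · have hu' : p ≤ w / p := Nat.le_of_dvd (by omega) hd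
      obtain ⟨A, B, hAB, hA, hB, hv⟩ := ih (w / p) (Nat.div_lt_self (by omega) hp1) hu'
        (Or.inl (by rw [Nat.mod_eq_zero_of_dvd hd]; omega))
        -- the two parts are lifted by one digit
      refine ⟨p * A, p * B + w % p, ?_, Nat.mul_pos hp.out.pos hA,
        Nat.add_pos_left (Nat.mul_pos hp.out.pos hB) _, ?_⟩
      · rw [← add_assoc, ← Nat.mul_add, hAB]; exact hwe.symm
      · rw [padicValNat_factorial_mul, padicValNat_factorial_mul_add' _ _ hr, hvw]
        omega
    · have hr' := hcase.resolve_right hd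
      obtain ⟨v, hv⟩ : ∃ v, w / p = v + 1 := ⟨w / p - 1, by omega⟩
      rw [hv] at hwe hvw hd
      refine ⟨w % p + 1, p * v + (p - 1), ?_, Nat.succ_pos _,
        Nat.add_pos_right _ (by omega), ?_⟩
      · rw [Nat.mul_add, Nat.mul_one] at hwe
        omega
      · rw [padicValNat_factorial_mul_add' _ _ (by omega), hvw,
          padicValNat_factorial_succ_of_not_dvd v hd,
          padicValNat.eq_zero_of_not_dvd
            (fun h => by have := hp.out.dvd_factorial.1 h; omega)]
        omega

theorem not_selfConj_of_topSets [Fact (Nat.Prime 2)] {β : Fin N → ℕ} (hβ : Function.Injective β)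
    {c₀ c₁ A B : ℕ} (hc₀ : 0 < c₀) (hc₁ : 0 < c₁) (hA : 2 ≤ A) (hB : 0 < B)
    (h₀ : runSet 2 β 0 = topSet c₀ A) (h₁ : runSet 2 β 1 = topSet c₁ B) :
    ¬ IsConjBead β β := by
  intro hconj
  have e₀ : c₀ = resCount 2 β 0 := by
    rw [← (card_runSet hβ 0).1, h₀, (topSet_facts (p := 2) hc₀ A).1]
  have e₁ : c₁ = resCount 2 β 1 := by
    rw [← (card_runSet hβ 1).1, h₁, (topSet_facts (p := 2) hc₁ B).1]
  have hsum := sum_resCount (p := 2) two_pos β
  rw [sum_range_succ, sum_range_one, ← e₀, ← e₁] at hsum
  have h := selfConj_runner (p := 2) two_pos hconj (L := N) rfl (r := 0) two_pos (c₁ - 1) (by omega)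
  rw [← mem_runSet two_pos (by norm_num : (2 - 1 - 0 : ℕ) < 2), ← mem_runSet two_pos two_pos,
    show (2 - 1 - 0 : ℕ) = 1 from rfl, h₀, h₁, show N - 1 - (c₁ - 1) = c₀ by omega] at h
  have ha : c₁ - 1 ∉ topSet c₁ B := by
    simp only [topSet, if_neg hB.ne', movSet, mem_insert, mem_erase, mem_range]
    omega
  have hb : c₀ ∉ topSet c₀ A := by
    simp only [topSet, if_neg (show A ≠ 0 by omega), movSet, mem_insert, mem_erase, mem_range]
    omega
  exact ha (h.2 hb)

/-- A configuration of height one. -/
theorem exists_config_height_one [hp : Fact p.Prime] {n : ℕ} (hN : N = p * (n + p + 1))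
    {α : Fin N → ℕ} (hα : α ∈ monos N n) (hw : p ≤ coreWeight p α)
    (hw2 : p = 2 → 3 ≤ coreWeight p α) :
    ∃ β ∈ monos N n, resCount p β = resCount p α ∧
      gapVal p (univ.image β) + 1 = padicValNat p (p * coreWeight p α).factorial ∧
      (p = 2 → ¬ IsConjBead β β) := by
  have hp0 := hp.out.pos
  have hp1 := hp.out.one_lt
  have hc := fun r hr => le_resCount hp0 hN hα (r := r) hr
  have hc' := fun r hr => lt_of_lt_of_le hp0 (hc r hr)
  set w := coreWeight p α with hwdef
  by_cases hcase : w % p ≠ p - 1 ∨ p ∣ w / p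
  · obtain ⟨A, B, hAB, hA, hB, hv⟩ : ∃ A B, A + B = w ∧ (p = 2 → 2 ≤ A) ∧ 0 < B ∧
        padicValNat p A.factorial + padicValNat p B.factorial + 1 = padicValNat p w.factorial := by
      obtain ⟨A, B, hAB, hA, hB, hv⟩ := exists_one_carry w hw hcase
      by_cases h : 2 ≤ A ∨ p ≠ 2
      · exact ⟨A, B, hAB, fun h2 => h.resolve_right (not_not.2 h2), hB, hv⟩
      · push Not at h
        have := hw2 h.2
        exact ⟨B, A, by omega, fun _ => by omega, hA, by omega⟩
    obtain ⟨a1, a2, a3⟩ := topSet_facts (p := p) (hc' 0 hp0) A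
    obtain ⟨b1, b2, b3⟩ := topSet_facts (p := p) (hc' 1 hp1) B
    obtain ⟨β, hβ, hres, hr0, hr1, hval⟩ :=
      exists_config_two hα _ _ a1 b1 (by rw [a2, b2, hAB])
    refine ⟨β, hβ, hres, ?_, fun h2 => ?_⟩
    · rw [hval, a3, b3, padicValNat_factorial_mul, ← hwdef]
      omega
    · subst h2
      exact not_selfConj_of_topSets (mem_monos.1 hβ).2.injective (hc' 0 hp0) (hc' 1 hp1) (hA rfl)
        hB hr0 hr1
  push Not at hcase
  obtain ⟨hmod, hd⟩ := hcase
  obtain ⟨v, hv⟩ : ∃ v, w / p = v + 1 := ⟨w / p - 1, by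
    have : 1 ≤ w / p := by rw [Nat.le_div_iff_mul_le hp0, one_mul]; exact hw
    omega⟩
  have hwe : w = p * v + p + (p - 1) := by
    have := Nat.div_add_mod w p
    rw [hv, hmod, Nat.mul_add, Nat.mul_one] at this
    omega
  rw [hv] at hd
  obtain ⟨a1, a2, -⟩ := movSet_facts (p := p) (h := resCount p α 0 - p) (l := p - 1)
    (q := 2 * p - 1) (by omega)
  obtain ⟨b1, b2, b3⟩ := topSet_facts (p := p) (hc' 1 hp1) (p * v)
  have a3 := gapVal_movSet (p := p) (h := resCount p α 0 - p) (l := p - 1) (q := 2 * p - 1)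
    (by omega)
  have hfz : padicValNat p (p - 1).factorial = 0 :=
    padicValNat.eq_zero_of_not_dvd (fun h => by have := hp.out.dvd_factorial.1 h; omega)
  have hqz : padicValNat p (2 * p - 1) = 0 := padicValNat.eq_zero_of_not_dvd fun h => by
    have h2 : p ∣ 2 * p - (2 * p - 1) := Nat.dvd_sub (dvd_mul_left p 2) h
    rw [show 2 * p - (2 * p - 1) = 1 by omega] at h2
    exact hp.out.not_dvd_one h2
  rw [show 2 * p - 1 - (p - 1) - 1 = p - 1 by omega, hfz, hqz] at a3
  obtain ⟨β, hβ, hres, hr0, hr1, hval⟩ := exists_config_two hα _ _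
    (a1.trans (by have := hc 0 hp0; omega)) b1 (by rw [a2, b2, ← hwdef]; omega)
  refine ⟨β, hβ, hres, ?_, fun h2 => ?_⟩
  · have e2 : padicValNat p w.factorial = padicValNat p v.factorial + v + 1 := by
      rw [show w = p * (v + 1) + (p - 1) by rw [Nat.mul_add, Nat.mul_one]; omega,
        padicValNat_factorial_mul_add' _ _ (by omega), padicValNat_factorial_succ_of_not_dvd v hd]
      omega
    rw [hval, a3, b3, padicValNat_factorial_mul, padicValNat_factorial_mul, ← hwdef]
    omega
  · subst h2
    intro hconj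
    have h := runWeight_reflect (p := 2) two_pos hconj (L := N) rfl (r := 0) two_pos
    rw [show (2 - 1 - 0 : ℕ) = 1 from rfl, ← gapCount_runSet (mem_monos.1 hβ).2.injective,
      ← gapCount_runSet (mem_monos.1 hβ).2.injective, hr0, hr1, a2, b2] at h
    omega

theorem eq_of_gapCount_one {S : Finset ℕ} (h : gapCount S = 1) :
    S = insert S.card (range (S.card - 1)) := by
  obtain ⟨a, ha, ha0⟩ : ∃ a ∈ S, 0 < (range a \ S).card := by
    by_contra hn
    push Not at hn
    rw [gapCount, sum_eq_zero fun a ha => Nat.le_zero.1 (hn a ha)] at h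
    exact zero_ne_one h
  rw [gapCount, ← add_sum_erase _ _ ha] at h
  have ha1 : (range a \ S).card = 1 := by omega
  have hz : ∀ b ∈ S.erase a, range b ⊆ S := by
    intro b hb
    have hle := single_le_sum (f := fun b => (range b \ S).card) (fun _ _ => Nat.zero_le _) hb
    exact sdiff_eq_empty_iff_subset.1 (card_eq_zero.1 (by omega))
  have hlt : ∀ b ∈ S.erase a, b < a := by
    intro b hb
    by_contra hn
    obtain ⟨x, hx⟩ := card_pos.1 (by omega : 0 < (range a \ S).card)
    obtain ⟨hx1, hx2⟩ := mem_sdiff.1 hx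
    exact hx2 (hz b hb (mem_range.2 (lt_of_lt_of_le (mem_range.1 hx1) (not_lt.1 hn))))
  have hrange : S.erase a = range (S.card - 1) := by
    refine eq_of_subset_of_card_le (fun b hb => mem_range.2 ?_) ?_
    · have : range (b + 1) ⊆ S.erase a := fun x hx => mem_erase.2 ⟨by
        have := hlt b hb; have := mem_range.1 hx; omega, by
        rcases Nat.lt_succ_iff_lt_or_eq.1 (mem_range.1 hx) with h' | h'
        · exact hz b hb (mem_range.2 h')
        · rw [h']; exact mem_of_mem_erase hb⟩
      have := card_le_card this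
      rw [card_range, card_erase_of_mem ha] at this
      omega
    · rw [card_range, card_erase_of_mem ha]
  have hinter : range a \ (range a \ S) = S.erase a := by
    ext x
    simp only [mem_sdiff, mem_range, mem_erase, not_and, not_not]
    refine ⟨fun ⟨h1, h2⟩ => ⟨h1.ne, h2 h1⟩, fun ⟨h1, h2⟩ => ⟨hlt x (mem_erase.2 ⟨h1, h2⟩), fun _ => h2⟩⟩
  have hac : a = S.card := by
    have := card_sdiff_of_subset (sdiff_subset (s := range a) (t := S))
    rw [hinter, card_erase_of_mem ha, card_range, ha1] at this
    have := card_pos.2 ⟨a, ha⟩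
    have : a ≠ 0 := by rintro rfl; simp at ha1
    omega
  conv_lhs => rw [← insert_erase ha, hrange, hac]

/-- The configuration of weight two and smallest defect is unique. -/
theorem eq_of_gapVal_two [Fact (Nat.Prime 2)] {n : ℕ} {α β : Fin N → ℕ} (hα : α ∈ monos N n)
    (hβ : β ∈ monos N n) (hres : resCount 2 α = resCount 2 β) (hw : coreWeight 2 α = 2)
    (hgα : gapVal 2 (univ.image α) = 2) (hgβ : gapVal 2 (univ.image β) = 2) : α = β := by
  have key : ∀ γ : Fin N → ℕ, γ ∈ monos N n → coreWeight 2 γ = 2 →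
      gapVal 2 (univ.image γ) = 2 → ∀ r < 2, gapCount (runSet 2 γ r) = 1 := by
    intro γ hγ hwγ hg r hr
    obtain ⟨-, hm⟩ := mem_monos.1 hγ
    rw [gapVal_eq_sum_runners hm, hwγ, sum_range_succ, sum_range_one] at hg
    rw [coreWeight_eq_sum_runWeight two_pos, show range 2 = {0, 1} from rfl, sum_pair zero_ne_one,
      ← gapCount_runSet hm.injective, ← gapCount_runSet hm.injective] at hwγ
    have h2 : ∀ S : Finset ℕ, gapCount S = 2 → gapVal 2 S = 1 := fun S hS => by
      rw [gapVal_of_gapCount_two S hS, padicValNat_self]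
    by_contra hne
    rcases Nat.lt_or_ge (gapCount (runSet 2 γ 0)) 1 with h0 | h0
    · have := h2 (runSet 2 γ 1) (by omega)
      omega
    rcases Nat.lt_or_ge (gapCount (runSet 2 γ 1)) 1 with h1 | h1
    · have := h2 (runSet 2 γ 0) (by omega)
      omega
    interval_cases r <;> omega
  obtain ⟨hsα, hmα⟩ := mem_monos.1 hα
  obtain ⟨hsβ, hmβ⟩ := mem_monos.1 hβ
  have hwβ : coreWeight 2 β = 2 :=
    (coreWeight_eq_of_resCount two_pos hmβ.injective hmα.injective hres.symm
      (hsβ.trans hsα.symm)).trans hw
  have hrun : ∀ r < 2, runSet 2 α r = runSet 2 β r := fun r hr => by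
    rw [eq_of_gapCount_one (key α hα hw hgα r hr), eq_of_gapCount_one (key β hβ hwβ hgβ r hr),
      (card_runSet hmα.injective r).1, (card_runSet hmβ.injective r).1, hres]
  refine (hmα.range_inj hmβ).1 (Set.ext fun a => ?_)
  have h := hrun (a % 2) (Nat.mod_lt _ two_pos)
  have hiff := fun γ : Fin N → ℕ =>
    mem_runSet two_pos (Nat.mod_lt a two_pos) (α := γ) (k := a / 2)
  simp only [Nat.mod_add_div] at hiff
  rw [Set.mem_range, Set.mem_range, ← hiff α, ← hiff β, h]

end CfsgLib.BlockA.SymBlock
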