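import Cfsg.Agent.Lib.BlockA.SymDefectSylow
import Cfsg.Agent.Lib.Clifford.TwoDegreeStructure
import Cfsg.Agent.Lib.BlockB.GaloisDegree
import Cfsg.Agent.Lib.Clifford.Degrees
import Mathlib.GroupTheory.SemidirectProduct
import Mathlib.GroupTheory.SpecificGroups.Alternating

/-!
# Sylow subgroups of alternating groups of degree `p w` have a character of degree `p`
-/

set_option autoImplicit false
set_option linter.unusedSectionVars false

namespace CfsgLib.BlockA.SymBlock

open Finset Cfsg
open scoped Classical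

variable {p : ℕ}

theorem padicValNat_factorial_prime_sq [hp : Fact p.Prime] :
    padicValNat p (p * p).factorial = p + 1 := by
  rw [padicValNat_factorial_mul]
  have h := padicValNat_factorial_mul (p := p) 1
  rw [mul_one, Nat.factorial_one, padicValNat_one_right] at h
  omega

theorem padicValNat_factorial_sq_mul_pow [hp : Fact p.Prime] : ∀ i : ℕ,
    padicValNat p (p * p * p ^ i).factorial =
      p + 1 + p * p * padicValNat p (p ^ i).factorial := by
  intro i
  induction i with
  | zero =>
    rw [pow_zero, mul_one, padicValNat_factorial_prime_sq, Nat.factorial_one,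
      padicValNat_one_right, mul_zero, add_zero]
  | succ i ih =>
    rw [show p * p * p ^ (i + 1) = p * (p * p * p ^ i) by ring, padicValNat_factorial_mul, ih,
      show p ^ (i + 1) = p * p ^ i by ring, padicValNat_factorial_mul]
    ring

theorem sign_eq_one_of_pgroup [hp : Fact p.Prime] (h2 : p ≠ 2) {G : Type*} [Group G]
    {S : Subgroup G} (hS : IsPGroup p S) (f : G →* ℤˣ) {x : G} (hx : x ∈ S) : f x = 1 := by
  obtain ⟨k, hk⟩ := hS ⟨x, hx⟩
  have hk' : x ^ p ^ k = 1 := congrArg Subtype.val hk
  have h := congrArg f hk'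
  rw [map_pow, map_one] at h
  rcases Int.units_eq_one_or (f x) with h1 | h1
  · exact h1
  · rw [h1, Odd.neg_one_pow ((hp.out.odd_of_ne_two h2).pow)] at h
    exact absurd h (by decide)

/-- The points of a group of degree `p * p`, grouped into `p` blocks. -/
abbrev SqPts (p : ℕ) : Type := (Fin p × Fin p) ⊕ Fin 0

/-- A Sylow subgroup of the symmetric group of degree `p ^ 2` has a character of degree `p`. -/
theorem exists_irr_sylow_sq [hp : Fact p.Prime] (R : Sylow p (Equiv.Perm (SqPts p))) :
    ∃ φ : IrrCharacter ↥(R : Subgroup (Equiv.Perm (SqPts p))),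
      charDegree (φ : ↥(R : Subgroup (Equiv.Perm (SqPts p))) → ℂ) = p := by
  have hp0 := hp.out.pos
  set x := cyclesElt p p 0
  have hx : x ^ p = 1 := cyclesElt_pow_eq_one hp0 p 0
  obtain ⟨R0, hR0⟩ := IsPGroup.exists_le_sylow (p := p) (P := orbitCen x) fun y =>
    ⟨1, by rw [pow_one]; exact Subtype.ext (orbitCen_pow_eq_one hx y.2)⟩
  suffices h : ∃ φ : IrrCharacter ↥(R0 : Subgroup (Equiv.Perm (SqPts p))),
      charDegree (φ : ↥(R0 : Subgroup (Equiv.Perm (SqPts p))) → ℂ) = p by
    obtain ⟨φ, hφ⟩ := h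
    let e := Sylow.equiv R R0
    refine ⟨⟨fun r => (φ : ↥(R0 : Subgroup (Equiv.Perm (SqPts p))) → ℂ) (e r),
      CfsgLib.Char.isIrrCharacter_comp_surjective φ.2 e.toMonoidHom e.surjective⟩, Eq.trans ?_ hφ⟩
    simp only [charDegree, map_one]
  have hcardR : Nat.card R0 = p ^ (p + 1) := by
    rw [sylow_perm_card]
    simp [padicValNat_factorial_prime_sq]
  set E := (orbitCen x).subgroupOf (R0 : Subgroup (Equiv.Perm (SqPts p)))
  have hEc : ∀ a ∈ E, ∀ b ∈ E, a * b = b * a := fun a ha b hb =>
    Subtype.ext (orbitCen_comm (Subgroup.mem_subgroupOf.1 ha) (Subgroup.mem_subgroupOf.1 hb))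
  have hidx : E.index ≤ p := by
    have h1 := E.card_mul_index
    rw [hcardR, Nat.card_congr (Subgroup.subgroupOfEquivOfLe hR0).toEquiv] at h1
    have h2 := natCard_orbitCen_cyclesElt hp0 p 0
    have h3 : p ^ p * E.index ≤ p ^ p * p := by
      rw [← pow_succ, ← h1]
      exact Nat.mul_le_mul_right _ h2
    exact Nat.le_of_mul_le_mul_left h3 (pow_pos hp0 p)
  have hna : ¬ ∀ a b : ↥(R0 : Subgroup (Equiv.Perm (SqPts p))), a * b = b * a := by
    intro hab
    have hmem : ∀ r ∈ (R0 : Subgroup (Equiv.Perm (SqPts p))), r ∈ orbitCen x := by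
      intro r hr
      have hcomm : ∀ σ ∈ orbitCen x, Commute r σ := fun σ hσ =>
        congrArg Subtype.val (hab ⟨r, hr⟩ ⟨σ, hR0 hσ⟩)
      refine ⟨hcomm x (self_mem_orbitCen x), fun a => sameCycle_of_commute_orbitCen hcomm ?_⟩
      rcases a with q | t
      · exact cyclesElt_apply_ne p 0 q
      · exact t.elim0
    obtain ⟨q, hq⟩ : ∃ q, p * p = q + 2 := ⟨p * p - 2, by
      have := Nat.mul_le_mul hp.out.two_le hp.out.two_le
      omega⟩
    let e : Fin (q + 2) ≃ SqPts p := Fintype.equivOfCardEq (by simp [hq])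
    set z := e.permCongr (finRotate (q + 2)) with hz
    have hoz : orderOf z = p * p := by
      rw [hz, orderOf_permCongr, isCycle_finRotate.orderOf, support_finRotate, card_univ,
        Fintype.card_fin, hq]
    obtain ⟨R1, hR1⟩ := IsPGroup.exists_le_sylow (p := p) (P := Subgroup.zpowers z)
      (IsPGroup.of_card (n := 2) (by rw [Nat.card_zpowers, hoz, sq]))
    let e1 := Sylow.equiv R1 R0
    have hpow : z ^ p = 1 := by
      have h1 : (e1 ⟨z, hR1 (Subgroup.mem_zpowers z)⟩) ^ p = 1 :=
        Subtype.ext (orbitCen_pow_eq_one hx (hmem _ (e1 ⟨z, hR1 (Subgroup.mem_zpowers z)⟩).2))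
      rw [← map_pow] at h1
      exact congrArg Subtype.val (e1.injective (h1.trans (map_one e1).symm))
    have h2 := Nat.le_of_dvd hp0 (orderOf_dvd_of_pow_eq_one hpow)
    rw [hoz] at h2
    have := Nat.mul_le_mul_left p hp.out.two_le
    omega
  obtain ⟨φ, hφ⟩ := BlockB.GaloisDegree.exists_nonlinear hna
  refine ⟨φ, ?_⟩
  have hle := (CfsgLib.Clifford.TwoDegrees.degree_le_index φ E hEc).trans hidx
  have hdvd := CfsgLib.Clifford.Degrees.charDegree_dvd_card φ.2
  rw [hcardR] at hdvd
  obtain ⟨k, -, hk⟩ := (Nat.dvd_prime_pow hp.out).1 hdvd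
  have hk0 : k ≠ 0 := fun h => hφ (by
    rw [← CfsgLib.Block.charDegree_cast (CfsgLib.Char.irr_isCharacter φ.2), hk, h, pow_zero,
      Nat.cast_one])
  rw [hk] at hle ⊢
  obtain rfl : k = 1 := by
    by_contra hne
    have := Nat.pow_le_pow_right hp0 (show 2 ≤ k by omega)
    rw [sq] at this
    have := Nat.mul_le_mul_left p hp.out.two_le
    omega
  exact pow_one p

/-- The permutation of the blocks acting on tuples of permutations. -/
def shiftAut (I F : Type) [Fintype F] : Equiv.Perm I →* MulAut (I → Equiv.Perm F) where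
  toFun π :=
    { toFun := fun g i => g (π⁻¹ i)
      invFun := fun g i => g (π i)
      left_inv := fun g => funext fun i => by simp
      right_inv := fun g => funext fun i => by simp
      map_mul' := fun _ _ => rfl }
  map_one' := rfl
  map_mul' π ρ := MulEquiv.ext fun g => funext fun i => by
    show g ((π * ρ)⁻¹ i) = g (ρ⁻¹ (π⁻¹ i))
    rw [_root_.mul_inv_rev, Equiv.Perm.mul_apply]

/-- The tuples of permutations acting on the points of the blocks. -/
def baseHom (I F : Type) : (I → Equiv.Perm F) →* Equiv.Perm (I × F) where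
  toFun g := Equiv.prodCongrRight g
  map_one' := Equiv.ext fun _ => rfl
  map_mul' _ _ := Equiv.ext fun _ => rfl

/-- The permutations of the blocks acting on the points. -/
def topHom (I F : Type) : Equiv.Perm I →* Equiv.Perm (I × F) where
  toFun π := Equiv.prodCongr π (Equiv.refl F)
  map_one' := Equiv.ext fun _ => rfl
  map_mul' _ _ := Equiv.ext fun _ => rfl

/-- The action of the wreath product on the points. -/
def wreathHom (I F : Type) [Fintype F] :
    (I → Equiv.Perm F) ⋊[shiftAut I F] Equiv.Perm I →* Equiv.Perm (I × F) :=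
  SemidirectProduct.lift (baseHom I F) (topHom I F) fun π => MonoidHom.ext fun g => Equiv.ext
    fun q => by
      rcases q with ⟨j, a⟩
      simp [baseHom, topHom, shiftAut, MulAut.conj_apply, Equiv.Perm.mul_apply,
        Equiv.prodCongrRight]

theorem wreathHom_apply (I F : Type) [Fintype F]
    (u : (I → Equiv.Perm F) ⋊[shiftAut I F] Equiv.Perm I) (q : I × F) :
    wreathHom I F u q = (u.right q.1, u.left (u.right q.1) q.2) := by
  rfl

/-- A Sylow subgroup of the alternating group of degree `p w` has a character of degree `p`. -/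
theorem exists_sylow_irr_degree [hp : Fact p.Prime] {w : ℕ} (hw : p ≤ w)
    (hw2 : p = 2 → 3 ≤ w) :
    ∃ Q : Sylow p (Equiv.Perm (Fin w × Fin p)),
      ∃ φ : IrrCharacter ↥((Q : Subgroup (Equiv.Perm (Fin w × Fin p))) ⊓
          alternatingGroup (Fin w × Fin p)),
        charDegree (φ : ↥((Q : Subgroup (Equiv.Perm (Fin w × Fin p))) ⊓
          alternatingGroup (Fin w × Fin p)) → ℂ) = p := by
  have hp0 := hp.out.pos
  have hp1 := hp.out.one_lt
  set n := p * w with hn
  have hn2 : p ^ 2 ≤ n := by rw [sq]; exact Nat.mul_le_mul_left p hw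
  set k := Nat.log p n with hk
  have hk2 : 2 ≤ k := Nat.le_log_of_pow_le hp1 hn2
  have hn0 : n ≠ 0 := Nat.mul_ne_zero hp0.ne' (by omega)
  have hkn : p ^ k ≤ n := Nat.pow_log_le_self p hn0
  have hklt : n < p ^ (k + 1) := Nat.lt_pow_succ_log_self hp1 n
  obtain ⟨i, hi⟩ : ∃ i, k = 2 + i := ⟨k - 2, by omega⟩
  obtain ⟨rest, hrest⟩ : ∃ r, n = p ^ k + r := ⟨n - p ^ k, by omega⟩
  set f := p ^ i with hf
  have hf0 : 0 < f := pow_pos hp0 i
  have hpk : p ^ k = p * p * f := by rw [hi, pow_add, sq]
  have hval : padicValNat p n.factorial =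
      p + 1 + p * p * padicValNat p f.factorial + padicValNat p rest.factorial := by
    have hch : padicValNat p ((p ^ k + rest).choose rest) = 0 := by
      rw [padicValNat_choose' (b := k + 1) (Nat.log_lt_of_lt_pow (by omega) (hrest ▸ hklt)),
        card_eq_zero, filter_eq_empty_iff]
      intro j hj hle
      obtain ⟨-, hj2⟩ := mem_Ico.1 hj
      rw [Nat.mod_eq_zero_of_dvd (Nat.pow_dvd_pow p (show j ≤ k by omega)), add_zero] at hle
      exact absurd hle (not_le.2 (Nat.mod_lt _ (pow_pos hp0 j)))
    rw [hrest, ← Nat.add_choose_mul_factorial_mul_factorial,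
      padicValNat.mul (mul_ne_zero (Nat.choose_ne_zero (Nat.le_add_left _ _))
        (Nat.factorial_ne_zero _)) (Nat.factorial_ne_zero _),
      padicValNat.mul (Nat.choose_ne_zero (Nat.le_add_left _ _)) (Nat.factorial_ne_zero _),
      hch, hpk, padicValNat_factorial_sq_mul_pow, ← hf, zero_add]
  let I := SqPts p
  have hI : Fintype.card I = p * p := by simp [I]
  let W := (I → Equiv.Perm (Fin f)) ⋊[shiftAut I (Fin f)] Equiv.Perm I
  have hWfin : Finite W := Finite.of_injective (fun u : W => (u.left, u.right))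
    fun a b h => SemidirectProduct.ext (congrArg Prod.fst h) (congrArg Prod.snd h)
  let e : ((I × Fin f) ⊕ Fin rest) ≃ Fin w × Fin p := Fintype.equivOfCardEq (by
    simp only [Fintype.card_sum, Fintype.card_prod, Fintype.card_fin, hI]
    rw [mul_comm w p, ← hn, hrest, hpk])
  let ψ : W × Equiv.Perm (Fin rest) →* Equiv.Perm (Fin w × Fin p) :=
    e.permCongrHom.toMonoidHom.comp ((Equiv.Perm.sumCongrHom (I × Fin f) (Fin rest)).comp
      ((wreathHom I (Fin f)).prodMap (MonoidHom.id _)))
  have hwi : Function.Injective (wreathHom I (Fin f)) := by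
    intro a b h
    have hr : a.right = b.right := Equiv.ext fun j => by
      have := congrArg (fun σ : Equiv.Perm (I × Fin f) => (σ (j, ⟨0, hf0⟩)).1) h
      simpa [wreathHom_apply] using this
    refine SemidirectProduct.ext (funext fun j => Equiv.ext fun t => ?_) hr
    have := congrArg (fun σ : Equiv.Perm (I × Fin f) => (σ (a.right⁻¹ j, t)).2) h
    simp only [wreathHom_apply, ← hr] at this
    simpa using this
  have hψ : Function.Injective ψ := fun a b h => by
    have h1 : ((wreathHom I (Fin f) a.1, a.2) : Equiv.Perm (I × Fin f) × Equiv.Perm (Fin rest)) =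
        (wreathHom I (Fin f) b.1, b.2) :=
      Equiv.Perm.sumCongrHom_injective (e.permCongrHom.injective h)
    exact Prod.ext (hwi (congrArg Prod.fst h1 :)) (congrArg Prod.snd h1 :)
  let sg : W × Equiv.Perm (Fin rest) →* ℤˣ := Equiv.Perm.sign.comp ψ
  let π : W × Equiv.Perm (Fin rest) →* Equiv.Perm I :=
    (SemidirectProduct.rightHom).comp (MonoidHom.fst W (Equiv.Perm (Fin rest)))
  have hπ : Function.Surjective π := fun r => ⟨(SemidirectProduct.inr r, 1), rfl⟩
  obtain ⟨S, hS⟩ : ∃ S : Sylow p (W × Equiv.Perm (Fin rest)),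
      p = 2 → ∃ t ∈ S, π t = 1 ∧ sg t = -1 := by
    by_cases h2 : p = 2
    swap
    · exact ⟨Classical.arbitrary _, fun h => absurd h h2⟩
    have hex : ∃ t : W × Equiv.Perm (Fin rest), t * t = 1 ∧ π t = 1 ∧ sg t = -1 := by
      by_cases hf2 : 2 ≤ f
      · let a : Fin f := ⟨0, hf0⟩
        let b : Fin f := ⟨1, hf2⟩
        let i0 : I := Sum.inl (⟨0, hp0⟩, ⟨0, hp0⟩)
        let g : I → Equiv.Perm (Fin f) := Function.update 1 i0 (Equiv.swap a b)
        have hgg : g * g = 1 := funext fun j => by
          rcases eq_or_ne j i0 with rfl | hj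
          · simp [g]
          · simp [g, Function.update_of_ne hj]
        refine ⟨(SemidirectProduct.inl g, 1), ?_, ?_, ?_⟩
        · rw [Prod.mk_mul_mk, ← map_mul, hgg, map_one, mul_one, Prod.mk_one_one]
        · exact SemidirectProduct.rightHom_inl (φ := shiftAut I (Fin f)) g
        · show Equiv.Perm.sign (e.permCongr (Equiv.Perm.sumCongr
            (wreathHom I (Fin f) (SemidirectProduct.inl g)) 1)) = -1
          rw [Equiv.Perm.sign_permCongr, Equiv.Perm.sign_sumCongr, map_one, mul_one, wreathHom,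
            SemidirectProduct.lift_inl]
          show Equiv.Perm.sign (Equiv.prodCongrRight g) = -1
          rw [Equiv.Perm.sign_prodCongrRight, Finset.prod_eq_single i0]
          · simp [g, a, b, Equiv.Perm.sign_swap]
          · intro j _ hj
            simp [g, Function.update_of_ne hj]
          · simp
      · have hi0 : i = 0 := by
          by_contra hne
          exact hf2 (by rw [hf]; exact le_trans hp1 (Nat.le_self_pow hne p))
        have hr2 : 2 ≤ rest := by
          have h3 := hw2 h2
          rw [hi, hi0, h2] at hrest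
          rw [hn, h2] at hrest
          norm_num at hrest
          omega
        let a : Fin rest := ⟨0, by omega⟩
        let b : Fin rest := ⟨1, by omega⟩
        refine ⟨(1, Equiv.swap a b), ?_, ?_, ?_⟩
        · rw [Prod.mk_mul_mk, one_mul, Equiv.swap_mul_self, Prod.mk_one_one]
        · exact map_one (SemidirectProduct.rightHom (φ := shiftAut I (Fin f)))
        · show Equiv.Perm.sign (e.permCongr (Equiv.Perm.sumCongr
            (wreathHom I (Fin f) 1) (Equiv.swap a b))) = -1
          rw [Equiv.Perm.sign_permCongr, Equiv.Perm.sign_sumCongr, map_one, map_one, one_mul,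
            Equiv.Perm.sign_swap]
          simp [a, b]
    obtain ⟨t, htt, hπt, hst⟩ := hex
    have hpg : IsPGroup p (Subgroup.zpowers t) := by
      obtain ⟨j, -, hj⟩ := (Nat.dvd_prime_pow hp.out).1
        (show orderOf t ∣ p ^ 1 by
          rw [pow_one, h2]; exact orderOf_dvd_of_pow_eq_one (by rw [sq]; exact htt))
      exact IsPGroup.of_card (n := j) (by rw [Nat.card_zpowers, hj])
    obtain ⟨S, hS⟩ := hpg.exists_le_sylow
    exact ⟨S, fun _ => ⟨t, hS (Subgroup.mem_zpowers t), hπt, hst⟩⟩
  have hQ : Nat.card ((S : Subgroup (W × Equiv.Perm (Fin rest))).map ψ) =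
      p ^ (Nat.card (Equiv.Perm (Fin w × Fin p))).factorization p := by
    rw [Subgroup.card_map_of_injective hψ, Sylow.card_eq_multiplicity,
      Nat.factorization_def _ hp.out, Nat.factorization_def _ hp.out]
    congr 1
    rw [Nat.card_prod, SemidirectProduct.card, Nat.card_fun, Nat.card_eq_fintype_card (α := I),
      Nat.card_eq_fintype_card (α := Equiv.Perm (Fin f)), Nat.card_eq_fintype_card (α := Equiv.Perm I),
      Nat.card_eq_fintype_card (α := Equiv.Perm (Fin rest)),
      Nat.card_eq_fintype_card (α := Equiv.Perm (Fin w × Fin p)), Fintype.card_perm,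
      Fintype.card_perm, Fintype.card_perm, Fintype.card_perm, hI, Fintype.card_fin,
      Fintype.card_fin, Fintype.card_prod, Fintype.card_fin, Fintype.card_fin, mul_comm w p, ← hn,
      padicValNat.mul (mul_ne_zero (pow_ne_zero _ (Nat.factorial_ne_zero _))
        (Nat.factorial_ne_zero _)) (Nat.factorial_ne_zero _),
      padicValNat.mul (pow_ne_zero _ (Nat.factorial_ne_zero _)) (Nat.factorial_ne_zero _),
      padicValNat.pow, padicValNat_factorial_prime_sq, hval]
    ring
  refine ⟨Sylow.ofCard _ hQ, ?_⟩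
  let T : Subgroup (W × Equiv.Perm (Fin rest)) := (S : Subgroup _) ⊓ sg.ker
  have hT : T.map ψ = ((Sylow.ofCard _ hQ : Sylow p (Equiv.Perm (Fin w × Fin p))) :
      Subgroup (Equiv.Perm (Fin w × Fin p))) ⊓ alternatingGroup (Fin w × Fin p) := by
    rw [Sylow.coe_ofCard, Subgroup.map_inf _ _ ψ hψ]
    ext σ
    simp only [Subgroup.mem_inf, Subgroup.mem_map, MonoidHom.mem_ker,
      Equiv.Perm.mem_alternatingGroup, sg, MonoidHom.comp_apply]
    constructor
    · rintro ⟨h, x, hx, rfl⟩
      exact ⟨h, hx⟩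
    · rintro ⟨⟨x, hx, rfl⟩, h⟩
      exact ⟨⟨x, hx, rfl⟩, x, h, rfl⟩
  let R := S.mapSurjective hπ
  let ρ : T →* (R : Subgroup (Equiv.Perm I)) :=
    (π.comp T.subtype).codRestrict _ fun u => ⟨u.1, u.2.1, rfl⟩
  have hρ : Function.Surjective ρ := by
    rintro ⟨_, u, hu, rfl⟩
    by_cases h2 : p = 2
    swap
    · exact ⟨⟨u, hu, sign_eq_one_of_pgroup h2 S.2 sg hu⟩, rfl⟩
    obtain ⟨t, ht, hπt, hst⟩ := hS h2
    rcases Int.units_eq_one_or (sg u) with h1 | h1
    · exact ⟨⟨u, hu, h1⟩, rfl⟩
    · refine ⟨⟨u * t, mul_mem hu ht, ?_⟩, Subtype.ext ?_⟩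
      · show sg (u * t) = 1
        rw [map_mul, h1, hst]
        decide
      · show π (u * t) = π u
        rw [map_mul, hπt, mul_one]
  obtain ⟨φ, hφ⟩ := exists_irr_sylow_sq R
  let eT := (T.equivMapOfInjective ψ hψ).trans (MulEquiv.subgroupCongr hT)
  refine ⟨⟨fun u => (φ : ↥(R : Subgroup (Equiv.Perm I)) → ℂ) (ρ (eT.symm u)),
    CfsgLib.Char.isIrrCharacter_comp_surjective φ.2 (ρ.comp eT.symm.toMonoidHom)
      (hρ.comp eT.symm.surjective)⟩, Eq.trans ?_ hφ⟩
  simp only [charDegree, map_one]

end CfsgLib.BlockA.SymBlock
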