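import Cfsg.Agent.Lib.BlockA.AltBlocks
import Cfsg.Agent.Lib.BlockA.CoverDefectGroup
import Cfsg.Agent.Lib.BlockA.SymHeightTuples
import Cfsg.Agent.Lib.BlockA.SymSylowDegree

/-!
# The least positive height in a block of an alternating group
-/

set_option autoImplicit false
set_option linter.unusedSectionVars false
set_option maxHeartbeats 1000000

namespace CfsgLib.BlockA.SymBlock

open Finset Cfsg CfsgLib.Block
open scoped ComplexConjugate Classical

variable {N : ℕ} {ι : Type} [Fintype ι] [DecidableEq ι] {p : ℕ}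

theorem charDegree_eq_natAbs {χ : IrrCharacter (Equiv.Perm ι)} {α : Fin N → ℕ} {e : ℤ}
    (he : e = 1 ∨ e = -1) (hv : ∀ σ, (χ : Equiv.Perm ι → ℂ) σ = (e : ℂ) * (fchar α σ : ℂ)) :
    charDegree (χ : Equiv.Perm ι → ℂ) = (fchar α (1 : Equiv.Perm ι)).natAbs := by
  have h := charDegree_cast (CfsgLib.Char.irr_isCharacter χ.2)
  rw [hv] at h
  have h' : ((charDegree (χ : Equiv.Perm ι → ℂ) : ℕ) : ℤ) = e * fchar α (1 : Equiv.Perm ι) := by exact_mod_cast h
  rcases he with rfl | rfl <;> omega

/-- The valuation of the degree of a character belonging to a configuration. -/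
theorem factorization_degree_add_gapVal [hp : Fact p.Prime] {χ : IrrCharacter (Equiv.Perm ι)}
    {α : Fin N → ℕ} (hα : α ∈ monos N (Fintype.card ι)) {e : ℤ} (he : e = 1 ∨ e = -1)
    (hv : ∀ σ, (χ : Equiv.Perm ι → ℂ) σ = (e : ℂ) * (fchar α σ : ℂ)) :
    (charDegree (χ : Equiv.Perm ι → ℂ)).factorization p + gapVal p (univ.image α) =
      padicValNat p (Fintype.card ι).factorial := by
  rw [charDegree_eq_natAbs he hv, Nat.factorization_def _ hp.out]
  exact padicValNat_degree_add_gapVal (mem_monos.1 hα).2 (mem_monos.1 hα).1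

/-- The degree of a constituent of a restriction to the alternating group. -/
theorem degree_of_constituent [Nontrivial ι] (χ : IrrCharacter (Equiv.Perm ι))
    {θ : IrrCharacter (alternatingGroup ι)}
    (hθ : classInner (fun a : alternatingGroup ι => (χ : Equiv.Perm ι → ℂ) a)
      (θ : alternatingGroup ι → ℂ) ≠ 0) :
    (twist χ ≠ χ → charDegree (θ : alternatingGroup ι → ℂ) =
        charDegree (χ : Equiv.Perm ι → ℂ)) ∧
      (twist χ = χ → 2 * charDegree (θ : alternatingGroup ι → ℂ) =
        charDegree (χ : Equiv.Perm ι → ℂ)) := by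
  have hcθ := charDegree_cast (CfsgLib.Char.irr_isCharacter θ.2)
  have hcχ := charDegree_cast (CfsgLib.Char.irr_isCharacter χ.2)
  obtain ⟨hirr, hhalf⟩ := res_cases χ hθ
  refine ⟨fun h => ?_, fun h => ?_⟩
  · have h1 := hirr h 1
    rw [OneMemClass.coe_one, ← hcθ, ← hcχ] at h1
    exact_mod_cast h1.symm
  have := Fintype.ofFinite (IrrCharacter (alternatingGroup ι))
  set R : alternatingGroup ι → ℂ := fun a => (χ : Equiv.Perm ι → ℂ) a
  have hchar : IsCharacter (alternatingGroup ι) R :=
    CfsgLib.Char.isCharacter_restrict (CfsgLib.Char.irr_isCharacter χ.2) _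
  have hcf : IsClassFunction (alternatingGroup ι) R :=
    CfsgLib.Char.isCharacter_isClassFunction hchar
  have hnorm : classInner R R = 2 := by
    rw [classInner_res (χ : Equiv.Perm ι → ℂ) χ, CfsgLib.Char.irr_classInner_self χ.2,
      show (fun σ => sgnC σ * (χ : Equiv.Perm ι → ℂ) σ) = (twist χ : Equiv.Perm ι → ℂ) from rfl, h,
      CfsgLib.Char.irr_classInner_self χ.2]
    norm_num
  obtain ⟨θ', hθ', hne⟩ : ∃ θ' : IrrCharacter (alternatingGroup ι),
      classInner R (θ' : alternatingGroup ι → ℂ) ≠ 0 ∧ θ' ≠ θ := by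
    by_contra hall
    push Not at hall
    obtain ⟨k, hk⟩ := CfsgLib.Char.classInner_isCharacter_nat hchar
      (CfsgLib.Char.irr_isCharacter θ.2)
    rw [CfsgLib.Char.classInner_eq_sum_mul hcf, Finset.sum_eq_single θ (fun η _ hη => by
      rw [show classInner R (η : alternatingGroup ι → ℂ) = 0 from by_contra fun hh => hη (hall η hh),
        zero_mul]) (fun hh => absurd (Finset.mem_univ θ) hh)] at hnorm
    rw [hk, Complex.conj_natCast] at hnorm
    have h2 : k * k = 2 := by exact_mod_cast hnorm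
    rcases Nat.lt_or_ge k 2 with hk2 | hk2
    · interval_cases k <;> simp at h2
    · nlinarith
  have h1 := hhalf θ' hθ' hne 1
  rw [OneMemClass.coe_one] at h1
  obtain ⟨g, hg⟩ := exists_conjIrr_eq (N := alternatingGroup ι) hθ hθ'
  rw [hg, conjIrr_apply] at h1
  simp only [OneMemClass.coe_one, mul_one, mul_inv_cancel] at h1
  have hval : (θ : alternatingGroup ι → ℂ) 1 + (θ : alternatingGroup ι → ℂ) 1 =
      (χ : Equiv.Perm ι → ℂ) 1 := by
    nth_rewrite 2 [show (1 : alternatingGroup ι) = ⟨1, one_mem _⟩ from rfl]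
    rw [h1]
    ring
  rw [← hcθ, ← hcχ] at hval
  have : charDegree (θ : alternatingGroup ι → ℂ) + charDegree (θ : alternatingGroup ι → ℂ) =
      charDegree (χ : Equiv.Perm ι → ℂ) := by exact_mod_cast hval
  omega

theorem factorization_card_alt [hp : Fact p.Prime] [Nontrivial ι] :
    (Nat.card (alternatingGroup ι)).factorization p + (if p = 2 then 1 else 0) =
      padicValNat p (Fintype.card ι).factorial := by
  have h : 2 * Fintype.card (alternatingGroup ι) = (Fintype.card ι).factorial := by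
    rw [two_mul_card_alternatingGroup, Fintype.card_perm]
  rw [← h, padicValNat.mul two_ne_zero Fintype.card_ne_zero, Nat.card_eq_fintype_card,
    Nat.factorization_def _ hp.out, add_comm]
  congr 1
  split_ifs with h2
  · subst h2; exact padicValNat_self.symm
  · exact (padicValNat.eq_zero_of_not_dvd fun hd =>
      h2 ((Nat.prime_dvd_prime_iff_eq hp.out Nat.prime_two).1 hd)).symm

/-- Half of a Sylow two-subgroup of a symmetric group is even. -/
theorem two_mul_card_sylow_inf_alt [Fact (Nat.Prime 2)] {κ : Type} [Fintype κ] [DecidableEq κ]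
    [Nontrivial κ] :
    ∃ Q : Sylow 2 (Equiv.Perm κ),
      2 * Nat.card ↥((Q : Subgroup (Equiv.Perm κ)) ⊓ alternatingGroup κ) = Nat.card Q := by
  obtain ⟨a, b, hab⟩ := exists_pair_ne κ
  set t := Equiv.swap a b
  obtain ⟨Q, hQ⟩ := IsPGroup.exists_le_sylow (p := 2) (P := Subgroup.zpowers t)
    (IsPGroup.of_card (n := 1) (by
      rw [Nat.card_zpowers, pow_one]
      exact orderOf_eq_prime (by rw [sq]; exact Equiv.swap_mul_self a b)
        (fun h => hab (by simpa [t] using congrArg (fun σ : Equiv.Perm κ => σ b) h))))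
  refine ⟨Q, ?_⟩
  set sg := (Equiv.Perm.sign : Equiv.Perm κ →* ℤˣ).comp (Q : Subgroup (Equiv.Perm κ)).subtype
  have hsurj : Function.Surjective sg := fun u => by
    rcases Int.units_eq_one_or u with rfl | rfl
    · exact ⟨1, map_one sg⟩
    · exact ⟨⟨t, hQ (Subgroup.mem_zpowers t)⟩, Equiv.Perm.sign_swap hab⟩
  have h := sg.ker.card_mul_index
  rw [Subgroup.index_ker, MonoidHom.range_eq_top.2 hsurj, Subgroup.card_top,
    Nat.card_eq_fintype_card (α := ℤˣ), Fintype.card_units_int] at h
  have e : Nat.card sg.ker = Nat.card ↥((Q : Subgroup (Equiv.Perm κ)) ⊓ alternatingGroup κ) := by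
    refine Nat.card_congr ⟨fun u => ⟨u.1.1, u.1.2, ?_⟩, fun u => ⟨⟨u.1, u.2.1⟩, ?_⟩,
      fun _ => rfl, fun _ => rfl⟩
    · exact Equiv.Perm.mem_alternatingGroup.2 (MonoidHom.mem_ker.1 u.2)
    · exact MonoidHom.mem_ker.2 (Equiv.Perm.mem_alternatingGroup.1 u.2.2)
  rw [← h, e, mul_comm]

/-- A Sylow subgroup of order `p ^ w` is abelian. -/
theorem exists_sylow_comm [hp : Fact p.Prime] {w : ℕ} (hw : w < p) :
    ∃ Q : Sylow p (Equiv.Perm (Fin w × Fin p)),
      ∀ a ∈ (Q : Subgroup (Equiv.Perm (Fin w × Fin p))),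
        ∀ b ∈ (Q : Subgroup (Equiv.Perm (Fin w × Fin p))), a * b = b * a := by
  set x := (Equiv.sumEmpty (Fin w × Fin p) (Fin 0)).permCongr (cyclesElt p w 0)
  have hx : x ^ p = 1 := by
    show ((Equiv.sumEmpty (Fin w × Fin p) (Fin 0)).permCongrHom (cyclesElt p w 0)) ^ p = 1
    rw [← map_pow, cyclesElt_pow_eq_one hp.out.pos, map_one]
  obtain ⟨Q, hQ⟩ := IsPGroup.exists_le_sylow (p := p) (P := orbitCen x) fun y =>
    ⟨1, by rw [pow_one]; exact Subtype.ext (orbitCen_pow_eq_one hx y.2)⟩
  have hcard : Nat.card Q = p ^ w := by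
    rw [sylow_perm_card, Fintype.card_prod, Fintype.card_fin, Fintype.card_fin, mul_comm,
      padicValNat_factorial_mul]
    congr 1
    have : padicValNat p w.factorial = 0 :=
      padicValNat.eq_zero_of_not_dvd fun h => by have := hp.out.dvd_factorial.1 h; omega
    omega
  have heq : orbitCen x = (Q : Subgroup (Equiv.Perm (Fin w × Fin p))) :=
    Subgroup.eq_of_le_of_card_ge hQ (hcard.trans_le
      ((natCard_orbitCen_cyclesElt hp.out.pos w 0).trans (orbitCen_permCongr_card _ _)))
  exact ⟨Q, fun a ha b hb => orbitCen_comm (heq ▸ ha) (heq ▸ hb)⟩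

theorem sign_eq_one_of_mem_sylow [hp : Fact p.Prime] (h2 : p ≠ 2) {κ : Type} [Fintype κ]
    [DecidableEq κ] (Q : Sylow p (Equiv.Perm κ)) :
    (Q : Subgroup (Equiv.Perm κ)) ≤ alternatingGroup κ := fun _ hx =>
  Equiv.Perm.mem_alternatingGroup.2 (sign_eq_one_of_pgroup h2 Q.2 Equiv.Perm.sign hx)

theorem image_inf_alt {κ : Type} [Fintype κ] [DecidableEq κ]
    (K : Equiv.Perm κ →* Equiv.Perm ι)
    (hsg : ∀ σ, Equiv.Perm.sign (K σ) = Equiv.Perm.sign σ) (Q : Subgroup (Equiv.Perm κ)) :
    (Q ⊓ alternatingGroup κ).map K = Q.map K ⊓ alternatingGroup ι := by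
  ext σ
  simp only [Subgroup.mem_inf, Subgroup.mem_map, Equiv.Perm.mem_alternatingGroup]
  constructor
  · rintro ⟨x, ⟨hx, hs⟩, rfl⟩
    exact ⟨⟨x, hx, rfl⟩, (hsg x).trans hs⟩
  · rintro ⟨⟨x, hx, rfl⟩, hs⟩
    exact ⟨x, ⟨hx, (hsg x).symm.trans hs⟩, rfl⟩

/-- The dichotomy. -/
theorem alt_height_dichotomy [hp : Fact p.Prime] [Nontrivial ι] {M : Ideal AlgInt}
    (hM : IsPModular p M) {b : Set (IrrCharacter (alternatingGroup ι))} (hb : IsPBlock M b)
    {D : Subgroup (alternatingGroup ι)} (hD : IsDefectGroup p M b D) :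
    ((∃ χ : IrrCharacter (alternatingGroup ι), χ ∈ b ∧
        blockHeight p b (χ : alternatingGroup ι → ℂ) = 1) ∧
      (∃ φ : IrrCharacter ↥D, charDegree (φ : ↥D → ℂ) = p)) ∨
    ((∀ χ : IrrCharacter (alternatingGroup ι), χ ∈ b →
        blockHeight p b (χ : alternatingGroup ι → ℂ) = 0) ∧ IsMulCommutative D) := by
  have := isPrime_of_pmodular hM
  have hp0 := hp.out.pos
  let L := p * ((Fintype.card ι) + p + 1)
  have hL : L = p * ((Fintype.card ι) + p + 1) := rfl
  have hNL : (Fintype.card ι) ≤ L := le_trans (by omega) (Nat.le_mul_of_pos_left _ hp0)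
  obtain ⟨θ₀, hθ₀⟩ := isPBlock_nonempty hb
  obtain ⟨χ₀, hχ₀⟩ := exists_over_constituent (N := alternatingGroup ι) θ₀
  set B := blockOf M (χ₀ : Equiv.Perm ι → ℂ) with hBdef
  have hB : IsPBlock M B := isPBlock_blockOf χ₀
  have hχ₀B : χ₀ ∈ B := mem_blockOf_self χ₀
  obtain ⟨α₀, hα₀, e₀, he₀, hv₀⟩ := exists_fchar_eq (N := L) hNL χ₀
  obtain ⟨hs₀, hm₀⟩ := mem_monos.1 hα₀
  -- the block is the set of characters with core `(resCount p α₀)`
  have hmem : ∀ β ∈ monos L (Fintype.card ι), resCount p β = (resCount p α₀) → ∀ (ψ : IrrCharacter (Equiv.Perm ι)) (e : ℤ),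
      (e = 1 ∨ e = -1) → (∀ σ, (ψ : Equiv.Perm ι → ℂ) σ = (e : ℂ) * (fchar β σ : ℂ)) → ψ ∈ B :=
    fun β hβ hres ψ e he hv => sameBlock_of_mem_coreSet hM (N := L) (c := resCount p α₀)
      ⟨α₀, hα₀, rfl, e₀, he₀, hv₀⟩ ⟨β, hβ, hres, e, he, hv⟩
  obtain ⟨c', hsub, -⟩ := subset_coreSet hM hNL hB
  have hcc : c' = (resCount p α₀) := by
    obtain ⟨β, hβ, hβc, e, he, hv⟩ := hsub hχ₀B
    rw [tuple_unique hα₀ hβ he₀ he fun σ => by rw [← hv₀, hv], hβc]
  rw [hcc] at hsub
  have hB' : ∀ ψ ∈ B, ∃ β ∈ monos L (Fintype.card ι), resCount p β = (resCount p α₀) ∧ coreWeight p β = (coreWeight p α₀) ∧ ∃ e : ℤ,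
      (e = 1 ∨ e = -1) ∧ ∀ σ, (ψ : Equiv.Perm ι → ℂ) σ = (e : ℂ) * (fchar β σ : ℂ) := by
    intro ψ hψ
    obtain ⟨β, hβ, hres, e, he, hv⟩ := hsub hψ
    exact ⟨β, hβ, hres, coreWeight_eq_of_resCount hp0 (mem_monos.1 hβ).2.injective hm₀.injective
      hres ((mem_monos.1 hβ).1.trans hs₀.symm), e, he, hv⟩
  obtain ⟨β₀, hβ₀, hres₀, hgap₀⟩ := exists_config_height_zero (p := p) hL hα₀
  have hdB : blockDefect p B = (padicValNat p (p * coreWeight p α₀).factorial) := by
    obtain ⟨ψ, e, he, hv⟩ := exists_irr_eq hβ₀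
    have hψ := hmem β₀ hβ₀ hres₀ ψ e he hv
    have h1 := factorization_degree_add_gapVal (p := p) hβ₀ he hv
    have hnG : (Nat.card (Equiv.Perm ι)).factorization p = (padicValNat p (Fintype.card ι).factorial) := by
      rw [Nat.card_eq_fintype_card, Fintype.card_perm, Nat.factorization_def _ hp.out]
    have hsum := sInf_degree_add_blockDefect hM hB
    have hinf : sInf ((fun χ : IrrCharacter (Equiv.Perm ι) =>
        (charDegree (χ : Equiv.Perm ι → ℂ)).factorization p) '' B) =
        (charDegree (ψ : Equiv.Perm ι → ℂ)).factorization p := by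
      refine le_antisymm (Nat.sInf_le ⟨ψ, hψ, rfl⟩) (le_csInf ⟨_, ψ, hψ, rfl⟩ ?_)
      rintro _ ⟨φ, hφ, rfl⟩
      obtain ⟨β, hβ, -, hwβ, e', he', hv'⟩ := hB' φ hφ
      have h2 := factorization_degree_add_gapVal (p := p) hβ he' hv'
      have h3 := (gapVal_le_defect (p := p) (mem_monos.1 hβ).2).2
      rw [hwβ] at h3
      show _ ≤ (charDegree (φ : Equiv.Perm ι → ℂ)).factorization p
      omega
    omega
  -- defect groups
  obtain ⟨J, hJ, hJsg, hJP⟩ := exists_defect_eq_map hM hB hχ₀B hα₀ he₀ hv₀ hdB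
  have hiso : ∀ Q : Sylow p (Equiv.Perm (Fin (coreWeight p α₀) × Fin p)),
      Nonempty (↥((Q : Subgroup (Equiv.Perm (Fin (coreWeight p α₀) × Fin p))) ⊓ alternatingGroup (Fin (coreWeight p α₀) × Fin p)) ≃* ↥D) := by
    intro Q
    have hDN : D.map (alternatingGroup ι).subtype ≤ alternatingGroup ι := Subgroup.map_subtype_le D
    obtain ⟨P, hP, hPD⟩ := exists_defect_inf_eq hM hb hB hχ₀B hθ₀ hχ₀ hDN (by
      rwa [Subgroup.subgroupOf, Subgroup.comap_map_eq_self_of_injective
        (Subgroup.subtype_injective _)])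
    obtain ⟨g, hg⟩ := defectGroup_exists_conj hM hB (hJP Q) hP
    let J' : Equiv.Perm (Fin (coreWeight p α₀) × Fin p) →* Equiv.Perm ι := (MulAut.conj g).toMonoidHom.comp J
    have hJ' : Function.Injective J' := (MulAut.conj g).injective.comp hJ
    have hsg' : ∀ σ, Equiv.Perm.sign (J' σ) = Equiv.Perm.sign σ := fun σ => by
      show Equiv.Perm.sign (g * J σ * g⁻¹) = _
      rw [map_mul, map_mul, map_inv, mul_right_comm, mul_inv_cancel, one_mul, hJsg]
    have himg : ((Q : Subgroup (Equiv.Perm (Fin (coreWeight p α₀) × Fin p))) ⊓ alternatingGroup (Fin (coreWeight p α₀) × Fin p)).map J' =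
        D.map (alternatingGroup ι).subtype := by
      rw [image_inf_alt J' hsg', ← hPD, hg, Subgroup.map_map]
    exact ⟨((Subgroup.equivMapOfInjective _ J' hJ').trans (MulEquiv.subgroupCongr himg)).trans
      (Subgroup.equivMapOfInjective D _ (Subgroup.subtype_injective _)).symm⟩
  have hcardK : Fintype.card (Fin (coreWeight p α₀) × Fin p) = p * (coreWeight p α₀) := by simp [mul_comm]
  -- the defect of `b`
  have hdefect : blockDefect p b + (if p = 2 ∧ 0 < (coreWeight p α₀) then 1 else 0) = (padicValNat p (p * coreWeight p α₀).factorial) := by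
    have hcardD := natCard_defectGroup hM hb hD
    have hQc : ∀ Q : Sylow p (Equiv.Perm (Fin (coreWeight p α₀) × Fin p)), Nat.card Q = p ^ (padicValNat p (p * coreWeight p α₀).factorial) := fun Q => by
      rw [sylow_perm_card, hcardK]
    split_ifs with h
    · obtain ⟨h2, hw0⟩ := h
      subst h2
      have : Nontrivial (Fin (coreWeight 2 α₀) × Fin 2) := Fintype.one_lt_card_iff_nontrivial.1 (by rw [hcardK]; omega)
      obtain ⟨Q, hQ⟩ := two_mul_card_sylow_inf_alt (κ := (Fin (coreWeight 2 α₀) × Fin 2))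
      obtain ⟨e⟩ := hiso Q
      rw [Nat.card_congr e.toEquiv, hcardD, hQc Q, ← pow_succ'] at hQ
      exact Nat.pow_right_injective le_rfl hQ
    · rw [add_zero]
      have hQ : ∀ Q : Sylow p (Equiv.Perm (Fin (coreWeight p α₀) × Fin p)),
          (Q : Subgroup (Equiv.Perm (Fin (coreWeight p α₀) × Fin p))) ≤ alternatingGroup (Fin (coreWeight p α₀) × Fin p) := by
        intro Q x hx
        by_cases h2 : p = 2
        · have : IsEmpty (Fin (coreWeight p α₀) × Fin p) := Fintype.card_eq_zero_iff.1 (by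
            rw [hcardK, Nat.eq_zero_of_not_pos fun hw0 => h ⟨h2, hw0⟩, mul_zero])
          rw [Subsingleton.elim x 1]
          exact one_mem _
        · exact sign_eq_one_of_mem_sylow h2 Q hx
      let Q : Sylow p (Equiv.Perm (Fin (coreWeight p α₀) × Fin p)) := Classical.arbitrary _
      obtain ⟨e⟩ := hiso Q
      have h3 := Nat.card_congr e.toEquiv
      rw [inf_eq_left.2 (hQ Q), hcardD] at h3
      exact Nat.pow_right_injective hp.out.two_le (h3.symm.trans (hQc Q))
  have hsA := sInf_degree_add_blockDefect hM hb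
  have hA := factorization_card_alt (p := p) (ι := ι)
  set sI := sInf ((fun χ : IrrCharacter (alternatingGroup ι) =>
    (charDegree (χ : alternatingGroup ι → ℂ)).factorization p) '' b) with hsI
  have hhalfv : ∀ d : ℕ, d ≠ 0 → (2 * d).factorization p =
      (if p = 2 then 1 else 0) + d.factorization p := fun d hd => by
    rw [Nat.factorization_mul two_ne_zero hd, Finsupp.coe_add, Pi.add_apply,
      Nat.Prime.factorization Nat.prime_two, Finsupp.single_apply]
    congr 1
    exact if_congr eq_comm rfl rfl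
  by_cases hbig : p ≤ (coreWeight p α₀) ∧ (p = 2 → 3 ≤ (coreWeight p α₀))
  · left
    refine ⟨?_, ?_⟩
    · obtain ⟨β, hβ, hres, hgap, hns⟩ := exists_config_height_one (p := p) hL hα₀ hbig.1 hbig.2
      obtain ⟨χ₁, e, he, hv⟩ := exists_irr_eq hβ
      have hχ₁ := hmem β hβ hres χ₁ e he hv
      obtain ⟨θ₁, hθ₁⟩ := exists_constituent_res (N := alternatingGroup ι) χ₁
      set O : Set (IrrCharacter (alternatingGroup ι)) :=
        {θ | ∃ g : Equiv.Perm ι, conjIrr (alternatingGroup ι) θ g ∈ b}
      have hint : ∀ a, MemLocalRing M (blockCoeff O a) := fun a =>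
        memLocalRing_blockCoeff_of_union hM (fun θ hθ φ hφ =>
          exists_conjIrr_mem_of_sameBlock hb hθ hφ) a
      obtain ⟨g, hg⟩ : θ₁ ∈ O := (mem_iff_mem_of_sameBlock (covering_invariant b) hint
        (sameBlock_of_mem hB hχ₀B hχ₁) hχ₀ hθ₁).1 ⟨1, by rwa [conjIrr_one]⟩
      refine ⟨conjIrr (alternatingGroup ι) θ₁ g, hg, ?_⟩
      set θ := conjIrr (alternatingGroup ι) θ₁ g
      have hθ : classInner (fun a : alternatingGroup ι => (χ₁ : Equiv.Perm ι → ℂ) a)
          (θ : alternatingGroup ι → ℂ) ≠ 0 := by rwa [classInner_res_conjIrr]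
      obtain ⟨hd1, hd2⟩ := degree_of_constituent χ₁ hθ
      have hval : (charDegree (θ : alternatingGroup ι → ℂ)).factorization p =
          (charDegree (χ₁ : Equiv.Perm ι → ℂ)).factorization p := by
        by_cases ht : twist χ₁ = χ₁
        · rw [← hd2 ht, hhalfv _ (charDegree_ne_zero θ.2)]
          by_cases h2 : p = 2
          · exfalso
            refine hns h2 (isConjBead_self_of_twist hNL hβ fun σ => ?_)
            have h := congrFun (congrArg Subtype.val ht) σ
            rw [twist_apply, hv, sgnC, ← mul_assoc, mul_comm (((Equiv.Perm.sign σ : ℤ)) : ℂ),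
              mul_assoc] at h
            have h' := mul_left_cancel₀ (by rcases he with rfl | rfl <;> simp) h
            exact_mod_cast h'
          · rw [if_neg h2, zero_add]
        · rw [hd1 ht]
      have h1 := factorization_degree_add_gapVal (p := p) hβ he hv
      rw [blockHeight, ← hsI, hval]
      have hwp : 0 < (coreWeight p α₀) := lt_of_lt_of_le hp0 hbig.1
      by_cases h2 : p = 2
      · rw [if_pos h2] at hA
        rw [if_pos ⟨h2, hwp⟩] at hdefect
        omega
      · rw [if_neg h2] at hA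
        rw [if_neg fun h => h2 h.1] at hdefect
        omega
    · obtain ⟨Q, φ, hφ⟩ := exists_sylow_irr_degree hbig.1 hbig.2
      obtain ⟨e⟩ := hiso Q
      refine ⟨⟨fun d => (φ : ↥((Q : Subgroup (Equiv.Perm (Fin (coreWeight p α₀) × Fin p))) ⊓ alternatingGroup (Fin (coreWeight p α₀) × Fin p)) → ℂ) (e.symm d),
        CfsgLib.Char.isIrrCharacter_comp_surjective φ.2 e.symm.toMonoidHom e.symm.surjective⟩,
        Eq.trans ?_ hφ⟩
      simp only [charDegree, map_one]
  right
  have hsmall : (p ≠ 2 ∧ (coreWeight p α₀) < p) ∨ (p = 2 ∧ (coreWeight p α₀) ≤ 2) := by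
    by_cases h2 : p = 2
    · right
      refine ⟨h2, ?_⟩
      by_contra hh
      exact hbig ⟨by omega, fun _ => by omega⟩
    · left
      refine ⟨h2, ?_⟩
      by_contra hh
      exact hbig ⟨by omega, fun h => absurd h h2⟩
  refine ⟨fun θ hθ => ?_, ?_⟩
  · rw [blockHeight_eq_zero_iff hM hb hθ]
    refine le_antisymm ?_ (Nat.sInf_le ⟨θ, hθ, rfl⟩)
    rw [← hsI]
    obtain ⟨χ, hχ⟩ := exists_over_constituent (N := alternatingGroup ι) θ
    obtain ⟨ψ, hψ, hψθ⟩ := exists_mem_block_over hM hb hθ₀ hθ hχ₀ hχ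
    obtain ⟨β, hβ, hres, hwβ, e, he, hv⟩ := hB' ψ hψ
    have h1 := factorization_degree_add_gapVal (p := p) hβ he hv
    obtain ⟨hlo, hhi⟩ := gapVal_le_defect (p := p) (mem_monos.1 hβ).2
    rw [hwβ] at hlo hhi
    obtain ⟨hd1, hd2⟩ := degree_of_constituent ψ hψθ
    have hle : (charDegree (θ : alternatingGroup ι → ℂ)).factorization p ≤
        (charDegree (ψ : Equiv.Perm ι → ℂ)).factorization p := by
      by_cases ht : twist ψ = ψ
      · rw [← hd2 ht, hhalfv _ (charDegree_ne_zero θ.2)]
        omega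
      · rw [hd1 ht]
    rcases hsmall with ⟨h2, hwp⟩ | ⟨h2, hw2⟩
    · have hV' : (padicValNat p (p * coreWeight p α₀).factorial) = (coreWeight p α₀) := by
        rw [padicValNat_factorial_mul,
          padicValNat.eq_zero_of_not_dvd fun h => by have := hp.out.dvd_factorial.1 h; omega,
          zero_add]
      rw [if_neg fun h => h2 h.1] at hdefect
      rw [if_neg h2] at hA
      omega
    rw [if_pos h2] at hA
    rcases Nat.lt_or_ge (coreWeight p α₀) 2 with hw1 | hw1
    · have hdb : blockDefect p b = 0 := by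
        subst h2
        rcases Nat.eq_zero_or_pos (coreWeight 2 α₀) with h0 | h0
        · rw [h0, if_neg (by omega), mul_zero, Nat.factorial_zero,
            padicValNat_one_right] at hdefect
          omega
        · have h0' : (coreWeight 2 α₀) = 1 := by omega
          rw [if_pos ⟨rfl, h0⟩, h0', mul_one, Nat.factorial_two, padicValNat_self] at hdefect
          omega
      have h3 := (Nat.factorization_le_iff_dvd (charDegree_ne_zero θ.2) Nat.card_pos.ne').2
        (CfsgLib.Clifford.Degrees.charDegree_dvd_card θ.2) p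
      omega
    obtain rfl : p = 2 := h2
    have hw22 : (coreWeight 2 α₀) = 2 := by omega
    have hV3 : (padicValNat 2 (2 * coreWeight 2 α₀).factorial) = 3 := by
      rw [hw22, padicValNat_factorial_mul, Nat.factorial_two, padicValNat_self]
    rw [if_pos ⟨rfl, by omega⟩] at hdefect
    rcases (show gapVal 2 (univ.image β) = 2 ∨ gapVal 2 (univ.image β) = 3 by omega) with hg | hg
    swap
    · omega
    -- the only configuration of defect two is self-conjugate
    have htw : twist ψ = ψ := by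
      have hsame : SameBlock M (ψ : Equiv.Perm ι → ℂ) (twist ψ : Equiv.Perm ι → ℂ) := by
        refine sameBlock_of_lam_eq (lam_eq_of_classSums fun g => ?_)
        rw [lam_twist]
        suffices h1 : redC M (sgnC g) = 1 by rw [h1, one_mul]
        by_cases hg : g ∈ alternatingGroup ι
        · rw [sgnC_of_mem hg, redC_one]
        · rw [sgnC_of_not_mem hg]
          have h2' := redC_add (M := M) ((lring M).neg_mem (lring M).one_mem) (lring M).one_mem
          rw [neg_add_cancel, redC_zero, redC_one] at h2'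
          rw [eq_neg_of_add_eq_zero_left h2'.symm]
          have := charP_kres hM
          exact CharTwo.neg_eq (R := kres M) 1
      obtain ⟨γ, hγ, hresγ, -, e', he', hv'⟩ := hB' (twist ψ) (mem_of_sameBlock hB hψ hsame)
      have hdeg : charDegree (twist ψ : Equiv.Perm ι → ℂ) =
          charDegree (ψ : Equiv.Perm ι → ℂ) := by
        simp [charDegree, twist_apply, sgnC]
      have h2 := factorization_degree_add_gapVal (p := 2) hγ he' hv'
      rw [hdeg] at h2
      have hγβ : γ = β := eq_of_gapVal_two hγ hβ (hresγ.trans hres.symm)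
        ((coreWeight_eq_of_resCount two_pos (mem_monos.1 hγ).2.injective hm₀.injective hresγ
          ((mem_monos.1 hγ).1.trans hs₀.symm)).trans hw22) (by omega) hg
      subst hγβ
      refine Subtype.ext (funext fun σ => ?_)
      rw [hv', hv]
      congr 1
      have h3 : (twist ψ : Equiv.Perm ι → ℂ) 1 = (ψ : Equiv.Perm ι → ℂ) 1 := by
        simp [twist_apply, sgnC]
      rw [hv', hv] at h3
      refine mul_right_cancel₀ ?_ h3
      exact_mod_cast fchar_one_ne_zero (mem_monos.1 hγ).2.injective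
        (mem_tuples.2 (mem_monos.1 hγ).1)
    have h4 : (charDegree (θ : alternatingGroup ι → ℂ)).factorization 2 + 1 =
        (charDegree (ψ : Equiv.Perm ι → ℂ)).factorization 2 := by
      rw [← hd2 htw, hhalfv _ (charDegree_ne_zero θ.2), if_pos rfl, add_comm]
    omega
  · rcases hsmall with ⟨-, hwp⟩ | ⟨rfl, hw2⟩
    · obtain ⟨Q, hQ⟩ := exists_sylow_comm (p := p) hwp
      obtain ⟨e⟩ := hiso Q
      refine ⟨⟨fun a b => e.symm.injective (Subtype.ext ?_)⟩⟩
      rw [map_mul, map_mul, Subgroup.coe_mul, Subgroup.coe_mul]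
      exact hQ _ (e.symm a).2.1 _ (e.symm b).2.1
    · rcases Nat.lt_or_ge (coreWeight 2 α₀) 2 with hw1 | hw1
      · have hdb : blockDefect 2 b = 0 := by
          rcases Nat.eq_zero_or_pos (coreWeight 2 α₀) with h0 | h0
          · rw [h0, if_neg (by omega), mul_zero, Nat.factorial_zero,
              padicValNat_one_right] at hdefect
            omega
          · have h0' : (coreWeight 2 α₀) = 1 := by omega
            rw [if_pos ⟨rfl, h0⟩, h0', mul_one, Nat.factorial_two, padicValNat_self] at hdefect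
            omega
        have hc1 := natCard_defectGroup hM hb hD
        rw [hdb, pow_zero, Nat.card_eq_one_iff_unique] at hc1
        have := hc1.1
        exact ⟨⟨fun _ _ => Subsingleton.elim _ _⟩⟩
      · have hw22 : (coreWeight 2 α₀) = 2 := by omega
        rw [if_pos ⟨rfl, by omega⟩, hw22, padicValNat_factorial_mul, Nat.factorial_two,
          padicValNat_self] at hdefect
        have hc4 := natCard_defectGroup hM hb hD
        rw [show blockDefect 2 b = 2 by omega] at hc4
        exact ⟨⟨IsPGroup.commutative_of_card_eq_prime_sq hc4⟩⟩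

end CfsgLib.BlockA.SymBlock
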