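import Cfsg.Agent.Lib.BlockA.SymSpan
import Cfsg.Agent.Lib.Block.FirstMain
import Cfsg.Agent.Lib.Block.SecondMain
import Cfsg.Agent.Lib.Block.DefectClass
import Cfsg.Prelude.Def_CaseTheorems

/-!
# The defect group of a block of weight `w` of a symmetric group contains an elementary abelian
subgroup of order `p ^ w`
-/

set_option autoImplicit false
set_option linter.unusedSectionVars false

namespace CfsgLib.BlockA.SymBlock

open Finset
open scoped Classical

variable {N : ℕ} {ι : Type} [Fintype ι] [DecidableEq ι] {p : ℕ}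

/-- The permutations commuting with `x` and preserving each of its orbits. -/
def orbitCen (x : Equiv.Perm ι) : Subgroup (Equiv.Perm ι) where
  carrier := {σ | Commute σ x ∧ ∀ a, x.SameCycle a (σ a)}
  one_mem' := ⟨Commute.one_left x, fun a => Equiv.Perm.SameCycle.refl _ _⟩
  mul_mem' {σ τ} hσ hτ := ⟨hσ.1.mul_left hτ.1, fun a => (hτ.2 a).trans (hσ.2 (τ a))⟩
  inv_mem' {σ} hσ := ⟨hσ.1.inv_left, fun a => by
    have := (hσ.2 (σ⁻¹ a)).symm
    simpa using this⟩

theorem mem_orbitCen {x σ : Equiv.Perm ι} :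
    σ ∈ orbitCen x ↔ Commute σ x ∧ ∀ a, x.SameCycle a (σ a) := Iff.rfl

theorem orbitCen_le_centralizer (x : Equiv.Perm ι) :
    orbitCen x ≤ Subgroup.centralizer ({x} : Set (Equiv.Perm ι)) := fun _ hσ =>
  Subgroup.mem_centralizer_singleton_iff.2 hσ.1.eq

theorem orbitCen_normal (x : Equiv.Perm ι) :
    ((orbitCen x).subgroupOf (Subgroup.centralizer ({x} : Set (Equiv.Perm ι)))).Normal := by
  refine ⟨fun σ hσ y => ?_⟩
  rw [Subgroup.mem_subgroupOf] at hσ ⊢
  have hy : Commute (y : Equiv.Perm ι) x := Subgroup.mem_centralizer_singleton_iff.1 y.2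
  simp only [Subgroup.coe_mul, Subgroup.coe_inv]
  refine ⟨(hy.mul_left hσ.1).mul_left hy.inv_left, fun a => ?_⟩
  obtain ⟨i, hi⟩ := hσ.2 ((y : Equiv.Perm ι)⁻¹ a)
  refine ⟨i, ?_⟩
  rw [Equiv.Perm.mul_apply, Equiv.Perm.mul_apply, ← hi]
  have := congrArg (fun f : Equiv.Perm ι => f ((y : Equiv.Perm ι)⁻¹ a)) (hy.zpow_right i).eq
  simpa using this.symm

theorem zpow_apply_eq_of_sameCycle {x : Equiv.Perm ι} {σ : Equiv.Perm ι} (hσ : σ ∈ orbitCen x)
    {a : ι} {i : ℤ} (hi : (x ^ i) a = σ a) : ∀ k : ℕ, (σ ^ k) a = (x ^ (i * k)) a := by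
  intro k
  induction k with
  | zero => simp
  | succ k ih =>
    rw [pow_succ', Equiv.Perm.mul_apply, ih]
    have := congrArg (fun f : Equiv.Perm ι => f a) (hσ.1.zpow_right (i * k)).eq
    simp only [Equiv.Perm.mul_apply] at this
    rw [this, ← hi, ← Equiv.Perm.mul_apply, ← zpow_add]
    push_cast
    ring_nf

theorem orbitCen_pow_eq_one {x σ : Equiv.Perm ι} (hx : x ^ p = 1) (hσ : σ ∈ orbitCen x) :
    σ ^ p = 1 := by
  refine Equiv.ext fun a => ?_
  obtain ⟨i, hi⟩ := hσ.2 a
  rw [zpow_apply_eq_of_sameCycle hσ hi, mul_comm, zpow_mul, zpow_natCast, hx, one_zpow]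

theorem orbitCen_comm {x σ τ : Equiv.Perm ι} (hσ : σ ∈ orbitCen x) (hτ : τ ∈ orbitCen x) :
    σ * τ = τ * σ := by
  refine Equiv.ext fun a => ?_
  obtain ⟨i, hi⟩ := hσ.2 a
  obtain ⟨j, hj⟩ := hτ.2 a
  have h1 := congrArg (fun f : Equiv.Perm ι => f a) (hσ.1.zpow_right j).eq
  have h2 := congrArg (fun f : Equiv.Perm ι => f a) (hτ.1.zpow_right i).eq
  simp only [Equiv.Perm.mul_apply] at h1 h2
  rw [Equiv.Perm.mul_apply, Equiv.Perm.mul_apply, ← hj, h1, ← hi, h2, ← hj,
    ← Equiv.Perm.mul_apply, ← Equiv.Perm.mul_apply, ← zpow_add, ← zpow_add, add_comm]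

/-- Splitting off the first block. -/
def blockSplit (p w m : ℕ) :
    Fin p ⊕ ((Fin w × Fin p) ⊕ Fin m) ≃ (Fin (w + 1) × Fin p) ⊕ Fin m :=
  (Equiv.sumAssoc _ _ _).symm.trans (Equiv.sumCongr
    ⟨fun z => Sum.elim (fun t => (0, t)) (fun q => (q.1.succ, q.2)) z,
      fun q => Fin.cases (Sum.inl q.2) (fun j => Sum.inr (j, q.2)) q.1,
      fun z => by rcases z with t | ⟨j, t⟩ <;> simp,
      fun q => by
        rcases q with ⟨j, t⟩
        induction j using Fin.cases <;> simp⟩ (Equiv.refl _))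

/-- The product of `w` disjoint `p`-cycles. -/
def cyclesElt (p w m : ℕ) : Equiv.Perm ((Fin w × Fin p) ⊕ Fin m) :=
  Equiv.sumCongr (Equiv.prodCongrRight fun _ : Fin w => finRotate p) 1

/-- The product of `w` disjoint `p`-cycles and a permutation of the other points. -/
def cyclesMul (p w : ℕ) {m : ℕ} (τ : Equiv.Perm (Fin m)) :
    Equiv.Perm ((Fin w × Fin p) ⊕ Fin m) :=
  Equiv.sumCongr (Equiv.prodCongrRight fun _ : Fin w => finRotate p) τ

theorem cyclesMul_succ (p w : ℕ) {m : ℕ} (τ : Equiv.Perm (Fin m)) :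
    (blockSplit p w m).permCongr (Equiv.sumCongr (finRotate p) (cyclesMul p w τ)) =
      cyclesMul p (w + 1) τ := by
  refine Equiv.ext fun z => ?_
  rcases z with ⟨j, t⟩ | t
  · induction j using Fin.cases <;>
      simp [blockSplit, cyclesMul, Equiv.permCongr_apply]
  · simp [blockSplit, cyclesMul, Equiv.permCongr_apply]

/-- The value at a product of `w` disjoint `p`-cycles and a permutation of the other points. -/
theorem exists_fchar_cyclesMul (hp : 0 < p) (m : ℕ) : ∀ (w : ℕ) (α : Fin N → ℕ),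
    Function.Injective α → coreWeight p α = w → ∃ P : ℕ, 0 < P ∧ ∀ τ : Equiv.Perm (Fin m),
      fchar α (cyclesMul p w τ) = (P : ℤ) * fchar (coreBead p α) τ := by
  have : Nonempty (Fin p) := ⟨⟨0, hp⟩⟩
  intro w
  induction w with
  | zero =>
    intro α hα hw
    refine ⟨1, one_pos, fun τ => ?_⟩
    have hc : coreBead p α = α := funext fun i => by
      have h := coreBead_add_disp (p := p) hα i
      have : beadDisp p α i = 0 := (sum_eq_zero_iff.1 hw) i (mem_univ i)
      rw [this, mul_zero, add_zero] at h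
      exact h
    rw [Nat.cast_one, one_mul, hc,
      ← fchar_permCongr α (Equiv.emptySum (Fin 0 × Fin p) (Fin m)) (cyclesMul p 0 τ)]
    refine congrArg _ (Equiv.ext fun z => ?_)
    simp [cyclesMul, Equiv.permCongr_apply]
  | succ w ih =>
    intro α hα hw
    have hterm : ∀ i, ∃ P : ℕ, ((p ≤ α i ∧ ∀ j, α j ≠ α i - p) → 0 < P) ∧
        ∀ τ : Equiv.Perm (Fin m), (if p ≤ α i then fchar (α - Pi.single i p) (cyclesMul p w τ) else 0) =
          (P : ℤ) * fchar (coreBead p α) τ := by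
      intro i
      by_cases hpi : p ≤ α i
      · by_cases hfree : ∀ j, α j ≠ α i - p
        · obtain ⟨hinj, hcore, hwt⟩ := move_down hp hα hpi hfree
          obtain ⟨P, hP, h⟩ := ih _ hinj (by omega)
          exact ⟨P, fun _ => hP, fun τ => by rw [if_pos hpi, h, hcore]⟩
        · refine ⟨0, fun h => absurd h.2 hfree, fun τ => ?_⟩
          push Not at hfree
          obtain ⟨j, hj⟩ := hfree
          rw [if_pos hpi, fchar_eq_zero, Nat.cast_zero, zero_mul]
          intro hinj
          have hne : j ≠ i := fun h => by subst h; omega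
          exact hne (hinj (by simp [Pi.single_eq_of_ne hne, hj]))
      · exact ⟨0, fun h => absurd h.1 hpi, fun τ => by rw [if_neg hpi, Nat.cast_zero, zero_mul]⟩
    choose P hP hval using hterm
    obtain ⟨i, hi⟩ := exists_movable hp hα (by omega)
    refine ⟨∑ i, P i, (hP i hi).trans_le (single_le_sum (fun _ _ => Nat.zero_le _) (mem_univ i)),
      fun τ => ?_⟩
    rw [← cyclesMul_succ, fchar_permCongr,
      fchar_sumCongr (finRotate p) (fun f hf => finRotate_const hf)]
    simp only [Fintype.card_fin]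
    rw [sum_congr rfl fun i _ => hval i τ, Nat.cast_sum, sum_mul]

theorem exists_fchar_cyclesElt (hp : 0 < p) (m : ℕ) (w : ℕ) (α : Fin N → ℕ)
    (hα : Function.Injective α) (hw : coreWeight p α = w) : ∃ P : ℕ, 0 < P ∧
      fchar α (cyclesElt p w m) = (P : ℤ) * fchar (coreBead p α) (1 : Equiv.Perm (Fin m)) :=
  let ⟨P, hP, h⟩ := exists_fchar_cyclesMul hp m w α hα hw
  ⟨P, hP, h 1⟩

theorem fchar_one_ne_zero {β : Fin N → ℕ} (hβ : Function.Injective β)
    (hs : β ∈ tuples N (Fintype.card ι)) : fchar β (1 : Equiv.Perm ι) ≠ 0 := by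
  obtain ⟨χ, e, he, hv⟩ := exists_irr_eq (sort_mem_monos hs hβ)
  intro h0
  refine CfsgLib.Char.irr_apply_one_ne_zero χ.2 ?_
  rw [hv, fchar_comp, h0]
  simp

open Fin.NatCast in
theorem natCard_orbitCen_cyclesElt (hp : 0 < p) (w m : ℕ) :
    p ^ w ≤ Nat.card (orbitCen (cyclesElt p w m)) := by
  obtain ⟨p, rfl⟩ : ∃ k, p = k + 1 := ⟨p - 1, by omega⟩
  have hpow : ∀ (a : ℕ) (t : Fin (p + 1)), ((finRotate (p + 1)) ^ a) t = t + (a : Fin (p + 1)) := by
    intro a
    induction a with
    | zero => simp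
    | succ a ih =>
      intro t
      rw [pow_succ', Equiv.Perm.mul_apply, ih, finRotate_succ_apply, Nat.cast_succ]
      simp [add_assoc]
  let f : (Fin w → Fin (p + 1)) → orbitCen (cyclesElt (p + 1) w m) := fun a =>
    ⟨Equiv.sumCongr (Equiv.prodCongrRight fun j => finRotate (p + 1) ^ (a j).val) 1, by
      refine ⟨Equiv.ext fun z => ?_, fun z => ?_⟩
      · rcases z with ⟨j, t⟩ | t
        · simp only [cyclesElt, Equiv.Perm.mul_apply, Equiv.sumCongr_apply, Sum.map_inl,
            Equiv.prodCongrRight_apply]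
          rw [← Equiv.Perm.mul_apply, ← pow_succ, ← Equiv.Perm.mul_apply, ← pow_succ']
        · simp [cyclesElt]
      · refine ⟨((Sum.elim (fun q => (a q.1).val) (fun _ => 0) z : ℕ) : ℤ), ?_⟩
        rw [zpow_natCast]
        have hk : ∀ (k : ℕ), (cyclesElt (p + 1) w m) ^ k =
            Equiv.sumCongr (Equiv.prodCongrRight fun _ : Fin w => finRotate (p + 1) ^ k) 1 := by
          intro k
          induction k with
          | zero => refine Equiv.ext fun z => ?_; rcases z with ⟨j, t⟩ | t <;> simp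
          | succ k ih =>
            rw [pow_succ', ih]
            refine Equiv.ext fun z => ?_
            rcases z with ⟨j, t⟩ | t <;>
              simp [cyclesElt, pow_succ', Equiv.Perm.mul_apply]
        rw [hk]
        rcases z with ⟨j, t⟩ | t <;> simp⟩
  have hf : Function.Injective f := by
    intro a b h
    funext j
    have := congrArg (fun g : orbitCen (cyclesElt (p + 1) w m) =>
      (g : Equiv.Perm ((Fin w × Fin (p + 1)) ⊕ Fin m)) (Sum.inl (j, 0))) h
    simp only [f, Equiv.sumCongr_apply, Sum.map_inl, Equiv.prodCongrRight_apply, hpow, zero_add,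
      Sum.inl.injEq, Prod.mk.injEq, true_and, Fin.cast_val_eq_self] at this
    exact this
  calc (p + 1) ^ w = Nat.card (Fin w → Fin (p + 1)) := by simp
    _ ≤ _ := Nat.card_le_card_of_injective f hf

theorem cyclesElt_pow_eq_one (hp : 0 < p) (w m : ℕ) : cyclesElt p w m ^ p = 1 := by
  obtain ⟨p, rfl⟩ : ∃ k, p = k + 1 := ⟨p - 1, by omega⟩
  refine Equiv.ext fun z => ?_
  have hk : ∀ (k : ℕ), (cyclesElt (p + 1) w m) ^ k =
      Equiv.sumCongr (Equiv.prodCongrRight fun _ : Fin w => finRotate (p + 1) ^ k) 1 := by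
    intro k
    induction k with
    | zero => refine Equiv.ext fun z => ?_; rcases z with ⟨j, t⟩ | t <;> simp
    | succ k ih =>
      rw [pow_succ', ih]
      refine Equiv.ext fun z => ?_
      rcases z with ⟨j, t⟩ | t <;> simp [cyclesElt, pow_succ', Equiv.Perm.mul_apply]
  have h1 : finRotate (p + 1) ^ (p + 1) = 1 := by
    rcases p with _ | p
    · exact Equiv.ext fun i => Fin.ext (by omega)
    · have := pow_orderOf_eq_one (finRotate (p + 2))
      rwa [isCycle_finRotate.orderOf, support_finRotate, card_univ, Fintype.card_fin] at this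
  rw [hk, h1]
  rcases z with ⟨j, t⟩ | t <;> simp

/-- A defect group contains the orbit centralizer of an element on which the block does not
vanish. -/
theorem exists_defect_ge [Fact p.Prime] {M : Ideal Cfsg.AlgInt} (hM : Cfsg.IsPModular p M)
    {B : Set (Cfsg.IrrCharacter (Equiv.Perm ι))} (hB : Cfsg.IsPBlock M B)
    {x : Equiv.Perm ι} (hx : x ^ p = 1) {χ : Cfsg.IrrCharacter (Equiv.Perm ι)} (hχ : χ ∈ B)
    (hne : (χ : Equiv.Perm ι → ℂ) x ≠ 0) :
    ∃ E : Subgroup (Equiv.Perm ι), Cfsg.IsDefectGroup p M B E ∧ orbitCen x ≤ E := by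
  have := CfsgLib.Block.isPrime_of_pmodular hM
  have hxo : ∃ k : ℕ, orderOf x = p ^ k := by
    obtain ⟨k, -, hk⟩ := (Nat.dvd_prime_pow Fact.out).1
      (show orderOf x ∣ p ^ 1 by rw [pow_one]; exact orderOf_dvd_of_pow_eq_one hx)
    exact ⟨k, hk⟩
  set C := Subgroup.centralizer ({x} : Set (Equiv.Perm ι))
  set θ : C → ℂ := fun c => (χ : Equiv.Perm ι → ℂ) (x * (c : Equiv.Perm ι)) with hθ
  have hθc : Cfsg.IsClassFunction C θ := by
    intro g h
    simp only [hθ, Subgroup.coe_mul, Subgroup.coe_inv]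
    have hh : Commute (h : Equiv.Perm ι) x := Subgroup.mem_centralizer_singleton_iff.1 h.2
    rw [show x * ((h : Equiv.Perm ι) * g * (h : Equiv.Perm ι)⁻¹) =
      (h : Equiv.Perm ι) * (x * g) * (h : Equiv.Perm ι)⁻¹ by
        rw [← mul_assoc, ← mul_assoc, ← hh.eq, mul_assoc (h : Equiv.Perm ι) x]]
    exact CfsgLib.Char.irr_isClassFunction χ.2 _ _
  have hsum := CfsgLib.Block.sum_blockPart (M := M) hθc 1
  obtain ⟨b, hb, hb0⟩ := exists_ne_zero_of_sum_ne_zero (hsum ▸ (by simpa [hθ] using hne) :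
    ∑ b ∈ CfsgLib.Block.allBlocks M C, Cfsg.blockPart b θ 1 ≠ 0)
  have hbB := CfsgLib.Block.mem_allBlocks.1 hb
  have hind : Cfsg.IsInducedBlock M C b B := by
    by_contra hnot
    exact hb0 (CfsgLib.Block.blockPart_centralizer_eq_zero hM hxo hB hχ hbB hnot
      (y := 1) (by rw [orderOf_one]; exact (Fact.out : p.Prime).not_dvd_one))
  obtain ⟨Db, hDb⟩ := CfsgLib.Block.exists_isDefectGroup hM hbB
  have hQn := orbitCen_normal x
  have hQp : IsPGroup p ((orbitCen x).subgroupOf C) := fun y => ⟨1, by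
    rw [pow_one]
    exact Subtype.ext (Subtype.ext (by simpa using orbitCen_pow_eq_one hx y.2))⟩
  obtain ⟨E, hE, hle⟩ := CfsgLib.Block.exists_map_subtype_le_defect hM hind hDb
  refine ⟨E, hE, le_trans ?_ hle⟩
  intro σ hσ
  exact ⟨⟨σ, orbitCen_le_centralizer x hσ⟩,
    CfsgLib.Block.normal_le_defectGroup hM hQp hbB hDb (Subgroup.mem_subgroupOf.2 hσ), rfl⟩

/-- Bounds on the sectional rank bound elementary abelian subgroups. -/
theorem natCard_le_of_sectionalPRankLE {G : Type*} [Group G] {s : ℕ}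
    (hs : Cfsg.SectionalPRankLE p s G) (A : Subgroup G) (hc : ∀ a ∈ A, ∀ b ∈ A, a * b = b * a)
    (hp : ∀ a ∈ A, a ^ p = 1) : Nat.card A ≤ p ^ s := by
  let f : G →* (⊤ : Subgroup G) ⧸ (⊥ : Subgroup (⊤ : Subgroup G)) :=
    (QuotientGroup.mk' ⊥).comp Subgroup.topEquiv.symm.toMonoidHom
  have hf : Function.Injective f := by
    intro a b h
    simp only [f, MonoidHom.comp_apply, QuotientGroup.mk'_apply, QuotientGroup.eq,
      Subgroup.mem_bot, inv_mul_eq_one] at h
    exact Subgroup.topEquiv.symm.injective h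
  have h := hs ⊤ ⊥ (A.map f) ⟨⟨fun a b => ?_⟩⟩ ?_
  · rwa [← Nat.card_congr (A.equivMapOfInjective f hf).toEquiv] at h
  · obtain ⟨a', ha', ha⟩ := Subgroup.mem_map.1 a.2
    obtain ⟨b', hb', hb⟩ := Subgroup.mem_map.1 b.2
    refine Subtype.ext ?_
    simp only [Subgroup.coe_mul, ← ha, ← hb, ← map_mul, hc a' ha' b' hb']
  · intro a ha
    obtain ⟨a', ha', rfl⟩ := Subgroup.mem_map.1 ha
    rw [← map_pow, hp a' ha', map_one]

theorem orbitCen_permCongr_card {κ : Type} [Fintype κ] [DecidableEq κ] (e : κ ≃ ι)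
    (x : Equiv.Perm κ) : Nat.card (orbitCen x) ≤ Nat.card (orbitCen (e.permCongr x)) := by
  refine Nat.card_le_card_of_injective
    (fun σ => ⟨e.permCongrHom σ.1, σ.2.1.map e.permCongrHom, fun a => ?_⟩) fun σ τ h =>
      Subtype.ext (e.permCongrHom.injective (congrArg Subtype.val h))
  obtain ⟨i, hi⟩ := σ.2.2 (e.symm a)
  refine ⟨i, ?_⟩
  have : (e.permCongr x) ^ i = e.permCongrHom (x ^ i) := (map_zpow e.permCongrHom x i).symm
  rw [this]
  show e ((x ^ i) (e.symm a)) = e (σ.1 (e.symm a))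
  rw [hi]

/-- The weight is at most the sectional rank of a defect group. -/
theorem coreWeight_le_sectional [Fact p.Prime] {M : Ideal Cfsg.AlgInt}
    (hM : Cfsg.IsPModular p M) {B : Set (Cfsg.IrrCharacter (Equiv.Perm ι))}
    (hB : Cfsg.IsPBlock M B) {D : Subgroup (Equiv.Perm ι)} (hD : Cfsg.IsDefectGroup p M B D)
    {s : ℕ} (hs : Cfsg.SectionalPRankLE p s D) {χ : Cfsg.IrrCharacter (Equiv.Perm ι)}
    (hχ : χ ∈ B) {α : Fin N → ℕ} (hα : α ∈ monos N (Fintype.card ι)) {e : ℤ}
    (he : e = 1 ∨ e = -1) (hv : ∀ σ, (χ : Equiv.Perm ι → ℂ) σ = (e : ℂ) * (fchar α σ : ℂ)) :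
    coreWeight p α ≤ s := by
  have hp := (Fact.out : p.Prime)
  have := CfsgLib.Block.isPrime_of_pmodular hM
  obtain ⟨hsum, hmono⟩ := mem_monos.1 hα
  set w := coreWeight p α
  have hw : p * w ≤ Fintype.card ι := mul_coreWeight_le hp.pos hmono.injective (mem_tuples.2 hsum)
  set m := Fintype.card ι - p * w with hm
  let ee : (Fin w × Fin p) ⊕ Fin m ≃ ι := Fintype.equivOfCardEq (by
    simp only [Fintype.card_sum, Fintype.card_prod, Fintype.card_fin]
    rw [mul_comm w p]
    omega)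
  set x := ee.permCongr (cyclesElt p w m) with hxdef
  have hx : x ^ p = 1 := by
    show (ee.permCongrHom (cyclesElt p w m)) ^ p = 1
    rw [← map_pow, cyclesElt_pow_eq_one hp.pos, map_one]
  have hne : (χ : Equiv.Perm ι → ℂ) x ≠ 0 := by
    rw [hv, hxdef, fchar_permCongr]
    obtain ⟨P, hP, hval⟩ := exists_fchar_cyclesElt hp.pos m w α hmono.injective rfl
    have hcs : coreBead p α ∈ tuples N (Fintype.card (Fin m)) := by
      have := sum_eq_sum_core (p := p) hmono.injective
      rw [mem_tuples, Fintype.card_fin, hm]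
      change ∑ i, α i = ∑ i, coreBead p α i + p * w at this
      omega
    rw [hval]
    refine mul_ne_zero (by rcases he with rfl | rfl <;> simp) ?_
    exact_mod_cast mul_ne_zero (by omega : (P : ℤ) ≠ 0)
      (fchar_one_ne_zero (coreBead_injective hp.pos hmono.injective) hcs)
  obtain ⟨E, hE, hle⟩ := exists_defect_ge hM hB hx hχ hne
  obtain ⟨g, hg⟩ := CfsgLib.Block.defectGroup_exists_conj hM hB hD hE
  let A : Subgroup D := ((orbitCen x).map (MulAut.conj g⁻¹).toMonoidHom).subgroupOf D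
  have hAD : (orbitCen x).map (MulAut.conj g⁻¹).toMonoidHom ≤ D := by
    rintro _ ⟨σ, hσ, rfl⟩
    have h := hle hσ
    rw [hg] at h
    obtain ⟨d, hd, rfl⟩ := h
    simpa [mul_assoc] using hd
  have hA := natCard_le_of_sectionalPRankLE (p := p) hs A (fun a ha b hb => ?_) fun a ha => ?_
  · rw [Nat.card_congr (Subgroup.subgroupOfEquivOfLe hAD).toEquiv,
      ← Nat.card_congr ((orbitCen x).equivMapOfInjective _
        (MulAut.conj g⁻¹).injective).toEquiv] at hA
    exact (Nat.pow_le_pow_iff_right hp.one_lt).1 (((natCard_orbitCen_cyclesElt hp.pos w m).trans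
      (orbitCen_permCongr_card ee _)).trans hA)
  · obtain ⟨a', ha', ha⟩ := Subgroup.mem_subgroupOf.1 ha
    obtain ⟨b', hb', hb⟩ := Subgroup.mem_subgroupOf.1 hb
    refine Subtype.ext ?_
    simp only [Subgroup.coe_mul, ← ha, ← hb, ← map_mul, orbitCen_comm ha' hb']
  · obtain ⟨a', ha', ha⟩ := Subgroup.mem_subgroupOf.1 ha
    refine Subtype.ext ?_
    rw [SubgroupClass.coe_pow, ← ha, ← map_pow, orbitCen_pow_eq_one hx ha', map_one]
    rfl

/-- **Blocks of symmetric groups have fewer Brauer characters than `p` to the sectional rank.** -/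
theorem blockRank_lt_pow [Fact p.Prime] {M : Ideal Cfsg.AlgInt}
    (hM : Cfsg.IsPModular p M) {B : Set (Cfsg.IrrCharacter (Equiv.Perm ι))}
    (hB : Cfsg.IsPBlock M B) {D : Subgroup (Equiv.Perm ι)} (hD : Cfsg.IsDefectGroup p M B D)
    (hD1 : D ≠ ⊥) {s : ℕ} (hs : Cfsg.SectionalPRankLE p s D) :
    Cfsg.blockRank p B < p ^ s := by
  have hp := (Fact.out : p.Prime)
  have hs1 : 1 ≤ s := by
    by_contra hlt
    have hs0 : s = 0 := by omega
    subst hs0
    apply hD1
    have hDp : IsPGroup p D := by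
      obtain ⟨g, -, P, rfl⟩ := hD
      exact P.isPGroup'.map _
    rw [Subgroup.eq_bot_iff_forall]
    intro d hd
    by_contra hne
    have : Nontrivial D := ⟨⟨⟨d, hd⟩, 1, fun h => hne (congrArg Subtype.val h)⟩⟩
    obtain ⟨k, hk⟩ := IsPGroup.iff_card.1 hDp
    have hk0 : k ≠ 0 := fun h => by
      subst h
      rw [pow_zero] at hk
      exact (Finite.one_lt_card (α := D)).ne' hk
    obtain ⟨z, hz⟩ := exists_prime_orderOf_dvd_card' (G := D) p (hk ▸ dvd_pow_self p hk0)
    have h := natCard_le_of_sectionalPRankLE hs (Subgroup.zpowers z)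
      (fun a ha b hb => by
        obtain ⟨i, rfl⟩ := ha
        obtain ⟨j, rfl⟩ := hb
        exact Commute.zpow_zpow_self z i j)
      (fun a ha => by
        obtain ⟨i, rfl⟩ := ha
        rw [← zpow_natCast (z ^ i), ← zpow_mul, mul_comm, zpow_mul, zpow_natCast, ← hz,
          pow_orderOf_eq_one, one_zpow])
    rw [Nat.card_zpowers, hz, pow_zero] at h
    exact absurd h (not_le.2 hp.one_lt)
  set N := Fintype.card ι with hN
  obtain ⟨c, hBc, χ, hχ, α, hα, hc, e, he, hv⟩ := subset_coreSet (N := N) hM le_rfl hB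
  refine (blockRank_le_card le_rfl c hBc).trans_lt ?_
  have hw := coreWeight_le_sectional hM hB hD hs hχ hα he hv
  obtain ⟨hsum, hmono⟩ := mem_monos.1 hα
  have hwt : ∀ β ∈ goodSet N p (Fintype.card ι) c, coreWeight p β = coreWeight p α := by
    intro β hβ
    obtain ⟨hβm, hβc, -⟩ := mem_goodSet.1 hβ
    obtain ⟨hβs, hβmono⟩ := mem_monos.1 hβm
    exact coreWeight_eq_of_resCount hp.pos hβmono.injective hmono.injective (hβc.trans hc.symm)
      (hβs.trans hsum.symm)
  rcases Nat.eq_zero_or_pos (coreWeight p α) with h0 | hpos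
  · refine lt_of_le_of_lt (card_le_one.2 fun β hβ γ hγ => ?_) (Nat.one_lt_pow (by omega) hp.one_lt)
    obtain ⟨hβm, hβc, -⟩ := mem_goodSet.1 hβ
    obtain ⟨hγm, hγc, -⟩ := mem_goodSet.1 hγ
    obtain ⟨-, hβmono⟩ := mem_monos.1 hβm
    obtain ⟨-, hγmono⟩ := mem_monos.1 hγm
    have hcore : ∀ δ : Fin N → ℕ, Function.Injective δ → coreWeight p δ = 0 →
        coreBead p δ = δ := fun δ hδ hd => funext fun i => by
      have h := coreBead_add_disp (p := p) hδ i
      rw [(sum_eq_zero_iff.1 hd) i (mem_univ i), mul_zero, add_zero] at h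
      exact h
    obtain ⟨π, hπ⟩ := exists_core_perm hp.pos hβmono.injective hγmono.injective
      (hβc.trans hγc.symm)
    rw [hcore γ hγmono.injective ((hwt γ hγ).trans h0),
      hcore β hβmono.injective ((hwt β hβ).trans h0)] at hπ
    exact (hβmono.range_inj hγmono).1 (by rw [hπ, π.surjective.range_comp])
  · exact (card_goodSet_lt hp.pos hpos c hwt).trans_le (Nat.pow_le_pow_right hp.pos hw)

end CfsgLib.BlockA.SymBlock
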