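import Cfsg.Agent.Lib.BlockA.AltBlocks
import Cfsg.Agent.Lib.BlockA.SymDefect
import Cfsg.Agent.Lib.BlockA.CoverDefectGroup
import Cfsg.Agent.Lib.BlockA.AbelianRankCount

/-!
# Blocks of alternating groups have fewer Brauer characters than `p` to the sectional rank
-/

set_option autoImplicit false
set_option linter.unusedSectionVars false

namespace CfsgLib.BlockA.SymBlock

open Cfsg CfsgLib.Block Finset
open scoped Classical

variable {N : ℕ} {ι : Type} [Fintype ι] [DecidableEq ι] {p : ℕ}

/-- Restriction of functions to the alternating group. -/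
noncomputable def resLin (ι : Type) [Fintype ι] [DecidableEq ι] :
    (Equiv.Perm ι → ℂ) →ₗ[ℂ] (alternatingGroup ι → ℂ) :=
  LinearMap.funLeft ℂ ℂ (fun a : alternatingGroup ι => (a : Equiv.Perm ι))

theorem resLin_apply (f : Equiv.Perm ι → ℂ) (a : alternatingGroup ι) :
    resLin ι f a = f (a : Equiv.Perm ι) := rfl

/-- A constituent of the restriction belonging to a tuple. -/
noncomputable def halfOf (α : Fin N → ℕ) : alternatingGroup ι → ℂ :=
  if h : ∃ θ : IrrCharacter (alternatingGroup ι),
      classInner (fun a : alternatingGroup ι => (fchar α (a : Equiv.Perm ι) : ℂ))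
        (θ : alternatingGroup ι → ℂ) ≠ 0 then (h.choose : alternatingGroup ι → ℂ) else 0

/-- The bound on the rank of a block of the alternating group. -/
theorem blockRank_alt_le [Fact p.Prime] [Nontrivial ι] {M : Ideal AlgInt} (hM : IsPModular p M)
    (hN : Fintype.card ι ≤ N) (c : ℕ → ℕ) {B : Set (IrrCharacter (Equiv.Perm ι))}
    (hB : B ⊆ coreSet N p ι c) {b : Set (IrrCharacter (alternatingGroup ι))}
    (hcov : ∀ θ ∈ b, ∃ χ ∈ B, classInner (fun a : alternatingGroup ι => (χ : Equiv.Perm ι → ℂ) a)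
      (θ : alternatingGroup ι → ℂ) ≠ 0) :
    blockRank p b ≤ (goodSet N p (Fintype.card ι) c).card +
      (selfSet N p (Fintype.card ι) c).card := by
  have hp : 0 < p := (Fact.out : p.Prime).pos
  set S₁ := (goodSet N p (Fintype.card ι) c).image fun α => resLin ι (regChar p ι α)
  set S₂ := (selfSet N p (Fintype.card ι) c).image fun α =>
    pRegularPart p (halfOf (ι := ι) α)
  set W := Submodule.span ℂ ((S₁ ∪ S₂ : Finset (alternatingGroup ι → ℂ)) :
    Set (alternatingGroup ι → ℂ))
  have hle : Submodule.span ℂ ((fun θ : IrrCharacter (alternatingGroup ι) =>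
      pRegularPart p (θ : alternatingGroup ι → ℂ)) '' b) ≤ W := by
    rw [Submodule.span_le]
    rintro _ ⟨θ, hθ, rfl⟩
    obtain ⟨χ, hχ, hne⟩ := hcov θ hθ
    obtain ⟨α, hα, hc, e, he, hv⟩ := hB hχ
    obtain ⟨hs, hm⟩ := mem_monos.1 hα
    have hres : resLin ι (regChar p ι α) ∈ W := by
      have h := regChar_mem_span hN hp c _ α hm.injective (mem_tuples.2 hs) hc rfl
      have h' := Submodule.apply_mem_span_image_of_mem_span (resLin ι) h
      refine Submodule.span_mono ?_ h'
      rintro _ ⟨_, ⟨β, hβ, rfl⟩, rfl⟩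
      rw [coe_union, Set.mem_union]
      exact Or.inl (mem_coe.2 (mem_image_of_mem _ hβ))
    have hreg : ∀ a : alternatingGroup ι, IsPRegular p (a : Equiv.Perm ι) ↔ IsPRegular p a :=
      fun a => by simp only [IsPRegular, Subgroup.orderOf_coe]
    have hresχ : ∀ a : alternatingGroup ι, (e : ℂ) * resLin ι (regChar p ι α) a =
        pRegularPart p (fun a : alternatingGroup ι => (χ : Equiv.Perm ι → ℂ) a) a := by
      intro a
      simp only [resLin_apply, regChar, pRegularPart, hv]
      by_cases ha : IsPRegular p a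
      · rw [if_pos ha, if_pos ((hreg a).2 ha)]
      · rw [if_neg ha, if_neg fun hh => ha ((hreg a).1 hh), mul_zero]
    obtain ⟨hirr, hhalf⟩ := res_cases χ hne
    by_cases htw : twist χ = χ
    swap
    · show pRegularPart p (θ : alternatingGroup ι → ℂ) ∈ W
      rw [show pRegularPart p (θ : alternatingGroup ι → ℂ) = (e : ℂ) • resLin ι (regChar p ι α)
        from funext fun a => by
          rw [Pi.smul_apply, smul_eq_mul, hresχ]
          simp only [pRegularPart, hirr htw a]]
      exact W.smul_mem _ hres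
    -- the self-conjugate case
    have hself : α ∈ selfSet N p (Fintype.card ι) c := by
      refine mem_selfSet.2 ⟨hα, hc, isConjBead_self_of_twist hN hα fun σ => ?_⟩
      have := congrFun (congrArg Subtype.val htw) σ
      rw [twist_apply, hv, sgnC, ← mul_assoc, mul_comm (((Equiv.Perm.sign σ : ℤ)) : ℂ),
        mul_assoc] at this
      have h2 := mul_left_cancel₀ (by rcases he with rfl | rfl <;> simp) this
      exact_mod_cast h2
    have hscale : ∀ η : IrrCharacter (alternatingGroup ι),
        classInner (fun a : alternatingGroup ι => (χ : Equiv.Perm ι → ℂ) a)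
          (η : alternatingGroup ι → ℂ) = (e : ℂ) *
        classInner (fun a : alternatingGroup ι => (fchar α (a : Equiv.Perm ι) : ℂ))
          (η : alternatingGroup ι → ℂ) := fun η => by
      rw [← CfsgLib.Char.classInner_smul_left]
      refine congrArg (fun f => classInner f (η : alternatingGroup ι → ℂ)) (funext fun a => ?_)
      rw [Pi.smul_apply, smul_eq_mul, hv]
    have hex : ∃ η : IrrCharacter (alternatingGroup ι),
        classInner (fun a : alternatingGroup ι => (fchar α (a : Equiv.Perm ι) : ℂ))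
          (η : alternatingGroup ι → ℂ) ≠ 0 :=
      ⟨θ, fun h => hne (by rw [hscale, h, mul_zero])⟩
    have hhalfmem : pRegularPart p (halfOf (ι := ι) α) ∈ W :=
      Submodule.subset_span (mem_coe.2 (mem_union_right _ (mem_image_of_mem _ hself)))
    rw [halfOf, dif_pos hex] at hhalfmem
    by_cases hθe : θ = hex.choose
    · rw [hθe]; exact hhalfmem
    have hch : classInner (fun a : alternatingGroup ι => (χ : Equiv.Perm ι → ℂ) a)
        (hex.choose : alternatingGroup ι → ℂ) ≠ 0 := by
      rw [hscale]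
      exact mul_ne_zero (by rcases he with rfl | rfl <;> simp) hex.choose_spec
    have hcomp := (res_cases χ hch).2 θ hne hθe
    show pRegularPart p (θ : alternatingGroup ι → ℂ) ∈ W
    rw [show pRegularPart p (θ : alternatingGroup ι → ℂ) = (e : ℂ) • resLin ι (regChar p ι α) -
      pRegularPart p (hex.choose : alternatingGroup ι → ℂ) from funext fun a => by
        rw [Pi.sub_apply, Pi.smul_apply, smul_eq_mul, hresχ]
        simp only [pRegularPart]
        split <;> simp [hcomp a]]
    exact W.sub_mem (W.smul_mem _ hres) hhalfmem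
  refine ((Submodule.finrank_mono hle).trans (finrank_span_finset_le_card (S₁ ∪ S₂))).trans ?_
  exact (card_union_le _ _).trans (Nat.add_le_add card_image_le card_image_le)

theorem card_weight_zero_le_one (hp : 0 < p) {n : ℕ} {c : ℕ → ℕ} (S : Finset (Fin N → ℕ))
    (hS : ∀ α ∈ S, α ∈ monos N n ∧ resCount p α = c ∧ coreWeight p α = 0) : S.card ≤ 1 := by
  refine card_le_one.2 fun β hβ γ hγ => ?_
  obtain ⟨hβm, hβc, hβw⟩ := hS β hβ
  obtain ⟨hγm, hγc, hγw⟩ := hS γ hγ
  obtain ⟨-, hβmono⟩ := mem_monos.1 hβm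
  obtain ⟨-, hγmono⟩ := mem_monos.1 hγm
  have hcore : ∀ δ : Fin N → ℕ, Function.Injective δ → coreWeight p δ = 0 →
      coreBead p δ = δ := fun δ hδ hd => funext fun i => by
    have h := coreBead_add_disp (p := p) hδ i
    rw [(sum_eq_zero_iff.1 hd) i (mem_univ i), mul_zero, add_zero] at h
    exact h
  obtain ⟨π, hπ⟩ := exists_core_perm hp hβmono.injective hγmono.injective (hβc.trans hγc.symm)
  rw [hcore γ hγmono.injective hγw, hcore β hβmono.injective hβw] at hπ
  exact (hβmono.range_inj hγmono).1 (by rw [hπ, π.surjective.range_comp])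

theorem card_selfSet_weight_one (hp : 0 < p) {n L : ℕ} (hL : 2 * N = p * L) (c : ℕ → ℕ)
    (hwt : ∀ α ∈ selfSet N p n c, coreWeight p α = 1) : (selfSet N p n c).card ≤ 1 := by
  refine card_le_one.2 fun β hβ γ hγ => selfSet_ext hp hL hβ hγ fun r hr t ht => ?_
  have key : ∀ α ∈ selfSet N p n c, runWeight p α r = if 2 * r + 1 = p then 1 else 0 := by
    intro α hα
    have hs := (mem_selfSet.1 hα).2.2
    have hmid : ∀ r' < p, 2 * r' + 1 ≠ p → runWeight p α r' = 0 := by
      intro r' hr' hne
      by_contra h0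
      have hsub : ({r', p - 1 - r'} : Finset ℕ) ⊆ range p := by
        intro x hx
        rw [mem_insert, mem_singleton] at hx
        rw [mem_range]
        omega
      have hle := sum_le_sum_of_subset (f := fun r => runWeight p α r) hsub
      rw [← coreWeight_eq_sum_runWeight hp, hwt α hα, sum_pair (by omega),
        runWeight_reflect hp hs hL hr'] at hle
      omega
    by_cases hm : 2 * r + 1 = p
    · rw [if_pos hm, ← hwt α hα, coreWeight_eq_sum_runWeight hp,
        sum_eq_single r (fun r' hr' hne => hmid r' (mem_range.1 hr') (by omega))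
          (fun h => absurd (mem_range.2 (by omega)) h)]
    · rw [if_neg hm]
      exact hmid r (by omega) hm
  have hcount : ∀ α ∈ selfSet N p n c,
      (univ.filter fun i => α i % p = r ∧ t ≤ beadDisp p α i).card =
        if 2 * r + 1 = p ∧ t = 1 then 1 else 0 := by
    intro α hα
    have hk := key α hα
    rw [runWeight] at hk
    have hbound : ∀ i ∈ univ.filter (fun i => α i % p = r), beadDisp p α i ≤ 1 := fun i hi => by
      have := single_le_sum (f := beadDisp p α) (fun _ _ => Nat.zero_le _) hi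
      split_ifs at hk <;> omega
    rcases Nat.lt_or_ge 1 t with ht1 | ht1
    · rw [if_neg (by omega), card_eq_zero, filter_eq_empty_iff]
      rintro i - ⟨hi, hd⟩
      have := hbound i (mem_filter.2 ⟨mem_univ _, hi⟩)
      omega
    obtain rfl : t = 1 := by omega
    have hsum : (univ.filter fun i => α i % p = r ∧ 1 ≤ beadDisp p α i).card =
        ∑ i ∈ univ.filter (fun i => α i % p = r), beadDisp p α i := by
      rw [← filter_filter, card_filter]
      refine sum_congr rfl fun i hi => ?_
      have := hbound i hi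
      split_ifs <;> omega
    rw [hsum, hk]
    simp
  rw [hcount β hβ, hcount γ hγ]

/-- The numerical bound. -/
theorem card_add_card_lt [hp : Fact p.Prime] {n w L s : ℕ} (hL : 2 * N = p * L) (c : ℕ → ℕ)
    (hg : ∀ α ∈ goodSet N p n c, coreWeight p α = w)
    (hsc : ∀ α ∈ selfSet N p n c, coreWeight p α = w) (hs2 : 2 ≤ s)
    (hs : p ≠ 2 → w ≤ s) (hs' : w ≤ s + 1) :
    (goodSet N p n c).card + (selfSet N p n c).card < p ^ s := by
  have hp1 := hp.out.one_lt
  have hp0 := hp.out.pos
  have hsq : p * p ≤ p ^ s := by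
    calc p * p = p ^ 2 := (sq p).symm
      _ ≤ _ := Nat.pow_le_pow_right hp0 hs2
  have hpp : 2 * p ≤ p * p := Nat.mul_le_mul_right p hp1
  rcases Nat.lt_or_ge w 2 with hw | hw
  · have h1 : (selfSet N p n c).card ≤ 1 := by
      rcases Nat.eq_zero_or_pos w with h0 | h0
      · exact card_weight_zero_le_one hp0 (c := c) (n := n) _ fun α hα =>
          ⟨(mem_selfSet.1 hα).1, (mem_selfSet.1 hα).2.1, (hsc α hα).trans h0⟩
      · exact card_selfSet_weight_one hp0 hL c fun α hα => (hsc α hα).trans (by omega)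
    have h2 : (goodSet N p n c).card ≤ p := by
      rcases Nat.eq_zero_or_pos w with h0 | h0
      · exact (card_weight_zero_le_one hp0 (c := c) (n := n) _ fun α hα =>
          ⟨(mem_goodSet.1 hα).1, (mem_goodSet.1 hα).2.1, (hg α hα).trans h0⟩).trans hp1.le
      · obtain rfl : w = 1 := by omega
        have := card_goodSet_lt hp0 one_pos c hg
        rw [pow_one] at this
        omega
    omega
  by_cases hp2 : p = 2
  · subst hp2
    have hg2 := card_goodSet_two c hg
    obtain ⟨hse, hso⟩ := card_selfSet_two hL c hsc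
    rcases Nat.lt_or_ge w 3 with hw3 | hw3
    · obtain rfl : w = 2 := by omega
      have h1 := natCard_partition_two
      have h2 : Nat.card (Nat.Partition (2 / 2)) = 1 := by simp
      omega
    obtain ⟨v, rfl⟩ : ∃ v, w = v + 2 := ⟨w - 2, by omega⟩
    have h1 := natCard_partition_le v
    have hpow : 2 ^ (v + 1) ≤ 2 ^ s := Nat.pow_le_pow_right two_pos (by omega)
    have hv : (2 : ℕ) ^ (v + 1) = 2 ^ v + 2 ^ v := by rw [pow_succ]; ring
    by_cases hev : Even (v + 2)
    · obtain ⟨u, hu⟩ := hev
      have h2 := natCard_partition_le_pow ((v + 2) / 2)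
      have hu' : (v + 2) / 2 - 1 = u - 1 := by omega
      rw [hu'] at h2
      -- `2 ^ (u - 1) + 1 < 2 ^ v`
      have h3 : 2 ^ (u - 1) * 2 ≤ 2 ^ v := by
        rw [← pow_succ]
        exact Nat.pow_le_pow_right two_pos (by omega)
      have h4 : 2 ≤ 2 ^ (u - 1) := by
        calc 2 = 2 ^ 1 := (pow_one 2).symm
          _ ≤ _ := Nat.pow_le_pow_right two_pos (by omega)
      omega
    · rw [hso hev]
      have h3 : 2 ≤ 2 ^ v := by
        calc 2 = 2 ^ 1 := (pow_one 2).symm
          _ ≤ _ := Nat.pow_le_pow_right two_pos (by omega)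
      omega
  · obtain ⟨m, hm⟩ := hp.out.odd_of_ne_two hp2
    have h3 : 3 ≤ p := by have := hp.out.two_le; omega
    have hA := card_goodSet_add_le hp0 (by omega : 0 < w) c hg
    have hB := card_selfSet_lt (m := m) hp0 hm.symm (by omega) hw hL c hsc
    have := Nat.pow_le_pow_right hp0 (hs hp2)
    omega

/-- A `p`-group of sectional rank at most one is cyclic. -/
theorem isCyclic_of_sectionalPRankLE_one [hp : Fact p.Prime] {P : Type} [Group P] [Finite P]
    (hP : IsPGroup p P) (hs : SectionalPRankLE p 1 P) : IsCyclic P := by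
  rcases subsingleton_or_nontrivial P with hsub | hnt
  · exact isCyclic_of_subsingleton
  have hnil := hP.isNilpotent
  obtain ⟨H, hH, -⟩ := (eq_top_or_exists_le_coatom (⊥ : Subgroup P)).resolve_left bot_ne_top
  obtain ⟨x, hx⟩ : ∃ x, x ∉ H := by
    by_contra h
    push Not at h
    exact hH.1 (eq_top_iff.2 fun y _ => h y)
  refine ⟨⟨x, fun y => ?_⟩⟩
  by_contra hy
  rcases eq_top_or_exists_le_coatom (Subgroup.zpowers x) with htop | ⟨K, hK, hxK⟩
  · exact hy (Subgroup.mem_zpowers_iff.1 (htop.symm ▸ Subgroup.mem_top y))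
  have hKH : ¬ K ≤ H := fun h => hx (h (hxK (Subgroup.mem_zpowers x)))
  have hnH : H.Normal := Subgroup.NormalizerCondition.normal_of_coatom H Group.normalizerCondition_of_isNilpotent hH
  have hnK : K.Normal := Subgroup.NormalizerCondition.normal_of_coatom K Group.normalizerCondition_of_isNilpotent hK
  have hquot : ∀ (U : Subgroup P) [U.Normal], IsCoatom U → Nat.card (P ⧸ U) = p := by
    intro U _ hU
    have : Nontrivial (P ⧸ U) := QuotientGroup.nontrivial_iff.2 hU.1
    obtain ⟨k, hk⟩ := IsPGroup.iff_card.1 (hP.to_quotient U)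
    have hk0 : k ≠ 0 := fun h => by
      rw [h, pow_zero] at hk
      exact (Finite.one_lt_card (α := P ⧸ U)).ne' hk
    obtain ⟨z, hz⟩ := exists_prime_orderOf_dvd_card' (G := P ⧸ U) p (hk ▸ dvd_pow_self p hk0)
    have htop : (Subgroup.zpowers z).comap (QuotientGroup.mk' U) = ⊤ := by
      have hUle : U ≤ (Subgroup.zpowers z).comap (QuotientGroup.mk' U) := fun u hu => by
        rw [Subgroup.mem_comap, QuotientGroup.mk'_apply, (QuotientGroup.eq_one_iff u).2 hu]
        exact one_mem _
      refine hU.2 _ (lt_of_le_of_ne hUle fun heq => ?_)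
      · obtain ⟨w, rfl⟩ := QuotientGroup.mk'_surjective U z
        have hw : w ∈ (Subgroup.zpowers (QuotientGroup.mk' U w)).comap (QuotientGroup.mk' U) :=
          Subgroup.mem_zpowers _
        rw [← heq] at hw
        rw [QuotientGroup.mk'_apply, (QuotientGroup.eq_one_iff w).2 hw, orderOf_one] at hz
        exact hp.out.one_lt.ne hz
    have hz' : Subgroup.zpowers z = ⊤ := eq_top_iff.2 fun q _ => by
      obtain ⟨w, rfl⟩ := QuotientGroup.mk'_surjective U q
      exact (htop ▸ Subgroup.mem_top w : w ∈ (Subgroup.zpowers z).comap (QuotientGroup.mk' U))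
    rw [← hz, ← Nat.card_zpowers, hz', Subgroup.card_top]
  let f : P →* (P ⧸ H) × (P ⧸ K) := (QuotientGroup.mk' H).prod (QuotientGroup.mk' K)
  have hcH := hquot H hH
  have hcK := hquot K hK
  have hcycH : IsCyclic (P ⧸ H) := isCyclic_of_prime_card hcH
  have hcycK : IsCyclic (P ⧸ K) := isCyclic_of_prime_card hcK
  have hpow : ∀ q : (P ⧸ H) × (P ⧸ K), q ^ p = 1 := fun q => Prod.ext
    (by rw [Prod.pow_fst]; have := pow_card_eq_one' (x := q.1); rwa [hcH] at this)
    (by rw [Prod.pow_snd]; have := pow_card_eq_one' (x := q.2); rwa [hcK] at this)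
  -- the section `P ⧸ ker f`
  let φ : (⊤ : Subgroup P) →* (P ⧸ H) × (P ⧸ K) := f.comp (Subgroup.topEquiv.toMonoidHom)
  have hle := hs ⊤ φ.ker ⊤ ⟨⟨fun a b => ?_⟩⟩ fun a _ => ?_
  · rw [Subgroup.card_top, Nat.card_congr (QuotientGroup.quotientKerEquivRange φ).toEquiv,
      pow_one] at hle
    have hrange : φ.range = f.range := by
      rw [show φ = f.comp (Subgroup.topEquiv.toMonoidHom) from rfl, MonoidHom.range_comp,
        MonoidHom.range_eq_top.2 Subgroup.topEquiv.surjective, ← MonoidHom.range_eq_map]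
    rw [hrange] at hle
    -- the first projection of the range is onto with a nontrivial kernel
    obtain ⟨k, hkK, hkH⟩ := SetLike.not_le_iff_exists.1 hKH
    have hproj : Function.Surjective ((MonoidHom.fst (P ⧸ H) (P ⧸ K)).comp f.range.subtype) := by
      intro q
      obtain ⟨w, rfl⟩ := QuotientGroup.mk'_surjective H q
      exact ⟨⟨f w, w, rfl⟩, rfl⟩
    have hni : ¬ Function.Injective ((MonoidHom.fst (P ⧸ H) (P ⧸ K)).comp f.range.subtype) := by
      intro hinj
      have hker : ∀ w ∈ H, w ∈ K := fun w hw => by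
        have := @hinj ⟨f w, w, rfl⟩ 1 (by
          show QuotientGroup.mk' H w = 1
          exact (QuotientGroup.eq_one_iff w).2 hw)
        have h2 := congrArg (fun q : f.range => (q : (P ⧸ H) × (P ⧸ K)).2) this
        exact (QuotientGroup.eq_one_iff w).1 h2
      exact hkH (by
        have : H = K := by
          rcases (show H ≤ K from hker).eq_or_lt with h | h
          · exact h
          · exact absurd (hH.2 K h) hK.1
        rw [this]; exact hkK)
    have := Nat.card_le_card_of_surjective _ hproj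
    rw [hcH] at this
    have heq : Nat.card f.range = Nat.card (P ⧸ H) := by rw [hcH]; omega
    exact hni ((Nat.bijective_iff_surjective_and_card _).2 ⟨hproj, heq⟩).1
  · refine Subtype.ext ?_
    obtain ⟨a', ha⟩ := QuotientGroup.mk'_surjective φ.ker a.1
    obtain ⟨b', hb⟩ := QuotientGroup.mk'_surjective φ.ker b.1
    simp only [Subgroup.coe_mul, ← ha, ← hb, QuotientGroup.mk'_apply, ← QuotientGroup.mk_mul]
    rw [QuotientGroup.eq, MonoidHom.mem_ker]
    simp only [map_mul, map_inv, _root_.mul_inv_rev]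
    have hc : ∀ q r : (P ⧸ H) × (P ⧸ K), q * r = r * q := fun q r =>
      Prod.ext (IsCyclic.isMulCommutative.is_comm.comm _ _) (IsCyclic.isMulCommutative.is_comm.comm _ _)
    rw [hc (φ b') (φ a')]
    group
  · obtain ⟨a', rfl⟩ := QuotientGroup.mk'_surjective φ.ker a
    rw [← map_pow, QuotientGroup.mk'_apply, QuotientGroup.eq_one_iff, MonoidHom.mem_ker, map_pow]
    exact hpow _

/-- The defect group of a block of the alternating group contains a large elementary subgroup. -/
theorem coreWeight_le_alt [hp : Fact p.Prime] [Nontrivial ι] {M : Ideal AlgInt}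
    (hM : IsPModular p M) {b : Set (IrrCharacter (alternatingGroup ι))} (hb : IsPBlock M b)
    {D : Subgroup (alternatingGroup ι)} (hD : IsDefectGroup p M b D) {s : ℕ}
    (hs : SectionalPRankLE p s D) {θ : IrrCharacter (alternatingGroup ι)} (hθ : θ ∈ b)
    {χ : IrrCharacter (Equiv.Perm ι)}
    (hne : classInner (fun a : alternatingGroup ι => (χ : Equiv.Perm ι → ℂ) a)
      (θ : alternatingGroup ι → ℂ) ≠ 0)
    {α : Fin N → ℕ} (hα : α ∈ monos N (Fintype.card ι)) {e : ℤ} (he : e = 1 ∨ e = -1)
    (hv : ∀ σ, (χ : Equiv.Perm ι → ℂ) σ = (e : ℂ) * (fchar α σ : ℂ)) :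
    (p ≠ 2 → coreWeight p α ≤ s) ∧ coreWeight p α ≤ s + 1 := by
  have hp0 := hp.out
  have := isPrime_of_pmodular hM
  obtain ⟨hsum, hmono⟩ := mem_monos.1 hα
  set w := coreWeight p α
  have hw : p * w ≤ Fintype.card ι := mul_coreWeight_le hp0.pos hmono.injective (mem_tuples.2 hsum)
  set m := Fintype.card ι - p * w with hm
  let ee : (Fin w × Fin p) ⊕ Fin m ≃ ι := Fintype.equivOfCardEq (by
    simp only [Fintype.card_sum, Fintype.card_prod, Fintype.card_fin]
    rw [mul_comm w p]
    omega)
  set x := ee.permCongr (cyclesElt p w m) with hxdef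
  have hx : x ^ p = 1 := by
    show (ee.permCongrHom (cyclesElt p w m)) ^ p = 1
    rw [← map_pow, cyclesElt_pow_eq_one hp0.pos, map_one]
  have hxne : (χ : Equiv.Perm ι → ℂ) x ≠ 0 := by
    rw [hv, hxdef, fchar_permCongr]
    obtain ⟨Q, hQ, hval⟩ := exists_fchar_cyclesElt hp0.pos m w α hmono.injective rfl
    have hcs : coreBead p α ∈ tuples N (Fintype.card (Fin m)) := by
      have := sum_eq_sum_core (p := p) hmono.injective
      rw [mem_tuples, Fintype.card_fin, hm]
      change ∑ i, α i = ∑ i, coreBead p α i + p * w at this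
      omega
    rw [hval]
    refine mul_ne_zero (by rcases he with rfl | rfl <;> simp) ?_
    exact_mod_cast mul_ne_zero (by omega : (Q : ℤ) ≠ 0)
      (fchar_one_ne_zero (coreBead_injective hp0.pos hmono.injective) hcs)
  have hB := isPBlock_blockOf (M := M) χ
  have hχ := mem_blockOf_self (M := M) χ
  obtain ⟨E, hE, hle⟩ := exists_defect_ge hM hB hx hχ hxne
  set D' : Subgroup (Equiv.Perm ι) := D.map (alternatingGroup ι).subtype with hD'
  have hD'le : D' ≤ alternatingGroup ι := Subgroup.map_subtype_le D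
  have hDeq : D'.subgroupOf (alternatingGroup ι) = D :=
    Subgroup.comap_map_eq_self_of_injective (Subgroup.subtype_injective _) D
  obtain ⟨P, hP, hPD⟩ := CfsgLib.BlockA.exists_defect_inf_eq hM hb hB hχ hθ hne hD'le
    (by rw [hDeq]; exact hD)
  obtain ⟨g, hg⟩ := defectGroup_exists_conj hM hB hP hE
  set F := orbitCen x ⊓ alternatingGroup ι
  have hFD : F.map (MulAut.conj g⁻¹).toMonoidHom ≤ D' := by
    rw [← hPD]
    rintro _ ⟨σ, ⟨hσ, hσA⟩, rfl⟩
    refine ⟨?_, (alternatingGroup.normal (α := ι)).conj_mem σ hσA g⁻¹⟩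
    have h := hle hσ
    rw [hg] at h
    obtain ⟨d, hd, rfl⟩ := h
    simpa [mul_assoc] using hd
  let A : Subgroup D := ((F.map (MulAut.conj g⁻¹).toMonoidHom).subgroupOf
    (alternatingGroup ι)).subgroupOf D
  have hle2 : (F.map (MulAut.conj g⁻¹).toMonoidHom).subgroupOf (alternatingGroup ι) ≤ D := by
    rw [← hDeq]
    exact Subgroup.comap_mono hFD
  have hA := natCard_le_of_sectionalPRankLE (p := p) hs A (fun a ha b hb => ?_) fun a ha => ?_
  · rw [Nat.card_congr (Subgroup.subgroupOfEquivOfLe hle2).toEquiv,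
      Nat.card_congr (Subgroup.subgroupOfEquivOfLe (hFD.trans hD'le)).toEquiv,
      ← Nat.card_congr (F.equivMapOfInjective _ (MulAut.conj g⁻¹).injective).toEquiv] at hA
    have hbig := (natCard_orbitCen_cyclesElt hp0.pos w m).trans (orbitCen_permCongr_card ee _)
    refine ⟨fun hp2 => ?_, ?_⟩
    · have hall : orbitCen x ≤ alternatingGroup ι := by
        intro σ hσ
        have h1 := orbitCen_pow_eq_one hx hσ
        obtain ⟨k, hk⟩ := hp0.odd_of_ne_two hp2
        rw [Equiv.Perm.mem_alternatingGroup]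
        have h2 := congrArg Equiv.Perm.sign h1
        rw [map_pow, map_one, hk, pow_succ, pow_mul, Int.units_sq, one_pow, one_mul] at h2
        exact h2
      rw [show F = orbitCen x from inf_eq_left.2 hall] at hA
      exact (Nat.pow_le_pow_iff_right hp0.one_lt).1 (hbig.trans hA)
    · have h2 : Nat.card (orbitCen x) ≤ Nat.card F * 2 := by
        have hk := Subgroup.card_eq_card_quotient_mul_card_subgroup
          ((Equiv.Perm.sign.comp (orbitCen x).subtype).ker)
        have hq : Nat.card (orbitCen x ⧸ (Equiv.Perm.sign.comp (orbitCen x).subtype).ker) ≤ 2 := by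
          rw [Nat.card_congr (QuotientGroup.quotientKerEquivRange _).toEquiv]
          refine (Finite.card_subtype_le _).trans ?_
          simp
        have hker : Nat.card (Equiv.Perm.sign.comp (orbitCen x).subtype).ker ≤ Nat.card F := by
          refine Nat.card_le_card_of_injective (fun σ => ⟨σ.1.1, σ.1.2,
            Equiv.Perm.mem_alternatingGroup.2 σ.2⟩) fun a b h => ?_
          exact Subtype.ext (Subtype.ext (by simpa using congrArg Subtype.val h))
        rw [hk, mul_comm]
        exact Nat.mul_le_mul hker hq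
      have h3 : p ^ w ≤ p ^ (s + 1) := by
        calc p ^ w ≤ Nat.card F * 2 := hbig.trans h2
          _ ≤ p ^ s * p := Nat.mul_le_mul hA hp0.two_le
          _ = _ := (pow_succ p s).symm
      exact (Nat.pow_le_pow_iff_right hp0.one_lt).1 h3
  · obtain ⟨a', ⟨ha', -⟩, ha⟩ := Subgroup.mem_subgroupOf.1 (Subgroup.mem_subgroupOf.1 ha)
    obtain ⟨b', ⟨hb', -⟩, hb⟩ := Subgroup.mem_subgroupOf.1 (Subgroup.mem_subgroupOf.1 hb)
    refine Subtype.ext (Subtype.ext ?_)
    simp only [Subgroup.coe_mul, ← ha, ← hb, ← map_mul, orbitCen_comm ha' hb']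
  · obtain ⟨a', ⟨ha', -⟩, ha⟩ := Subgroup.mem_subgroupOf.1 (Subgroup.mem_subgroupOf.1 ha)
    refine Subtype.ext (Subtype.ext ?_)
    rw [SubgroupClass.coe_pow, SubgroupClass.coe_pow, ← ha, ← map_pow,
      orbitCen_pow_eq_one hx ha', map_one]
    rfl

/-- **Blocks of alternating groups have fewer Brauer characters than `p` to the sectional
rank.** -/
theorem blockRank_alt_lt_pow [hp : Fact p.Prime] {M : Ideal AlgInt} (hM : IsPModular p M)
    {b : Set (IrrCharacter (alternatingGroup ι))} (hb : IsPBlock M b)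
    {D : Subgroup (alternatingGroup ι)} (hD : IsDefectGroup p M b D) (hD1 : D ≠ ⊥) {s : ℕ}
    (hs : SectionalPRankLE p s D) : blockRank p b < p ^ s := by
  have hp0 := hp.out
  have := isPrime_of_pmodular hM
  have hDp : IsPGroup p D := by
    obtain ⟨g, -, P, rfl⟩ := hD
    exact P.isPGroup'.map _
  have hnt : Nontrivial D := (Subgroup.nontrivial_iff_ne_bot D).2 hD1
  obtain ⟨k, hk⟩ := IsPGroup.iff_card.1 hDp
  have hk0 : k ≠ 0 := fun h => by
    rw [h, pow_zero] at hk
    exact (Finite.one_lt_card (α := D)).ne' hk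
  have hs1 : 1 ≤ s := by
    obtain ⟨z, hz⟩ := exists_prime_orderOf_dvd_card' (G := D) p (hk ▸ dvd_pow_self p hk0)
    have h := natCard_le_of_sectionalPRankLE hs (Subgroup.zpowers z)
      (fun a ha b hb => by
        obtain ⟨i, rfl⟩ := ha
        obtain ⟨j, rfl⟩ := hb
        exact Commute.zpow_zpow_self z i j)
      (fun a ha => by
        obtain ⟨i, rfl⟩ := ha
        rw [← zpow_natCast (z ^ i), ← zpow_mul, mul_comm, zpow_mul, zpow_natCast, ← hz,
          pow_orderOf_eq_one, one_zpow])
    rw [Nat.card_zpowers, hz] at h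
    by_contra hlt
    rw [show s = 0 by omega, pow_zero] at h
    exact absurd h (not_le.2 hp0.one_lt)
  rcases Nat.lt_or_ge s 2 with hs2 | hs2
  · obtain rfl : s = 1 := by omega
    have hcyc := isCyclic_of_sectionalPRankLE_one hDp hs
    have := Fintype.ofFinite (alternatingGroup ι)
    obtain ⟨g, hg⟩ := IsCyclic.exists_generator (α := D)
    obtain ⟨e, hmax⟩ := CfsgLib.BlockA.DefectOneStar.exists_maximal_pair hM hb hD
    let S : CycBlock (alternatingGroup ι) p M := ⟨hM, b, D, e, hmax, g,
      le_antisymm (Subgroup.zpowers_le.2 g.2) fun x hx => by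
        obtain ⟨i, hi⟩ := Subgroup.mem_zpowers_iff.1 (hg ⟨x, hx⟩)
        exact Subgroup.mem_zpowers_iff.2 ⟨i, by rw [← Subgroup.coe_zpow, hi]⟩,
      k, Nat.one_le_iff_ne_zero.2 hk0,
      by rw [Subgroup.orderOf_coe, orderOf_eq_card_of_forall_mem_zpowers hg, hk]⟩
    have h1 : blockRank p b = S.e := S.blockRank_eq
    have h2 := Nat.le_of_dvd (by have := hp0.two_le; omega) S.e_dvd
    rw [h1, pow_one]
    have := hp0.two_le
    omega
  have hnt' : Nontrivial ι := by
    by_contra hno
    rw [not_nontrivial_iff_subsingleton] at hno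
    have : Subsingleton (alternatingGroup ι) := inferInstance
    exact not_subsingleton D inferInstance
  set N := p * Fintype.card ι with hN
  have hcard : Fintype.card ι ≤ N := Nat.le_mul_of_pos_left _ hp0.pos
  obtain ⟨θ₀, hθ₀⟩ := isPBlock_nonempty hb
  obtain ⟨χ₀, hne₀⟩ := exists_over_constituent θ₀
  obtain ⟨c, hBc, -, -, -⟩ := subset_coreSet (N := N) hM hcard (isPBlock_blockOf (M := M) χ₀)
  obtain ⟨α, hα, hc, e, he, hv⟩ := hBc (mem_blockOf_self χ₀)
  obtain ⟨hw1, hw2⟩ := coreWeight_le_alt hM hb hD hs hθ₀ hne₀ hα he hv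
  obtain ⟨hsum, hmono⟩ := mem_monos.1 hα
  have hwt : ∀ β : Fin N → ℕ, β ∈ monos N (Fintype.card ι) → resCount p β = c →
      coreWeight p β = coreWeight p α := fun β hβ hβc => by
    obtain ⟨hβs, hβmono⟩ := mem_monos.1 hβ
    exact coreWeight_eq_of_resCount hp0.pos hβmono.injective hmono.injective (hβc.trans hc.symm)
      (hβs.trans hsum.symm)
  refine (blockRank_alt_le hM hcard c hBc fun θ hθ => ?_).trans_lt
    (card_add_card_lt (L := 2 * Fintype.card ι) (by rw [hN]; ring) c
      (fun β hβ => hwt β (mem_goodSet.1 hβ).1 (mem_goodSet.1 hβ).2.1)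
      (fun β hβ => hwt β (mem_selfSet.1 hβ).1 (mem_selfSet.1 hβ).2.1) hs2 hw1 hw2)
  obtain ⟨χ, hne⟩ := exists_over_constituent θ
  exact exists_mem_block_over hM hb hθ₀ hθ hne₀ hne

end CfsgLib.BlockA.SymBlock
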