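import Cfsg.Agent.Lib.BlockB.Psi
import Cfsg.Agent.Lib.Char.Inner
import Mathlib.GroupTheory.GroupAction.MultipleTransitivity
import Mathlib.GroupTheory.Perm.Cycle.Type
import Mathlib.Data.Sym.Sym2
import Mathlib.Data.Fin.VecNotation

/-! Three small irreducible characters of the symmetric groups which stay irreducible on the
alternating groups, and their zeros at 2-elements and at elements of order 3. -/

set_option autoImplicit false
set_option linter.unusedSectionVars false
set_option maxHeartbeats 1000000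

namespace CfsgLib.BlockA.AltVanishing

open Equiv Finset

variable {n : ℕ}

/-- The fixed points. -/
abbrev Fix (s : Perm (Fin n)) := {i : Fin n // s i = i}

/-- The ordered transposed pairs. -/
abbrev SP (s : Perm (Fin n)) := {P : Fin n × Fin n // P.1 ≠ P.2 ∧ s P.1 = P.2 ∧ s P.2 = P.1}

/-- The number of fixed points. -/
def fixN (s : Perm (Fin n)) : ℕ := Fintype.card (Fix s)

/-- The number of ordered transposed pairs. -/
def swapN (s : Perm (Fin n)) : ℕ := Fintype.card (SP s)

/-- The embeddings on which `s` acts as `π`. -/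
abbrev Pat (j : ℕ) (π : Fin j → Fin j) (s : Perm (Fin n)) :=
  {x : Fin j ↪ Fin n // ∀ i, s (x i) = x (π i)}

theorem inj_vec3 {α : Type*} {u v c : α} (h1 : u ≠ v) (h2 : u ≠ c) (h3 : v ≠ c) :
    Function.Injective ![u, v, c] := by
  intro i j h
  fin_cases i <;> fin_cases j <;>
    first | rfl | exact absurd h h1 | exact absurd h.symm h1 | exact absurd h h2 |
      exact absurd h.symm h2 | exact absurd h h3 | exact absurd h.symm h3

theorem inj_vec4 {α : Type*} {u v c d : α} (h1 : u ≠ v) (h2 : u ≠ c) (h3 : u ≠ d) (h4 : v ≠ c)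
    (h5 : v ≠ d) (h6 : c ≠ d) : Function.Injective ![u, v, c, d] := by
  intro i j h
  fin_cases i <;> fin_cases j <;>
    first | rfl | exact absurd h h1 | exact absurd h.symm h1 | exact absurd h h2 |
      exact absurd h.symm h2 | exact absurd h h3 | exact absurd h.symm h3 | exact absurd h h4 |
      exact absurd h.symm h4 | exact absurd h h5 | exact absurd h.symm h5 | exact absurd h h6 |
      exact absurd h.symm h6

/-- A fixed point is not in a transposed pair. -/
theorem sp_ne_fix {s : Perm (Fin n)} (P : SP s) (c : Fix s) : P.1.1 ≠ c.1 ∧ P.1.2 ≠ c.1 :=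
  ⟨fun h => P.2.1 (by rw [← P.2.2.1, h, c.2]), fun h => P.2.1 (by rw [← P.2.2.2, h, c.2])⟩

theorem card_pat_id (j : ℕ) (s : Perm (Fin n)) :
    Fintype.card (Pat j id s) = (fixN s).descFactorial j := by
  have e : Pat j id s ≃ (Fin j ↪ Fix s) :=
    { toFun := fun x => ⟨fun i => ⟨x.1 i, x.2 i⟩, fun a b h => x.1.injective (congrArg Subtype.val h)⟩
      invFun := fun y => ⟨y.trans (Function.Embedding.subtype _), fun i => (y i).2⟩
      left_inv := fun x => by ext i; rfl
      right_inv := fun y => by ext i; rfl }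
  rw [Fintype.card_congr e, Fintype.card_embedding_eq, Fintype.card_fin, fixN]

theorem card_pat_swap (s : Perm (Fin n)) :
    Fintype.card (Pat 2 ![1, 0] s) = swapN s := by
  refine Fintype.card_congr
    { toFun := fun x => ⟨(x.1 0, x.1 1), fun h => absurd (x.1.injective h) (by decide),
        by simpa using x.2 0, by simpa using x.2 1⟩
      invFun := fun P => ⟨⟨![P.1.1, P.1.2], fun a b h => by
          have := P.2.1
          fin_cases a <;> fin_cases b <;> simp_all⟩, fun i => by
        have h1 := P.2.2.1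
        have h2 := P.2.2.2
        fin_cases i <;> first | exact h1 | exact h2⟩
      left_inv := fun x => by ext i; fin_cases i <;> rfl
      right_inv := fun P => rfl }

theorem card_pat_swap_fix (s : Perm (Fin n)) :
    Fintype.card (Pat 3 ![1, 0, 2] s) = swapN s * fixN s := by
  rw [swapN, fixN, ← Fintype.card_prod]
  refine Fintype.card_congr
    { toFun := fun x => (⟨(x.1 0, x.1 1), fun h => absurd (x.1.injective h) (by decide),
        by simpa using x.2 0, by simpa using x.2 1⟩, ⟨x.1 2, by simpa using x.2 2⟩)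
      invFun := fun y => ⟨⟨![y.1.1.1, y.1.1.2, y.2.1],
          inj_vec3 y.1.2.1 (sp_ne_fix y.1 y.2).1 (sp_ne_fix y.1 y.2).2⟩, fun i => by
        obtain ⟨⟨⟨u, v⟩, h0, h1, h2⟩, c, hc⟩ := y
        fin_cases i <;> first | exact h1 | exact h2 | exact hc⟩
      left_inv := fun x => by ext i; fin_cases i <;> rfl
      right_inv := fun y => rfl }

theorem card_pat_swap_fix₂ (s : Perm (Fin n)) :
    Fintype.card (Pat 4 ![1, 0, 2, 3] s) = swapN s * (fixN s).descFactorial 2 := by
  rw [swapN, fixN, show (Fintype.card (Fix s)).descFactorial 2 = Fintype.card (Fin 2 ↪ Fix s) by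
    rw [Fintype.card_embedding_eq, Fintype.card_fin], ← Fintype.card_prod]
  refine Fintype.card_congr
    { toFun := fun x => (⟨(x.1 0, x.1 1), fun h => absurd (x.1.injective h) (by decide),
        by simpa using x.2 0, by simpa using x.2 1⟩,
        ⟨![⟨x.1 2, by simpa using x.2 2⟩, ⟨x.1 3, by simpa using x.2 3⟩], fun a b h => by
          have h0 : x.1 2 ≠ x.1 3 := fun e => absurd (x.1.injective e) (by decide)
          fin_cases a <;> fin_cases b <;> first | rfl | exact absurd (congrArg Subtype.val h) h0 |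
            exact absurd (congrArg Subtype.val h).symm h0⟩)
      invFun := fun y => ⟨⟨![y.1.1.1, y.1.1.2, (y.2 0).1, (y.2 1).1],
          inj_vec4 y.1.2.1 (sp_ne_fix y.1 (y.2 0)).1 (sp_ne_fix y.1 (y.2 1)).1
            (sp_ne_fix y.1 (y.2 0)).2 (sp_ne_fix y.1 (y.2 1)).2
            fun q => absurd (y.2.injective (Subtype.ext q)) (by decide)⟩, fun i => by
        obtain ⟨⟨⟨u, v⟩, h0, h1, h2⟩, e⟩ := y
        have hc := (e 0).2
        have hd := (e 1).2
        fin_cases i <;> first | exact h1 | exact h2 | exact hc | exact hd⟩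
      left_inv := fun x => by ext i; fin_cases i <;> rfl
      right_inv := fun y => by
        refine Prod.ext rfl ?_
        ext i
        fin_cases i <;> rfl }

/-- The reversed pair. -/
def rev {s : Perm (Fin n)} (P : SP s) : SP s :=
  ⟨(P.1.2, P.1.1), P.2.1.symm, P.2.2.2, P.2.2.1⟩

theorem card_pat_swap₂ (s : Perm (Fin n)) :
    Fintype.card (Pat 4 ![1, 0, 3, 2] s) = swapN s * (swapN s - 2) := by
  have hc : ∀ P : SP s, Fintype.card {Q : SP s // Q ≠ P ∧ Q ≠ rev P} = swapN s - 2 := fun P => by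
    have hne : P ≠ rev P := fun h => P.2.1 (congrArg (fun Q : SP s => Q.1.1) h)
    rw [Fintype.card_subtype, swapN, ← Finset.card_pair hne, ← Finset.card_compl]
    congr 1
    ext Q
    simp
  have e : Pat 4 ![1, 0, 3, 2] s ≃ Σ P : SP s, {Q : SP s // Q ≠ P ∧ Q ≠ rev P} :=
    { toFun := fun x => ⟨⟨(x.1 0, x.1 1), fun h => absurd (x.1.injective h) (by decide),
          by simpa using x.2 0, by simpa using x.2 1⟩,
        ⟨⟨(x.1 2, x.1 3), fun h => absurd (x.1.injective h) (by decide),
          by simpa using x.2 2, by simpa using x.2 3⟩,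
          fun h => absurd (x.1.injective (congrArg (fun Q : SP s => Q.1.1) h)) (by decide),
          fun h => absurd (x.1.injective (congrArg (fun Q : SP s => Q.1.1) h)) (by decide)⟩⟩
      invFun := fun y => ⟨⟨![y.1.1.1, y.1.1.2, y.2.1.1.1, y.2.1.1.2], by
          obtain ⟨⟨⟨u, v⟩, h0, h1, h2⟩, ⟨⟨u', v'⟩, g0, g1, g2⟩, hP, hR⟩ := y
          dsimp only at h0 h1 h2 g0 g1 g2
          simp only [ne_eq, Subtype.ext_iff, rev, Prod.mk.injEq] at hP hR
          have k1 : u' ≠ u := fun e => hP ⟨e, by rw [← g1, ← h1, e]⟩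
          have k2 : u' ≠ v := fun e => hR ⟨e, by rw [← g1, ← h2, e]⟩
          have k3 : v' ≠ u := fun e => k2 (by rw [← g2, ← h1, e])
          have k4 : v' ≠ v := fun e => k1 (by rw [← g2, ← h2, e])
          exact inj_vec4 h0 k1.symm k3.symm k2.symm k4.symm g0⟩, fun i => by
        obtain ⟨⟨⟨u, v⟩, h0, h1, h2⟩, ⟨⟨u', v'⟩, g0, g1, g2⟩, hP, hR⟩ := y
        fin_cases i <;> first | exact h1 | exact h2 | exact g1 | exact g2⟩
      left_inv := fun x => by ext i; fin_cases i <;> rfl
      right_inv := fun y => rfl }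
  rw [Fintype.card_congr e, Fintype.card_sigma, Finset.sum_congr rfl (fun P _ => hc P),
    Finset.sum_const, Finset.card_univ, smul_eq_mul, swapN]

variable {G : Type*} [Group G] [Fintype G] (a : G →* Perm (Fin n))
  (ha : ∀ j ≤ 4, ∀ x y : Fin j ↪ Fin n, ∃ g, ∀ i, a g (x i) = y i)

include ha in
/-- Transitivity counts every pattern once on average. -/
theorem sum_card_pat {j : ℕ} (hj : j ≤ 4) (hjn : j ≤ n) (π : Perm (Fin j)) :
    ∑ g : G, Fintype.card (Pat j π (a g)) = Fintype.card G := by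
  classical
  set c := fun x y : Fin j ↪ Fin n => (univ.filter fun g : G => ∀ i, a g (x i) = y i).card with hc
  obtain ⟨x₀⟩ : Nonempty (Fin j ↪ Fin n) := ⟨Fin.castLEEmb hjn⟩
  have hxy : ∀ x y, c x y = c x₀ x₀ := fun x y => by
    obtain ⟨h, hh⟩ := ha j hj x₀ x
    obtain ⟨h', hh'⟩ := ha j hj y x₀
    refine Finset.card_equiv ((Equiv.mulLeft h').trans (Equiv.mulRight h)) fun g => ?_
    simp only [mem_filter, mem_univ, true_and, Equiv.trans_apply, Equiv.coe_mulLeft,
      Equiv.coe_mulRight, map_mul, Perm.mul_apply, hh]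
    exact ⟨fun hg i => by rw [hg i, hh'], fun hg i => (a h').injective (by rw [hg i, hh'])⟩
  have htot : Fintype.card (Fin j ↪ Fin n) * c x₀ x₀ = Fintype.card G := by
    rw [← Finset.card_univ (α := Fin j ↪ Fin n), ← smul_eq_mul, ← Finset.sum_const,
      ← Finset.sum_congr rfl (fun y _ => hxy x₀ y), ← Finset.card_univ (α := G)]
    let F : G → (Fin j ↪ Fin n) := fun g => x₀.trans (a g).toEmbedding
    rw [Finset.card_eq_sum_card_fiberwise (s := (univ : Finset G)) (f := F) (t := univ)
      (fun _ _ => mem_univ _)]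
    refine Finset.sum_congr rfl fun y _ => congrArg Finset.card ?_
    ext g
    simp [F, Function.Embedding.ext_iff]
  have h1 : ∀ g : G, Fintype.card (Pat j π (a g)) =
      ∑ x : Fin j ↪ Fin n, if ∀ i, a g (x i) = x (π i) then 1 else 0 := fun g => by
    rw [Fintype.card_subtype, Finset.card_filter]
  rw [Finset.sum_congr rfl (fun g _ => h1 g), Finset.sum_comm, ← htot]
  rw [← Finset.card_univ (α := Fin j ↪ Fin n), ← smul_eq_mul, ← Finset.sum_const]
  refine Finset.sum_congr rfl fun x _ => ?_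
  rw [← Finset.card_filter, ← hxy x ((π : Perm (Fin j)).toEmbedding.trans x)]
  rfl

/-- Standard character. -/
noncomputable def std (s : Perm (Fin n)) : ℂ := (fixN s : ℂ) - 1

/-- The character of `(n-2, 2)`. -/
noncomputable def chi22 (s : Perm (Fin n)) : ℂ :=
  ((fixN s : ℂ) * (fixN s : ℂ) - 3 * (fixN s : ℂ) + (swapN s : ℂ)) / 2

/-- The character of `(n-2, 1, 1)`. -/
noncomputable def chi211 (s : Perm (Fin n)) : ℂ :=
  ((fixN s : ℂ) * (fixN s : ℂ) - 3 * (fixN s : ℂ) + 2 - (swapN s : ℂ)) / 2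

/-- The fixed points on unordered pairs. -/
noncomputable def symN (s : Perm (Fin n)) : ℂ :=
  (Nat.card {z : Sym2 (Fin n) // Sym2.map s z = z} : ℂ)

theorem two_symN (s : Perm (Fin n)) :
    2 * symN s = (fixN s : ℂ) * (fixN s : ℂ) + (fixN s : ℂ) + (swapN s : ℂ) := by
  classical
  let C : Fin n × Fin n → Prop := fun P => Sym2.map s s(P.1, P.2) = s(P.1, P.2)
  have hiff : ∀ P, C P ↔ (s P.1 = P.1 ∧ s P.2 = P.2) ∨ (P.1 ≠ P.2 ∧ s P.1 = P.2 ∧ s P.2 = P.1) := by
    intro P
    simp only [C, Sym2.map_mk, Sym2.eq_iff]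
    constructor
    · rintro (h | ⟨h1, h2⟩)
      · exact Or.inl h
      · by_cases he : P.1 = P.2
        · exact Or.inl ⟨he ▸ h1, he ▸ h2⟩
        · exact Or.inr ⟨he, h1, h2⟩
    · rintro (h | ⟨-, h⟩)
      · exact Or.inl h
      · exact Or.inr h
  set A := (univ : Finset (Fin n × Fin n)).filter C with hA
  have hAc : A.card = fixN s * fixN s + swapN s := by
    rw [hA, Finset.filter_congr (fun P _ => hiff P), Finset.filter_or, Finset.card_union_of_disjoint,
      fixN, swapN, ← Fintype.card_prod, Fintype.card_subtype (fun P : Fin n × Fin n => _ ∧ _)]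
    · congr 1
      refine (Fintype.card_subtype _).symm.trans (Fintype.card_congr ?_)
      exact Equiv.subtypeProdEquivProd (p := fun i => s i = i) (q := fun i => s i = i)
    · refine Finset.disjoint_filter.2 fun P _ h h' => h'.1 ?_
      rw [← h.1, h'.2.1]
  set U := A.filter fun P => P.1 ≤ P.2 with hU
  set L := A.filter fun P => P.1 < P.2 with hL
  set Dg := A.filter fun P => P.1 = P.2 with hDg
  have hDc : Dg.card = fixN s := by
    rw [fixN, ← Finset.card_univ (α := Fix s)]
    refine Finset.card_bij' (fun P h => ⟨P.1, ?_⟩) (fun i _ => (i.1, i.1)) ?_ ?_ ?_ ?_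
    · simp only [hDg, hA, mem_filter, hiff] at h
      obtain ⟨⟨-, h1 | h1⟩, h2⟩ := h
      · exact h1.1
      · exact absurd h2 h1.1
    · exact fun _ _ => mem_univ _
    · intro i _
      simp [hDg, hA, hiff, i.2]
    · intro P h
      simp only [hDg, mem_filter] at h
      exact Prod.ext rfl h.2
    · exact fun i _ => rfl
  have hsym : ∀ P, P ∈ A ↔ P.swap ∈ A := fun P => by
    simp only [hA, mem_filter, mem_univ, true_and, C, Prod.fst_swap, Prod.snd_swap]
    rw [Sym2.eq_swap]
  have hUL : U.card = L.card + Dg.card := by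
    rw [← Finset.card_union_of_disjoint (Finset.disjoint_filter.2 fun P _ h h' => h.ne h')]
    congr 1
    ext P
    simp only [hU, hL, hDg, mem_filter, mem_union, le_iff_lt_or_eq, and_or_left]
  have hAL : A.card = L.card + L.card + Dg.card := by
    have h1 : L.card = (A.filter fun P => P.2 < P.1).card := by
      refine Finset.card_equiv (Equiv.prodComm _ _) fun P => ?_
      simp only [hL, mem_filter, Equiv.prodComm_apply, Prod.snd_swap, Prod.fst_swap]
      rw [hsym P]
    nth_rewrite 2 [h1]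
    rw [← Finset.card_union_of_disjoint (Finset.disjoint_filter.2 fun P _ h h' => lt_asymm h h'),
      ← Finset.card_union_of_disjoint]
    · congr 1
      ext P
      simp only [hL, hDg, mem_filter, mem_union]
      constructor
      · intro h
        rcases lt_trichotomy P.1 P.2 with h' | h' | h'
        · exact Or.inl (Or.inl ⟨h, h'⟩)
        · exact Or.inr ⟨h, h'⟩
        · exact Or.inl (Or.inr ⟨h, h'⟩)
      · rintro ((h | h) | h) <;> exact h.1
    · rw [Finset.disjoint_left]
      intro P h h'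
      simp only [hL, hDg, mem_filter, mem_union] at h h'
      rcases h with h | h
      · exact h.2.ne h'.2
      · exact h.2.ne' h'.2
  have hV : Nat.card {z : Sym2 (Fin n) // Sym2.map s z = z} = U.card := by
    rw [Nat.card_eq_fintype_card, Fintype.card_subtype, eq_comm]
    refine Finset.card_bij (fun P _ => s(P.1, P.2)) ?_ ?_ ?_
    · intro P h
      simp only [hU, hA, mem_filter] at h ⊢
      exact ⟨mem_univ _, h.1.2⟩
    · intro P hP Q hQ h
      simp only [hU, mem_filter] at hP hQ
      rcases Sym2.eq_iff.1 h with ⟨h1, h2⟩ | ⟨h1, h2⟩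
      · exact Prod.ext h1 h2
      · have hle : P.1 = P.2 := le_antisymm hP.2 (by rw [h1, h2]; exact hQ.2)
        exact Prod.ext (hle.trans h2) (hle.symm.trans h1)
    · intro z hz
      induction z using Sym2.ind with
      | _ x y =>
        simp only [mem_filter, mem_univ, true_and] at hz
        rcases le_total x y with h | h
        · refine ⟨(x, y), ?_, rfl⟩
          simp only [hU, hA, mem_filter, mem_univ, true_and, C]
          exact ⟨hz, h⟩
        · refine ⟨(y, x), ?_, Sym2.eq_swap⟩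
          simp only [hU, hA, mem_filter, mem_univ, true_and, C]
          exact ⟨by rw [Sym2.eq_swap]; exact hz, h⟩
  have h2 : 2 * U.card = fixN s * fixN s + swapN s + fixN s := by omega
  rw [symN, hV]
  have := congrArg (Nat.cast : ℕ → ℂ) h2
  push_cast at this
  rw [this]
  ring

theorem fixN_one : fixN (1 : Perm (Fin n)) = n := by
  rw [fixN, Fintype.card_subtype]; simp

theorem swapN_one : swapN (1 : Perm (Fin n)) = 0 := by
  rw [swapN, Fintype.card_eq_zero_iff]
  exact ⟨fun P => P.2.1 P.2.2.1⟩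

theorem isGeneralized_fix : Cfsg.IsGeneralizedCharacter G (fun g => (fixN (a g) : ℂ)) := by
  have h := CfsgLib.BlockB.Psi.isCharacter_fixCount a
  simp only [Nat.card_eq_fintype_card] at h
  exact CfsgLib.Char.isGeneralized_of_isCharacter h

/-- The action on unordered pairs. -/
def symHom : Perm (Fin n) →* Perm (Sym2 (Fin n)) where
  toFun s := ⟨Sym2.map s, Sym2.map s.symm, fun z => by rw [Sym2.map_map]; simp,
    fun z => by rw [Sym2.map_map]; simp⟩
  map_one' := by ext z; simp
  map_mul' s t := Equiv.ext fun z => by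
    show Sym2.map (s * t) z = Sym2.map s (Sym2.map t z)
    rw [Sym2.map_map]
    rfl

theorem isGeneralized_sym : Cfsg.IsGeneralizedCharacter G (fun g => symN (a g)) :=
  CfsgLib.Char.isGeneralized_of_isCharacter (CfsgLib.BlockB.Psi.isCharacter_fixCount (symHom.comp a))

theorem isGeneralized_std : Cfsg.IsGeneralizedCharacter G (fun g => std (a g)) :=
  CfsgLib.Char.isGeneralized_sub (isGeneralized_fix a)
    (CfsgLib.Char.isGeneralized_of_isCharacter (CfsgLib.Char.irr_isCharacter
      CfsgLib.Char.isIrrCharacter_one))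

theorem isGeneralized_chi22 : Cfsg.IsGeneralizedCharacter G (fun g => chi22 (a g)) := by
  have h := CfsgLib.Char.isGeneralized_sub
    (CfsgLib.Char.isGeneralized_sub (isGeneralized_sym a) (isGeneralized_fix a)) (isGeneralized_fix a)
  convert h using 1
  funext g
  simp only [Pi.sub_apply, chi22]
  linear_combination (-1 / 2 : ℂ) * two_symN (a g)

theorem isGeneralized_chi211 : Cfsg.IsGeneralizedCharacter G (fun g => chi211 (a g)) := by
  have h := CfsgLib.Char.isGeneralized_add (CfsgLib.Char.isGeneralized_sub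
    (CfsgLib.Char.isGeneralized_sub (CfsgLib.Char.isGeneralized_mul (isGeneralized_fix a)
      (isGeneralized_fix a)) (isGeneralized_sym a)) (isGeneralized_fix a))
    (CfsgLib.Char.isGeneralized_of_isCharacter (CfsgLib.Char.irr_isCharacter
      (CfsgLib.Char.isIrrCharacter_one (G := G))))
  convert h using 1
  funext g
  simp only [Pi.sub_apply, Pi.add_apply, Pi.mul_apply, chi211]
  linear_combination (1 / 2 : ℂ) * two_symN (a g)

theorem cast_desc (f k : ℕ) :
    ((f.descFactorial (k + 1) : ℕ) : ℂ) = ((f : ℂ) - k) * (f.descFactorial k : ℂ) := by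
  rw [Nat.descFactorial_succ, Nat.cast_mul]
  rcases le_total k f with h | h
  · rw [Nat.cast_sub h]
  · rcases h.eq_or_lt with rfl | h'
    · simp
    · rw [Nat.descFactorial_eq_zero_iff_lt.2 h']; simp

theorem cast_swap (D : ℕ) (hD : D ≠ 1) : ((D * (D - 2) : ℕ) : ℂ) = (D : ℂ) * ((D : ℂ) - 2) := by
  rcases Nat.eq_zero_or_pos D with rfl | hp
  · simp
  · rw [Nat.cast_mul, Nat.cast_sub (by omega)]; rfl

theorem swapN_ne_one (s : Perm (Fin n)) : swapN s ≠ 1 := fun h => by
  obtain ⟨P, hP⟩ := Fintype.card_eq_one_iff.1 h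
  exact P.2.1 (congrArg (fun Q : SP s => Q.1.1) (hP (rev P))).symm

variable (hn : 4 ≤ n)
include ha hn

theorem moment {j : ℕ} (π : Perm (Fin j)) (hj : j ≤ 4) (F : Perm (Fin n) → ℂ)
    (hF : ∀ s, (Fintype.card (Pat j π s) : ℂ) = F s) :
    ∑ g : G, F (a g) = (Fintype.card G : ℂ) := by
  rw [← sum_card_pat a ha hj (hj.trans hn) π, Nat.cast_sum]
  exact Finset.sum_congr rfl fun g _ => (hF _).symm

theorem moments :
    (∑ g : G, (fixN (a g) : ℂ) = Fintype.card G) ∧
    (∑ g : G, ((fixN (a g) : ℂ) - 1) * (fixN (a g) : ℂ) = Fintype.card G) ∧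
    (∑ g : G, ((fixN (a g) : ℂ) - 2) * (((fixN (a g) : ℂ) - 1) * (fixN (a g) : ℂ)) = Fintype.card G) ∧
    (∑ g : G, ((fixN (a g) : ℂ) - 3) * (((fixN (a g) : ℂ) - 2) *
      (((fixN (a g) : ℂ) - 1) * (fixN (a g) : ℂ))) = Fintype.card G) ∧
    (∑ g : G, (swapN (a g) : ℂ) = Fintype.card G) ∧
    (∑ g : G, (swapN (a g) : ℂ) * (fixN (a g) : ℂ) = Fintype.card G) ∧
    (∑ g : G, (swapN (a g) : ℂ) * (((fixN (a g) : ℂ) - 1) * (fixN (a g) : ℂ)) = Fintype.card G) ∧
    (∑ g : G, (swapN (a g) : ℂ) * ((swapN (a g) : ℂ) - 2) = Fintype.card G) := by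
  have d1 : ∀ f : ℕ, ((f.descFactorial 1 : ℕ) : ℂ) = f := fun f => by simp
  have d2 : ∀ f : ℕ, ((f.descFactorial 2 : ℕ) : ℂ) = ((f : ℂ) - 1) * f := fun f => by
    rw [cast_desc, d1]; simp
  have d3 : ∀ f : ℕ, ((f.descFactorial 3 : ℕ) : ℂ) = ((f : ℂ) - 2) * (((f : ℂ) - 1) * f) := fun f => by
    rw [cast_desc, d2]; simp
  have d4 : ∀ f : ℕ, ((f.descFactorial 4 : ℕ) : ℂ) =
      ((f : ℂ) - 3) * (((f : ℂ) - 2) * (((f : ℂ) - 1) * f)) := fun f => by
    rw [cast_desc, d3]; simp
  refine ⟨moment a ha hn (j := 1) 1 (by omega) (fun s => (fixN s : ℂ)) fun s => ?_,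
    moment a ha hn (j := 2) 1 (by omega) (fun s => ((fixN s : ℂ) - 1) * (fixN s : ℂ)) fun s => ?_,
    moment a ha hn (j := 3) 1 (by omega) (fun s => ((fixN s : ℂ) - 2) * (((fixN s : ℂ) - 1) * (fixN s : ℂ))) fun s => ?_,
    moment a ha hn (j := 4) 1 le_rfl (fun s => ((fixN s : ℂ) - 3) * (((fixN s : ℂ) - 2) *
      (((fixN s : ℂ) - 1) * (fixN s : ℂ)))) fun s => ?_,
    moment a ha hn (Equiv.swap (0 : Fin 2) 1) (by omega) (fun s => (swapN s : ℂ)) fun s => ?_,
    moment a ha hn (Equiv.swap (0 : Fin 3) 1) (by omega) (fun s => (swapN s : ℂ) * (fixN s : ℂ)) fun s => ?_,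
    moment a ha hn (Equiv.swap (0 : Fin 4) 1) le_rfl
      (fun s => (swapN s : ℂ) * (((fixN s : ℂ) - 1) * (fixN s : ℂ))) fun s => ?_,
    moment a ha hn (Equiv.swap (0 : Fin 4) 1 * Equiv.swap 2 3) le_rfl
      (fun s => (swapN s : ℂ) * ((swapN s : ℂ) - 2)) fun s => ?_⟩
  · rw [Perm.coe_one, card_pat_id, d1]
  · rw [Perm.coe_one, card_pat_id, d2]
  · rw [Perm.coe_one, card_pat_id, d3]
  · rw [Perm.coe_one, card_pat_id, d4]
  · rw [show ((Equiv.swap (0 : Fin 2) 1 : Perm (Fin 2)) : Fin 2 → Fin 2) = ![1, 0] by decide,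
      card_pat_swap]
  · rw [show ((Equiv.swap (0 : Fin 3) 1 : Perm (Fin 3)) : Fin 3 → Fin 3) = ![1, 0, 2] by decide,
      card_pat_swap_fix, Nat.cast_mul]
  · rw [show ((Equiv.swap (0 : Fin 4) 1 : Perm (Fin 4)) : Fin 4 → Fin 4) = ![1, 0, 2, 3] by decide,
      card_pat_swap_fix₂, Nat.cast_mul, d2]
  · rw [show ((Equiv.swap (0 : Fin 4) 1 * Equiv.swap 2 3 : Perm (Fin 4)) : Fin 4 → Fin 4) =
      ![1, 0, 3, 2] by decide, card_pat_swap₂, cast_swap _ (swapN_ne_one s)]

theorem isIrr_of_norm {χ : Perm (Fin n) → ℂ} (hgen : Cfsg.IsGeneralizedCharacter G (fun g => χ (a g)))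
    (hreal : ∀ s, starRingEnd ℂ (χ s) = χ s)
    (hsum : ∑ g : G, χ (a g) * χ (a g) = (Fintype.card G : ℂ)) (h1 : 0 < (χ 1).re) :
    Cfsg.IsIrrCharacter G (fun g => χ (a g)) := by
  have hn1 : Cfsg.classInner (fun g => χ (a g)) (fun g => χ (a g)) = 1 := by
    rw [CfsgLib.Char.classInner_def, Finset.sum_congr rfl (fun g _ => by rw [hreal]), hsum,
      Nat.card_eq_fintype_card, inv_mul_cancel₀ (Nat.cast_ne_zero.2 Fintype.card_ne_zero)]
  rcases CfsgLib.Char.isGeneralized_norm_one hgen hn1 with h | h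
  · exact h
  · obtain ⟨d, hd⟩ := CfsgLib.Char.char_apply_one_eq_nat (CfsgLib.Char.irr_isCharacter h)
    have := congrArg Complex.re hd
    simp only [Pi.neg_apply, map_one, Complex.neg_re, Complex.natCast_re] at this
    have hd0 : (0 : ℝ) ≤ (d : ℝ) := Nat.cast_nonneg d
    linarith

theorem isIrr_std : Cfsg.IsIrrCharacter G (fun g => std (a g)) := by
  obtain ⟨m1, m2, -⟩ := moments a ha hn
  refine isIrr_of_norm a ha hn (isGeneralized_std a) (fun s => by simp [std]) ?_ ?_
  · calc _ = ∑ g : G, (((fixN (a g) : ℂ) - 1) * (fixN (a g) : ℂ) - (fixN (a g) : ℂ) + 1) :=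
          Finset.sum_congr rfl fun g _ => by unfold std; ring
      _ = _ := by
        rw [Finset.sum_add_distrib, Finset.sum_sub_distrib, m1, m2, Finset.sum_const,
          Finset.card_univ, nsmul_eq_mul, mul_one, sub_self, zero_add]
  · simp only [std, fixN_one, Complex.sub_re, Complex.natCast_re, Complex.one_re]
    have : (4 : ℝ) ≤ n := by exact_mod_cast hn
    linarith

theorem isIrr_chi22 : Cfsg.IsIrrCharacter G (fun g => chi22 (a g)) := by
  obtain ⟨m1, m2, -, m4, n1, nf, n2, n4⟩ := moments a ha hn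
  refine isIrr_of_norm a ha hn (isGeneralized_chi22 a) (fun s => by simp [chi22, map_ofNat]) ?_ ?_
  · calc _ = (1 / 4 : ℂ) * ∑ g : G,
          (((fixN (a g) : ℂ) - 3) * (((fixN (a g) : ℂ) - 2) *
            (((fixN (a g) : ℂ) - 1) * (fixN (a g) : ℂ))) -
          2 * (((fixN (a g) : ℂ) - 1) * (fixN (a g) : ℂ)) + 4 * (fixN (a g) : ℂ) +
          2 * ((swapN (a g) : ℂ) * (((fixN (a g) : ℂ) - 1) * (fixN (a g) : ℂ))) -
          4 * ((swapN (a g) : ℂ) * (fixN (a g) : ℂ)) +
          (swapN (a g) : ℂ) * ((swapN (a g) : ℂ) - 2) + 2 * (swapN (a g) : ℂ)) := by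
          rw [Finset.mul_sum]
          exact Finset.sum_congr rfl fun g _ => by unfold chi22; ring
      _ = _ := by
        simp only [Finset.sum_add_distrib, Finset.sum_sub_distrib, ← Finset.mul_sum, m1, m2, m4,
          n1, nf, n2, n4]
        ring
  · simp only [chi22, fixN_one, swapN_one, Nat.cast_zero, add_zero, Complex.div_ofNat_re,
      Complex.sub_re, Complex.mul_re, Complex.natCast_re, Complex.natCast_im, Complex.re_ofNat,
      Complex.im_ofNat]
    have : (4 : ℝ) ≤ n := by exact_mod_cast hn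
    nlinarith

theorem isIrr_chi211 : Cfsg.IsIrrCharacter G (fun g => chi211 (a g)) := by
  obtain ⟨m1, m2, -, m4, n1, nf, n2, n4⟩ := moments a ha hn
  refine isIrr_of_norm a ha hn (isGeneralized_chi211 a) (fun s => by simp [chi211, map_ofNat]) ?_ ?_
  · calc _ = (1 / 4 : ℂ) * ∑ g : G,
          (((fixN (a g) : ℂ) - 3) * (((fixN (a g) : ℂ) - 2) *
            (((fixN (a g) : ℂ) - 1) * (fixN (a g) : ℂ))) +
          2 * (((fixN (a g) : ℂ) - 1) * (fixN (a g) : ℂ)) - 4 * (fixN (a g) : ℂ) + 4 -
          2 * ((swapN (a g) : ℂ) * (((fixN (a g) : ℂ) - 1) * (fixN (a g) : ℂ))) +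
          4 * ((swapN (a g) : ℂ) * (fixN (a g) : ℂ)) +
          (swapN (a g) : ℂ) * ((swapN (a g) : ℂ) - 2) - 2 * (swapN (a g) : ℂ)) := by
          rw [Finset.mul_sum]
          exact Finset.sum_congr rfl fun g _ => by unfold chi211; ring
      _ = _ := by
        simp only [Finset.sum_add_distrib, Finset.sum_sub_distrib, ← Finset.mul_sum, m1, m2, m4,
          n1, nf, n2, n4, Finset.sum_const, Finset.card_univ, nsmul_eq_mul]
        ring
  · simp only [chi211, fixN_one, swapN_one, Nat.cast_zero, sub_zero, Complex.div_ofNat_re,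
      Complex.sub_re, Complex.add_re, Complex.mul_re, Complex.natCast_re, Complex.natCast_im,
      Complex.re_ofNat, Complex.im_ofNat]
    have : (4 : ℝ) ≤ n := by exact_mod_cast hn
    nlinarith

end CfsgLib.BlockA.AltVanishing
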