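import Cfsg.Agent.Lib.Block.Induced
import Cfsg.Prelude.Def_BlockLocal

/-! Transport of irreducible characters and blocks along isomorphisms, and conjugation of blocks
of a subgroup. -/

set_option autoImplicit false
set_option linter.unusedSectionVars false

namespace CfsgLib.BlockA

open Cfsg CfsgLib.Block
open scoped ComplexConjugate

universe u v

variable {H : Type u} [Group H] {K : Type v} [Group K]

/-- Pull back of an irreducible character along an isomorphism. -/
def irrMap (φ : H ≃* K) (χ : IrrCharacter K) : IrrCharacter H :=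
  ⟨fun h => (χ : K → ℂ) (φ h),
    CfsgLib.Char.isIrrCharacter_comp_surjective χ.2 φ.toMonoidHom φ.surjective⟩

@[simp]
theorem irrMap_apply (φ : H ≃* K) (χ : IrrCharacter K) (h : H) :
    (irrMap φ χ : H → ℂ) h = (χ : K → ℂ) (φ h) := rfl

theorem irrMap_symm_irrMap (φ : H ≃* K) (χ : IrrCharacter K) :
    irrMap φ.symm (irrMap φ χ) = χ :=
  Subtype.ext (funext fun k => by simp)

theorem irrMap_irrMap_symm (φ : H ≃* K) (χ : IrrCharacter H) :
    irrMap φ (irrMap φ.symm χ) = χ :=
  Subtype.ext (funext fun k => by simp)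

theorem irrMap_injective (φ : H ≃* K) : Function.Injective (irrMap φ) :=
  Function.LeftInverse.injective (irrMap_symm_irrMap φ)

variable [Finite H] [Finite K]

theorem index_centralizer_map (φ : H ≃* K) (h : H) :
    (Subgroup.centralizer ({φ h} : Set K)).index = (Subgroup.centralizer ({h} : Set H)).index := by
  have := Fintype.ofFinite H
  have := Fintype.ofFinite K
  rw [← CfsgLib.Char.natCard_carrier_eq_index, ← CfsgLib.Char.natCard_carrier_eq_index]
  refine (Nat.card_congr (Equiv.subtypeEquiv φ.toEquiv fun y => ?_)).symm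
  show y ∈ (ConjClasses.mk h).carrier ↔ φ y ∈ (ConjClasses.mk (φ h)).carrier
  rw [ConjClasses.mem_carrier_iff_mk_eq, ConjClasses.mem_carrier_iff_mk_eq,
    ConjClasses.mk_eq_mk_iff_isConj, ConjClasses.mk_eq_mk_iff_isConj]
  refine ⟨fun h => φ.toMonoidHom.map_isConj h, fun h => ?_⟩
  simpa using φ.symm.toMonoidHom.map_isConj h

theorem centralChar_irrMap (φ : H ≃* K) (χ : IrrCharacter K) (h : H) :
    centralChar (irrMap φ χ : H → ℂ) h = centralChar (χ : K → ℂ) (φ h) := by
  simp only [centralChar, irrMap_apply, index_centralizer_map, map_one]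

theorem sameBlock_irrMap_iff {M : Ideal AlgInt} (φ : H ≃* K) (χ ψ : IrrCharacter K) :
    SameBlock M (irrMap φ χ : H → ℂ) (irrMap φ ψ : H → ℂ) ↔
      SameBlock M (χ : K → ℂ) (ψ : K → ℂ) := by
  constructor
  · intro hh k
    have := hh (φ.symm k)
    rwa [centralChar_irrMap, centralChar_irrMap, φ.apply_symm_apply] at this
  · intro hh h
    rw [centralChar_irrMap, centralChar_irrMap]
    exact hh (φ h)

/-- Pull back of a set of irreducible characters. -/
def blockMap (φ : H ≃* K) (B : Set (IrrCharacter K)) : Set (IrrCharacter H) := irrMap φ '' B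

theorem mem_blockMap_iff (φ : H ≃* K) (B : Set (IrrCharacter K)) (ξ : IrrCharacter H) :
    ξ ∈ blockMap φ B ↔ irrMap φ.symm ξ ∈ B :=
  ⟨fun ⟨χ, hχ, h⟩ => by rw [← h, irrMap_symm_irrMap]; exact hχ,
    fun h => ⟨_, h, irrMap_irrMap_symm φ ξ⟩⟩

theorem isPBlock_blockMap {M : Ideal AlgInt} (φ : H ≃* K) {B : Set (IrrCharacter K)}
    (hB : IsPBlock M B) : IsPBlock M (blockMap φ B) := by
  obtain ⟨χ, rfl⟩ := hB
  refine ⟨irrMap φ χ, Set.ext fun ξ => ?_⟩
  rw [mem_blockMap_iff]
  show SameBlock M (χ : K → ℂ) (irrMap φ.symm ξ : K → ℂ) ↔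
    SameBlock M (irrMap φ χ : H → ℂ) (ξ : H → ℂ)
  conv_rhs => rw [← irrMap_irrMap_symm φ ξ, sameBlock_irrMap_iff]

theorem blockCoeff_blockMap (φ : H ≃* K) (B : Set (IrrCharacter K)) (h : H) :
    blockCoeff (blockMap φ B) h = blockCoeff B (φ h) := by
  classical
  rw [blockCoeff, blockCoeff, Nat.card_congr φ.toEquiv, blockMap,
    finsum_mem_image (irrMap_injective φ).injOn]
  simp

theorem blockMap_principalBlock {M : Ideal AlgInt} (φ : H ≃* K) :
    blockMap φ (principalBlock M K) = principalBlock M H := by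
  ext ξ
  rw [mem_blockMap_iff]
  show SameBlock M ((trivIrr : IrrCharacter K) : K → ℂ) (irrMap φ.symm ξ : K → ℂ) ↔
    SameBlock M ((trivIrr : IrrCharacter H) : H → ℂ) (ξ : H → ℂ)
  rw [← sameBlock_irrMap_iff φ, irrMap_irrMap_symm]
  rfl

section Normalizer

variable {G : Type u} [Group G] [Finite G] {S : Subgroup G}

/-- Conjugation by an element of the normalizer. -/
def conjAut (x : Subgroup.normalizer (S : Set G)) : S ≃* S := S.normalizerMonoidHom x

@[simp]
theorem coe_conjAut (x : Subgroup.normalizer (S : Set G)) (h : S) :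
    ((conjAut x h : S) : G) = (x : G) * (h : G) * (x : G)⁻¹ := rfl

theorem conjAut_mul (x y : Subgroup.normalizer (S : Set G)) (h : S) :
    conjAut (x * y) h = conjAut x (conjAut y h) := by
  apply Subtype.ext
  simp [mul_assoc]

theorem conjAut_one (h : S) : conjAut (1 : Subgroup.normalizer (S : Set G)) h = h := by
  apply Subtype.ext
  simp

/-- The action of the normalizer on sets of characters. -/
def conjSet (x : Subgroup.normalizer (S : Set G)) (e : Set (IrrCharacter S)) :
    Set (IrrCharacter S) := blockMap (conjAut x⁻¹) e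

theorem conjSet_one (e : Set (IrrCharacter S)) :
    conjSet (1 : Subgroup.normalizer (S : Set G)) e = e := by
  have h : irrMap (conjAut (1 : Subgroup.normalizer (S : Set G))⁻¹) = id :=
    funext fun χ => Subtype.ext (funext fun h => by rw [irrMap_apply, inv_one, conjAut_one]; rfl)
  rw [conjSet, blockMap, h, Set.image_id]

theorem conjSet_mul (x y : Subgroup.normalizer (S : Set G)) (e : Set (IrrCharacter S)) :
    conjSet (x * y) e = conjSet x (conjSet y e) := by
  rw [conjSet, conjSet, conjSet, blockMap, blockMap, blockMap, Set.image_image]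
  refine Set.image_congr fun χ _ => Subtype.ext (funext fun h => ?_)
  simp only [irrMap_apply]
  rw [mul_inv_rev, conjAut_mul]

theorem blockCoeff_conjSet (x : Subgroup.normalizer (S : Set G)) (e : Set (IrrCharacter S))
    (h : S) : blockCoeff (conjSet x e) h = blockCoeff e (conjAut x⁻¹ h) :=
  blockCoeff_blockMap _ _ _

theorem stabilizesBlock_iff {M : Ideal AlgInt} [M.IsPrime] {e : Set (IrrCharacter S)} (he : IsPBlock M e)
    (x : G) : StabilizesBlock S e x ↔
      ∃ hx : x ∈ Subgroup.normalizer (S : Set G), conjSet ⟨x, hx⟩ e = e := by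
  have key : ∀ (hx : x ∈ Subgroup.normalizer (S : Set G)) (χ χ' : IrrCharacter S),
      IsConjCharOf S x (χ : S → ℂ) (χ' : S → ℂ) ↔ χ' = irrMap (conjAut ⟨x, hx⟩⁻¹) χ := by
    intro hx χ χ'
    constructor
    · intro h
      refine Subtype.ext (funext fun k' => ?_)
      rw [irrMap_apply]
      exact h _ k' (by simp [mul_assoc])
    · rintro rfl k k' hk
      rw [irrMap_apply]
      refine congrArg (χ : S → ℂ) (Subtype.ext ?_)
      simp [hk, mul_assoc]
  constructor
  · rintro ⟨hx, h⟩
    refine ⟨hx, ?_⟩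
    obtain ⟨χ, hχ⟩ := isPBlock_nonempty he
    obtain ⟨χ', hχ', hc⟩ := h χ hχ
    exact isPBlock_eq_of_mem (isPBlock_blockMap _ he) he
      ⟨χ, hχ, ((key hx χ χ').1 hc).symm⟩ hχ'
  · rintro ⟨hx, h⟩
    refine ⟨hx, fun χ hχ => ⟨irrMap (conjAut ⟨x, hx⟩⁻¹) χ, ?_, (key hx χ _).2 rfl⟩⟩
    rw [← h]
    exact ⟨χ, hχ, rfl⟩

end Normalizer

end CfsgLib.BlockA
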