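import Cfsg.Agent.Lib.Block.DefectOrder
import Cfsg.Agent.Lib.BlockA.Regular

/-! The pairing of characters over the regular elements: the height zero lemma. -/

set_option autoImplicit false
set_option linter.unusedSectionVars false

namespace CfsgLib.BlockA

open Cfsg CfsgLib.Block
open scoped ComplexConjugate

variable {G : Type*} [Group G] [Fintype G]

/-- The sum over the regular elements of `φ g * ψ g⁻¹`. -/
noncomputable def regPair (p : ℕ) (φ ψ : G → ℂ) : ℂ := ∑ g : G, regInd p g * φ g * ψ g⁻¹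

theorem regInd_inv (p : ℕ) (g : G) : regInd p g⁻¹ = regInd p g := by
  simp [regInd, orderOf_inv]

theorem regPair_symm (p : ℕ) (φ ψ : G → ℂ) : regPair p φ ψ = regPair p ψ φ := by
  unfold regPair
  refine Fintype.sum_equiv (Equiv.inv G) _ _ fun g => ?_
  simp [regInd_inv]
  ring

theorem classInner_regInd_mul (p : ℕ) (c : ℂ) (χ : G → ℂ) (ξ : IrrCharacter G) :
    Cfsg.classInner (fun x : G => if p ∣ orderOf x then (0 : ℂ) else c * χ x) (ξ : G → ℂ) =
      (Nat.card G : ℂ)⁻¹ * c * regPair p χ (ξ : G → ℂ) := by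
  rw [CfsgLib.Char.classInner_def, regPair, mul_assoc, Finset.mul_sum, Finset.mul_sum]
  simp only [Finset.mul_sum]
  refine Finset.sum_congr rfl fun g _ => ?_
  rw [regInd, ← irr_conj_eq ξ.2 g]
  split_ifs <;> ring

theorem regPair_div_eq_sum (p : ℕ) [Fintype (ConjClasses G)] {φ : G → ℂ}
    (hφ : IsClassFunction G φ) (ξ : IrrCharacter G) :
    regPair p φ (ξ : G → ℂ) / (ξ : G → ℂ) 1 = ∑ C : ConjClasses G,
      regInd p (Quotient.out C) * φ (Quotient.out C) *
        centralChar (ξ : G → ℂ) (Quotient.out C)⁻¹ := by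
  have hF : IsClassFunction G (fun g => regInd p g * φ g * (ξ : G → ℂ) g⁻¹) := fun g h => by
    simp only [regInd_isClassFunction p g h, hφ g h]
    rw [show (h * g * h⁻¹)⁻¹ = h * g⁻¹ * h⁻¹ by group, CfsgLib.Char.irr_isClassFunction ξ.2 g⁻¹ h]
  rw [regPair, CfsgLib.BlockB.sum_eq_sum_conjClasses hF, Finset.sum_div]
  refine Finset.sum_congr rfl fun C _ => ?_
  have hc : Subgroup.centralizer ({(Quotient.out C)⁻¹} : Set G) =
      Subgroup.centralizer ({Quotient.out C} : Set G) := by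
    ext x
    simp only [Subgroup.mem_centralizer_singleton_iff]
    exact ⟨fun h => (Commute.inv_left_iff.1 h.symm).symm,
      fun h => (Commute.inv_left_iff.2 h.symm).symm⟩
  rw [centralChar, hc]
  ring

section Block

variable {p : ℕ} {M : Ideal AlgInt} [M.IsPrime] (hM : IsPModular p M)
include hM

theorem memLocalRing_regInd (g : G) : MemLocalRing M (regInd p g) := by
  unfold regInd
  split_ifs
  · exact (lring M).zero_mem
  · exact (lring M).one_mem

theorem memLocalRing_regPair_div {φ : G → ℂ} (hφ : IsClassFunction G φ)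
    (hint : ∀ g, MemLocalRing M (φ g)) (ξ : IrrCharacter G) :
    MemLocalRing M (regPair p φ (ξ : G → ℂ) / (ξ : G → ℂ) 1) := by
  have := Finite.of_surjective _ (ConjClasses.mk_surjective (α := G))
  have := Fintype.ofFinite (ConjClasses G)
  rw [regPair_div_eq_sum p hφ]
  exact memLocalRing_sum _ _ fun C _ => memLocalRing_mul
    (memLocalRing_mul (memLocalRing_regInd hM _) (hint _)) (memLocalRing_centralChar ξ.2 _)

theorem memLocalIdeal_regPair_div_sub {φ : G → ℂ} (hφ : IsClassFunction G φ)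
    (hint : ∀ g, MemLocalRing M (φ g)) {ξ η : IrrCharacter G}
    (h : SameBlock M (ξ : G → ℂ) (η : G → ℂ)) :
    MemLocalIdeal M (regPair p φ (ξ : G → ℂ) / (ξ : G → ℂ) 1 -
      regPair p φ (η : G → ℂ) / (η : G → ℂ) 1) := by
  have := Finite.of_surjective _ (ConjClasses.mk_surjective (α := G))
  have := Fintype.ofFinite (ConjClasses G)
  rw [regPair_div_eq_sum p hφ, regPair_div_eq_sum p hφ, ← Finset.sum_sub_distrib]
  refine memLocalIdeal_sum _ _ fun C _ => ?_
  rw [← mul_sub]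
  exact memLocalIdeal_mul_left (memLocalRing_mul (memLocalRing_regInd hM _) (hint _)) (h _)

variable {B : Set (IrrCharacter G)} (hB : IsPBlock M B)
include hB

/-- The regular part of a character of a block lies in the span of the block. -/
theorem regInd_mul_eq_sum [Fintype (IrrCharacter G)] {χ : IrrCharacter G} (hχ : χ ∈ B) (g : G) :
    regInd p g * (χ : G → ℂ) g = ∑ᶠ ψ ∈ B, Cfsg.classInner
      (fun x => regInd p x * (χ : G → ℂ) x) (ψ : G → ℂ) * (ψ : G → ℂ) g := by
  classical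
  rw [finsum_mem_eq_finite_toFinset_sum _ B.toFinite]
  simp only [CfsgLib.Char.classInner_def]
  have key : ∀ x : G, regInd p x * ∑ ψ ∈ B.toFinite.toFinset,
      (ψ : G → ℂ) g * conj ((ψ : G → ℂ) x) =
      regInd p g * ∑ ψ ∈ B.toFinite.toFinset, (ψ : G → ℂ) g * conj ((ψ : G → ℂ) x) := by
    intro x
    unfold regInd
    by_cases hx : p ∣ orderOf x <;> by_cases hg : p ∣ orderOf g
    · simp [hx, hg]
    · have := sum_block_eq_zero_of_regular_singular hM hB hg hx
      rw [finsum_mem_eq_finite_toFinset_sum _ B.toFinite] at this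
      rw [this, mul_zero, mul_zero]
    · have := sum_block_eq_zero_of_regular_singular hM hB hx hg
      rw [finsum_mem_eq_finite_toFinset_sum _ B.toFinite] at this
      have h2 := congrArg conj this
      rw [map_sum, map_zero] at h2
      simp only [map_mul, Complex.conj_conj] at h2
      have h3 : ∑ ψ ∈ B.toFinite.toFinset, (ψ : G → ℂ) g * conj ((ψ : G → ℂ) x) = 0 :=
        (Finset.sum_congr rfl fun ψ _ => mul_comm _ _).trans h2
      rw [h3, mul_zero, mul_zero]
    · simp [hx, hg]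
  calc regInd p g * (χ : G → ℂ) g
      = regInd p g * ∑ ψ ∈ B.toFinite.toFinset,
          Cfsg.classInner (χ : G → ℂ) (ψ : G → ℂ) * (ψ : G → ℂ) g := by
        rw [Finset.sum_eq_single χ]
        · rw [CfsgLib.Char.irr_classInner_self χ.2, one_mul]
        · intro ψ _ hne
          rw [CfsgLib.Char.irr_classInner_ne χ.2 ψ.2 (fun h => hne (Subtype.ext h.symm)), zero_mul]
        · exact fun h => absurd (B.toFinite.mem_toFinset.2 hχ) h
    _ = ∑ x : G, (Nat.card G : ℂ)⁻¹ * ((χ : G → ℂ) x * (regInd p g *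
          ∑ ψ ∈ B.toFinite.toFinset, (ψ : G → ℂ) g * conj ((ψ : G → ℂ) x))) := by
        simp only [CfsgLib.Char.classInner_def, Finset.mul_sum, Finset.sum_mul]
        rw [Finset.sum_comm]
        exact Finset.sum_congr rfl fun x _ => Finset.sum_congr rfl fun ψ _ => by ring
    _ = _ := by
        simp only [← key]
        simp only [Finset.mul_sum, Finset.sum_mul]
        rw [Finset.sum_comm]
        exact Finset.sum_congr rfl fun x _ => Finset.sum_congr rfl fun ψ _ => by ring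

theorem regPair_eq_zero {χ ξ : IrrCharacter G} (hχ : χ ∈ B) (hξ : ξ ∉ B) :
    regPair p (χ : G → ℂ) (ξ : G → ℂ) = 0 := by
  classical
  have := Fintype.ofFinite (IrrCharacter G)
  have h0 : Cfsg.classInner (fun x => regInd p x * (χ : G → ℂ) x) (ξ : G → ℂ) = 0 := by
    have he : (fun x => regInd p x * (χ : G → ℂ) x) = ∑ ψ ∈ B.toFinite.toFinset,
        Cfsg.classInner (fun x => regInd p x * (χ : G → ℂ) x) (ψ : G → ℂ) • (ψ : G → ℂ) := by
      funext g
      rw [regInd_mul_eq_sum hM hB hχ g, finsum_mem_eq_finite_toFinset_sum _ B.toFinite]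
      simp [Finset.sum_apply]
    rw [he, CfsgLib.Char.classInner_sum_left, Finset.sum_eq_zero]
    intro ψ hψ
    rw [CfsgLib.Char.classInner_smul_left, CfsgLib.Char.irr_classInner_ne ψ.2 ξ.2, mul_zero]
    intro h
    exact hξ (Subtype.ext h ▸ B.toFinite.mem_toFinset.1 hψ)
  have h1 : Cfsg.classInner (fun x => regInd p x * (χ : G → ℂ) x) (ξ : G → ℂ) =
      (Nat.card G : ℂ)⁻¹ * regPair p (χ : G → ℂ) (ξ : G → ℂ) := by
    rw [CfsgLib.Char.classInner_def, regPair]
    congr 1
    exact Finset.sum_congr rfl fun g _ => by rw [irr_conj_eq ξ.2 g]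
  rw [h1] at h0
  exact (mul_eq_zero.1 h0).resolve_left (inv_ne_zero CfsgLib.Char.natCard_ne_zero)

/-- Some member of the block pairs with `ξ` to a local unit. -/
theorem exists_not_memLocalIdeal_regPair {ξ : IrrCharacter G} (hξ : ξ ∈ B) :
    ∃ χ ∈ B, ¬ MemLocalIdeal M (regPair p (χ : G → ℂ) (ξ : G → ℂ) / (ξ : G → ℂ) 1) := by
  classical
  obtain ⟨c, hc, hexp⟩ := exists_blockCoeff_expansion hM hB
  have h1 : (∑ᶠ χ ∈ B, c χ * (regPair p (χ : G → ℂ) (ξ : G → ℂ) / (ξ : G → ℂ) 1)) = 1 := by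
    have h := omegaC_blockSum B ξ
    rw [if_pos hξ, omegaC_eq] at h
    refine Eq.trans ?_ h
    rw [finsum_mem_eq_finite_toFinset_sum _ B.toFinite, Finset.sum_div]
    rw [Finset.sum_congr rfl fun χ _ => by
      rw [regPair_symm p (χ : G → ℂ) (ξ : G → ℂ)]]
    simp only [regPair, Finset.sum_div, Finset.mul_sum]
    rw [Finset.sum_comm]
    refine Finset.sum_congr rfl fun g _ => ?_
    rw [blockSum, coeff_mkGA, regInd]
    by_cases hg : p ∣ orderOf g
    · simp [hg, blockCoeff_eq_zero_of_singular hM hB hg]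
    · rw [hexp g hg, finsum_mem_eq_finite_toFinset_sum _ B.toFinite, Finset.sum_mul, Finset.sum_div]
      refine Finset.sum_congr rfl fun χ _ => ?_
      simp only [hg, if_false, one_mul]
      ring
  by_contra hcon
  push Not at hcon
  refine not_memLocalIdeal_one (M := M) ?_
  rw [← h1, finsum_mem_eq_finite_toFinset_sum _ B.toFinite]
  exact memLocalIdeal_sum _ _ fun χ hχ =>
    memLocalIdeal_mul_left (hc χ) (hcon χ (B.toFinite.mem_toFinset.1 hχ))

theorem memLocalIdeal_regPair_iff (χ : IrrCharacter G) {ξ η : IrrCharacter G} (hξ : ξ ∈ B)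
    (hη : η ∈ B) :
    MemLocalIdeal M (regPair p (χ : G → ℂ) (ξ : G → ℂ) / (ξ : G → ℂ) 1) ↔
      MemLocalIdeal M (regPair p (χ : G → ℂ) (η : G → ℂ) / (η : G → ℂ) 1) := by
  have h := memLocalIdeal_regPair_div_sub hM (CfsgLib.Char.irr_isClassFunction χ.2)
    (memLocalRing_irr_apply χ) (sameBlock_of_mem hB hξ hη)
  constructor
  · intro h1
    have := memLocalIdeal_sub h1 h
    rwa [sub_sub_cancel] at this
  · intro h1
    have := memLocalIdeal_add h h1
    rwa [sub_add_cancel] at this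

/-- **Height zero lemma.** -/
theorem not_memLocalIdeal_regPair_iff {χ ξ : IrrCharacter G} (hχ : χ ∈ B) (hξ : ξ ∈ B) :
    ¬ MemLocalIdeal M (regPair p (χ : G → ℂ) (ξ : G → ℂ) / (ξ : G → ℂ) 1) ↔
      blockHeight p B (χ : G → ℂ) = 0 := by
  obtain ⟨χ₀, hχ₀, hu⟩ := exists_not_memLocalIdeal_regPair hM hB hξ
  rw [memLocalIdeal_regPair_iff hM hB χ hξ hχ₀]
  set R := regPair p (χ : G → ℂ) (χ₀ : G → ℂ) / (χ₀ : G → ℂ) 1 with hR
  have hRint : ∀ ψ : IrrCharacter G,
      MemLocalRing M (regPair p (ψ : G → ℂ) (χ₀ : G → ℂ) / (χ₀ : G → ℂ) 1) := fun ψ =>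
    memLocalRing_regPair_div hM (CfsgLib.Char.irr_isClassFunction ψ.2) (memLocalRing_irr_apply ψ) χ₀
  have hu' : ∀ ψ ∈ B,
      ¬ MemLocalIdeal M (regPair p (χ₀ : G → ℂ) (ψ : G → ℂ) / (ψ : G → ℂ) 1) := fun ψ hψ h =>
    hu ((memLocalIdeal_regPair_iff hM hB χ₀ hξ hψ).2 h)
  have hrel : ∀ ψ : IrrCharacter G,
      regPair p (ψ : G → ℂ) (χ₀ : G → ℂ) / (χ₀ : G → ℂ) 1 =
        regPair p (χ₀ : G → ℂ) (ψ : G → ℂ) / (ψ : G → ℂ) 1 *
          ((charDegree (ψ : G → ℂ) : ℂ) / (charDegree (χ₀ : G → ℂ) : ℂ)) := fun ψ => by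
    rw [charDegree_cast (CfsgLib.Char.irr_isCharacter ψ.2),
      charDegree_cast (CfsgLib.Char.irr_isCharacter χ₀.2), regPair_symm,
      ← mul_div_assoc, div_mul_cancel₀ _ (CfsgLib.Char.irr_apply_one_ne_zero ψ.2)]
  have hmin : ∀ ψ ∈ B, (charDegree (χ₀ : G → ℂ)).factorization p ≤
      (charDegree (ψ : G → ℂ)).factorization p := by
    intro ψ hψ
    by_contra hlt
    push Not at hlt
    refine hu' ψ hψ ?_
    have h2 := memLocalIdeal_natCast_div hM (b := charDegree (ψ : G → ℂ))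
      (a := charDegree (χ₀ : G → ℂ)) (charDegree_ne_zero ψ.2) (Or.inr hlt)
    have h3 := memLocalIdeal_mul_left (hRint ψ) h2
    rw [hrel ψ, mul_assoc] at h3
    convert h3 using 1
    have h4 : (charDegree (ψ : G → ℂ) : ℂ) ≠ 0 := Nat.cast_ne_zero.2 (charDegree_ne_zero ψ.2)
    have h5 : (charDegree (χ₀ : G → ℂ) : ℂ) ≠ 0 := Nat.cast_ne_zero.2 (charDegree_ne_zero χ₀.2)
    field_simp
  have hinf : sInf ((fun ψ : IrrCharacter G => (charDegree (ψ : G → ℂ)).factorization p) '' B) =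
      (charDegree (χ₀ : G → ℂ)).factorization p :=
    le_antisymm (Nat.sInf_le ⟨χ₀, hχ₀, rfl⟩)
      (le_csInf ⟨_, χ₀, hχ₀, rfl⟩ (by rintro _ ⟨ψ, hψ, rfl⟩; exact hmin ψ hψ))
  rw [blockHeight_eq_zero_iff hM hB hχ, hinf, hR, hrel χ]
  have h4 : charDegree (χ₀ : G → ℂ) ≠ 0 := charDegree_ne_zero χ₀.2
  constructor
  · intro h
    refine le_antisymm (le_of_not_gt fun hlt => h ?_) (hmin χ hχ)
    exact memLocalIdeal_mul_left
      (memLocalRing_regPair_div hM (CfsgLib.Char.irr_isClassFunction χ₀.2)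
        (memLocalRing_irr_apply χ₀) χ)
      (memLocalIdeal_natCast_div hM h4 (Or.inr hlt))
  · intro heq h
    refine hu' χ hχ ?_
    have h2 := memLocalIdeal_mul_right (r := (charDegree (χ₀ : G → ℂ) : ℂ) /
      (charDegree (χ : G → ℂ) : ℂ))
      (memLocalRing_natCast_div hM (charDegree_ne_zero χ.2) (Or.inr (le_of_eq heq))) h
    convert h2 using 1
    have h5 : (charDegree (χ : G → ℂ) : ℂ) ≠ 0 := Nat.cast_ne_zero.2 (charDegree_ne_zero χ.2)
    have h6 : (charDegree (χ₀ : G → ℂ) : ℂ) ≠ 0 := Nat.cast_ne_zero.2 h4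
    field_simp

end Block

end CfsgLib.BlockA
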