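import Cfsg.Agent.Lib.BlockA.ProjLattice
import Cfsg.Agent.Lib.BlockA.HeightZero
import Cfsg.Agent.Lib.BlockB.ClassMul
import Cfsg.Agent.Lib.Char.Column
import Mathlib

/-!
The sum of the squares of the degrees of a block: a combination of degrees of projective
characters with at least `l(B)` summands, and its `p`-part.
-/

set_option autoImplicit false
set_option linter.unusedSectionVars false
set_option linter.style.haveILetI false

namespace CfsgLib.BlockA.BlockSquares

open Cfsg CfsgLib.Block CfsgLib.BlockA CfsgLib.BlockB CfsgLib.BlockB.StarTrace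
  CfsgLib.BlockB.StarLift CfsgLib.BlockB.IdemCount CfsgLib.BlockA.ProjLattice MonoidAlgebra
open scoped ComplexConjugate

universe u

variable {G : Type u} [Group G] [Fintype G] {p : ℕ} [hp : Fact p.Prime] {M : Ideal AlgInt}
  [M.IsPrime] (hM : IsPModular p M) {B : Set (IrrCharacter G)} (hB : IsPBlock M B)

theorem toC_injective : Function.Injective (toC (M := M) (G := G)) := fun a b h => by
  ext x
  have := congrArg (fun z : MonoidAlgebra ℂ G => z.coeff x) h
  simpa [coeff_toC] using this

include hM hB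

/-- The lifted block idempotent and its effect on multiplicities. -/
theorem exists_lift_block : ∃ eB : MonoidAlgebra (lring M) G, eB * eB = eB ∧
    redG eB = (blkIdem M B : MonoidAlgebra (kres M) G) ∧ (∀ a, eB * a = a * eB) ∧
    toC eB = blockSum B := by
  have hcoef : ∀ x, MemLocalRing M (blockCoeff B x) := fun x => blockCoeff_memLocalRing hM hB x
  let eB : MonoidAlgebra (lring M) G := mkGA fun x => ⟨blockCoeff B x, hcoef x⟩
  have hC : toC eB = blockSum B := by
    ext x
    simp [eB, coeff_toC, blockSum]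
  refine ⟨eB, toC_injective (by rw [map_mul, hC, blockSum_mul, Set.inter_self]), ?_, ?_, hC⟩
  · ext x
    rw [coeff_redG, coeff_blkIdem, coeff_mkGA, redC_eq (hcoef x)]
  · intro a
    have hcl : IsClassCoeff eB := fun g h => by
      simp only [eB, coeff_mkGA]
      have := blockSum_isClassCoeff B g h
      simp only [blockSum, coeff_mkGA] at this
      exact Subtype.ext this
    exact (Subalgebra.mem_center_iff.1 (isClassCoeff_iff_mem_center.1 hcl) a).symm

theorem mult_block_mul {j : MonoidAlgebra (kres M) G} (hj : j * j = j) (χ : IrrCharacter G)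
    [Decidable (χ ∈ B)] :
    mult ((blkIdem M B : MonoidAlgebra (kres M) G) * j) χ = if χ ∈ B then mult j χ else 0 := by
  obtain ⟨eB, hee, hre, hcen, hC⟩ := exists_lift_block hM hB
  obtain ⟨e, he, hr⟩ := exists_idem_lift hM hj
  have h2 : eB * e * (eB * e) = eB * e := by
    calc eB * e * (eB * e) = eB * (e * eB) * e := by simp only [mul_assoc]
      _ = eB * (eB * e) * e := by rw [hcen e]
      _ = eB * eB * (e * e) := by simp only [mul_assoc]
      _ = _ := by rw [hee, he]
  rw [mult_eq hM h2 (by rw [map_mul, hre, hr]) χ, mult_eq hM he hr χ]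
  have h1 := CfsgLib.Char.irr_apply_one_ne_zero χ.2
  have h3 : omegaC (χ : G → ℂ) (toC (eB * e)) =
      (if χ ∈ B then 1 else 0) * omegaC (χ : G → ℂ) (toC e) := by
    rw [map_mul, hC, omegaC_mul χ.2 (blockSum_isClassCoeff B), omegaC_blockSum]
    congr 1
    split_ifs <;> rfl
  rw [omegaC_eq, omegaC_eq, ← tval_eq_sum, ← tval_eq_sum, ← mul_div_assoc,
    div_left_inj' h1] at h3
  rw [h3]
  split_ifs <;> simp

theorem mult_block (χ : IrrCharacter G) [Decidable (χ ∈ B)] :
    mult (blkIdem M B : MonoidAlgebra (kres M) G) χ = if χ ∈ B then (χ : G → ℂ) 1 else 0 := by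
  have h1 : (1 : MonoidAlgebra (kres M) G) * 1 = 1 := one_mul 1
  have h := mult_block_mul hM hB h1 χ
  rw [mul_one] at h
  rw [h]
  split_ifs with hχ
  · rw [mult_eq hM (e := 1) (one_mul 1) (map_one _) χ, tval_eq_sum, map_one,
      Finset.sum_eq_single 1]
    · simp
    · intro b _ hb
      simp [one_def, hb]
    · simp
  · rfl

theorem blk_idem : (blkIdem M B : MonoidAlgebra (kres M) G) * blkIdem M B =
    (blkIdem M B : MonoidAlgebra (kres M) G) := by
  have h := congrArg Subtype.val (blkIdem_idem hM hB)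
  simpa using h

theorem blk_mul_idem {j : MonoidAlgebra (kres M) G} (hj : j * j = j) :
    (blkIdem M B : MonoidAlgebra (kres M) G) * j * ((blkIdem M B : MonoidAlgebra (kres M) G) * j) =
      (blkIdem M B : MonoidAlgebra (kres M) G) * j := by
  calc (blkIdem M B : MonoidAlgebra (kres M) G) * j * ((blkIdem M B : MonoidAlgebra (kres M) G) * j)
      = (blkIdem M B : MonoidAlgebra (kres M) G) * (j * (blkIdem M B : MonoidAlgebra (kres M) G)) * j := by
        simp only [mul_assoc]
    _ = (blkIdem M B : MonoidAlgebra (kres M) G) * ((blkIdem M B : MonoidAlgebra (kres M) G) * j) * j := by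
        rw [Subalgebra.mem_center_iff.1 (blkIdem M B).2 j]
    _ = (blkIdem M B : MonoidAlgebra (kres M) G) * (blkIdem M B : MonoidAlgebra (kres M) G) * (j * j) := by
        simp only [mul_assoc]
    _ = _ := by rw [blk_idem hM hB, hj]

variable [IsAlgClosed (kres M)] (S : SplitData (k := kres M) (MonoidAlgebra (kres M) G))

open Classical in
/-- The rank of a block is bounded by the number of simple modules in it. -/
theorem blockRank_le_filter : blockRank p B ≤
    (Finset.univ.filter fun i => rk S i (blkIdem M B : MonoidAlgebra (kres M) G) ≠ 0).card := by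
  have := Fintype.ofFinite B
  set b : MonoidAlgebra (kres M) G := (blkIdem M B : MonoidAlgebra (kres M) G) with hb
  set I := Finset.univ.filter fun i => rk S i b ≠ 0 with hI
  let Φ : (B → ℂ) →ₗ[ℂ] (I → ℂ) := LinearMap.pi fun i =>
    Fintype.linearCombination ℂ (fun χ : B => mult (prim S (i : Fin S.n)) (χ : IrrCharacter G))
  let R : (B → ℂ) →ₗ[ℂ] (G → ℂ) :=
    Fintype.linearCombination ℂ (fun χ : B => pRegularPart p ((χ : IrrCharacter G) : G → ℂ))
  have hR : blockRank p B = Module.finrank ℂ (LinearMap.range R) := by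
    rw [blockRank, Fintype.range_linearCombination, Set.image_eq_range]
  have hker : LinearMap.ker Φ ≤ LinearMap.ker R := by
    intro c hc
    rw [LinearMap.mem_ker] at hc
    let L : (IrrCharacter G → ℂ) →+ ℂ :=
      { toFun := fun v => ∑ χ : B, c χ * v χ
        map_zero' := by simp
        map_add' := fun v w => by simp [mul_add, Finset.sum_add_distrib] }
    have hL : ∀ v ∈ multSpan M G, L v = 0 := by
      intro v hv
      refine (AddSubgroup.closure_le L.ker).2 ?_ hv
      rintro _ ⟨j, hj, rfl⟩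
      show ∑ χ : B, c χ * mult j (χ : IrrCharacter G) = 0
      have h1 : ∀ χ : B, mult j (χ : IrrCharacter G) = mult (b * j) (χ : IrrCharacter G) :=
        fun χ => by rw [hb, mult_block_mul hM hB hj, if_pos χ.2]
      have hx := mult_expansion hM S (blk_mul_idem hM hB hj)
      rw [← hb] at hx
      simp only [h1, hx, Finset.sum_apply, Pi.smul_apply, Finset.mul_sum]
      rw [Finset.sum_comm]
      refine Finset.sum_eq_zero fun i _ => ?_
      by_cases hi : rk S i b = 0
      · have h2 : rk S i (b * j) = 0 := by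
          rw [rk, map_mul, Pi.mul_apply]
          refine le_antisymm (le_trans (Submodule.finrank_mono ?_) hi.le) (Nat.zero_le _)
          rintro x ⟨y, rfl⟩
          exact ⟨S.π j i y, rfl⟩
        exact Finset.sum_eq_zero fun χ _ => by rw [h2, zero_smul, mul_zero]
      · have h2 := congrFun hc ⟨i, Finset.mem_filter.2 ⟨Finset.mem_univ i, hi⟩⟩
        simp only [Φ, LinearMap.pi_apply, Fintype.linearCombination_apply, Pi.zero_apply,
          smul_eq_mul] at h2
        simp only [nsmul_eq_mul, mul_left_comm (c _), ← Finset.mul_sum, h2, mul_zero]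
    rw [LinearMap.mem_ker]
    funext z
    simp only [R, Fintype.linearCombination_apply, Finset.sum_apply, Pi.smul_apply, smul_eq_mul,
      Pi.zero_apply, pRegularPart]
    by_cases hz : IsPRegular p z
    swap
    · simp [hz]
    simp only [if_pos hz]
    let K := Subgroup.zpowers z
    have := Fintype.ofFinite K
    have hzp : ¬ p ∣ orderOf z := hz
    have hK : Cfsg.IsElementary p K := by
      refine ⟨⟨z, Subgroup.mem_zpowers z⟩, ?_, ?_, 0, ?_⟩
      · rw [Subgroup.mem_center_iff]
        intro g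
        exact mul_comm' g _
      · rw [← Subgroup.orderOf_coe]
        exact (hp.out.coprime_iff_not_dvd.2 hzp).symm
      · rw [pow_zero, Subgroup.index_eq_one, eq_top_iff]
        rintro ⟨x, hx⟩ -
        obtain ⟨i, rfl⟩ := Subgroup.mem_zpowers_iff.1 hx
        exact ⟨i, Subtype.ext (by simp)⟩
    have hKp : ¬ p ∣ Nat.card K := by rwa [Nat.card_zpowers]
    let h : K → ℂ := fun k => ∑ χ : B, c χ * ((χ : IrrCharacter G) : G → ℂ) k
    have hh : h = 0 := by
      refine CfsgLib.Char.classFunction_eq_zero (fun g k => ?_) fun lam hlam => ?_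
      · simp only [h, Subgroup.coe_mul, Subgroup.coe_inv]
        exact Finset.sum_congr rfl fun χ _ => by
          rw [CfsgLib.Char.irr_isClassFunction (χ : IrrCharacter G).2 (g : G) k]
      · have h0 := hL _ (mem_multSpan_elementary hM hp.out hK hKp K.subtype
          (CfsgLib.Char.isGeneralized_of_isCharacter (CfsgLib.Char.irr_isCharacter hlam)))
        rw [← h0]
        show classInner h lam = ∑ χ : B, c χ * classInner lam (fun k : K => ((χ : IrrCharacter G) : G → ℂ) k)
        have hsym : ∀ χ : B, classInner lam (fun k : K => ((χ : IrrCharacter G) : G → ℂ) k) =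
            classInner (fun k : K => ((χ : IrrCharacter G) : G → ℂ) k) lam := fun χ => by
          obtain ⟨m, hm⟩ := CfsgLib.Char.classInner_isCharacter_nat
            (CfsgLib.Char.isCharacter_restrict
              (CfsgLib.Char.irr_isCharacter (χ : IrrCharacter G).2) K)
            (CfsgLib.Char.irr_isCharacter hlam)
          rw [← CfsgLib.Char.classInner_conj_symm, hm, Complex.conj_natCast]
        simp only [hsym, CfsgLib.Char.classInner_def, h, Finset.mul_sum, Finset.sum_mul]
        rw [Finset.sum_comm]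
        exact Finset.sum_congr rfl fun χ _ => Finset.sum_congr rfl fun k _ => by ring
    exact congrFun hh ⟨z, Subgroup.mem_zpowers z⟩
  rw [hR]
  have h1 := LinearMap.finrank_range_add_finrank_ker Φ
  have h2 := LinearMap.finrank_range_add_finrank_ker R
  have h3 := Submodule.finrank_mono hker
  have h4 := Submodule.finrank_le (LinearMap.range Φ)
  rw [Module.finrank_fintype_fun_eq_card, Fintype.card_coe] at h4
  omega

open Classical in
/-- **The decomposition of the sum of squares.** -/
theorem exists_sum {g : ℕ} (hg : 0 < g) (hdvd : ∀ χ ∈ B, g ∣ charDegree (χ : G → ℂ)) :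
    ∃ (n : ℕ) (y deg : Fin n → ℕ),
      (∑ χ ∈ B.toFinite.toFinset, charDegree (χ : G → ℂ) ^ 2) = g * ∑ i, y i * deg i ∧
      (∀ i, y i ≠ 0 → g ∣ deg i ∧ p ^ (Nat.card G).factorization p ∣ deg i ∧ 0 < deg i) ∧
      blockRank p B ≤ (Finset.univ.filter fun i => y i ≠ 0).card := by
  obtain ⟨S⟩ := exists_splitData (k := kres M) (Λ := MonoidAlgebra (kres M) G)
  have := Fintype.ofFinite (IrrCharacter G)
  set b : MonoidAlgebra (kres M) G := (blkIdem M B : MonoidAlgebra (kres M) G) with hb
  have hbb : b * b = b := blk_idem hM hB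
  choose m hm using fun i χ => exists_nat_mult hM (prim_idem S i) χ
  -- the character of the block divided by `g`
  set f : G → ℂ := fun x => ∑ χ ∈ B.toFinite.toFinset,
    ((charDegree (χ : G → ℂ) / g : ℕ) : ℂ) * (χ : G → ℂ) x with hf
  have hfg : IsGeneralizedCharacter G f := by
    refine CfsgLib.Char.isGeneralized_of_int (fun x h => ?_) fun ξ hξ => ?_
    · simp only [hf]
      exact Finset.sum_congr rfl fun χ _ => by rw [CfsgLib.Char.irr_isClassFunction χ.2 x h]
    · refine ⟨if (⟨ξ, hξ⟩ : IrrCharacter G) ∈ B then ((charDegree ξ / g : ℕ) : ℤ) else 0, ?_⟩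
      have e : f = ∑ χ ∈ B.toFinite.toFinset,
          ((charDegree (χ : G → ℂ) / g : ℕ) : ℂ) • (χ : G → ℂ) := by
        funext x; simp [hf, Finset.sum_apply]
      rw [e, CfsgLib.Char.classInner_sum_left]
      by_cases hξB : (⟨ξ, hξ⟩ : IrrCharacter G) ∈ B
      · rw [if_pos hξB, Finset.sum_eq_single (⟨ξ, hξ⟩ : IrrCharacter G)]
        · rw [CfsgLib.Char.classInner_smul_left, CfsgLib.Char.irr_classInner_self hξ, mul_one,
            Int.cast_natCast]
        · intro c _ hc
          rw [CfsgLib.Char.classInner_smul_left,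
            CfsgLib.Char.irr_classInner_ne c.2 hξ (fun h => hc (Subtype.ext h)), mul_zero]
        · exact fun h => absurd (B.toFinite.mem_toFinset.2 hξB) h
      · rw [if_neg hξB, Finset.sum_eq_zero fun c hc => ?_, Int.cast_zero]
        rw [CfsgLib.Char.classInner_smul_left, CfsgLib.Char.irr_classInner_ne c.2 hξ (fun h =>
          hξB ((Subtype.ext h : c = ⟨ξ, hξ⟩) ▸ B.toFinite.mem_toFinset.1 hc)), mul_zero]
  have hfc : ∀ ξ : IrrCharacter G, classInner f (ξ : G → ℂ) =
      if ξ ∈ B then ((charDegree (ξ : G → ℂ) / g : ℕ) : ℂ) else 0 := by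
    intro ξ
    have e : f = ∑ χ ∈ B.toFinite.toFinset,
        ((charDegree (χ : G → ℂ) / g : ℕ) : ℂ) • (χ : G → ℂ) := by
      funext x; simp [hf, Finset.sum_apply]
    rw [e, CfsgLib.Char.classInner_sum_left]
    by_cases hξB : ξ ∈ B
    · rw [if_pos hξB, Finset.sum_eq_single ξ]
      · rw [CfsgLib.Char.classInner_smul_left, CfsgLib.Char.irr_classInner_self ξ.2, mul_one]
      · intro c _ hc
        rw [CfsgLib.Char.classInner_smul_left,
          CfsgLib.Char.irr_classInner_ne c.2 ξ.2 (fun h => hc (Subtype.ext h)), mul_zero]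
      · exact fun h => absurd (B.toFinite.mem_toFinset.2 hξB) h
    · rw [if_neg hξB, Finset.sum_eq_zero fun c hc => ?_]
      rw [CfsgLib.Char.classInner_smul_left, CfsgLib.Char.irr_classInner_ne c.2 ξ.2 (fun h =>
        hξB (Subtype.ext h ▸ B.toFinite.mem_toFinset.1 hc)), mul_zero]
  have hdeg : ∀ χ ∈ B, ((charDegree (χ : G → ℂ) / g : ℕ) : ℂ) * (g : ℂ) = (χ : G → ℂ) 1 :=
    fun χ hχ => by
      rw [← Nat.cast_mul, Nat.div_mul_cancel (hdvd χ hχ),
        CfsgLib.Block.charDegree_cast (CfsgLib.Char.irr_isCharacter χ.2)]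
  have hfsing : ∀ x, p ∣ orderOf x → f x = 0 := by
    intro x hx
    have h := sum_block_eq_zero_of_regular_singular hM hB (g := 1) (h := x)
      (by rw [orderOf_one]; exact hp.out.not_dvd_one) hx
    rw [finsum_mem_eq_finite_toFinset_sum _ B.toFinite] at h
    have h2 := congrArg conj h
    rw [map_sum, map_zero] at h2
    have hg0 : (g : ℂ) ≠ 0 := Nat.cast_ne_zero.2 hg.ne'
    refine (mul_eq_zero.1 (?_ : (g : ℂ) * f x = 0)).resolve_left hg0
    rw [← h2, hf, Finset.mul_sum]
    refine Finset.sum_congr rfl fun χ hχ => ?_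
    rw [map_mul, Complex.conj_conj, ← mul_assoc, mul_comm (g : ℂ),
      hdeg χ (B.toFinite.mem_toFinset.1 hχ), ← CfsgLib.Block.charDegree_cast (CfsgLib.Char.irr_isCharacter χ.2),
      Complex.conj_natCast]
  -- integral coordinates
  have hmem : ∀ v ∈ multSpan M G, ∃ y : Fin S.n → ℤ,
      ∀ χ, v χ = ∑ i, (y i : ℂ) * mult (prim S i) χ := by
    intro v hv
    induction hv using AddSubgroup.closure_induction with
    | mem x hx =>
      obtain ⟨j, hj, rfl⟩ := hx
      exact ⟨fun i => rk S i j, fun χ => by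
        rw [mult_expansion hM S hj]; simp [Finset.sum_apply]⟩
    | zero => exact ⟨0, fun χ => by simp⟩
    | add a c _ _ ha hc =>
      obtain ⟨y, hy⟩ := ha
      obtain ⟨z, hz⟩ := hc
      exact ⟨y + z, fun χ => by simp [hy, hz, add_mul, Finset.sum_add_distrib]⟩
    | neg a _ ha =>
      obtain ⟨y, hy⟩ := ha
      exact ⟨-y, fun χ => by simp [hy]⟩
  obtain ⟨y, hy⟩ := hmem _ (mem_multSpan_of_singular hM hfg hfsing)
  have hrk : ∀ i, (g : ℤ) * y i = (rk S i b : ℤ) := by
    have h0 := coeff_eq_zero hM S (fun i => (g : ℤ) * y i - (rk S i b : ℤ)) (fun χ => by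
      have h1 := hy χ
      simp only [hfc] at h1
      have h2 := congrFun (mult_expansion hM S hbb) χ
      rw [hb, mult_block hM hB χ] at h2
      simp only [Finset.sum_apply, Pi.smul_apply, Pi.mul_apply, Pi.natCast_apply, nsmul_eq_mul] at h2
      push_cast
      simp only [sub_mul, Finset.sum_sub_distrib, mul_assoc, ← Finset.mul_sum]
      rw [hb, ← h1, ← h2]
      split_ifs with hχ
      · rw [mul_comm, hdeg χ hχ, sub_self]
      · simp)
    exact fun i => sub_eq_zero.1 (congrFun h0 i)
  have hy0 : ∀ i, 0 ≤ y i := fun i => by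
    by_contra h
    push Not at h
    have := hrk i
    have hg' : (0 : ℤ) < g := by exact_mod_cast hg
    nlinarith [Int.natCast_nonneg (rk S i b)]
  let Y : Fin S.n → ℕ := fun i => (y i).toNat
  have hY : ∀ i, g * Y i = rk S i b := fun i => by
    have h1 : ((Y i : ℕ) : ℤ) = y i := Int.toNat_of_nonneg (hy0 i)
    have h2 := hrk i
    rw [← h1] at h2
    exact_mod_cast h2
  have hsupp : ∀ i, rk S i b ≠ 0 → ∀ χ : IrrCharacter G, χ ∉ B → m i χ = 0 := by
    intro i hi χ hχ
    have h2 := congrFun (mult_expansion hM S hbb) χ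
    rw [hb, mult_block hM hB χ, if_neg hχ] at h2
    simp only [Finset.sum_apply, Pi.smul_apply, Pi.mul_apply, Pi.natCast_apply, nsmul_eq_mul, hm] at h2
    have h3 : (0 : ℕ) = ∑ j, rk S j b * m j χ := by exact_mod_cast h2
    exact (mul_eq_zero.1 (Finset.sum_eq_zero_iff.1 h3.symm i (Finset.mem_univ i))).resolve_left hi
  refine ⟨S.n, Y, fun i => ∑ χ : IrrCharacter G, charDegree (χ : G → ℂ) * m i χ, ?_,
    fun i hi => ?_, ?_⟩
  · have h1 : ∀ χ : IrrCharacter G,
        ((if χ ∈ B then charDegree (χ : G → ℂ) else 0 : ℕ) : ℂ) = ((∑ i, rk S i b * m i χ : ℕ) : ℂ) := by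
      intro χ
      have h2 := congrFun (mult_expansion hM S hbb) χ
      rw [hb, mult_block hM hB χ] at h2
      simp only [Finset.sum_apply, Pi.smul_apply, Pi.mul_apply, Pi.natCast_apply, nsmul_eq_mul, hm] at h2
      push_cast
      rw [hb, ← h2]
      split_ifs
      · exact CfsgLib.Block.charDegree_cast (CfsgLib.Char.irr_isCharacter χ.2)
      · rfl
    have h3 : ∀ χ : IrrCharacter G,
        (if χ ∈ B then charDegree (χ : G → ℂ) else 0) = ∑ i, rk S i b * m i χ :=
      fun χ => Nat.cast_injective (h1 χ)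
    calc (∑ χ ∈ B.toFinite.toFinset, charDegree (χ : G → ℂ) ^ 2)
        = ∑ χ : IrrCharacter G, charDegree (χ : G → ℂ) *
            (if χ ∈ B then charDegree (χ : G → ℂ) else 0) := by
          simp only [mul_ite, mul_zero, ← Finset.sum_filter, ← pow_two]
          exact Finset.sum_congr (by ext χ; simp) fun _ _ => rfl
      _ = _ := by
          simp only [h3, Finset.mul_sum, ← hY]
          rw [Finset.sum_comm]
          exact Finset.sum_congr rfl fun i _ => Finset.sum_congr rfl fun χ _ => by ring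
  · have hi' : rk S i b ≠ 0 := by
      rw [← hY i]; exact mul_ne_zero hg.ne' hi
    refine ⟨Finset.dvd_sum fun χ _ => ?_, ?_, ?_⟩
    · by_cases hχ : χ ∈ B
      · exact Dvd.dvd.mul_right (hdvd χ hχ) _
      · rw [hsupp i hi' χ hχ, mul_zero]; exact dvd_zero _
    · obtain ⟨e, he, hre⟩ := exists_idem_lift hM (prim_idem S i)
      set D := ∑ χ : IrrCharacter G, charDegree (χ : G → ℂ) * m i χ with hD
      have hcast : (D : ℂ) = (Nat.card G : ℂ) * (toC e).coeff 1 := by
        rw [hD, Nat.cast_sum]
        have ht : ∀ χ : IrrCharacter G, ((charDegree (χ : G → ℂ) * m i χ : ℕ) : ℂ) =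
            ∑ x, (toC e).coeff x * ((χ : G → ℂ) x * conj ((χ : G → ℂ) 1)) := fun χ => by
          rw [Nat.cast_mul, ← hm, mult_eq hM he hre χ, tval_eq_sum, Finset.mul_sum]
          refine Finset.sum_congr rfl fun x _ => ?_
          rw [← CfsgLib.Block.charDegree_cast (CfsgLib.Char.irr_isCharacter χ.2), Complex.conj_natCast]
          ring
        simp only [ht]
        rw [Finset.sum_comm]
        simp only [← Finset.mul_sum, CfsgLib.Char.column_orthogonality]
        rw [Finset.sum_eq_single 1]
        · rw [if_pos (IsConj.refl 1),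
            show Subgroup.centralizer ({1} : Set G) = ⊤ from eq_top_iff.2 fun g _ =>
              Subgroup.mem_centralizer_singleton_iff.2 (by simp), Subgroup.card_top, mul_comm]
        · intro x _ hx
          rw [if_neg, mul_zero]
          rwa [isConj_one_left]
        · simp
      set a := (Nat.card G).factorization p with ha
      show p ^ a ∣ D
      by_contra hnd
      have hD0 : D ≠ 0 := fun h => hnd (h ▸ dvd_zero _)
      have hlt : D.factorization p < a := by
        by_contra hle
        exact hnd ((hp.out.pow_dvd_iff_le_factorization hD0).2 (not_lt.1 hle))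
      have hm0 : Nat.card G ≠ 0 := Nat.card_pos.ne'
      have h1 : MemLocalIdeal M ((Nat.card G : ℂ) / (D : ℂ)) :=
        memLocalIdeal_natCast_div hM hD0 (Or.inr hlt)
      have h2 : MemLocalRing M ((toC e).coeff 1) := by rw [coeff_toC]; exact (e.coeff 1).2
      have h3 := memLocalIdeal_mul_left h2 h1
      rw [mul_div_assoc', mul_comm, ← hcast,
        div_self (Nat.cast_ne_zero.2 hD0)] at h3
      exact not_memLocalIdeal_one h3
    · refine Nat.pos_of_ne_zero fun h0 => ?_
      have hz : ∀ χ, m i χ = 0 := fun χ => (mul_eq_zero.1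
        (Finset.sum_eq_zero_iff.1 h0 χ (Finset.mem_univ χ))).resolve_left (charDegree_ne_zero χ.2)
      have := congrFun (coeff_eq_zero hM S (Pi.single i 1) (fun χ => by
        rw [Finset.sum_eq_single i]
        · simp [hm, hz]
        · intro j _ hj; simp [Pi.single_eq_of_ne hj]
        · simp)) i
      simp at this
  · refine le_trans (blockRank_le_filter hM hB S) (Finset.card_le_card ?_)
    intro i hi
    simp only [Finset.mem_filter, Finset.mem_univ, true_and] at hi ⊢
    intro h
    exact hi (by rw [← hb, ← hY i, h, mul_zero])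

omit [IsAlgClosed (kres M)] in
open Classical in
/-- The `p`-part: the sum of squares is `|G|` times a unit times the minimal degree `p`-part. -/
theorem sum_sq_not_dvd {k : ℕ}
    (hk : k = sInf ((fun ψ : IrrCharacter G => (charDegree (ψ : G → ℂ)).factorization p) '' B)) :
    ¬ p ^ ((Nat.card G).factorization p + k + 1) ∣
      ∑ χ ∈ B.toFinite.toFinset, charDegree (χ : G → ℂ) ^ 2 := by
  set a := (Nat.card G).factorization p with ha
  obtain ⟨c, hc, hexp⟩ := exists_blockCoeff_expansion hM hB
  obtain ⟨χ₀, hχ₀, hχ₀k⟩ : ∃ χ ∈ B, (charDegree (χ : G → ℂ)).factorization p = k := by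
    obtain ⟨χ, hχ, he⟩ := Nat.sInf_mem ((isPBlock_nonempty hB).image
      (fun ψ : IrrCharacter G => (charDegree (ψ : G → ℂ)).factorization p))
    exact ⟨χ, hχ, he.trans hk.symm⟩
  set r := regPair p (χ₀ : G → ℂ) (χ₀ : G → ℂ) / (χ₀ : G → ℂ) 1 with hr
  have h1 : (∑ᶠ χ ∈ B, c χ * (regPair p (χ : G → ℂ) (χ₀ : G → ℂ) / (χ₀ : G → ℂ) 1)) = 1 := by
    have h := omegaC_blockSum B χ₀
    rw [if_pos hχ₀, omegaC_eq] at h
    refine Eq.trans ?_ h
    rw [finsum_mem_eq_finite_toFinset_sum _ B.toFinite, Finset.sum_div]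
    rw [Finset.sum_congr rfl fun χ _ => by
      rw [regPair_symm p (χ : G → ℂ) (χ₀ : G → ℂ)]]
    simp only [regPair, Finset.sum_div, Finset.mul_sum]
    rw [Finset.sum_comm]
    refine Finset.sum_congr rfl fun g _ => ?_
    rw [blockSum, coeff_mkGA, regInd]
    by_cases hg : p ∣ orderOf g
    · simp [hg, blockCoeff_eq_zero_of_singular hM hB hg]
    · rw [hexp g hg, finsum_mem_eq_finite_toFinset_sum _ B.toFinite, Finset.sum_mul, Finset.sum_div]
      refine Finset.sum_congr rfl fun χ _ => ?_
      simp only [hg, if_false, one_mul]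
      ring
  rw [finsum_mem_eq_finite_toFinset_sum _ B.toFinite] at h1
  set T := ∑ χ ∈ B.toFinite.toFinset,
    c χ * ((charDegree (χ : G → ℂ) : ℂ) / (charDegree (χ₀ : G → ℂ) : ℂ)) with hT
  have hrat : ∀ χ ∈ B, MemLocalRing M
      ((charDegree (χ : G → ℂ) : ℂ) / (charDegree (χ₀ : G → ℂ) : ℂ)) := fun χ hχ =>
    memLocalRing_natCast_div hM (charDegree_ne_zero χ₀.2)
      (Or.inr (by rw [hχ₀k, hk]; exact Nat.sInf_le ⟨χ, hχ, rfl⟩))
  have hdiff : MemLocalIdeal M (1 - r * T) := by
    rw [← h1, hT, Finset.mul_sum, ← Finset.sum_sub_distrib]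
    refine memLocalIdeal_sum _ _ fun χ hχ => ?_
    have hχB := B.toFinite.mem_toFinset.1 hχ
    have h2 := memLocalIdeal_regPair_div_sub hM (CfsgLib.Char.irr_isClassFunction χ₀.2)
      (memLocalRing_irr_apply χ₀) (sameBlock_of_mem hB hχB hχ₀)
    have h3 := memLocalIdeal_mul_left (memLocalRing_mul (hc χ) (hrat χ hχB)) h2
    convert h3 using 1
    rw [regPair_symm p (χ₀ : G → ℂ) (χ : G → ℂ), hr,
      CfsgLib.Block.charDegree_cast (CfsgLib.Char.irr_isCharacter χ.2),
      CfsgLib.Block.charDegree_cast (CfsgLib.Char.irr_isCharacter χ₀.2)]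
    have := CfsgLib.Char.irr_apply_one_ne_zero χ.2
    have := CfsgLib.Char.irr_apply_one_ne_zero χ₀.2
    field_simp
  have hTu : ¬ MemLocalIdeal M T := fun h => not_memLocalIdeal_one (M := M) (by
    have h2 := memLocalIdeal_add hdiff (memLocalIdeal_mul_left
      (memLocalRing_regPair_div hM (CfsgLib.Char.irr_isClassFunction χ₀.2)
        (memLocalRing_irr_apply χ₀) χ₀) h)
    rwa [← hr, sub_add_cancel] at h2)
  -- the value at the identity
  set Ssum := ∑ χ ∈ B.toFinite.toFinset, charDegree (χ : G → ℂ) ^ 2 with hS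
  have hval : (Ssum : ℂ) = (Nat.card G : ℂ) * (charDegree (χ₀ : G → ℂ) : ℂ) * T := by
    have h2 : blockCoeff B 1 = ∑ χ ∈ B.toFinite.toFinset, c χ * (χ : G → ℂ) 1 := by
      rw [hexp 1 (by rw [orderOf_one]; exact hp.out.not_dvd_one),
        finsum_mem_eq_finite_toFinset_sum _ B.toFinite, inv_one]
    rw [blockCoeff, finsum_mem_eq_finite_toFinset_sum _ B.toFinite] at h2
    have h3 : (Nat.card G : ℂ)⁻¹ * (Ssum : ℂ) =
        (charDegree (χ₀ : G → ℂ) : ℂ) * T := by
      have e1 : (Ssum : ℂ) = ∑ χ ∈ B.toFinite.toFinset,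
          (χ : G → ℂ) 1 * conj ((χ : G → ℂ) 1) := by
        rw [hS, Nat.cast_sum]
        refine Finset.sum_congr rfl fun χ _ => ?_
        rw [← CfsgLib.Block.charDegree_cast (CfsgLib.Char.irr_isCharacter χ.2), Complex.conj_natCast]
        push_cast; ring
      rw [e1, h2, hT, Finset.mul_sum]
      refine Finset.sum_congr rfl fun χ _ => ?_
      rw [← CfsgLib.Block.charDegree_cast (CfsgLib.Char.irr_isCharacter χ.2)]
      have : (charDegree (χ₀ : G → ℂ) : ℂ) ≠ 0 := Nat.cast_ne_zero.2 (charDegree_ne_zero χ₀.2)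
      field_simp
    rw [mul_assoc, ← h3, ← mul_assoc, mul_inv_cancel₀ CfsgLib.Char.natCard_ne_zero, one_mul]
  intro hdvd
  apply hTu
  set d₀ := charDegree (χ₀ : G → ℂ) with hd₀
  have hne : Nat.card G * d₀ ≠ 0 := mul_ne_zero Nat.card_pos.ne' (charDegree_ne_zero χ₀.2)
  have hT' : T = (Ssum : ℂ) / ((Nat.card G * d₀ : ℕ) : ℂ) := by
    rw [hval]; push_cast
    have : ((Nat.card G * d₀ : ℕ) : ℂ) ≠ 0 := Nat.cast_ne_zero.2 hne
    push_cast at this
    rw [mul_div_cancel_left₀ _ this]
  rw [hT']
  refine memLocalIdeal_natCast_div hM hne ?_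
  by_cases h0 : Ssum = 0
  · exact Or.inl h0
  refine Or.inr ?_
  have h4 := (hp.out.pow_dvd_iff_le_factorization h0).1 hdvd
  rw [Nat.factorization_mul Nat.card_pos.ne' (charDegree_ne_zero χ₀.2), Finsupp.add_apply, hχ₀k,
    ← ha]
  omega

end CfsgLib.BlockA.BlockSquares
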