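import Cfsg.Agent.Lib.BlockA.BrauerPair
import Mathlib.GroupTheory.Nilpotent

/-! Inclusion of Brauer pairs: values along chains, existence and uniqueness of subpairs. -/

set_option autoImplicit false
set_option linter.unusedSectionVars false

namespace CfsgLib.BlockA

open Cfsg CfsgLib.Block MonoidAlgebra

universe u

variable {G : Type u} [Group G] [Finite G] {p : ℕ} {M : Ideal AlgInt} [M.IsPrime]

local notation "cen" Q => Subgroup.centralizer ((Q : Subgroup G) : Set G)

theorem subpairLE_le {P Q : Subgroup G} {e : Set (IrrCharacter (cen P))}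
    {f : Set (IrrCharacter (cen Q))} (h : SubpairLE p M Q f P e) : Q ≤ P := by
  suffices H : ∀ a b : BrauerPairIdx G, Relation.ReflTransGen (NormalSubpairRel p M) a b →
      a.1 ≤ b.1 from H _ _ h
  intro a b hab
  induction hab with
  | refl => exact le_rfl
  | tail _ hs ih => exact le_trans ih hs.2.2.1

theorem isBrauerPair_of_subpairLE {P Q : Subgroup G} {e : Set (IrrCharacter (cen P))}
    {f : Set (IrrCharacter (cen Q))} (he : IsBrauerPair p M P e) (h : SubpairLE p M Q f P e) :
    IsBrauerPair p M Q f := by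
  rcases Relation.ReflTransGen.cases_head h with h1 | ⟨c, h1, -⟩
  · obtain ⟨rfl, h2⟩ := Sigma.mk.inj_iff.1 h1
    rw [eq_of_heq h2]
    exact he
  · exact h1.1

theorem isPInv_mono {R P : Subgroup G} (h : R ≤ P) {a : MonoidAlgebra (kres M) G}
    (ha : IsPInv P a) : IsPInv R a := fun u hu => ha u (h hu)

theorem isPInv_one_sub {P : Subgroup G} {a : MonoidAlgebra (kres M) G} (ha : IsPInv P a) :
    IsPInv P (1 - a) := by
  intro u hu x
  have h1 := isPInv_of_isClassCoeff (k := kres M)
    (isClassCoeff_iff_mem_center.2 (Subalgebra.one_mem _)) P u hu x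
  simp only [coeff_sub, Finsupp.sub_apply, h1, ha u hu x]

variable (hM : IsPModular p M)
include hM

theorem mul_blkIdem_of_lam_eq_one {H : Type u} [Group H] [Finite H]
    {w : Subalgebra.center (kres M) (MonoidAlgebra (kres M) H)} (hw : w * w = w)
    {g : Set (IrrCharacter H)} (hg : IsPBlock M g) {η : IrrCharacter H} (hη : η ∈ g)
    (h : lam M η w = 1) : w * blkIdem M g = blkIdem M g := by
  classical
  by_contra hne
  have hd : blkIdem M g - w * blkIdem M g ≠ 0 := fun h0 => hne (sub_eq_zero.1 h0).symm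
  have hid : (blkIdem M g - w * blkIdem M g) * (blkIdem M g - w * blkIdem M g) =
      blkIdem M g - w * blkIdem M g := by
    have h1 : (1 - w) * (1 - w) = 1 - w := by
      apply Subtype.ext
      have hw' := congrArg Subtype.val hw
      simp only [MulMemClass.coe_mul] at hw'
      simp [sub_mul, mul_sub, hw']
    have h2 : blkIdem M g - w * blkIdem M g = (1 - w) * blkIdem M g := by
      apply Subtype.ext
      simp [sub_mul]
    rw [h2, mul_mul_mul_comm, h1, blkIdem_idem hM hg]
  obtain ⟨χ, hχ⟩ := exists_lam_eq_one_of_idem hM hid hd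
  rw [map_sub, map_mul, lam_blkIdem hM hg] at hχ
  split_ifs at hχ with hm
  · rw [← lam_eq_of_sameBlock (sameBlock_of_mem hg hη hm), h, mul_one, sub_self] at hχ
    exact zero_ne_one hχ
  · rw [mul_zero, sub_self] at hχ
    exact zero_ne_one hχ

/-- The value 1 goes up along a normal inclusion. -/
theorem pairVal_eq_one_of_step {R P : Subgroup G} {g : Set (IrrCharacter (cen R))}
    {h : Set (IrrCharacter (cen P))} (hs : IsNormalSubpair p M R g P h)
    {z : MonoidAlgebra (kres M) G} (hidem : z * z = z) (hP : IsPInv P z) (hc : IsCInv R z)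
    {η : IrrCharacter (cen R)} (hη : η ∈ g) {ξ : IrrCharacter (cen P)} (hξ : ξ ∈ h)
    (hv : pairVal R η z = 1) : pairVal P ξ z = 1 := by
  obtain ⟨hRP, hPN, hst, hg1⟩ := (isNormalSubpair_iff hM hξ hs.2.1 hs.1).1 hs
  set w : Subalgebra.center (kres M) (MonoidAlgebra (kres M) (cen R)) :=
    ⟨resSub (cen R) z, isClassCoeff_iff_mem_center.1 hc⟩ with hw
  have hwid : w * w = w := by
    apply Subtype.ext
    rw [MulMemClass.coe_mul]
    show resSub (cen R) z * resSub (cen R) z = resSub (cen R) z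
    rw [← resSub_mul hM hs.1.1 (isPInv_mono hRP hP) (isPInv_mono hRP hP), hidem]
  rw [pairVal_eq η hc] at hv
  have hwg := mul_blkIdem_of_lam_eq_one hM hwid hs.1.2 hη hv
  have hwp : IsPInv P (inclSub (cen R) (w : MonoidAlgebra (kres M) (cen R))) := by
    intro u hu x
    have hu' := normalizer_le_normalizer_centralizer hM R (hPN hu)
    by_cases hx : x ∈ cen R
    · have hx' := (Subgroup.mem_normalizer_iff.1 hu' x).1 hx
      rw [show u * x * u⁻¹ = ((⟨_, hx'⟩ : (cen R)) : G) from rfl,
        coeff_inclSub_of_mem]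
      conv_rhs => rw [show x = ((⟨x, hx⟩ : (cen R)) : G) from rfl, coeff_inclSub_of_mem]
      simp only [hw, coeff_resSub]
      exact hP u hu x
    · have hx' : u * x * u⁻¹ ∉ cen R := fun h' =>
        hx ((Subgroup.mem_normalizer_iff.1 hu' x).2 h')
      rw [coeff_inclSub_of_not_mem _ _ hx, coeff_inclSub_of_not_mem _ _ hx']
  have hle := centralizer_le_centralizer (G := G) hRP
  have hres : resSub (cen P) (inclSub (cen R) (w : MonoidAlgebra (kres M) (cen R))) =
      resSub (cen P) z := by
    ext c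
    rw [coeff_resSub, coeff_resSub,
      show (c : G) = ((⟨c, hle c.2⟩ : (cen R)) : G) from rfl, coeff_inclSub_of_mem]
    simp only [hw, coeff_resSub]
  have hcP : IsCInv P (inclSub (cen R) (w : MonoidAlgebra (kres M) (cen R))) := by
    rw [IsCInv, hres]; exact isCInv_of_le hRP hc
  have hm := (pairVal_mul hM hs.2.1.1 ξ hwp (isPInv_sIdem_of_stable hM hPN hs.1.2 hst) hcP
    (isCInv_sIdem hM hRP g)).2
  rw [hg1, mul_one] at hm
  have e1 : inclSub (cen R) (w : MonoidAlgebra (kres M) (cen R)) * sIdem M (cen R) g =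
      sIdem M (cen R) g := by
    rw [sIdem, ← map_mul, ← MulMemClass.coe_mul, hwg]
  rw [e1, hg1] at hm
  rw [hm, pairVal_eq ξ hcP, pairVal_eq ξ (isCInv_of_le hRP hc)]
  exact congrArg (lam M ξ) (Subtype.ext hres.symm)

/-- The value is constant along inclusions. -/
theorem pairVal_eq_of_le {R X : Subgroup G} {g : Set (IrrCharacter (cen R))}
    {h : Set (IrrCharacter (cen X))} (hle : SubpairLE p M R g X h)
    (hRg : IsBrauerPair p M R g)
    {z : MonoidAlgebra (kres M) G} (hidem : z * z = z) (hP : IsPInv X z) (hc : IsCInv R z)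
    {η : IrrCharacter (cen R)} (hη : η ∈ g) {ξ : IrrCharacter (cen X)} (hξ : ξ ∈ h) :
    pairVal R η z = pairVal X ξ z := by
  suffices H : ∀ b : BrauerPairIdx G, Relation.ReflTransGen (NormalSubpairRel p M) ⟨R, g⟩ b →
      R ≤ b.1 ∧ IsBrauerPair p M b.1 b.2 ∧ (IsPInv b.1 z → ∀ ξ' ∈ b.2,
        pairVal R η z = pairVal b.1 ξ' z) from (H ⟨X, h⟩ hle).2.2 hP ξ hξ
  intro b hb
  induction hb with
  | refl =>
    exact ⟨le_rfl, hRg, fun _ ξ' hξ' => pairVal_congr (sameBlock_of_mem hRg.2 hη hξ') z⟩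
  | @tail b c _ hs ih =>
    refine ⟨le_trans ih.1 hs.2.2.1, hs.2.1, fun hPc ξ' hξ' => ?_⟩
    obtain ⟨η', hη'⟩ := isPBlock_nonempty hs.1.2
    have hPb := isPInv_mono hs.2.2.1 hPc
    rw [ih.2.2 hPb η' hη']
    have hcb := isCInv_of_le ih.1 hc
    rcases pairVal_idem hM hs.1.1 η' hPb hcb hidem with h0 | h1
    · rw [h0]
      have h2 := pairVal_eq_one_of_step hM hs (z := 1 - z)
        (by rw [sub_mul, mul_sub, mul_sub, hidem]; simp) (isPInv_one_sub hPc)
        (isCInv_sub (isCInv_one _) hcb) hη' hξ'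
        (by rw [pairVal_sub η' (isCInv_one _) hcb, pairVal_one, h0, sub_zero])
      rw [pairVal_sub ξ' (isCInv_one _) (isCInv_of_le hs.2.2.1 hcb), pairVal_one,
        sub_eq_self] at h2
      exact h2.symm
    · rw [h1, pairVal_eq_one_of_step hM hs hidem hPc hcb hη' hξ' h1]

/-- **Every pair belongs to exactly one block.** -/
theorem existsUnique_block {P : Subgroup G} {e : Set (IrrCharacter (cen P))}
    (he : IsBrauerPair p M P e) : ∃! B : Set (IrrCharacter G), IsBrauerPairOf p M B P e := by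
  classical
  have := Fact.mk hM.1
  have := charP_kres hM
  obtain ⟨ξ, hξ⟩ := isPBlock_nonempty he.2
  let β := brHom (k := kres M) he.1 (le_refl (cen P)) (Subgroup.centralizer_le_normalizer _)
  obtain ⟨χ, hχ⟩ := exists_eq_lam hM ((lam M ξ).comp β)
  have hval : ∀ z : Subalgebra.center (kres M) (MonoidAlgebra (kres M) G),
      pairVal P ξ (z : MonoidAlgebra (kres M) G) = lam M χ z := by
    intro z
    rw [← hχ, AlgHom.comp_apply, pairVal_eq ξ (isCInv_of_isClassCoeff (isClassCoeff_center z))]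
    exact congrArg (lam M ξ) (Subtype.ext (resSub_eq_brRes P _))
  refine ⟨blockOf M (χ : G → ℂ), ?_, fun B hB => ?_⟩
  · show IsBrauerPairOf p M _ P e
    rw [isBrauerPairOf_iff hM he (isPBlock_blockOf χ) hξ, hval,
      algHom_blkIdem_eq_one_iff hM (isPBlock_blockOf χ)]
    exact mem_blockOf_self χ
  · have h := (isBrauerPairOf_iff hM he hB.2.1 hξ).1 hB
    rw [hval, algHom_blkIdem_eq_one_iff hM hB.2.1] at h
    exact isPBlock_eq_blockOf hB.2.1 h

theorem isBrauerPairOf_iff_of_le {P Q : Subgroup G} {e : Set (IrrCharacter (cen P))}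
    {f : Set (IrrCharacter (cen Q))} (he : IsBrauerPair p M P e)
    (hle : SubpairLE p M Q f P e) {B : Set (IrrCharacter G)} (hB : IsPBlock M B) :
    IsBrauerPairOf p M B P e ↔ IsBrauerPairOf p M B Q f := by
  have hf := isBrauerPair_of_subpairLE he hle
  obtain ⟨ξ, hξ⟩ := isPBlock_nonempty he.2
  obtain ⟨η, hη⟩ := isPBlock_nonempty hf.2
  rw [isBrauerPairOf_iff hM he hB hξ, isBrauerPairOf_iff hM hf hB hη,
    pairVal_eq_of_le hM hle hf (by rw [← MulMemClass.coe_mul, blkIdem_idem hM hB])
      (isPInv_of_isClassCoeff (isClassCoeff_center _) P)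
      (isCInv_of_isClassCoeff (isClassCoeff_center _)) hη hξ]

/-- A normal inclusion of a pair in itself. -/
theorem normalSubpair_self {Q : Subgroup G} {f g : Set (IrrCharacter (cen Q))}
    (h : IsNormalSubpair p M Q f Q g) : f = g := by
  classical
  obtain ⟨ξ, hξ⟩ := isPBlock_nonempty h.2.1.2
  obtain ⟨-, -, -, hv⟩ := (isNormalSubpair_iff hM hξ h.2.1 h.1).1 h
  rw [pairVal_eq ξ (isCInv_sIdem hM le_rfl f)] at hv
  have e : (⟨resSub (cen Q) (sIdem M (cen Q) f), isClassCoeff_iff_mem_center.1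
      (isCInv_sIdem hM le_rfl f)⟩ : Subalgebra.center (kres M) (MonoidAlgebra (kres M) (cen Q))) =
      blkIdem M f := Subtype.ext (resSub_inclSub _ _)
  rw [e, algHom_blkIdem_eq_one_iff hM h.1.2] at hv
  exact isPBlock_eq_of_mem h.1.2 h.2.1.2 hv hξ

theorem exists_first_step {P Q : Subgroup G} {e : Set (IrrCharacter (cen P))}
    {f : Set (IrrCharacter (cen Q))} (h : SubpairLE p M Q f P e) (hne : Q ≠ P) :
    ∃ (R : Subgroup G) (g : Set (IrrCharacter (cen R))),
      R ≠ Q ∧ IsNormalSubpair p M Q f R g ∧ SubpairLE p M R g P e := by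
  suffices H : ∀ a : BrauerPairIdx G, Relation.ReflTransGen (NormalSubpairRel p M) a ⟨P, e⟩ →
      a.1 ≠ P → ∃ b : BrauerPairIdx G, b.1 ≠ a.1 ∧ NormalSubpairRel p M a b ∧
        Relation.ReflTransGen (NormalSubpairRel p M) b ⟨P, e⟩ by
    obtain ⟨b, h1, h2, h3⟩ := H ⟨Q, f⟩ h hne
    exact ⟨b.1, b.2, h1, h2, h3⟩
  intro a ha
  induction ha using Relation.ReflTransGen.head_induction_on with
  | refl => exact fun h => absurd rfl h
  | @head a c hs hc ih =>
    intro haP
    by_cases hac : c.1 = a.1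
    · obtain ⟨R, g⟩ := c
      obtain ⟨Q', f'⟩ := a
      dsimp only at hac haP ih ⊢
      subst hac
      have := normalSubpair_self hM (show IsNormalSubpair p M R f' R g from hs)
      subst this
      exact ih haP
    · exact ⟨c, hac, hs, hc⟩

theorem lt_normalizer_inf {P Q : Subgroup G} (hP : IsPGroup p P) (hQP : Q ≤ P) (hne : Q ≠ P) :
    Q < P ⊓ Subgroup.normalizer (Q : Set G) := by
  have := Fact.mk hM.1
  refine lt_of_le_of_ne (le_inf hQP Subgroup.le_normalizer) fun heq => hne ?_
  have hnc : NormalizerCondition P := by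
    have := IsPGroup.isNilpotent hP
    exact normalizerCondition_of_isNilpotent
  refine le_antisymm hQP (Subgroup.subgroupOf_eq_top.1 ?_)
  by_contra hne'
  obtain ⟨x, hxn, hxQ⟩ := SetLike.exists_of_lt (hnc (Q.subgroupOf P) (lt_top_iff_ne_top.2 hne'))
  apply hxQ
  rw [Subgroup.mem_subgroupOf, heq]
  refine ⟨x.2, Subgroup.mem_normalizer_iff.2 fun q => ?_⟩
  have h1 := Subgroup.mem_normalizer_iff.1 hxn
  constructor
  · intro hq
    exact (h1 ⟨q, hQP hq⟩).1 hq
  · intro hq
    have hqP : q ∈ P := by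
      have := P.mul_mem (P.mul_mem (P.inv_mem x.2) (hQP hq)) x.2
      simpa [mul_assoc] using this
    exact (h1 ⟨q, hqP⟩).2 hq

/-- **Existence of subpairs.** -/
theorem exists_subpair {P : Subgroup G} {e : Set (IrrCharacter (cen P))}
    (he : IsBrauerPair p M P e) : ∀ (n : ℕ) (Q : Subgroup G), Q ≤ P →
      Nat.card P - Nat.card Q = n → ∃ f, IsPBlock M f ∧ SubpairLE p M Q f P e := by
  intro n
  induction n using Nat.strong_induction_on with
  | _ n ih =>
    intro Q hQP hn
    by_cases hne : Q = P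
    · subst hne
      exact ⟨e, he.2, Relation.ReflTransGen.refl⟩
    have hlt := lt_normalizer_inf hM he.1 hQP hne
    have hc : Nat.card Q < Nat.card ↥(P ⊓ Subgroup.normalizer (Q : Set G)) :=
      lt_of_le_of_ne (Subgroup.card_le_of_le hlt.le)
        fun h => hlt.ne (Subgroup.eq_of_le_of_card_ge hlt.le h.ge)
    have hcP : Nat.card ↥(P ⊓ Subgroup.normalizer (Q : Set G)) ≤ Nat.card P :=
      Subgroup.card_le_of_le inf_le_left
    obtain ⟨g, hg, hgle⟩ := ih _ (by omega) (P ⊓ Subgroup.normalizer (Q : Set G)) inf_le_left rfl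
    obtain ⟨f, hf⟩ := exists_normalSubpair hM (isBrauerPair_of_subpairLE he hgle) hlt.le inf_le_right
    exact ⟨f, hf.1.2, Relation.ReflTransGen.head (show NormalSubpairRel p M ⟨Q, f⟩ ⟨_, g⟩ from hf) hgle⟩

/-- **Uniqueness of subpairs.** -/
theorem subpair_unique {P : Subgroup G} {e : Set (IrrCharacter (cen P))}
    (he : IsBrauerPair p M P e) : ∀ (n : ℕ) (Q : Subgroup G),
      Nat.card P - Nat.card Q = n → ∀ f f' : Set (IrrCharacter (cen Q)),
        SubpairLE p M Q f P e → SubpairLE p M Q f' P e → f = f' := by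
  intro n
  induction n using Nat.strong_induction_on with
  | _ n ih =>
    intro Q hn f f' hf hf'
    have hQP := subpairLE_le hf
    by_cases hne : Q = P
    · subst hne
      have aux : ∀ f : Set (IrrCharacter (cen Q)), SubpairLE p M Q f Q e → f = e := by
        intro f hf
        suffices H : ∀ a : BrauerPairIdx G, Relation.ReflTransGen (NormalSubpairRel p M) a ⟨Q, e⟩ →
            Q ≤ a.1 → a = ⟨Q, e⟩ by
          have := H ⟨Q, f⟩ hf le_rfl
          exact eq_of_heq (Sigma.mk.inj_iff.1 this).2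
        intro a ha
        induction ha using Relation.ReflTransGen.head_induction_on with
        | refl => exact fun _ => rfl
        | @head a c hs hc ih2 =>
          intro hQa
          obtain rfl := ih2 (le_trans hQa hs.2.2.1)
          obtain ⟨Q', f1⟩ := a
          dsimp only at hQa
          obtain rfl : Q' = Q := le_antisymm hs.2.2.1 hQa
          have := normalSubpair_self hM (show IsNormalSubpair p M Q' f1 Q' e from hs)
          subst this
          rfl
      rw [aux f hf, aux f' hf']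
    set R₀ := P ⊓ Subgroup.normalizer (Q : Set G) with hR₀
    have hlt := lt_normalizer_inf hM he.1 hQP hne
    obtain ⟨h, hh, hhle⟩ := exists_subpair hM he _ R₀ inf_le_left rfl
    have hR0h := isBrauerPair_of_subpairLE he hhle
    obtain ⟨f₀, hf₀⟩ := exists_normalSubpair hM hR0h hlt.le inf_le_right
    have key : ∀ f, SubpairLE p M Q f P e → f = f₀ := by
      intro f hf
      obtain ⟨R, g, hRQ, hs, hle⟩ := exists_first_step hM hf hne
      have hRP := subpairLE_le hle
      have hRR : R ≤ R₀ := le_inf hRP hs.2.2.2.1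
      have hcard : Nat.card Q < Nat.card R :=
        lt_of_le_of_ne (Subgroup.card_le_of_le hs.2.2.1)
          fun h => hRQ (Subgroup.eq_of_le_of_card_ge hs.2.2.1 h.ge).symm
      have hcRP : Nat.card R ≤ Nat.card P := Subgroup.card_le_of_le hRP
      obtain ⟨g', hg', hg'le⟩ := exists_subpair hM hR0h _ R hRR rfl
      have hgg : g = g' :=
        ih _ (by omega) R rfl g g' hle (Relation.ReflTransGen.trans hg'le hhle)
      subst hgg
      obtain ⟨η, hη⟩ := isPBlock_nonempty hs.2.1.2
      obtain ⟨ξ, hξ⟩ := isPBlock_nonempty hh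
      obtain ⟨h1, h2, h3, h4⟩ := (isNormalSubpair_iff hM hξ hR0h hf₀.1).1 hf₀
      refine normalSubpair_unique hM hs ((isNormalSubpair_iff hM hη hs.2.1 hf₀.1).2
        ⟨hs.2.2.1, hs.2.2.2.1, fun x hx => h3 x (hRR hx), ?_⟩)
      rw [pairVal_eq_of_le hM hg'le hs.2.1 (sIdem_idem hM hf₀.1.2)
        (isPInv_sIdem_of_stable hM h2 hf₀.1.2 h3) (isCInv_sIdem hM hs.2.2.1 f₀) hη hξ, h4]
    rw [key f hf, key f' hf']

end CfsgLib.BlockA
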