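import Cfsg.Agent.Lib.BlockA.MajorForm

/-!
The number of characters of a block through a major subsection whose dominated block has defect
one.
-/

set_option autoImplicit false
set_option linter.unusedSectionVars false
set_option maxHeartbeats 800000

namespace CfsgLib.BlockA.BrauerFeit

open Cfsg CfsgLib.Block CfsgLib.BlockB CfsgLib.BlockA.Dominated
open scoped ComplexConjugate

universe u

/-- The structure of a block of defect one: `e` non-exceptional members and `m` exceptional ones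
with `e * m + 1 = p`, agreeing on the regular elements up to one signed relation. -/
def IsStar {H : Type u} [Group H] (p : ℕ) (c : Set (IrrCharacter H)) : Prop :=
  ∃ (X Y : Finset (IrrCharacter H)) (δ : IrrCharacter H → ℤ) (δ₀ : ℤ),
    (∀ η, η ∈ c ↔ η ∈ X ∨ η ∈ Y) ∧ Disjoint X Y ∧ 1 ≤ Y.card ∧ X.card * Y.card + 1 = p ∧
      blockRank p c = X.card ∧ (∀ χ ∈ X, δ χ = 1 ∨ δ χ = -1) ∧ (δ₀ = 1 ∨ δ₀ = -1) ∧
        ∀ ψ ∈ Y, ∀ g : H, ¬ p ∣ orderOf g →
          (δ₀ : ℂ) * (ψ : H → ℂ) g + ∑ χ ∈ X, (δ χ : ℂ) * (χ : H → ℂ) g = 0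

theorem classInner_reg_reg {H : Type u} [Group H] [Fintype H] (p : ℕ) (f g : H → ℂ) :
    classInner (fun x => regInd p x * f x) g =
      classInner (fun x => regInd p x * f x) (fun x => regInd p x * g x) := by
  rw [CfsgLib.Char.classInner_def, CfsgLib.Char.classInner_def]
  congr 1
  refine Finset.sum_congr rfl fun x _ => ?_
  unfold regInd
  split_ifs <;> simp

section Star

variable {H : Type u} [Group H] [Fintype H] {p : ℕ} {M : Ideal AlgInt} [M.IsPrime]
variable (hM : IsPModular p M) {c : Set (IrrCharacter H)} (hc : IsPBlock M c)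
include hM hc

/-- **The regular pairing of a block of defect one.** -/
theorem exists_coords (h : IsStar p c) :
    ∃ (X : Finset (IrrCharacter H)) (m : ℕ) (a : IrrCharacter H → IrrCharacter H → ℤ),
      1 ≤ m ∧ X.card * m + 1 = p ∧ blockRank p c = X.card ∧
        ∀ η ∈ c, ∀ η' ∈ c,
          (p : ℂ) * classInner (fun x => regInd p x * (η : H → ℂ) x) (η' : H → ℂ) =
            (p : ℂ) * (∑ i ∈ X, (a η i : ℂ) * (a η' i : ℂ)) -
              (m : ℂ) * ((∑ i ∈ X, (a η i : ℂ)) * ∑ i ∈ X, (a η' i : ℂ)) := by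
  classical
  have := Fintype.ofFinite (IrrCharacter H)
  obtain ⟨X, Y, δ, δ₀, hmem, hdis, hY, hp, hr, hδ, hδ₀, hrel⟩ := h
  set m := Y.card with hm
  let a : IrrCharacter H → IrrCharacter H → ℤ := fun η i =>
    if η ∈ X then (if η = i then δ η else 0) else -δ₀
  let R : (H → ℂ) → (H → ℂ) := fun f x => regInd p x * f x
  let f : IrrCharacter H → (H → ℂ) := fun i => (δ i : ℂ) • R (i : H → ℂ)
  have hδ2 : ∀ i ∈ X, (δ i : ℂ) * (δ i : ℂ) = 1 := fun i hi => by
    rcases hδ i hi with h | h <;> simp [h]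
  have hδ02 : (δ₀ : ℂ) * (δ₀ : ℂ) = 1 := by rcases hδ₀ with h | h <;> simp [h]
  have hexp : ∀ η ∈ c, R (η : H → ℂ) = ∑ i ∈ X, (a η i : ℂ) • f i := by
    intro η hη
    rcases (hmem η).1 hη with hX | hY'
    · rw [Finset.sum_eq_single η]
      · simp only [a, f, if_pos hX, if_pos, smul_smul, hδ2 η hX, one_smul]
      · intro i _ hne
        simp only [a, if_pos hX, if_neg (Ne.symm hne), Int.cast_zero, zero_smul]
      · exact fun h => absurd hX h
    · have hnX : η ∉ X := fun h => (Finset.disjoint_left.1 hdis h) hY'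
      funext g
      simp only [R, f, a, if_neg hnX, Finset.sum_apply, Pi.smul_apply, smul_eq_mul,
        Int.cast_neg]
      by_cases hg : p ∣ orderOf g
      · simp [regInd, hg]
      · simp only [regInd, if_neg hg, one_mul, neg_mul, Finset.sum_neg_distrib, ← Finset.mul_sum]
        linear_combination δ₀ * hrel η hY' g hg - ((η : H → ℂ) g) * hδ02
  have hXc : ∀ i ∈ X, i ∈ c := fun i hi => (hmem i).2 (Or.inl hi)
  -- independence
  have hli : LinearIndependent ℂ (fun i : X => f i) := by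
    rw [linearIndependent_iff_card_le_finrank_span, Fintype.card_coe, ← hr]
    refine le_of_eq ?_
    unfold blockRank Set.finrank
    have hset : ∀ η : IrrCharacter H, pRegularPart p (η : H → ℂ) = R (η : H → ℂ) := fun η =>
      pRegularPart_eq_regInd_mul _
    rw [show (fun χ : IrrCharacter H => pRegularPart p (χ : H → ℂ)) = fun χ : IrrCharacter H => R (χ : H → ℂ) from funext hset]
    suffices h : Submodule.span ℂ ((fun χ : IrrCharacter H => R (χ : H → ℂ)) '' c) =
        Submodule.span ℂ (Set.range fun i : X => f i) by rw [h]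
    refine le_antisymm (Submodule.span_le.2 ?_) (Submodule.span_le.2 ?_)
    · rintro _ ⟨η, hη, rfl⟩
      show R (η : H → ℂ) ∈ _
      rw [hexp η hη]
      exact Submodule.sum_mem _ fun i hi =>
        Submodule.smul_mem _ _ (Submodule.subset_span ⟨⟨i, hi⟩, rfl⟩)
    · rintro _ ⟨i, rfl⟩
      exact Submodule.smul_mem _ _ (Submodule.subset_span ⟨i.1, hXc i.1 i.2, rfl⟩)
  -- the matrix
  let A : IrrCharacter H → IrrCharacter H → ℂ := fun i j => classInner (f i) (f j)
  have hR : ∀ (g g' : H → ℂ), classInner (R g) g' = classInner (R g) (R g') :=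
    classInner_reg_reg p
  have hinner : ∀ i (η : IrrCharacter H), η ∈ c →
      classInner (f i) (η : H → ℂ) = ∑ j ∈ X, (a η j : ℂ) * A i j := by
    intro i η hη
    simp only [A, f]
    rw [CfsgLib.Char.classInner_smul_left, hR, hexp η hη, CfsgLib.Char.classInner_sum_right,
      Finset.mul_sum]
    refine Finset.sum_congr rfl fun j _ => ?_
    simp only [f, CfsgLib.Char.classInner_smul_right, CfsgLib.Char.classInner_smul_left, map_intCast]
    ring
  have hA : ∀ i ∈ X, ∀ j ∈ X, A i j = (if i = j then 1 else 0) - (m : ℂ) / p := by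
    intro i hi
    -- expand `f i` in the block
    have h1 : f i = ∑ η ∈ c.toFinite.toFinset, classInner (f i) (η : H → ℂ) • R (η : H → ℂ) := by
      funext g
      simp only [f, R, Finset.sum_apply, Pi.smul_apply, smul_eq_mul,
        CfsgLib.Char.classInner_smul_left]
      have h2 := regInd_mul_eq_sum hM hc (hXc i hi) g
      rw [finsum_mem_eq_finite_toFinset_sum _ c.toFinite] at h2
      have h3 : regInd p g * (i : H → ℂ) g = regInd p g * (regInd p g * (i : H → ℂ) g) := by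
        unfold regInd; split_ifs <;> simp
      rw [h3, h2, Finset.mul_sum, Finset.mul_sum]
      refine Finset.sum_congr rfl fun η _ => ?_
      ring
    have h4 : f i = ∑ j ∈ X, (∑ η ∈ c.toFinite.toFinset,
        classInner (f i) (η : H → ℂ) * (a η j : ℂ)) • f j := by
      conv_lhs => rw [h1]
      rw [Finset.sum_congr rfl (fun η hη => by
        rw [hexp η (c.toFinite.mem_toFinset.1 hη), Finset.smul_sum])]
      rw [Finset.sum_comm]
      refine Finset.sum_congr rfl fun j _ => ?_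
      rw [Finset.sum_smul]
      exact Finset.sum_congr rfl fun η _ => smul_smul _ _ _
    have h5 : ∀ j ∈ X, ∑ η ∈ c.toFinite.toFinset,
        classInner (f i) (η : H → ℂ) * (a η j : ℂ) = if i = j then 1 else 0 := by
      have h6 : ∑ x : X, ((∑ η ∈ c.toFinite.toFinset,
          classInner (f i) (η : H → ℂ) * (a η x : ℂ)) - if i = (x : IrrCharacter H) then 1 else 0) •
            f x = 0 := by
        rw [Finset.sum_coe_sort X (fun j => ((∑ η ∈ c.toFinite.toFinset,
          classInner (f i) (η : H → ℂ) * (a η j : ℂ)) - if i = j then 1 else 0) • f j)]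
        simp only [sub_smul, Finset.sum_sub_distrib, ← h4, ite_smul, one_smul, zero_smul,
          Finset.sum_ite_eq, if_pos hi, sub_self]
      intro j hj
      exact sub_eq_zero.1 (Fintype.linearIndependent_iff.1 hli _ h6 ⟨j, hj⟩)
    set S := ∑ j ∈ X, A i j with hSdef
    have hcU : c.toFinite.toFinset = X ∪ Y := by ext η; simp [hmem]
    have h7 : ∀ j ∈ X, A i j + (m : ℂ) * S = if i = j then 1 else 0 := by
      intro j hj
      rw [← h5 j hj, hcU, Finset.sum_union hdis]
      congr 1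
      · rw [Finset.sum_eq_single j]
        · rw [hinner i j (hXc j hj), Finset.sum_eq_single j]
          · simp only [a, if_pos hj, if_pos]
            linear_combination -(A i j) * hδ2 j hj
          · intro l _ hl
            simp only [a, if_pos hj, if_neg (Ne.symm hl), Int.cast_zero, zero_mul]
          · exact fun h => absurd hj h
        · intro η hη hne
          simp only [a, if_pos hη, if_neg hne, Int.cast_zero, mul_zero]
        · exact fun h => absurd hj h
      · rw [Finset.sum_congr rfl (g := fun _ => S) fun ψ hψ => ?_, Finset.sum_const, nsmul_eq_mul]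
        have hnX : ψ ∉ X := fun h => (Finset.disjoint_left.1 hdis h) hψ
        rw [hinner i ψ ((hmem ψ).2 (Or.inr hψ))]
        simp only [a, if_neg hnX, Int.cast_neg, ← Finset.mul_sum, ← hSdef]
        linear_combination S * hδ02
    have hp0 : (p : ℂ) ≠ 0 := Nat.cast_ne_zero.2 hM.1.ne_zero
    have h8 : (p : ℂ) * S = 1 := by
      have h9 := Finset.sum_congr rfl h7
      rw [Finset.sum_add_distrib, ← hSdef, Finset.sum_const, nsmul_eq_mul, Finset.sum_ite_eq,
        if_pos hi] at h9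
      rw [← hp]
      push_cast
      linear_combination h9
    intro j hj
    rw [← h7 j hj, eq_sub_iff_add_eq, add_right_inj, div_eq_iff hp0]
    linear_combination -(m : ℂ) * h8
  refine ⟨X, m, a, hY, hp, hr, fun η hη η' hη' => ?_⟩
  have hp0 : (p : ℂ) ≠ 0 := Nat.cast_ne_zero.2 hM.1.ne_zero
  have h1 : classInner (R (η : H → ℂ)) (η' : H → ℂ) =
      ∑ i ∈ X, ∑ j ∈ X, (a η i : ℂ) * (a η' j : ℂ) * A i j := by
    rw [hR, hexp η hη, hexp η' hη', CfsgLib.Char.classInner_sum_left]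
    refine Finset.sum_congr rfl fun i _ => ?_
    rw [CfsgLib.Char.classInner_sum_right]
    refine Finset.sum_congr rfl fun j _ => ?_
    rw [CfsgLib.Char.classInner_smul_left, CfsgLib.Char.classInner_smul_right, map_intCast]
    ring
  rw [show classInner (fun x => regInd p x * (η : H → ℂ) x) (η' : H → ℂ) = _ from h1,
    Finset.sum_congr rfl fun i hi => Finset.sum_congr rfl fun j hj => by rw [hA i hi j hj]]
  simp only [mul_sub, Finset.sum_sub_distrib, mul_ite, mul_one, mul_zero]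
  congr 1
  · rw [Finset.sum_congr rfl fun i hi => by rw [Finset.sum_ite_eq, if_pos hi]]
  · rw [Finset.sum_mul_sum, Finset.mul_sum, Finset.mul_sum]
    refine Finset.sum_congr rfl fun i _ => ?_
    rw [Finset.mul_sum, Finset.mul_sum]
    refine Finset.sum_congr rfl fun j _ => ?_
    field_simp

end Star

section Count

variable {G : Type u} [Group G] [Fintype G] {p : ℕ} {M : Ideal AlgInt} [M.IsPrime]
variable {x : G}
variable [Fintype (Subgroup.centralizer ({x} : Set G))] [Fintype (IrrCharacter G)]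
variable {B : Set (IrrCharacter G)}
variable {b : Set (IrrCharacter (Subgroup.centralizer ({x} : Set G)))}

local notation "CC" => Subgroup.centralizer (Singleton.singleton x : Set G)

/-- **A block of defect two with a star below a major subsection has at most `p ^ 2` members.** -/
theorem card_le_of_star (hM : IsPModular p M) (hxo : orderOf x = p)
    (hind : IsInducedBlock M (Subgroup.centralizer ({x} : Set G)) b B)
    (hdb : blockDefect p b = 2) {S : Finset (IrrCharacter G)} (hSB : ∀ χ ∈ S, χ ∈ B)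
    (hne : ∀ χ ∈ S, subEntry p b χ χ 1 ≠ 0)
    {Z : Subgroup (Subgroup.centralizer ({x} : Set G))} [Z.Normal]
    (hZc : Z ≤ Subgroup.center _) (hZ : Nat.card Z = p)
    {c : Set (IrrCharacter ((Subgroup.centralizer ({x} : Set G)) ⧸ Z))} (hc : IsPBlock M c)
    (hmem : ∀ η, η ∈ c ↔ infl Z η ∈ b)
    (hrank : blockRank p b = blockRank p c)
    (hsc : sInf ((fun χ : IrrCharacter (Subgroup.centralizer ({x} : Set G)) =>
        (charDegree (χ : (Subgroup.centralizer ({x} : Set G)) → ℂ)).factorization p) '' b) =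
      sInf ((fun χ : IrrCharacter ((Subgroup.centralizer ({x} : Set G)) ⧸ Z) =>
        (charDegree (χ : (Subgroup.centralizer ({x} : Set G)) ⧸ Z → ℂ)).factorization p) '' c))
    (hstar : IsStar p c) : S.card ≤ p ^ 2 := by
  classical
  have := Fact.mk hM.1
  have hx : ∃ k : ℕ, orderOf x = p ^ k := ⟨1, by rw [hxo, pow_one]⟩
  have hZp : IsPGroup p Z := IsPGroup.of_card (n := 1) (by rw [hZ, pow_one])
  have := Fintype.ofFinite (CC ⧸ Z)
  have := Fintype.ofFinite (IrrCharacter (CC ⧸ Z))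
  obtain ⟨X, m, a, hm, hpm, hrX, hform⟩ := exists_coords hM hc hstar
  have hcomb : ∀ θ : IrrCharacter CC, ∃ n : IrrCharacter (CC ⧸ Z) → ℤ, θ ∈ b →
      ∀ g : CC, regInd p g * (θ : CC → ℂ) g =
        ∑ η ∈ c.toFinite.toFinset, (n η : ℂ) * (regInd p g * (infl Z η : CC → ℂ) g) := by
    intro θ
    by_cases hθ : θ ∈ b
    · obtain ⟨n, h0, hn⟩ := exists_comb hZc hZp hM hind.1 hθ
      refine ⟨n, fun _ g => ?_⟩
      rw [hn g]
      refine (Finset.sum_subset (Finset.subset_univ _) fun η _ hη => ?_).symm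
      rw [h0 η fun h => hη (c.toFinite.mem_toFinset.2 ((hmem η).2 h)), Int.cast_zero, zero_mul]
    · exact ⟨fun _ => 0, fun h => absurd h hθ⟩
  choose nn hnn using hcomb
  -- the exponents
  set s := sInf ((fun φ : IrrCharacter CC => (charDegree (φ : CC → ℂ)).factorization p) '' b) with hs
  have hb2 : s + blockDefect p b = (Nat.card CC).factorization p :=
    sInf_degree_add_blockDefect hM hind.1
  rw [hdb] at hb2
  have hfC : (Nat.card CC).factorization p = (Nat.card (CC ⧸ Z)).factorization p + 1 := by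
    rw [factorization_card (p := p) (Z := Z) hZp, hZ, hM.1.factorization_self]
  set F := b.toFinite.toFinset with hF
  set Fc := c.toFinite.toFinset with hFc
  have hmemF : ∀ {θ}, θ ∈ F → θ ∈ b := fun h => b.toFinite.mem_toFinset.1 h
  have hmemc : ∀ {η}, η ∈ Fc → η ∈ c := fun h => c.toFinite.mem_toFinset.1 h
  -- the scaled entries
  have hentry : ∀ θ ∈ F, ∀ φ ∈ F,
      (((regEntry p θ φ / (p ^ s : ℕ) : ℤ)) : ℂ) = ∑ α ∈ Fc, ∑ β ∈ Fc, (nn θ α : ℂ) * (nn φ β : ℂ) *
        ((p : ℂ) * classInner (fun y => regInd p y * (α : CC ⧸ Z → ℂ) y) (β : CC ⧸ Z → ℂ)) := by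
    intro θ hθ φ hφ
    have hdvd : ((p ^ s : ℕ) : ℤ) ∣ regEntry p θ φ := by
      refine dvd_trans ?_ (pow_dvd_regEntry hM θ φ)
      exact_mod_cast Nat.pow_dvd_pow p
        (show s ≤ (charDegree (φ : CC → ℂ)).factorization p from Nat.sInf_le ⟨φ, hmemF hφ, rfl⟩)
    have hqs : ((p ^ s : ℕ) : ℂ) ≠ 0 := Nat.cast_ne_zero.2 (pow_ne_zero _ hM.1.ne_zero)
    have hinC : classInner (fun y => regInd p y * (θ : CC → ℂ) y) (φ : CC → ℂ) =
        ∑ α ∈ Fc, ∑ β ∈ Fc, (nn θ α : ℂ) * (nn φ β : ℂ) * ((p : ℂ)⁻¹ *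
          classInner (fun y => regInd p y * (α : CC ⧸ Z → ℂ) y) (β : CC ⧸ Z → ℂ)) := by
      have e : ∀ ψ ∈ F, (fun y => regInd p y * (ψ : CC → ℂ) y) =
          ∑ α ∈ Fc, (nn ψ α : ℂ) • fun y => regInd p y * (infl Z α : CC → ℂ) y := fun ψ hψ =>
        funext fun y => by rw [hnn ψ (hmemF hψ) y, Finset.sum_apply]; rfl
      rw [classInner_reg_reg, e θ hθ, e φ hφ, CfsgLib.Char.classInner_sum_left]
      refine Finset.sum_congr rfl fun α _ => ?_
      rw [CfsgLib.Char.classInner_sum_right]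
      refine Finset.sum_congr rfl fun β _ => ?_
      rw [CfsgLib.Char.classInner_smul_left, CfsgLib.Char.classInner_smul_right, map_intCast,
        ← classInner_reg_reg, classInner_infl hZc hZp, hZ]
      ring
    rw [classInner_regInd_eq_regEntry, div_eq_iff
      (Nat.cast_ne_zero.2 (pow_ne_zero _ hM.1.ne_zero))] at hinC
    rw [Int.cast_div hdvd (by exact_mod_cast pow_ne_zero s hM.1.ne_zero), hinC, Int.cast_natCast,
      ← hb2]
    rw [div_eq_iff hqs, Finset.sum_mul, Finset.sum_mul]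
    refine Finset.sum_congr rfl fun α _ => ?_
    rw [Finset.sum_mul, Finset.sum_mul]
    refine Finset.sum_congr rfl fun β _ => ?_
    have hp0 : (p : ℂ) ≠ 0 := Nat.cast_ne_zero.2 hM.1.ne_zero
    push_cast
    field_simp
    ring
  -- the coordinates
  set n := Nat.card G with hn
  have hn0 : n ≠ 0 := Nat.card_pos.ne'
  have : NeZero n := ⟨hn0⟩
  let v : IrrCharacter G → IrrCharacter (CC ⧸ Z) → ℕ → ℂ := fun χ i k =>
    ∑ θ ∈ F, ((((resMult x χ θ : ℤ) * ∑ α ∈ Fc, nn θ α * a α i) : ℤ) : ℂ) * centralRoot x θ ^ k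
  have hroot : ∀ θ : IrrCharacter CC, IsCyclo n (fun k => centralRoot x θ ^ k) := fun θ => by
    obtain ⟨c', hc'⟩ := orderOf_dvd_natCard x
    obtain ⟨j, -, hj⟩ := (zetaN_isPrimitiveRoot hn0).eq_pow_of_pow_eq_one
      (show centralRoot x θ ^ n = 1 by
        rw [hn, hc', pow_mul, (centralRoot_spec hM hx θ).2.1, one_pow])
    exact ⟨Polynomial.X ^ j, fun k => by
      show centralRoot x θ ^ k = _
      rw [map_pow, Polynomial.aeval_X, ← hj, ← pow_mul, ← pow_mul, mul_comm]⟩
  have hv : ∀ χ i, IsCyclo n (v χ i) := fun χ i =>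
    IsCyclo.sum _ fun θ _ => (isCyclo_intCast n _).mul (hroot θ)
  let Q : IrrCharacter G → ℕ → ℝ := fun χ k =>
    ((X.card * m + 1 : ℕ) : ℝ) * ∑ i ∈ X, ‖v χ i k‖ ^ 2 - (m : ℝ) * ‖∑ i ∈ X, v χ i k‖ ^ 2
  have hQ : ∀ χ k, subEntry p b χ χ k = (Q χ k : ℂ) := by
    intro χ k
    have hQc : (Q χ k : ℂ) = (p : ℂ) * ∑ i ∈ X, v χ i k * conj (v χ i k) -
        (m : ℂ) * ((∑ i ∈ X, v χ i k) * conj (∑ i ∈ X, v χ i k)) := by
      simp only [Q, Complex.ofReal_sub, Complex.ofReal_mul, Complex.ofReal_sum, Complex.ofReal_pow,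
        Complex.ofReal_natCast, Complex.mul_conj', hpm]
    let N : IrrCharacter CC → IrrCharacter (CC ⧸ Z) → ℤ := fun θ i => ∑ α ∈ Fc, nn θ α * a α i
    let t : IrrCharacter CC → IrrCharacter (CC ⧸ Z) → ℂ := fun θ i =>
      ((((resMult x χ θ : ℤ) * N θ i) : ℤ) : ℂ) * centralRoot x θ ^ k
    have hvt : ∀ i, v χ i k = ∑ θ ∈ F, t θ i := fun i => rfl
    have h1 : ∀ θ φ, ∑ α ∈ Fc, ∑ β ∈ Fc, (nn θ α : ℂ) * (nn φ β : ℂ) *
        (∑ i ∈ X, (a α i : ℂ) * (a β i : ℂ)) = ∑ i ∈ X, (N θ i : ℂ) * (N φ i : ℂ) := by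
      intro θ φ
      simp only [Finset.mul_sum]
      rw [Finset.sum_congr rfl fun α _ => Finset.sum_comm, Finset.sum_comm]
      refine Finset.sum_congr rfl fun i _ => ?_
      simp only [N, Int.cast_sum, Int.cast_mul, Finset.sum_mul_sum]
      exact Finset.sum_congr rfl fun α _ => Finset.sum_congr rfl fun β _ => by ring
    have h2 : ∀ θ φ, ∑ α ∈ Fc, ∑ β ∈ Fc, (nn θ α : ℂ) * (nn φ β : ℂ) *
        ((∑ i ∈ X, (a α i : ℂ)) * ∑ i ∈ X, (a β i : ℂ)) =
          (∑ i ∈ X, (N θ i : ℂ)) * ∑ i ∈ X, (N φ i : ℂ) := by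
      intro θ φ
      have hsw : ∀ θ, ∑ i ∈ X, (N θ i : ℂ) = ∑ α ∈ Fc, (nn θ α : ℂ) * ∑ i ∈ X, (a α i : ℂ) := by
        intro θ
        simp only [N, Int.cast_sum, Int.cast_mul, Finset.mul_sum]
        exact Finset.sum_comm
      rw [hsw, hsw, Finset.sum_mul_sum]
      exact Finset.sum_congr rfl fun α _ => Finset.sum_congr rfl fun β _ => by ring
    have hterm : ∀ θ ∈ F, ∀ φ ∈ F,
        (((resMult x χ θ : ℤ) * (resMult x χ φ : ℤ) * (regEntry p θ φ / (p ^ s : ℕ)) : ℤ) : ℂ) *
            (centralRoot x θ ^ k * conj (centralRoot x φ ^ k)) =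
          (p : ℂ) * (∑ i ∈ X, t θ i * conj (t φ i)) -
            (m : ℂ) * ((∑ i ∈ X, t θ i) * conj (∑ i ∈ X, t φ i)) := by
      intro θ hθ φ hφ
      have h3 : (((regEntry p θ φ / (p ^ s : ℕ) : ℤ)) : ℂ) =
          (p : ℂ) * (∑ i ∈ X, (N θ i : ℂ) * (N φ i : ℂ)) -
            (m : ℂ) * ((∑ i ∈ X, (N θ i : ℂ)) * ∑ i ∈ X, (N φ i : ℂ)) := by
        rw [hentry θ hθ φ hφ, ← h1, ← h2]
        simp only [Finset.mul_sum (a := (p : ℂ)), Finset.mul_sum (a := (m : ℂ)),
          ← Finset.sum_sub_distrib]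
        refine Finset.sum_congr rfl fun α hα => Finset.sum_congr rfl fun β hβ => ?_
        rw [hform α (hmemc hα) β (hmemc hβ)]
        ring
      have e1 : ∑ i ∈ X, t θ i * conj (t φ i) =
          ((resMult x χ θ : ℂ) * (resMult x χ φ : ℂ) *
            (centralRoot x θ ^ k * conj (centralRoot x φ ^ k))) *
            ∑ i ∈ X, (N θ i : ℂ) * (N φ i : ℂ) := by
        rw [Finset.mul_sum]
        refine Finset.sum_congr rfl fun i _ => ?_
        simp only [t, map_mul, map_intCast, Int.cast_mul, Int.cast_natCast, map_natCast]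
        ring
      have e2 : ∀ θ, ∑ i ∈ X, t θ i =
          (resMult x χ θ : ℂ) * centralRoot x θ ^ k * ∑ i ∈ X, (N θ i : ℂ) := by
        intro θ
        rw [Finset.mul_sum]
        refine Finset.sum_congr rfl fun i _ => ?_
        simp only [t, Int.cast_mul, Int.cast_natCast]
        ring
      have e3 : ∀ θ, conj (∑ i ∈ X, (N θ i : ℂ)) = ∑ i ∈ X, (N θ i : ℂ) := fun θ => by
        simp only [map_sum, map_intCast]
      rw [e1, e2, e2, Int.cast_mul, Int.cast_mul, h3, map_mul, map_mul, map_natCast, e3,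
        Int.cast_natCast, Int.cast_natCast]
      ring
    rw [hQc, subEntry, ← hs, Finset.sum_congr rfl fun θ hθ => Finset.sum_congr rfl fun φ hφ =>
      hterm θ hθ φ hφ]
    simp only [Finset.sum_sub_distrib, ← Finset.mul_sum, hvt]
    have e4 : ∑ θ ∈ F, ∑ φ ∈ F, ∑ i ∈ X, t θ i * conj (t φ i) =
        ∑ i ∈ X, (∑ θ ∈ F, t θ i) * conj (∑ θ ∈ F, t θ i) := by
      simp only [map_sum, Finset.sum_mul_sum]
      rw [Finset.sum_congr rfl fun θ _ => Finset.sum_comm, Finset.sum_comm]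
    have e5 : ∑ θ ∈ F, (∑ i ∈ X, t θ i) * ∑ φ ∈ F, conj (∑ i ∈ X, t φ i) =
        (∑ i ∈ X, ∑ θ ∈ F, t θ i) * conj (∑ i ∈ X, ∑ θ ∈ F, t θ i) := by
      rw [← Finset.sum_mul, ← map_sum, Finset.sum_comm]
    rw [e4, e5]
  -- the lower bound for each member
  have hlow : ∀ χ ∈ S, (Fintype.card (ZMod n)ˣ * X.card : ℝ) ≤
      ∑ u : (ZMod n)ˣ, Q χ (u : ZMod n).val := by
    intro χ hχ
    refine mul_card_le_sum_form X hm (v χ) (fun i _ => hv χ i) ?_
    by_contra h0
    push Not at h0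
    refine hne χ hχ ?_
    rw [hQ, Complex.ofReal_eq_zero]
    simp only [Q]
    rw [Finset.sum_eq_zero fun i hi => by rw [h0 i hi, norm_zero, zero_pow two_ne_zero],
      Finset.sum_eq_zero fun i hi => h0 i hi]
    simp
  -- the trace
  have htr : IsCyclo n fun k => ∑ χ ∈ B.toFinite.toFinset, subEntry p b χ χ k :=
    IsCyclo.sum _ fun χ _ => subEntry_isCyclo hM hx χ χ
  have htot : ∀ u : (ZMod n)ˣ,
      ∑ χ ∈ B.toFinite.toFinset, Q χ (u : ZMod n).val = ((p ^ 2 * X.card : ℕ) : ℝ) := by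
    intro u
    have h1 := htr.eq_int_of_coprime hn0 (m := ((p ^ 2 * X.card : ℕ) : ℤ)) (by
      rw [sum_subEntry_self hM hx hind, hdb, hrank, hrX, Int.cast_natCast])
      (ZMod.val_coe_unit_coprime u)
    rw [Finset.sum_congr rfl fun χ _ => hQ χ _, ← Complex.ofReal_sum, Int.cast_natCast,
      ← Complex.ofReal_natCast] at h1
    exact Complex.ofReal_injective h1
  have hQ0 : ∀ χ k, 0 ≤ Q χ k := by
    intro χ k
    simp only [Q]
    have h1 : ‖∑ i ∈ X, v χ i k‖ ^ 2 ≤ (X.card : ℝ) * ∑ i ∈ X, ‖v χ i k‖ ^ 2 :=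
      (pow_le_pow_left₀ (norm_nonneg _) (norm_sum_le _ _) 2).trans sq_sum_le_card_mul_sum_sq
    have h2 := mul_le_mul_of_nonneg_left h1 (Nat.cast_nonneg m : (0 : ℝ) ≤ m)
    have h3 : (0 : ℝ) ≤ ∑ i ∈ X, ‖v χ i k‖ ^ 2 := Finset.sum_nonneg fun i _ => by positivity
    push_cast
    nlinarith
  have hkey : (S.card : ℝ) * (Fintype.card (ZMod n)ˣ * X.card) ≤
      (p ^ 2 : ℕ) * (Fintype.card (ZMod n)ˣ * X.card : ℝ) := by
    rw [← nsmul_eq_mul, ← Finset.sum_const]
    refine (Finset.sum_le_sum fun χ hχ => hlow χ hχ).trans ?_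
    refine (Finset.sum_le_sum_of_subset_of_nonneg
      (fun χ hχ => B.toFinite.mem_toFinset.2 (hSB χ hχ))
      fun χ _ _ => Finset.sum_nonneg fun u _ => hQ0 χ _).trans ?_
    rw [Finset.sum_comm, Finset.sum_congr rfl fun u _ => htot u, Finset.sum_const, Finset.card_univ,
      nsmul_eq_mul]
    push_cast
    ring_nf
    exact le_rfl
  have hpos : (0 : ℝ) < (Fintype.card (ZMod n)ˣ * X.card : ℝ) := by
    have : X.card ≠ 0 := by
      intro h0
      rw [h0, zero_mul, zero_add] at hpm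
      exact hM.1.ne_one hpm.symm
    have h1 : 0 < Fintype.card (ZMod n)ˣ := Fintype.card_pos
    have h2 : 0 < X.card := Nat.pos_of_ne_zero this
    exact mul_pos (Nat.cast_pos.2 h1) (Nat.cast_pos.2 h2)
  exact_mod_cast le_of_mul_le_mul_right hkey hpos

omit [Fintype (IrrCharacter G)] in
/-- The diagonal contributions are nonnegative. -/
theorem subEntry_self_nonneg (hM : IsPModular p M) (χ : IrrCharacter G) (k : ℕ) :
    ∃ r : ℝ, 0 ≤ r ∧ subEntry p b χ χ k = (r : ℂ) := by
  classical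
  have := Fact.mk hM.1
  set s := sInf ((fun φ : IrrCharacter CC => (charDegree (φ : CC → ℂ)).factorization p) '' b)
    with hs
  set a := (Nat.card CC).factorization p with ha
  set F := b.toFinite.toFinset with hF
  let f : CC → ℂ := fun y => ∑ θ ∈ F,
    ((resMult x χ θ : ℂ) * centralRoot x θ ^ k) * (regInd p y * (θ : CC → ℂ) y)
  refine ⟨((p ^ a : ℕ) : ℝ) / (p ^ s : ℕ) * ((Nat.card CC : ℝ)⁻¹ * ∑ y : CC, ‖f y‖ ^ 2),
    by positivity, ?_⟩
  have hq : ((p ^ s : ℕ) : ℂ) ≠ 0 := Nat.cast_ne_zero.2 (pow_ne_zero _ hM.1.ne_zero)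
  have hinner : ∀ θ φ : IrrCharacter CC, (regEntry p θ φ : ℂ) = ((p ^ a : ℕ) : ℂ) *
      ((Nat.card CC : ℂ)⁻¹ * ∑ y : CC, (regInd p y * (θ : CC → ℂ) y) *
        conj (regInd p y * (φ : CC → ℂ) y)) := by
    intro θ φ
    rw [← CfsgLib.Char.classInner_def, ← classInner_reg_reg, classInner_regInd_eq_regEntry, ← ha,
      mul_div_cancel₀ _ (Nat.cast_ne_zero.2 (pow_ne_zero _ hM.1.ne_zero))]
  have hterm : ∀ θ ∈ F, ∀ φ ∈ F,
      (((resMult x χ θ : ℤ) * (resMult x χ φ : ℤ) * (regEntry p θ φ / (p ^ s : ℕ)) : ℤ) : ℂ) *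
          (centralRoot x θ ^ k * conj (centralRoot x φ ^ k)) =
        ((p ^ a : ℕ) : ℂ) / ((p ^ s : ℕ) : ℂ) * ((Nat.card CC : ℂ)⁻¹ * ∑ y : CC,
          ((resMult x χ θ : ℂ) * centralRoot x θ ^ k) * (regInd p y * (θ : CC → ℂ) y) *
          conj (((resMult x χ φ : ℂ) * centralRoot x φ ^ k) * (regInd p y * (φ : CC → ℂ) y))) := by
    intro θ hθ φ hφ
    have hdvd : ((p ^ s : ℕ) : ℤ) ∣ regEntry p θ φ := by
      refine dvd_trans ?_ (pow_dvd_regEntry hM θ φ)
      exact_mod_cast Nat.pow_dvd_pow p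
        (show s ≤ (charDegree (φ : CC → ℂ)).factorization p from
          Nat.sInf_le ⟨φ, b.toFinite.mem_toFinset.1 hφ, rfl⟩)
    have e : ∑ y : CC, ((resMult x χ θ : ℂ) * centralRoot x θ ^ k) *
        (regInd p y * (θ : CC → ℂ) y) *
          conj (((resMult x χ φ : ℂ) * centralRoot x φ ^ k) * (regInd p y * (φ : CC → ℂ) y)) =
        (resMult x χ θ : ℂ) * (resMult x χ φ : ℂ) * (centralRoot x θ ^ k *
          conj (centralRoot x φ ^ k)) * ∑ y : CC, (regInd p y * (θ : CC → ℂ) y) *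
            conj (regInd p y * (φ : CC → ℂ) y) := by
      rw [Finset.mul_sum]
      refine Finset.sum_congr rfl fun y _ => ?_
      simp only [map_mul, map_natCast]
      ring
    rw [e, Int.cast_mul, Int.cast_mul, Int.cast_div hdvd
      (by exact_mod_cast pow_ne_zero s hM.1.ne_zero), hinner]
    push_cast
    field_simp
  rw [subEntry, ← hs, Finset.sum_congr rfl fun θ hθ => Finset.sum_congr rfl fun φ hφ =>
    hterm θ hθ φ hφ]
  simp only [← Finset.mul_sum, Complex.ofReal_mul, Complex.ofReal_div, Complex.ofReal_natCast,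
    Complex.ofReal_inv, Complex.ofReal_sum, Complex.ofReal_pow, ← Complex.mul_conj']
  congr 2
  rw [Finset.sum_congr rfl fun θ _ => Finset.sum_comm, Finset.sum_comm]
  refine Finset.sum_congr rfl fun y _ => ?_
  simp only [f, map_sum, Finset.sum_mul_sum]

/-- **At most `p ^ d * l` members have a nonzero part at a subsection.** -/
theorem card_le_mul_rank (hM : IsPModular p M) (hx : ∃ k : ℕ, orderOf x = p ^ k)
    (hind : IsInducedBlock M (Subgroup.centralizer ({x} : Set G)) b B)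
    {S : Finset (IrrCharacter G)} (hSB : ∀ χ ∈ S, χ ∈ B)
    (hne : ∀ χ ∈ S, subEntry p b χ χ 1 ≠ 0) :
    S.card ≤ p ^ blockDefect p b * blockRank p b := by
  classical
  set n := Nat.card G with hn
  have hn0 : n ≠ 0 := Nat.card_pos.ne'
  have : NeZero n := ⟨hn0⟩
  choose r hr0 hre using fun χ : IrrCharacter G => subEntry_self_nonneg (b := b) hM χ
  have hcyc := fun χ : IrrCharacter G => subEntry_isCyclo hM hx (b := b) χ χ
  have htr : IsCyclo n fun k => ∑ χ ∈ B.toFinite.toFinset, subEntry p b χ χ k :=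
    IsCyclo.sum _ fun χ _ => hcyc χ
  set N := p ^ blockDefect p b * blockRank p b with hN
  have htot : ∀ u : (ZMod n)ˣ, ∑ χ ∈ B.toFinite.toFinset, r χ (u : ZMod n).val = (N : ℝ) := by
    intro u
    have h1 := htr.eq_int_of_coprime hn0 (m := (N : ℤ))
      (by rw [sum_subEntry_self hM hx hind, Int.cast_natCast]) (ZMod.val_coe_unit_coprime u)
    rw [Finset.sum_congr rfl fun χ _ => hre χ _, ← Complex.ofReal_sum, Int.cast_natCast,
      ← Complex.ofReal_natCast] at h1
    exact Complex.ofReal_injective h1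
  let T := (Finset.univ : Finset (ZMod n)ˣ) ×ˢ S
  let g : (ZMod n)ˣ × IrrCharacter G → ℕ → ℂ := fun i j =>
    subEntry p b i.2 i.2 ((i.1 : ZMod n).val * j)
  have hg1 : ∀ i, g i 1 = subEntry p b i.2 i.2 (i.1 : ZMod n).val := fun i => by
    simp only [g, mul_one]
  have hgne : ∀ i ∈ T, g i 1 ≠ 0 := by
    intro i hi h0
    rw [hg1] at h0
    apply hne i.2 (Finset.mem_product.1 hi).2
    have hc := (hcyc i.2).comp_mul (i.1 : ZMod n).val
    have h2 : subEntry p b i.2 i.2
        (((i.1⁻¹ : (ZMod n)ˣ) : ZMod n).val * (i.1 : ZMod n).val) = ((0 : ℤ) : ℂ) :=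
      hc.eq_int_of_coprime hn0 (m := 0) (by
        show subEntry p b i.2 i.2 (1 * (i.1 : ZMod n).val) = _
        rw [one_mul, h0, Int.cast_zero]) (ZMod.val_coe_unit_coprime i.1⁻¹)
    rw [← (hcyc i.2).apply_mod hn0, ← ZMod.val_mul, ← Units.val_mul, inv_mul_cancel,
      Units.val_one, Int.cast_zero] at h2
    rcases eq_or_ne n 1 with hn1 | hn1
    · have e : ∀ a b : ℕ, a % n = b % n := fun a b => by rw [hn1, Nat.mod_one, Nat.mod_one]
      rw [← (hcyc i.2).apply_mod hn0, e 1 (1 : ZMod n).val, (hcyc i.2).apply_mod hn0, h2]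
    · haveI : Fact (1 < n) := ⟨by omega⟩
      rwa [ZMod.val_one] at h2
  have hperm : ∀ k : ℕ, k.Coprime n → ∃ e : {i // i ∈ T} ≃ {i // i ∈ T},
      ∀ i : {i // i ∈ T}, g (e i).1 1 = g i.1 k := by
    intro k hk
    refine ⟨Equiv.subtypeEquiv ((Equiv.mulRight (ZMod.unitOfCoprime k hk)).prodCongr (Equiv.refl _))
      (fun i => by simp [T]), fun i => ?_⟩
    simp only [g, mul_one, Equiv.subtypeEquiv_apply, Equiv.prodCongr_apply, Prod.map_fst,
      Prod.map_snd, Equiv.coe_mulRight, Equiv.refl_apply, Units.val_mul, ZMod.coe_unitOfCoprime]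
    rw [← (hcyc _).apply_mod hn0 ((i.1.1 : ZMod n).val * k), ZMod.val_mul, ZMod.val_natCast,
      Nat.mul_mod_mod]
  have hle := card_le_sum_norm_pow T g hn0
    (fun i _ => (hcyc i.2).comp_mul (i.1 : ZMod n).val |> fun h => by
      simpa only [g, mul_comm] using h) hperm hgne 1
  rw [Finset.card_product, Finset.sum_product] at hle
  have hfin : ((Finset.univ : Finset (ZMod n)ˣ).card * S.card : ℝ) ≤
      ((Finset.univ : Finset (ZMod n)ˣ).card : ℝ) * N := by
    refine le_trans (by exact_mod_cast hle) ?_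
    rw [← nsmul_eq_mul, ← Finset.sum_const]
    refine Finset.sum_le_sum fun u _ => ?_
    refine le_trans (le_of_eq ?_) ((Finset.sum_le_sum_of_subset_of_nonneg
      (fun χ hχ => B.toFinite.mem_toFinset.2 (hSB χ hχ)) fun χ _ _ => hr0 χ _).trans_eq (htot u))
    refine Finset.sum_congr rfl fun χ _ => ?_
    rw [pow_one, hg1, hre, Complex.norm_real, Real.norm_eq_abs, abs_of_nonneg (hr0 _ _)]
  exact_mod_cast le_of_mul_le_mul_left hfin
    (Nat.cast_pos.2 Finset.univ_nonempty.card_pos)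

end Count

end CfsgLib.BlockA.BrauerFeit
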