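import Cfsg.Agent.Lib.BlockA.BrauerFeit
import Cfsg.Agent.Lib.BlockA.CentralDefect
import Cfsg.Agent.Lib.BlockB.HeightBound
import Cfsg.Agent.S4710
import Cfsg.Agent.S4716
import Cfsg.Agent.S4733

/-!
The Brauer–Feit bound on the number of characters of a block, reduced to the structure of the
blocks of defect one.
-/

set_option autoImplicit false
set_option linter.unusedSectionVars false

namespace CfsgLib.BlockA.BrauerFeit

open Cfsg CfsgLib.Block CfsgLib.BlockA.Dominated

universe u

variable {p : ℕ} {M : Ideal AlgInt} [M.IsPrime]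

/-- `k ≤ p ^ d` for `d ≤ 2` and `k ≤ p ^ (2 * d - 2)` for `3 ≤ d`. -/
theorem card_le_pow_defect (hM : IsPModular p M)
    (hstar : ∀ (H : Type u) [Group H] [Finite H] (c : Set (IrrCharacter H)),
      IsPBlock M c → blockDefect p c = 1 → IsStar p c) :
    ∀ (d : ℕ) (G : Type u) [Group G] [Finite G] (B : Set (IrrCharacter G)), IsPBlock M B →
      blockDefect p B = d →
      (d ≤ 2 → Nat.card B ≤ p ^ d) ∧ (3 ≤ d → Nat.card B ≤ p ^ (2 * d - 2)) := by
  have := Fact.mk hM.1
  have hpp := hM.1
  intro d
  induction d using Nat.strong_induction_on with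
  | _ d ih =>
    intro G _ _ B hB hd
    classical
    have := Fintype.ofFinite G
    have := Fintype.ofFinite (IrrCharacter G)
    obtain ⟨h1, h2⟩ := Cfsg.Agent.S4710.result p M hM B hB d hd
    rcases Nat.eq_zero_or_pos d with rfl | hdpos
    · have h := ((Cfsg.Agent.S4733.result p M hM B hB).2.1.1 hd).1
      exact ⟨fun _ => by rw [h, pow_zero], fun h' => absurd h' (by omega)⟩
    by_cases hex : ∃ χ ∈ B, 0 < blockHeight p B (χ : G → ℂ)
    · obtain ⟨χ, hχ, hpos⟩ := hex
      refine ⟨fun hd2 => ?_, fun _ => ?_⟩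
      · exfalso
        rcases Nat.lt_or_ge d 2 with hlt | hge
        · exact hpos.ne' ((h2 χ hχ).1 (by omega))
        · have := (h2 χ hχ).2 hge
          omega
      · have := h1 ⟨χ, hχ, hpos⟩
        omega
    push Not at hex
    have hh : ∀ χ ∈ B, blockHeight p B (χ : G → ℂ) = 0 := fun χ hχ =>
      Nat.le_zero.1 (hex χ hχ)
    obtain ⟨z, hz, b, hind, hdb⟩ := exists_major_order_p hM hB (by omega)
    rw [hd] at hdb
    have hzp : ∃ k : ℕ, orderOf z = p ^ k := ⟨1, by rw [hz, pow_one]⟩
    have := Fintype.ofFinite (Subgroup.centralizer ({z} : Set G))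
    -- the quotient by the element
    set Z : Subgroup (Subgroup.centralizer ({z} : Set G)) :=
      Subgroup.zpowers ⟨z, Subgroup.mem_centralizer_singleton_iff.2 rfl⟩ with hZdef
    have hZc : Z ≤ Subgroup.center _ := Subgroup.zpowers_le.2 (Subgroup.mem_center_iff.2 fun w =>
      Subtype.ext (Subgroup.mem_centralizer_singleton_iff.1 w.2))
    have hZn : Z.Normal := ⟨fun a ha g => by
      rw [Subgroup.mem_center_iff.1 (hZc ha) g, mul_inv_cancel_right]; exact ha⟩
    have hZcard : Nat.card Z = p := by rw [hZdef, Nat.card_zpowers, Subgroup.orderOf_mk, hz]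
    have := Fintype.ofFinite ((Subgroup.centralizer ({z} : Set G)) ⧸ Z)
    obtain ⟨c, hc, hmem, hrank, hdc, hsc⟩ := exists_dominated hZc
      (IsPGroup.of_card (n := 1) (by rw [hZcard, pow_one])) hM hind.1
    rw [hZcard, hpp.factorization_self, hdb] at hdc
    have hsq := Cfsg.Agent.S4716.result p M hM B hB d hd hh z hzp b hind hdb
    rw [hrank] at hsq
    refine ⟨fun hd2 => ?_, fun hd3 => ?_⟩
    · rcases (by omega : d = 1 ∨ d = 2) with rfl | rfl
      · -- the dominated block has defect zero
        have h := ((Cfsg.Agent.S4733.result p M hM c hc).2.1.1 (by omega)).2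
        rw [h, mul_one, mul_comm 2 1, pow_mul, pow_one] at hsq
        rw [pow_one]
        exact (Nat.pow_le_pow_iff_left two_ne_zero).1 hsq
      · rw [Nat.card_coe_set_eq, Set.ncard_eq_toFinset_card B B.toFinite]
        exact card_le_of_star hM hz hind hdb (fun χ hχ => B.toFinite.mem_toFinset.1 hχ)
          (fun χ hχ => CfsgLib.BlockB.subEntry_ne_zero hM hzp hind (hdb.trans hd.symm)
            (B.toFinite.mem_toFinset.1 hχ) (B.toFinite.mem_toFinset.1 hχ)
            (hh _ (B.toFinite.mem_toFinset.1 hχ)) (hh _ (B.toFinite.mem_toFinset.1 hχ)))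
          hZc hZcard hc hmem hrank hsc (hstar _ c hc (by omega))
    · -- induction for the dominated block
      obtain ⟨ih1, ih2⟩ := ih (d - 1) (by omega) _ c hc (by omega)
      have hl : blockRank p c ≤ p ^ (2 * d - 4) := by
        refine (Cfsg.Agent.S4733.result p M hM c hc).1.trans ?_
        rcases (by omega : d = 3 ∨ 4 ≤ d) with rfl | h4
        · exact ih1 (by norm_num)
        · refine (ih2 (by omega)).trans (le_of_eq ?_)
          congr 1
          omega
      have h3 : Nat.card B ^ 2 ≤ (p ^ (2 * d - 2)) ^ 2 := by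
        refine hsq.trans ((Nat.mul_le_mul_left _ hl).trans (le_of_eq ?_))
        rw [← pow_add, ← pow_mul]
        congr 1
        omega
      exact (Nat.pow_le_pow_iff_left two_ne_zero).1 h3

end CfsgLib.BlockA.BrauerFeit
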