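import Cfsg.Agent.Lib.BlockA.BlockMap
import Cfsg.Agent.Lib.Block.DefectClass
import Cfsg.Prelude.Def_BrauerPairs

/-! Brauer pairs: the value of a pair at an element fixed by conjugation, and existence and
uniqueness of normal subpairs. -/

set_option autoImplicit false
set_option linter.unusedSectionVars false

namespace CfsgLib.BlockA

open Cfsg CfsgLib.Block MonoidAlgebra

universe u

variable {G : Type u} [Group G] [Finite G] {p : ℕ} {M : Ideal AlgInt} [M.IsPrime]

local notation "cen" Q => Subgroup.centralizer ((Q : Subgroup G) : Set G)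

/-- The truncation to the centralizer is central. -/
def IsCInv (Q : Subgroup G) (a : MonoidAlgebra (kres M) G) : Prop :=
  IsClassCoeff (resSub (cen Q) a)

/-- The central character of `ξ` at the truncation of `a`. -/
noncomputable def pairVal (Q : Subgroup G) (ξ : IrrCharacter (cen Q))
    (a : MonoidAlgebra (kres M) G) : kres M :=
  open Classical in
  if h : IsCInv Q a then lam M ξ ⟨resSub (cen Q) a, isClassCoeff_iff_mem_center.1 h⟩ else 0

theorem pairVal_eq {Q : Subgroup G} (ξ : IrrCharacter (cen Q)) {a : MonoidAlgebra (kres M) G}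
    (h : IsCInv Q a) :
    pairVal Q ξ a = lam M ξ ⟨resSub (cen Q) a, isClassCoeff_iff_mem_center.1 h⟩ := dif_pos h

theorem pairVal_congr {Q : Subgroup G} {ξ η : IrrCharacter (cen Q)}
    (h : SameBlock M (ξ : (cen Q) → ℂ) (η : (cen Q) → ℂ)) (a : MonoidAlgebra (kres M) G) :
    pairVal Q ξ a = pairVal Q η a := by
  unfold pairVal
  rw [lam_eq_of_sameBlock h]

theorem isCInv_of_isClassCoeff {Q : Subgroup G} {a : MonoidAlgebra (kres M) G}
    (ha : IsClassCoeff a) : IsCInv Q a := resSub_isClassCoeff _ ha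

theorem centralizer_le_centralizer {R Q : Subgroup G} (h : R ≤ Q) : (cen Q) ≤ cen R :=
  fun _ hc => Subgroup.mem_centralizer_iff.2 fun r hr => Subgroup.mem_centralizer_iff.1 hc r (h hr)

theorem isCInv_of_le {Q R : Subgroup G} (hRQ : R ≤ Q) {a : MonoidAlgebra (kres M) G}
    (ha : IsCInv R a) : IsCInv Q a := by
  intro g h
  have hle := centralizer_le_centralizer hRQ
  have := ha ⟨g, hle g.2⟩ ⟨h, hle h.2⟩
  simpa using this

theorem isCInv_sub {Q : Subgroup G} {a b : MonoidAlgebra (kres M) G} (ha : IsCInv Q a)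
    (hb : IsCInv Q b) : IsCInv Q (a - b) := by
  intro g h
  have h1 := ha g h
  have h2 := hb g h
  simp only [coeff_resSub] at h1 h2 ⊢
  simp only [coeff_sub, Finsupp.sub_apply, h1, h2]

theorem isCInv_one (Q : Subgroup G) : IsCInv Q (1 : MonoidAlgebra (kres M) G) :=
  isCInv_of_isClassCoeff (isClassCoeff_iff_mem_center.2 (Subalgebra.one_mem _))

theorem resSub_one (H : Subgroup G) :
    resSub H (1 : MonoidAlgebra (kres M) G) = 1 := by
  ext h
  rw [coeff_resSub]
  rcases eq_or_ne h 1 with rfl | h1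
  · simp [one_def]
  · have h2 : (h : G) ≠ 1 := fun hh => h1 (Subtype.ext hh)
    simp [one_def, h1, h2]

theorem pairVal_one (Q : Subgroup G) (ξ : IrrCharacter (cen Q)) :
    pairVal Q ξ (1 : MonoidAlgebra (kres M) G) = 1 := by
  rw [pairVal_eq ξ (isCInv_one Q)]
  convert map_one (lam M ξ)
  exact resSub_one _

theorem resSub_sub (H : Subgroup G) (a b : MonoidAlgebra (kres M) G) :
    resSub H (a - b) = resSub H a - resSub H b := by
  ext h
  simp

theorem pairVal_sub {Q : Subgroup G} (ξ : IrrCharacter (cen Q)) {a b : MonoidAlgebra (kres M) G}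
    (ha : IsCInv Q a) (hb : IsCInv Q b) :
    pairVal Q ξ (a - b) = pairVal Q ξ a - pairVal Q ξ b := by
  rw [pairVal_eq ξ ha, pairVal_eq ξ hb, pairVal_eq ξ (isCInv_sub ha hb), ← map_sub]
  exact congrArg (lam M ξ) (Subtype.ext (resSub_sub _ a b))

theorem pairVal_sum {ι : Type*} (s : Finset ι) {Q : Subgroup G} (ξ : IrrCharacter (cen Q))
    (a : ι → MonoidAlgebra (kres M) G) (ha : ∀ i ∈ s, IsCInv Q (a i)) :
    IsCInv Q (∑ i ∈ s, a i) ∧ pairVal Q ξ (∑ i ∈ s, a i) = ∑ i ∈ s, pairVal Q ξ (a i) := by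
  classical
  induction s using Finset.induction with
  | empty =>
    have h0 : IsCInv Q (0 : MonoidAlgebra (kres M) G) := fun g h => by simp
    refine ⟨by simpa using h0, ?_⟩
    simp only [Finset.sum_empty]
    rw [pairVal_eq ξ h0]
    convert map_zero (lam M ξ)
    ext h
    simp
  | insert i s hi ih =>
    obtain ⟨h1, h2⟩ := ih fun j hj => ha j (Finset.mem_insert_of_mem hj)
    have h3 := ha i (Finset.mem_insert_self i s)
    have hadd : IsCInv Q (a i + ∑ j ∈ s, a j) := by
      intro g h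
      have e1 := h1 g h
      have e3 := h3 g h
      simp only [coeff_resSub] at e1 e3 ⊢
      simp only [coeff_add, Finsupp.add_apply, e1, e3]
    rw [Finset.sum_insert hi, Finset.sum_insert hi]
    refine ⟨hadd, ?_⟩
    rw [pairVal_eq ξ hadd, pairVal_eq ξ h3, ← h2, pairVal_eq ξ h1, ← map_add]
    refine congrArg (lam M ξ) (Subtype.ext ?_)
    ext h
    simp

theorem resSub_eq_brRes (Q : Subgroup G) (a : MonoidAlgebra (kres M) G) :
    resSub (cen Q) a = brRes Q (cen Q) a := by
  ext h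
  rw [coeff_resSub, coeff_brRes_of_mem a h.2]

variable (hM : IsPModular p M)
include hM

theorem resSub_mul {Q : Subgroup G} (hQ : IsPGroup p Q) {a b : MonoidAlgebra (kres M) G}
    (ha : IsPInv Q a) (hb : IsPInv Q b) :
    resSub (cen Q) (a * b) = resSub (cen Q) a * resSub (cen Q) b := by
  have := Fact.mk hM.1
  have := charP_kres hM
  rw [resSub_eq_brRes, resSub_eq_brRes, resSub_eq_brRes, brRes_mul hQ le_rfl ha hb]

theorem pairVal_mul {Q : Subgroup G} (hQ : IsPGroup p Q) (ξ : IrrCharacter (cen Q))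
    {a b : MonoidAlgebra (kres M) G}
    (ha : IsPInv Q a) (hb : IsPInv Q b) (hac : IsCInv Q a) (hbc : IsCInv Q b) :
    IsCInv Q (a * b) ∧ pairVal Q ξ (a * b) = pairVal Q ξ a * pairVal Q ξ b := by
  have hc : IsCInv Q (a * b) := by
    rw [IsCInv, resSub_mul hM hQ ha hb]
    exact isClassCoeff_iff_mem_center.2 (Subalgebra.mul_mem _
      (isClassCoeff_iff_mem_center.1 hac) (isClassCoeff_iff_mem_center.1 hbc))
  refine ⟨hc, ?_⟩
  rw [pairVal_eq ξ hac, pairVal_eq ξ hbc, pairVal_eq ξ hc, ← map_mul]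
  exact congrArg (lam M ξ) (Subtype.ext (resSub_mul hM hQ ha hb))

theorem pairVal_idem {Q : Subgroup G} (hQ : IsPGroup p Q) (ξ : IrrCharacter (cen Q))
    {a : MonoidAlgebra (kres M) G} (ha : IsPInv Q a) (hac : IsCInv Q a) (hidem : a * a = a) :
    pairVal Q ξ a = 0 ∨ pairVal Q ξ a = 1 := by
  have h := (pairVal_mul hM hQ ξ ha ha hac hac).2
  rw [hidem] at h
  by_cases h0 : pairVal Q ξ a = 0
  · exact Or.inl h0
  · exact Or.inr (mul_right_eq_self₀.1 h.symm |>.resolve_right h0)

/-- The integral and reduced values of a function at a pair agree. -/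
theorem redC_brauerOmega {Q : Subgroup G} (ξ : IrrCharacter (cen Q)) {β : G → ℂ}
    (hβ : ∀ x, MemLocalRing M (β x))
    (hcl : ∀ g h : (cen Q), β ((h * g * h⁻¹ : (cen Q)) : G) = β (g : G)) :
    MemLocalRing M (brauerOmega Q β (ξ : (cen Q) → ℂ)) ∧
      redC M (brauerOmega Q β (ξ : (cen Q) → ℂ)) =
        pairVal Q ξ (mkGA fun x => redC M (β x)) := by
  have := Fintype.ofFinite (cen Q)
  set a : MonoidAlgebra ℂ (cen Q) := mkGA fun x : (cen Q) => β (x : G) with ha
  have hloc : IsLocalCentral M a :=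
    ⟨fun g h => by simpa [ha] using hcl g h, fun g => by simpa [ha] using hβ g⟩
  have hval : brauerOmega Q β (ξ : (cen Q) → ℂ) = omegaC (ξ : (cen Q) → ℂ) a := by
    rw [brauerOmega, omegaC_eq, finsum_eq_sum_of_fintype, Finset.sum_div]
    exact Finset.sum_congr rfl fun x _ => by simp [ha]
  rw [hval]
  refine ⟨memLocalRing_omegaC ξ.2 hloc, ?_⟩
  have hc : IsCInv Q (mkGA fun x => redC M (β x)) := fun g h => by
    simp only [coeff_resSub, coeff_mkGA]
    rw [hcl]
  rw [pairVal_eq ξ hc]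
  refine (lam_apply ξ hloc _ ?_).symm
  ext x
  simp [redA, ha]

theorem memLocalIdeal_sub_one_iff {z : ℂ} (hz : MemLocalRing M z) :
    MemLocalIdeal M (z - 1) ↔ redC M z = 1 := by
  rw [← redC_one (M := M), redC_eq_iff hz ((lring M).one_mem)]

/-- The idempotent of a block of a subgroup, in the group algebra. -/
noncomputable def sIdem (M : Ideal AlgInt) [M.IsPrime] (H : Subgroup G)
    (f : Set (IrrCharacter H)) : MonoidAlgebra (kres M) G :=
  inclSub H (blkIdem M f : MonoidAlgebra (kres M) H)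

theorem mkGA_subgroupBlockCoeff (H : Subgroup G) (f : Set (IrrCharacter H)) :
    mkGA (fun x => redC M (subgroupBlockCoeff H f x)) = sIdem M H f := by
  ext x
  rw [coeff_mkGA, sIdem]
  by_cases hx : x ∈ H
  · rw [show x = ((⟨x, hx⟩ : H) : G) from rfl, coeff_inclSub_of_mem, coeff_blkIdem]
    simp [subgroupBlockCoeff, hx]
  · rw [coeff_inclSub_of_not_mem _ _ hx]
    simp [subgroupBlockCoeff, hx, redC_zero]

theorem isCInv_sIdem {R Q : Subgroup G} (hQR : Q ≤ R) (f : Set (IrrCharacter (cen Q))) :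
    IsCInv R (sIdem M (cen Q) f) := by
  refine isCInv_of_le hQR fun g h => ?_
  rw [coeff_resSub, coeff_resSub, sIdem, coeff_inclSub_of_mem, coeff_inclSub_of_mem]
  exact isClassCoeff_center (blkIdem M f) g h

theorem sIdem_idem {H : Subgroup G} {f : Set (IrrCharacter H)} (hf : IsPBlock M f) :
    sIdem M H f * sIdem M H f = sIdem M H f := by
  rw [sIdem, ← map_mul, ← MulMemClass.coe_mul, blkIdem_idem hM hf]

theorem sIdem_mul_ne {H : Subgroup G} {f g : Set (IrrCharacter H)} (hf : IsPBlock M f)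
    (hg : IsPBlock M g) (hne : f ≠ g) : sIdem M H f * sIdem M H g = 0 := by
  rw [sIdem, sIdem, ← map_mul, ← MulMemClass.coe_mul, blkIdem_mul_ne hM hf hg hne,
    ZeroMemClass.coe_zero, map_zero]

theorem sum_sIdem (H : Subgroup G) :
    ∑ f ∈ allBlocks M H, sIdem M H f = 1 := by
  simp only [sIdem]
  rw [← map_sum, ← AddSubmonoidClass.coe_finsetSum, sum_blkIdem hM, OneMemClass.coe_one, map_one]

theorem coeff_sIdem_conjSet {H : Subgroup G} (x : Subgroup.normalizer (H : Set G))
    (f : Set (IrrCharacter H)) (g : G) :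
    (sIdem M H (conjSet x f)).coeff g = (sIdem M H f).coeff ((x : G)⁻¹ * g * (x : G)) := by
  by_cases hg : g ∈ H
  · obtain ⟨h, rfl⟩ : ∃ h : H, (h : G) = g := ⟨⟨g, hg⟩, rfl⟩
    have hv : (x : G)⁻¹ * (h : G) * (x : G) = ((conjAut x⁻¹ h : H) : G) := by simp
    rw [hv, sIdem, sIdem, coeff_inclSub_of_mem, coeff_inclSub_of_mem, coeff_blkIdem,
      coeff_blkIdem, blockCoeff_conjSet]
  · have hg' : (x : G)⁻¹ * g * (x : G) ∉ H := by
      intro hh
      apply hg
      have := (Subgroup.mem_normalizer_iff.1 x.2 _).1 hh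
      simpa [mul_assoc] using this
    rw [sIdem, sIdem, coeff_inclSub_of_not_mem _ _ hg, coeff_inclSub_of_not_mem _ _ hg']

theorem normalizer_le_normalizer_centralizer (Q : Subgroup G) :
    Subgroup.normalizer (Q : Set G) ≤
      Subgroup.normalizer ((cen Q : Subgroup G) : Set G) := by
  intro x hx
  rw [Subgroup.mem_normalizer_iff]
  intro c
  simp only [Subgroup.mem_centralizer_iff]
  constructor
  · intro hc q hq
    have := hc (x⁻¹ * q * x) ((Subgroup.mem_normalizer_iff''.1 hx q).1 hq)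
    calc q * (x * c * x⁻¹) = x * ((x⁻¹ * q * x) * c) * x⁻¹ := by group
      _ = x * (c * (x⁻¹ * q * x)) * x⁻¹ := by rw [this]
      _ = _ := by group
  · intro hc q hq
    have := hc (x * q * x⁻¹) ((Subgroup.mem_normalizer_iff.1 hx q).1 hq)
    calc q * c = x⁻¹ * ((x * q * x⁻¹) * (x * c * x⁻¹)) * x := by group
      _ = x⁻¹ * ((x * c * x⁻¹) * (x * q * x⁻¹)) * x := by rw [this]
      _ = c * q := by group

theorem isPInv_sIdem_of_stable {Q X : Subgroup G} (hX : X ≤ Subgroup.normalizer (Q : Set G))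
    {f : Set (IrrCharacter (cen Q))} (hf : IsPBlock M f)
    (hst : ∀ x ∈ X, StabilizesBlock (cen Q) f x) : IsPInv X (sIdem M (cen Q) f) := by
  intro u hu g
  obtain ⟨hx, he⟩ := (stabilizesBlock_iff hf u).1 (hst u hu)
  have := coeff_sIdem_conjSet hM (⟨u, hx⟩ : Subgroup.normalizer ((cen Q : Subgroup G) : Set G))
    f (u * g * u⁻¹)
  rw [he] at this
  rw [this]
  congr 1
  simp [mul_assoc]

theorem isBrauerPairOf_iff {B : Set (IrrCharacter G)} {Q : Subgroup G}
    {e : Set (IrrCharacter (cen Q))} (he : IsBrauerPair p M Q e) (hB : IsPBlock M B)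
    {ξ : IrrCharacter (cen Q)} (hξ : ξ ∈ e) :
    IsBrauerPairOf p M B Q e ↔ pairVal Q ξ (blkIdem M B : MonoidAlgebra (kres M) G) = 1 := by
  have key : ∀ η : IrrCharacter (cen Q),
      (MemLocalIdeal M (brauerOmega Q (blockCoeff B) (η : (cen Q) → ℂ) - 1) ↔
        pairVal Q η (blkIdem M B : MonoidAlgebra (kres M) G) = 1) := by
    intro η
    obtain ⟨hr, hv⟩ := redC_brauerOmega hM η (β := blockCoeff B)
      (fun x => blockCoeff_memLocalRing hM hB x) (fun g h => by
        simpa [blockSum] using blockSum_isClassCoeff B (g : G) (h : G))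
    rw [memLocalIdeal_sub_one_iff hM hr, hv]
    have e : mkGA (fun x => redC M (blockCoeff B x)) =
        (blkIdem M B : MonoidAlgebra (kres M) G) := by ext x; simp
    rw [e]
  constructor
  · exact fun h => (key ξ).1 (h.2.2 ξ hξ)
  · exact fun h => ⟨he, hB, fun η hη =>
      (key η).2 (pairVal_congr (sameBlock_of_mem he.2 hξ hη) _ ▸ h)⟩

theorem isNormalSubpair_iff {P Q : Subgroup G} {e : Set (IrrCharacter (cen P))}
    {f : Set (IrrCharacter (cen Q))} {ξ : IrrCharacter (cen P)} (hξ : ξ ∈ e)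
    (he : IsBrauerPair p M P e) (hf : IsBrauerPair p M Q f) :
    IsNormalSubpair p M Q f P e ↔ Q ≤ P ∧ P ≤ Subgroup.normalizer (Q : Set G) ∧
      (∀ x ∈ P, StabilizesBlock (cen Q) f x) ∧ pairVal P ξ (sIdem M (cen Q) f) = 1 := by
  have key : Q ≤ P → ∀ η : IrrCharacter (cen P),
      (MemLocalIdeal M (brauerOmega P (subgroupBlockCoeff (cen Q) f) (η : (cen P) → ℂ) - 1) ↔
        pairVal P η (sIdem M (cen Q) f) = 1) := by
    intro hQP η
    have hle := centralizer_le_centralizer hQP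
    obtain ⟨hr, hv⟩ := redC_brauerOmega hM η (β := subgroupBlockCoeff (cen Q) f)
      (fun x => by
        unfold subgroupBlockCoeff
        split_ifs with h
        · exact blockCoeff_memLocalRing hM hf.2 _
        · exact (lring M).zero_mem)
      (fun g h => by
        unfold subgroupBlockCoeff
        rw [dif_pos (hle (h * g * h⁻¹).2), dif_pos (hle g.2)]
        have h0 := blockSum_isClassCoeff f (⟨g, hle g.2⟩ : (cen Q)) (⟨h, hle h.2⟩ : (cen Q))
        simp only [blockSum, coeff_mkGA] at h0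
        exact h0)
    rw [memLocalIdeal_sub_one_iff hM hr, hv, mkGA_subgroupBlockCoeff hM]
  constructor
  · rintro ⟨-, -, hQP, hPN, hst, h⟩
    exact ⟨hQP, hPN, hst, (key hQP ξ).1 (h ξ hξ)⟩
  · rintro ⟨hQP, hPN, hst, h⟩
    exact ⟨hf, he, hQP, hPN, hst, fun η hη =>
      (key hQP η).2 (pairVal_congr (sameBlock_of_mem he.2 hξ hη) _ ▸ h)⟩

/-- **Existence of normal subpairs.** -/
theorem exists_normalSubpair {P Q : Subgroup G} {e : Set (IrrCharacter (cen P))}
    (he : IsBrauerPair p M P e) (hQP : Q ≤ P) (hPN : P ≤ Subgroup.normalizer (Q : Set G)) :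
    ∃ f, IsNormalSubpair p M Q f P e := by
  classical
  have := Fact.mk hM.1
  have := charP_kres hM
  have hQ : IsPGroup p Q := he.1.to_le hQP
  obtain ⟨ξ, hξ⟩ := isPBlock_nonempty he.2
  let α := {f : Set (IrrCharacter (cen Q)) // f ∈ allBlocks M (cen Q)}
  let ι : P → Subgroup.normalizer ((cen Q : Subgroup G) : Set G) := fun x =>
    ⟨x, normalizer_le_normalizer_centralizer hM Q (hPN x.2)⟩
  let _ : MulAction P α :=
    { smul := fun x f => ⟨conjSet (ι x) f.1,
        mem_allBlocks.2 (isPBlock_blockMap _ (mem_allBlocks.1 f.2))⟩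
      one_smul := fun f => Subtype.ext (by
        show conjSet (ι 1) f.1 = f.1
        rw [show ι 1 = 1 from rfl, conjSet_one])
      mul_smul := fun x y f => Subtype.ext (by
        show conjSet (ι (x * y)) f.1 = conjSet (ι x) (conjSet (ι y) f.1)
        rw [show ι (x * y) = ι x * ι y from rfl, conjSet_mul]) }
  let v : α → kres M := fun f => pairVal P ξ (sIdem M (cen Q) f.1)
  have hsum : ∑ f, v f = 1 := by
    have h := (pairVal_sum (allBlocks M (cen Q)) (Q := P) ξ (fun f => sIdem M (cen Q) f)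
      (fun f _ => isCInv_sIdem hM hQP f)).2
    rw [sum_sIdem hM, pairVal_one] at h
    rw [h]
    exact Finset.sum_coe_sort (allBlocks M (cen Q)) (fun f => pairVal P ξ (sIdem M (cen Q) f))
  have hv : ∀ (x : P) (f : α), v (x • f) = v f := by
    intro x f
    simp only [v]
    rw [pairVal_eq ξ (isCInv_sIdem hM hQP _), pairVal_eq ξ (isCInv_sIdem hM hQP _)]
    refine congrArg (lam M ξ) (Subtype.ext ?_)
    ext c
    simp only [coeff_resSub]
    show (sIdem M (cen Q) (conjSet (ι x) f.1)).coeff (c : G) = _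
    rw [coeff_sIdem_conjSet hM]
    congr 1
    show (x : G)⁻¹ * (c : G) * (x : G) = c
    rw [mul_assoc, ← Subgroup.mem_centralizer_iff.1 c.2 x x.2, ← mul_assoc, inv_mul_cancel,
      one_mul]
  rw [sum_eq_sum_fixed he.1 (p := p) (fun w => by simp [nsmul_eq_mul]) v hv] at hsum
  obtain ⟨f, hf, hne⟩ := Finset.exists_ne_zero_of_sum_ne_zero (by rw [hsum]; exact one_ne_zero)
  have hfix := (Finset.mem_filter.1 hf).2
  have hfB := mem_allBlocks.1 f.2
  have hst : ∀ x ∈ P, StabilizesBlock (cen Q) f.1 x := fun x hx =>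
    (stabilizesBlock_iff hfB x).2 ⟨normalizer_le_normalizer_centralizer hM Q (hPN hx),
      congrArg Subtype.val (hfix ⟨x, hx⟩)⟩
  refine ⟨f.1, (isNormalSubpair_iff hM hξ he ⟨hQ, hfB⟩).2 ⟨hQP, hPN, hst, ?_⟩⟩
  rcases pairVal_idem hM he.1 ξ (isPInv_sIdem_of_stable hM hPN hfB hst) (isCInv_sIdem hM hQP _)
    (sIdem_idem hM hfB) with h | h
  · exact absurd h hne
  · exact h

/-- **Uniqueness of normal subpairs.** -/
theorem normalSubpair_unique {P Q : Subgroup G} {e : Set (IrrCharacter (cen P))}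
    {f f' : Set (IrrCharacter (cen Q))}
    (h : IsNormalSubpair p M Q f P e) (h' : IsNormalSubpair p M Q f' P e) : f = f' := by
  by_contra hne
  obtain ⟨ξ, hξ⟩ := isPBlock_nonempty h.2.1.2
  obtain ⟨hQP, hPN, hst, hv⟩ := (isNormalSubpair_iff hM hξ h.2.1 h.1).1 h
  obtain ⟨-, -, hst', hv'⟩ := (isNormalSubpair_iff hM hξ h'.2.1 h'.1).1 h'
  have hm := (pairVal_mul hM h.2.1.1 ξ (isPInv_sIdem_of_stable hM hPN h.1.2 hst)
    (isPInv_sIdem_of_stable hM hPN h'.1.2 hst') (isCInv_sIdem hM hQP f)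
    (isCInv_sIdem hM hQP f')).2
  rw [sIdem_mul_ne hM h.1.2 h'.1.2 hne, hv, hv', mul_one] at hm
  have h0 := (pairVal_sum (∅ : Finset ℕ) (Q := P) ξ
    (fun _ => (0 : MonoidAlgebra (kres M) G)) (by simp)).2
  rw [Finset.sum_empty, Finset.sum_empty, hm] at h0
  exact one_ne_zero h0

end CfsgLib.BlockA
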