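import Cfsg.Agent.Lib.BlockA.SectionOrth
import Cfsg.Agent.Lib.BlockA.AbelianSubsections
import Cfsg.Agent.Lib.BlockA.DefectOneStar
import Cfsg.Agent.Lib.BlockB.ClassMul
import Cfsg.Agent.Lib.Block.LamZero

/-!
The weighted sums of a class function over the section of a central `p`-element, and congruences
for the product with a class sum.
-/

set_option autoImplicit false
set_option linter.unusedSectionVars false
set_option maxHeartbeats 1000000

namespace CfsgLib.BlockA.CentralLam

open Cfsg MonoidAlgebra CfsgLib.Block CfsgLib.BlockA CfsgLib.BlockB CfsgLib.BlockB.HeightBound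
  CfsgLib.BlockB.SubSum AbelianSub
open scoped ComplexConjugate

universe u

variable {G : Type u} [Group G] [Fintype G] {p : ℕ} {M : Ideal AlgInt} [M.IsPrime]

/-- An average over a subgroup of an invariant function with local values is local. -/
theorem memLocalRing_avg (T : Subgroup G) (F : G → ℂ) (hF : ∀ (a : G) (t : T), F ((t : G) * a) = F a)
    (hl : ∀ a, MemLocalRing M (F a)) :
    MemLocalRing M ((Nat.card T : ℂ)⁻¹ * ∑ a : G, F a) := by
  classical
  have := Fintype.ofFinite T
  have := Fintype.ofFinite (G ⧸ T)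
  let F' : G → ℂ := fun a => F a⁻¹
  have hF' : ∀ (a : G) (t : T), F' (a * (t : G)) = F' a := fun a t => by
    show F ((a * (t : G))⁻¹) = F a⁻¹
    rw [mul_inv_rev]
    exact hF a⁻¹ t⁻¹
  have h1 : ∑ a : G, F a = (Nat.card T : ℂ) * ∑ q : G ⧸ T, F' q.out := by
    rw [show ∑ a : G, F a = ∑ a : G, F' a from
      Fintype.sum_equiv (Equiv.inv G) _ _ fun a => by simp [F'],
      ← Finset.sum_fiberwise_of_maps_to (g := fun a : G => (a : G ⧸ T)) (t := Finset.univ)
        (fun a _ => Finset.mem_univ _), Finset.mul_sum]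
    refine Finset.sum_congr rfl fun q _ => ?_
    rw [Finset.sum_congr rfl (g := fun _ => F' q.out) (fun a ha => ?_), Finset.sum_const,
      nsmul_eq_mul]
    · congr 2
      rw [Nat.card_eq_fintype_card]
      refine (Finset.card_bij (fun (t : T) _ => q.out * (t : G)) (fun t _ => ?_)
        (fun t _ t' _ e => Subtype.ext (mul_left_cancel e)) fun a ha => ?_).symm.trans rfl
      · refine Finset.mem_filter.2 ⟨Finset.mem_univ _, ?_⟩
        conv_rhs => rw [← q.out_eq']
        exact QuotientGroup.eq.2 (by simp)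
      · have e : ((q.out : G) : G ⧸ T) = (a : G ⧸ T) := by
          rw [QuotientGroup.out_eq', (Finset.mem_filter.1 ha).2]
        exact ⟨⟨q.out⁻¹ * a, QuotientGroup.eq.1 e⟩, Finset.mem_univ _, mul_inv_cancel_left _ _⟩
    · have e : ((q.out : G) : G ⧸ T) = (a : G ⧸ T) := by
        rw [QuotientGroup.out_eq', (Finset.mem_filter.1 ha).2]
      rw [← hF' q.out ⟨_, QuotientGroup.eq.1 e⟩, mul_inv_cancel_left]
  rw [h1, ← mul_assoc, inv_mul_cancel₀ (Nat.cast_ne_zero.2 Nat.card_pos.ne'), one_mul]
  exact memLocalRing_sum _ _ fun q _ => hl _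

open Classical in
/-- A sum invariant under conjugation by a `p`-element reduces to the elements commuting with it. -/
theorem sum_sub_sum_commute (hM : IsPModular p M) {u : G} (hu : ∃ k : ℕ, orderOf u = p ^ k)
    (f : G → ℂ) (hf : ∀ i, f (u * i * u⁻¹) = f i) (hl : ∀ i, MemLocalRing M (f i)) :
    MemLocalIdeal M (∑ i : G, f i - ∑ i : G, if Commute u i then f i else 0) := by
  have := Fact.mk hM.1
  have := charP_kres (M := M) hM
  have hl' : ∀ i : G, MemLocalRing M (if Commute u i then f i else 0) := fun i => by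
    split_ifs
    exacts [hl i, memLocalRing_of_memLocalIdeal memLocalIdeal_zero]
  rw [← redC_eq_iff (memLocalRing_sum _ _ fun i _ => hl i) (memLocalRing_sum _ _ fun i _ => hl' i),
    redC_sum _ _ (fun i _ => hl i), redC_sum _ _ (fun i _ => hl' i)]
  let P := Subgroup.zpowers u
  have hP : IsPGroup p P := by
    obtain ⟨k, hk⟩ := hu
    exact IsPGroup.of_card (n := k) (by rw [Nat.card_zpowers, hk])
  letI : MulAction P G :=
    { smul := fun t i => (t : G) * i * (t : G)⁻¹
      one_smul := fun i => by show ((1 : P) : G) * i * ((1 : P) : G)⁻¹ = i; simp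
      mul_smul := fun s t i => by
        show ((s * t : P) : G) * i * ((s * t : P) : G)⁻¹ =
          (s : G) * ((t : G) * i * (t : G)⁻¹) * (s : G)⁻¹
        push_cast
        group }
  have hzp : ∀ (n : ℤ) (i : G), f (u ^ n * i * (u ^ n)⁻¹) = f i := by
    intro n
    induction n using Int.induction_on with
    | zero => intro i; simp
    | succ n ih =>
      intro i
      rw [← ih i, ← hf (u ^ (n : ℤ) * i * (u ^ (n : ℤ))⁻¹)]
      congr 1
      group
    | pred n ih =>
      intro i
      rw [← ih i, ← hf (u ^ (-(n : ℤ) - 1) * i * (u ^ (-(n : ℤ) - 1))⁻¹)]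
      congr 1
      group
  rw [sum_eq_sum_fixed hP (N := kres M) (fun v => by rw [nsmul_eq_mul, CharP.cast_eq_zero, zero_mul])
    (fun i => redC M (f i)) fun t i => ?_, Finset.sum_filter]
  · refine Finset.sum_congr rfl fun i _ => ?_
    have hiff : i ∈ MulAction.fixedPoints P G ↔ Commute u i := by
      constructor
      · intro h
        exact mul_inv_eq_iff_eq_mul.1 (h ⟨u, Subgroup.mem_zpowers u⟩)
      · rintro h ⟨t, n, rfl⟩
        exact mul_inv_eq_iff_eq_mul.2 (h.zpow_left n)
    simp only [hiff]
    split_ifs <;> simp [redC_zero]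
  · obtain ⟨t, n, rfl⟩ := t
    exact congrArg _ (hzp n i)

/-- A character vanishes at the `p`-elements outside the defect groups. -/
theorem eq_zero_of_not_mem_defect {H : Type u} [Group H] [Fintype H] (hM : IsPModular p M)
    {b : Set (IrrCharacter H)} (hb : IsPBlock M b) {D : Subgroup H}
    (hD : IsDefectGroup p M b D) {η : IrrCharacter H} (hη : η ∈ b) {i : H}
    (hi : ∃ k : ℕ, orderOf i = p ^ k) (hnot : ∀ a : H, a * i * a⁻¹ ∉ D) :
    (η : H → ℂ) i = 0 := by
  classical
  obtain ⟨e, hmax⟩ := DefectOneStar.exists_maximal_pair hM hb hD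
  have h := sum_inducing_blockPart hM hi hb η
    (y := (1 : Subgroup.centralizer ({i} : Set H)))
    (by rw [orderOf_one]; exact hM.1.not_dvd_one)
  rw [if_pos hη, Finset.sum_eq_zero] at h
  · simpa using h.symm
  · intro b' hb'
    obtain ⟨a, ha, -⟩ := exists_conj_major hM hmax hi (Finset.mem_filter.1 hb').2
    exact absurd ha (hnot a)

section Central

variable {T : Subgroup G} [Fintype T] {u : G}

/-- The weighted sum of a function over the section of a central element of `T`. -/
noncomputable def lam (p : ℕ) (u : G) (ξ : T → ℂ) (A : G → ℂ) : ℂ :=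
  (∑ t : T, regInd p t * A (u * (t : G)) * ξ t) / ξ 1

variable (hcen : ∀ t : T, Commute u (t : G))
include hcen

theorem isClassFunction_section {A : G → ℂ} (hA : IsClassFunction G A) (t s : T) :
    A (u * ((s * t * s⁻¹ : T) : G)) = A (u * (t : G)) := by
  rw [← hA (u * (t : G)) (s : G)]
  congr 1
  push_cast
  rw [← mul_assoc, ← mul_assoc, (hcen s).eq, mul_assoc (s : G) u]

/-- Congruent functions have congruent weighted sums. -/
theorem lam_sub_mem {A A' : G → ℂ}
    (hA : ∀ t s : T, A (u * ((s * t * s⁻¹ : T) : G)) = A (u * (t : G)))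
    (hA' : ∀ t s : T, A' (u * ((s * t * s⁻¹ : T) : G)) = A' (u * (t : G)))
    {ξ : IrrCharacter T}
    (h : ∀ t : T, ¬ p ∣ orderOf t → MemLocalIdeal M (A (u * (t : G)) - A' (u * (t : G)))) :
    MemLocalIdeal M (lam p u (ξ : T → ℂ) A - lam p u (ξ : T → ℂ) A') := by
  classical
  let a : MonoidAlgebra ℂ T := mkGA fun t : T => regInd p t * (A (u * (t : G)) - A' (u * (t : G)))
  have ha : IsClassCoeff a := by
    intro t s
    simp only [a, coeff_mkGA]
    rw [regInd_isClassFunction p t s, hA, hA']
  have hl : ∀ t, MemLocalIdeal M (a.coeff t) := fun t => by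
    simp only [a, coeff_mkGA, regInd]
    split_ifs with ht
    · rw [zero_mul]; exact memLocalIdeal_zero
    · rw [one_mul]; exact h t ht
  have h1 := memLocalIdeal_omegaC ξ.2 ha hl
  rw [omegaC_eq] at h1
  simp only [lam, ← sub_div, ← Finset.sum_sub_distrib]
  convert h1 using 2
  refine Finset.sum_congr rfl fun t _ => ?_
  simp only [a, coeff_mkGA]
  ring

open Classical in
/-- **Class sums off the defect group annihilate the weighted sums.** -/
theorem sum_class_eq_zero (hM : IsPModular p M) {b : Set (IrrCharacter T)} (hb : IsPBlock M b)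
    {ξ : IrrCharacter T} (hξ : ξ ∈ b) (hu : u ∈ T) {A : G → ℂ} (hA : IsClassFunction G A)
    (P : T → Prop) (hP : ∀ i s : T, P i → P (s * i * s⁻¹))
    (hvan : ∀ i : T, P i → ∀ η ∈ b, ((η : IrrCharacter T) : T → ℂ) i = 0) :
    ∑ t : T, regInd p t * (∑ i : T, if P i then A ((i : G) * (u * (t : G))) else 0) *
      (ξ : T → ℂ) t = 0 := by
  have := Fintype.ofFinite (IrrCharacter T)
  let uT : T := ⟨u, hu⟩
  have hcT : ∀ t : T, Commute uT t := fun t => Subtype.ext (hcen t)
  let F : T → ℂ := fun w => regInd p (uT⁻¹ * w) * (ξ : T → ℂ) (uT⁻¹ * w)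
  have hF : IsClassFunction T F := fun w s => by
    have e : uT⁻¹ * (s * w * s⁻¹) = s * (uT⁻¹ * w) * s⁻¹ := by
      rw [← mul_assoc, ← mul_assoc, ((hcT s).inv_left).eq, mul_assoc s uT⁻¹]
    simp only [F, e, regInd_isClassFunction p (uT⁻¹ * w) s,
      CfsgLib.Char.irr_isClassFunction ξ.2 (uT⁻¹ * w) s]
  have hcoef : ∀ φ : IrrCharacter T, φ ∉ b → classInner F (φ : T → ℂ) = 0 := by
    intro φ hφ
    rw [CfsgLib.Char.classInner_def]
    refine mul_eq_zero_of_right _ ?_
    rw [← Equiv.sum_comp (Equiv.mulLeft uT)]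
    have hmul : ∀ s : T, (φ : T → ℂ) (uT * s) = (φ : T → ℂ) uT * (φ : T → ℂ) s / (φ : T → ℂ) 1 := by
      intro s
      have h := sum_irr_mul_conj φ uT s
      rw [Finset.sum_congr rfl (g := fun _ => (φ : T → ℂ) (uT * s)) (fun t _ => by
        rw [← CfsgLib.Char.irr_isClassFunction φ.2 (uT * s) t]
        congr 1
        rw [← mul_assoc, ← mul_assoc, ← mul_assoc, (hcT t).eq]), Finset.sum_const,
        Finset.card_univ, nsmul_eq_mul, ← Nat.card_eq_fintype_card, mul_assoc, mul_div_assoc] at h
      exact mul_left_cancel₀ (Nat.cast_ne_zero.2 Nat.card_pos.ne') h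
    have h0 := regPair_eq_zero hM hb hξ hφ
    rw [regPair] at h0
    calc ∑ s : T, F (uT * s) * conj ((φ : T → ℂ) (uT * s))
        = ∑ s : T, conj ((φ : T → ℂ) uT / (φ : T → ℂ) 1) *
            (regInd p s * (ξ : T → ℂ) s * (φ : T → ℂ) s⁻¹) := by
          refine Finset.sum_congr rfl fun s _ => ?_
          simp only [F, inv_mul_cancel_left, hmul, map_mul, map_div₀, ← irr_conj_eq φ.2 s]
          ring
      _ = 0 := by rw [← Finset.mul_sum, h0, mul_zero]
  have hsum : ∀ w : T, ∑ i : T, (if P i then F (i⁻¹ * w) else 0) = 0 := by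
    intro w
    simp only [CfsgLib.Char.classFunction_apply_eq_sum hF]
    have e : ∀ i : T, (if P i then ∑ φ : IrrCharacter T, classInner F (φ : T → ℂ) *
        (φ : T → ℂ) (i⁻¹ * w) else 0) = ∑ φ : IrrCharacter T, classInner F (φ : T → ℂ) *
          (if P i then (φ : T → ℂ) (i⁻¹ * w) else 0) := by
      intro i
      split_ifs <;> simp
    simp only [e]
    rw [Finset.sum_comm]
    refine Finset.sum_eq_zero fun φ _ => ?_
    rw [← Finset.mul_sum]
    by_cases hφ : φ ∈ b
    · refine mul_eq_zero_of_right _ ?_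
      have hconj : ∀ s : T, ∑ i : T, (if P i then (φ : T → ℂ) (i⁻¹ * w) else 0) =
          ∑ i : T, if P i then (φ : T → ℂ) (w * (s * i⁻¹ * s⁻¹)) else 0 := by
        intro s
        refine Fintype.sum_equiv (MulAut.conj s⁻¹).toEquiv _ _ fun i => ?_
        simp only [MulEquiv.toEquiv_eq_coe, MulEquiv.coe_toEquiv, MulAut.conj_apply, inv_inv]
        refine if_congr ⟨fun h => ?_, fun h => ?_⟩ ?_ rfl
        · simpa using hP i s⁻¹ h
        · simpa [mul_assoc] using hP _ s h
        · rw [← CfsgLib.Char.irr_isClassFunction φ.2 (i⁻¹ * w) w]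
          congr 1
          group
      refine (mul_eq_zero.1 ?_).resolve_left (Nat.cast_ne_zero.2 (Nat.card_pos (α := T)).ne')
      calc (Nat.card T : ℂ) * ∑ i : T, (if P i then (φ : T → ℂ) (i⁻¹ * w) else 0)
          = ∑ s : T, ∑ i : T, if P i then (φ : T → ℂ) (w * (s * i⁻¹ * s⁻¹)) else 0 := by
            rw [← Finset.sum_congr rfl (fun s _ => hconj s), Finset.sum_const, Finset.card_univ,
              nsmul_eq_mul, Nat.card_eq_fintype_card]
        _ = 0 := by
            rw [Finset.sum_comm]
            refine Finset.sum_eq_zero fun i _ => ?_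
            split_ifs with hi
            · rw [sum_irr_mul_conj φ w i⁻¹, ← irr_conj_eq φ.2 i, hvan i hi φ hφ, map_zero,
                mul_zero, zero_div]
            · exact Finset.sum_const_zero
    · rw [hcoef φ hφ, zero_mul]
  calc ∑ t : T, regInd p t * (∑ i : T, if P i then A ((i : G) * (u * (t : G))) else 0) *
        (ξ : T → ℂ) t
      = ∑ i : T, if P i then ∑ w : T, A (w : G) * F (i⁻¹ * w) else 0 := by
        simp only [Finset.mul_sum, Finset.sum_mul, mul_ite, mul_zero, ite_mul, zero_mul]
        rw [Finset.sum_comm]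
        refine Finset.sum_congr rfl fun i _ => ?_
        split_ifs with hi
        · refine Fintype.sum_equiv (Equiv.mulLeft (i * uT)) _ _ fun t => ?_
          simp only [Equiv.coe_mulLeft, F, mul_assoc, inv_mul_cancel_left]
          push_cast
          show regInd p t * (A ((i : G) * (u * (t : G))) * (ξ : T → ℂ) t) =
            A ((i : G) * (u * (t : G))) * (regInd p t * (ξ : T → ℂ) t)
          ring
        · exact Finset.sum_const_zero
    _ = ∑ w : T, A (w : G) * ∑ i : T, if P i then F (i⁻¹ * w) else 0 := by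
        simp only [Finset.mul_sum, mul_ite, mul_zero]
        rw [Finset.sum_comm]
        refine Finset.sum_congr rfl fun i _ => ?_
        split_ifs <;> simp
    _ = 0 := by simp only [hsum, mul_zero, Finset.sum_const_zero]

end Central

end CfsgLib.BlockA.CentralLam
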