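import Cfsg.Agent.Lib.BlockB.RegRank
import Cfsg.Agent.Lib.BlockA.RegMatrix
import Cfsg.Agent.Lib.Block.DegreeAux
import Cfsg.Agent.Lib.Block.DefectOrder
import Mathlib.Algebra.GCDMonoid.Finset
import Mathlib.RingTheory.PrincipalIdealDomain

/-! Blocks of `p`-regular rank one, and blocks whose rank is the number of their characters. -/

set_option autoImplicit false
set_option linter.unusedSectionVars false

namespace CfsgLib.BlockA

open Cfsg CfsgLib.Block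
open scoped ComplexConjugate

universe u

variable {G : Type u} [Group G] [Fintype G] {p : ℕ} [Fact p.Prime] {M : Ideal AlgInt} [M.IsPrime]
  (hM : IsPModular p M) {B : Set (IrrCharacter G)} (hB : IsPBlock M B)

/-- In a block of rank one the regular parts are proportional to the degrees. -/
theorem proportional_of_rank_one (hl : blockRank p B = 1) {χ ψ : IrrCharacter G} (hχ : χ ∈ B)
    (hψ : ψ ∈ B) {x : G} (hx : ¬ p ∣ orderOf x) :
    (χ : G → ℂ) x * (ψ : G → ℂ) 1 = (χ : G → ℂ) 1 * (ψ : G → ℂ) x := by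
  obtain ⟨w, -, hw⟩ := finrank_eq_one_iff'.1 hl
  have hval : ∀ φ ∈ B, ∃ a : ℂ, ∀ y : G, ¬ p ∣ orderOf y → (φ : G → ℂ) y = a * (w : G → ℂ) y := by
    intro φ hφ
    obtain ⟨a, ha⟩ := hw ⟨_, Submodule.subset_span ⟨φ, hφ, rfl⟩⟩
    refine ⟨a, fun y hy => ?_⟩
    have h := congrFun (congrArg Subtype.val ha) y
    simp only [SetLike.val_smul, Pi.smul_apply, smul_eq_mul] at h
    rw [h]
    simp only [CfsgLib.BlockB.pRegularPart_eq_regInd_mul, regInd, if_neg hy, one_mul]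
  obtain ⟨a, ha⟩ := hval χ hχ
  obtain ⟨b, hb⟩ := hval ψ hψ
  have h1 : ¬ p ∣ orderOf (1 : G) := not_dvd_orderOf_one Fact.out
  rw [ha x hx, hb x hx, ha 1 h1, hb 1 h1]
  ring

include hM hB

/-- **The Cartan invariant of a block of rank one** is the order of its defect group. -/
theorem rank_one_degrees (hl : blockRank p B = 1) :
    ∃ (g : ℕ) (d : IrrCharacter G → ℕ), 0 < g ∧
      (∀ χ ∈ B, charDegree (χ : G → ℂ) = g * d χ) ∧
      (∑ᶠ χ ∈ B, d χ ^ 2 = p ^ blockDefect p B) ∧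
      ∃ n : IrrCharacter G → ℤ, ∑ χ ∈ B.toFinite.toFinset, n χ * (d χ : ℤ) = 1 := by
  classical
  have hp : p.Prime := Fact.out
  set F := B.toFinite.toFinset with hF
  have hmF : ∀ χ, χ ∈ F ↔ χ ∈ B := fun χ => B.toFinite.mem_toFinset
  set g := F.gcd (fun χ : IrrCharacter G => charDegree (χ : G → ℂ)) with hg
  obtain ⟨χ₀, hχ₀, h0⟩ := exists_height_zero hM hB
  have hgdvd : ∀ χ ∈ B, g ∣ charDegree (χ : G → ℂ) := fun χ hχ =>
    Finset.gcd_dvd ((hmF χ).2 hχ)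
  have hg0 : 0 < g := Nat.pos_of_ne_zero fun h => charDegree_ne_zero χ₀.2
    (zero_dvd_iff.1 (h ▸ hgdvd χ₀ hχ₀))
  obtain ⟨d, hd, hgcd⟩ := Finset.extract_gcd (fun χ : IrrCharacter G => charDegree (χ : G → ℂ))
    (s := F) ⟨χ₀, (hmF _).2 hχ₀⟩
  have hdeg : ∀ χ ∈ B, charDegree (χ : G → ℂ) = g * d χ := fun χ hχ => hd χ ((hmF χ).2 hχ)
  refine ⟨g, d, hg0, hdeg, ?_, ?_⟩
  swap
  · obtain ⟨n, hn⟩ := Finset.gcd_eq_sum_mul F (fun χ => (d χ : ℤ))
    refine ⟨n, ?_⟩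
    have h1 : F.gcd (fun χ => (d χ : ℤ)) = 1 := by
      have h2 : IsUnit (F.gcd (fun χ => (d χ : ℤ))) := by
        rw [Int.isUnit_iff_natAbs_eq]
        refine Nat.dvd_one.1 (hgcd ▸ Finset.dvd_gcd fun χ hχ => ?_)
        rw [← Int.natCast_dvd_natCast, Int.natAbs_dvd]
        exact Finset.gcd_dvd hχ
      exact (normalize_eq_one.2 h2 ▸ (Finset.normalize_gcd).symm)
    rw [h1] at hn
    rw [hn]
    exact Finset.sum_congr rfl fun χ _ => mul_comm _ _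
  -- the matrix
  set a := (Nat.card G).factorization p with ha
  set T := ∑ χ ∈ F, d χ ^ 2 with hT
  rw [finsum_mem_eq_finite_toFinset_sum _ B.toFinite, ← hF, ← hT]
  set t := regPair p (χ₀ : G → ℂ) (χ₀ : G → ℂ) /
    ((d χ₀ : ℂ) * d χ₀ * (ordCompl[p] (Nat.card G) : ℕ)) with ht
  have hd0 : ∀ χ ∈ B, (d χ : ℂ) ≠ 0 := fun χ hχ => Nat.cast_ne_zero.2 fun h =>
    charDegree_ne_zero χ.2 (by rw [hdeg χ hχ, h, mul_zero])
  have hratio : ∀ χ ∈ B, ∀ x : G, ¬ p ∣ orderOf x →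
      (χ : G → ℂ) x = (d χ : ℂ) / d χ₀ * (χ₀ : G → ℂ) x := by
    intro χ hχ x hx
    have h := proportional_of_rank_one hl hχ hχ₀ hx
    rw [charDegree_spec (CfsgLib.Char.irr_isCharacter χ₀.2),
      charDegree_spec (CfsgLib.Char.irr_isCharacter χ.2), hdeg χ hχ, hdeg χ₀ hχ₀] at h
    push_cast at h
    have hg' : (g : ℂ) ≠ 0 := Nat.cast_ne_zero.2 hg0.ne'
    rw [div_mul_eq_mul_div, eq_div_iff (hd0 χ₀ hχ₀)]
    exact mul_left_cancel₀ hg' (by linear_combination h)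
  have hR : ∀ χ ∈ B, ∀ ξ ∈ B, (regEntry p χ ξ : ℂ) = t * (d χ : ℂ) * (d ξ : ℂ) := by
    intro χ hχ ξ hξ
    have hm : ((ordCompl[p] (Nat.card G) : ℕ) : ℂ) ≠ 0 :=
      Nat.cast_ne_zero.2 (Nat.ordCompl_pos p Nat.card_pos.ne').ne'
    have hpair : regPair p (χ : G → ℂ) (ξ : G → ℂ) =
        (d χ : ℂ) / d χ₀ * ((d ξ : ℂ) / d χ₀) * regPair p (χ₀ : G → ℂ) (χ₀ : G → ℂ) := by
      unfold regPair
      rw [Finset.mul_sum]
      refine Finset.sum_congr rfl fun x _ => ?_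
      unfold regInd
      by_cases hx : p ∣ orderOf x
      · simp [hx]
      · rw [hratio χ hχ x hx, hratio ξ hξ x⁻¹ (by rwa [orderOf_inv])]
        ring
    refine mul_left_cancel₀ hm ?_
    rw [ordCompl_mul_regEntry, hpair, ht]
    field_simp
  have hTpos : (0 : ℕ) < T := Finset.sum_pos' (fun _ _ => Nat.zero_le _)
    ⟨χ₀, (hmF _).2 hχ₀, pow_pos (Nat.pos_of_ne_zero fun h => hd0 χ₀ hχ₀ (by simp [h])) 2⟩
  have hR00 := regEntry_ne_zero hM hB hχ₀ hχ₀ h0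
  have htT : t * (T : ℂ) = (p ^ a : ℕ) := by
    have hsq := sum_regEntry_sq hM hB hχ₀
    rw [finsum_mem_eq_finite_toFinset_sum _ B.toFinite, ← hF] at hsq
    have hsq' := congrArg (fun z : ℤ => (z : ℂ)) hsq
    simp only [Int.cast_sum, Int.cast_mul, Int.cast_natCast, hR χ₀ hχ₀ χ₀ hχ₀] at hsq'
    rw [Finset.sum_congr rfl (g := fun ξ => t * (d χ₀ : ℂ) * (d χ₀) * t * ((d ξ ^ 2 : ℕ) : ℂ))
      (fun ξ hξ => by rw [hR χ₀ hχ₀ ξ ((hmF ξ).1 hξ)]; push_cast; ring), ← Finset.mul_sum,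
      ← Nat.cast_sum, ← hT, ← ha] at hsq'
    have hne : t * (d χ₀ : ℂ) * (d χ₀) ≠ 0 := by
      rw [← hR χ₀ hχ₀ χ₀ hχ₀]; exact_mod_cast hR00
    exact mul_left_cancel₀ hne (by rw [← mul_assoc, hsq']; ring)
  have hRT : ∀ χ ∈ B, ∀ ξ ∈ B, regEntry p χ ξ * (T : ℤ) = (p ^ a : ℕ) * ((d χ : ℤ) * d ξ) := by
    intro χ hχ ξ hξ
    have : (regEntry p χ ξ : ℂ) * (T : ℂ) = ((p ^ a : ℕ) : ℂ) * ((d χ : ℂ) * d ξ) := by
      rw [hR χ hχ ξ hξ, ← htT]; ring
    exact_mod_cast this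
  -- the sum of the squares divides the full `p`-part
  have hTdvd : T ∣ p ^ a := by
    have h1 : ∀ ξ ∈ F, T ∣ p ^ a * d χ₀ * d ξ := fun ξ hξ => by
      rw [← Int.natCast_dvd_natCast]
      exact ⟨regEntry p χ₀ ξ, by
        have := hRT χ₀ hχ₀ ξ ((hmF ξ).1 hξ)
        push_cast at this ⊢
        linarith⟩
    have h2 : T ∣ F.gcd (fun ξ => p ^ a * d χ₀ * d ξ) := Finset.dvd_gcd h1
    rw [Finset.gcd_mul_left, hgcd, mul_one, normalize_eq] at h2
    have h3 : ∀ ξ ∈ F, T ∣ p ^ a * d ξ := by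
      intro ξ hξ
      have h4 : ∀ η ∈ F, T ∣ p ^ a * d ξ * d η := fun η hη => by
        rw [← Int.natCast_dvd_natCast]
        exact ⟨regEntry p ξ η, by
          have := hRT ξ ((hmF ξ).1 hξ) η ((hmF η).1 hη)
          push_cast at this ⊢
          linarith⟩
      have h5 : T ∣ F.gcd (fun η => p ^ a * d ξ * d η) := Finset.dvd_gcd h4
      rwa [Finset.gcd_mul_left, hgcd, mul_one, normalize_eq] at h5
    have h6 : T ∣ F.gcd (fun η => p ^ a * d η) := Finset.dvd_gcd h3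
    rwa [Finset.gcd_mul_left, hgcd, mul_one, normalize_eq] at h6
  obtain ⟨s, hs, hTs⟩ := (Nat.dvd_prime_pow hp).1 hTdvd
  have hd0p : ¬ p ∣ d χ₀ := by
    intro hd'
    have h7 : ∀ χ ∈ F, p ∣ d χ := fun χ hχ => by
      have hχ' := (hmF χ).1 hχ
      have hle : (charDegree (χ₀ : G → ℂ)).factorization p ≤
          (charDegree (χ : G → ℂ)).factorization p := by
        rw [(blockHeight_eq_zero_iff hM hB hχ₀).1 h0]
        exact Nat.sInf_le ⟨χ, hχ', rfl⟩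
      have hne : d χ ≠ 0 := fun h => hd0 χ hχ' (by simp [h])
      have hne₀ : d χ₀ ≠ 0 := fun h => hd0 χ₀ hχ₀ (by simp [h])
      rw [hdeg χ hχ', hdeg χ₀ hχ₀, Nat.factorization_mul hg0.ne' hne,
        Nat.factorization_mul hg0.ne' hne₀] at hle
      simp only [Finsupp.coe_add, Pi.add_apply] at hle
      have := hp.factorization_pos_of_dvd hne₀ hd'
      exact Nat.dvd_of_factorization_pos (by omega)
    exact hp.not_dvd_one (hgcd ▸ Finset.dvd_gcd h7)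
  have hadd := sInf_degree_add_blockDefect hM hB
  rw [← (blockHeight_eq_zero_iff hM hB hχ₀).1 h0, ← ha] at hadd
  set σ := (charDegree (χ₀ : G → ℂ)).factorization p with hσ
  have hR0 : regEntry p χ₀ χ₀ = ((p ^ (a - s) : ℕ) : ℤ) * ((d χ₀ : ℤ) * d χ₀) := by
    have h := hRT χ₀ hχ₀ χ₀ hχ₀
    rw [hTs, show p ^ a = p ^ (a - s) * p ^ s by rw [← pow_add, Nat.sub_add_cancel hs]] at h
    push_cast at h ⊢
    have hps : ((p : ℤ) ^ s) ≠ 0 := pow_ne_zero _ (by exact_mod_cast hp.ne_zero)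
    exact mul_right_cancel₀ hps (by linarith)
  have hv1 : ((p ^ σ : ℕ) : ℤ) ∣ regEntry p χ₀ χ₀ := pow_dvd_regEntry hM χ₀ χ₀
  have hv2 : ¬ ((p ^ (σ + 1) : ℕ) : ℤ) ∣ regEntry p χ₀ χ₀ := fun h =>
    (pow_succ_dvd_regEntry_iff hM hB hχ₀ hχ₀).1 h h0
  rw [hR0, ← Nat.cast_mul, ← Nat.cast_mul, Int.natCast_dvd_natCast] at hv1 hv2
  have hcop : ∀ j, (p ^ j).Coprime (d χ₀ * d χ₀) := fun j =>
    (Nat.Coprime.mul_right ((hp.coprime_iff_not_dvd).2 hd0p)
      ((hp.coprime_iff_not_dvd).2 hd0p)).pow_left j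
  have e1 : σ ≤ a - s :=
    (Nat.pow_dvd_pow_iff_le_right hp.one_lt).1 ((hcop σ).dvd_of_dvd_mul_right hv1)
  have e2 : a - s ≤ σ := by
    by_contra hlt
    exact hv2 (dvd_mul_of_dvd_left (Nat.pow_dvd_pow p (by omega)) _)
  rw [hTs]
  congr 1
  omega

/-- A block with at least two characters has smaller rank. -/
theorem blockRank_lt_card (h2 : 2 ≤ Nat.card B) : blockRank p B < Nat.card B := by
  classical
  refine lt_of_le_of_ne CfsgLib.BlockB.blockRank_le_card fun heq => ?_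
  have hsum := CfsgLib.BlockB.blockRank_mul_pow hM hB
  rw [heq, Nat.card_eq_card_finite_toFinset B.toFinite] at hsum
  set F := B.toFinite.toFinset with hF
  set n : ℤ := ((p ^ (Nat.card G).factorization p : ℕ) : ℤ) with hn
  have hnpos : 0 < n := by
    rw [hn]; exact_mod_cast pow_pos (Fact.out : p.Prime).pos _
  have hsq : ∀ χ ∈ F, regEntry p χ χ * regEntry p χ χ +
      ∑ ξ ∈ F.erase χ, regEntry p χ ξ * regEntry p χ ξ = n * regEntry p χ χ := by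
    intro χ hχ
    have h := sum_regEntry_sq hM hB (B.toFinite.mem_toFinset.1 hχ)
    rw [finsum_mem_eq_finite_toFinset_sum _ B.toFinite, ← hF, ← Finset.add_sum_erase _ _ hχ] at h
    exact h
  have hoff : ∀ χ ∈ F, 0 ≤ ∑ ξ ∈ F.erase χ, regEntry p χ ξ * regEntry p χ ξ := fun χ _ =>
    Finset.sum_nonneg fun ξ _ => mul_self_nonneg _
  have hle : ∀ χ ∈ F, regEntry p χ χ ≤ n := by
    intro χ hχ
    nlinarith [hsq χ hχ, hoff χ hχ]
  have hall : ∀ χ ∈ F, regEntry p χ χ = n := by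
    have h0 : ∑ χ ∈ F, (n - regEntry p χ χ) = 0 := by
      rw [Finset.sum_sub_distrib, Finset.sum_const, nsmul_eq_mul, ← hsum]; ring
    intro χ hχ
    have := (Finset.sum_eq_zero_iff_of_nonneg fun χ hχ => sub_nonneg.2 (hle χ hχ)).1 h0 χ hχ
    linarith
  obtain ⟨χ, hχ, h0⟩ := exists_height_zero hM hB
  have hχF : χ ∈ F := B.toFinite.mem_toFinset.2 hχ
  obtain ⟨ξ, hξ, hne⟩ : ∃ ξ ∈ F, ξ ≠ χ :=
    Finset.exists_mem_ne (by rw [hF, ← Nat.card_eq_card_finite_toFinset]; omega) χ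
  have h := hsq χ hχF
  rw [hall χ hχF] at h
  have hz : regEntry p χ ξ * regEntry p χ ξ = 0 :=
    (Finset.sum_eq_zero_iff_of_nonneg fun ξ _ => mul_self_nonneg _).1 (by linarith) ξ
      (Finset.mem_erase.2 ⟨hne, hξ⟩)
  exact regEntry_ne_zero hM hB hχ (B.toFinite.mem_toFinset.1 hξ) h0 (mul_self_eq_zero.1 hz)

omit [M.IsPrime] in
theorem one_le_blockRank : 1 ≤ blockRank p B := by
  classical
  obtain ⟨χ, hB'⟩ := hB
  have hχ : χ ∈ B := by rw [hB']; exact fun g => by rw [sub_self]; exact ⟨0, 1, M.zero_mem,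
    (Ideal.ne_top_iff_one M).1 hM.2.1.ne_top, by simp⟩
  unfold blockRank
  rw [Nat.one_le_iff_ne_zero, ne_eq, Submodule.finrank_eq_zero, Submodule.span_eq_bot]
  intro h
  have h1 : pRegularPart p (χ : G → ℂ) 1 = (0 : G → ℂ) 1 := congrFun (h _ ⟨χ, hχ, rfl⟩) 1
  rw [CfsgLib.BlockB.pRegularPart_eq_regInd_mul] at h1
  simp only [regInd, if_neg (not_dvd_orderOf_one (Fact.out : p.Prime)), one_mul,
    Pi.zero_apply] at h1
  exact CfsgLib.Char.irr_apply_one_ne_zero χ.2 h1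

end CfsgLib.BlockA
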