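import Cfsg.Agent.Lib.BlockA.DihedralVectors
import Cfsg.Agent.Lib.BlockA.RankOne
import Cfsg.Agent.Lib.BlockA.DefectOneStar

/-!
The invariants of a block with dihedral defect group.
-/

set_option autoImplicit false
set_option linter.unusedSectionVars false
set_option maxHeartbeats 2000000

namespace CfsgLib.BlockA.DihedralDefect

open Cfsg CfsgLib.Block CfsgLib.BlockA CfsgLib.BlockB CfsgLib.BlockA.DihedralBlock
open scoped ComplexConjugate

universe u

variable {G : Type u} [Group G] [Fintype G] {M : Ideal AlgInt} [M.IsPrime]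
  {B : Set (IrrCharacter G)} {P : Subgroup G}
  {c : Set (IrrCharacter (Subgroup.centralizer (P : Set G)))} {r : G} {h : ℕ}

theorem sum_five {ι α : Type*} [DecidableEq ι] [AddCommMonoid α] (f : ι → α) {a b c d e : ι}
    (hab : a ≠ b) (hac : a ≠ c) (had : a ≠ d) (hae : a ≠ e) (hbc : b ≠ c) (hbd : b ≠ d)
    (hbe : b ≠ e) (hcd : c ≠ d) (hce : c ≠ e) (hde : d ≠ e) :
    ∑ i ∈ ({a, b, c, d, e} : Finset ι), f i = f a + f b + f c + f d + f e := by
  rw [Finset.sum_insert (by simp [hab, hac, had, hae]), Finset.sum_insert (by simp [hbc, hbd, hbe]),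
    Finset.sum_insert (by simp [hcd, hce]), Finset.sum_pair hde]
  simp [add_assoc]

/-- The linear equations of the exceptional configurations. -/
theorem exceptional_solve_tetra {y₁ y₂ y₃ yd ye w₁ w₂ w₃ wd we : ℂ} (hy : y₁ ≠ 0)
    (d1 : y₂ + y₃ + yd = 0) (d2 : y₁ + y₃ + yd = 0) (d3 : y₁ + y₂ + yd = 0)
    (d4 : y₁ + y₂ + y₃ + ye = 0)
    (v13 : y₂ * w₂ + y₃ * w₃ + yd * wd = y₁ * w₁ + y₂ * w₂ + yd * wd)
    (v2 : y₁ * w₁ + y₃ * w₃ + yd * wd = 0)
    (v4 : y₁ * w₁ + y₂ * w₂ + y₃ * w₃ + ye * we = 0)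
    (v0 : y₁ * y₁ * w₁ + y₂ * y₂ * w₂ + y₃ * y₃ * w₃ + yd * yd * wd + ye * ye * we = 0) :
    w₂ = -3 * w₁ ∧ w₃ = w₁ ∧ 3 * we = -w₁ := by
  obtain rfl : y₂ = y₁ := by linear_combination d1 - d2
  obtain rfl : y₃ = y₂ := by linear_combination d1 - d3
  obtain rfl : yd = -2 * y₃ := by linear_combination d1
  obtain rfl : ye = -3 * y₃ := by linear_combination d4
  have e1 : w₃ = w₁ := mul_left_cancel₀ hy (by linear_combination v13)
  subst e1
  have e2 : wd = w₃ := mul_left_cancel₀ hy (by linear_combination (-1 / 2 : ℂ) * v2)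
  subst e2
  have e3 : 3 * we = 2 * wd + w₂ := mul_left_cancel₀ hy (by linear_combination -v4)
  have e4 : w₂ = -3 * wd := mul_left_cancel₀ (mul_ne_zero hy hy)
    (by linear_combination (1 / 4 : ℂ) * v0 - (3 / 4 : ℂ) * y₃ * y₃ * e3)
  exact ⟨e4, rfl, by linear_combination e3 + e4⟩

/-- The linear equations of the exceptional configurations. -/
theorem exceptional_solve_sun {y₁ y₂ y₃ yd ye w₁ w₂ w₃ wd we : ℂ} (hy : y₁ ≠ 0)
    (d1 : y₁ + yd + ye = 0) (d2 : y₂ + yd + ye = 0) (d3 : y₃ + yd + ye = 0)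
    (d4 : y₁ + y₂ + y₃ + ye = 0)
    (v13 : y₁ * w₁ + yd * wd + ye * we = y₃ * w₃ + yd * wd + ye * we)
    (v2 : y₂ * w₂ + yd * wd + ye * we = 0)
    (v4 : y₁ * w₁ + y₂ * w₂ + y₃ * w₃ + ye * we = 0)
    (v0 : y₁ * y₁ * w₁ + y₂ * y₂ * w₂ + y₃ * y₃ * w₃ + yd * yd * wd + ye * ye * we = 0) :
    w₂ = -3 * w₁ ∧ w₃ = w₁ ∧ 3 * we = -w₁ := by
  obtain rfl : y₂ = y₁ := by linear_combination d2 - d1
  obtain rfl : y₃ = y₂ := by linear_combination d3 - d1
  obtain rfl : ye = -3 * y₃ := by linear_combination d4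
  obtain rfl : yd = 2 * y₃ := by linear_combination d1
  have e1 : w₃ = w₁ := (mul_left_cancel₀ hy (by linear_combination v13)).symm
  subst e1
  have e2 : wd = w₃ := mul_left_cancel₀ hy (by linear_combination (1 / 2 : ℂ) * (v2 - v4))
  subst e2
  have e3 : 3 * we = 2 * wd + w₂ := mul_left_cancel₀ hy (by linear_combination -v4)
  have e4 : w₂ = -3 * wd := mul_left_cancel₀ (mul_ne_zero hy hy)
    (by linear_combination (1 / 4 : ℂ) * v0 - (3 / 4 : ℂ) * y₃ * y₃ * e3)
  exact ⟨e4, rfl, by linear_combination e3 + e4⟩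

variable [Fintype (cz r h)] [Fintype (IrrCharacter (P.subgroupOf (cz r h)))]
variable (hR : Rot P r h) (S : Setup M P c r h)
variable {ζ : ℂ} (hζ : IsPrimitiveRoot ζ (2 * h)) {u : ℕ → IrrCharacter G → ℤ}
  (hu : ∀ χ j, j < 2 * h → (u j χ : ℂ) = ((2 * h : ℕ) : ℂ)⁻¹ *
    ∑ l ∈ Finset.range (2 * h), col hR S χ l * ((ζ⁻¹) ^ (j * l) - 1))
  (hu0 : ∀ χ, u 0 χ = 0) (hus : ∀ χ j, 0 < j → j < 2 * h → u (2 * h - j) χ = u j χ)
  (hexp : ∀ χ l, ¬ 2 * h ∣ l →
    col hR S χ l = ∑ s ∈ Finset.range (2 * h), (u s χ : ℂ) * (ζ ^ s) ^ l)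

include hu0 hus hexp hζ in
/-- The products of the columns at two generators, for rotations of order eight. -/
theorem col_one_mul_col_five (h4 : h = 4) (χ : IrrCharacter G) :
    col hR S χ (h + 1) * conj (col hR S χ 1) =
      ((u 4 χ * u 4 χ - 2 * (u 1 χ - u 3 χ) * (u 1 χ - u 3 χ) : ℤ) : ℂ) := by
  subst h4
  have hz4 : ζ ^ 4 = -1 := by
    have h1 : ζ ^ 4 * ζ ^ 4 = 1 := by
      rw [← pow_add]
      exact hζ.pow_eq_one
    rcases mul_self_eq_one_iff.1 h1 with e | e
    · have := Nat.le_of_dvd (by norm_num) ((hζ.pow_eq_one_iff_dvd 4).1 e)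
      omega
    · exact e
  rw [col_real hR S χ (show 1 ≤ 2 * 4 by norm_num), hexp χ (4 + 1) (by norm_num),
    hexp χ 1 (by norm_num)]
  have h7 := hus χ 1 (by norm_num) (by norm_num)
  have h6 := hus χ 2 (by norm_num) (by norm_num)
  have h5 := hus χ 3 (by norm_num) (by norm_num)
  norm_num at h5 h6 h7
  have e8 : ∀ f : ℕ → ℂ, ∑ s ∈ Finset.range (2 * 4), f s =
      f 0 + f 1 + f 2 + f 3 + f 4 + f 5 + f 6 + f 7 := fun f => by
    rw [show 2 * 4 = 8 from rfl]
    simp [Finset.sum_range_succ]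
  rw [e8, e8, hu0 χ, h5, h6, h7]
  push_cast
  set A : ℂ := (u 1 χ : ℂ)
  set B' : ℂ := (u 2 χ : ℂ)
  set C : ℂ := (u 3 χ : ℂ)
  set D : ℂ := (u 4 χ : ℂ)
  have p5 : ζ ^ 5 = -ζ := by linear_combination ζ * hz4
  have p6 : ζ ^ 6 = -ζ ^ 2 := by linear_combination ζ ^ 2 * hz4
  have p7 : ζ ^ 7 = -ζ ^ 3 := by linear_combination ζ ^ 3 * hz4
  have l1 : 0 * (ζ ^ 0) ^ 1 + A * (ζ ^ 1) ^ 1 + B' * (ζ ^ 2) ^ 1 + C * (ζ ^ 3) ^ 1 +
      D * (ζ ^ 4) ^ 1 + C * (ζ ^ 5) ^ 1 + B' * (ζ ^ 6) ^ 1 + A * (ζ ^ 7) ^ 1 =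
      (A - C) * (ζ - ζ ^ 3) - D := by
    simp only [pow_one, p5, p6, p7, hz4]
    ring
  have l5 : 0 * (ζ ^ 0) ^ (4 + 1) + A * (ζ ^ 1) ^ (4 + 1) + B' * (ζ ^ 2) ^ (4 + 1) +
      C * (ζ ^ 3) ^ (4 + 1) + D * (ζ ^ 4) ^ (4 + 1) + C * (ζ ^ 5) ^ (4 + 1) +
      B' * (ζ ^ 6) ^ (4 + 1) + A * (ζ ^ 7) ^ (4 + 1) = -((A - C) * (ζ - ζ ^ 3)) - D := by
    have q : ∀ k : ℕ, (ζ ^ k) ^ (4 + 1) = (-1) ^ k * ζ ^ k := fun k => by
      rw [← pow_mul, mul_comm, pow_mul, show (4 : ℕ) + 1 = 5 from rfl, p5, neg_pow]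
    simp only [q]
    rw [p5, p6, p7, hz4]
    ring
  rw [l1, l5]
  linear_combination -(A - C) ^ 2 * ((ζ ^ 2) * hz4 + (-2 : ℂ) * hz4)

variable (hM : IsPModular 2 M) (hmax : IsMaximalBrauerPair 2 M B P c)
include hM hmax hu hu0 hus hexp hζ

/-- **The exceptional configurations do not occur.** -/
theorem not_exceptional (s : ℕ → Finset (IrrCharacter G)) (σ : IrrCharacter G → ℤ)
    (hσ : ∀ i, σ i = 1 ∨ σ i = -1)
    (hval : ∀ j ∈ Finset.Icc 1 h, ∀ χ ∈ B.toFinite.toFinset,
      u j χ = if χ ∈ s j then σ χ else 0)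
    (hex : IsExceptional B.toFinite.toFinset h s) : False := by
  classical
  have := Fact.mk hM.1
  have hB : IsPBlock M B := hmax.1.2.1
  obtain ⟨h4, a₁, a₂, a₃, d, e, n12, n13, n1d, n1e, n23, n2d, n2e, n3d, n3e, nde, hT, hcase⟩ := hex
  obtain ⟨κ, hκ, hkey⟩ := key_congruence hR S hM hmax
  set T := B.toFinite.toFinset with hTdef
  let K : ℂ := (Nat.card G : ℂ) / (Nat.card (cz r h) : ℂ)
  let y : IrrCharacter G → ℂ := fun χ => (σ χ : ℂ) * (χ : G → ℂ) 1
  let w : IrrCharacter G → ℂ := fun χ => omegaZ r h χ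
  have hx0 : ∀ χ : IrrCharacter G, (χ : G → ℂ) 1 ≠ 0 := fun χ => by
    rw [← CfsgLib.BlockB.irr_degree_cast χ]
    exact Nat.cast_ne_zero.2 (charDegree_ne_zero χ.2)
  have hwx : ∀ χ : IrrCharacter G, w χ * (χ : G → ℂ) 1 = K * (χ : G → ℂ) (r ^ h) := fun χ =>
    div_mul_cancel₀ _ (hx0 χ)
  have hσ2 : ∀ χ, (σ χ : ℂ) * (σ χ : ℂ) = 1 := fun χ => by rcases hσ χ with a | a <;> simp [a]
  have hy0 : y a₁ ≠ 0 := mul_ne_zero (fun a => by simpa [a] using hσ2 a₁) (hx0 _)
  -- the two families of equations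
  have hdeg : ∀ j ∈ Finset.Icc 1 h, ∑ χ ∈ T, (χ : G → ℂ) 1 * (u j χ : ℂ) = 0 := fun j hj =>
    diff_regular hR S hu hM hmax (by have := (Finset.mem_Icc.1 hj).2; omega)
      (by rw [orderOf_one]; norm_num)
  have hinv : ∀ j ∈ Finset.Icc 1 h, ∑ χ ∈ T, w χ * (χ : G → ℂ) 1 * (u j χ : ℂ) =
      ((2 * h : ℕ) : ℂ)⁻¹ * (∑ χ ∈ T, w χ * (χ : G → ℂ) 1 * col hR S χ h) * ((-1) ^ j - 1) :=
    fun j hj => sum_weight_diff_involution hR S hζ hu T (fun χ => w χ * (χ : G → ℂ) 1)
      (fun l hl0 hl hlh => by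
        simp only [hwx, mul_assoc]
        rw [← Finset.mul_sum, col_involution hR S hM hmax hl0 hl hlh, mul_zero])
      (by have := (Finset.mem_Icc.1 hj).2; omega)
  have hz2 : (2 : ℕ) ∣ orderOf (r ^ h) := by rw [hR.orderOf_z]
  have hzero : ∑ χ ∈ T, (χ : G → ℂ) 1 * (χ : G → ℂ) 1 * w χ = 0 := by
    have h0 := sum_block_eq_zero_of_regular_singular hM hB (g := (1 : G)) (h := r ^ h)
      (by rw [orderOf_one]; norm_num) hz2
    rw [finsum_mem_eq_finite_toFinset_sum _ B.toFinite] at h0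
    calc ∑ χ ∈ T, (χ : G → ℂ) 1 * (χ : G → ℂ) 1 * w χ
        = ∑ χ ∈ T, K * ((χ : G → ℂ) 1 * conj ((χ : G → ℂ) (r ^ h))) := by
          refine Finset.sum_congr rfl fun χ _ => ?_
          rw [irr_conj_eq χ.2, hR.z_inv, mul_assoc, mul_comm ((χ : G → ℂ) 1) (w χ), hwx]
          ring
      _ = 0 := by rw [← Finset.mul_sum, h0, mul_zero]
  have i1 : 1 ∈ Finset.Icc 1 h := Finset.mem_Icc.2 (by omega)
  have i2 : 2 ∈ Finset.Icc 1 h := Finset.mem_Icc.2 (by omega)
  have i3 : 3 ∈ Finset.Icc 1 h := Finset.mem_Icc.2 (by omega)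
  have i4 : 4 ∈ Finset.Icc 1 h := Finset.mem_Icc.2 (by omega)
  have hmem : ∀ i, i ∈ ({a₁, a₂, a₃, d, e} : Finset (IrrCharacter G)) → i ∈ T := fun i hi => by
    rw [hT]; exact hi
  have m1 := hmem a₁ (by simp)
  have m2 := hmem a₂ (by simp)
  have m3 := hmem a₃ (by simp)
  have md := hmem d (by simp)
  have me := hmem e (by simp)
  have hsum : ∀ f : IrrCharacter G → ℂ, ∑ χ ∈ T, f χ = f a₁ + f a₂ + f a₃ + f d + f e := fun f => by
    rw [hT]
    exact sum_five f n12 n13 n1d n1e n23 n2d n2e n3d n3e nde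
  have D1 := hdeg 1 i1
  have D2 := hdeg 2 i2
  have D3 := hdeg 3 i3
  have D4 := hdeg 4 i4
  have V1 := hinv 1 i1
  have V2 := hinv 2 i2
  have V3 := hinv 3 i3
  have V4 := hinv 4 i4
  have V13 : ∑ χ ∈ T, w χ * (χ : G → ℂ) 1 * (u 1 χ : ℂ) = ∑ χ ∈ T, w χ * (χ : G → ℂ) 1 * (u 3 χ : ℂ) := by
    rw [V1, V3]; norm_num
  norm_num at V2 V4
  have Z : y a₁ * y a₁ * w a₁ + y a₂ * y a₂ * w a₂ + y a₃ * y a₃ * w a₃ + y d * y d * w d +
      y e * y e * w e = 0 := by
    have hyy : ∀ χ, y χ * y χ * w χ = (χ : G → ℂ) 1 * (χ : G → ℂ) 1 * w χ := fun χ => by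
      linear_combination ((χ : G → ℂ) 1 * (χ : G → ℂ) 1 * w χ) * hσ2 χ
    simp only [hyy]
    exact (hsum _).symm.trans hzero
  rw [hsum] at D1 D2 D3 D4 V2 V4
  rw [hsum, hsum] at V13
  -- the values of the columns
  have hprod : ∑ χ ∈ T, w χ * col hR S χ (h + 1) * conj (col hR S χ 1) =
      -(16 / 3 : ℂ) * w a₁ := by
    rw [hsum]
    simp only [mul_assoc, col_one_mul_col_five hR S hζ hu0 hus hexp h4]
    rcases hcase with ⟨s1, s2, s3, s4⟩ | ⟨s1, s2, s3, s4⟩
    · have nn := And.intro n12.symm (And.intro n13.symm (And.intro n1d.symm (And.intro n1e.symm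
        (And.intro n23.symm (And.intro n2d.symm (And.intro n2e.symm (And.intro n3d.symm
        (And.intro n3e.symm nde.symm))))))))
      obtain ⟨n21, n31, nd1, ne1, n32, nd2, ne2, nd3, ne3, ned⟩ := nn
      simp [hval _ i1 _ m1, hval _ i1 _ m2, hval _ i1 _ m3, hval _ i1 _ md, hval _ i1 _ me,
        hval _ i2 _ m1, hval _ i2 _ m2, hval _ i2 _ m3, hval _ i2 _ md, hval _ i2 _ me,
        hval _ i3 _ m1, hval _ i3 _ m2, hval _ i3 _ m3, hval _ i3 _ md, hval _ i3 _ me,
        hval _ i4 _ m1, hval _ i4 _ m2, hval _ i4 _ m3, hval _ i4 _ md, hval _ i4 _ me,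
        s1, s2, s3, s4, n12, n13, n1d, n1e, n23, n2d, n2e, n3d, n3e, nde,
        n21, n31, nd1, ne1, n32, nd2, ne2, nd3, ne3, ned] at D1 D2 D3 D4 V13 V2 V4 ⊢
      obtain ⟨e2, e3, e5⟩ := exceptional_solve_tetra (y₁ := y a₁) (y₂ := y a₂) (y₃ := y a₃)
        (yd := y d) (ye := y e) (w₁ := w a₁) (w₂ := w a₂) (w₃ := w a₃) (wd := w d) (we := w e) hy0
        (by linear_combination D1) (by linear_combination D2) (by linear_combination D3)
        (by linear_combination D4) (by linear_combination V13) (by linear_combination V2)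
        (by linear_combination V4) Z
      linear_combination (-w a₁) * hσ2 a₁ + w a₂ * hσ2 a₂ - w a₃ * hσ2 a₃ + w e * hσ2 e + e2 - e3 +
        (1 / 3 : ℂ) * e5
    · have nn := And.intro n12.symm (And.intro n13.symm (And.intro n1d.symm (And.intro n1e.symm
        (And.intro n23.symm (And.intro n2d.symm (And.intro n2e.symm (And.intro n3d.symm
        (And.intro n3e.symm nde.symm))))))))
      obtain ⟨n21, n31, nd1, ne1, n32, nd2, ne2, nd3, ne3, ned⟩ := nn
      simp [hval _ i1 _ m1, hval _ i1 _ m2, hval _ i1 _ m3, hval _ i1 _ md, hval _ i1 _ me,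
        hval _ i2 _ m1, hval _ i2 _ m2, hval _ i2 _ m3, hval _ i2 _ md, hval _ i2 _ me,
        hval _ i3 _ m1, hval _ i3 _ m2, hval _ i3 _ m3, hval _ i3 _ md, hval _ i3 _ me,
        hval _ i4 _ m1, hval _ i4 _ m2, hval _ i4 _ m3, hval _ i4 _ md, hval _ i4 _ me,
        s1, s2, s3, s4, n12, n13, n1d, n1e, n23, n2d, n2e, n3d, n3e, nde,
        n21, n31, nd1, ne1, n32, nd2, ne2, nd3, ne3, ned] at D1 D2 D3 D4 V13 V2 V4 ⊢
      obtain ⟨e2, e3, e5⟩ := exceptional_solve_sun (y₁ := y a₁) (y₂ := y a₂) (y₃ := y a₃)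
        (yd := y d) (ye := y e) (w₁ := w a₁) (w₂ := w a₂) (w₃ := w a₃) (wd := w d) (we := w e) hy0
        (by linear_combination D1) (by linear_combination D2) (by linear_combination D3)
        (by linear_combination D4) (by linear_combination V13) (by linear_combination V2)
        (by linear_combination V4) Z
      linear_combination (-w a₁) * hσ2 a₁ + w a₂ * hσ2 a₂ - w a₃ * hσ2 a₃ + w e * hσ2 e + e2 - e3 +
        (1 / 3 : ℂ) * e5
  have hw : MemLocalRing M (w a₁) := by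
    have e1 : w a₁ = centralChar (a₁ : G → ℂ) (r ^ h) := by
      show omegaZ r h a₁ = _
      rw [omegaZ, centralChar]
      congr 2
      rw [← (cz r h).index_mul_card, Nat.cast_mul,
        mul_div_cancel_right₀ _ (Nat.cast_ne_zero.2 Nat.card_pos.ne')]
    rw [e1]
    exact memLocalRing_centralChar a₁.2 _
  rw [hprod, h4] at hkey
  have h23 : MemLocalIdeal M (-(2 : ℂ) / 3) := by
    have h1 := (memLocalIdeal_intCast_div_iff hM (show (3 : ℕ) ≠ 0 by norm_num) (z := (-2 : ℤ))).2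
      (by
        rw [Nat.factorization_eq_zero_of_not_dvd (by norm_num)]
        norm_num)
    push_cast at h1
    exact h1
  have h5 := memLocalIdeal_sub (memLocalIdeal_mul_left (memLocalRing_mul hκ hw) h23) hkey
  refine not_memLocalIdeal_one (M := M) ?_
  convert h5 using 1
  push_cast
  ring

omit hu0 hus hu hexp hM hmax hζ in
theorem height_of_dvd {ht : ℕ} {a : ℤ} (h1 : (2 : ℤ) ^ ht ∣ a) (h2 : ¬ (2 : ℤ) ^ (ht + 1) ∣ a)
    {k : ℕ} (hk : a = 2 ^ k ∨ a = -2 ^ k) : ht = k := by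
  have e : ∀ m : ℕ, (2 : ℤ) ^ m ∣ a ↔ m ≤ k := fun m => by
    rcases hk with rfl | rfl <;> (try rw [dvd_neg]) <;>
      rw [show (2 : ℤ) = ((2 : ℕ) : ℤ) from rfl, ← Nat.cast_pow, ← Nat.cast_pow, Int.natCast_dvd_natCast,
        Nat.pow_dvd_pow_iff_le_right (by norm_num)]
  rw [e] at h1 h2
  omega

omit hu hu0 hus hexp hζ in
include hR S in
/-- **The invariants of the block.** -/
theorem invariants :
    Nat.card B = h + 3 ∧ 1 ≤ blockRank 2 B ∧ blockRank 2 B ≤ 3 ∧
      Nat.card {χ : IrrCharacter G // χ ∈ B ∧ blockHeight 2 B (χ : G → ℂ) = 0} = 4 ∧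
      ∀ χ ∈ B, blockHeight 2 B (χ : G → ℂ) ≤ 1 := by
  classical
  have := Fact.mk hM.1
  have hB : IsPBlock M B := hmax.1.2.1
  have hPD : IsDefectGroup 2 M B P := (maximal_core hM hmax).1
  have hh2 := hR.two_le
  have hh3 : h ≠ 3 := by
    obtain ⟨k, hk⟩ := hR.two_pow
    intro e
    rcases k with _ | k
    · simp at hk; omega
    · rw [pow_succ] at hk; omega
  obtain ⟨ζ, hζ⟩ : ∃ ζ : ℂ, IsPrimitiveRoot ζ (2 * h) :=
    ⟨_, Complex.isPrimitiveRoot_exp (2 * h) (by omega)⟩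
  obtain ⟨u, hu0, hus, hu, hexp⟩ := exists_diff hR S hζ
  set T := B.toFinite.toFinset with hTdef
  have hmT : ∀ {χ}, χ ∈ T ↔ χ ∈ B := B.toFinite.mem_toFinset
  have hhalf : ζ ^ h = -1 := by
    have h1 : ζ ^ h * ζ ^ h = 1 := by rw [← pow_add, ← two_mul, hζ.pow_eq_one]
    rcases mul_self_eq_one_iff.1 h1 with e | e
    · have := Nat.le_of_dvd hR.h_pos ((hζ.pow_eq_one_iff_dvd h).1 e)
      omega
    · exact e
  -- the column at the involution
  let F : IrrCharacter G → ℤ := fun χ => ∑ i ∈ Finset.range (2 * h), u i χ * (-1) ^ i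
  have hF : ∀ χ, col hR S χ h = (F χ : ℂ) := fun χ => by
    rw [hexp χ h (fun e => by have := Nat.le_of_dvd hR.h_pos e; omega)]
    simp only [F]
    push_cast
    refine Finset.sum_congr rfl fun i _ => ?_
    rw [← pow_mul, mul_comm i, pow_mul, hhalf]
  have hfull : ∀ χ i, 0 < i → i < 2 * h →
      u i χ = u (if i ≤ h then i else 2 * h - i) χ := fun χ i hi0 hi => by
    split_ifs with e
    · rfl
    · exact (hus χ i hi0 hi).symm
  have hidx : ∀ i, 0 < i → i < 2 * h → (if i ≤ h then i else 2 * h - i) ∈ Finset.Icc 1 h :=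
    fun i hi0 hi => Finset.mem_Icc.2 (by split_ifs <;> omega)
  -- the configuration
  obtain ⟨s, σ, hσ, hs3, hs4, hint, hTs, hval⟩ := exists_supports T hh2 u
    (fun χ => (charDegree (χ : G → ℂ) : ℤ))
    (fun χ _ => by have := Nat.pos_of_ne_zero (charDegree_ne_zero χ.2); omega)
    (fun j hj => by
      have h0 := diff_regular hR S hu hM hmax (j := j)
        (by have := (Finset.mem_Icc.1 hj).2; omega) (ρ := (1 : G)) (by rw [orderOf_one]; norm_num)
      refine Int.cast_injective (α := ℂ) ?_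
      push_cast
      rw [← h0]
      refine Finset.sum_congr rfl fun χ _ => ?_
      rw [CfsgLib.BlockB.irr_degree_cast χ, mul_comm])
    (fun i hi j hj => diff_gram hR S hζ hu hM hmax (Finset.mem_Icc.1 hi).1 (Finset.mem_Icc.1 hi).2
      (Finset.mem_Icc.1 hj).1 (Finset.mem_Icc.1 hj).2)
    (fun χ hχ => by
      by_contra hn
      push Not at hn
      have hz : F χ = 0 := by
        refine Finset.sum_eq_zero fun i hi => ?_
        rcases Nat.eq_zero_or_pos i with rfl | hi0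
        · rw [hu0, zero_mul]
        · rw [hfull χ i hi0 (Finset.mem_range.1 hi), hn _ (hidx i hi0 (Finset.mem_range.1 hi)),
            zero_mul]
      exact (col_height hR S hM hmax hPD (hmT.1 hχ) 0 (by rw [hF, hz])).1 rfl)
  rcases exists_cores T hh2 hh3 s hs3 hs4 hint hTs with hsun | hex
  swap
  · exact (not_exceptional hR S hζ hu hu0 hus hexp hM hmax s σ hσ hval hex).elim
  obtain ⟨p, q, a, b, l, npq, npa, npb, nqa, nqb, nab, hl, hinj, hsj, hsh, hT⟩ := hsun
  have hhm : h ∈ Finset.Icc 1 h := Finset.mem_Icc.2 ⟨by omega, le_rfl⟩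
  have hcore : ∀ {x}, x ∈ ({p, q, a, b} : Finset (IrrCharacter G)) → x ∈ T := fun {x} hx => by
    rw [hT]; exact Finset.mem_union_left _ hx
  have hleaf : ∀ j ∈ Finset.Ico 1 h, l j ∈ T := fun j hj => by
    rw [hT]; exact Finset.mem_union_right _ (Finset.mem_image_of_mem l hj)
  have hI : ∀ {j}, j ∈ Finset.Ico 1 h → j ∈ Finset.Icc 1 h := fun hj =>
    Finset.Ico_subset_Icc_self hj
  have hmemj : ∀ i ∈ Finset.Icc 1 h, i = h ∨ i ∈ Finset.Ico 1 h := fun i hi => by
    rw [Finset.mem_Icc] at hi; rw [Finset.mem_Ico]; omega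
  -- the values of the column at the involution
  have hFp : ∀ x, x = p ∨ x = q → F x = -σ x := fun x hx => by
    have hxT : x ∈ T := hcore (by rcases hx with rfl | rfl <;> simp)
    have hx' : ∀ i ∈ Finset.Icc 1 h, x ∈ s i := fun i hi => by
      rcases hmemj i hi with rfl | hi'
      · rw [hsh]; rcases hx with rfl | rfl <;> simp
      · rw [hsj i hi']; rcases hx with rfl | rfl <;> simp
    calc F x = ∑ i ∈ Finset.range (2 * h), (σ x * (-1) ^ i - if i = 0 then σ x else 0) := by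
          refine Finset.sum_congr rfl fun i hi => ?_
          rcases Nat.eq_zero_or_pos i with rfl | hi0
          · simp [hu0]
          · rw [hfull x i hi0 (Finset.mem_range.1 hi),
              hval _ (hidx i hi0 (Finset.mem_range.1 hi)) x hxT,
              if_pos (hx' _ (hidx i hi0 (Finset.mem_range.1 hi))), if_neg hi0.ne', sub_zero]
      _ = -σ x := by
          rw [Finset.sum_sub_distrib, ← Finset.mul_sum, neg_one_geom_sum, if_pos (even_two_mul h),
            Finset.sum_ite_eq', if_pos (Finset.mem_range.2 (by omega))]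
          ring
  have hFa : ∀ x, x = a ∨ x = b → F x = σ x * (-1) ^ h := fun x hx => by
    have hxT : x ∈ T := hcore (by rcases hx with rfl | rfl <;> simp)
    have hx' : ∀ i ∈ Finset.Icc 1 h, x ∈ s i ↔ i = h := fun i hi => by
      rcases hmemj i hi with rfl | hi'
      · simp only [hsh, iff_true]; rcases hx with rfl | rfl <;> simp
      · have hne : i ≠ h := (Finset.mem_Ico.1 hi').2.ne
        simp only [hsj i hi', hne, iff_false, Finset.mem_insert, Finset.mem_singleton, not_or]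
        rcases hx with rfl | rfl
        · exact ⟨npa.symm, nqa.symm, (hl i hi').2.2.1.symm⟩
        · exact ⟨npb.symm, nqb.symm, (hl i hi').2.2.2.symm⟩
    refine (Finset.sum_eq_single h (fun i hi hne => ?_) (fun hn => absurd
      (Finset.mem_range.2 (by omega)) hn)).trans ?_
    · rcases Nat.eq_zero_or_pos i with rfl | hi0
      · rw [hu0, zero_mul]
      · have hi2 := Finset.mem_range.1 hi
        rw [hfull x i hi0 hi2, hval _ (hidx i hi0 hi2) x hxT, if_neg, zero_mul]
        rw [hx' _ (hidx i hi0 hi2)]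
        split_ifs <;> omega
    · rw [hval h hhm x hxT, if_pos ((hx' h hhm).2 rfl)]
  have hFl : ∀ j ∈ Finset.Ico 1 h, F (l j) = 2 * σ (l j) * (-1) ^ j := fun j hj => by
    have hj' := Finset.mem_Ico.1 hj
    have hx' : ∀ i ∈ Finset.Icc 1 h, l j ∈ s i ↔ i = j := fun i hi => by
      rcases hmemj i hi with rfl | hi'
      · simp only [hsh, Finset.mem_insert, Finset.mem_singleton]
        simp [(hl j hj).1, (hl j hj).2.1, (hl j hj).2.2.1, (hl j hj).2.2.2, hj'.2.ne']
      · rw [hsj i hi']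
        simp only [Finset.mem_insert, Finset.mem_singleton, (hl j hj).1, (hl j hj).2.1, false_or]
        exact ⟨fun e => (hinj hj hi' e).symm, fun e => by rw [e]⟩
    calc F (l j) = ∑ i ∈ Finset.range (2 * h), ((if i = j then σ (l j) * (-1) ^ j else 0) +
          (if i = 2 * h - j then σ (l j) * (-1) ^ j else 0)) := by
          refine Finset.sum_congr rfl fun i hi => ?_
          rcases Nat.eq_zero_or_pos i with rfl | hi0
          · rw [hu0, zero_mul, if_neg (by omega), if_neg (by omega), add_zero]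
          · have hi2 := Finset.mem_range.1 hi
            rw [hfull _ i hi0 hi2, hval _ (hidx i hi0 hi2) _ (hleaf j hj)]
            simp only [hx' _ (hidx i hi0 hi2)]
            rcases eq_or_ne i j with rfl | e1
            · rw [if_pos (if_pos hj'.2.le), if_pos rfl, if_neg (by omega), add_zero]
            rcases eq_or_ne i (2 * h - j) with rfl | e2
            · rw [if_pos (by split_ifs <;> omega), if_neg e1, if_pos rfl, zero_add]
              congr 1
              rw [neg_one_pow_eq_pow_mod_two, neg_one_pow_eq_pow_mod_two (n := j)]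
              congr 1
              omega
            · rw [if_neg (by split_ifs <;> omega), if_neg e1, if_neg e2, add_zero, zero_mul]
      _ = 2 * σ (l j) * (-1) ^ j := by
          rw [Finset.sum_add_distrib, Finset.sum_ite_eq', Finset.sum_ite_eq',
            if_pos (Finset.mem_range.2 (by omega)), if_pos (Finset.mem_range.2 (by omega))]
          ring
  -- the heights
  have hht0 : ∀ x ∈ ({p, q, a, b} : Finset (IrrCharacter G)),
      blockHeight 2 B (x : G → ℂ) = 0 := fun x hx => by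
    obtain ⟨-, h1, h2⟩ := col_height hR S hM hmax hPD (hmT.1 (hcore hx)) (F x) (hF x)
    refine height_of_dvd h1 h2 ?_
    simp only [Finset.mem_insert, Finset.mem_singleton] at hx
    rcases hx with e | e | e | e
    · rw [hFp x (Or.inl e)]; rcases hσ x with v | v <;> simp [v]
    · rw [hFp x (Or.inr e)]; rcases hσ x with v | v <;> simp [v]
    · rw [hFa x (Or.inl e)]
      rcases hσ x with v | v <;> rcases neg_one_pow_eq_or ℤ h with w | w <;> simp [v, w]
    · rw [hFa x (Or.inr e)]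
      rcases hσ x with v | v <;> rcases neg_one_pow_eq_or ℤ h with w | w <;> simp [v, w]
  have hht1 : ∀ j ∈ Finset.Ico 1 h, blockHeight 2 B ((l j : IrrCharacter G) : G → ℂ) = 1 :=
    fun j hj => by
    obtain ⟨-, h1, h2⟩ := col_height hR S hM hmax hPD (hmT.1 (hleaf j hj)) (F (l j)) (hF _)
    refine height_of_dvd h1 h2 ?_
    rw [hFl j hj]
    rcases hσ (l j) with v | v <;> rcases neg_one_pow_eq_or ℤ j with w | w <;> simp [v, w]
  have hcard4 : ({p, q, a, b} : Finset (IrrCharacter G)).card = 4 := by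
    rw [Finset.card_insert_of_notMem (by simp [npq, npa, npb]),
      Finset.card_insert_of_notMem (by simp [nqa, nqb]), Finset.card_pair nab]
  refine ⟨?_, one_le_blockRank hM hB, ?_, ?_, fun χ hχ => ?_⟩
  · rw [Nat.card_eq_card_finite_toFinset B.toFinite, ← hTdef, hT,
      Finset.card_union_of_disjoint, hcard4, Finset.card_image_of_injOn hinj, Nat.card_Ico]
    · omega
    · rw [Finset.disjoint_left]
      intro x hx hx'
      obtain ⟨j, hj, rfl⟩ := Finset.mem_image.1 hx'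
      obtain ⟨n1, n2, n3, n4⟩ := hl j hj
      simp [n1, n2, n3, n4] at hx
  · -- the regular parts
    let f : IrrCharacter G → (G → ℂ) := fun χ => pRegularPart 2 (χ : G → ℂ)
    have hσ2 : ∀ χ, (σ χ : ℂ) * (σ χ : ℂ) = 1 := fun χ => by rcases hσ χ with v | v <;> simp [v]
    have hrel : ∀ i ∈ Finset.Icc 1 h, ∑ χ ∈ s i, (σ χ : ℂ) • f χ = 0 := fun i hi => by
      funext g
      simp only [Finset.sum_apply, Pi.smul_apply, smul_eq_mul, Pi.zero_apply, f, pRegularPart]
      by_cases hg : IsPRegular 2 g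
      · simp only [if_pos hg]
        have hg' : ¬ 2 ∣ orderOf g := hg
        rw [← diff_regular hR S hu hM hmax (j := i) (by have := (Finset.mem_Icc.1 hi).2; omega) hg',
          ← Finset.sum_subset (s₁ := s i) (s₂ := T) (fun χ hχ => (hTs χ).2 ⟨i, hi, hχ⟩)
            (fun χ hχ hn => by rw [hval i hi χ hχ, if_neg hn, Int.cast_zero, mul_zero])]
        refine Finset.sum_congr rfl fun χ hχ => ?_
        rw [hval i hi χ ((hTs χ).2 ⟨i, hi, hχ⟩), if_pos hχ]
        ring
      · simp only [if_neg hg, mul_zero, Finset.sum_const_zero]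
    let W : Submodule ℂ (G → ℂ) :=
      Submodule.span ℂ ((({p, q, a} : Finset (IrrCharacter G)).image f : Finset (G → ℂ)) : Set (G → ℂ))
    have hgen : ∀ x ∈ ({p, q, a} : Finset (IrrCharacter G)), f x ∈ W := fun x hx =>
      Submodule.subset_span (Finset.mem_coe.2 (Finset.mem_image_of_mem f hx))
    have hWp := hgen p (by simp)
    have hWq := hgen q (by simp)
    have hWa := hgen a (by simp)
    have hle : Submodule.span ℂ (f '' B) ≤ W := by
      rw [Submodule.span_le]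
      rintro v ⟨x, hx, rfl⟩
      have hx' := hmT.2 hx
      rw [hT, Finset.mem_union, Finset.mem_image] at hx'
      have solve : ∀ y : IrrCharacter G, ∀ w ∈ W, w + (σ y : ℂ) • f y = 0 → f y ∈ W := by
        intro y w hw e
        have : f y = -((σ y : ℂ) • w) := by
          rw [eq_neg_iff_add_eq_zero, ← one_smul ℂ (f y), ← hσ2 y, mul_smul, ← smul_add,
            add_comm, e, smul_zero]
        rw [this]
        exact W.neg_mem (W.smul_mem _ hw)
      rcases hx' with hx' | ⟨j, hj, rfl⟩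
      · simp only [Finset.mem_insert, Finset.mem_singleton] at hx'
        rcases hx' with rfl | rfl | rfl | rfl
        · exact hWp
        · exact hWq
        · exact hWa
        · have e := hrel h hhm
          rw [hsh, Finset.sum_insert (by simp [npq, npa, npb]),
            Finset.sum_insert (by simp [nqa, nqb]), Finset.sum_pair nab] at e
          refine solve x ((σ p : ℂ) • f p + ((σ q : ℂ) • f q + (σ a : ℂ) • f a))
            (W.add_mem (W.smul_mem _ hWp) (W.add_mem (W.smul_mem _ hWq) (W.smul_mem _ hWa))) ?_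
          rw [← e]; abel
      · have e := hrel j (hI hj)
        rw [hsj j hj, Finset.sum_insert (by simp [npq, (hl j hj).1.symm]),
          Finset.sum_pair (hl j hj).2.1.symm] at e
        refine solve (l j) ((σ p : ℂ) • f p + (σ q : ℂ) • f q)
          (W.add_mem (W.smul_mem _ hWp) (W.smul_mem _ hWq)) ?_
        rw [← e]; abel
    calc blockRank 2 B ≤ Module.finrank ℂ W := Submodule.finrank_mono hle
      _ ≤ (({p, q, a} : Finset (IrrCharacter G)).image f).card := finrank_span_finset_le_card _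
      _ ≤ 3 := Finset.card_image_le.trans Finset.card_le_three
  · rw [Nat.card_congr (Equiv.subtypeEquivRight (q := fun χ => χ ∈ ({p, q, a, b} : Finset (IrrCharacter G))) ?_),
      Nat.card_eq_finsetCard, hcard4]
    intro χ
    constructor
    · rintro ⟨hχ, h0⟩
      have hχ' := hmT.2 hχ
      rw [hT, Finset.mem_union, Finset.mem_image] at hχ'
      rcases hχ' with hχ' | ⟨j, hj, rfl⟩
      · exact hχ'
      · rw [hht1 j hj] at h0; exact absurd h0 one_ne_zero
    · exact fun hχ => ⟨hmT.1 (hcore hχ), hht0 χ hχ⟩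
  · have hχ' := hmT.2 hχ
    rw [hT, Finset.mem_union, Finset.mem_image] at hχ'
    rcases hχ' with hχ' | ⟨j, hj, rfl⟩
    · rw [hht0 χ hχ']; exact Nat.zero_le _
    · rw [hht1 j hj]

end CfsgLib.BlockA.DihedralDefect
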