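import Cfsg.Agent.Lib.BlockA.RankAddCard
import Cfsg.Agent.Lib.BlockA.DihedralInvariants
import Cfsg.Agent.Lib.BlockA.QuotientDefect

/-!
A `2`-block whose defect group has a cyclic maximal subgroup and an outer involution, dihedral
modulo the central involution: with a central involution in the group it has rank at most two.
-/

set_option autoImplicit false
set_option linter.unusedSectionVars false
set_option maxHeartbeats 1000000

namespace CfsgLib.BlockA.CentralQuotientRank

open Cfsg CfsgLib.Block CfsgLib.BlockA CfsgLib.BlockB CfsgLib.BlockB.SubSum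
  CfsgLib.BlockB.HeightBound AbelianSub DihedralDefect

universe u

variable {G : Type u} [Group G]

/-- A `2`-group with a cyclic maximal subgroup generated by `x` and an involution `y` outside,
dihedral modulo the square root of one in that subgroup, not abelian. -/
structure Pair (D : Subgroup G) (x y : G) (h : ℕ) : Prop where
  two_pow : ∃ k : ℕ, h = 2 ^ k
  x_mem : x ∈ D
  orderOf_x : orderOf x = 4 * h
  y_mem : y ∈ D
  y_sq : y * y = 1
  y_not : y ∉ Subgroup.zpowers x
  card_eq : Nat.card D = 8 * h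
  conj_mul : y * x * y⁻¹ * x ∈ Subgroup.zpowers (x ^ (2 * h))
  conj_ne : y * x * y⁻¹ ≠ x

namespace Pair

variable {D : Subgroup G} {x y : G} {h : ℕ} (hP : Pair D x y h)
include hP

theorem h_pos : 0 < h := by
  obtain ⟨k, rfl⟩ := hP.two_pow
  positivity

theorem zpowers_le : Subgroup.zpowers x ≤ D := Subgroup.zpowers_le.2 hP.x_mem

theorem cover {w : G} (hw : w ∈ D) :
    w ∈ Subgroup.zpowers x ∨ w * y⁻¹ ∈ Subgroup.zpowers x := by
  have hidx : ((Subgroup.zpowers x).subgroupOf D).index = 2 := by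
    have h1 := ((Subgroup.zpowers x).subgroupOf D).card_mul_index
    rw [Nat.card_congr (Subgroup.subgroupOfEquivOfLe hP.zpowers_le).toEquiv, Nat.card_zpowers,
      hP.orderOf_x, hP.card_eq] at h1
    have := hP.h_pos
    nlinarith
  by_cases hwx : w ∈ Subgroup.zpowers x
  · exact Or.inl hwx
  · right
    have h1 : (⟨w, hw⟩ : D) * (⟨y, hP.y_mem⟩ : D)⁻¹ ∈ (Subgroup.zpowers x).subgroupOf D := by
      rw [Subgroup.mul_mem_iff_of_index_two hidx, inv_mem_iff]
      exact iff_of_false (fun e => hwx e) (fun e => hP.y_not e)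
    exact h1

theorem mem_z {g : G} (hg : g ∈ Subgroup.zpowers (x ^ (2 * h))) : g = 1 ∨ g = x ^ (2 * h) := by
  obtain ⟨i, rfl⟩ := Subgroup.mem_zpowers_iff.1 hg
  have h2 : (x ^ (2 * h)) ^ (2 : ℤ) = 1 := by
    rw [show (2 : ℤ) = ((2 : ℕ) : ℤ) from rfl, zpow_natCast, ← pow_mul,
      show 2 * h * 2 = 4 * h by ring, ← hP.orderOf_x, pow_orderOf_eq_one]
  rcases Int.even_or_odd i with ⟨j, rfl⟩ | ⟨j, rfl⟩
  · left
    rw [← two_mul, zpow_mul, h2, one_zpow]
  · right
    rw [zpow_add, zpow_mul, h2, one_zpow, one_mul, zpow_one]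

theorem z_ne_one : x ^ (2 * h) ≠ 1 := fun e => by
  have := hP.h_pos
  have h1 := Nat.le_of_dvd (by omega) (hP.orderOf_x ▸ orderOf_dvd_of_pow_eq_one e)
  omega

/-- The only involution commuting with `x` is the power of `x`. -/
theorem eq_z_of_commute {w : G} (hw : w ∈ D) (ho : orderOf w = 2) (hc : Commute w x) :
    w = x ^ (2 * h) := by
  have := hP.h_pos
  rcases hP.cover hw with hwx | hwy
  · obtain ⟨i, rfl⟩ := Subgroup.mem_zpowers_iff.1 hwx
    have hsq : (x ^ i) ^ (2 : ℕ) = 1 := by rw [← ho, pow_orderOf_eq_one]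
    rw [← zpow_natCast, ← zpow_mul, ← orderOf_dvd_iff_zpow_eq_one, hP.orderOf_x] at hsq
    push_cast at hsq
    have hdvd : (2 * (h : ℤ)) ∣ i := by
      obtain ⟨c, hc⟩ := hsq
      exact ⟨c, by linarith⟩
    obtain ⟨c, rfl⟩ := hdvd
    have hmem : x ^ (2 * (h : ℤ) * c) ∈ Subgroup.zpowers (x ^ (2 * h)) := by
      rw [zpow_mul, show (2 * (h : ℤ)) = ((2 * h : ℕ) : ℤ) by push_cast; ring, zpow_natCast]
      exact Subgroup.zpow_mem_zpowers _ c
    rcases hP.mem_z hmem with e | e
    · rw [e, orderOf_one] at ho; omega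
    · exact e
  · obtain ⟨i, hi⟩ := Subgroup.mem_zpowers_iff.1 hwy
    refine absurd ?_ hP.conj_ne
    have hy : y = x ^ (-i) * w := by rw [zpow_neg, hi]; group
    have hcy : Commute y x := by
      rw [hy]
      exact ((Commute.refl x).zpow_left _).mul_left hc
    rw [hcy.eq, mul_inv_cancel_right]

end Pair

variable [Finite G] {M : Ideal AlgInt} [M.IsPrime]

/-- **A central involution bounds the rank by two.** -/
theorem rank_le_two (hM : IsPModular 2 M) {B : Set (IrrCharacter G)} (hB : IsPBlock M B)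
    {D : Subgroup G} (hD : IsDefectGroup 2 M B D) {x y : G} {h : ℕ} (hP : Pair D x y h)
    (hZ : 2 ∣ Nat.card (Subgroup.center G)) : blockRank 2 B ≤ 2 := by
  classical
  have : Fact (Nat.Prime 2) := ⟨Nat.prime_two⟩
  have := Fintype.ofFinite G
  have hh := hP.h_pos
  obtain ⟨⟨w, hwc⟩, hw⟩ := exists_prime_orderOf_dvd_card' 2 hZ
  rw [Subgroup.orderOf_mk] at hw
  set z := x ^ (2 * h) with hz
  -- the central involution is the power of `x`
  have hwz : w = z := by
    have : (Subgroup.zpowers w).Normal := ⟨fun n hn g => by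
      rw [(Subgroup.mem_center_iff.1 ((Subgroup.zpowers_le.2 hwc) hn) g), mul_inv_cancel_right]
      exact hn⟩
    have hp2 : IsPGroup 2 (Subgroup.zpowers w) :=
      IsPGroup.of_card (n := 1) (by rw [Nat.card_zpowers, hw, pow_one])
    exact hP.eq_z_of_commute (normal_le_defectGroup hM hp2 hB hD (Subgroup.mem_zpowers w)) hw
      ((Subgroup.mem_center_iff.1 hwc x).symm)
  subst hwz
  set Z := Subgroup.zpowers z with hZdef
  have hZc : Z ≤ Subgroup.center G := Subgroup.zpowers_le.2 hwc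
  have hZn : Z.Normal := ⟨fun n hn g => by
    rw [(Subgroup.mem_center_iff.1 (hZc hn) g), mul_inv_cancel_right]
    exact hn⟩
  have hZ2 : Nat.card Z = 2 := by rw [hZdef, Nat.card_zpowers, hw]
  have hZp : IsPGroup 2 Z := IsPGroup.of_card (n := 1) (by rw [hZ2, pow_one])
  have := Fintype.ofFinite (G ⧸ Z)
  -- the dominated block
  obtain ⟨c, hc, hcmem, hrk, -, -⟩ := Dominated.exists_dominated hZc hZp hM hB
  obtain ⟨Bb, hBb, hBsub, hBdef⟩ := QuotientDefect.exists_block_images Z hM hZp hB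
  obtain rfl : Bb = c := by
    obtain ⟨η, hη⟩ := isPBlock_nonempty hBb
    exact isPBlock_eq_of_mem hBb hc hη ((hcmem η).2 (hBsub η hη))
  set Pb := D.map (QuotientGroup.mk' Z) with hPb
  have hDb : IsDefectGroup 2 M Bb Pb := (hBdef _).2 ⟨D, hD, rfl⟩
  obtain ⟨e, hmax⟩ := DefectOneStar.exists_maximal_pair hM hBb hDb
  -- the images
  set xb : G ⧸ Z := QuotientGroup.mk' Z x with hxb
  set yb : G ⧸ Z := QuotientGroup.mk' Z y with hyb
  have hxbm : xb ∈ Pb := Subgroup.mem_map_of_mem _ hP.x_mem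
  have hybm : yb ∈ Pb := Subgroup.mem_map_of_mem _ hP.y_mem
  have hxpow : ∀ l : ℕ, xb ^ l = 1 ↔ 2 * h ∣ l := by
    intro l
    rw [hxb, ← map_pow, QuotientGroup.mk'_apply, QuotientGroup.eq_one_iff]
    constructor
    · intro hl
      rcases hP.mem_z hl with e | e
      · have h1 := orderOf_dvd_of_pow_eq_one e
        rw [hP.orderOf_x] at h1
        exact (Dvd.intro 2 (by ring)).trans h1
      · rw [pow_eq_pow_iff_modEq, hP.orderOf_x] at e
        have h1 : l ≡ 2 * h [MOD 2 * h] := e.of_dvd ⟨2, by ring⟩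
        exact Nat.modEq_zero_iff_dvd.1 (h1.trans (Nat.modEq_zero_iff_dvd.2 dvd_rfl))
    · rintro ⟨q, rfl⟩
      rw [pow_mul]
      exact Subgroup.npow_mem_zpowers _ q
  have hxo : orderOf xb = 2 * h :=
    Nat.dvd_antisymm (orderOf_dvd_of_pow_eq_one ((hxpow _).2 dvd_rfl))
      ((hxpow _).1 (pow_orderOf_eq_one xb))
  have hynot : yb ∉ Subgroup.zpowers xb := fun hmem => by
    obtain ⟨i, hi⟩ := Subgroup.mem_zpowers_iff.1 hmem
    rw [hxb, hyb, ← map_zpow, QuotientGroup.mk'_apply, QuotientGroup.mk'_apply, QuotientGroup.eq,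
      hZdef] at hi
    have h1 : (x ^ i)⁻¹ * y ∈ Subgroup.zpowers x :=
      Subgroup.zpowers_le.2 (Subgroup.npow_mem_zpowers x _) hi
    exact hP.y_not ((Subgroup.mul_mem_cancel_left _
      (inv_mem (Subgroup.zpow_mem_zpowers x i))).1 h1)
  have hyb2 : yb * yb = 1 := by rw [hyb, ← map_mul, hP.y_sq, map_one]
  have hybinv : yb * xb * yb⁻¹ = xb⁻¹ := by
    rw [eq_inv_iff_mul_eq_one, hxb, hyb, ← map_inv, ← map_mul, ← map_mul, ← map_mul,
      QuotientGroup.mk'_apply, QuotientGroup.eq_one_iff]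
    exact hP.conj_mul
  have hcov : ∀ w ∈ Pb, w ∈ Subgroup.zpowers xb ∨ ∃ i : ℤ, w = xb ^ i * yb := by
    rintro _ ⟨v, hv, rfl⟩
    rcases hP.cover hv with hv' | hv'
    · obtain ⟨i, rfl⟩ := Subgroup.mem_zpowers_iff.1 hv'
      exact Or.inl (by rw [map_zpow]; exact Subgroup.zpow_mem_zpowers _ i)
    · obtain ⟨i, hi⟩ := Subgroup.mem_zpowers_iff.1 hv'
      refine Or.inr ⟨i, ?_⟩
      rw [hxb, hyb, ← map_zpow, ← map_mul, hi, inv_mul_cancel_right]
  have hinv : ∀ i : ℤ, (xb ^ i * yb) * (xb ^ i * yb) = 1 ∧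
      (xb ^ i * yb) * xb * (xb ^ i * yb)⁻¹ = xb⁻¹ := by
    intro i
    have h1 : yb * xb ^ i * yb⁻¹ = (xb ^ i)⁻¹ := by
      rw [← inv_zpow, ← hybinv]
      exact map_zpow (MulAut.conj yb).toMonoidHom xb i
    constructor
    · calc xb ^ i * yb * (xb ^ i * yb) = xb ^ i * (yb * xb ^ i * yb⁻¹) * (yb * yb) := by group
        _ = 1 := by rw [h1, hyb2, mul_one, mul_inv_cancel]
    · calc xb ^ i * yb * xb * (xb ^ i * yb)⁻¹ = xb ^ i * (yb * xb * yb⁻¹) * (xb ^ i)⁻¹ := by group
        _ = xb⁻¹ := by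
          rw [hybinv, ((Commute.refl xb).zpow_left i).inv_right.eq, mul_inv_cancel_right]
  have hcardb : Nat.card Pb = 4 * h := by
    have h1 : Z ≤ D := Subgroup.zpowers_le.2 (D.pow_mem hP.x_mem _)
    have h2 : Nat.card Z * Z.relIndex D = Nat.card D := by
      rw [← Nat.card_congr (Subgroup.subgroupOfEquivOfLe h1).toEquiv]
      exact (Z.subgroupOf D).card_mul_index
    have h3 : Nat.card Pb = Z.relIndex D := by
      rw [hPb, ← Subgroup.relIndex_bot_left, ← Subgroup.relIndex_comap, MonoidHom.comap_bot,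
        QuotientGroup.ker_mk']
    rw [hZ2, hP.card_eq, ← h3] at h2
    omega
  -- the number of characters
  have hRot : 2 ≤ h → Rot Pb xb h := fun h2 => by
    refine ⟨h2, hP.two_pow, hxbm, hxo, hcardb, fun w hw hnot => ?_, fun v hv w hw hv' hw' => ?_⟩
    · obtain ⟨i, rfl⟩ := (hcov w hw).resolve_left hnot
      exact hinv i
    · obtain ⟨i, rfl⟩ := (hcov v hv).resolve_left hv'
      obtain ⟨j, rfl⟩ := (hcov w hw).resolve_left hw'
      refine Subgroup.mem_zpowers_iff.2 ⟨i - j, ?_⟩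
      rw [mul_inv_rev, zpow_sub]
      group
  have hk : Nat.card Bb = h + 3 := by
    rcases Nat.lt_or_ge h 2 with h1 | h2
    · obtain rfl : h = 1 := by omega
      have hx2 : xb * xb = 1 := by
        rw [← pow_two]
        exact (hxpow 2).2 dvd_rfl
      have hsq : ∀ w : G ⧸ Z, w ∈ Pb → w * w = 1 := by
        intro w hw
        rcases hcov w hw with hwx | ⟨i, rfl⟩
        · obtain ⟨i, rfl⟩ := Subgroup.mem_zpowers_iff.1 hwx
          rw [← (Commute.refl xb).mul_zpow, hx2, one_zpow]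
        · exact (hinv i).1
      have hV : IsKleinFour Pb := by
        refine ⟨by rw [hcardb], ?_⟩
        refine Nat.dvd_antisymm (Monoid.exponent_dvd_of_forall_pow_eq_one fun w => ?_) ?_
        · rw [pow_two]; exact Subtype.ext (hsq w w.2)
        · have h3 : orderOf (⟨yb, hybm⟩ : Pb) = 2 := by
            rw [Subgroup.orderOf_mk, orderOf_eq_prime_iff]
            exact ⟨by rw [pow_two, hyb2], fun e => hynot (by rw [e]; exact one_mem _)⟩
          rw [← h3]
          exact Monoid.order_dvd_exponent _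
      exact (KleinDefect.klein_invariants hM hmax hV).2.1
    · have hR := hRot h2
      have := Fintype.ofFinite (DihedralDefect.cz xb h)
      have := Fintype.ofFinite (IrrCharacter (Pb.subgroupOf (DihedralDefect.cz xb h)))
      obtain ⟨S⟩ := DihedralDefect.exists_setup hM hmax hDb hR
      exact (DihedralDefect.invariants hR S hM hmax).1
  -- the separated elements
  have hxinj : ∀ l ∈ Finset.Icc 1 h, ∀ m ∈ Finset.Icc 1 h, xb ^ l = xb ^ m → l = m := by
    intro l hl m hm e
    rw [Finset.mem_Icc] at hl hm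
    exact pow_injOn_Iio_orderOf (by rw [Set.mem_Iio, hxo]; omega) (by rw [Set.mem_Iio, hxo]; omega) e
  set S : Finset (G ⧸ Z) := insert yb ((Finset.Icc 1 h).image fun l => xb ^ l) with hS
  have hScard : S.card = h + 1 := by
    rw [hS, Finset.card_insert_of_notMem, Finset.card_image_of_injOn hxinj, Nat.card_Icc]
    · omega
    · intro hmem
      obtain ⟨l, -, hl⟩ := Finset.mem_image.1 hmem
      exact hynot (hl ▸ Subgroup.npow_mem_zpowers _ l)
  have hSmem : ∀ w ∈ S, w ∈ Pb ∧ w ≠ 1 := by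
    intro w hw
    rcases Finset.mem_insert.1 hw with rfl | hw
    · exact ⟨hybm, fun e => hynot (by rw [e]; exact one_mem _)⟩
    · obtain ⟨l, hl, rfl⟩ := Finset.mem_image.1 hw
      refine ⟨Pb.pow_mem hxbm l, fun e => ?_⟩
      have h1 := Nat.le_of_dvd (Finset.mem_Icc.1 hl).1 ((hxpow l).1 e)
      have h2 := (Finset.mem_Icc.1 hl).2
      omega
  -- a power of `x` is not fused to `y`
  have hnf : ∀ (a : G ⧸ Z), ∀ l ∈ Finset.Icc 1 h, a * xb ^ l * a⁻¹ ≠ yb := by
    intro a l hl e
    rw [Finset.mem_Icc] at hl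
    have hlh : l = h := by
      have h1 : (xb ^ l) ^ 2 = 1 := by
        refine (conj_eq_one_iff (a := a)).1 ?_
        rw [← conj_pow, e, pow_two, hyb2]
      rw [← pow_mul, hxpow] at h1
      have h2 := Nat.le_of_dvd (by omega) h1
      omega
    subst hlh
    obtain ⟨g, rfl⟩ := QuotientGroup.mk'_surjective Z a
    rw [hxb, hyb, ← map_pow, ← map_inv, ← map_mul, ← map_mul, QuotientGroup.mk'_apply,
      QuotientGroup.mk'_apply, QuotientGroup.eq, hZdef] at e
    set u := g * x ^ l * g⁻¹ with hu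
    have hu2 : u * u = z := by
      rw [hu, show g * x ^ l * g⁻¹ * (g * x ^ l * g⁻¹) = g * (x ^ l * x ^ l) * g⁻¹ by group,
        ← pow_add, ← two_mul, ← hz, (Subgroup.mem_center_iff.1 hwc g), mul_inv_cancel_right]
    refine hP.z_ne_one ?_
    rw [← hz, ← hu2]
    rcases hP.mem_z e with e' | e'
    · rw [inv_mul_eq_one.1 e', hP.y_sq]
    · have h1 : u = y * z⁻¹ := by rw [show z = u⁻¹ * y from e'.symm]; group
      have h2 : Commute y z := Subgroup.mem_center_iff.1 hwc y
      rw [h1]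
      calc y * z⁻¹ * (y * z⁻¹) = y * (z⁻¹ * y) * z⁻¹ := by group
        _ = y * y * (z * z)⁻¹ := by rw [← h2.inv_right.eq]; group
        _ = 1 := by
          rw [hP.y_sq, ← pow_two, ← hw, pow_orderOf_eq_one, inv_one, one_mul]
  have hsep : ∀ w ∈ S, ∀ w' ∈ S, ∀ a : G ⧸ Z, a * w * a⁻¹ = w' →
      conjFun a (AbelianSub.beta hM hmax w) = AbelianSub.beta hM hmax w' → w = w' := by
    intro w hw w' hw' a e hβ
    rcases Finset.mem_insert.1 hw with rfl | hw <;> rcases Finset.mem_insert.1 hw' with rfl | hw'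
    · rfl
    · obtain ⟨l, hl, rfl⟩ := Finset.mem_image.1 hw'
      refine absurd ?_ (hnf a⁻¹ l hl)
      rw [← e]; group
    · obtain ⟨l, hl, rfl⟩ := Finset.mem_image.1 hw
      exact absurd e (hnf a l hl)
    · obtain ⟨l, hl, rfl⟩ := Finset.mem_image.1 hw
      obtain ⟨m, hm, rfl⟩ := Finset.mem_image.1 hw'
      rw [Finset.mem_Icc] at hl hm
      rcases Nat.lt_or_ge h 2 with h1 | h2
      · rw [show l = m by omega]
      · rcases DihedralDefect.fus_rot hM hmax (hRot h2) (by omega) (by omega) (by omega) e hβ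
          with rfl | e'
        · rfl
        · rw [show l = m by omega]
  have hfinal := RankAddCard.rank_add_card_le hM hmax S hSmem hsep
  rw [hScard, hk, ← hrk] at hfinal
  omega

end CfsgLib.BlockA.CentralQuotientRank
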