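import Cfsg.Agent.Lib.BlockA.EqualDegree
import Cfsg.Agent.Lib.BlockA.CoverSub
import Cfsg.Agent.Lib.Block.LamZero

/-!
A block all of whose members have one degree: the centre has a one-dimensional socle, spanned by
the reduced character, and is mapped injectively by the Brauer map of the defect group.
-/

set_option autoImplicit false
set_option linter.unusedSectionVars false
set_option maxHeartbeats 1000000

namespace CfsgLib.BlockA.CentreSocle

open Cfsg CfsgLib.Block CfsgLib.BlockA CfsgLib.BlockB CfsgLib.BlockA.ProjLattice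
  CfsgLib.BlockA.BlockSquares MonoidAlgebra Module

universe u

variable {G : Type u} [Group G] [Fintype G] {p : ℕ} [hp : Fact p.Prime] {M : Ideal AlgInt}
  [M.IsPrime] (hM : IsPModular p M) {B : Set (IrrCharacter G)} (hB : IsPBlock M B)

local notation "cen" Q => Subgroup.centralizer ((Q : Subgroup G) : Set G)
local notation "Λ" => MonoidAlgebra (kres M) G

/-- The centre of the block algebra. -/
noncomputable def blockCentre (M : Ideal AlgInt) [M.IsPrime] (B : Set (IrrCharacter G)) :
    Submodule (kres M) (MonoidAlgebra (kres M) G) :=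
  LinearMap.range (LinearMap.mulLeft (kres M) (blkIdem M B : MonoidAlgebra (kres M) G) ∘ₗ
    classEmb (kres M) G)

include hM hB

theorem mem_blockCentre {z : Λ} :
    z ∈ blockCentre M B ↔ IsClassCoeff z ∧ (blkIdem M B : Λ) * z = z := by
  constructor
  · rintro ⟨v, rfl⟩
    have hv : classEmb (kres M) G v ∈ Subalgebra.center (kres M) Λ := by
      refine isClassCoeff_iff_mem_center.1 fun g h => ?_
      simp only [classEmb, LinearMap.coe_mk, AddHom.coe_mk, coeff_mkGA]
      exact congrArg v (ConjClasses.mk_eq_mk_iff_isConj.2 (isConj_iff.2 ⟨h, rfl⟩).symm)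
    simp only [LinearMap.comp_apply, LinearMap.mulLeft_apply]
    exact ⟨isClassCoeff_iff_mem_center.2 (Subalgebra.mul_mem _ (blkIdem M B).2 hv),
      by rw [← mul_assoc, blk_idem hM hB]⟩
  · rintro ⟨hz, hbz⟩
    refine ⟨fun K => z.coeff K.out, ?_⟩
    have he : classEmb (kres M) G (fun K => z.coeff K.out) = z := by
      ext g
      simp only [classEmb, LinearMap.coe_mk, AddHom.coe_mk, coeff_mkGA]
      exact coeff_eq_of_isConj hz (ConjClasses.mk_eq_mk_iff_isConj.1 (Quotient.out_eq _))
    rw [LinearMap.comp_apply, he, LinearMap.mulLeft_apply, hbz]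

theorem finrank_blockCentre : finrank (kres M) (blockCentre M B) = Nat.card B :=
  finrank_block_center hM hB

omit hM hB [Fact p.Prime] in
theorem comm_of_isClassCoeff {z : Λ} (hz : IsClassCoeff z) (x : Λ) : z * x = x * z :=
  (Subalgebra.mem_center_iff.1 (isClassCoeff_iff_mem_center.1 hz) x).symm

/-- A trace function on the block centre killing no ideal. -/
theorem exists_form {d : ℕ} (hd : ∀ χ ∈ B, charDegree (χ : G → ℂ) = d) :
    ∃ t : Λ →ₗ[kres M] kres M, ∀ z ∈ blockCentre M B,
      (∀ w ∈ blockCentre M B, t (w * z) = 0) → z = 0 := by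
  classical
  have := Fintype.ofFinite (IrrCharacter G)
  obtain ⟨-, j, hjj, hbj, hbI, hm1, hm0⟩ := EqualDegree.exists_projective hM hB hd
  refine ⟨(traceForm (kres M) G).comp (LinearMap.mulRight (kres M) j), ?_⟩
  have hinj : ∀ z ∈ blockCentre M B, z * j = 0 → z = 0 := by
    intro z hz h0
    obtain ⟨hzc, hbz⟩ := (mem_blockCentre hM hB).1 hz
    have key : ∀ y ∈ Submodule.span (kres M) (Set.range fun q : Λ × Λ => q.1 * j * q.2),
        z * y = 0 := by
      intro y hy
      induction hy using Submodule.span_induction with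
      | mem w hw =>
        obtain ⟨⟨a, c⟩, rfl⟩ := hw
        show z * (a * j * c) = 0
        rw [← mul_assoc, ← mul_assoc, comm_of_isClassCoeff hzc a, mul_assoc a z j, h0]
        simp
      | zero => simp
      | add a c _ _ ha hc => rw [mul_add, ha, hc, add_zero]
      | smul s a _ ha => rw [mul_smul_comm, ha, smul_zero]
    rw [← hbz, ← comm_of_isClassCoeff hzc]
    exact key _ hbI
  set A := LinearMap.range (LinearMap.mulLeft (kres M) j ∘ₗ LinearMap.mulRight (kres M) j) with hA
  have hAdim : finrank (kres M) A = Nat.card B := by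
    have h := CornerDim.finrank_corner hM hjj
    rw [← Finset.sum_filter_add_sum_filter_not Finset.univ (· ∈ B),
      Finset.sum_congr rfl fun χ hχ => by rw [hm1 χ (Finset.mem_filter.1 hχ).2, one_pow],
      Finset.sum_eq_zero (s := Finset.univ.filter (¬ · ∈ B))
        fun χ hχ => by rw [hm0 χ (Finset.mem_filter.1 hχ).2, zero_pow two_ne_zero],
      Finset.sum_const, nsmul_one, add_zero] at h
    rw [Nat.cast_inj.1 h, Nat.card_eq_fintype_card, ← Fintype.card_subtype]
  have hmap : (blockCentre M B).map (LinearMap.mulRight (kres M) j) = A := by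
    refine Submodule.eq_of_le_of_finrank_le ?_ ?_
    · rintro _ ⟨z, hz, rfl⟩
      refine ⟨z, ?_⟩
      have hzc := ((mem_blockCentre hM hB).1 hz).1
      simp only [LinearMap.comp_apply, LinearMap.mulLeft_apply, LinearMap.mulRight_apply]
      rw [← mul_assoc, ← comm_of_isClassCoeff hzc, mul_assoc, hjj]
    · rw [hAdim, ← finrank_blockCentre hM hB]
      refine LinearMap.finrank_le_finrank_of_injective
        (f := ((LinearMap.mulRight (kres M) j).restrict fun z hz =>
          Submodule.mem_map_of_mem hz)) ?_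
      intro a c hac
      have h1 : ((a : Λ) - c) * j = 0 := by
        have h2 := congrArg Subtype.val hac
        simp only [LinearMap.coe_restrict_apply, LinearMap.mulRight_apply] at h2
        rw [sub_mul, h2, sub_self]
      exact Subtype.ext (sub_eq_zero.1 (hinj _ (sub_mem a.2 c.2) h1))
  intro z hz ht
  refine hinj z hz (traceForm_nondeg (kres M) _ fun y => ?_)
  obtain ⟨w, hw, hwj⟩ : j * (y * j) ∈ (blockCentre M B).map (LinearMap.mulRight (kres M) j) :=
    hmap ▸ ⟨y, rfl⟩
  have hzc := ((mem_blockCentre hM hB).1 hz).1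
  have h := ht w hw
  rw [LinearMap.mulRight_apply] at hwj
  simp only [LinearMap.comp_apply, LinearMap.mulRight_apply] at h
  calc traceForm (kres M) G (z * j * y) = traceForm (kres M) G (j * (z * y)) := by
        rw [comm_of_isClassCoeff hzc j, mul_assoc]
    _ = traceForm (kres M) G (j * (j * (z * y))) := by rw [← mul_assoc j j, hjj]
    _ = traceForm (kres M) G (z * (j * (y * j))) := by
        rw [traceForm_symm _ j]
        congr 1
        simp only [← mul_assoc]
        rw [comm_of_isClassCoeff hzc j]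
    _ = 0 := by
        rw [← hwj, ← h, ← mul_assoc z w j, comm_of_isClassCoeff hzc w]

omit hM hB [Fact p.Prime] in
/-- The reduced character, as an element of the group algebra. -/
noncomputable def charElt (M : Ideal AlgInt) [M.IsPrime] (χ : IrrCharacter G) :
    MonoidAlgebra (kres M) G :=
  mkGA fun x => redC M ((χ : G → ℂ) x⁻¹)

omit hM hB [Fact p.Prime] in
theorem isClassCoeff_charElt (χ : IrrCharacter G) : IsClassCoeff (charElt M χ) := fun g h => by
  simp only [charElt, coeff_mkGA]
  rw [show (h * g * h⁻¹)⁻¹ = h * g⁻¹ * h⁻¹ by group, CfsgLib.Char.irr_isClassFunction χ.2]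

omit hM hB [Fact p.Prime] in
theorem mul_charElt (χ : IrrCharacter G) (z : Subalgebra.center (kres M) Λ) :
    (z : Λ) * charElt M χ = lam M χ z • charElt M χ := by
  have hZ : IsLocalCentral M (liftA (z : Λ)) := isLocalCentral_liftA (isClassCoeff_center z)
  have hne := CfsgLib.Char.irr_apply_one_ne_zero χ.2
  have hcl := CfsgLib.Char.irr_isClassFunction χ.2
  ext x
  rw [coeff_mul_eq, coeff_smul, Finsupp.smul_apply, smul_eq_mul]
  simp only [charElt, coeff_mkGA]
  rw [lam_apply χ hZ z (redA_liftA _),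
    ← redC_mul (memLocalRing_omegaC χ.2 hZ) (memLocalRing_irr_apply χ _)]
  have hZc : ∀ g, (z : Λ).coeff g = redC M ((liftA (z : Λ)).coeff g) := fun g => by
    simp [liftA, redC_sec]
  simp only [hZc]
  rw [← Finset.sum_congr rfl fun g _ => redC_mul (hZ.2 g) (memLocalRing_irr_apply χ _),
    ← redC_sum _ _ fun g _ => memLocalRing_mul (hZ.2 g) (memLocalRing_irr_apply χ _)]
  congr 1
  have h := omegaC_mul χ.2 hZ.1 (single x⁻¹ (1 : ℂ))
  rw [omegaC_eq _ (liftA (z : Λ) * single x⁻¹ 1), omegaC_eq _ (single x⁻¹ (1 : ℂ))] at h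
  classical
  simp only [coeff_mul_single_apply, mul_one, inv_inv, coeff_single, Finsupp.single_apply,
    ite_mul, zero_mul, one_mul, Finset.sum_ite_eq, Finset.mem_univ, if_true] at h
  field_simp at h
  rw [← h]
  refine Fintype.sum_equiv (Equiv.mulRight x⁻¹) _ _ fun g => ?_
  simp only [Equiv.coe_mulRight, inv_mul_cancel_right]
  rw [mul_inv_rev, inv_inv, ← hcl (g * x⁻¹) x⁻¹]
  group

/-- The reduced character does not vanish on the centralizer of the defect group. -/
theorem resSub_charElt_ne_zero {χ : IrrCharacter G} (hχ : χ ∈ B)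
    (h0 : blockHeight p B (χ : G → ℂ) = 0) {D : Subgroup G} (hD : IsDefectGroup p M B D) :
    resSub (cen D) (charElt M χ) ≠ 0 := by
  obtain ⟨g, hg, P, rfl⟩ := hD
  intro h
  have hgc : g⁻¹ ∈ cen (cenSub g (P : Subgroup (Subgroup.centralizer ({g} : Set G)))) := by
    refine inv_mem (Subgroup.mem_centralizer_iff.2 fun q hq => ?_)
    exact Subgroup.mem_centralizer_singleton_iff.1 (cenSub_le g _ hq)
  have h1 : redC M ((χ : G → ℂ) g) = 0 := by
    have h2 := congrArg (fun a : MonoidAlgebra (kres M) _ => a.coeff ⟨g⁻¹, hgc⟩) h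
    simp only [coeff_resSub, charElt, coeff_mkGA, inv_inv, coeff_zero, Finsupp.zero_apply] at h2
    exact h2
  rw [← redC_zero (M := M),
    redC_eq_iff (memLocalRing_irr_apply χ g) (lring M).zero_mem, sub_zero] at h1
  refine hg.2.2 χ hχ ?_
  rw [centralChar, ← CfsgLib.Block.charDegree_cast (CfsgLib.Char.irr_isCharacter χ.2),
    mul_div_right_comm]
  refine memLocalIdeal_mul_left (memLocalRing_natCast_div hM (charDegree_ne_zero χ.2) (Or.inr ?_)) h1
  rw [(blockHeight_eq_zero_iff hM hB hχ).1 h0, sInf_degree_eq hM hB hg]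

/-- **The Brauer map is injective on the centre.** -/
theorem eq_zero_of_resSub {d : ℕ} (hd : ∀ χ ∈ B, charDegree (χ : G → ℂ) = d) {D : Subgroup G}
    (hD : IsDefectGroup p M B D) {z : Λ} (hz : z ∈ blockCentre M B)
    (hres : resSub (cen D) z = 0) : z = 0 := by
  classical
  by_contra hz0
  have hDp := isPGroup_defectGroup hM hB hD
  obtain ⟨t, ht⟩ := exists_form hM hB hd
  obtain ⟨χ, hχ⟩ := isPBlock_nonempty hB
  let P : ℕ → Prop := fun n => ∃ s ∈ blockCentre M B, resSub (cen D) s = 0 ∧ s ≠ 0 ∧
    finrank (kres M) (LinearMap.range (LinearMap.mulLeft (kres M) s)) = n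
  have hP : ∃ n, P n := ⟨_, z, hz, hres, hz0, rfl⟩
  obtain ⟨s, hs, hsres, hs0, hsn⟩ := Nat.find_spec hP
  obtain ⟨hsc, hbs⟩ := (mem_blockCentre hM hB).1 hs
  have hann : ∀ (w : Subalgebra.center (kres M) Λ), (w : Λ) ∈ blockCentre M B →
      (w : Λ) * s = lam M χ w • s := by
    intro w hw
    set n := (w - algebraMap (kres M) _ (lam M χ w)) * blkIdem M B with hn
    have hnil : IsNilpotent n := isNilpotent_sub_lam_mul_blkIdem hM hB hχ w
    have hns : (n : Λ) * s = (w : Λ) * s - lam M χ w • s := by
      rw [hn, MulMemClass.coe_mul, mul_assoc, hbs, AddSubgroupClass.coe_sub,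
        Subalgebra.coe_algebraMap, sub_mul, ← Algebra.smul_def]
    by_contra hne
    have hs'0 : (n : Λ) * s ≠ 0 := by rw [hns]; exact sub_ne_zero.2 hne
    have hs' : (n : Λ) * s ∈ blockCentre M B := by
      refine (mem_blockCentre hM hB).2 ⟨isClassCoeff_iff_mem_center.2 (Subalgebra.mul_mem _ n.2
        (isClassCoeff_iff_mem_center.1 hsc)), ?_⟩
      rw [← mul_assoc, Subalgebra.mem_center_iff.1 n.2, mul_assoc, hbs]
    have hs'res : resSub (cen D) ((n : Λ) * s) = 0 := by
      rw [resSub_mul hM hDp (isPInv_of_isClassCoeff (isClassCoeff_center n) D)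
        (isPInv_of_isClassCoeff hsc D), hsres, mul_zero]
    have hle : LinearMap.range (LinearMap.mulLeft (kres M) ((n : Λ) * s)) ≤
        LinearMap.range (LinearMap.mulLeft (kres M) s) := by
      rintro _ ⟨y, rfl⟩
      refine ⟨(n : Λ) * y, ?_⟩
      simp only [LinearMap.mulLeft_apply]
      rw [← mul_assoc, comm_of_isClassCoeff hsc (n : Λ)]
    have heq := Submodule.eq_of_le_of_finrank_le hle
      (hsn.le.trans (Nat.find_min' hP ⟨_, hs', hs'res, hs'0, rfl⟩))
    obtain ⟨y, hy⟩ : s ∈ LinearMap.range (LinearMap.mulLeft (kres M) ((n : Λ) * s)) :=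
      heq ▸ ⟨1, by simp⟩
    rw [LinearMap.mulLeft_apply, ← comm_of_isClassCoeff hsc (n : Λ), mul_assoc] at hy
    have h1 : s * (1 - (n : Λ) * y) = 0 := by rw [mul_sub, mul_one, hy, sub_self]
    have hny : IsNilpotent ((n : Λ) * y) :=
      Commute.isNilpotent_mul_right (show Commute (n : Λ) y from
        (Subalgebra.mem_center_iff.1 n.2 y).symm) (hnil.map (Subalgebra.center (kres M) Λ).val)
    obtain ⟨v, hv⟩ := hny.isUnit_one_sub
    rw [← hv, Units.mul_left_eq_zero] at h1
    exact hs0 h1
  set r := charElt M χ with hr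
  have hrc : IsClassCoeff r := isClassCoeff_charElt χ
  have hrV : r ∈ blockCentre M B := (mem_blockCentre hM hB).2 ⟨hrc, by
    rw [hr, mul_charElt χ (blkIdem M B), (algHom_blkIdem_eq_one_iff hM hB χ).2 hχ, one_smul]⟩
  have hx : t r • s - t s • r = 0 := by
    refine ht _ (sub_mem (Submodule.smul_mem _ _ hs) (Submodule.smul_mem _ _ hrV)) fun w hw => ?_
    have hwc := isClassCoeff_iff_mem_center.1 ((mem_blockCentre hM hB).1 hw).1
    have e1 := hann ⟨w, hwc⟩ hw
    have e2 := mul_charElt χ ⟨w, hwc⟩
    rw [← hr] at e2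
    simp only at e1 e2
    rw [mul_sub, mul_smul_comm, mul_smul_comm, e1, e2, map_sub, map_smul, map_smul, map_smul,
      map_smul, smul_eq_mul, smul_eq_mul, smul_eq_mul, smul_eq_mul]
    ring
  have h0 := EqualDegree.height_eq_zero (p := p) hd hχ
  have hrne := resSub_charElt_ne_zero hM hB hχ h0 hD
  have htr : t r ≠ 0 := fun h => hrne (by
    have : r = 0 := ht r hrV fun w hw => by
      have e2 := mul_charElt χ ⟨w, isClassCoeff_iff_mem_center.1 ((mem_blockCentre hM hB).1 hw).1⟩
      rw [← hr] at e2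
      simp only at e2
      rw [e2, map_smul, h, smul_zero]
    rw [← hr, this]
    ext y; simp)
  have hts : t s = 0 := by
    by_contra h
    apply hrne
    have h2 : r = (t s)⁻¹ • t r • s := by
      rw [sub_eq_zero.1 hx, inv_smul_smul₀ h]
    rw [← hr, h2]
    ext y
    have h3 := congrArg (fun a : MonoidAlgebra (kres M) (cen D) => a.coeff y) hsres
    simp only [coeff_resSub, coeff_zero, Finsupp.zero_apply] at h3
    simp [h3]
  rw [hts, zero_smul, sub_zero] at hx
  exact hs0 ((smul_eq_zero.1 hx).resolve_left htr)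

end CfsgLib.BlockA.CentreSocle
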