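import Cfsg.Agent.Lib.BlockA.NilpIndex

/-! A centric pair with `G`-stable block. -/

set_option autoImplicit false
set_option linter.unusedSectionVars false
set_option maxHeartbeats 1000000

namespace CfsgLib.BlockA

open Cfsg CfsgLib.Block MonoidAlgebra CfsgLib.Fusion Pointwise

universe u

variable {G : Type u} [Group G] [Finite G] {p : ℕ} {M : Ideal AlgInt} [M.IsPrime]

local notation "cen" Q => Subgroup.centralizer ((Q : Subgroup G) : Set G)

theorem mem_sup_cen {Q : Subgroup G} {t : G} (ht : t ∈ Q ⊔ (cen Q)) :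
    ∃ q ∈ Q, ∃ c ∈ cen Q, q * c = t := by
  have h : t ∈ (↑(Q ⊔ (cen Q)) : Set G) := ht
  rw [Subgroup.coe_mul_of_right_le_normalizer_left _ _ (Subgroup.centralizer_le_normalizer _)] at h
  exact Set.mem_mul.1 h

variable (hM : IsPModular p M)
include hM

variable {P : Subgroup G} {e : Set (IrrCharacter (Subgroup.centralizer (P : Set G)))}
  {B : Set (IrrCharacter G)} {F : FusionSystem P}

theorem isBrauerPairOf_of_coeff {Q : Subgroup G} {f : Set (IrrCharacter (cen Q))}
    (hf : IsBrauerPair p M Q f) {B' : Set (IrrCharacter G)} (hB' : IsPBlock M B')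
    (hcoef : ∀ g, (blkIdem M B' : MonoidAlgebra (kres M) G).coeff g = (sIdem M (cen Q) f).coeff g) :
    IsBrauerPairOf p M B' Q f := by
  rw [isBrauerPairOf_iff_mul hM hf hB']
  have e : inclSub (cen Q) (resSub (cen Q) (blkIdem M B' : MonoidAlgebra (kres M) G)) =
      sIdem M (cen Q) f := by
    rw [inclSub_resSub]
    · ext g; exact hcoef g
    · exact fun x hx => (hcoef x).trans (coeff_sIdem_of_not_mem f hx)
  rw [e, sIdem_idem hM hf.2]

/-- A block over a `G`-stable block of the centralizer of a normal subgroup has its coefficients. -/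
theorem blockCoeff_of_stable {Q : Subgroup G} [Q.Normal] {f : Set (IrrCharacter (cen Q))}
    (hQf : IsBrauerPairOf p M B Q f) (hst : ∀ x : G, StabilizesBlock (cen Q) f x) (g : G) :
    blockCoeff B g = subgroupBlockCoeff (cen Q) f g := by
  have := Fintype.ofFinite G
  have := Fintype.ofFinite ↥(Subgroup.centralizer (Q : Set G))
  obtain ⟨B', hB', hs⟩ := exists_block_covering hM (isBlockSupported_centralizer hM hQf.1.1)
    hQf.1.2
  rw [coverSet_of_stable hQf.1.2 hst] at hs
  have hcoef : ∀ x : G, blockCoeff B' x = subgroupBlockCoeff (cen Q) f x := fun x => by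
    have := congrArg (fun a : MonoidAlgebra ℂ G => a.coeff x) hs
    rw [← subgroupBlockCoeff_eq_coeff] at this
    simpa [blockSum] using this
  have h1 : IsBrauerPairOf p M B' Q f := by
    refine isBrauerPairOf_of_coeff hM hQf.1 hB' fun x => ?_
    rw [coeff_blkIdem, hcoef, ← mkGA_subgroupBlockCoeff hM, coeff_mkGA]
  rw [(existsUnique_block hM hQf.1).unique hQf h1, hcoef]

/-- **Centric pairs give nilpotent blocks of `Q C(Q)`.** -/
theorem nilpotent_over_centric [Fact p.Prime] (hF : IsBlockFusionSystemOn p M B P e F)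
    {Q : Subgroup G} {f : Set (IrrCharacter (cen Q))} (hle : SubpairLE p M Q f P e)
    (hcen : F.IsCentric Q) {F' : Set (IrrCharacter ↥(Q ⊔ Subgroup.centralizer (Q : Set G)))}
    (hF' : IsBlockOver M (Q ⊔ (cen Q)) Q f F') : IsNilpotentBlock p M F' := by
  have he := hF.1.1.1
  have hQ := subpairLE_le hle
  have hQp : IsPGroup p Q := he.1.to_le hQ
  refine ⟨hF'.1, fun R d hRd x hx hst hreg => ?_⟩
  obtain ⟨D, hD⟩ := exists_isDefectGroup hM hF'.1
  obtain ⟨y, hy⟩ := exists_le_conj_defectGroup hM hRd hD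
  have hQn : (Q.subgroupOf (Q ⊔ (cen Q))).Normal := ⟨fun q hq t =>
    (Subgroup.mem_normalizer_iff.1 ((sup_le Subgroup.le_normalizer
      (Subgroup.centralizer_le_normalizer _) : Q ⊔ (cen Q) ≤ _) t.2) _).1 hq⟩
  have hQD : Q.subgroupOf (Q ⊔ (cen Q)) ≤ D :=
    normal_le_defectGroup hM (show IsPGroup p (Q.subgroupOf (Q ⊔ (cen Q))) from
      hQp.comap_subtype) hF'.1 hD
  obtain ⟨g, hg, hd⟩ := exists_conj_defect hM hF.1 hle hF' le_sup_right
    (sup_le (le_pairStab Q f) (centralizer_le_pairStab Q f))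
  set Q' := Q.map (MulAut.conj g).toMonoidHom with hQ'
  have hTT : (Q ⊔ (cen Q)).map (MulAut.conj g).toMonoidHom = Q' ⊔ (cen Q') := by
    rw [Subgroup.map_sup, map_conj_centralizer]
  have hgb := isBrauerPair_of_subpairLE he hg
  obtain ⟨F'', hF''⟩ := exists_isBlockOver hM hgb
    (show Q' ≤ Q' ⊔ (cen Q') from le_sup_left) le_sup_right
    (sup_le (le_pairStab Q' _) (centralizer_le_pairStab Q' _))
  obtain ⟨-, hcard⟩ := hd _ hTT.symm F'' hF''
  have hcentric : P ⊓ (cen Q') ≤ Q' :=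
    hcen.2 _ ((isConj_iff_fus hM hF).2 ⟨hQ, g, ⟨subpairLE_le hg, f, hle, hg⟩, rfl⟩)
  have hPT : P ⊓ (Q' ⊔ (cen Q')) ≤ Q' := by
    rintro t ⟨htP, htT⟩
    obtain ⟨q, hq, c, hc, rfl⟩ := mem_sup_cen htT
    have hcP : c ∈ P := by
      have := mul_mem (inv_mem (subpairLE_le hg hq)) htP
      rwa [inv_mul_cancel_left] at this
    exact mul_mem hq (hcentric ⟨hcP, hc⟩)
  have hDQ : D = Q.subgroupOf (Q ⊔ (cen Q)) := by
    refine (Subgroup.eq_of_le_of_card_ge hQD ?_).symm
    rw [natCard_defectGroup hM hF'.1 hD, ← hcard,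
      Nat.card_congr (Subgroup.subgroupOfEquivOfLe (le_sup_left : Q ≤ Q ⊔ (cen Q))).toEquiv,
      ← natCard_map_conj Q g]
    exact Subgroup.card_le_of_le hPT
  rw [Subgroup.mem_centralizer_iff]
  intro r hr
  have hrQ : (r : G) ∈ Q := by
    obtain ⟨s, hs, es⟩ := hy hr
    rw [hDQ] at hs
    have := hQn.conj_mem s hs y
    rw [show y * s * y⁻¹ = r from es] at this
    exact this
  obtain ⟨q, hq, c, hc, hxc⟩ := mem_sup_cen x.2
  have hco : Commute q c := Subgroup.mem_centralizer_iff.1 hc q hq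
  obtain ⟨k, hk⟩ := hQp ⟨q, hq⟩
  have hk' : q ^ p ^ k = 1 := by simpa using congrArg Subtype.val hk
  have h1 : (x : G) ^ p ^ k ∈ cen Q := by
    rw [← hxc, hco.mul_pow, hk', one_mul]
    exact pow_mem hc _
  have hxC : (x : G) ∈ cen Q := by
    obtain ⟨m, hm⟩ := exists_pow_eq_self_of_coprime (x := (x : G)) (n := p ^ k)
      ((hM.1.coprime_iff_not_dvd.2 (fun h => hreg (by rwa [Subgroup.orderOf_coe] at h))).pow_left k)
    exact hm ▸ pow_mem h1 m
  exact Subtype.ext (Subgroup.mem_centralizer_iff.1 hxC r hrQ)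

end CfsgLib.BlockA
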