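import Cfsg.Agent.Lib.Block.Transport
import Cfsg.Agent.Lib.BlockA.SubsectionCount
import Cfsg.Agent.Lib.BlockA.HeightZero
import Cfsg.Agent.Lib.BlockB.RegRank

/-!
Sections of the sets of characters lying over one block through central characters, and the
character count minus the regular rank of a union of blocks.
-/

set_option autoImplicit false
set_option linter.unusedSectionVars false

namespace CfsgLib.BlockA.ChainBlocks

open Cfsg CfsgLib.Block MonoidAlgebra
open scoped ComplexConjugate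

universe u

variable {G H K : Type u} [Group G] [Finite G] [Group H] [Finite H] [Group K] [Finite K]

/-- Pull back of coefficients. -/
noncomputable def pullA (ι : H →* G) (a : MonoidAlgebra ℂ G) : MonoidAlgebra ℂ H :=
  mkGA fun h => a.coeff (ι h)

@[simp]
theorem coeff_pullA (ι : H →* G) (a : MonoidAlgebra ℂ G) (h : H) :
    (pullA ι a).coeff h = a.coeff (ι h) := by simp [pullA]

theorem pullA_id (a : MonoidAlgebra ℂ G) : pullA (MonoidHom.id G) a = a := by ext g; simp

theorem pullA_comp (ι : H →* G) (κ : K →* H) (a : MonoidAlgebra ℂ G) :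
    pullA κ (pullA ι a) = pullA (ι.comp κ) a := by ext g; simp

theorem pullA_subtype (L : Subgroup G) (a : MonoidAlgebra ℂ G) :
    pullA L.subtype a = resSub L a := by ext g; simp

variable {M : Ideal AlgInt} [M.IsPrime]

theorem isLocalCentral_pullA (ι : H →* G) {a : MonoidAlgebra ℂ G} (ha : IsLocalCentral M a) :
    IsLocalCentral M (pullA ι a) :=
  ⟨fun g h => by simp [ha.1 (ι g) (ι h)], fun h => by simpa using ha.2 (ι h)⟩

/-- The central character of `φ`, induced along `ι`, reduces to that of `χ₀`. -/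
def Below (M : Ideal AlgInt) [M.IsPrime] (ι : H →* G) (χ₀ : IrrCharacter G)
    (φ : IrrCharacter H) : Prop :=
  ∀ g, redC M (omegaC (φ : H → ℂ) (pullA ι (classSum ℂ g))) =
    redC M (centralChar (χ₀ : G → ℂ) g)

theorem below_id_iff {B : Set (IrrCharacter G)} (hB : IsPBlock M B) {χ₀ : IrrCharacter G}
    (hχ₀ : χ₀ ∈ B) (χ : IrrCharacter G) : Below M (MonoidHom.id G) χ₀ χ ↔ χ ∈ B := by
  rw [isPBlock_eq_blockOf hB hχ₀, blockOf, Set.mem_setOf_eq]
  refine forall_congr' fun g => ?_
  rw [pullA_id, omegaC_classSum (CfsgLib.Char.irr_isClassFunction χ.2),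
    redC_eq_iff (memLocalRing_centralChar χ.2 g) (memLocalRing_centralChar χ₀.2 g)]
  exact ⟨fun h => by simpa using memLocalIdeal_neg h, fun h => by simpa using memLocalIdeal_neg h⟩

/-- The element of the centre of the modular group algebra given by a local central element. -/
noncomputable def redZ {a : MonoidAlgebra ℂ H} (ha : IsLocalCentral M a) :
    Subalgebra.center (kres M) (MonoidAlgebra (kres M) H) :=
  ⟨redA M a, isClassCoeff_iff_mem_center.1 (redA_isClassCoeff ha.1)⟩

theorem lam_redZ (χ : IrrCharacter H) {a : MonoidAlgebra ℂ H} (ha : IsLocalCentral M a) :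
    lam M χ (redZ ha) = redC M (omegaC (χ : H → ℂ) a) :=
  lam_apply χ ha _ rfl

theorem below_congr (ι : H →* G) (χ₀ : IrrCharacter G) {φ ψ : IrrCharacter H}
    (h : SameBlock M (φ : H → ℂ) (ψ : H → ℂ)) : Below M ι χ₀ φ ↔ Below M ι χ₀ ψ := by
  refine forall_congr' fun g => ?_
  rw [← lam_redZ φ (isLocalCentral_pullA ι (isLocalCentral_classSum g)),
    ← lam_redZ ψ (isLocalCentral_pullA ι (isLocalCentral_classSum g)), lam_eq_of_sameBlock h]

theorem below_iff_of_mem {β : Set (IrrCharacter H)} (hβ : IsPBlock M β) (ι : H →* G)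
    (χ₀ : IrrCharacter G) {φ ψ : IrrCharacter H} (hφ : φ ∈ β) (hψ : ψ ∈ β) :
    Below M ι χ₀ φ ↔ Below M ι χ₀ ψ :=
  below_congr ι χ₀ (sameBlock_of_mem hβ hφ hψ)

/-- Transitivity. -/
theorem below_comp (ι : H →* G) (χ₀ : IrrCharacter G) {C : Subgroup H}
    {φ : IrrCharacter C} {χ : IrrCharacter H} {e : Set (IrrCharacter C)}
    {β : Set (IrrCharacter H)} (h : IsInducedBlock M C e β) (hφ : φ ∈ e) (hχ : χ ∈ β) :
    Below M (ι.comp C.subtype) χ₀ φ ↔ Below M ι χ₀ χ := by
  refine forall_congr' fun g => ?_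
  have ha := isLocalCentral_pullA ι (isLocalCentral_classSum (M := M) g)
  rw [← pullA_comp, pullA_subtype, ← lam_redZ χ ha,
    ← (isInducedBlock_iff C h.1 h.2.1 hφ hχ).1 h (redZ ha),
    lam_apply φ (isLocalCentral_resSub C ha) (resZ C (redZ ha)) (by
      rw [coe_resZ, redA_resSub]; rfl)]

/-- The set of characters lying in blocks inducing a given block. -/
theorem below_subtype_iff {B : Set (IrrCharacter G)} (hB : IsPBlock M B) {χ₀ : IrrCharacter G}
    (hχ₀ : χ₀ ∈ B) (L : Subgroup G) (ψ : IrrCharacter L) :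
    Below M L.subtype χ₀ ψ ↔
      ∃ β : Set (IrrCharacter L), ψ ∈ β ∧ IsInducedBlock M L β B := by
  constructor
  · intro h
    refine ⟨_, mem_blockOf_self ψ, isPBlock_blockOf ψ, hB, fun ξ hξ χ hχ g => ?_⟩
    have hb := (below_congr L.subtype χ₀
      (sameBlock_of_mem (isPBlock_blockOf ψ) hξ (mem_blockOf_self ψ))).2 h g
    rw [pullA_subtype, ← inducedCentralChar_eq_omegaC] at hb
    rw [← redC_eq_iff (memLocalRing_inducedCentralChar L ξ.2 g)
      (memLocalRing_centralChar χ.2 g), hb, redC_eq_iff (memLocalRing_centralChar χ₀.2 g)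
      (memLocalRing_centralChar χ.2 g)]
    exact sameBlock_of_mem hB hχ₀ hχ g
  · rintro ⟨β, hψ, -, -, h⟩ g
    rw [pullA_subtype, ← inducedCentralChar_eq_omegaC,
      redC_eq_iff (memLocalRing_inducedCentralChar L ψ.2 g) (memLocalRing_centralChar χ₀.2 g)]
    exact h ψ hψ χ₀ hχ₀ g

theorem below_pullIrr (σ : H ≃* K) (ι : K →* G) (χ₀ : IrrCharacter G) (φ : IrrCharacter K) :
    Below M (ι.comp σ.toMonoidHom) χ₀ (pullIrr σ φ) ↔ Below M ι χ₀ φ := by
  have := Fintype.ofFinite H
  have := Fintype.ofFinite K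
  refine forall_congr' fun g => ?_
  have e : omegaC (pullIrr σ φ : H → ℂ) (pullA (ι.comp σ.toMonoidHom) (classSum ℂ g)) =
      omegaC (φ : K → ℂ) (pullA ι (classSum ℂ g)) := by
    rw [omegaC_eq, omegaC_eq]
    congr 1
    · exact Fintype.sum_equiv σ.toEquiv _ _ fun h => by simp
    · simp
  rw [e]

/-- The squared values at `y` of the characters lying over the block of `χ₀`. -/
noncomputable def normSum (M : Ideal AlgInt) [M.IsPrime] (ι : H →* G) (χ₀ : IrrCharacter G)
    (y : H) : ℂ :=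
  ∑ᶠ φ ∈ {φ : IrrCharacter H | Below M ι χ₀ φ}, (φ : H → ℂ) y * conj ((φ : H → ℂ) y)

theorem normSum_comp (σ : H ≃* K) (ι : K →* G) (χ₀ : IrrCharacter G) (y : H) :
    normSum M (ι.comp σ.toMonoidHom) χ₀ y = normSum M ι χ₀ (σ y) := by
  have e : {φ : IrrCharacter H | Below M (ι.comp σ.toMonoidHom) χ₀ φ} =
      pullIrr σ '' {φ : IrrCharacter K | Below M ι χ₀ φ} := by
    ext φ
    constructor
    · intro h
      have e' : pullIrr σ (pullIrr σ.symm φ) = φ := pullIrr_symm σ.symm φ
      refine ⟨pullIrr σ.symm φ, (below_pullIrr σ ι χ₀ _).1 ?_, e'⟩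
      rw [e']
      exact h
    · rintro ⟨ψ, hψ, rfl⟩
      exact (below_pullIrr σ ι χ₀ ψ).2 hψ
  rw [normSum, normSum, e, finsum_mem_image (pullIrr_injective σ).injOn]
  exact finsum_congr fun φ => finsum_congr fun _ => by simp

open Classical in
/-- The weight of a subgroup at an element. -/
noncomputable def weight (M : Ideal AlgInt) [M.IsPrime] (χ₀ : IrrCharacter G) (L : Subgroup G)
    (y : G) : ℂ :=
  if h : y ∈ L then normSum M L.subtype χ₀ ⟨y, h⟩ else 0

theorem normSum_eq_weight (ι : H →* G) (hι : Function.Injective ι) (χ₀ : IrrCharacter G) (y : H) :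
    normSum M ι χ₀ y = weight M χ₀ ι.range (ι y) := by
  rw [weight, dif_pos ⟨y, rfl⟩]
  conv_lhs => rw [show ι = ι.range.subtype.comp (MonoidHom.ofInjective hι).toMonoidHom from rfl]
  exact normSum_comp (MonoidHom.ofInjective hι) _ χ₀ y

variable {p : ℕ} (hM : IsPModular p M) {x : H} (hx : ∃ k : ℕ, orderOf x = p ^ k)
include hM hx

local notation "C" => Subgroup.centralizer (Singleton.singleton x : Set H)

open Classical in
/-- The squared values at a section, over a block. -/
theorem normSum_section (ι : H →* G) (χ₀ : IrrCharacter G) {y : C} (hy : ¬ p ∣ orderOf y) :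
    normSum M ι χ₀ (x * (y : H)) = normSum M (ι.comp (C).subtype) χ₀ y := by
  have := Fintype.ofFinite H
  have := Fintype.ofFinite (IrrCharacter H)
  have := Fintype.ofFinite (IrrCharacter C)
  let g : IrrCharacter C → Set (IrrCharacter H) := fun φ =>
    (exists_isInducedBlock_centralizer hM hx (isPBlock_blockOf φ)).choose
  have hg : ∀ φ : IrrCharacter C, IsInducedBlock M C (blockOf M (φ : C → ℂ)) (g φ) := fun φ =>
    (exists_isInducedBlock_centralizer hM hx (isPBlock_blockOf φ)).choose_spec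
  set F := (allBlocks M H).filter fun β => ∀ χ ∈ β, Below M ι χ₀ χ with hF
  have hl : ∀ χ : IrrCharacter H, Below M ι χ₀ χ → blockOf M (χ : H → ℂ) ∈ F := fun χ hχ =>
    Finset.mem_filter.2 ⟨mem_allBlocks.2 (isPBlock_blockOf χ), fun ψ hψ =>
      (below_iff_of_mem (isPBlock_blockOf χ) ι χ₀ (mem_blockOf_self χ) hψ).1 hχ⟩
  have hr : ∀ φ : IrrCharacter C, Below M (ι.comp (C).subtype) χ₀ φ → g φ ∈ F := fun φ hφ =>
    Finset.mem_filter.2 ⟨mem_allBlocks.2 (hg φ).2.1, fun ψ hψ =>
      (below_comp ι χ₀ (hg φ) (mem_blockOf_self φ) hψ).1 hφ⟩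
  rw [normSum, normSum, finsum_mem_eq_finite_toFinset_sum _ (Set.toFinite _),
    finsum_mem_eq_finite_toFinset_sum _ (Set.toFinite _)]
  rw [← Finset.sum_fiberwise_of_maps_to (t := F) (g := fun χ : IrrCharacter H =>
      blockOf M (χ : H → ℂ)) (fun χ hχ => hl χ (by simpa using hχ)),
    ← Finset.sum_fiberwise_of_maps_to (t := F) (g := g) (fun φ hφ => hr φ (by simpa using hφ))]
  refine Finset.sum_congr rfl fun β hβ => ?_
  obtain ⟨hβ1, hβ2⟩ := Finset.mem_filter.1 hβ
  rw [mem_allBlocks] at hβ1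
  rw [Finset.sum_congr (s₂ := β.toFinite.toFinset) (f := fun χ : IrrCharacter H =>
      (χ : H → ℂ) (x * (y : H)) * conj ((χ : H → ℂ) (x * (y : H)))) ?_ (fun _ _ => rfl),
    sum_sq_section hM hx hβ1 hy]
  swap
  · ext χ
    simp only [Finset.mem_filter, Set.Finite.mem_toFinset, Set.mem_setOf_eq]
    exact ⟨fun h => h.2 ▸ mem_blockOf_self χ,
      fun h => ⟨hβ2 χ h, (isPBlock_eq_blockOf hβ1 h).symm⟩⟩
  symm
  refine (Finset.sum_fiberwise_of_maps_to
    (t := (allBlocks M C).filter (fun e => IsInducedBlock M C e β))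
    (g := fun φ : IrrCharacter C => blockOf M (φ : C → ℂ)) (fun φ hφ => ?_) _).symm.trans ?_
  · exact Finset.mem_filter.2 ⟨mem_allBlocks.2 (isPBlock_blockOf φ),
      (Finset.mem_filter.1 hφ).2 ▸ hg φ⟩
  refine Finset.sum_congr rfl fun e he => Finset.sum_congr ?_ fun _ _ => rfl
  obtain ⟨he1, he2⟩ := Finset.mem_filter.1 he
  rw [mem_allBlocks] at he1
  ext φ
  simp only [Finset.mem_filter, Set.Finite.mem_toFinset, Set.mem_setOf_eq]
  refine ⟨fun h => h.2 ▸ mem_blockOf_self φ, fun h => ?_⟩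
  obtain ⟨χ, hχ⟩ := isPBlock_nonempty hβ1
  have hge : g φ = β := isInducedBlock_unique C (isPBlock_eq_blockOf he1 h ▸ hg φ) he2
  exact ⟨⟨(below_comp ι χ₀ he2 h hχ).2 (hβ2 χ hχ), hge⟩, (isPBlock_eq_blockOf he1 h).symm⟩

end CfsgLib.BlockA.ChainBlocks
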