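import Mathlib.GroupTheory.Sylow
import Mathlib.GroupTheory.Nilpotent
import Mathlib.GroupTheory.Subgroup.Centralizer
import Mathlib.Algebra.BigOperators.Group.Finset.Basic
import Mathlib.Algebra.Module.Basic

/-!
Cancellation among the normal chains of `p`-subgroups stabilised by a fixed `p`-element.
-/

set_option autoImplicit false
set_option linter.unusedSectionVars false

namespace CfsgLib.BlockA.ChainCancel

open Subgroup

universe u

variable {G : Type u} [Group G] {p : ℕ}

/-- A chain of nontrivial `p`-subgroups, each normal in the largest. -/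
def IsNChain (p : ℕ) (s : Finset (Subgroup G)) : Prop :=
  s.Nonempty ∧ (∀ Q ∈ s, ∀ R ∈ s, Q ≤ R ∨ R ≤ Q) ∧ (∀ Q ∈ s, Q ≠ ⊥ ∧ IsPGroup p Q) ∧
    ∃ T ∈ s, ∀ Q ∈ s, Q ≤ T ∧ T ≤ normalizer ((Q : Subgroup G) : Set G)

/-- The common normalizer. -/
def stab (s : Finset (Subgroup G)) : Subgroup G :=
  ⨅ Q ∈ s, normalizer ((Q : Subgroup G) : Set G)

theorem mem_stab {s : Finset (Subgroup G)} {g : G} :
    g ∈ stab s ↔ ∀ Q ∈ s, g ∈ normalizer ((Q : Subgroup G) : Set G) := by
  simp [stab, Subgroup.mem_iInf]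

open scoped Classical in
/-- The part of the chain below `u`. -/
noncomputable def low (u : G) (s : Finset (Subgroup G)) : Subgroup G :=
  (s.filter fun Q => u ∉ Q).sup id

/-- The closure of `u` under conjugation by a subgroup. -/
def orbitClosure (T : Subgroup G) (u : G) : Subgroup G :=
  closure ((fun t => t * u * t⁻¹) '' (T : Set G))

theorem mem_normalizer_of_maps [Finite G] {H : Subgroup G} {g : G}
    (h : ∀ x ∈ H, g * x * g⁻¹ ∈ H) : g ∈ normalizer (H : Set G) := by
  have heq : H.map (MulAut.conj g).toMonoidHom = H := by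
    refine eq_of_le_of_card_ge (by rintro _ ⟨x, hx, rfl⟩; exact h x hx) ?_
    rw [card_map_of_injective (MulAut.conj g).injective]
  refine mem_normalizer_iff.2 fun x => ⟨h x, fun hx => ?_⟩
  rw [← heq] at hx
  obtain ⟨y, hy, hyx⟩ := hx
  exact (mul_left_cancel (mul_right_cancel hyx) : y = x) ▸ hy

/-- The inserted or removed member. -/
noncomputable def pivot (u : G) (s : Finset (Subgroup G)) : Subgroup G :=
  low u s ⊔ orbitClosure (s.sup id) u

theorem self_mem_orbitClosure (T : Subgroup G) (u : G) : u ∈ orbitClosure T u :=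
  subset_closure ⟨1, T.one_mem, by simp⟩

theorem orbitClosure_le {T H : Subgroup G} {u : G} (hu : u ∈ H)
    (hT : T ≤ normalizer (H : Set G)) : orbitClosure T u ≤ H := by
  rw [orbitClosure, closure_le]
  rintro _ ⟨t, ht, rfl⟩
  exact (mem_normalizer_iff.1 (hT ht) u).1 hu

theorem mem_normalizer_orbitClosure {T : Subgroup G} {u c : G} (hT : c ∈ normalizer (T : Set G))
    (hu : c * u * c⁻¹ ∈ orbitClosure T u) (hu' : c⁻¹ * u * c ∈ orbitClosure T u) :
    c ∈ normalizer (orbitClosure T u : Set G) := by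
  have key : ∀ d : G, d ∈ normalizer (T : Set G) → d * u * d⁻¹ ∈ orbitClosure T u →
      ∀ x ∈ orbitClosure T u, d * x * d⁻¹ ∈ orbitClosure T u := by
    intro d hd hdu x hx
    induction hx using closure_induction with
    | mem x hx =>
      obtain ⟨t, ht, rfl⟩ := hx
      set t' := d * t * d⁻¹
      have ht' : t' ∈ T := (mem_normalizer_iff.1 hd t).1 ht
      have h1 : t' * (d * u * d⁻¹) * t'⁻¹ ∈ orbitClosure T u := by
        revert hdu
        generalize d * u * d⁻¹ = w
        intro hw
        induction hw using closure_induction with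
        | mem w hw =>
          obtain ⟨r, hr, rfl⟩ := hw
          exact subset_closure ⟨t' * r, T.mul_mem ht' hr, by simp [mul_assoc]⟩
        | one => simp
        | mul a b _ _ ha hb =>
          rw [show t' * (a * b) * t'⁻¹ = (t' * a * t'⁻¹) * (t' * b * t'⁻¹) by group]
          exact mul_mem ha hb
        | inv a _ ha =>
          rw [show t' * a⁻¹ * t'⁻¹ = (t' * a * t'⁻¹)⁻¹ by group]
          exact inv_mem ha
      show d * (t * u * t⁻¹) * d⁻¹ ∈ _
      rwa [show d * (t * u * t⁻¹) * d⁻¹ = t' * (d * u * d⁻¹) * t'⁻¹ by simp [t']; group]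
    | one => simp
    | mul a b _ _ ha hb =>
      rw [show d * (a * b) * d⁻¹ = (d * a * d⁻¹) * (d * b * d⁻¹) by group]
      exact mul_mem ha hb
    | inv a _ ha =>
      rw [show d * a⁻¹ * d⁻¹ = (d * a * d⁻¹)⁻¹ by group]
      exact inv_mem ha
  refine mem_normalizer_iff.2 fun x => ⟨key c hT hu x, fun hx => ?_⟩
  have := key c⁻¹ (inv_mem hT) (by rwa [inv_inv]) _ hx
  simpa [mul_assoc] using this

theorem le_normalizer_orbitClosure (T : Subgroup G) (u : G) :
    T ≤ normalizer (orbitClosure T u : Set G) := fun c hc =>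
  mem_normalizer_orbitClosure (le_normalizer hc) (subset_closure ⟨c, hc, rfl⟩)
    (subset_closure ⟨c⁻¹, T.inv_mem hc, by simp⟩)

theorem centralizer_inf_le_normalizer_orbitClosure {T : Subgroup G} {u c : G}
    (hcu : c * u = u * c) (hT : c ∈ normalizer (T : Set G)) :
    c ∈ normalizer (orbitClosure T u : Set G) :=
  mem_normalizer_orbitClosure hT
    (by rw [hcu, mul_inv_cancel_right]; exact self_mem_orbitClosure T u)
    (by rw [mul_assoc, ← hcu, inv_mul_cancel_left]; exact self_mem_orbitClosure T u)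

theorem IsNChain.top_eq {s : Finset (Subgroup G)} (h : IsNChain p s) :
    s.sup id ∈ s ∧ ∀ Q ∈ s, s.sup id ≤ normalizer ((Q : Subgroup G) : Set G) := by
  obtain ⟨-, -, -, T, hT, hQ⟩ := h
  have e : s.sup id = T := le_antisymm (Finset.sup_le fun Q hQs => (hQ Q hQs).1)
    (Finset.le_sup (f := id) hT)
  rw [e]
  exact ⟨hT, fun Q hQs => (hQ Q hQs).2⟩

variable {u : G}

theorem low_le {s : Finset (Subgroup G)} {H : Subgroup G}
    (h : ∀ Q ∈ s, u ∉ Q → Q ≤ H) : low u s ≤ H := by
  classical
  exact Finset.sup_le fun Q hQ => h Q (Finset.mem_filter.1 hQ).1 (Finset.mem_filter.1 hQ).2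

theorem le_low {s : Finset (Subgroup G)} {Q : Subgroup G} (hQ : Q ∈ s) (hu : u ∉ Q) :
    Q ≤ low u s := by
  classical
  exact Finset.le_sup (f := id) (Finset.mem_filter.2 ⟨hQ, hu⟩)

/-- The part below `u` is empty or a member. -/
theorem low_cases {s : Finset (Subgroup G)} (h : IsNChain p s) :
    low u s = ⊥ ∨ (low u s ∈ s ∧ u ∉ low u s) := by
  classical
  have hclosed : low u s ∈ {H : Subgroup G | H = ⊥ ∨ (H ∈ s ∧ u ∉ H)} := by
    unfold low
    refine Finset.sup_mem {H : Subgroup G | H = ⊥ ∨ (H ∈ s ∧ u ∉ H)} (Or.inl rfl) ?_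
      (s.filter fun Q => u ∉ Q) id fun i hi => Or.inr (Finset.mem_filter.1 hi)
    rintro x (rfl | hx) y (rfl | hy)
    · exact Or.inl (sup_idem _)
    · rw [bot_sup_eq]; exact Or.inr hy
    · rw [sup_bot_eq]; exact Or.inr hx
    · rcases h.2.1 x hx.1 y hy.1 with e | e
      · rw [sup_eq_right.2 e]; exact Or.inr hy
      · rw [sup_eq_left.2 e]; exact Or.inr hx
  exact hclosed

theorem le_normalizer_low {s : Finset (Subgroup G)} (h : IsNChain p s) :
    s.sup id ≤ normalizer (low u s : Set G) := by
  rcases low_cases (u := u) h with e | e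
  · rw [e]; intro x _; rw [mem_normalizer_iff]; simp
  · exact (h.top_eq).2 _ e.1

theorem le_normalizer_sup {A B : Subgroup G} {x : G} (hA : x ∈ normalizer (A : Set G))
    (hB : x ∈ normalizer (B : Set G)) : x ∈ normalizer ((A ⊔ B : Subgroup G) : Set G) := by
  have key : ∀ d : G, d ∈ normalizer (A : Set G) → d ∈ normalizer (B : Set G) →
      ∀ y ∈ A ⊔ B, d * y * d⁻¹ ∈ A ⊔ B := by
    intro d hdA hdB y hy
    have hle : (A ⊔ B).map (MulAut.conj d).toMonoidHom ≤ A ⊔ B := by
      rw [Subgroup.map_sup]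
      refine sup_le_sup ?_ ?_ <;> rintro _ ⟨z, hz, rfl⟩
      · exact (mem_normalizer_iff.1 hdA z).1 hz
      · exact (mem_normalizer_iff.1 hdB z).1 hz
    exact hle ⟨y, hy, rfl⟩
  refine mem_normalizer_iff.2 fun y => ⟨key x hA hB y, fun hy => ?_⟩
  have := key x⁻¹ (inv_mem hA) (inv_mem hB) _ hy
  simpa [mul_assoc] using this

theorem top_le_normalizer_pivot {s : Finset (Subgroup G)} (h : IsNChain p s) :
    s.sup id ≤ normalizer (pivot u s : Set G) := fun _ hx =>
  le_normalizer_sup (le_normalizer_low h hx) (le_normalizer_orbitClosure _ u hx)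

theorem mem_pivot (u : G) (s : Finset (Subgroup G)) : u ∈ pivot u s :=
  (le_sup_right : _ ≤ pivot u s) (self_mem_orbitClosure _ u)

theorem pivot_le_of_mem {s : Finset (Subgroup G)} (h : IsNChain p s) {Q : Subgroup G} (hQ : Q ∈ s)
    (hu : u ∈ Q) : pivot u s ≤ Q := by
  refine sup_le (low_le fun R hR hRu => ?_) (orbitClosure_le hu (h.top_eq.2 Q hQ))
  rcases h.2.1 R hR Q hQ with e | e
  · exact e
  · exact absurd (e hu) hRu

theorem le_pivot_of_not_mem {s : Finset (Subgroup G)} {Q : Subgroup G} (hQ : Q ∈ s) (hu : u ∉ Q) :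
    Q ≤ pivot u s :=
  (le_low hQ hu).trans le_sup_left

theorem centralizer_le_normalizer_pivot {s : Finset (Subgroup G)} (h : IsNChain p s) {c : G}
    (hcu : c * u = u * c) (hc : c ∈ stab s) : c ∈ normalizer (pivot u s : Set G) := by
  rw [mem_stab] at hc
  refine le_normalizer_sup ?_ (centralizer_inf_le_normalizer_orbitClosure hcu (hc _ h.top_eq.1))
  rcases low_cases (u := u) h with e | e
  · rw [e, mem_normalizer_iff]; simp
  · exact hc _ e.1

variable [Finite G] [hp : Fact p.Prime] (hu : u ≠ 1) (hup : ∃ k, orderOf u = p ^ k)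
include hu hup

theorem isPGroup_pivot {s : Finset (Subgroup G)} (h : IsNChain p s) (hst : u ∈ stab s) :
    IsPGroup p (pivot u s) := by
  obtain ⟨hT, hN⟩ := h.top_eq
  obtain ⟨k, hk⟩ := hup
  have hU : IsPGroup p (zpowers u) := IsPGroup.of_card (n := k) (by rw [Nat.card_zpowers, hk])
  have hsup : IsPGroup p (s.sup id ⊔ zpowers u : Subgroup G) :=
    (h.2.2.1 _ hT).2.to_sup_of_normal_left' hU (zpowers_le.2 (mem_stab.1 hst _ hT))
  refine hsup.to_le (sup_le ((low_le fun Q hQ _ => Finset.le_sup (f := id) hQ).trans le_sup_left)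
    (orbitClosure_le (mem_sup_right (mem_zpowers u)) fun t ht => ?_))
  exact le_normalizer (mem_sup_left ht)

/-- A `p`-group generated by a normal part and the conjugates of one element is generated by the
part and the element. -/
theorem eq_sup_zpowers_of_closure {T P : Subgroup G} (hT : IsPGroup p T) (hPT : P ≤ T)
    (huT : u ∈ T) (htop : P ⊔ orbitClosure T u = T) : P ⊔ zpowers u = T := by
  set H := P ⊔ zpowers u
  have hHT : H ≤ T := sup_le hPT (zpowers_le.2 huT)
  by_contra hne
  have hlt : H.subgroupOf T ≠ ⊤ := fun e => hne (le_antisymm hHT (subgroupOf_eq_top.1 e))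
  obtain ⟨K, hK, hHK⟩ := (IsCoatomic.eq_top_or_exists_le_coatom (H.subgroupOf T)).resolve_left hlt
  have := hT.isNilpotent
  have hKn : K.Normal := Group.normalizerCondition_of_isNilpotent.normal_of_coatom K hK
  refine hK.1 (eq_top_iff.2 fun x _ => ?_)
  have hle : T ≤ K.map T.subtype := by
    refine (le_of_eq htop.symm).trans ?_
    refine sup_le (fun y hy => ⟨⟨y, hPT hy⟩, hHK (mem_subgroupOf.2 ?_), rfl⟩)
      (orbitClosure_le ⟨⟨u, huT⟩, hHK (mem_subgroupOf.2 (mem_sup_right (mem_zpowers u))), rfl⟩ ?_)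
    · exact mem_sup_left hy
    · intro t ht
      refine mem_normalizer_of_maps ?_
      rintro _ ⟨y, hy, rfl⟩
      exact ⟨⟨t, ht⟩ * y * (⟨t, ht⟩ : T)⁻¹, hKn.conj_mem y hy _, rfl⟩
  obtain ⟨y, hy, hyx⟩ := hle x.2
  exact (Subtype.ext hyx : y = x) ▸ hy

open scoped Classical in
/-- The pairing. -/
noncomputable def flip (u : G) (s : Finset (Subgroup G)) : Finset (Subgroup G) :=
  if pivot u s ∈ s then s.erase (pivot u s) else insert (pivot u s) s

open scoped Classical in
theorem low_insert (s : Finset (Subgroup G)) :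
    low u (insert (pivot u s) s) = low u s := by
  rw [low, low, Finset.filter_insert, if_neg (not_not_intro (mem_pivot u s))]

open scoped Classical in
theorem low_erase (s : Finset (Subgroup G)) : low u (s.erase (pivot u s)) = low u s := by
  rw [low, low, Finset.filter_erase, Finset.erase_eq_of_notMem]
  exact fun h => (Finset.mem_filter.1 h).2 (mem_pivot u s)

open scoped Classical in
theorem insert_case {s : Finset (Subgroup G)} (h : IsNChain p s) (hst : u ∈ stab s) :
    IsNChain p (insert (pivot u s) s) ∧ u ∈ stab (insert (pivot u s) s) ∧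
      pivot u (insert (pivot u s) s) = pivot u s := by
  obtain ⟨hT, hN⟩ := h.top_eq
  set X := pivot u s with hX
  refine ⟨⟨Finset.insert_nonempty _ _, ?_, ?_, ?_⟩, ?_, ?_⟩
  · have hcomp : ∀ Q ∈ s, Q ≤ X ∨ X ≤ Q := fun Q hQ => by
      by_cases huQ : u ∈ Q
      · exact Or.inr (pivot_le_of_mem h hQ huQ)
      · exact Or.inl (le_pivot_of_not_mem hQ huQ)
    intro Q hQ R hR
    rcases Finset.mem_insert.1 hQ with e1 | e1 <;> rcases Finset.mem_insert.1 hR with e2 | e2
    · exact Or.inl (by rw [e1, e2])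
    · rw [e1]; exact (hcomp R e2).symm
    · rw [e2]; exact hcomp Q e1
    · exact h.2.1 Q e1 R e2
  · intro Q hQ
    rcases Finset.mem_insert.1 hQ with e | e
    · rw [e]
      exact ⟨fun hb => hu (by have := mem_pivot u s; rw [← hX, hb] at this; exact this),
        isPGroup_pivot hu hup h hst⟩
    · exact h.2.2.1 Q e
  · by_cases huT : u ∈ s.sup id
    · refine ⟨s.sup id, Finset.mem_insert_of_mem hT, fun Q hQ => ?_⟩
      rcases Finset.mem_insert.1 hQ with e | e
      · rw [e]; exact ⟨pivot_le_of_mem h hT huT, top_le_normalizer_pivot h⟩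
      · exact ⟨Finset.le_sup (f := id) e, hN Q e⟩
    · refine ⟨X, Finset.mem_insert_self _ _, fun Q hQ => ?_⟩
      have hTX : s.sup id ≤ X := le_pivot_of_not_mem hT huT
      rcases Finset.mem_insert.1 hQ with e | e
      · rw [e]; exact ⟨le_rfl, le_normalizer⟩
      · refine ⟨(Finset.le_sup (f := id) e).trans hTX, ?_⟩
        refine sup_le ((low_le fun R hR _ => Finset.le_sup (f := id) hR).trans (hN Q e))
          (orbitClosure_le (mem_stab.1 hst Q e) ?_)
        exact (hN Q e).trans le_normalizer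
  · refine mem_stab.2 fun Q hQ => ?_
    rcases Finset.mem_insert.1 hQ with e | e
    · rw [e]; exact le_normalizer (mem_pivot u s)
    · exact mem_stab.1 hst Q e
  · rw [pivot, low_insert hu hup, Finset.sup_insert, id]
    refine le_antisymm (sup_le le_sup_left (orbitClosure_le (mem_pivot u s)
      (sup_le le_normalizer (top_le_normalizer_pivot h)))) (sup_le le_sup_left ?_)
    refine le_trans ?_ le_sup_right
    exact closure_mono (Set.image_mono (SetLike.coe_subset_coe.2 le_sup_right))

open scoped Classical in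
theorem erase_case {s : Finset (Subgroup G)} (h : IsNChain p s) (hst : u ∈ stab s)
    (hs : s ≠ {zpowers u}) (hX : pivot u s ∈ s) :
    IsNChain p (s.erase (pivot u s)) ∧ u ∈ stab (s.erase (pivot u s)) ∧
      pivot u (s.erase (pivot u s)) = pivot u s := by
  obtain ⟨hT, hN⟩ := h.top_eq
  set X := pivot u s with hXdef
  set s' := s.erase X with hs'
  have hst' : u ∈ stab s' := mem_stab.2 fun Q hQ => mem_stab.1 hst Q (Finset.mem_of_mem_erase hQ)
  have hsub : ∀ Q ∈ s', Q ∈ s := fun Q hQ => Finset.mem_of_mem_erase hQ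
  by_cases hXT : X = s.sup id
  · -- the top is removed
    have huT : u ∈ s.sup id := hXT ▸ mem_pivot u s
    have hrest : ∀ Q ∈ s', u ∉ Q := fun Q hQ huQ => (Finset.mem_erase.1 hQ).1
      (le_antisymm (hXT ▸ Finset.le_sup (f := id) (hsub Q hQ)) (pivot_le_of_mem h (hsub Q hQ) huQ))
    have hgen : low u s ⊔ zpowers u = s.sup id :=
      eq_sup_zpowers_of_closure hu hup (h.2.2.1 _ hT).2
        (low_le fun Q hQ _ => Finset.le_sup (f := id) hQ) huT hXT
    have hne : s'.Nonempty := by
      by_contra hne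
      rw [Finset.not_nonempty_iff_eq_empty] at hne
      apply hs
      have hlow : low u s = ⊥ := by
        rw [← low_erase hu hup, ← hXdef, ← hs', hne]
        simp [low]
      rw [hlow, bot_sup_eq] at hgen
      rw [← Finset.insert_erase hX, ← hs', hne, hgen, ← hXT]
      rfl
    have hlow' : s'.sup id = low u s := by
      rw [← low_erase hu hup, low, ← hXdef, ← hs', Finset.filter_true_of_mem hrest]
    obtain ⟨hlS, hlu⟩ : low u s ∈ s ∧ u ∉ low u s := by
      refine (low_cases h).resolve_left fun e => ?_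
      obtain ⟨Q, hQ⟩ := hne
      exact (h.2.2.1 Q (hsub Q hQ)).1 (le_bot_iff.1 (e ▸ le_low (hsub Q hQ) (hrest Q hQ)))
    have hls' : low u s ∈ s' := Finset.mem_erase.2 ⟨fun e => hlu (by rw [e]; exact mem_pivot u s), hlS⟩
    refine ⟨⟨hne, fun Q hQ R hR => h.2.1 Q (hsub Q hQ) R (hsub R hR),
      fun Q hQ => h.2.2.1 Q (hsub Q hQ), low u s, hls', fun Q hQ =>
        ⟨le_low (hsub Q hQ) (hrest Q hQ), (Finset.le_sup (f := id) hlS).trans (hN Q (hsub Q hQ))⟩⟩,
      hst', ?_⟩
    rw [pivot, low_erase hu hup, hlow', hXT, ← hgen]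
    refine le_antisymm (sup_le le_sup_left (orbitClosure_le (mem_sup_right (mem_zpowers u)) ?_))
      (sup_le le_sup_left (zpowers_le.2 (mem_sup_right (self_mem_orbitClosure _ u))))
    exact le_sup_left.trans le_normalizer
  · have hT' : s.sup id ∈ s' := Finset.mem_erase.2 ⟨Ne.symm hXT, hT⟩
    have hsup : s'.sup id = s.sup id :=
      le_antisymm (Finset.sup_mono (Finset.erase_subset _ _)) (Finset.le_sup (f := id) hT')
    refine ⟨⟨⟨_, hT'⟩, fun Q hQ R hR => h.2.1 Q (hsub Q hQ) R (hsub R hR),
      fun Q hQ => h.2.2.1 Q (hsub Q hQ), s.sup id, hT', fun Q hQ =>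
        ⟨Finset.le_sup (f := id) (hsub Q hQ), hN Q (hsub Q hQ)⟩⟩, hst', ?_⟩
    rw [pivot, low_erase hu hup, hsup]
    rfl

theorem pivot_singleton : pivot u ({zpowers u} : Finset (Subgroup G)) = zpowers u := by
  classical
  have hlow : low u ({zpowers u} : Finset (Subgroup G)) = ⊥ :=
    le_bot_iff.1 (low_le fun Q hQ h => absurd (Finset.mem_singleton.1 hQ ▸ mem_zpowers u) h)
  rw [pivot, hlow, bot_sup_eq, Finset.sup_singleton, id]
  exact le_antisymm (orbitClosure_le (mem_zpowers u) le_normalizer)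
    (zpowers_le.2 (self_mem_orbitClosure _ u))

theorem isNChain_singleton : IsNChain p ({zpowers u} : Finset (Subgroup G)) := by
  obtain ⟨k, hk⟩ := hup
  refine ⟨Finset.singleton_nonempty _, fun Q hQ R hR => ?_, fun Q hQ => ?_, zpowers u,
    Finset.mem_singleton_self _, fun Q hQ => ?_⟩
  · rw [Finset.mem_singleton] at hQ hR; rw [hQ, hR]; exact Or.inl le_rfl
  · rw [Finset.mem_singleton] at hQ; rw [hQ]
    exact ⟨zpowers_ne_bot.2 hu, IsPGroup.of_card (n := k) (by rw [Nat.card_zpowers, hk])⟩
  · rw [Finset.mem_singleton] at hQ; rw [hQ]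
    exact ⟨le_rfl, le_normalizer⟩

theorem mem_stab_singleton : u ∈ stab ({zpowers u} : Finset (Subgroup G)) :=
  mem_stab.2 fun Q hQ => by
    rw [Finset.mem_singleton] at hQ; rw [hQ]; exact le_normalizer (mem_zpowers u)

open scoped Classical in
/-- The alternating sum over the chains fixed by `u`. -/
theorem sum_chains {A : Type*} [AddCommGroup A] (f : Subgroup G → A)
    (S : Finset (Finset (Subgroup G))) (hS : ∀ s, s ∈ S ↔ IsNChain p s ∧ u ∈ stab s) :
    ∑ s ∈ S, (-1 : ℤ) ^ (s.card - 1) • f (centralizer ({u} : Set G) ⊓ stab s) =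
      f (centralizer ({u} : Set G)) := by
  set s₀ : Finset (Subgroup G) := {zpowers u} with hs₀
  have h0 : s₀ ∈ S := (hS _).2 ⟨isNChain_singleton hu hup, mem_stab_singleton hu hup⟩
  have hpiv0 : pivot u s₀ ∈ s₀ := by
    rw [hs₀, pivot_singleton hu hup]; exact Finset.mem_singleton_self _
  rw [← Finset.add_sum_erase S _ h0]
  have hfirst : centralizer ({u} : Set G) ⊓ stab s₀ = centralizer ({u} : Set G) := by
    refine inf_eq_left.2 fun c hc => mem_stab.2 fun Q hQ => ?_
    rw [hs₀, Finset.mem_singleton] at hQ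
    rw [hQ]
    refine mem_normalizer_of_maps ?_
    rintro _ ⟨i, rfl⟩
    have hc' : Commute c u := mem_centralizer_singleton_iff.1 hc
    exact ⟨i, by rw [(hc'.zpow_right i).eq, mul_inv_cancel_right]⟩
  rw [hfirst, hs₀, Finset.card_singleton, Nat.sub_self, pow_zero, one_smul, add_eq_left]
  -- the pairing
  have hmem : ∀ s ∈ S.erase s₀, IsNChain p (flip u s) ∧ u ∈ stab (flip u s) ∧
      pivot u (flip u s) = pivot u s := by
    intro s hs
    obtain ⟨hne, hsS⟩ := Finset.mem_erase.1 hs
    obtain ⟨h, hst⟩ := (hS s).1 hsS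
    unfold flip
    split_ifs with hX
    · exact erase_case hu hup h hst hne hX
    · exact insert_case hu hup h hst
  refine Finset.sum_involution (fun s _ => flip u s) ?_ ?_ ?_ ?_
  · intro s hs
    obtain ⟨h, hst⟩ := (hS s).1 (Finset.mem_of_mem_erase hs)
    obtain ⟨h', hst', hp'⟩ := hmem s hs
    have hstab : centralizer ({u} : Set G) ⊓ stab (flip u s) = centralizer ({u} : Set G) ⊓ stab s := by
      refine le_antisymm (fun c hc => ⟨hc.1, mem_stab.2 fun Q hQ => ?_⟩)
        (fun c hc => ⟨hc.1, mem_stab.2 fun Q hQ => ?_⟩)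
      · by_cases hQX : Q = pivot u s
        · rw [hQX]
          exact centralizer_le_normalizer_pivot h (mem_centralizer_singleton_iff.1 hc.1) hc.2
        · refine mem_stab.1 hc.2 Q ?_
          unfold flip at hQ
          split_ifs at hQ
          · exact Finset.mem_of_mem_erase hQ
          · exact (Finset.mem_insert.1 hQ).resolve_left hQX
      · by_cases hQX : Q = pivot u s
        · rw [hQX, ← hp']
          exact centralizer_le_normalizer_pivot h' (mem_centralizer_singleton_iff.1 hc.1) hc.2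
        · refine mem_stab.1 hc.2 Q ?_
          unfold flip
          split_ifs
          · exact Finset.mem_erase.2 ⟨hQX, hQ⟩
          · exact Finset.mem_insert_of_mem hQ
    rw [hstab, ← add_smul]
    have hc1 := h.1.card_pos
    have hc2 := h'.1.card_pos
    have : (-1 : ℤ) ^ (s.card - 1) + (-1) ^ ((flip u s).card - 1) = 0 := by
      by_cases hX : pivot u s ∈ s
      · have he : (flip u s).card = s.card - 1 := by
          simp [flip, hX, Finset.card_erase_of_mem hX]
        rw [he] at hc2 ⊢
        conv_lhs => rw [show s.card - 1 = s.card - 1 - 1 + 1 by omega, pow_succ]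
        rw [show s.card - 1 - 1 + 1 - 1 = s.card - 1 - 1 by omega]
        ring
      · have he : (flip u s).card = s.card + 1 := by
          simp [flip, hX]
        rw [he, Nat.add_sub_cancel]
        conv_lhs => rw [show s.card = s.card - 1 + 1 by omega, pow_succ, Nat.add_sub_cancel]
        ring
    rw [this, zero_smul]
  · intro s hs _ he
    have he' : pivot u s ∈ flip u s ↔ pivot u s ∈ s := by rw [he]
    unfold flip at he'
    split_ifs at he' with hX
    · simp [hX] at he'
    · simp [hX] at he'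
  · intro s hs
    obtain ⟨h', hst', hp'⟩ := hmem s hs
    refine Finset.mem_erase.2 ⟨fun e => ?_, (hS _).2 ⟨h', hst'⟩⟩
    by_cases hX : pivot u s ∈ s
    · have : pivot u (flip u s) ∈ flip u s := by rw [e]; exact hpiv0
      rw [hp'] at this
      simp [flip, hX] at this
    · have hc : (flip u s).card = s.card + 1 := by simp [flip, hX]
      rw [e, Finset.card_singleton] at hc
      have := ((hS s).1 (Finset.mem_of_mem_erase hs)).1.1.card_pos
      omega
  · intro s hs
    obtain ⟨-, -, hp'⟩ := hmem s hs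
    show flip u (flip u s) = s
    rw [flip, hp']
    by_cases hX : pivot u s ∈ s
    · rw [show flip u s = s.erase (pivot u s) by simp [flip, hX],
        if_neg (Finset.notMem_erase _ _), Finset.insert_erase hX]
    · rw [show flip u s = insert (pivot u s) s by simp [flip, hX],
        if_pos (Finset.mem_insert_self _ _), Finset.erase_insert hX]

end CfsgLib.BlockA.ChainCancel
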