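import Cfsg.Agent.Lib.BlockA.ChainBlocks
import Cfsg.Agent.Lib.BlockA.ChainCancel
import Cfsg.Agent.Lib.Block.PPart

/-!
The characters minus the regular rank of a union of blocks, and its alternating sum over the normal
chains of `p`-subgroups.
-/

set_option autoImplicit false
set_option linter.unusedSectionVars false
set_option maxHeartbeats 1000000

namespace CfsgLib.BlockA.ChainBlocks

open Cfsg CfsgLib.Block CfsgLib.BlockA CfsgLib.BlockB
open scoped ComplexConjugate

universe u

section Union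

variable {G : Type u} [Group G] [Fintype G] {p : ℕ} {M : Ideal AlgInt} [M.IsPrime]
variable (hM : IsPModular p M) {S : Set (IrrCharacter G)}
  (hS : ∀ χ ∈ S, blockOf M (χ : G → ℂ) ⊆ S)
include hM hS

theorem regInd_mul_eq_union {χ : IrrCharacter G} (hχ : χ ∈ S) (g : G) :
    regInd p g * (χ : G → ℂ) g = ∑ ψ ∈ S.toFinite.toFinset,
      classInner (fun x => regInd p x * (χ : G → ℂ) x) (ψ : G → ℂ) * (ψ : G → ℂ) g := by
  classical
  have := Fintype.ofFinite (IrrCharacter G)
  set B := blockOf M (χ : G → ℂ) with hBdef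
  have hexp : ∀ x, regInd p x * (χ : G → ℂ) x = ∑ φ ∈ B.toFinite.toFinset,
      classInner (fun x => regInd p x * (χ : G → ℂ) x) (φ : G → ℂ) * (φ : G → ℂ) x := fun x => by
    rw [regInd_mul_eq_sum hM (isPBlock_blockOf χ) (mem_blockOf_self χ) x,
      finsum_mem_eq_finite_toFinset_sum _ B.toFinite]
  rw [hexp g]
  refine Finset.sum_subset (Set.Finite.toFinset_mono (hS χ hχ)) fun ψ _ hψ => ?_
  rw [funext hexp, CfsgLib.Char.classInner_def]
  simp only [Finset.sum_mul, Finset.mul_sum]
  rw [Finset.sum_comm]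
  refine Finset.sum_eq_zero fun φ hφ => ?_
  rw [← Finset.sum_mul, mul_eq_zero]
  refine Or.inl ?_
  have h0 := CfsgLib.Char.irr_classInner_ne φ.2 ψ.2 fun e => hψ (Subtype.ext e ▸ hφ)
  rw [CfsgLib.Char.classInner_def, Finset.mul_sum] at h0
  calc _ = classInner (fun x => regInd p x * (χ : G → ℂ) x) (φ : G → ℂ) *
        ∑ x : G, (Nat.card G : ℂ)⁻¹ * ((φ : G → ℂ) x * conj ((ψ : G → ℂ) x)) := by
        rw [Finset.mul_sum]; exact Finset.sum_congr rfl fun x _ => by ring
    _ = 0 := by rw [h0, mul_zero]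

/-- The rank of a union of blocks is the trace of its regular projection. -/
theorem blockRank_eq_sum_union :
    ((blockRank p S : ℕ) : ℂ) = ∑ χ ∈ S.toFinite.toFinset,
      classInner (fun x => regInd p x * (χ : G → ℂ) x) (χ : G → ℂ) := by
  classical
  have := Fintype.ofFinite (IrrCharacter G)
  let v : S → (G → ℂ) := fun χ => ((χ : IrrCharacter G) : G → ℂ)
  let row : S → (S → ℂ) := fun χ ξ =>
    classInner (fun x => regInd p x * v χ x) (v ξ)
  let L : (S → ℂ) →ₗ[ℂ] (G → ℂ) := Fintype.linearCombination ℂ v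
  let T : (S → ℂ) →ₗ[ℂ] (S → ℂ) := Fintype.linearCombination ℂ row
  have hLinj : Function.Injective L := by
    have hli : LinearIndependent ℂ v := CfsgLib.Char.irr_linearIndependent.comp
      (fun χ : S => (χ : IrrCharacter G)) Subtype.val_injective
    exact linearIndependent_iff_injective_fintypeLinearCombination.1 hli
  have hLT : ∀ w, L (T w) = fun g => regInd p g * L w g := by
    intro w
    have h1 : ∀ χ : S, L (row χ) = fun g => regInd p g * v χ g := fun χ => by
      funext g
      rw [regInd_mul_eq_union hM hS χ.2 g]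
      simp only [L, Fintype.linearCombination_apply, Finset.sum_apply, Pi.smul_apply, smul_eq_mul]
      exact (Finset.sum_subtype S.toFinite.toFinset (p := (· ∈ S)) (by simp)
        (fun ψ : IrrCharacter G => classInner (fun x => regInd p x * v χ x) (ψ : G → ℂ) *
          (ψ : G → ℂ) g)).symm
    rw [show T w = ∑ χ, w χ • row χ from Fintype.linearCombination_apply ℂ row w, map_sum]
    funext g
    rw [Finset.sum_apply]
    simp only [L, Fintype.linearCombination_apply, Finset.sum_apply, Finset.mul_sum]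
    refine Finset.sum_congr rfl fun χ _ => ?_
    have h2 := congrFun (h1 χ) g
    simp only [L, Fintype.linearCombination_apply, Finset.sum_apply, Pi.smul_apply,
      smul_eq_mul] at h2 ⊢
    rw [← mul_left_comm (w χ), ← h2, Finset.mul_sum]
    refine Finset.sum_congr rfl fun ξ _ => ?_
    ring
  have hidem : ∀ w, T (T w) = T w := fun w => hLinj (by
    rw [hLT, hLT]
    funext g
    rw [← mul_assoc]
    congr 1
    unfold regInd
    split_ifs <;> simp)
  have hproj : LinearMap.IsProj (LinearMap.range T) T :=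
    ⟨fun w => LinearMap.mem_range_self T w, fun w hw => by obtain ⟨u, rfl⟩ := hw; exact hidem u⟩
  have htr := hproj.trace
  have hspan : Submodule.span ℂ ((fun χ : IrrCharacter G => pRegularPart p (χ : G → ℂ)) '' S) =
      (LinearMap.range T).map L := by
    rw [Fintype.range_linearCombination, Submodule.map_span]
    congr 1
    ext f
    simp only [Set.mem_image, Set.mem_range, exists_exists_eq_and]
    have hrow : ∀ χ : S, L (row χ) = pRegularPart p (v χ) := fun χ => by
      have h := hLT (Pi.single χ 1)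
      rw [show T (Pi.single χ 1) = row χ by
        simp [T, Fintype.linearCombination_apply_single]] at h
      rw [h, pRegularPart_eq_regInd_mul]
      funext g
      simp [L, Fintype.linearCombination_apply_single]
    constructor
    · rintro ⟨χ, hχ, rfl⟩
      exact ⟨⟨χ, hχ⟩, hrow ⟨χ, hχ⟩⟩
    · rintro ⟨χ, rfl⟩
      exact ⟨χ, χ.2, (hrow χ).symm⟩
  rw [blockRank, hspan, ← (Submodule.equivMapOfInjective L hLinj _).finrank_eq, ← htr,
    LinearMap.trace_eq_matrix_trace ℂ (Pi.basisFun ℂ S), Matrix.trace,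
    Finset.sum_subtype S.toFinite.toFinset (p := (· ∈ S)) (by simp)]
  refine Finset.sum_congr rfl fun χ _ => ?_
  simp [T, row, v, Fintype.linearCombination_apply_single]

/-- Characters minus rank, counted at the singular elements. -/
theorem card_sub_blockRank [DecidablePred fun g : G => p ∣ orderOf g] :
    (Nat.card G : ℂ) * ((Nat.card S : ℂ) - (blockRank p S : ℂ)) =
      ∑ g ∈ Finset.univ.filter (fun g : G => p ∣ orderOf g),
        ∑ χ ∈ S.toFinite.toFinset, (χ : G → ℂ) g * conj ((χ : G → ℂ) g) := by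
  classical
  rw [blockRank_eq_sum_union hM hS, Finset.sum_comm (s := Finset.univ.filter _)]
  rw [Nat.card_eq_card_finite_toFinset S.toFinite, Finset.cast_card, ← Finset.sum_sub_distrib,
    Finset.mul_sum]
  refine Finset.sum_congr rfl fun χ _ => ?_
  rw [← CfsgLib.Char.irr_classInner_self χ.2, CfsgLib.Char.classInner_def,
    CfsgLib.Char.classInner_def, ← mul_sub, ← mul_assoc,
    mul_inv_cancel₀ CfsgLib.Char.natCard_ne_zero, one_mul, ← Finset.sum_sub_distrib,
    Finset.sum_filter]
  refine Finset.sum_congr rfl fun g _ => ?_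
  unfold regInd
  split_ifs <;> ring

end Union

section Sum

variable {G H : Type u} [Group G] [Fintype G] [Group H] [Fintype H] {p : ℕ}
  {M : Ideal AlgInt} [M.IsPrime] (hM : IsPModular p M)
include hM

theorem normSum_eq_weight_centralizer (ι : H →* G) (hι : Function.Injective ι)
    (χ₀ : IrrCharacter G) {h : H} {X : G} (hX : IsPPart p (ι h) X) :
    normSum M ι χ₀ h =
      weight M χ₀ (Subgroup.centralizer ({X} : Set G) ⊓ ι.range) (X⁻¹ * ι h) := by
  obtain ⟨s, hs⟩ := exists_isPPart_eq_pow hM.1 (ι h)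
  obtain ⟨Y, hXY, hcomm, ⟨k, hk⟩, hY⟩ := hX
  have hXpow : X = ι (h ^ s) := by rw [map_pow]; exact hs X ⟨Y, hXY, hcomm, ⟨k, hk⟩, hY⟩
  set x := h ^ s with hx
  set y := x⁻¹ * h with hy
  have hYy : Y = ι y := by rw [hy, map_mul, map_inv, ← hXpow, ← hXY, inv_mul_cancel_left]
  have hord : orderOf x = p ^ k := by rw [← orderOf_injective ι hι, ← hXpow, hk]
  have hyC : y ∈ Subgroup.centralizer ({x} : Set H) := by
    rw [Subgroup.mem_centralizer_singleton_iff]
    exact ((Commute.refl x).inv_left.mul_left ((Commute.refl h).pow_right s)).eq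
  have hyord : ¬ p ∣ orderOf (⟨y, hyC⟩ : Subgroup.centralizer ({x} : Set H)) := by
    rw [← Subgroup.orderOf_coe, ← orderOf_injective ι hι, ← hYy]
    exact hY
  have h1 := normSum_section hM ⟨k, hord⟩ ι χ₀ hyord
  rw [show x * y = h from mul_inv_cancel_left x h] at h1
  rw [h1, normSum_eq_weight (ι.comp (Subgroup.centralizer ({x} : Set H)).subtype)
    (hι.comp Subtype.val_injective)]
  congr 1
  · ext c
    simp only [MonoidHom.mem_range, MonoidHom.comp_apply, Subgroup.coe_subtype, Subgroup.mem_inf,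
      Subgroup.mem_centralizer_singleton_iff, Subtype.exists]
    constructor
    · rintro ⟨d, hd, rfl⟩
      exact ⟨by rw [hXpow, ← map_mul, ← map_mul, hd], d, rfl⟩
    · rintro ⟨hc, d, rfl⟩
      exact ⟨d, hι (by rw [map_mul, map_mul, ← hXpow, hc]), rfl⟩
  · simp only [MonoidHom.comp_apply, Subgroup.coe_subtype]
    rw [← hYy, ← hXY, inv_mul_cancel_left]

open Classical in
/-- The count of one subgroup. -/
theorem card_sub_blockRank_range (ι : H →* G) (hι : Function.Injective ι) (χ₀ : IrrCharacter G)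
    (xp : G → G) (hxp : ∀ g, IsPPart p g (xp g)) :
    (Nat.card H : ℂ) * ((Nat.card {φ : IrrCharacter H | Below M ι χ₀ φ} : ℂ) -
        (blockRank p {φ : IrrCharacter H | Below M ι χ₀ φ} : ℂ)) =
      ∑ g ∈ Finset.univ.filter (fun g : G => g ∈ ι.range ∧ p ∣ orderOf g),
        weight M χ₀ (Subgroup.centralizer ({xp g} : Set G) ⊓ ι.range) ((xp g)⁻¹ * g) := by
  rw [card_sub_blockRank hM (S := {φ : IrrCharacter H | Below M ι χ₀ φ}) fun χ hχ ψ hψ =>
    (below_iff_of_mem (isPBlock_blockOf χ) ι χ₀ (mem_blockOf_self χ) hψ).1 hχ]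
  refine Finset.sum_bij (fun h _ => ι h) (fun h hh => ?_) (fun a _ b _ e => hι e)
    (fun g hg => ?_) (fun h _ => ?_)
  · rw [Finset.mem_filter] at hh ⊢
    exact ⟨Finset.mem_univ _, ⟨h, rfl⟩, by rw [orderOf_injective ι hι]; exact hh.2⟩
  · rw [Finset.mem_filter] at hg
    obtain ⟨-, ⟨h, rfl⟩, ho⟩ := hg
    exact ⟨h, Finset.mem_filter.2 ⟨Finset.mem_univ _, by rwa [orderOf_injective ι hι] at ho⟩, rfl⟩
  · rw [← normSum_eq_weight_centralizer hM ι hι χ₀ (hxp (ι h)), normSum,
      finsum_mem_eq_finite_toFinset_sum]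

end Sum

open Classical in
/-- **The alternating sum over the normal chains.** -/
theorem alternating_sum {G : Type u} [Group G] [Fintype G] {p : ℕ} [Fact p.Prime]
    {M : Ideal AlgInt} [M.IsPrime] (hM : IsPModular p M) {b : Set (IrrCharacter G)}
    (hb : IsPBlock M b) :
    (Nat.card G : ℂ) * ((Nat.card b : ℂ) - (blockRank p b : ℂ)) =
      ∑ s ∈ Finset.univ.filter (fun s : Finset (Subgroup G) => ChainCancel.IsNChain p s),
        (-1 : ℤ) ^ (s.card - 1) • ((Nat.card (ChainCancel.stab s) : ℂ) *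
          ((Nat.card {ψ : IrrCharacter (ChainCancel.stab s) |
              ∃ β, ψ ∈ β ∧ IsInducedBlock M (ChainCancel.stab s) β b} : ℂ) -
            (blockRank p {ψ : IrrCharacter (ChainCancel.stab s) |
              ∃ β, ψ ∈ β ∧ IsInducedBlock M (ChainCancel.stab s) β b} : ℂ))) := by
  obtain ⟨χ₀, hχ₀⟩ := isPBlock_nonempty hb
  choose xp hxp using fun g : G => exists_isPPart (G := G) hM.1 g
  let f : G → Subgroup G → ℂ := fun g L => weight M χ₀ L ((xp g)⁻¹ * g)
  have hG : (Nat.card G : ℂ) * ((Nat.card b : ℂ) - (blockRank p b : ℂ)) =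
      ∑ g ∈ Finset.univ.filter (fun g : G => p ∣ orderOf g),
        f g (Subgroup.centralizer ({xp g} : Set G)) := by
    have h := card_sub_blockRank_range hM (MonoidHom.id G) (fun _ _ e => e) χ₀ xp hxp
    rw [show {φ : IrrCharacter G | Below M (MonoidHom.id G) χ₀ φ} = b from
      Set.ext fun χ => below_id_iff hb hχ₀ χ] at h
    rw [h]
    refine Finset.sum_congr (Finset.filter_congr fun g _ => ?_) fun g _ => ?_
    · simp
    · rw [MonoidHom.range_eq_top.2 fun a => ⟨a, rfl⟩, inf_top_eq]
  have hL : ∀ L : Subgroup G, (Nat.card L : ℂ) *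
      ((Nat.card {ψ : IrrCharacter L | ∃ β, ψ ∈ β ∧ IsInducedBlock M L β b} : ℂ) -
        (blockRank p {ψ : IrrCharacter L | ∃ β, ψ ∈ β ∧ IsInducedBlock M L β b} : ℂ)) =
      ∑ g ∈ Finset.univ.filter (fun g : G => p ∣ orderOf g),
        if xp g ∈ L then f g (Subgroup.centralizer ({xp g} : Set G) ⊓ L) else 0 := by
    intro L
    have h := card_sub_blockRank_range hM L.subtype Subtype.val_injective χ₀ xp hxp
    rw [show {φ : IrrCharacter L | Below M L.subtype χ₀ φ} =
      {ψ : IrrCharacter L | ∃ β, ψ ∈ β ∧ IsInducedBlock M L β b} from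
      Set.ext fun ψ => below_subtype_iff hb hχ₀ L ψ] at h
    rw [h, ← Finset.sum_filter]
    simp only [Subgroup.range_subtype]
    refine Finset.sum_subset (fun g hg => ?_) fun g hg hg' => ?_
    · rw [Finset.mem_filter] at hg
      obtain ⟨s, hs⟩ := exists_isPPart_eq_pow hM.1 g
      simp only [Finset.mem_filter, Finset.mem_univ, true_and]
      exact ⟨hg.2.2, hs _ (hxp g) ▸ pow_mem hg.2.1 s⟩
    · simp only [Finset.mem_filter, Finset.mem_univ, true_and] at hg hg'
      rw [weight, dif_neg]
      intro hY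
      refine hg' ⟨?_, hg.1⟩
      have := L.mul_mem hg.2 (Subgroup.mem_inf.1 hY).2
      rwa [mul_inv_cancel_left] at this
  simp only [hL, Finset.smul_sum, hG]
  rw [Finset.sum_comm]
  refine Finset.sum_congr rfl fun g hg => ?_
  simp only [smul_ite, smul_zero]
  rw [← Finset.sum_filter]
  obtain ⟨Y, hXY, -, hXo, hY⟩ := hxp g
  refine (ChainCancel.sum_chains (u := xp g) (fun e => ?_) hXo (f g) _ fun s => ?_).symm
  · rw [e, one_mul] at hXY
    exact hY (hXY ▸ (Finset.mem_filter.1 hg).2)
  · simp

end CfsgLib.BlockA.ChainBlocks
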