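import Cfsg.Agent.Lib.Char.Induce
import Cfsg.Agent.Lib.Char.Inner
import Cfsg.Agent.Lib.BlockA.CliffordBasic
import Mathlib.RepresentationTheory.Character
import Mathlib.LinearAlgebra.Matrix.Rank
import Mathlib.LinearAlgebra.Matrix.SchurComplement

/-! Products of elements commuting with a normal subgroup pair through the commutant of a
representation, so the rank of such a pairing is bounded by the norm of the restricted character. -/

set_option autoImplicit false
set_option linter.unusedSectionVars false

namespace CfsgLib.BlockA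

open Cfsg Module
open scoped ComplexConjugate

universe u

section rank

variable {K : Type*} [Field K] {m : Type*} [Fintype m]

theorem matrix_rank_add_le (A B : Matrix m m K) : (A + B).rank ≤ A.rank + B.rank := by
  classical
  unfold Matrix.rank
  have h : LinearMap.range (A + B).mulVecLin ≤
      LinearMap.range A.mulVecLin ⊔ LinearMap.range B.mulVecLin := by
    rintro _ ⟨v, rfl⟩
    rw [Matrix.mulVecLin_add]
    exact Submodule.add_mem_sup ⟨v, rfl⟩ ⟨v, rfl⟩
  exact (Submodule.finrank_mono h).trans (Submodule.finrank_add_le_finrank_add_finrank _ _)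

theorem matrix_rank_smul_le (c : K) (A : Matrix m m K) : (c • A).rank ≤ A.rank := by
  classical
  rw [show c • A = A * (c • (1 : Matrix m m K)) by rw [Matrix.mul_smul, Matrix.mul_one]]
  exact Matrix.rank_mul_le_left _ _

theorem matrix_rank_sum_le {ι : Type*} (s : Finset ι) (A : ι → Matrix m m K) :
    (∑ i ∈ s, A i).rank ≤ ∑ i ∈ s, (A i).rank := by
  classical
  induction s using Finset.induction_on with
  | empty => simp
  | insert a s ha ih =>
    rw [Finset.sum_insert ha, Finset.sum_insert ha]
    exact (matrix_rank_add_le _ _).trans (Nat.add_le_add_left ih _)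

theorem matrix_rank_pos [DecidableEq m] {A : Matrix m m K} {i j : m} (h : A i j ≠ 0) :
    1 ≤ A.rank := by
  have h1 := A.rank_submatrix_le (fun _ : Unit => i) (fun _ : Unit => j)
  refine le_trans ?_ h1
  rw [Matrix.rank_of_det_ne_zero]
  · simp
  · simpa [Matrix.det_unique] using h

/-- The determinant of a diagonal matrix corrected by a rank one matrix. -/
theorem det_diagonal_sub_rankOne [DecidableEq m] (u : m → K) (w : K) :
    (Matrix.of fun i j : m => (if i = j then u i * u j else 0) - w * (u i * u j)).det =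
      (∏ i, u i) ^ 2 * (1 - (Fintype.card m : K) * w) := by
  have e : (Matrix.of fun i j : m => (if i = j then u i * u j else 0) - w * (u i * u j)) =
      Matrix.diagonal u * (1 + Matrix.replicateCol Unit (fun _ : m => -w) *
        Matrix.replicateRow Unit (fun _ : m => (1 : K))) * Matrix.diagonal u := by
    ext i j
    rw [Matrix.mul_diagonal, Matrix.diagonal_mul, Matrix.add_apply, Matrix.mul_apply,
      Fintype.sum_unique, Matrix.replicateCol_apply, Matrix.replicateRow_apply, Matrix.of_apply,
      Matrix.one_apply]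
    by_cases h : i = j
    · simp [h]; ring
    · simp [h]; ring
  rw [e, Matrix.det_mul, Matrix.det_mul, Matrix.det_diagonal,
    Matrix.det_one_add_replicateCol_mul_replicateRow]
  simp [dotProduct, nsmul_eq_mul]
  ring

end rank

variable {G : Type u} [Group G] [Fintype G]

/-- The dimension of the commutant of the restriction to a subgroup. -/
theorem finrank_commutant (N : Subgroup G) [Fintype N] {n : ℕ}
    (ρ : Representation ℂ G (Fin n → ℂ)) :
    (finrank ℂ (Representation.linHom (ρ.comp N.subtype) (ρ.comp N.subtype)).invariants : ℂ) =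
      classInner (fun x : N => ρ.character x) (fun x : N => ρ.character x) := by
  have : Invertible (Nat.card N : ℂ) := invertibleOfNonzero CfsgLib.Char.natCard_ne_zero
  rw [← Representation.card_inv_mul_sum_char_eq_finrank, CfsgLib.Char.classInner_def]
  congr 1
  refine Finset.sum_congr rfl fun x _ => ?_
  rw [Representation.char_linHom, mul_comm]
  show LinearMap.trace ℂ (Fin n → ℂ) (ρ (x : G)) * LinearMap.trace ℂ (Fin n → ℂ) (ρ ((x : G)⁻¹)) = _
  rw [show LinearMap.trace ℂ (Fin n → ℂ) (ρ ((x : G)⁻¹)) = ρ.character ((x : G)⁻¹) from rfl,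
    CfsgLib.Char.char_inv ⟨n, ρ, rfl⟩]
  rfl

/-- The pairing of two families of sums of elements, each family stable under conjugation by
`N`, has rank at most the norm of the restricted character. -/
theorem rank_pair_le (N : Subgroup G) [Fintype N] {χ : G → ℂ} (hχ : IsCharacter G χ)
    {ι : Type*} [Fintype ι] (O : ι → Finset G)
    (hO : ∀ (i : ι) (x : N) (a : G), a ∈ O i → (x : G) * a * (x : G)⁻¹ ∈ O i) (d : ℕ)
    (hd : classInner (fun x : N => χ x) (fun x : N => χ x) = d) :
    (Matrix.of fun q q' : ι => ∑ a ∈ O q', ∑ b ∈ O q, χ (a * b⁻¹)).rank ≤ d := by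
  classical
  obtain ⟨n, ρ, rfl⟩ := hχ
  set σ := Representation.linHom (ρ.comp N.subtype) (ρ.comp N.subtype) with hσ
  set E := σ.invariants with hE
  have hcard : finrank ℂ E = d := by
    have h := finrank_commutant N ρ
    rw [hd] at h
    exact_mod_cast h
  let R : ι → E := fun i => ⟨∑ a ∈ O i, ρ a, by
    rw [hE, Representation.mem_invariants]
    intro x
    rw [hσ, Representation.linHom_apply]
    show ρ (x : G) * ((∑ a ∈ O i, ρ a) * ρ ((x : G)⁻¹)) = _
    rw [Finset.sum_mul, Finset.mul_sum]
    refine Finset.sum_bij' (fun a _ => (x : G) * a * (x : G)⁻¹)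
      (fun a _ => (x : G)⁻¹ * a * x) (fun a ha => hO i x a ha)
      (fun a ha => by simpa using hO i x⁻¹ a ha) (fun a _ => by group) (fun a _ => by group)
      fun a _ => by rw [map_mul, map_mul, mul_assoc]⟩
  have : Module.Free ℂ E := Module.Free.of_divisionRing ℂ E
  have : Module.Finite ℂ E := FiniteDimensional.finiteDimensional_submodule E
  let b := Module.finBasis ℂ E
  let A : Matrix ι (Fin (finrank ℂ E)) ℂ := Matrix.of fun q k =>
    LinearMap.trace ℂ (Fin n → ℂ) ((b k : Module.End ℂ (Fin n → ℂ)) * ∑ c ∈ O q, ρ c⁻¹)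
  let B : Matrix (Fin (finrank ℂ E)) ι ℂ := Matrix.of fun k q' => b.repr (R q') k
  have hfac : (Matrix.of fun q q' : ι => ∑ a ∈ O q', ∑ c ∈ O q, ρ.character (a * c⁻¹)) = A * B := by
    ext q q'
    rw [Matrix.mul_apply, Matrix.of_apply]
    have h1 : ∑ a ∈ O q', ∑ c ∈ O q, ρ.character (a * c⁻¹) =
        LinearMap.trace ℂ (Fin n → ℂ)
          ((R q' : Module.End ℂ (Fin n → ℂ)) * ∑ c ∈ O q, ρ c⁻¹) := by
      show _ = LinearMap.trace ℂ (Fin n → ℂ) ((∑ a ∈ O q', ρ a) * ∑ c ∈ O q, ρ c⁻¹)
      simp only [Finset.sum_mul, Finset.mul_sum, map_sum, ← map_mul]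
      exact Finset.sum_comm
    rw [h1]
    conv_lhs => rw [← b.sum_repr (R q')]
    simp only [A, B, Matrix.of_apply, AddSubmonoidClass.coe_finsetSum, SetLike.val_smul,
      Finset.sum_mul, smul_mul_assoc, map_sum, map_smul, smul_eq_mul]
    exact Finset.sum_congr rfl fun k _ => mul_comm _ _
  rw [hfac]
  refine ((Matrix.rank_mul_le_left A B).trans A.rank_le_card_width).trans ?_
  rw [Fintype.card_fin, hcard]

/-- Over an irreducible character of a normal subgroup the norm of the restriction times the
degree below equals the multiplicity times the degree above. -/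
theorem norm_restrict_mul_degree (N : Subgroup G) [N.Normal] [Fintype N] (χ : IrrCharacter G)
    (θ : IrrCharacter N) (h : classInner (fun x : N => (χ : G → ℂ) x) (θ : N → ℂ) ≠ 0) :
    classInner (fun x : N => (χ : G → ℂ) x) (fun x : N => (χ : G → ℂ) x) * (θ : N → ℂ) 1 =
      classInner (fun x : N => (χ : G → ℂ) x) (θ : N → ℂ) * (χ : G → ℂ) 1 := by
  classical
  have := Fintype.ofFinite (IrrCharacter N)
  set f := fun x : N => (χ : G → ℂ) x with hf
  have hchar : IsCharacter N f :=
    CfsgLib.Char.isCharacter_restrict (CfsgLib.Char.irr_isCharacter χ.2) N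
  have hcl := CfsgLib.Char.isCharacter_isClassFunction hchar
  have key : ∀ φ : IrrCharacter N, classInner f (φ : N → ℂ) ≠ 0 →
      classInner f (φ : N → ℂ) = classInner f (θ : N → ℂ) ∧
        (φ : N → ℂ) 1 = (θ : N → ℂ) 1 := by
    intro φ hφ
    obtain ⟨g, hg⟩ := exists_conj_of_constituents N χ.2 φ.2 θ.2 hφ h
    refine ⟨?_, by rw [hg]; simp⟩
    rw [hg, CfsgLib.Char.classInner_def, CfsgLib.Char.classInner_def]
    congr 1
    refine Fintype.sum_equiv (MulAut.conjNormal g).toEquiv _ _ fun x => ?_
    show (χ : G → ℂ) x * _ = (χ : G → ℂ) ((MulAut.conjNormal g x : N) : G) * _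
    rw [MulAut.conjNormal_apply, CfsgLib.Char.irr_isClassFunction χ.2 (x : G) g]
    rfl
  have h1 : (χ : G → ℂ) 1 =
      ∑ φ : IrrCharacter N, classInner f (φ : N → ℂ) * (φ : N → ℂ) 1 :=
    CfsgLib.Char.classFunction_apply_eq_sum hcl 1
  rw [CfsgLib.Char.classInner_eq_sum_mul hcl, h1, Finset.sum_mul, Finset.mul_sum]
  refine Finset.sum_congr rfl fun φ _ => ?_
  by_cases hφ : classInner f (φ : N → ℂ) = 0
  · simp [hφ]
  obtain ⟨e1, e2⟩ := key φ hφ
  obtain ⟨k, hk⟩ := CfsgLib.Char.classInner_isCharacter_nat hchar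
    (CfsgLib.Char.irr_isCharacter φ.2)
  rw [← e1, e2, hk, Complex.conj_natCast]
  ring

end CfsgLib.BlockA
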