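import Cfsg.Agent.Lib.BlockA.AbelianTrace
import Cfsg.Agent.Lib.BlockA.CentralizerBlock

/-!
An element of an abelian defect group fixed by the stabilizer of the maximal pair: the block and
the block of the centralizer below the pair have equally many characters and Brauer characters.
-/

set_option autoImplicit false
set_option linter.unusedSectionVars false
set_option maxHeartbeats 1000000

namespace CfsgLib.BlockA.Watanabe

open Cfsg CfsgLib.Block CfsgLib.BlockA CfsgLib.BlockB CfsgLib.BlockB.SubSum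
  CfsgLib.BlockB.HeightBound AbelianSub AbelianTrace
open scoped ComplexConjugate

universe u

section Via

variable {G G' L L' C C' : Type u} [Group G] [Group G'] [Group L] [Group L'] [Group C] [Group C']

/-- Block induction along homomorphisms, the conjugation being taken under the target. -/
def InVia (M : Ideal AlgInt) (κ : L →* G) (ρ : C →* G) (c : Set (IrrCharacter C))
    (b : Set (IrrCharacter L)) : Prop :=
  IsPBlock M c ∧ IsPBlock M b ∧ ∀ ξ ∈ c, ∀ χ ∈ b, ∀ l : L,
    MemLocalIdeal M ((∑ᶠ k ∈ {k : C | ∃ x : L, κ x * ρ k * (κ x)⁻¹ = κ l},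
      (ξ : C → ℂ) k / (ξ : C → ℂ) 1) - centralChar (χ : L → ℂ) l)

theorem inVia_subtype (M : Ideal AlgInt) (H K : Subgroup G) (c : Set (IrrCharacter K))
    (b : Set (IrrCharacter H)) :
    IsInducedBlockIn M H K c b ↔ InVia M H.subtype K.subtype c b := Iff.rfl

theorem inVia_id (M : Ideal AlgInt) (K : Subgroup G) (c : Set (IrrCharacter K))
    (b : Set (IrrCharacter G)) :
    IsInducedBlock M K c b ↔ InVia M (MonoidHom.id G) K.subtype c b := by
  refine and_congr_right fun _ => and_congr_right fun _ => forall_congr' fun ξ =>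
    forall_congr' fun _ => forall_congr' fun χ => forall_congr' fun _ => forall_congr' fun g => ?_
  have e : {h : K | IsConj g (h : G)} =
      {k : K | ∃ x : G, MonoidHom.id G x * K.subtype k * (MonoidHom.id G x)⁻¹ =
        MonoidHom.id G g} := by
    refine Set.ext fun k => ?_
    show IsConj g (k : G) ↔ _
    exact isConj_comm.trans isConj_iff
  rw [inducedCentralChar, e]

theorem inVia_comp (M : Ideal AlgInt) {κ : L →* G} {ρ : C →* G} (φ : G →* G')
    (hφ : Function.Injective φ) {c : Set (IrrCharacter C)} {b : Set (IrrCharacter L)} :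
    InVia M (φ.comp κ) (φ.comp ρ) c b ↔ InVia M κ ρ c b := by
  have e : ∀ l : L, {k : C | ∃ x : L, φ.comp κ x * φ.comp ρ k * (φ.comp κ x)⁻¹ = φ.comp κ l} =
      {k : C | ∃ x : L, κ x * ρ k * (κ x)⁻¹ = κ l} := fun l => by
    refine Set.ext fun k => exists_congr fun x => ?_
    simp only [MonoidHom.comp_apply, ← map_inv, ← map_mul, hφ.eq_iff]
  refine and_congr_right fun _ => and_congr_right fun _ => forall_congr' fun ξ =>
    forall_congr' fun _ => forall_congr' fun χ => forall_congr' fun _ => forall_congr' fun l => ?_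
  rw [e l]

variable [Finite L] [Finite L'] [Finite C] [Finite C']

theorem inVia_map {M : Ideal AlgInt} {κ : L →* G} {ρ : C →* G} {c : Set (IrrCharacter C)}
    {b : Set (IrrCharacter L)} (σ : L' ≃* L) (τ : C' ≃* C) (h : InVia M κ ρ c b) :
    InVia M (κ.comp σ.toMonoidHom) (ρ.comp τ.toMonoidHom) (blockMap τ c) (blockMap σ b) := by
  refine ⟨isPBlock_blockMap _ h.1, isPBlock_blockMap _ h.2.1, ?_⟩
  rintro _ ⟨ξ, hξ, rfl⟩ _ ⟨χ, hχ, rfl⟩ l
  rw [centralChar_irrMap]
  have hh := h.2.2 ξ hξ χ hχ (σ l)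
  have e : (∑ᶠ k ∈ {k : C' | ∃ x : L', κ.comp σ.toMonoidHom x * ρ.comp τ.toMonoidHom k *
        (κ.comp σ.toMonoidHom x)⁻¹ = κ.comp σ.toMonoidHom l},
        (irrMap τ ξ : C' → ℂ) k / (irrMap τ ξ : C' → ℂ) 1) =
      ∑ᶠ k ∈ {k : C | ∃ x : L, κ x * ρ k * (κ x)⁻¹ = κ (σ l)}, (ξ : C → ℂ) k / (ξ : C → ℂ) 1 := by
    refine finsum_mem_eq_of_bijOn τ ⟨fun k hk => ?_, τ.injective.injOn, fun k hk => ?_⟩ fun k _ => ?_
    · obtain ⟨x, hx⟩ := hk
      exact ⟨σ x, hx⟩
    · obtain ⟨x, hx⟩ := hk
      exact ⟨τ.symm k, ⟨σ.symm x, by simpa using hx⟩, τ.apply_symm_apply k⟩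
    · simp
  rw [e]
  exact hh

theorem natCard_blockMap (σ : L' ≃* L) (b : Set (IrrCharacter L)) :
    Nat.card (blockMap σ b) = Nat.card b := by
  rw [blockMap]
  exact Nat.card_image_of_injective (irrMap_injective σ) b

end Via

variable {G : Type u} [Group G] [Fintype G] {p : ℕ} {M : Ideal AlgInt} [M.IsPrime]
variable (hM : IsPModular p M) {B : Set (IrrCharacter G)} {P : Subgroup G}
  {c : Set (IrrCharacter (Subgroup.centralizer (P : Set G)))}
  (hmax : IsMaximalBrauerPair p M B P c) (hab : ∀ v ∈ P, ∀ w ∈ P, v * w = w * v)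
include hM hmax hab

local notation "cen" Q => Subgroup.centralizer ((Q : Subgroup G) : Set G)

/-- The block of a centralizer below the pair, inside the centralizer. -/
theorem below_in {H Q : Subgroup G} (hH : H = (cen Q)) (hQ : Q ≤ P)
    {g : Set (IrrCharacter (cen Q))} (hgle : SubpairLE p M Q g P c)
    {b : Set (IrrCharacter H)} (hb : IsPBlock M b)
    (hcoef : subgroupBlockCoeff H b = subgroupBlockCoeff (cen Q) g) :
    ∃ h : CenEq (P.subgroupOf H) P,
      IsInducedBlockIn M H (cen P) c b ∧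
      IsMaximalBrauerPair p M b (P.subgroupOf H) (subBlock h c) ∧
      (∀ f, IsInducedBlockIn M H (cen P) c f → f = b) ∧
      ∀ t : H, t ∈ pairStab M (P.subgroupOf H) (subBlock h c) ↔ (t : G) ∈ pairStab M P c := by
  classical
  subst hH
  have := Fact.mk hM.1
  have hgb := (isBrauerPair_of_subpairLE hmax.1.1 hgle).2
  obtain rfl := subgroupBlockCoeff_injective hM hb hgb hcoef
  have hPD := (maximal_core hM hmax).1
  have hDH := CentralizerBlock.le_cen_of_le hab hQ
  obtain ⟨g', h, hin, -, hmax', huniq⟩ := CentralizerBlock.exists_below_data hM hmax hPD hab hQ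
  obtain ⟨h₁, h₂, hle⟩ := subpairLE_subBlock hM hgle hDH le_rfl
  have hD' : IsBrauerPair p M (P.subgroupOf (cen Q)) (subBlock h₂ c) :=
    isBrauerPair_subBlock h₂ hmax.1.1
  have hQpair : IsBrauerPair p M (Q.subgroupOf (cen Q)) (subBlock h₁ b) :=
    isBrauerPair_of_subpairLE hD' hle
  have hBQ : IsBrauerPairOf p M b (Q.subgroupOf (cen Q)) (subBlock h₁ b) := by
    obtain ⟨ξ, hξ⟩ := isPBlock_nonempty hgb
    rw [isBrauerPairOf_iff hM hQpair hgb
      (show irrMap (cenIso h₁) ξ ∈ subBlock h₁ b from ⟨ξ, hξ, rfl⟩)]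
    have hcoef : ∀ t : (cen Q), (t : G) ∈ (cen Q) →
        (blkIdem M b : MonoidAlgebra (kres M) (cen Q)).coeff t =
          (sIdem M (cen Q) b).coeff (t : G) := by
      intro t _
      rw [sIdem, coeff_inclSub_of_mem]
    rw [(pairVal_subBlock h₁ ξ (isCInv_sIdem hM le_rfl b) hcoef).2,
      pairVal_sIdem hM hgb, if_pos hξ]
  have hind := isInducedBlock_of_isBrauerPairOf hM
    ((isBrauerPairOf_iff_of_le hM hD' hle hgb).2 hBQ)
  obtain rfl : b = g' := huniq b ((CentralizerBlock.isInducedBlockIn_iff h₂ hmax.1.1.2 b).2 hind)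
  refine ⟨h, hin, hmax', huniq, fun t => ?_⟩
  change _ ∧ _ ↔ _ ∧ _
  constructor
  · rintro ⟨h1, h2⟩
    have h1' := (mem_normalizer_subgroupOf hDH t).1 h1
    refine ⟨h1', ?_⟩
    rw [← stabilizesBlock_iff_coeff hM hmax.1.1.2 h1',
      ← stabilizesBlock_subBlock hM hDH h hmax.1.1.2 t h1',
      stabilizesBlock_iff_coeff hM (isPBlock_subBlock h hmax.1.1.2) h1]
    exact h2
  · rintro ⟨h1, h2⟩
    refine ⟨(mem_normalizer_subgroupOf hDH t).2 h1, ?_⟩
    rw [← stabilizesBlock_iff_coeff hM (isPBlock_subBlock h hmax.1.1.2)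
      ((mem_normalizer_subgroupOf hDH t).2 h1), stabilizesBlock_subBlock hM hDH h hmax.1.1.2 t h1,
      stabilizesBlock_iff_coeff hM hmax.1.1.2 h1]
    exact h2

/-- The same for the chosen block at an element. -/
theorem blk_in {v : G} (hv : v ∈ P) :
    ∃ h : CenEq (P.subgroupOf (Subgroup.centralizer ({v} : Set G))) P,
      IsInducedBlockIn M (Subgroup.centralizer ({v} : Set G)) (cen P) c (blk hM hmax hab hv) ∧
      IsMaximalBrauerPair p M (blk hM hmax hab hv)
        (P.subgroupOf (Subgroup.centralizer ({v} : Set G))) (subBlock h c) ∧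
      (∀ f, IsInducedBlockIn M (Subgroup.centralizer ({v} : Set G)) (cen P) c f →
        f = blk hM hmax hab hv) ∧
      ∀ t : Subgroup.centralizer ({v} : Set G),
        t ∈ pairStab M (P.subgroupOf (Subgroup.centralizer ({v} : Set G))) (subBlock h c) ↔
          (t : G) ∈ pairStab M P c := by
  obtain ⟨f, -, hf⟩ := exists_below hM hmax hv
  exact below_in hM hmax hab (cen_zpowers v).symm (Subgroup.zpowers_le.2 hv) hf
    (blk_spec hM hmax hab hv).1.1
    ((blk_spec hM hmax hab hv).2.trans (beta_eq_of_below hM hmax hv rfl hf).symm)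

/-- A central element. -/
theorem central_case {v : G} (hv : v ∈ Subgroup.center G)
    {f : Set (IrrCharacter (Subgroup.centralizer ({v} : Set G)))}
    (hf : IsInducedBlockIn M (Subgroup.centralizer ({v} : Set G)) (cen P) c f) :
    blockRank p f = blockRank p B ∧ Nat.card f = Nat.card B := by
  have hall : ∀ g : G, g ∈ Subgroup.centralizer ({v} : Set G) := fun g =>
    Subgroup.mem_centralizer_singleton_iff.2 (Subgroup.mem_center_iff.1 hv g)
  let σ : G ≃* Subgroup.centralizer ({v} : Set G) :=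
    { toFun := fun g => ⟨g, hall g⟩
      invFun := fun g => g
      left_inv := fun _ => rfl
      right_inv := fun _ => rfl
      map_mul' := fun _ _ => rfl }
  have h1 := inVia_map σ (MulEquiv.refl (cen P)) ((inVia_subtype M _ _ c f).1 hf)
  have e1 : (Subgroup.centralizer ({v} : Set G)).subtype.comp σ.toMonoidHom = MonoidHom.id G := rfl
  have e2 : (cen P).subtype.comp (MulEquiv.refl (cen P)).toMonoidHom = (cen P).subtype := rfl
  have e3 : blockMap (MulEquiv.refl (cen P)) c = c := by
    refine Set.ext fun ξ => ⟨?_, fun h => ⟨ξ, h, rfl⟩⟩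
    rintro ⟨η, hη, rfl⟩
    exact hη
  rw [e1, e2, e3] at h1
  have hind := isInducedBlock_of_isBrauerPairOf hM hmax.1
  have hB : blockMap σ f = B := isInducedBlock_unique _ ((inVia_id M _ c _).2 h1) hind
  refine ⟨?_, by rw [← hB, natCard_blockMap]⟩
  have := Fintype.ofFinite (Subgroup.centralizer ({v} : Set G))
  rw [← hB, blockRank_blockMap hM σ hf.2.1]

open Classical in
/-- The number of characters as a weighted sum of ranks. -/
theorem natCard_eq_sum :
    (Nat.card B : ℂ) = ∑ v : P, rk hM hmax hab v / ((orb M P c (v : G)).card : ℂ) := by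
  classical
  have h := trace_star hM hmax hab (lam := fun _ => 1) (fun _ _ _ _ _ => rfl)
  simp only [one_mul] at h
  rw [← h, Nat.card_eq_card_finite_toFinset B.toFinite, Finset.cast_card]
  refine Finset.sum_congr rfl fun χ hχ => ?_
  rw [Star.star_one hM hmax (B.toFinite.mem_toFinset.1 hχ),
    CfsgLib.Char.irr_classInner_self χ.2]

open Classical in
/-- An invariant linear character without fixed members has trace zero. -/
theorem sum_eq_zero (μ : P →* ℂˣ)
    (hμ : ∀ t ∈ pairStab M P c, ∀ x y : P, t * (x : G) * t⁻¹ = y → μ y = μ x) {y : P}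
    (hy : μ y ≠ 1) :
    ∑ v : P, (μ v : ℂ) * rk hM hmax hab v / ((orb M P c (v : G)).card : ℂ) = 0 := by
  classical
  have hinv : ∀ t ∈ pairStab M P c, ∀ x y : P, t * (x : G) * t⁻¹ = y →
      (μ y : ℂ) = (μ x : ℂ) := fun t ht x y h => by rw [hμ t ht x y h]
  have hst := isStable_of_invariant hM hmax hab hinv
  rw [← trace_star hM hmax hab hinv]
  refine Finset.sum_eq_zero fun χ hχ => ?_
  rw [Set.Finite.mem_toFinset] at hχ
  obtain ⟨ψ, -, hψ, -⟩ := Star.exists_member hM hmax hχ μ hst
  rw [← hψ, CfsgLib.Char.irr_classInner_ne ψ.2 χ.2]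
  intro e
  refine hy (Units.val_eq_one.1 ?_)
  exact Star.eq_one_of_fixed_central hM hmax hχ y (fun w hw => hab w hw _ y.2) hst
    (e.symm.trans hψ)

/-- The inertial index is prime to `p`. -/
theorem not_dvd_relIndex : ¬ p ∣ (cen P).relIndex (pairStab M P c) := by
  have : Fact p.Prime := ⟨hM.1⟩
  have he := hmax.1.1
  have hQT : P ≤ pairStab M P c := le_pairStab P c
  have hCT : (cen P) ≤ pairStab M P c := centralizer_le_pairStab P c
  obtain ⟨F, hF⟩ := exists_isBlockOver hM he hQT hCT le_rfl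
  obtain ⟨D', hD'⟩ := exists_isDefectGroup hM hF.1
  have h := not_dvd_index_over hM hF he hQT hCT le_rfl hD'
  obtain ⟨R, hR⟩ : ∃ R : Subgroup G, R = D'.map (Subgroup.subtype (pairStab M P c)) := ⟨_, rfl⟩
  have hRT : R ≤ pairStab M P c := hR ▸ Subgroup.map_subtype_le D'
  have hRD : R.subgroupOf (pairStab M P c) ≤ D' := by
    rintro ⟨x, hx⟩ hxR
    rw [Subgroup.mem_subgroupOf, hR] at hxR
    obtain ⟨y, hy, hyx⟩ := hxR
    rwa [show (⟨x, hx⟩ : pairStab M P c) = y from Subtype.ext hyx.symm]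
  obtain ⟨g, hg⟩ := exists_pair_of_le_defect hM hF he le_rfl hRT hD' hRD
  have hle : SubpairLE p M P c (P ⊔ R) g := Relation.ReflTransGen.single hg
  have hpair := (isBrauerPairOf_iff_of_le hM hg.2.1 hle hmax.1.2.1).2 hmax.1
  have hDR : P ⊔ R = P := hmax.2 _ g hpair hle
  have hD'C : D' ≤ (cen P).subgroupOf (pairStab M P c) := fun x hx => by
    rw [Subgroup.mem_subgroupOf, Subgroup.mem_centralizer_iff]
    intro w hw
    refine hab w hw _ (hDR.le (Subgroup.mem_sup_right ?_))
    rw [hR]
    exact ⟨x, hx, rfl⟩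
  rwa [sup_eq_left.2 hD'C] at h

/-- An invariant linear character trivial at the centre but not at a fixed element. -/
theorem exists_char {u : G} (hu : u ∈ P) (huT : ∀ t ∈ pairStab M P c, t * u * t⁻¹ = u)
    (hunc : u ∉ Subgroup.center G) :
    ∃ μ : P →* ℂˣ, (∀ t ∈ pairStab M P c, ∀ x y : P, t * (x : G) * t⁻¹ = y → μ y = μ x) ∧
      μ ⟨u, hu⟩ ≠ 1 ∧ ∀ v : P, (v : G) ∈ Subgroup.center G → μ v = 1 := by
  classical
  have := Fact.mk hM.1
  set T := pairStab M P c with hT
  let ρ : T →* MulAut P := P.normalizerMonoidHom.comp (Subgroup.inclusion (pairStab_le P c))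
  have hρ : ∀ (t : T) (x : P), ((ρ t x : P) : G) = (t : G) * x * (t : G)⁻¹ := fun _ _ => rfl
  have := Fintype.ofFinite ρ.range
  set n := Nat.card ρ.range with hn
  have hndvd : ¬ p ∣ n := by
    intro h
    refine not_dvd_relIndex hM hmax hab (h.trans ?_)
    rw [hn, ← Subgroup.index_ker]
    refine Subgroup.index_dvd_of_le fun t ht => ?_
    rw [MonoidHom.mem_ker]
    refine MulEquiv.ext fun x => Subtype.ext ?_
    rw [hρ]
    show (t : G) * (x : G) * (t : G)⁻¹ = x
    rw [← Subgroup.mem_centralizer_iff.1 (Subgroup.mem_subgroupOf.1 ht) x x.2, mul_inv_cancel_right]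
  letI hPcomm : CommGroup P := { (inferInstance : Group P) with
    mul_comm := fun a b => Subtype.ext (hab a a.2 b b.2) }
  set Z : Subgroup P := (Subgroup.center G).subgroupOf P with hZ
  have hfix : ∀ (α : ρ.range) (v : P), (∀ t ∈ T, t * (v : G) * t⁻¹ = v) →
      (α : MulAut P) v = v := by
    rintro ⟨_, t, rfl⟩ v hv
    exact Subtype.ext ((hρ t v).trans (hv t t.2))
  have hun : (⟨u, hu⟩ : P) ^ n ∉ Z := by
    intro h
    apply hunc
    obtain ⟨k, hk⟩ := IsPGroup.iff_orderOf.1 hmax.1.1.1 (⟨u, hu⟩ : P)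
    have hcop : n.Coprime (orderOf (⟨u, hu⟩ : P)) := by
      rw [hk]
      exact Nat.Coprime.pow_right k ((hM.1.coprime_iff_not_dvd.2 hndvd).symm)
    obtain ⟨m, hm⟩ := exists_pow_eq_self_of_coprime hcop
    have h' : (⟨u, hu⟩ : P) ∈ Z := hm ▸ Z.pow_mem h m
    exact Subgroup.mem_subgroupOf.1 h'
  have hne : ((⟨u, hu⟩ : P) ^ n : P ⧸ Z) ≠ 1 := fun h => hun ((QuotientGroup.eq_one_iff _).1 (by
    rw [QuotientGroup.mk_pow]; exact h))
  obtain ⟨φ, hφ⟩ := CommGroup.exists_apply_ne_one_of_hasEnoughRootsOfUnity (P ⧸ Z) ℂ hne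
  let μ₀ : P →* ℂˣ := φ.comp (QuotientGroup.mk' Z)
  let μ : P →* ℂˣ :=
    { toFun := fun v => ∏ α : ρ.range, μ₀ ((α : MulAut P) v)
      map_one' := by simp
      map_mul' := fun a b => by simp [Finset.prod_mul_distrib] }
  refine ⟨μ, fun t ht x y hxy => ?_, ?_, fun v hv => ?_⟩
  · have hy : y = ρ ⟨t, ht⟩ x := Subtype.ext (by rw [hρ]; exact hxy.symm)
    show ∏ α : ρ.range, μ₀ ((α : MulAut P) y) = ∏ α : ρ.range, μ₀ ((α : MulAut P) x)
    exact Fintype.prod_equiv (Equiv.mulRight (⟨ρ ⟨t, ht⟩, ⟨t, ht⟩, rfl⟩ : ρ.range)) _ _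
      fun α => by rw [hy]; rfl
  · show ∏ α : ρ.range, μ₀ ((α : MulAut P) ⟨u, hu⟩) ≠ 1
    rw [Finset.prod_congr rfl (fun α _ => by rw [hfix α ⟨u, hu⟩ huT]), Finset.prod_const,
      Finset.card_univ, ← Nat.card_eq_fintype_card, ← hn, ← map_pow]
    show φ (QuotientGroup.mk ((⟨u, hu⟩ : P) ^ n)) ≠ 1
    exact hφ
  · show ∏ α : ρ.range, μ₀ ((α : MulAut P) v) = 1
    refine Finset.prod_eq_one fun α _ => ?_
    rw [hfix α v fun t _ => by rw [Subgroup.mem_center_iff.1 hv t, mul_inv_cancel_right]]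
    show φ ((v : P ⧸ Z)) = 1
    rw [(QuotientGroup.eq_one_iff v).2 (Subgroup.mem_subgroupOf.2 hv), map_one]

omit hM hmax hab in
/-- **Watanabe.** -/
theorem main (p : ℕ) (M : Ideal AlgInt) [M.IsPrime] (hM : IsPModular p M) :
    ∀ (n : ℕ) (G : Type u) [Group G] [Fintype G], Nat.card G = n →
      ∀ (B : Set (IrrCharacter G)) (P : Subgroup G)
        (c : Set (IrrCharacter (Subgroup.centralizer (P : Set G)))),
        IsMaximalBrauerPair p M B P c → (∀ v ∈ P, ∀ w ∈ P, v * w = w * v) →
        ∀ u ∈ P, (∀ t ∈ pairStab M P c, t * u * t⁻¹ = u) →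
          ∀ f : Set (IrrCharacter (Subgroup.centralizer ({u} : Set G))),
            IsInducedBlockIn M (Subgroup.centralizer ({u} : Set G))
              (Subgroup.centralizer (P : Set G)) c f →
              blockRank p f = blockRank p B ∧ Nat.card f = Nat.card B := by
  intro n
  induction n using Nat.strong_induction_on with
  | _ n IH =>
  intro G _ _ hG B P c hmax hab u hu huT f hf
  classical
  by_cases hunc : u ∈ Subgroup.center G
  · exact central_case hM hmax hab hunc hf
  obtain ⟨μ, hμinv, hμu, hμZ⟩ := exists_char hM hmax hab hu huT hunc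
  let H := Subgroup.centralizer ({u} : Set G)
  have := Fintype.ofFinite H
  obtain ⟨hHc, -, hmaxH, huniq, hTH⟩ := blk_in hM hmax hab hu
  rw [← huniq f hf] at hmaxH
  have hPH : P ≤ H := fun w hw => Subgroup.mem_centralizer_singleton_iff.2 (hab w hw u hu)
  have hTle : pairStab M P c ≤ H := fun t ht =>
    Subgroup.mem_centralizer_singleton_iff.2 (mul_inv_eq_iff_eq_mul.1 (huT t ht))
  set PH := P.subgroupOf H with hPHdef
  have habH : ∀ v ∈ PH, ∀ w ∈ PH, v * w = w * v := fun v hv w hw =>
    Subtype.ext (hab _ hv _ hw)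
  let e : PH ≃* P := Subgroup.subgroupOfEquivOfLe hPH
  have he : ∀ v : PH, ((e v : P) : G) = ((v : H) : G) := fun _ => rfl
  -- the orbits agree
  have horb : ∀ v : PH, (orb M PH (subBlock hHc c) (v : H)).card = (orb M P c (e v : G)).card := by
    intro v
    rw [← Finset.card_map ⟨(Subtype.val : H → G), Subtype.val_injective⟩]
    congr 1
    ext w
    simp only [Finset.mem_map, mem_orb, Function.Embedding.coeFn_mk]
    constructor
    · rintro ⟨a, ⟨t, ht, rfl⟩, rfl⟩
      exact ⟨(t : G), (hTH t).1 ht, rfl⟩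
    · rintro ⟨t, ht, rfl⟩
      exact ⟨⟨t, hTle ht⟩ * (v : H) * (⟨t, hTle ht⟩ : H)⁻¹, ⟨_, (hTH ⟨t, hTle ht⟩).2 ht, rfl⟩, rfl⟩
  -- the ranks agree off the centre
  have hrk : ∀ v : PH,
      (((v : H) : G) ∉ Subgroup.center G →
          rk hM hmaxH habH v = rk hM hmax hab (e v)) ∧
        (((v : H) : G) ∈ Subgroup.center G →
          rk hM hmaxH habH v = (blockRank p f : ℂ) ∧
            rk hM hmax hab (e v) = (blockRank p B : ℂ)) := by
    intro v
    refine ⟨fun hvc => ?_, fun hvc => ⟨?_, ?_⟩⟩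
    · set K := Subgroup.centralizer ({((e v : P) : G)} : Set G) with hK
      obtain ⟨hKc, -, hmaxK, -, hTK⟩ := blk_in hM hmax hab (e v).2
      obtain ⟨hLc, hLin, -, -, -⟩ := blk_in hM hmaxH habH v.2
      have := Fintype.ofFinite K
      have hlt : Nat.card K < n := by
        rw [← hG]
        refine lt_of_le_of_ne (Subgroup.card_le_card_group K) fun hc => hvc ?_
        have hKtop := (Subgroup.card_eq_iff_eq_top K).1 hc
        rw [Subgroup.mem_center_iff]
        intro g
        exact Subgroup.mem_centralizer_singleton_iff.1 (hKtop ▸ Subgroup.mem_top g : g ∈ K)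
      have huK : u ∈ K :=
        Subgroup.mem_centralizer_singleton_iff.2 (hab u hu _ (e v).2)
      have habK : ∀ a ∈ P.subgroupOf K, ∀ b ∈ P.subgroupOf K, a * b = b * a := fun a ha b hb =>
        Subtype.ext (hab _ ha _ hb)
      -- the two descriptions of the centralizer of both elements
      let σ : Subgroup.centralizer ({(⟨u, huK⟩ : K)} : Set K) ≃*
          Subgroup.centralizer ({(v : H)} : Set H) :=
        { toFun := fun l => ⟨⟨((l : K) : G), Subgroup.mem_centralizer_singleton_iff.2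
              (congrArg Subtype.val (Subgroup.mem_centralizer_singleton_iff.1 l.2))⟩,
            Subgroup.mem_centralizer_singleton_iff.2 (Subtype.ext
              (Subgroup.mem_centralizer_singleton_iff.1 (l : K).2))⟩
          invFun := fun l => ⟨⟨((l : H) : G), Subgroup.mem_centralizer_singleton_iff.2
              (congrArg Subtype.val (Subgroup.mem_centralizer_singleton_iff.1 l.2))⟩,
            Subgroup.mem_centralizer_singleton_iff.2 (Subtype.ext
              (Subgroup.mem_centralizer_singleton_iff.1 (l : H).2))⟩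
          left_inv := fun _ => rfl
          right_inv := fun _ => rfl
          map_mul' := fun _ _ => rfl }
      let τ := (cenIso hKc).trans (cenIso hHc).symm
      have hτc : blockMap τ (subBlock hHc c) = subBlock hKc c := by
        simp only [subBlock, blockMap, Set.image_image]
        refine Set.image_congr fun ξ _ => Subtype.ext (funext fun k => ?_)
        simp [τ]
      have h1 := (inVia_comp M H.subtype H.subtype_injective).2
        ((inVia_subtype M _ _ _ _).1 hLin)
      have h2 := inVia_map σ τ h1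
      rw [hτc] at h2
      have e1 : (H.subtype.comp (Subgroup.centralizer ({(v : H)} : Set H)).subtype).comp
          σ.toMonoidHom = K.subtype.comp
            (Subgroup.centralizer ({(⟨u, huK⟩ : K)} : Set K)).subtype := rfl
      have e2 : (H.subtype.comp (Subgroup.centralizer (PH : Set H)).subtype).comp τ.toMonoidHom =
          K.subtype.comp (Subgroup.centralizer (P.subgroupOf K : Set K)).subtype := by
        refine MonoidHom.ext fun k => ?_
        show (((cenIso hHc).symm (cenIso hKc k) : H) : G) = ((k : K) : G)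
        rw [← coe_cenIso hHc, MulEquiv.apply_symm_apply, coe_cenIso]
      rw [e1, e2] at h2
      have h3 := (inVia_subtype M _ _ _ _).2 ((inVia_comp M K.subtype K.subtype_injective).1 h2)
      obtain ⟨h4, -⟩ := IH _ hlt K rfl _ _ _ hmaxK habK ⟨u, huK⟩ hu
        (fun t ht => Subtype.ext (huT _ ((hTK t).1 ht))) _ h3
      have := Fintype.ofFinite (Subgroup.centralizer ({(v : H)} : Set H))
      have := Fintype.ofFinite (Subgroup.centralizer ({(⟨u, huK⟩ : K)} : Set K))
      rw [blockRank_blockMap hM σ (blk_spec hM hmaxH habH v.2).1.1] at h4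
      exact congrArg Nat.cast h4
    · obtain ⟨hLc, hLin, -⟩ := blk_in hM hmaxH habH v.2
      have hvH : (v : H) ∈ Subgroup.center H :=
        Subgroup.mem_center_iff.2 fun g => Subtype.ext (Subgroup.mem_center_iff.1 hvc g)
      exact congrArg Nat.cast (central_case hM hmaxH habH hvH hLin).1
    · obtain ⟨hKc, hKin, -⟩ := blk_in hM hmax hab (e v).2
      exact congrArg Nat.cast (central_case hM hmax hab (v := ((e v : P) : G)) hvc hKin).1
  -- the traces
  have hμH : ∀ t ∈ pairStab M PH (subBlock hHc c), ∀ x y : PH,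
      t * (x : H) * t⁻¹ = y → (μ.comp e.toMonoidHom) y = (μ.comp e.toMonoidHom) x :=
    fun t ht x y hxy => hμinv _ ((hTH t).1 ht) (e x) (e y) (congrArg Subtype.val hxy)
  have hyH : (μ.comp e.toMonoidHom) (e.symm ⟨u, hu⟩) ≠ 1 := by simpa using hμu
  have h1 := sum_eq_zero hM hmax hab μ hμinv hμu
  have h2 := sum_eq_zero hM hmaxH habH (μ.comp e.toMonoidHom) hμH hyH
  rw [← Fintype.sum_equiv e.toEquiv
    (fun v : PH => (μ (e v) : ℂ) * rk hM hmax hab (e v) / ((orb M P c (e v : G)).card : ℂ)) _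
    fun _ => rfl] at h1
  have horb1 : ∀ w : G, w ∈ Subgroup.center G → (orb M P c w).card = 1 := fun w hw => by
    rw [Finset.card_eq_one]
    refine ⟨w, Finset.eq_singleton_iff_unique_mem.2 ⟨self_mem_orb w, fun z hz => ?_⟩⟩
    obtain ⟨t, -, rfl⟩ := mem_orb.1 hz
    rw [Subgroup.mem_center_iff.1 hw t, mul_inv_cancel_right]
  have hdiff : (((Finset.univ.filter fun v : PH => ((v : H) : G) ∈ Subgroup.center G).card : ℕ) : ℂ)
      * ((blockRank p B : ℂ) - (blockRank p f : ℂ)) = 0 := by
    have h0 : ∑ v : PH, ((μ (e v) : ℂ) * rk hM hmax hab (e v) / ((orb M P c (e v : G)).card : ℂ) -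
        ((μ.comp e.toMonoidHom) v : ℂ) * rk hM hmaxH habH v /
          ((orb M PH (subBlock hHc c) (v : H)).card : ℂ)) = 0 := by
      rw [Finset.sum_sub_distrib, h1, h2, sub_zero]
    rw [← Finset.sum_filter_of_ne (p := fun v : PH => ((v : H) : G) ∈ Subgroup.center G)
      fun v _ hv => ?_] at h0
    · rw [Finset.sum_congr rfl (g := fun _ => (blockRank p B : ℂ) - (blockRank p f : ℂ))
        fun v hv => ?_, Finset.sum_const, nsmul_eq_mul] at h0
      · exact h0
      · have hvc := (Finset.mem_filter.1 hv).2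
        obtain ⟨ha, hb⟩ := (hrk v).2 hvc
        rw [horb v, ha, hb, horb1 _ (show ((e v : P) : G) ∈ _ from hvc)]
        simp [hμZ (e v) hvc]
    · by_contra hvc
      exact hv (by rw [(hrk v).1 hvc, horb v]; exact sub_self _)
  have hl : blockRank p f = blockRank p B := by
    rw [mul_eq_zero, sub_eq_zero, Nat.cast_inj] at hdiff
    refine (hdiff.resolve_left (Nat.cast_ne_zero.2 (Finset.card_pos.2 ?_).ne')).symm
    exact ⟨1, Finset.mem_filter.2 ⟨Finset.mem_univ _, by simp⟩⟩
  refine ⟨hl, ?_⟩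
  have hk : (Nat.card f : ℂ) = (Nat.card B : ℂ) := by
    rw [natCard_eq_sum hM hmax hab, natCard_eq_sum hM hmaxH habH,
      ← Fintype.sum_equiv e.toEquiv
        (fun v : PH => rk hM hmax hab (e v) / ((orb M P c (e v : G)).card : ℂ)) _ fun _ => rfl]
    refine Finset.sum_congr rfl fun v _ => ?_
    by_cases hvc : ((v : H) : G) ∈ Subgroup.center G
    · obtain ⟨ha, hb⟩ := (hrk v).2 hvc
      rw [horb v, ha, hb, hl]
    · rw [(hrk v).1 hvc, horb v]
  exact_mod_cast hk

end CfsgLib.BlockA.Watanabe
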