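import Cfsg.Agent.Lib.BlockA.AbelianTrace
import Cfsg.Agent.Lib.BlockA.Watanabe
import Cfsg.Agent.Lib.BlockB.StarNilpotent
import Cfsg.Agent.Lib.BlockA.RankOne

/-!
The matrices of contributions of the subsections of a block with abelian defect group: they
express the products with stable functions, and are orthogonal projections.
-/

set_option autoImplicit false
set_option linter.unusedSectionVars false
set_option maxHeartbeats 1000000

namespace CfsgLib.BlockA.Contribution

open Cfsg CfsgLib.Block CfsgLib.BlockA CfsgLib.BlockB CfsgLib.BlockB.SubSum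
  CfsgLib.BlockB.HeightBound CfsgLib.BlockB.Star AbelianSub AbelianTrace
open scoped ComplexConjugate

universe u

variable {G : Type u} [Group G] [Fintype G] {p : ℕ} {M : Ideal AlgInt} [M.IsPrime]

open Classical in
/-- The sum over the regular elements of one section of the products of two block parts. -/
noncomputable def secPair (p : ℕ) (x : G)
    (b : Set (IrrCharacter (Subgroup.centralizer ({x} : Set G)))) (χ ξ : IrrCharacter G) : ℂ :=
  ∑ y : Subgroup.centralizer ({x} : Set G) with ¬ p ∣ orderOf y,
    blockPart b (fun c : Subgroup.centralizer ({x} : Set G) => (χ : G → ℂ) (x * (c : G))) y *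
      conj (blockPart b
        (fun c : Subgroup.centralizer ({x} : Set G) => (ξ : G → ℂ) (x * (c : G))) y)

theorem blockPart_blockMap {H K : Type u} [Group H] [Group K] [Fintype H] [Fintype K] (φ : H ≃* K)
    {b : Set (IrrCharacter K)} {f : K → ℂ} (hf : IsClassFunction K f) (y : H) :
    blockPart (blockMap φ b) (fun h => f (φ h)) y = blockPart b f (φ y) := by
  rw [blockPart_eq_sum (blockMap φ b) (fun g h => by simp only [map_mul, map_inv]; exact hf _ _),
    blockPart_eq_sum b hf]
  exact Fintype.sum_equiv φ.toEquiv _ _ fun k => by simp [blockCoeff_blockMap]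

theorem isClassFunction_shift (χ : IrrCharacter G) (x : G) :
    IsClassFunction (Subgroup.centralizer ({x} : Set G))
      (fun c : Subgroup.centralizer ({x} : Set G) => (χ : G → ℂ) (x * (c : G))) := fun c h => by
  have h1 : (h : G) * x = x * (h : G) := Subgroup.mem_centralizer_singleton_iff.1 h.2
  have h2 : x * ((h * c * h⁻¹ : Subgroup.centralizer ({x} : Set G)) : G) =
      (h : G) * (x * (c : G)) * (h : G)⁻¹ := by
    push_cast
    calc x * ((h : G) * c * (h : G)⁻¹) = (x * (h : G)) * c * (h : G)⁻¹ := by group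
      _ = _ := by rw [← h1]; group
  simp only [h2]
  exact CfsgLib.Char.irr_isClassFunction χ.2 _ _

/-- Conjugate sections give the same sums. -/
theorem secPair_conj {a v x : G} (hx : a * v * a⁻¹ = x)
    (b : Set (IrrCharacter (Subgroup.centralizer ({v} : Set G))))
    {b' : Set (IrrCharacter (Subgroup.centralizer ({x} : Set G)))}
    (hb' : ∀ e : x = a * v * a⁻¹, e ▸ b' = blockMap (cenConj a v) b) (χ ξ : IrrCharacter G) :
    secPair p x b' χ ξ = secPair p v b χ ξ := by
  classical
  subst hx
  obtain rfl : b' = blockMap (cenConj a v) b := hb' rfl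
  have hbp : ∀ (χ : IrrCharacter G) (y : Subgroup.centralizer ({a * v * a⁻¹} : Set G)),
      blockPart (blockMap (cenConj a v) b)
        (fun c : Subgroup.centralizer ({a * v * a⁻¹} : Set G) =>
          (χ : G → ℂ) (a * v * a⁻¹ * (c : G))) y =
      blockPart b (fun c : Subgroup.centralizer ({v} : Set G) => (χ : G → ℂ) (v * (c : G)))
        (cenConj a v y) := by
    intro χ y
    rw [← blockPart_blockMap (cenConj a v) (isClassFunction_shift χ v)]
    congr 1
    funext h
    show _ = (χ : G → ℂ) (v * (a⁻¹ * (h : G) * a))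
    rw [← CfsgLib.Char.irr_isClassFunction χ.2 (v * (a⁻¹ * (h : G) * a)) a]
    congr 1
    group
  unfold secPair
  rw [Finset.sum_filter, Finset.sum_filter]
  refine Fintype.sum_equiv (cenConj a v).toEquiv _ _ fun y => ?_
  rw [hbp, hbp, MulEquiv.toEquiv_eq_coe, MulEquiv.coe_toEquiv, MulEquiv.orderOf_eq]

theorem conj_secPair (x : G) (b : Set (IrrCharacter (Subgroup.centralizer ({x} : Set G))))
    (χ ξ : IrrCharacter G) : conj (secPair p x b χ ξ) = secPair p x b ξ χ := by
  classical
  simp only [secPair, map_sum, map_mul, Complex.conj_conj, mul_comm]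

variable {B : Set (IrrCharacter G)} {P : Subgroup G}
  {c : Set (IrrCharacter (Subgroup.centralizer (P : Set G)))}
variable (hM : IsPModular p M) (hmax : IsMaximalBrauerPair p M B P c)
  (hab : ∀ v ∈ P, ∀ w ∈ P, v * w = w * v)
include hM hmax hab

/-- The contribution of an element of the defect group to the inner product of two characters. -/
noncomputable def con (v : P) (χ ξ : IrrCharacter G) : ℂ :=
  (Nat.card (Subgroup.centralizer ({(v : G)} : Set G)) : ℂ)⁻¹ *
    secPair p (v : G) (blk hM hmax hab v.2) χ ξ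

theorem conj_con (v : P) (χ ξ : IrrCharacter G) :
    conj (con hM hmax hab v χ ξ) = con hM hmax hab v ξ χ := by
  rw [con, con, map_mul, map_inv₀, Complex.conj_natCast, conj_secPair]

theorem con_of_coeff {a x : G} {v : P} (hx : a * (v : G) * a⁻¹ = x)
    {b : Set (IrrCharacter (Subgroup.centralizer ({x} : Set G)))} (hb : IsPBlock M b)
    (hβ : subgroupBlockCoeff (Subgroup.centralizer ({x} : Set G)) b =
      conjFun a (beta hM hmax (v : G))) (χ ξ : IrrCharacter G) :
    (Nat.card (Subgroup.centralizer ({x} : Set G)) : ℂ)⁻¹ * secPair p x b χ ξ =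
      con hM hmax hab v χ ξ := by
  subst hx
  rw [con, secPair_conj rfl (blk hM hmax hab v.2) (fun _ => subgroupBlockCoeff_injective hM hb
    (isPBlock_blockMap _ (blk_spec hM hmax hab v.2).1.1)
    (hβ.trans (coeff_conj_blk hM hmax hab a v.2).symm)),
    Nat.card_congr (cenConj a (v : G)).toEquiv]

/-- The stabilizer does not change the contributions and the ranks. -/
theorem con_stab {v w : P} (h : (w : G) ∈ orb M P c (v : G)) :
    (∀ χ ξ, con hM hmax hab w χ ξ = con hM hmax hab v χ ξ) ∧
      rk hM hmax hab w = rk hM hmax hab v := by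
  obtain ⟨t, ht, htw⟩ := mem_orb.1 h
  have hb := (blk_spec hM hmax hab w.2)
  have hβ : subgroupBlockCoeff (Subgroup.centralizer ({(w : G)} : Set G)) (blk hM hmax hab w.2) =
      conjFun t (beta hM hmax (v : G)) := by
    rw [hb.2, (beta_stab hM hmax v.2 ht).2, htw]
  refine ⟨fun χ ξ => ?_, ?_⟩
  · rw [← con_of_coeff hM hmax hab htw hb.1.1 hβ χ ξ, con]
  · simp only [rk]
    rw [rank_eq_of_coeff hM hmax hab v.2 htw hb.1.1 hβ]

open Classical in
/-- **Inner products with the products by stable functions.** -/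
theorem classInner_star {χ ξ : IrrCharacter G} (hξ : ξ ∈ B) {lam : P → ℂ}
    (hlam : ∀ t ∈ pairStab M P c, ∀ x y : P, t * (x : G) * t⁻¹ = y → lam y = lam x) :
    classInner (CfsgLib.BlockB.Star.star p M P c (χ : G → ℂ) lam) (ξ : G → ℂ) =
      ∑ v : P, lam v * con hM hmax hab v χ ξ / ((orb M P c (v : G)).card : ℂ) := by
  have hst := isStable_of_invariant hM hmax hab hlam
  set F : P → ℂ := fun v => lam v * con hM hmax hab v χ ξ / ((orb M P c (v : G)).card : ℂ) with hF
  let X : Finset G := Finset.univ.filter fun x : G => ∃ k : ℕ, orderOf x = p ^ k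
  have key : ∀ x ∈ X, ∀ b ∈ allBlocks M (Subgroup.centralizer ({x} : Set G)),
      L p M P c lam x (subgroupBlockCoeff (Subgroup.centralizer ({x} : Set G)) b) *
          secPair p x b χ ξ =
        ∑ q ∈ carriers hM hmax x (subgroupBlockCoeff (Subgroup.centralizer ({x} : Set G)) b),
          F q.2 := by
    intro x hxX b hbA
    have hb := mem_allBlocks.1 hbA
    set β := subgroupBlockCoeff (Subgroup.centralizer ({x} : Set G)) b with hβ
    by_cases hne : (carriers hM hmax x β).Nonempty
    · obtain ⟨⟨a₀, v₀⟩, h₀⟩ := hne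
      obtain ⟨hx₀, hβ₀⟩ := (mem_carriers hM hmax hab).1 h₀
      obtain ⟨f, -, hf⟩ := exists_below hM hmax v₀.2
      have hrep : Rep p M P c x β v₀ := ⟨a₀, f, hx₀, hf, by
        rw [beta_eq_of_below hM hmax v₀.2 rfl hf, hβ₀]⟩
      obtain ⟨hcard, horb⟩ := card_carriers hM hmax hab h₀
      have hFeq : ∀ q ∈ carriers hM hmax x β, F q.2 = F v₀ := by
        intro q hq
        obtain ⟨t, ht, htv⟩ := mem_orb.1 (horb q hq)
        simp only [hF]
        rw [hlam t ht v₀ q.2 htv, orb_eq (horb q hq),
          (con_stab hM hmax hab (horb q hq)).1 χ ξ]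
      rw [Finset.sum_congr rfl hFeq, Finset.sum_const, hcard, nsmul_eq_mul,
        L_eq hM hmax.1.1 hst hrep]
      have hC : Nat.card (Subgroup.centralizer ({x} : Set G)) =
          Nat.card (Subgroup.centralizer ({(v₀ : G)} : Set G)) := by
        rw [← hx₀]
        exact Nat.card_congr (cenConj a₀ (v₀ : G)).toEquiv
      have hcon := con_of_coeff hM hmax hab hx₀ hb hβ₀.symm χ ξ
      rw [hC, inv_mul_eq_iff_eq_mul₀ (Nat.cast_ne_zero.2 Nat.card_pos.ne')] at hcon
      rw [hcon]
      simp only [hF]
      have ho : ((orb M P c (v₀ : G)).card : ℂ) ≠ 0 :=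
        Nat.cast_ne_zero.2 (Finset.card_pos.2 ⟨_, self_mem_orb _⟩).ne'
      push_cast
      field_simp
    · rw [Finset.not_nonempty_iff_eq_empty.1 hne, Finset.sum_empty,
        L_eq_zero hM hmax.1.1 (fun y hy => hne ?_), zero_mul]
      obtain ⟨a, f, ha, hf, hfβ⟩ := hy
      exact ⟨(a, y), (mem_carriers hM hmax hab).2 ⟨ha, by
        rw [← beta_eq_of_below hM hmax y.2 rfl hf, hfβ]⟩⟩
  conv_lhs => arg 2; rw [← star_one hM hmax hξ]
  rw [CfsgLib.Char.classInner_def, sum_mul_conj_eq hM hmax χ ξ lam (fun _ => 1)]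
  simp only [map_one, mul_one]
  rw [inv_mul_eq_iff_eq_mul₀ CfsgLib.Char.natCard_ne_zero]
  calc _ = ∑ x ∈ X, ∑ b ∈ allBlocks M (Subgroup.centralizer ({x} : Set G)),
        ∑ q ∈ carriers hM hmax x (subgroupBlockCoeff (Subgroup.centralizer ({x} : Set G)) b),
          F q.2 := Finset.sum_congr rfl fun x hx => Finset.sum_congr rfl fun b hb => key x hx b hb
    _ = ∑ q : G × P, F q.2 := by
        simp only [carriers, Finset.sum_filter]
        rw [Finset.sum_congr rfl fun x _ => Finset.sum_comm, Finset.sum_comm]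
        refine Finset.sum_congr rfl fun q _ => ?_
        have hxq : q.1 * (q.2 : G) * q.1⁻¹ ∈ X := by
          refine Finset.mem_filter.2 ⟨Finset.mem_univ _, ?_⟩
          have := Fact.mk hM.1
          obtain ⟨k, hk⟩ := IsPGroup.iff_orderOf.1 hmax.1.1.1 q.2
          rw [← Subgroup.orderOf_coe] at hk
          exact ⟨k, by rw [show q.1 * (q.2 : G) * q.1⁻¹ = MulAut.conj q.1 (q.2 : G) from rfl,
            MulEquiv.orderOf_eq, hk]⟩
        rw [Finset.sum_eq_single_of_mem _ hxq]
        · rw [Finset.sum_eq_single_of_mem (blockMap (cenConj q.1 (q.2 : G)) (blk hM hmax hab q.2.2))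
            (mem_allBlocks.2 (isPBlock_blockMap _ (blk_spec hM hmax hab q.2.2).1.1))]
          · rw [if_pos ⟨rfl, (coeff_conj_blk hM hmax hab q.1 q.2.2).symm⟩]
          · intro b hb hne
            rw [if_neg]
            rintro ⟨-, hβ⟩
            exact hne (subgroupBlockCoeff_injective hM (mem_allBlocks.1 hb)
              (isPBlock_blockMap _ (blk_spec hM hmax hab q.2.2).1.1)
              (by rw [coeff_conj_blk, hβ]))
        · intro x _ hne
          refine Finset.sum_eq_zero fun b _ => if_neg fun h => hne h.1.symm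
    _ = _ := by
        rw [Fintype.sum_prod_type]
        simp only
        rw [Finset.sum_const, Finset.card_univ, ← Nat.card_eq_fintype_card, nsmul_eq_mul]

omit hM hmax hab in
open Classical in
/-- The indicator of an orbit. -/
noncomputable def orbInd (M : Ideal AlgInt) [M.IsPrime] (P : Subgroup G)
    (c : Set (IrrCharacter (Subgroup.centralizer (P : Set G)))) (v : P) (u : P) : ℂ :=
  if (u : G) ∈ orb M P c (v : G) then 1 else 0

theorem orbInd_invariant (v : P) : ∀ t ∈ pairStab M P c, ∀ x y : P, t * (x : G) * t⁻¹ = y →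
    orbInd M P c v y = orbInd M P c v x := by
  classical
  intro t ht x y hxy
  have hy : (y : G) ∈ orb M P c (x : G) := mem_orb.2 ⟨t, ht, hxy⟩
  have e : ((y : G) ∈ orb M P c (v : G)) ↔ ((x : G) ∈ orb M P c (v : G)) := by
    constructor <;> intro h
    · rw [← orb_eq h, orb_eq hy]
      exact self_mem_orb _
    · rw [← orb_eq h]
      exact hy
  simp only [orbInd, e]

open Classical in
theorem sum_orbInd (v : P) (f : P → ℂ) (hf : ∀ w : P, (w : G) ∈ orb M P c (v : G) → f w = f v) :
    ∑ u : P, orbInd M P c v u * f u / ((orb M P c (u : G)).card : ℂ) = f v := by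
  simp only [orbInd, ite_mul, one_mul, zero_mul, ite_div, zero_div]
  rw [← Finset.sum_filter, Finset.sum_congr rfl (g := fun _ => f v / ((orb M P c (v : G)).card : ℂ))
    fun u hu => by rw [hf u (Finset.mem_filter.1 hu).2, orb_eq (Finset.mem_filter.1 hu).2],
    Finset.sum_const, nsmul_eq_mul]
  have hc : (Finset.univ.filter fun u : P => (u : G) ∈ orb M P c (v : G)).card =
      (orb M P c (v : G)).card := by
    rw [← Finset.card_map ⟨(Subtype.val : P → G), Subtype.val_injective⟩]
    congr 1
    ext w
    simp only [Finset.mem_map, Finset.mem_filter, Finset.mem_univ, true_and,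
      Function.Embedding.coeFn_mk]
    refine ⟨?_, fun h => ?_⟩
    · rintro ⟨u, hu, rfl⟩
      exact hu
    · obtain ⟨t, ht, htw⟩ := mem_orb.1 h
      exact ⟨⟨w, htw ▸ (beta_stab hM hmax v.2 ht).1⟩, h, rfl⟩
  rw [hc, mul_div_cancel₀ _ (Nat.cast_ne_zero.2 (Finset.card_pos.2 ⟨_, self_mem_orb _⟩).ne')]

/-- The contribution is the inner product with the product by the orbit. -/
theorem classInner_star_orbInd {χ ξ : IrrCharacter G} (hξ : ξ ∈ B) (v : P) :
    classInner (CfsgLib.BlockB.Star.star p M P c (χ : G → ℂ) (orbInd M P c v))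
      (ξ : G → ℂ) = con hM hmax hab v χ ξ := by
  classical
  rw [classInner_star hM hmax hab hξ (orbInd_invariant hM hmax hab v),
    sum_orbInd hM hmax hab v (fun u => con hM hmax hab u χ ξ)
      fun w hw => (con_stab hM hmax hab hw).1 χ ξ]

open Classical in
/-- **The contributions are orthogonal projections.** -/
theorem sum_con_mul {χ χ' : IrrCharacter G} (hχ' : χ' ∈ B) (v w : P) :
    ∑ ξ ∈ B.toFinite.toFinset, con hM hmax hab v χ ξ * con hM hmax hab w ξ χ' =
      if (w : G) ∈ orb M P c (v : G) then con hM hmax hab v χ χ' else 0 := by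
  have := Fintype.ofFinite (IrrCharacter G)
  set S := CfsgLib.BlockB.Star.star p M P c (χ : G → ℂ) (orbInd M P c v) with hS
  set S' := CfsgLib.BlockB.Star.star p M P c (χ' : G → ℂ) (orbInd M P c w) with hS'
  have hst := fun u : P => isStable_of_invariant hM hmax hab (orbInd_invariant hM hmax hab u)
  have hzero : ∀ ξ : IrrCharacter G, ξ ∉ B → classInner S (ξ : G → ℂ) = 0 := fun ξ hξ =>
    classInner_star_eq_zero hM hmax hξ (hst v)
  have hexp : S' = ∑ ξ : IrrCharacter G, classInner S' (ξ : G → ℂ) • (ξ : G → ℂ) := by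
    funext g
    rw [Finset.sum_apply]
    exact CfsgLib.Char.classFunction_apply_eq_sum
      (star_isClassFunction hM hmax.1.1 (hst w) (CfsgLib.Char.irr_isClassFunction χ'.2)) g
  have h1 : classInner S S' =
      ∑ ξ ∈ B.toFinite.toFinset, con hM hmax hab v χ ξ * con hM hmax hab w ξ χ' := by
    conv_lhs => rw [hexp]
    rw [CfsgLib.Char.classInner_sum_right, ← Finset.sum_subset (Finset.subset_univ B.toFinite.toFinset)
      (fun ξ _ hξ => by
        rw [CfsgLib.Char.classInner_smul_right, hzero ξ (by simpa using hξ), mul_zero])]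
    refine Finset.sum_congr rfl fun ξ hξ => ?_
    rw [Set.Finite.mem_toFinset] at hξ
    rw [CfsgLib.Char.classInner_smul_right, hS, hS', classInner_star_orbInd hM hmax hab hξ,
      classInner_star_orbInd hM hmax hab hξ, conj_con]
    ring
  rw [← h1]
  have hlam : (fun u : P => orbInd M P c v u * conj (orbInd M P c w u)) =
      if (w : G) ∈ orb M P c (v : G) then orbInd M P c v else fun _ => 0 := by
    funext u
    by_cases h : (w : G) ∈ orb M P c (v : G)
    · rw [if_pos h, orbInd, orbInd, orb_eq h]
      split_ifs <;> simp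
    · rw [if_neg h]
      by_cases h1 : (u : G) ∈ orb M P c (v : G)
      · have h2 : (u : G) ∉ orb M P c (w : G) := fun h2 => h (by
          rw [← orb_eq h1, orb_eq h2]
          exact self_mem_orb _)
        simp [orbInd, h2]
      · simp [orbInd, h1]
  have h2 : classInner S S' = classInner (CfsgLib.BlockB.Star.star p M P c (χ : G → ℂ)
      (fun u : P => orbInd M P c v u * conj (orbInd M P c w u))) (χ' : G → ℂ) := by
    conv_rhs => arg 2; rw [← star_one hM hmax hχ']
    rw [hS, hS', CfsgLib.Char.classInner_def, CfsgLib.Char.classInner_def,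
      sum_mul_conj_eq hM hmax χ χ' (orbInd M P c v) (orbInd M P c w),
      sum_mul_conj_eq hM hmax χ χ' _ (fun _ => 1)]
    simp only [map_one, mul_one]
  rw [h2, hlam]
  split_ifs
  · exact classInner_star_orbInd hM hmax hab hχ' v
  · rw [classInner_star hM hmax hab hχ' (fun _ _ _ _ _ => rfl)]
    simp

open Classical in
/-- **The trace is the rank.** -/
theorem sum_con_self (v : P) :
    ∑ χ ∈ B.toFinite.toFinset, con hM hmax hab v χ χ = rk hM hmax hab v := by
  have h := trace_star hM hmax hab (orbInd_invariant hM hmax hab v)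
  rw [Finset.sum_congr rfl fun χ hχ =>
    classInner_star_orbInd hM hmax hab (B.toFinite.mem_toFinset.1 hχ) v,
    sum_orbInd hM hmax hab v (fun u => rk hM hmax hab u)
      fun w hw => (con_stab hM hmax hab hw).2] at h
  exact h

/-- The contributions add up to the inner product. -/
theorem sum_con [Fintype P] {χ : IrrCharacter G} (hχ : χ ∈ B) :
    ∑ v : P, con hM hmax hab v χ χ / ((orb M P c (v : G)).card : ℂ) = 1 := by
  classical
  have h := classInner_star hM hmax hab (χ := χ) hχ (lam := fun _ => 1) (fun _ _ _ _ _ => rfl)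
  rw [star_one hM hmax hχ, CfsgLib.Char.irr_classInner_self χ.2] at h
  simp only [one_mul] at h
  rw [h]
  exact Finset.sum_congr (by ext; simp) fun _ _ => rfl

/-- The link with the entries at a subsection. -/
theorem subEntry_eq_con (v : P) [Fintype (IrrCharacter G)]
    [Fintype (Subgroup.centralizer ({(v : G)} : Set G))] (χ ξ : IrrCharacter G) :
    subEntry p (blk hM hmax hab v.2) χ ξ 1 =
      ((p ^ blockDefect p B : ℕ) : ℂ) * con hM hmax hab v χ ξ := by
  classical
  have := Fact.mk hM.1
  obtain ⟨k, hk⟩ := IsPGroup.iff_orderOf.1 hmax.1.1.1 v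
  rw [← Subgroup.orderOf_coe] at hk
  have hd : blockDefect p (blk hM hmax hab v.2) = blockDefect p B :=
    (exists_blk hM hmax hab v.2).choose_spec.2.2
  rw [subEntry_one hM ⟨k, hk⟩ (blk_spec hM hmax hab v.2).1, hd]
  refine congrArg _ ?_
  rw [CfsgLib.Char.classInner_def, con, secPair, Finset.sum_filter]
  refine congrArg _ (Finset.sum_congr (by ext; simp) fun y _ => ?_)
  simp only [sectionFun, regInd, map_mul]
  split_ifs <;> simp

/-- **A nilpotent block with abelian defect group: characters and rank.** -/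
theorem nilpotent_counts (hst : pairStab M P c ≤ Subgroup.centralizer (P : Set G)) :
    Nat.card B = Nat.card P ∧ blockRank p B = 1 := by
  classical
  have := Fact.mk hM.1
  have := Fintype.ofFinite (IrrCharacter G)
  have hnil := (nilpotent_iff_abelian hM hmax hab).2 hst
  obtain ⟨χ, hχ, h0⟩ := exists_height_zero hM hmax.1.2.1
  obtain ⟨Φ, hΦ⟩ := CfsgLib.BlockB.Star.exists_bijection hM hmax hnil hχ h0
  letI : CommGroup P := { (inferInstance : Group P) with
    mul_comm := fun a b => Subtype.ext (hab a a.2 b b.2) }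
  refine ⟨?_, le_antisymm ?_ (one_le_blockRank hM hmax.1.2.1)⟩
  · rw [← Nat.card_congr Φ, CfsgLib.Char.irr_card_eq]
    exact Nat.card_congr ConjClasses.mkEquiv.symm
  · unfold blockRank
    refine (Submodule.finrank_mono (t := ℂ ∙ pRegularPart p (χ : G → ℂ))
      (Submodule.span_le.2 ?_)).trans ((finrank_span_le_card _).trans (by simp))
    rintro _ ⟨ψ, hψ, rfl⟩
    obtain ⟨ζ, hζ⟩ := Φ.surjective ⟨ψ, hψ⟩
    refine Submodule.mem_span_singleton.2 ⟨(charDegree (ζ : P → ℂ) : ℂ), ?_⟩
    funext g
    have h := (hΦ ζ).2 g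
    rw [show ((Φ ζ : B) : IrrCharacter G) = ψ from congrArg Subtype.val hζ] at h
    simp only [Pi.smul_apply, smul_eq_mul, CfsgLib.BlockB.pRegularPart_eq_regInd_mul, regInd]
    split_ifs with hg
    · simp
    · rw [one_mul, one_mul, h hg]

end CfsgLib.BlockA.Contribution
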