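import Cfsg.Agent.Lib.Block.DefectOneGalois
import Cfsg.Agent.Lib.Block.MainTheorems
import Cfsg.Agent.Lib.Block.LamZero
import Cfsg.Agent.Lib.BlockA.RegMatrix
import Cfsg.Agent.Lib.Char.Inner
import Cfsg.Agent.Lib.Char.Linear
import Cfsg.Agent.Lib.Char.Diag
import Cfsg.Agent.Lib.BlockB.PModular
import Mathlib.NumberTheory.Padics.PadicVal.Basic
import Mathlib.RingTheory.RootsOfUnity.Complex
import Mathlib.GroupTheory.Sylow
import Mathlib.FieldTheory.IntermediateField.Adjoin.Basic

/-! Schur's bound on the order of a `p`-group with a faithful rational character. -/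

set_option autoImplicit false
set_option linter.unusedSectionVars false
set_option maxHeartbeats 1000000

namespace CfsgLib.BlockA.SchurBound

open Cfsg CfsgLib.Block CfsgLib.Char
open scoped ComplexConjugate

universe u

variable {p : ℕ} [hp : Fact p.Prime]

/-- The averages over cyclic subgroups count fixed points. -/
theorem exists_fixed_dim {P : Type u} [Group P] [Fintype P] {χ : P → ℂ} (hχ : IsCharacter P χ)
    {n : ℕ} (hn : χ 1 = n) (x : P) :
    ∃ d : ℕ, d ≤ n ∧ ∑ i ∈ Finset.range (orderOf x), χ (x ^ i) = (orderOf x : ℂ) * d := by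
  classical
  obtain ⟨d, hd⟩ := classInner_isCharacter_nat (isCharacter_comp hχ (Subgroup.zpowers x).subtype)
    (irr_isCharacter (isIrrCharacter_one (G := Subgroup.zpowers x)))
  rw [classInner_def, Nat.card_zpowers] at hd
  simp only [map_one, mul_one, Function.comp_apply, Subgroup.coe_subtype] at hd
  rw [← Equiv.sum_comp (finEquivZPowers (isOfFinOrder_of_finite x))] at hd
  simp only [finEquivZPowers_apply] at hd
  rw [Fin.sum_univ_eq_sum_range (fun i => χ (x ^ i))] at hd
  have ho : (orderOf x : ℂ) ≠ 0 := Nat.cast_ne_zero.2 (orderOf_pos x).ne'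
  have hsum : ∑ i ∈ Finset.range (orderOf x), χ (x ^ i) = (orderOf x : ℂ) * d := by
    rw [← hd, ← mul_assoc, mul_inv_cancel₀ ho, one_mul]
  refine ⟨d, ?_, hsum⟩
  obtain ⟨m, ρ, rfl⟩ := hχ
  rw [Representation.char_one] at hn
  have hn' : Module.finrank ℂ (Fin m → ℂ) = n := by exact_mod_cast hn
  have h1 : ‖∑ i ∈ Finset.range (orderOf x), ρ.character (x ^ i)‖ ≤ (orderOf x : ℝ) * n := by
    refine (norm_sum_le _ _).trans ?_
    calc ∑ i ∈ Finset.range (orderOf x), ‖ρ.character (x ^ i)‖
        ≤ ∑ i ∈ Finset.range (orderOf x), (n : ℝ) :=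
          Finset.sum_le_sum fun i _ => hn' ▸ CfsgLib.Char.norm_char_le ρ (x ^ i)
      _ = (orderOf x : ℝ) * n := by simp
  rw [hsum, norm_mul, Complex.norm_natCast, Complex.norm_natCast] at h1
  exact_mod_cast le_of_mul_le_mul_left h1 (Nat.cast_pos.2 (orderOf_pos x))

/-- The values of a faithful rational character at the nontrivial elements. -/
theorem exists_value {P : Type u} [Group P] [Fintype P] (hP : IsPGroup p P) {χ : P → ℂ}
    (hχ : IsCharacter P χ) (hfaith : ∀ x, χ x = χ 1 → x = 1)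
    (hrat : ∀ (x : P) (i : ℕ), i.Coprime p → χ (x ^ i) = χ x) {n : ℕ} (hn : χ 1 = n) {x : P}
    (hx : x ≠ 1) : ∃ j : ℕ, 1 ≤ j ∧ (p - 1) * j ≤ n ∧ χ x = (n : ℂ) - (p : ℂ) * j := by
  classical
  obtain ⟨k, hk⟩ := IsPGroup.iff_orderOf.1 hP x
  obtain ⟨k, rfl⟩ : ∃ l, k = l + 1 := Nat.exists_eq_succ_of_ne_zero (by
    rintro rfl
    rw [pow_zero, orderOf_eq_one_iff] at hk
    exact hx hk)
  set N := p ^ k with hN
  have hop : orderOf (x ^ p) = N := by
    rw [orderOf_pow_of_dvd hp.out.ne_zero (hk ▸ dvd_pow_self p (Nat.succ_ne_zero k)), hk, pow_succ,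
      Nat.mul_div_cancel _ hp.out.pos]
  obtain ⟨m0, hm0, e0⟩ := exists_fixed_dim hχ hn x
  obtain ⟨F, hF, eF⟩ := exists_fixed_dim hχ hn (x ^ p)
  rw [hop] at eF
  rw [hk, pow_succ, ← hN] at e0
  have hsplit := Finset.sum_filter_add_sum_filter_not (Finset.range (N * p)) (p ∣ ·)
    (fun i => χ (x ^ i))
  have hdiv : ∑ i ∈ (Finset.range (N * p)).filter (p ∣ ·), χ (x ^ i) = (N : ℂ) * F := by
    rw [← eF]
    symm
    refine Finset.sum_bij' (fun i _ => p * i) (fun i _ => i / p) ?_ ?_ ?_ ?_ ?_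
    · intro i hi
      simp only [Finset.mem_range] at hi
      simp only [Finset.mem_filter, Finset.mem_range]
      exact ⟨by rw [mul_comm N p]; exact Nat.mul_lt_mul_of_pos_left hi hp.out.pos, dvd_mul_right p i⟩
    · intro i hi
      simp only [Finset.mem_filter, Finset.mem_range] at hi ⊢
      exact Nat.div_lt_of_lt_mul (by rw [mul_comm]; exact hi.1)
    · intro i _
      exact Nat.mul_div_cancel_left i hp.out.pos
    · intro i hi
      exact Nat.mul_div_cancel' (Finset.mem_filter.1 hi).2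
    · intro i _
      rw [← pow_mul]
  have hnd : ∑ i ∈ (Finset.range (N * p)).filter (fun i => ¬ p ∣ i), χ (x ^ i) =
      ((N : ℂ) * p - N) * χ x := by
    rw [Finset.sum_congr rfl (g := fun _ => χ x) (fun i hi => hrat x i
      (Nat.Coprime.symm (hp.out.coprime_iff_not_dvd.2 (Finset.mem_filter.1 hi).2))),
      Finset.sum_const, nsmul_eq_mul]
    congr 1
    have hc := Finset.card_filter_add_card_filter_not (s := Finset.range (N * p)) (p ∣ ·)
    have hcd : ((Finset.range (N * p)).filter (p ∣ ·)).card = N := by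
      conv_rhs => rw [← Finset.card_range N]
      refine (Finset.card_bij (fun i _ => p * i) ?_ ?_ ?_).symm
      · intro i hi
        simp only [Finset.mem_range] at hi
        simp only [Finset.mem_filter, Finset.mem_range]
        exact ⟨by rw [mul_comm N p]; exact Nat.mul_lt_mul_of_pos_left hi hp.out.pos,
          dvd_mul_right p i⟩
      · intro a _ b _ h
        exact Nat.eq_of_mul_eq_mul_left hp.out.pos h
      · intro i hi
        simp only [Finset.mem_filter, Finset.mem_range] at hi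
        obtain ⟨t, rfl⟩ := hi.2
        exact ⟨t, Finset.mem_range.2 (Nat.lt_of_mul_lt_mul_left (a := p) (by
          rw [mul_comm p N]; exact hi.1)), rfl⟩
    rw [hcd, Finset.card_range] at hc
    have := congrArg (Nat.cast : ℕ → ℂ) hc
    push_cast at this ⊢
    linear_combination this
  rw [hdiv, hnd, e0] at hsplit
  push_cast at hsplit
  have hN0 : (N : ℂ) ≠ 0 := Nat.cast_ne_zero.2 (pow_ne_zero _ hp.out.ne_zero)
  have hv : ((p : ℂ) - 1) * χ x = (p : ℂ) * m0 - F := by
    refine mul_left_cancel₀ hN0 ?_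
    linear_combination hsplit
  -- the value is an integer
  have hint : IsIntegral ℤ (χ x) := by
    obtain ⟨m, ρ, rfl⟩ := hχ
    exact CfsgLib.Char.char_isIntegral ρ x
  have hp1 : (0 : ℚ) < (p : ℚ) - 1 := by
    have : (2 : ℚ) ≤ p := by exact_mod_cast hp.out.two_le
    linarith
  have hq : χ x = (algebraMap ℚ ℂ) (((p : ℚ) * m0 - F) / ((p : ℚ) - 1)) := by
    have h1 : ((p : ℂ) - 1) ≠ 0 := sub_ne_zero.2 (by exact_mod_cast hp.out.one_lt.ne')
    rw [eq_ratCast]
    push_cast
    rw [eq_div_iff h1, mul_comm, hv]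
  rw [hq] at hint
  obtain ⟨z, hz⟩ := IsIntegrallyClosed.isIntegral_iff.1
    ((isIntegral_algHom_iff (IsScalarTower.toAlgHom ℤ ℚ ℂ) (algebraMap ℚ ℂ).injective).1 hint)
  have hz' : χ x = (z : ℂ) := by
    rw [hq, ← hz]
    simp
  have hvz : ((p : ℤ) - 1) * z = (p : ℤ) * m0 - F := by
    rw [hz'] at hv
    exact_mod_cast hv
  -- congruence modulo `p`
  obtain ⟨M, hM⟩ := CfsgLib.BlockB.exists_isPModular (p := p) hp.out
  haveI := CfsgLib.Block.isPrime_of_pmodular hM
  have hred := redC_char_mul_pelement hM hχ (Commute.one_right x) ⟨k + 1, hk⟩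
  rw [mul_one, hz', hn, redC_eq_iff (memLocalRing_intCast z) (memLocalRing_natCast n)] at hred
  have hdvd : (p : ℤ) ∣ z - n := by
    have h2 : MemLocalIdeal M (((z - n : ℤ) : ℂ) / ((1 : ℕ) : ℂ)) := by
      push_cast
      rwa [div_one]
    rw [memLocalIdeal_intCast_div_iff hM one_ne_zero] at h2
    simpa using h2
  obtain ⟨t, ht⟩ := hdvd
  have hne : z ≠ n := fun h => hx (hfaith x (by rw [hz', hn, h]; simp))
  have hpz : (2 : ℤ) ≤ p := by exact_mod_cast hp.out.two_le
  have hm0' : (m0 : ℤ) ≤ n := by exact_mod_cast hm0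
  have hF' : (F : ℤ) ≤ n := by exact_mod_cast hF
  have hzle : z ≤ n := by
    have h1 : ‖χ x‖ ≤ n := by
      obtain ⟨m, ρ, rfl⟩ := hχ
      rw [Representation.char_one] at hn
      have hn' : Module.finrank ℂ (Fin m → ℂ) = n := by exact_mod_cast hn
      exact hn' ▸ CfsgLib.Char.norm_char_le ρ x
    rw [hz', Complex.norm_intCast] at h1
    have : (z : ℝ) ≤ n := (le_abs_self _).trans h1
    exact_mod_cast this
  have htneg : t < 0 := by
    by_contra h
    have : 0 ≤ (p : ℤ) * t := mul_nonneg (by omega) (by omega)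
    omega
  refine ⟨(-t).toNat, by omega, ?_, ?_⟩
  · have hb : ((p : ℤ) - 1) * (-t) ≤ n := by
      refine le_of_mul_le_mul_left ?_ (by omega : (0 : ℤ) < p)
      nlinarith [hvz, ht]
    zify [hp.out.one_le]
    rw [Int.toNat_of_nonneg (by omega)]
    exact hb
  · rw [hz']
    have h3 : z = (n : ℤ) - p * ((-t).toNat : ℤ) := by
      rw [Int.toNat_of_nonneg (by omega)]; linarith
    exact_mod_cast congrArg (Int.cast : ℤ → ℂ) h3

/-- **Schur's bound.** -/
theorem schur_bound {P : Type u} [Group P] [Fintype P] (hP : IsPGroup p P) {χ : P → ℂ}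
    (hχ : IsCharacter P χ) (hfaith : ∀ x, χ x = χ 1 → x = 1)
    (hrat : ∀ (x : P) (i : ℕ), i.Coprime p → χ (x ^ i) = χ x) {n : ℕ} (hn : χ 1 = n) :
    (Nat.card P).factorization p ≤ ∑ i ∈ Finset.range (n + 1), n / ((p - 1) * p ^ i) := by
  classical
  set J := n / (p - 1) with hJ
  have hgen : ∀ s : Finset ℕ, IsGeneralizedCharacter P
      (fun x => ∏ j ∈ s, (χ x - ((n : ℂ) - (p : ℂ) * j))) := by
    intro s
    induction s using Finset.induction with
    | empty => simpa using isGeneralized_of_isCharacter (irr_isCharacter (isIrrCharacter_one (G := P)))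
    | insert j s hj ih =>
      have e : (fun x => ∏ i ∈ insert j s, (χ x - ((n : ℂ) - (p : ℂ) * i))) =
          (χ - (((n : ℤ) - (p : ℤ) * j : ℤ) : ℂ) • fun _ : P => (1 : ℂ)) *
            fun x => ∏ i ∈ s, (χ x - ((n : ℂ) - (p : ℂ) * i)) := by
        funext x
        simp [Finset.prod_insert hj]
      rw [e]
      exact isGeneralized_mul (isGeneralized_sub (isGeneralized_of_isCharacter hχ)
        (isGeneralized_zsmul (isGeneralized_of_isCharacter (irr_isCharacter isIrrCharacter_one)) _)) ih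
  obtain ⟨k, hk⟩ := classInner_isGeneralized_int (hgen (Finset.Icc 1 J))
    (isGeneralized_of_isCharacter (irr_isCharacter (isIrrCharacter_one (G := P))))
  rw [classInner_def, Finset.sum_eq_single (1 : P)] at hk
  · have hF : ∏ j ∈ Finset.Icc 1 J, (χ 1 - ((n : ℂ) - (p : ℂ) * j)) =
        ((p ^ J * J.factorial : ℕ) : ℂ) := by
      rw [hn, Finset.prod_congr rfl (fun (j : ℕ) _ => show (n : ℂ) - ((n : ℂ) - (p : ℂ) * (j : ℂ)) =
          (p : ℂ) * ((j : ℕ) : ℂ) by ring), Finset.prod_mul_distrib, Finset.prod_const, Nat.card_Icc,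
        Nat.add_sub_cancel, ← Nat.cast_prod, show ∏ j ∈ Finset.Icc 1 J, j = J.factorial by
          rw [← Finset.prod_range_add_one_eq_factorial, ← Finset.Ico_add_one_right_eq_Icc,
            Finset.prod_Ico_eq_prod_range]
          simp [add_comm]]
      push_cast
      rfl
    rw [hF, map_one, mul_one, inv_mul_eq_iff_eq_mul₀ natCard_ne_zero] at hk
    have hdvd : Nat.card P ∣ p ^ J * J.factorial := by
      have h1 : ((p ^ J * J.factorial : ℕ) : ℤ) = (Nat.card P : ℤ) * k := by exact_mod_cast hk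
      exact Int.natCast_dvd_natCast.1 (Dvd.intro _ h1.symm)
    have hne : p ^ J * J.factorial ≠ 0 := mul_ne_zero (pow_ne_zero _ hp.out.ne_zero) J.factorial_ne_zero
    have h2 := (Nat.factorization_le_iff_dvd Nat.card_pos.ne' hne).2 hdvd p
    refine h2.trans ?_
    rw [Nat.factorization_mul (pow_ne_zero _ hp.out.ne_zero) J.factorial_ne_zero, Finsupp.add_apply,
      hp.out.factorization_pow, Finsupp.single_eq_same, Nat.factorization_def _ hp.out,
      show J + padicValNat p J.factorial = padicValNat p (p * J).factorial by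
        rw [padicValNat_factorial_mul]; omega,
      padicValNat_factorial (b := n + 2) ?_]
    · rw [Finset.sum_Ico_eq_sum_range, show n + 2 - 1 = n + 1 by omega]
      refine le_of_eq (Finset.sum_congr rfl fun i _ => ?_)
      rw [pow_add, pow_one, Nat.mul_div_mul_left _ _ hp.out.pos, hJ, Nat.div_div_eq_div_mul]
    · refine Nat.log_lt_of_lt_pow' (by omega) ?_
      have h3 : J ≤ n := Nat.div_le_self n _
      calc p * J ≤ p * n := Nat.mul_le_mul_left p h3
        _ < p * p ^ (n + 1) := Nat.mul_lt_mul_of_pos_left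
            (lt_trans (Nat.lt_succ_self n) (Nat.lt_pow_self hp.out.one_lt)) hp.out.pos
        _ = p ^ (n + 2) := by ring
  · intro x _ hx
    obtain ⟨j, h1, h2, h3⟩ := exists_value hP hχ hfaith hrat hn hx
    rw [Finset.prod_eq_zero (i := j) (Finset.mem_Icc.2 ⟨h1, ?_⟩) (by rw [h3]; ring), zero_mul]
    rw [hJ, Nat.le_div_iff_mul_le (Nat.sub_pos_of_lt hp.out.one_lt), mul_comm]
    exact h2
  · exact fun h => absurd (Finset.mem_univ _) h

/-- Values in a cyclotomic field of conductor prime to `p` are rational on `p`-elements. -/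
theorem rat_of_adjoin {G : Type u} [Group G] [Finite G] {χ : G → ℂ} (hχ : IsCharacter G χ)
    {r : ℕ} (hr0 : 0 < r) (hr : ¬ p ∣ r)
    (hval : ∀ g : G, χ g ∈ IntermediateField.adjoin ℚ
      ({Complex.exp (2 * Real.pi * Complex.I / r)} : Set ℂ))
    (x : G) (hx : ∃ k, orderOf x = p ^ k) (i : ℕ) (hi : i.Coprime p) : χ (x ^ i) = χ x := by
  classical
  obtain ⟨k, hk⟩ := hx
  have hcop : (p ^ k).Coprime r := Nat.Coprime.pow_left k (hp.out.coprime_iff_not_dvd.2 hr)
  obtain ⟨m, hm1, hm2⟩ := Nat.chineseRemainder hcop i 1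
  have hmc : m.Coprime (p ^ k * r) := by
    refine Nat.Coprime.mul_right ?_ ?_
    · rcases Nat.eq_zero_or_pos k with rfl | hk0
      · simp
      · refine Nat.Coprime.pow_right k ?_
        have h1 : m ≡ i [MOD p] := hm1.of_dvd (dvd_pow_self p hk0.ne')
        rw [Nat.Coprime, h1.gcd_eq]
        exact hi
    · rw [Nat.Coprime, hm2.gcd_eq]
      exact Nat.gcd_one_left r
  have hN : 0 < p ^ k * r := Nat.mul_pos (pow_pos hp.out.pos k) hr0
  obtain ⟨σ, hσ⟩ := CfsgLib.Block.exists_ringEquiv_pow _ hN hmc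
  have hfix : σ (Complex.exp (2 * Real.pi * Complex.I / r)) =
      Complex.exp (2 * Real.pi * Complex.I / r) := by
    have hz := Complex.isPrimitiveRoot_exp r hr0.ne'
    rw [hσ _ (by rw [pow_mul', hz.pow_eq_one, one_pow])]
    conv_rhs => rw [← pow_one (Complex.exp (2 * Real.pi * Complex.I / r))]
    rw [pow_eq_pow_mod m hz.pow_eq_one, pow_eq_pow_mod 1 hz.pow_eq_one]
    exact congrArg _ hm2
  have hfixall : ∀ z ∈ IntermediateField.adjoin ℚ
      ({Complex.exp (2 * Real.pi * Complex.I / r)} : Set ℂ), σ z = z := by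
    intro z hz
    induction hz using IntermediateField.adjoin_induction with
    | mem y hy => rw [Set.mem_singleton_iff.1 hy]; exact hfix
    | algebraMap q => rw [eq_ratCast, map_ratCast]
    | add a b _ _ ha hb => rw [map_add, ha, hb]
    | inv a _ ha => rw [map_inv₀, ha]
    | mul a b _ _ ha hb => rw [map_mul, ha, hb]
  have := Fintype.ofFinite (Subgroup.zpowers x)
  obtain ⟨m', -, hm', hχσ⟩ := CfsgLib.Block.exists_pow_of_ringEquiv (G := Subgroup.zpowers x) σ
  have hcard : Nat.card (Subgroup.zpowers x) = p ^ k := by rw [Nat.card_zpowers, hk]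
  have hz := Complex.isPrimitiveRoot_exp (p ^ k) (pow_ne_zero k hp.out.ne_zero)
  have hmm : m' ≡ m [MOD p ^ k] := by
    have h1 := hm' _ (by rw [hcard]; exact hz.pow_eq_one)
    rw [hσ _ (by rw [pow_mul, hz.pow_eq_one, one_pow]), pow_eq_pow_mod m hz.pow_eq_one,
      pow_eq_pow_mod m' hz.pow_eq_one] at h1
    exact (hz.pow_inj (Nat.mod_lt _ (pow_pos hp.out.pos k)) (Nat.mod_lt _ (pow_pos hp.out.pos k)) h1).symm
  have h2 := hχσ _ (isCharacter_comp hχ (Subgroup.zpowers x).subtype) ⟨x, Subgroup.mem_zpowers x⟩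
  simp only [Function.comp_apply, Subgroup.coe_subtype, SubgroupClass.coe_pow] at h2
  rw [hfixall _ (hval x)] at h2
  rw [h2]
  congr 1
  exact pow_eq_pow_iff_modEq.2 (hk ▸ (hm1.symm.trans hmm.symm))

end CfsgLib.BlockA.SchurBound
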