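import Cfsg.Agent.Lib.Coprime.Sylow
import Cfsg.Agent.Lib.BlockA.SchurBound
import Cfsg.Agent.Lib.BlockA.Galois
import Cfsg.Agent.Lib.BlockA.PrincipalType
import Cfsg.Agent.Lib.BlockB.PSolvableCentralizer
import Cfsg.Agent.Lib.Char.Linear
import Cfsg.Agent.Lib.Clifford.CyclicGlauberman
import Cfsg.Agent.Lib.Clifford.Correspondence
import Cfsg.Agent.Lib.Clifford.ExtensionDet
import Cfsg.Agent.Lib.Comp.Subnormal
import Cfsg.Agent.Lib.Solvable.PCore
import Cfsg.Agent.Lib.Solvable.SchurZassenhaus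

/-! The bound on the index of the `p`-core of a `p`-solvable linear group. -/

set_option autoImplicit false
set_option linter.unusedSectionVars false
set_option maxHeartbeats 1000000

namespace CfsgLib.BlockA.CoreIndexBound

open Cfsg CfsgLib.Char
open scoped ComplexConjugate

universe u

section Coprime

variable {H : Type u} [Group H] [Fintype H] {K : Subgroup H} [hK : K.Normal] [Fintype K]
  (hcop : (Nat.card K).Coprime K.index)

/-- The canonical extension over the inertia group is fixed by power maps fixing `K`. -/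
theorem exists_fixed_extension (hcop : (Nat.card K).Coprime K.index) {θ : K → ℂ}
    (hθ : IsIrrCharacter K θ) (hinv : ∀ g : H, CfsgLib.Clifford.conjFn g θ = θ) :
    ∃ χ : H → ℂ, IsIrrCharacter H χ ∧ (∀ m : K, χ m = θ m) ∧
      ∀ k : ℕ, k.Coprime (Nat.card H) → k ≡ 1 [MOD Nat.card K] → ∀ g, χ (g ^ k) = χ g := by
  obtain ⟨Θ, hΘ, hΘK⟩ := CfsgLib.Clifford.ExtendCoprime.exists_extension K hcop hθ
    fun g m => congrFun (hinv g) m
  obtain ⟨n, ρ, hρ, rfl⟩ := hθ
  obtain ⟨σ, hσ, -⟩ := CfsgLib.Clifford.exists_rep_extension_top ρ (irr_isCharacter hΘ) hΘK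
  let lam : K →* ℂˣ := (Units.map LinearMap.det).comp (CfsgLib.Clifford.repUnits ρ)
  have hlam : ∀ m, (lam m : ℂ) = LinearMap.det (ρ m) := fun m => rfl
  obtain ⟨δ, -, hδK⟩ := CfsgLib.Clifford.det_extension ρ σ hσ
  have hlaminv : ∀ (g : H) (m : K), lam (CfsgLib.Clifford.conjN g m) = lam m := fun g m => by
    have e : ∀ m : K, lam m = δ m := fun m => Units.ext (by rw [hlam, hδK])
    rw [e, e, show ((CfsgLib.Clifford.conjN g m : K) : H) = g * m * g⁻¹ by simp, map_mul, map_mul,
      map_inv, mul_comm (δ g), mul_inv_cancel_right]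
  have hord : orderOf lam ∣ Nat.card K := CfsgLib.Clifford.orderOf_dvd_natCard lam
  obtain ⟨μ, hμ, hμo, -⟩ := CfsgLib.Clifford.exists_linear_extension lam hlaminv
    ((hcop.coprime_dvd_left hord).symm)
  have hd := CfsgLib.Char.degree_dvd_card ρ
  rw [Module.finrank_fin_fun] at hd
  obtain ⟨χ, ⟨hχ, hχK, hχd⟩, huniq⟩ := CfsgLib.Clifford.existsUnique_extension_det ρ
    ((hcop.coprime_dvd_left hd).symm) σ hσ μ (fun m => by rw [hμ]; exact hlam m)
  refine ⟨χ, hχ, hχK, fun k hk hk1 g => ?_⟩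
  have h : (fun x => χ (x ^ k)) = χ := by
    refine huniq _ ⟨CfsgLib.BlockA.isIrrCharacter_comp_pow hk hχ, fun m => ?_, ?_⟩
    · show χ ((m : H) ^ k) = _
      rw [← SubgroupClass.coe_pow, hχK]
      congr 1
      rw [← pow_mod_natCard m k, hk1, pow_mod_natCard, pow_one]
    · funext x
      rw [CfsgLib.Clifford.CyclicGlauberman.detChar_comp_pow hk hχ x, hχd]
      show ((μ x : ℂ)) ^ k = (μ x : ℂ)
      rw [← Units.val_pow_eq_pow_val]
      congr 1
      rw [← MonoidHom.pow_apply]
      have hone : μ ^ k = μ ^ 1 := by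
        rw [← pow_mod_orderOf μ k, ← pow_mod_orderOf μ 1, hμo]
        exact congrArg _ (hk1.of_dvd hord)
      rw [hone, pow_one]
  exact congrFun h g

/-- Induction commutes with power maps. -/
theorem indFun_pow_apply {k : ℕ} (hk : k.Coprime (Nat.card H)) (A : Subgroup H) (f : A → ℂ)
    (hf : ∀ a : A, f (a ^ k) = f a) (g : H) : indFun A f (g ^ k) = indFun A f g := by
  simp only [indFun_def]
  congr 1
  refine Finset.sum_congr rfl fun x _ => ?_
  have hc : x⁻¹ * g ^ k * x = (x⁻¹ * g * x) ^ k := by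
    have := conj_pow (i := k) (a := x⁻¹) (b := g)
    simpa using this.symm
  rw [hc]
  by_cases h : x⁻¹ * g * x ∈ A
  · rw [extendByZero_of_mem _ h, extendByZero_of_mem _ (pow_mem h k)]
    exact hf ⟨_, h⟩
  · rw [extendByZero_of_not_mem _ h, extendByZero_of_not_mem _
      (fun h' => h ((CfsgLib.BlockA.pow_mem_iff_of_coprime hk A _).1 h'))]

open scoped Classical in
/-- A fixed character over a single orbit. -/
theorem exists_orbit_char (hcop : (Nat.card K).Coprime K.index) [Fintype (IrrCharacter K)]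
    (θ : IrrCharacter K) :
    ∃ Ψ : H → ℂ, IsCharacter H Ψ ∧
      (∀ k : ℕ, k.Coprime (Nat.card H) → k ≡ 1 [MOD Nat.card K] → ∀ g, Ψ (g ^ k) = Ψ g) ∧
      ∀ m : K, Ψ m = ∑ φ ∈ Finset.univ.filter (fun φ : IrrCharacter K =>
        ∃ x, CfsgLib.Clifford.conjFn x (θ : K → ℂ) = φ), (φ : K → ℂ) m := by
  set T := CfsgLib.Clifford.inertia (θ : K → ℂ) with hT
  have hKT : K ≤ T := CfsgLib.Clifford.le_inertia (irr_isClassFunction θ.2)
  have := Fintype.ofFinite T
  have := Fintype.ofFinite (K.subgroupOf T)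
  let e := Subgroup.subgroupOfEquivOfLe hKT
  have hKc : Nat.card (K.subgroupOf T) = Nat.card K := Nat.card_congr e.toEquiv
  have hcop' : (Nat.card (K.subgroupOf T)).Coprime (K.subgroupOf T).index := by
    rw [hKc]
    exact hcop.coprime_dvd_right (Subgroup.relIndex_dvd_index_of_normal K T)
  obtain ⟨χ, hχ, hχK, hfix⟩ := exists_fixed_extension hcop'
    (θ := (θ : K → ℂ) ∘ e.toMonoidHom) (isIrrCharacter_comp_surjective θ.2 _ e.surjective)
    (fun t => funext fun m => CfsgLib.Clifford.mem_inertia.1 t.2 (e m))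
  refine ⟨indFun T χ, isCharacter_indFun T (irr_isCharacter hχ), fun k hk hk1 g =>
    indFun_pow_apply hk T χ (hfix k (hk.coprime_dvd_right T.card_subgroup_dvd_card)
      (hKc.symm ▸ hk1)) g, fun m => ?_⟩
  have h1 : indFun T χ (m : H) = (Nat.card T : ℂ)⁻¹ *
      ∑ x : H, CfsgLib.Clifford.conjFn x (θ : K → ℂ) m := by
    rw [indFun_def]
    congr 1
    refine Fintype.sum_equiv (Equiv.inv H) _ _ fun x => ?_
    have hm : x⁻¹ * m * x ∈ K := hK.conj_mem' _ m.2 x
    rw [extendByZero_of_mem _ (hKT hm)]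
    rw [show χ ⟨_, hKT hm⟩ = (θ : K → ℂ) ⟨_, hm⟩ from hχK ⟨⟨_, hKT hm⟩, hm⟩]
    rw [CfsgLib.Clifford.conjFn_apply]
    refine congrArg (θ : K → ℂ) (Subtype.ext ?_)
    show x⁻¹ * (m : H) * x = x⁻¹ * (m : H) * x⁻¹⁻¹
    rw [inv_inv]
  rw [h1]
  let f : H → IrrCharacter K := fun x =>
    ⟨_, CfsgLib.Clifford.isIrrCharacter_conjFn θ.2 x⟩
  set O := Finset.univ.filter (fun φ : IrrCharacter K =>
    ∃ x, CfsgLib.Clifford.conjFn x (θ : K → ℂ) = φ) with hO
  have hmaps : ∀ x ∈ (Finset.univ : Finset H), f x ∈ O := fun x _ => by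
    rw [hO, Finset.mem_filter]
    exact ⟨Finset.mem_univ _, x, rfl⟩
  rw [← Finset.sum_fiberwise_of_maps_to hmaps, Finset.mul_sum]
  refine Finset.sum_congr rfl fun φ hφ => ?_
  obtain ⟨x₀, hx₀⟩ := (Finset.mem_filter.1 hφ).2
  have hcard : (Finset.univ.filter fun x => f x = φ).card = Nat.card T := by
    rw [Nat.card_eq_fintype_card, ← Finset.card_univ]
    symm
    refine Finset.card_bij' (fun t _ => (t : H) * x₀) (fun x hx => ⟨x * x₀⁻¹, ?_⟩) ?_ ?_ ?_ ?_
    · rw [CfsgLib.Clifford.mem_inertia_iff_conjFn]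
      have h : CfsgLib.Clifford.conjFn x (θ : K → ℂ) = φ :=
        congrArg Subtype.val (Finset.mem_filter.1 hx).2
      rw [← hx₀] at h
      have := congrArg (CfsgLib.Clifford.conjFn x₀⁻¹) h
      rwa [CfsgLib.Clifford.conjFn_conjFn, CfsgLib.Clifford.conjFn_conjFn, mul_inv_cancel,
        CfsgLib.Clifford.conjFn_one] at this
    · intro t _
      refine Finset.mem_filter.2 ⟨Finset.mem_univ _, Subtype.ext ?_⟩
      show CfsgLib.Clifford.conjFn ((t : H) * x₀) (θ : K → ℂ) = φ
      rw [← CfsgLib.Clifford.conjFn_conjFn, CfsgLib.Clifford.mem_inertia_iff_conjFn.1 t.2, hx₀]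
    · exact fun _ _ => Finset.mem_univ _
    · intro t _
      exact Subtype.ext (mul_inv_cancel_right _ _)
    · intro x _
      exact inv_mul_cancel_right _ _
  rw [Finset.sum_congr rfl (g := fun _ => (φ : K → ℂ) m) (fun x hx => by
    rw [← (Finset.mem_filter.1 hx).2]), Finset.sum_const, hcard, nsmul_eq_mul,
    inv_mul_cancel_left₀ (Nat.cast_ne_zero.2 Nat.card_pos.ne')]

/-- A fixed character with prescribed invariant multiplicities. -/
theorem exists_fixed_char (hcop : (Nat.card K).Coprime K.index) [Fintype (IrrCharacter K)]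
    (m : IrrCharacter K → ℕ)
    (hm : ∀ θ φ : IrrCharacter K, (∃ x, CfsgLib.Clifford.conjFn x (θ : K → ℂ) = φ) → m φ = m θ) :
    ∃ Ψ : H → ℂ, IsCharacter H Ψ ∧
      (∀ k : ℕ, k.Coprime (Nat.card H) → k ≡ 1 [MOD Nat.card K] → ∀ g, Ψ (g ^ k) = Ψ g) ∧
      ∀ a : K, Ψ a = ∑ θ : IrrCharacter K, (m θ : ℂ) * (θ : K → ℂ) a := by
  classical
  suffices h : ∀ n, ∀ S : Finset (IrrCharacter K), S.card ≤ n →
      (∀ θ φ : IrrCharacter K, (∃ x, CfsgLib.Clifford.conjFn x (θ : K → ℂ) = φ) → θ ∈ S → φ ∈ S) →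
      ∃ Ψ : H → ℂ, IsCharacter H Ψ ∧
        (∀ k : ℕ, k.Coprime (Nat.card H) → k ≡ 1 [MOD Nat.card K] → ∀ g, Ψ (g ^ k) = Ψ g) ∧
        ∀ a : K, Ψ a = ∑ θ ∈ S, (m θ : ℂ) * (θ : K → ℂ) a from
    h _ Finset.univ le_rfl fun _ _ _ _ => Finset.mem_univ _
  intro n
  induction n with
  | zero =>
    intro S hS _
    rw [Finset.card_eq_zero.1 (Nat.le_zero.1 hS)]
    exact ⟨0, isCharacter_zero, fun _ _ _ _ => rfl, fun a => by simp⟩
  | succ n ih =>
    intro S hS hinv
    rcases S.eq_empty_or_nonempty with rfl | ⟨θ, hθ⟩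
    · exact ⟨0, isCharacter_zero, fun _ _ _ _ => rfl, fun a => by simp⟩
    obtain ⟨Ψ₁, h1, h1k, h1r⟩ := exists_orbit_char hcop θ
    set O := Finset.univ.filter (fun φ : IrrCharacter K =>
      ∃ x, CfsgLib.Clifford.conjFn x (θ : K → ℂ) = φ) with hO
    have hθO : θ ∈ O := Finset.mem_filter.2
      ⟨Finset.mem_univ _, 1, CfsgLib.Clifford.conjFn_one _⟩
    have hOS : O ⊆ S := fun φ hφ => hinv θ φ (Finset.mem_filter.1 hφ).2 hθ
    have hlt : (S \ O).card < S.card :=
      Finset.card_lt_card (Finset.sdiff_ssubset hOS ⟨θ, hθO⟩)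
    obtain ⟨Ψ₂, h2, h2k, h2r⟩ := ih (S \ O) (by omega) fun α β hαβ hα => by
      rw [Finset.mem_sdiff] at hα ⊢
      refine ⟨hinv α β hαβ hα.1, fun hβ => hα.2 (Finset.mem_filter.2 ⟨Finset.mem_univ _, ?_⟩)⟩
      obtain ⟨y, hy⟩ := (Finset.mem_filter.1 hβ).2
      obtain ⟨x, hx⟩ := hαβ
      refine ⟨y * x⁻¹, ?_⟩
      rw [← CfsgLib.Clifford.conjFn_conjFn, hy, ← hx, CfsgLib.Clifford.conjFn_conjFn,
        mul_inv_cancel, CfsgLib.Clifford.conjFn_one]
    refine ⟨m θ • Ψ₁ + Ψ₂, isCharacter_add (isCharacter_nsmul h1 _) h2, fun k hk hk1 g => ?_,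
      fun a => ?_⟩
    · simp only [Pi.add_apply, Pi.smul_apply, h1k k hk hk1, h2k k hk hk1]
    · show m θ • Ψ₁ (a : H) + Ψ₂ (a : H) = _
      rw [nsmul_eq_mul, h1r, h2r, Finset.mul_sum]
      rw [← Finset.sum_sdiff hOS, add_comm]
      congr 1
      refine Finset.sum_congr rfl fun φ hφ => ?_
      rw [hm θ φ (Finset.mem_filter.1 hφ).2]

/-- The coprime action bound. -/
theorem coprime_bound {p : ℕ} [hp : Fact p.Prime] (hcop : (Nat.card K).Coprime K.index)
    {χ : H → ℂ} (hχ : IsCharacter H χ) (hfaith : ∀ m : K, χ m = χ 1 → m = 1) {n : ℕ}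
    (hn : χ 1 = n) {A : Subgroup H} (hA : IsPGroup p A) (hAK : (Nat.card A).Coprime (Nat.card K)) :
    ((Subgroup.centralizer (K : Set H)).relIndex A).factorization p ≤
      ∑ i ∈ Finset.range (n + 1), n / ((p - 1) * p ^ i) := by
  classical
  have := Fintype.ofFinite (IrrCharacter K)
  choose m hm using fun θ : IrrCharacter K =>
    classInner_isCharacter_nat (isCharacter_restrict hχ K) (irr_isCharacter θ.2)
  have hminv : ∀ θ φ : IrrCharacter K,
      (∃ x, CfsgLib.Clifford.conjFn x (θ : K → ℂ) = φ) → m φ = m θ := fun θ φ ⟨x, hx⟩ => by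
    have e : classInner (fun a : K => χ a) (φ : K → ℂ) = classInner (fun a : K => χ a) (θ : K → ℂ) := by
      rw [classInner_def, classInner_def]
      congr 1
      refine Fintype.sum_equiv
        ⟨CfsgLib.Clifford.conjN x, CfsgLib.Clifford.conjN x⁻¹,
          fun a => Subtype.ext (by simp [mul_assoc]), fun a => Subtype.ext (by simp [mul_assoc])⟩
        _ _ fun a => ?_
      rw [← hx, CfsgLib.Clifford.conjFn_apply]
      show _ = χ ((CfsgLib.Clifford.conjN x a : K) : H) * _
      rw [CfsgLib.Clifford.coe_conjN, isCharacter_isClassFunction hχ (a : H) x]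
      rfl
    rw [hm, hm] at e
    exact_mod_cast e
  obtain ⟨Ψ, hΨ, hΨk, hΨr⟩ := exists_fixed_char hcop m hminv
  have hres : ∀ a : K, Ψ a = χ a := fun a => by
    rw [hΨr, classFunction_apply_eq_sum
      (isCharacter_isClassFunction (isCharacter_restrict hχ K)) a]
    exact Finset.sum_congr rfl fun θ _ => by rw [hm]
  have hΨ1 : Ψ 1 = n := by
    rw [show (1 : H) = ((1 : K) : H) from rfl, hres]; simpa using hn
  obtain ⟨d, σ, hσ⟩ := hΨ
  -- the kernel
  have hker : ∀ g, σ g = 1 ↔ Ψ g = Ψ 1 := fun g => by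
    rw [← hσ, ← CfsgLib.Char.mem_ker_iff_char, MonoidHom.mem_ker]
  let σA : Representation ℂ A (Fin d → ℂ) := σ.comp A.subtype
  let W : Subgroup A := MonoidHom.ker σA
  let Φ : A ⧸ W → ℂ := (CfsgLib.Char.liftRep W σA fun a ha => ha).character
  have hΦ : ∀ a : A, Φ (a : A ⧸ W) = Ψ (a : H) := fun a => congrFun hσ (a : H)
  have := Fintype.ofFinite (A ⧸ W)
  have hbound := CfsgLib.BlockA.SchurBound.schur_bound (p := p) (hA.to_quotient W)
    (χ := Φ) ⟨d, _, rfl⟩ (n := n) ?_ ?_ ?_
  · refine le_trans ?_ hbound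
    have hle : W ≤ (Subgroup.centralizer (K : Set H)).subgroupOf A := by
      intro a ha
      rw [Subgroup.mem_subgroupOf, Subgroup.mem_centralizer_iff]
      intro c hc
      have ha1 : σ (a : H) = 1 := ha
      have hmem : (a : H) * c * (a : H)⁻¹ * c⁻¹ ∈ K :=
        K.mul_mem (hK.conj_mem c hc a) (K.inv_mem hc)
      have h1 : σ ((a : H) * c * (a : H)⁻¹ * c⁻¹) = 1 := by
        have hai : σ (a : H)⁻¹ = 1 := by
          have : σ (a : H) * σ (a : H)⁻¹ = 1 := by rw [← map_mul, mul_inv_cancel, map_one]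
          rwa [ha1, one_mul] at this
        rw [map_mul, map_mul, map_mul, ha1, hai, one_mul, mul_one, ← map_mul, mul_inv_cancel,
          map_one]
      have h2 := hfaith ⟨_, hmem⟩ (by
        have h3 := (hker _).1 h1
        rw [hres ⟨_, hmem⟩, hΨ1, ← hn] at h3
        exact h3)
      have h4 : (a : H) * c * (a : H)⁻¹ * c⁻¹ = 1 := congrArg Subtype.val h2
      rw [mul_inv_eq_one, mul_inv_eq_iff_eq_mul] at h4
      exact h4.symm
    rw [← Subgroup.index_eq_card]
    exact (Nat.factorization_le_iff_dvd Subgroup.index_ne_zero_of_finite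
      Subgroup.index_ne_zero_of_finite).2 (Subgroup.index_dvd_of_le hle) p
  · intro x hx
    obtain ⟨a, rfl⟩ := QuotientGroup.mk_surjective x
    rw [hΦ, show (1 : A ⧸ W) = ((1 : A) : A ⧸ W) from rfl, hΦ] at hx
    exact (QuotientGroup.eq_one_iff a).2 ((hker _).2 (by simpa using hx))
  · intro x i hi
    obtain ⟨a, rfl⟩ := QuotientGroup.mk_surjective x
    rw [← QuotientGroup.mk_pow, hΦ, hΦ, SubgroupClass.coe_pow]
    obtain ⟨l, hl⟩ := IsPGroup.iff_orderOf.1 hA a
    have ho : (p ^ l).Coprime (Nat.card K) :=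
      Nat.Coprime.coprime_dvd_left (hl ▸ orderOf_dvd_natCard a) hAK
    have hA' : p ^ l ∣ K.index := by
      have h1 : p ^ l ∣ Nat.card K * K.index := by
        rw [K.card_mul_index, ← hl, ← Subgroup.orderOf_coe]
        exact orderOf_dvd_natCard _
      exact ho.dvd_of_dvd_mul_left h1
    rcases Nat.eq_zero_or_pos l with rfl | hl0
    · rw [pow_zero, ← Subgroup.orderOf_coe, orderOf_eq_one_iff] at hl
      rw [hl, one_pow]
    -- repair `k` to be prime to the whole order
    have hpd : p ∣ K.index := (dvd_pow_self p hl0.ne').trans hA'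
    set q := K.index / p ^ K.index.factorization p
    have hco : (Nat.card K * q).Coprime (p ^ K.index.factorization p) := Nat.Coprime.mul_left
      (hcop.coprime_dvd_right (Nat.ordProj_dvd _ p))
      (Nat.Coprime.pow_right _ (Nat.coprime_ordCompl hp.out Subgroup.index_ne_zero_of_finite).symm)
    obtain ⟨k', hk1', hk2'⟩ := Nat.chineseRemainder hco 1 i
    have hcopH : k'.Coprime (Nat.card H) := by
      rw [← K.card_mul_index, ← Nat.ordProj_mul_ordCompl_eq_self K.index p, mul_left_comm]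
      refine Nat.Coprime.mul_right (Nat.Coprime.pow_right _ ?_) ?_
      · have hj : k' ≡ i [MOD p] := hk2'.of_dvd (dvd_pow_self p
          (hp.out.factorization_pos_of_dvd Subgroup.index_ne_zero_of_finite hpd).ne')
        rw [Nat.Coprime, hj.gcd_eq]
        exact hi
      · rw [Nat.Coprime, hk1'.gcd_eq]
        exact Nat.gcd_one_left _
    have hpow : (a : H) ^ k' = (a : H) ^ i := by
      refine pow_eq_pow_iff_modEq.2 ?_
      rw [Subgroup.orderOf_coe, hl]
      exact hk2'.of_dvd ((Nat.pow_dvd_pow p ((hp.out.pow_dvd_iff_le_factorization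
        Subgroup.index_ne_zero_of_finite).1 hA')))
    rw [← hpow]
    exact hΨk k' hcopH (hk1'.of_dvd (dvd_mul_right _ _)) _
  · rw [show (1 : A ⧸ W) = ((1 : A) : A ⧸ W) from rfl, hΦ]
    simpa using hΨ1

end Coprime

/-- **The index of the `p`-core of a `p`-solvable linear group.** -/
theorem pCore_index_bound {G : Type u} [Group G] [Finite G] {p : ℕ} [hp : Fact p.Prime]
    (hsolv : IsPSolvable p G) {χ : G → ℂ} (hχ : IsCharacter G χ)
    (hfaith : ∀ g : G, χ g = χ 1 → g = 1) {n : ℕ} (hn : χ 1 = n) :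
    ((pCore p G).index).factorization p ≤ ∑ i ∈ Finset.range (n + 1), n / ((p - 1) * p ^ i) := by
  classical
  set O := pCore p G with hO
  haveI hOn : O.Normal := CfsgLib.Solvable.pCore_normal p G
  have hOp : IsPGroup p O := CfsgLib.Solvable.pCore_isPGroup p
  set π := QuotientGroup.mk' O with hπ
  have hπs : Function.Surjective π := QuotientGroup.mk'_surjective O
  set Kb := pPrimeCore p (G ⧸ O) with hKb
  haveI hKbn : Kb.Normal := CfsgLib.Solvable.pPrimeCore_normal p _
  have hKbc : (Nat.card Kb).Coprime p := CfsgLib.Comp.coprime_card_pPrimeCore p _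
  have hCK : Subgroup.centralizer (Kb : Set (G ⧸ O)) ≤ Kb :=
    CfsgLib.BlockB.centralizer_pPrimeCore_le_of_isPSolvable
      (CfsgLib.BlockA.isPSolvable_of_surjective π hπs hsolv)
      (CfsgLib.Solvable.pCore_quotient_eq_bot p)
  set L := Kb.comap π with hL
  haveI hLn : L.Normal := Subgroup.Normal.comap hKbn π
  have hOL : O ≤ L := fun x hx => by
    rw [hL, Subgroup.mem_comap, hπ, QuotientGroup.mk'_apply, (QuotientGroup.eq_one_iff x).2 hx]
    exact one_mem _
  set O' := O.subgroupOf L with hO'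
  have hO'p : IsPGroup p O' := hOp.comap_subtype
  have hO'i : O'.index = Nat.card Kb := by
    show O.relIndex L = _
    rw [← Subgroup.relIndex_bot_left Kb, ← Subgroup.map_comap_eq_self_of_surjective hπs Kb,
      ← Subgroup.relIndex_comap, MonoidHom.comap_bot, hπ, QuotientGroup.ker_mk']
  have hcop : (Nat.card O').Coprime O'.index := by
    obtain ⟨j, hj⟩ := IsPGroup.iff_card.1 hO'p
    rw [hj, hO'i]
    exact Nat.Coprime.pow_left _ hKbc.symm
  obtain ⟨K₀, hK₀⟩ := Subgroup.exists_right_complement'_of_coprime hcop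
  set K := K₀.map L.subtype with hKdef
  have hKcard : Nat.card K = Nat.card Kb := by
    rw [hKdef, Subgroup.card_map_of_injective L.subtype_injective,
      CfsgLib.Solvable.card_eq_index_of_isComplement' hK₀, hO'i]
  have hKp : (Nat.card K).Coprime p := hKcard ▸ hKbc
  have hKL : K ≤ L := Subgroup.map_subtype_le _
  have hKO : ∀ y : L, ∃ c ∈ O, ∃ k ∈ K, (y : G) = c * k := fun y => by
    obtain ⟨⟨a, b⟩, hab, -⟩ := (Subgroup.isComplement'_def.1 hK₀).existsUnique y
    exact ⟨((a : L) : G), Subgroup.mem_subgroupOf.1 a.2, ((b : L) : G), ⟨_, b.2, rfl⟩,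
      (congrArg Subtype.val hab).symm⟩
  set N := Subgroup.normalizer (K : Set G) with hN
  have hNtop : ∀ g : G, ∃ c ∈ O, g * c ∈ N := by
    intro g
    have hc2 : Subgroup.IsComplement' O' (K₀.map (MulAut.conjNormal (H := L) g).toMonoidHom) := by
      refine CfsgLib.Solvable.isComplement'_of_card_eq_index hcop ?_
      exact (Nat.card_congr (Subgroup.equivMapOfInjective K₀
        (MulAut.conjNormal (H := L) g).toMonoidHom (MulEquiv.injective _)).toEquiv).symm.trans
        (CfsgLib.Solvable.card_eq_index_of_isComplement' hK₀)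
    have hs : Group.IsSolvable O' := by
      have := hO'p.isNilpotent
      infer_instance
    obtain ⟨l, hl, hle⟩ := CfsgLib.Solvable.exists_mem_conj_eq_of_isComplement' O' hcop (Or.inl hs)
      hK₀ hc2
    -- `g⁻¹ l` normalizes `K`
    refine ⟨g⁻¹ * ((l : L) : G)⁻¹ * g, ?_, ?_⟩
    · simpa using hOn.conj_mem _ (O.inv_mem (Subgroup.mem_subgroupOf.1 hl)) g⁻¹
    rw [show g * (g⁻¹ * ((l : L) : G)⁻¹ * g) = ((l : L) : G)⁻¹ * g by group, hN,
      CfsgLib.Coprime.mem_normalizer_iff_map_conj]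
    have h1 : (K.map (MulAut.conj g).toMonoidHom) = K.map (MulAut.conj ((l : L) : G)).toMonoidHom := by
      have h2 : (K₀.map (MulAut.conj (l : L)).toMonoidHom).map L.subtype =
          (K₀.map (MulAut.conjNormal (H := L) g).toMonoidHom).map L.subtype :=
        congrArg (Subgroup.map L.subtype) hle
      rw [Subgroup.map_map, Subgroup.map_map] at h2
      rw [hKdef, Subgroup.map_map, Subgroup.map_map]
      refine Eq.trans (Eq.trans ?_ h2.symm) ?_
      · exact congrArg (fun f => Subgroup.map f K₀) (MonoidHom.ext fun z => by simp)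
      · exact congrArg (fun f => Subgroup.map f K₀) (MonoidHom.ext fun z => by simp)
    rw [show (MulAut.conj (((l : L) : G)⁻¹ * g)).toMonoidHom =
        (MulAut.conj ((l : L) : G)⁻¹).toMonoidHom.comp (MulAut.conj g).toMonoidHom by
      ext z; simp [mul_assoc], ← Subgroup.map_map, h1, Subgroup.map_map,
      show (MulAut.conj ((l : L) : G)⁻¹).toMonoidHom.comp (MulAut.conj ((l : L) : G)).toMonoidHom =
        MonoidHom.id G by ext z; simp [mul_assoc], Subgroup.map_id]
  set K' := K.subgroupOf N with hK'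
  haveI hK'n : K'.Normal := Subgroup.normal_in_normalizer
  obtain ⟨S⟩ := (inferInstance : Nonempty (Sylow p (N ⧸ K')))
  set H := (S : Subgroup (N ⧸ K')).comap (QuotientGroup.mk' K') with hH
  have hK'H : K' ≤ H := fun x hx => by
    rw [hH, Subgroup.mem_comap, QuotientGroup.mk'_apply, (QuotientGroup.eq_one_iff x).2 hx]
    exact one_mem _
  have hHi : H.index = (S : Subgroup (N ⧸ K')).index :=
    Subgroup.index_comap_of_surjective _ (QuotientGroup.mk'_surjective K')
  set K'' := K'.subgroupOf H with hK''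
  have hK''c : Nat.card K'' = Nat.card K := by
    rw [hK'', Nat.card_congr (Subgroup.subgroupOfEquivOfLe hK'H).toEquiv, hK',
      Nat.card_congr (Subgroup.subgroupOfEquivOfLe (Subgroup.le_normalizer)).toEquiv]
  have hK''i : K''.index = Nat.card (S : Subgroup (N ⧸ K')) := by
    show K'.relIndex H = _
    rw [← Subgroup.relIndex_bot_left (S : Subgroup (N ⧸ K')),
      ← Subgroup.map_comap_eq_self_of_surjective (QuotientGroup.mk'_surjective K')
        (S : Subgroup (N ⧸ K')), ← Subgroup.relIndex_comap, MonoidHom.comap_bot,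
      QuotientGroup.ker_mk']
  obtain ⟨A⟩ := (inferInstance : Nonempty (Sylow p H))
  have := Fintype.ofFinite H
  have := Fintype.ofFinite K''
  have hK''p : (Nat.card K'').Coprime p := hK''c ▸ hKp
  have hb := coprime_bound (K := K'') (p := p) (by
      rw [hK''i, S.card_eq_multiplicity]
      exact Nat.Coprime.pow_right _ hK''p)
    (isCharacter_comp hχ (N.subtype.comp H.subtype))
    (fun m hm => Subtype.ext (Subtype.ext (Subtype.ext (hfaith _ (by simpa using hm)))))
    (n := n) (by simpa using hn) A.isPGroup' (by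
      rw [A.card_eq_multiplicity]
      exact Nat.Coprime.pow_left _ hK''p.symm)
  refine le_trans ?_ hb
  -- count
  set C := (Subgroup.centralizer (K'' : Set H)).subgroupOf (A : Subgroup H) with hC
  have hidx : C.index = (Subgroup.centralizer (K'' : Set H)).relIndex (A : Subgroup H) := rfl
  rw [← hidx]
  set O₁ := O.subgroupOf N with hO₁
  have hO₁p : IsPGroup p O₁ := hOp.comap_subtype
  have hO₁i : O₁.index = O.index := by
    show O.relIndex N = _
    rw [← Subgroup.relIndex_sup_right (H := N) (K := O), show N ⊔ O = ⊤ from ?_,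
      Subgroup.relIndex_top_right]
    refine (Subgroup.eq_top_iff' _).2 fun g => ?_
    obtain ⟨c, hc, hgc⟩ := hNtop g
    have := (N ⊔ O).mul_mem (le_sup_left (b := O) hgc) (le_sup_right (a := N) (O.inv_mem hc))
    simpa using this
  have hCO : Nat.card C ∣ Nat.card O₁ := by
    let f : C →* N := (H.subtype.comp (A : Subgroup H).subtype).comp C.subtype
    have hf : Function.Injective f := fun a b h => by
      exact Subtype.ext (Subtype.ext (Subtype.ext h))
    rw [Nat.card_congr (MonoidHom.ofInjective hf).toEquiv]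
    refine Subgroup.card_dvd_of_le ?_
    rintro _ ⟨a, rfl⟩
    rw [hO₁, Subgroup.mem_subgroupOf, ← QuotientGroup.eq_one_iff]
    set x : G := (((((a : C) : (A : Subgroup H)) : H) : N) : G) with hx
    have hacent := Subgroup.mem_subgroupOf.1 a.2
    have hmem : (π x) ∈ Subgroup.centralizer (Kb : Set (G ⧸ O)) := by
      rw [Subgroup.mem_centralizer_iff]
      intro z hz
      obtain ⟨y, rfl⟩ := hπs z
      obtain ⟨c, hc, k, hk, hyk⟩ := hKO ⟨y, hz⟩
      rw [show (y : G) = c * k from hyk, map_mul,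
        show π c = 1 from (QuotientGroup.eq_one_iff c).2 hc, one_mul, ← map_mul, ← map_mul]
      congr 1
      have hkN : k ∈ N := Subgroup.le_normalizer hk
      have hkH : (⟨k, hkN⟩ : N) ∈ H := hK'H (Subgroup.mem_subgroupOf.2 hk)
      have := Subgroup.mem_centralizer_iff.1 hacent ⟨⟨k, hkN⟩, hkH⟩
        (Subgroup.mem_subgroupOf.2 (Subgroup.mem_subgroupOf.2 hk))
      exact congrArg (fun w : H => ((w : N) : G)) this
    have hKmem := hCK hmem
    obtain ⟨l, hl⟩ := IsPGroup.iff_orderOf.1 A.isPGroup' (a : (A : Subgroup H))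
    have ho : orderOf x = p ^ l := by
      rw [hx, Subgroup.orderOf_coe, Subgroup.orderOf_coe, Subgroup.orderOf_coe, hl]
    have h1 : orderOf (π x) ∣ p ^ l := ho ▸ orderOf_map_dvd π x
    have h2 : orderOf (π x) ∣ Nat.card Kb := by
      have := orderOf_dvd_natCard (⟨π x, hKmem⟩ : Kb)
      rwa [Subgroup.orderOf_mk] at this
    exact orderOf_eq_one_iff.1
      (Nat.eq_one_of_dvd_coprimes (Nat.Coprime.pow_left l hKbc.symm) h1 h2)
  have hA : (Nat.card (A : Subgroup H)).factorization p = (Nat.card N).factorization p := by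
    rw [A.card_eq_multiplicity, hp.out.factorization_pow, Finsupp.single_eq_same, ← H.card_mul_index,
      Nat.factorization_mul Nat.card_pos.ne' Subgroup.index_ne_zero_of_finite, Finsupp.add_apply,
      Nat.factorization_eq_zero_of_not_dvd (show ¬ p ∣ H.index by rw [hHi]; exact S.not_dvd_index),
      add_zero]
  rw [← C.card_mul_index, ← O₁.card_mul_index,
    Nat.factorization_mul Nat.card_pos.ne' Subgroup.index_ne_zero_of_finite,
    Nat.factorization_mul Nat.card_pos.ne' Subgroup.index_ne_zero_of_finite, Finsupp.add_apply,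
    Finsupp.add_apply, hO₁i] at hA
  have h3 := (Nat.factorization_le_iff_dvd Nat.card_pos.ne' Nat.card_pos.ne').2 hCO p
  omega

end CfsgLib.BlockA.CoreIndexBound
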