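import Cfsg.Agent.Lib.BlockA.ProjLattice
import Cfsg.Agent.Lib.BlockA.BlockDim

/-!
The dimension of the corner at an idempotent of the residue group algebra: the sum of the squares
of its multiplicities.
-/

set_option autoImplicit false
set_option linter.unusedSectionVars false

namespace CfsgLib.BlockA.CornerDim

open Cfsg CfsgLib.Block CfsgLib.BlockA CfsgLib.BlockB CfsgLib.BlockB.StarTrace
  CfsgLib.BlockB.StarLift CfsgLib.BlockA.ProjLattice MonoidAlgebra Module
open scoped ComplexConjugate

universe u

variable {G : Type u} [Group G] [Fintype G] {p : ℕ} [hp : Fact p.Prime] {M : Ideal AlgInt}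
  [M.IsPrime]

open Classical in
theorem card_conj_eq (g v : G) :
    ((Finset.univ.filter fun h : G => h⁻¹ * g * h = v).card : ℂ) =
      if IsConj g v then (Nat.card (Subgroup.centralizer ({g} : Set G)) : ℂ) else 0 := by
  split_ifs with hc
  · obtain ⟨a, ha⟩ := isConj_iff.1 hc
    rw [Nat.card_eq_fintype_card, Nat.cast_inj, ← Fintype.card_subtype]
    refine Fintype.card_congr
      { toFun := fun h => ⟨h.1 * a, Subgroup.mem_centralizer_singleton_iff.2 ?_⟩
        invFun := fun x => ⟨(x : G) * a⁻¹, ?_⟩
        left_inv := fun h => Subtype.ext (by simp)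
        right_inv := fun x => Subtype.ext (by simp) }
    · have h1 := h.2
      calc h.1 * a * g = h.1 * (a * g * a⁻¹) * a := by group
        _ = h.1 * (h.1⁻¹ * g * h.1) * a := by rw [ha, h1]
        _ = g * (h.1 * a) := by group
    · have h1 : (x : G) * g = g * x := Subgroup.mem_centralizer_singleton_iff.1 x.2
      rw [← ha]
      calc ((x : G) * a⁻¹)⁻¹ * g * ((x : G) * a⁻¹) = a * (x : G)⁻¹ * (g * x) * a⁻¹ := by group
        _ = a * g * a⁻¹ := by rw [← h1]; group
  · rw [Nat.cast_eq_zero, Finset.card_eq_zero, Finset.filter_eq_empty_iff]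
    intro h _ he
    exact hc (isConj_iff.2 ⟨h⁻¹, by rw [inv_inv, he]⟩)

/-- **The dimension of a corner.** -/
theorem finrank_corner (hM : IsPModular p M) [Fintype (IrrCharacter G)]
    {j : MonoidAlgebra (kres M) G} (hj : j * j = j) :
    (finrank (kres M) (LinearMap.range (LinearMap.mulLeft (kres M) j ∘ₗ
      LinearMap.mulRight (kres M) j)) : ℂ) = ∑ χ : IrrCharacter G, mult j χ ^ 2 := by
  classical
  obtain ⟨e, he, hre⟩ := exists_idem_lift hM hj
  let E : G → ℂ := fun g => (toC e).coeff g
  let E₀ : MonoidAlgebra ℂ G := toC e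
  let A : Matrix G G ℂ := Matrix.of fun g h => (E₀ * single h 1 * E₀).coeff g
  have hEmem : ∀ g, MemLocalRing M (E g) := fun g => by
    simp only [E, coeff_toC]; exact (e.coeff g).2
  have hA : ∀ g h, MemLocalRing M (A g h) := fun g h => by
    have : A g h = ((e * single h 1 * e).coeff g : lring M) := by
      rw [← coeff_toC, map_mul, map_mul]
      simp only [A, E₀, Matrix.of_apply, toC, mapRingHom_single, map_one]
    rw [this]
    exact ((e * single h 1 * e).coeff g).2
  have hE : E₀ * E₀ = E₀ := by simp only [E₀, ← map_mul, he]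
  have hexpand : ∀ (R : Type) [CommRing R] (a x : MonoidAlgebra R G) (g : G),
      (a * x * a).coeff g = ∑ h, (a * single h 1 * a).coeff g * x.coeff h := by
    intro R _ a x g
    conv_lhs => rw [← MonoidAlgebra.sum_coeff_single x, Finsupp.sum_fintype _ _ (fun _ => by simp),
      Finset.mul_sum, Finset.sum_mul]
    rw [coeff_sum, Finsupp.finsetSum_apply]
    refine Finset.sum_congr rfl fun h _ => ?_
    rw [show single h (x.coeff h) = x.coeff h • single h (1 : R) by
      rw [smul_single, smul_eq_mul, mul_one], mul_smul_comm, smul_mul_assoc]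
    simp [mul_comm]
  have hAA : A * A = A := by
    ext g h
    show ∑ l, (E₀ * single l 1 * E₀).coeff g * (E₀ * single h 1 * E₀).coeff l = _
    rw [← hexpand ℂ E₀]
    show _ = (E₀ * single h 1 * E₀).coeff g
    congr 2
    calc E₀ * (E₀ * single h 1 * E₀) * E₀ = (E₀ * E₀) * single h 1 * (E₀ * E₀) := by
          simp only [mul_assoc]
      _ = _ := by rw [hE]
  let Ar : Matrix G G (kres M) := Matrix.of fun g h => redC M (A g h)
  have hAr : ∀ g h, Ar g h = (j * single h 1 * j).coeff g := by
    intro g h
    have h1 : A g h = ((e * single h 1 * e).coeff g : lring M) := by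
      rw [← coeff_toC, map_mul, map_mul]
      simp only [A, E₀, Matrix.of_apply, toC, mapRingHom_single, map_one]
    simp only [Ar, Matrix.of_apply, h1, redC_coe, ← coeff_redG, map_mul, hre]
    congr 2
    simp [redG, mapRingHom_single]
  have hcomm : Ar.mulVecLin = ((coeffEquiv (kres M) G).toLinearMap ∘ₗ
      (LinearMap.mulLeft (kres M) j ∘ₗ LinearMap.mulRight (kres M) j)) ∘ₗ
        (coeffEquiv (kres M) G).symm.toLinearMap := by
    refine LinearMap.ext fun v => funext fun g => ?_
    show ∑ h, Ar g h * v h = (j * (mkGA v * j)).coeff g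
    rw [← mul_assoc]
    conv_rhs => rw [← MonoidAlgebra.sum_coeff_single (mkGA v),
      Finsupp.sum_fintype _ _ (fun _ => by simp), Finset.mul_sum, Finset.sum_mul]
    rw [coeff_sum, Finsupp.finsetSum_apply]
    refine Finset.sum_congr rfl fun h _ => ?_
    rw [show single h ((mkGA v).coeff h) = (mkGA v).coeff h • single h (1 : kres M) by
      rw [smul_single, smul_eq_mul, mul_one], mul_smul_comm, smul_mul_assoc, hAr]
    simp [mul_comm]
  have h1 : Ar.rank = finrank (kres M) (LinearMap.range (LinearMap.mulLeft (kres M) j ∘ₗ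
      LinearMap.mulRight (kres M) j)) := by
    rw [Matrix.rank, hcomm, LinearMap.range_comp_of_range_eq_top _ (LinearEquiv.range _),
      LinearMap.range_comp, LinearEquiv.finrank_map_eq]
  rw [← h1, rank_red_idem A hA hAA, rank_eq_trace_of_idem A hAA]
  have hdiag : ∀ h, A h h = ∑ u, E u * E (h⁻¹ * u⁻¹ * h) := by
    intro h
    simp only [A, Matrix.of_apply, mul_assoc E₀]
    rw [coeff_mul_eq]
    refine Finset.sum_congr rfl fun u _ => ?_
    rw [coeff_single_mul_apply, one_mul]
    simp only [E, E₀, mul_assoc]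
  have hm : ∀ χ : IrrCharacter G, mult j χ ^ 2 =
      ∑ u, ∑ v, E u * E v * ((χ : G → ℂ) v * conj ((χ : G → ℂ) u⁻¹)) := by
    intro χ
    rw [mult_eq hM he hre χ, tval_eq_sum, pow_two, Finset.sum_mul_sum]
    refine Finset.sum_congr rfl fun u _ => Finset.sum_congr rfl fun v _ => ?_
    rw [irr_conj_eq χ.2, inv_inv]
    simp only [E]
    ring
  simp only [hdiag, hm]
  rw [Finset.sum_comm]
  rw [Finset.sum_comm (s := (Finset.univ : Finset (IrrCharacter G)))]
  refine Finset.sum_congr rfl fun u _ => ?_
  rw [Finset.sum_comm (s := (Finset.univ : Finset (IrrCharacter G)))]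
  rw [← Finset.sum_fiberwise Finset.univ (fun h : G => h⁻¹ * u⁻¹ * h)]
  refine Finset.sum_congr rfl fun v _ => ?_
  rw [Finset.sum_congr rfl fun h hh => by rw [(Finset.mem_filter.1 hh).2], Finset.sum_const,
    nsmul_eq_mul, card_conj_eq, ← Finset.mul_sum, CfsgLib.Char.column_orthogonality]
  by_cases hc : IsConj u⁻¹ v
  · rw [if_pos hc, if_pos hc.symm]
    obtain ⟨a, rfl⟩ := isConj_iff.1 hc
    rw [mul_comm]
    congr 2
    refine Nat.card_congr ?_
    exact
      { toFun := fun x => ⟨a * x * a⁻¹, Subgroup.mem_centralizer_singleton_iff.2 (by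
          have h1 := Subgroup.mem_centralizer_singleton_iff.1 x.2
          calc a * (x : G) * a⁻¹ * (a * u⁻¹ * a⁻¹) = a * ((x : G) * u⁻¹) * a⁻¹ := by group
            _ = _ := by rw [h1]; group)⟩
        invFun := fun x => ⟨a⁻¹ * x * a, Subgroup.mem_centralizer_singleton_iff.2 (by
          have h1 := Subgroup.mem_centralizer_singleton_iff.1 x.2
          calc a⁻¹ * (x : G) * a * u⁻¹ = a⁻¹ * ((x : G) * (a * u⁻¹ * a⁻¹)) * a := by group
            _ = _ := by rw [h1]; group)⟩
        left_inv := fun x => Subtype.ext (by simp [mul_assoc])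
        right_inv := fun x => Subtype.ext (by simp [mul_assoc]) }
  · rw [if_neg hc, if_neg (fun h => hc h.symm)]
    simp

end CfsgLib.BlockA.CornerDim
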