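import Cfsg.Agent.Lib.BlockA.CoverSub
import Cfsg.Agent.Lib.Block.LamZero
import Mathlib.RingTheory.Artinian.Ring
import Mathlib.RingTheory.Finiteness.Basic

/-! Invariant idempotents over a block of a normal subgroup survive the Brauer map at its defect
group; defect groups of covering blocks. -/

set_option autoImplicit false
set_option linter.unusedSectionVars false
set_option maxHeartbeats 1000000

namespace CfsgLib.BlockA

open Cfsg CfsgLib.Block MonoidAlgebra

universe u

variable {G : Type u} [Group G] [Fintype G] {p : ℕ} {M : Ideal AlgInt} [M.IsPrime]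
  {N : Subgroup G} [hN : N.Normal] [Fintype N]

local notation "cen" Q => Subgroup.centralizer ((Q : Subgroup G) : Set G)

/-- Elements invariant under `N` commute with the elements supported on `N`. -/
theorem inclSub_mul_comm {a : MonoidAlgebra (kres M) G} (ha : IsPInv N a)
    (z : MonoidAlgebra (kres M) N) : a * inclSub N z = inclSub N z * a := by
  classical
  ext g
  rw [coeff_mul_eq, coeff_mul_eq]
  refine Fintype.sum_equiv ((Equiv.inv G).trans (Equiv.mulRight g)) _ _ fun x => ?_
  simp only [Equiv.trans_apply, Equiv.inv_apply, Equiv.coe_mulRight]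
  by_cases hx : x⁻¹ * g ∈ N
  · rw [mul_comm]
    congr 1
    conv_rhs => rw [← ha _ hx]
    congr 1
    group
  · rw [coeff_inclSub_of_not_mem _ _ hx, mul_zero, zero_mul]

/-- The component of `a` in a coset. -/
noncomputable def cosetPart (a : MonoidAlgebra (kres M) G) (q : G ⧸ N) :
    MonoidAlgebra (kres M) G :=
  open Classical in mkGA fun x => if (x : G ⧸ N) = q then a.coeff x else 0

theorem sum_cosetPart [Fintype (G ⧸ N)] (a : MonoidAlgebra (kres M) G) :
    ∑ q : G ⧸ N, cosetPart a q = a := by
  classical
  ext x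
  rw [coeff_sum, Finsupp.finsetSum_apply]
  simp [cosetPart]

theorem isPInv_cosetPart {a : MonoidAlgebra (kres M) G} (ha : IsPInv N a) (q : G ⧸ N) :
    IsPInv N (cosetPart a q) := by
  classical
  intro u hu x
  have e : ((u * x * u⁻¹ : G) : G ⧸ N) = (x : G ⧸ N) := by
    rw [QuotientGroup.mk_mul, QuotientGroup.mk_mul, QuotientGroup.mk_inv,
      (QuotientGroup.eq_one_iff u).2 hu]
    simp
  simp only [cosetPart, coeff_mkGA, e, ha u hu x]

theorem coeff_prod_of_coset (l : List (MonoidAlgebra (kres M) G × (G ⧸ N)))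
    (h : ∀ t ∈ l, ∀ x : G, (x : G ⧸ N) ≠ t.2 → t.1.coeff x = 0) {x : G}
    (hx : (x : G ⧸ N) ≠ (l.map Prod.snd).prod) : (l.map Prod.fst).prod.coeff x = 0 := by
  classical
  induction l generalizing x with
  | nil =>
    simp only [List.map_nil, List.prod_nil, MonoidAlgebra.one_def, coeff_single] at hx ⊢
    rw [Finsupp.single_apply, if_neg]
    rintro rfl
    exact hx (by simp)
  | cons t l ih =>
    simp only [List.map_cons, List.prod_cons] at hx ⊢
    rw [coeff_mul_eq]
    refine Finset.sum_eq_zero fun y _ => ?_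
    by_cases hy : (y : G ⧸ N) = t.2
    · rw [ih (fun t' ht' => h t' (List.mem_cons_of_mem _ ht')) (x := y⁻¹ * x) ?_, mul_zero]
      intro e
      apply hx
      rw [← e, ← hy, ← QuotientGroup.mk_mul, mul_inv_cancel_left]
    · rw [h t (List.mem_cons_self ..) y hy, zero_mul]

theorem isPInv_one (X : Subgroup G) : IsPInv X (1 : MonoidAlgebra (kres M) G) :=
  isPInv_of_isClassCoeff (isClassCoeff_center
    (1 : Subalgebra.center (kres M) (MonoidAlgebra (kres M) G))) X

theorem isPInv_prod {X : Subgroup G} :
    ∀ l : List (MonoidAlgebra (kres M) G), (∀ a ∈ l, IsPInv X a) → IsPInv X l.prod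
  | [], _ => by rw [List.prod_nil]; exact isPInv_one X
  | a :: l, h => by
    rw [List.prod_cons]
    exact isPInv_mul (h a (List.mem_cons_self ..))
      (isPInv_prod l fun b hb => h b (List.mem_cons_of_mem _ hb))

theorem mul_eq_self_prod {e : MonoidAlgebra (kres M) G} :
    ∀ l : List (MonoidAlgebra (kres M) G), l ≠ [] → (∀ a ∈ l, a * e = a) → l.prod * e = l.prod
  | [], h, _ => absurd rfl h
  | [a], _, h => by simpa using h a (List.mem_cons_self ..)
  | a :: b :: l, _, h => by
    rw [List.prod_cons, mul_assoc,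
      mul_eq_self_prod (b :: l) (by simp) fun c hc => h c (List.mem_cons_of_mem _ hc)]

variable (hM : IsPModular p M)
include hM

/-- A `p`-subgroup meeting the Brauer image of a block idempotent carries a pair of the block. -/
theorem exists_isBrauerPairOf {H : Type u} [Group H] [Fintype H] {c : Set (IrrCharacter H)}
    (hc : IsPBlock M c) {Q : Subgroup H} (hQ : IsPGroup p Q)
    (h : ∃ x ∈ Subgroup.centralizer (Q : Set H),
      (blkIdem M c : MonoidAlgebra (kres M) H).coeff x ≠ 0) :
    ∃ e : Set (IrrCharacter (Subgroup.centralizer (Q : Set H))), IsBrauerPairOf p M c Q e := by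
  obtain ⟨x, hx, hne⟩ := h
  have hp : IsPInv Q (blkIdem M c : MonoidAlgebra (kres M) H) :=
    isPInv_of_isClassCoeff (isClassCoeff_center _) Q
  set C := Subgroup.centralizer (Q : Set H)
  set z := inclSub C (resSub C (blkIdem M c : MonoidAlgebra (kres M) H)) with hz
  have hs : ∀ y ∉ C, z.coeff y = 0 := fun y hy => coeff_inclSub_of_not_mem _ _ hy
  have hid : z * z = z := by
    rw [hz, ← map_mul, ← resSub_mul hM hQ hp hp, ← MulMemClass.coe_mul, blkIdem_idem hM hc]
  have hinv : IsPInv C z := fun u hu y =>
    inclSub_conj_invariant C (resSub_isClassCoeff C (isClassCoeff_center _)) hu y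
  have h0 : z ≠ 0 := by
    intro h0
    apply hne
    have e := coeff_inclSub_of_mem C (resSub C (blkIdem M c : MonoidAlgebra (kres M) H)) ⟨x, hx⟩
    rw [coeff_resSub, ← hz, h0, MonoidAlgebra.coeff_zero] at e
    exact e.symm
  obtain ⟨e, he, hze⟩ := exists_mul_sIdem hM hs hid hinv h0
  refine ⟨e, (isBrauerPairOf_iff_mul hM ⟨hQ, he⟩ hc).2 ?_⟩
  show sIdem M C e * z = sIdem M C e
  rw [sIdem_mul_comm e hs, hze]

variable {c : Set (IrrCharacter N)} (hc : IsPBlock M c) {Q : Subgroup G} (hQN : Q ≤ N)
  (hQ : IsPGroup p Q)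
  (hbr : ∃ x : N, (x : G) ∈ Subgroup.centralizer (Q : Set G) ∧
    (blkIdem M c : MonoidAlgebra (kres M) N).coeff x ≠ 0)
include hc hQN hQ hbr

/-- Central elements of the block killed by the Brauer map are nilpotent. -/
theorem lam_eq_zero_of_brauer {s : Subalgebra.center (kres M) (MonoidAlgebra (kres M) N)}
    (hse : s * blkIdem M c = s)
    (hs : ∀ x : N, (x : G) ∈ Subgroup.centralizer (Q : Set G) →
      (s : MonoidAlgebra (kres M) N).coeff x = 0) (θ : IrrCharacter N) : lam M θ s = 0 := by
  classical
  by_cases hθ : θ ∈ c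
  swap
  · rw [← hse, map_mul, lam_blkIdem hM hc, if_neg hθ, mul_zero]
  have hcen : ∀ x : N, x ∈ Subgroup.centralizer ((Q.subgroupOf N : Subgroup N) : Set N) →
      (x : G) ∈ Subgroup.centralizer (Q : Set G) := fun x hx => Subgroup.mem_centralizer_iff.2
    fun q hq => congrArg Subtype.val (Subgroup.mem_centralizer_iff.1 hx ⟨q, hQN hq⟩ hq)
  obtain ⟨x, hx, hne⟩ := hbr
  have hx' : x ∈ Subgroup.centralizer ((Q.subgroupOf N : Subgroup N) : Set N) :=
    Subgroup.mem_centralizer_iff.2 fun q hq => Subtype.ext
      (Subgroup.mem_centralizer_iff.1 hx (q : G) hq)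
  obtain ⟨e, he⟩ := exists_isBrauerPairOf hM hc
    (Q := Q.subgroupOf N) hQ.comap_subtype ⟨x, hx', hne⟩
  obtain ⟨ξ, hξ⟩ := isPBlock_nonempty he.1.2
  rw [← pairVal_eq_lam hM he hξ hθ s, pairVal_eq ξ (isCInv_of_isClassCoeff (isClassCoeff_center s))]
  rw [show (⟨resSub _ (s : MonoidAlgebra (kres M) N), _⟩ :
    Subalgebra.center (kres M) (MonoidAlgebra (kres M) _)) = 0 from Subtype.ext (by
      ext y
      rw [coeff_resSub, hs _ (hcen _ y.2)]
      simp), map_zero]

/-- **Invariant idempotents over a block survive at its defect group.** -/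
theorem exists_coeff_of_mul_ne_zero {w : MonoidAlgebra (kres M) G} (hw : IsPInv N w)
    (hid : w * w = w) (hwe : w * sIdem M N c = w) (h0 : w ≠ 0) :
    ∃ x ∈ Subgroup.centralizer (Q : Set G), w.coeff x ≠ 0 := by
  classical
  by_contra hne
  push Not at hne
  have := Fintype.ofFinite (G ⧸ N)
  have hfin : Module.Finite (kres M) (MonoidAlgebra (kres M) N) :=
    Module.Finite.equiv (MonoidAlgebra.coeffLinearEquiv (kres M)).symm
  have : IsArtinianRing (Subalgebra.center (kres M) (MonoidAlgebra (kres M) N)) :=
    IsArtinianRing.of_finite (kres M) _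
  obtain ⟨K, hK⟩ := IsArtinianRing.isNilpotent_nilradical
    (R := Subalgebra.center (kres M) (MonoidAlgebra (kres M) N))
  set J := nilradical (Subalgebra.center (kres M) (MonoidAlgebra (kres M) N))
  let ι : Subalgebra.center (kres M) (MonoidAlgebra (kres M) N) → MonoidAlgebra (kres M) G :=
    fun j => inclSub N (j : MonoidAlgebra (kres M) N)
  let W : ℕ → AddSubmonoid (MonoidAlgebra (kres M) G) := fun k =>
    AddSubmonoid.closure {y | ∃ j ∈ J ^ k, ∃ a, IsPInv N a ∧ y = ι j * a}
  -- factors
  let h : G ⧸ N → MonoidAlgebra (kres M) G := fun q => cosetPart w q * sIdem M N c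
  have hinvN : ∀ z : Subalgebra.center (kres M) (MonoidAlgebra (kres M) N), IsPInv N (ι z) :=
    fun z u hu x => inclSub_conj_invariant N (isClassCoeff_center z) hu x
  have hhinv : ∀ q, IsPInv N (h q) := fun q => isPInv_mul (isPInv_cosetPart hw q) (hinvN _)
  have hsum : w = ∑ q, h q := by
    show w = ∑ q, cosetPart w q * sIdem M N c
    rw [← Finset.sum_mul, sum_cosetPart, hwe]
  have hhe : ∀ q, h q * sIdem M N c = h q := fun q => by
    show cosetPart w q * sIdem M N c * sIdem M N c = _
    rw [mul_assoc, sIdem_idem hM hc]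
  have hhsupp : ∀ q (x : G), (x : G ⧸ N) ≠ q → (h q).coeff x = 0 := by
    intro q x hx
    show (cosetPart w q * sIdem M N c).coeff x = 0
    rw [coeff_mul_eq]
    refine Finset.sum_eq_zero fun y _ => ?_
    by_cases hy : y⁻¹ * x ∈ N
    · simp only [cosetPart, coeff_mkGA]
      rw [if_neg (by rw [QuotientGroup.eq.2 hy]; exact hx), zero_mul]
    · rw [coeff_sIdem_of_not_mem _ hy, mul_zero]
  have hQinv : ∀ {a : MonoidAlgebra (kres M) G}, IsPInv N a → IsPInv Q a :=
    fun ha u hu => ha u (hQN hu)
  have hhres : ∀ q, resSub (cen Q) (h q) = 0 := by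
    intro q
    show resSub (cen Q) (cosetPart w q * sIdem M N c) = 0
    rw [resSub_mul hM hQ (hQinv (isPInv_cosetPart hw q)) (hQinv (a := sIdem M N c) (hinvN _))]
    rw [show resSub (cen Q) (cosetPart w q) = 0 from ?_, zero_mul]
    ext y
    simp only [coeff_resSub, cosetPart, coeff_mkGA]
    split_ifs
    · rw [hne _ y.2]; simp
    · simp
  -- long products lie in `W 1`
  let S : ℕ → AddSubmonoid (MonoidAlgebra (kres M) G) := fun m =>
    AddSubmonoid.closure {y | ∃ l : List (G ⧸ N), l.length = m ∧ y = (l.map h).prod}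
  have hpow : ∀ m, w ^ m ∈ S m := by
    intro m
    induction m with
    | zero => exact AddSubmonoid.subset_closure ⟨[], rfl, by simp⟩
    | succ m ih =>
      rw [pow_succ]
      revert ih
      generalize w ^ m = y
      intro hy
      induction hy using AddSubmonoid.closure_induction with
      | mem y hy =>
        obtain ⟨l, hl, rfl⟩ := hy
        rw [hsum, Finset.mul_sum]
        exact sum_mem fun q _ => AddSubmonoid.subset_closure
          ⟨l ++ [q], by simp [hl], by simp⟩
      | zero => rw [zero_mul]; exact zero_mem _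
      | add a b _ _ ha hb => rw [add_mul]; exact add_mem ha hb
  have hlist : ∀ l : List (G ⧸ N), IsPInv N (l.map h).prod := fun l => isPInv_prod _ fun a ha => by
    obtain ⟨q, -, rfl⟩ := List.mem_map.1 ha
    exact hhinv q
  have hseg : ∀ l : List (G ⧸ N), l ≠ [] → l.prod = 1 →
      ∃ j ∈ J, (l.map h).prod = ι j := by
    intro l hl h1
    set y := (l.map h).prod with hy
    have hsupp : ∀ x ∉ N, y.coeff x = 0 := by
      intro x hx
      have h2 := coeff_prod_of_coset (l.map fun q => (h q, q)) (fun t ht => by
        obtain ⟨q, -, rfl⟩ := List.mem_map.1 ht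
        exact hhsupp q) (x := x) (by
          simp only [List.map_map]
          show (x : G ⧸ N) ≠ (l.map id).prod
          rw [List.map_id, h1]
          exact fun e => hx ((QuotientGroup.eq_one_iff x).1 e))
      simpa [List.map_map, Function.comp_def, hy] using h2
    have hyinv : IsPInv N y := hlist l
    have hcl : IsClassCoeff (resSub N y) := fun a n => by
      simp only [coeff_resSub]
      exact hyinv _ n.2 _
    set s : Subalgebra.center (kres M) (MonoidAlgebra (kres M) N) :=
      ⟨resSub N y, isClassCoeff_iff_mem_center.1 hcl⟩ with hs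
    have hιs : ι s = y := inclSub_resSub N hsupp
    have hse : s * blkIdem M c = s := Subtype.ext (inclSub_injective N (by
      rw [MulMemClass.coe_mul, map_mul]
      show ι s * sIdem M N c = ι s
      rw [hιs, hy]
      refine mul_eq_self_prod _ (by simpa using hl) fun a ha => ?_
      obtain ⟨q, -, rfl⟩ := List.mem_map.1 ha
      exact hhe q))
    refine ⟨s, mem_nilradical.2 (isNilpotent_of_lam_eq_zero hM fun θ => ?_), hιs.symm⟩
    refine lam_eq_zero_of_brauer hM hc hQN hQ hbr hse (fun x hx => ?_) θ
    obtain ⟨q, l', rfl⟩ := List.exists_cons_of_ne_nil hl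
    have h3 : resSub (cen Q) y = 0 := by
      rw [hy, List.map_cons, List.prod_cons, resSub_mul hM hQ (hQinv (hhinv q))
        (hQinv (hlist l')), hhres, zero_mul]
    have h4 := congrArg (fun a : MonoidAlgebra (kres M) (cen Q) => a.coeff ⟨(x : G), hx⟩) h3
    simpa [hs] using h4
  have hW1 : w ∈ W 1 := by
    have hn : ∀ m, w ^ (m + 1) = w := by
      intro m
      induction m with
      | zero => rw [pow_one]
      | succ m ih => rw [pow_succ, ih, hid]
    have h5 := hpow (Fintype.card (G ⧸ N) - 1 + 1)
    rw [hn, Nat.sub_add_cancel Fintype.card_pos] at h5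
    refine AddSubmonoid.closure_le.2 ?_ h5
    rintro _ ⟨l, hl, rfl⟩
    obtain ⟨i, j, hij, hpre⟩ : ∃ i j : Fin (l.length + 1), i < j ∧
        (l.take i).prod = (l.take j).prod := by
      obtain ⟨i, j, hne', he⟩ := Fintype.exists_ne_map_eq_of_card_lt
        (fun i : Fin (l.length + 1) => (l.take i).prod) (by simp [hl])
      rcases lt_or_gt_of_ne hne' with h' | h'
      · exact ⟨i, j, h', he⟩
      · exact ⟨j, i, h', he.symm⟩
    have hsplit : l = l.take i ++ ((l.drop i).take (j - i) ++ l.drop j) := by
      rw [show l.drop (j : ℕ) = (l.drop i).drop (j - i) by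
        rw [List.drop_drop, Nat.add_sub_cancel' hij.le], List.take_append_drop,
        List.take_append_drop]
    have htake : l.take j = l.take i ++ (l.drop i).take (j - i) := by
      conv_lhs => rw [← Nat.add_sub_cancel' hij.le, List.take_add]
    rw [htake, List.prod_append, left_eq_mul] at hpre
    obtain ⟨s, hs, hs'⟩ := hseg ((l.drop i).take (j - i)) (by
      rw [ne_eq, ← List.length_eq_zero_iff, List.length_take, List.length_drop]
      have := j.2
      have : (i : ℕ) < (j : ℕ) := hij
      omega) hpre
    refine AddSubmonoid.subset_closure ⟨s, by rwa [pow_one],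
      ((l.take i).map h).prod * ((l.drop j).map h).prod, isPInv_mul (hlist _) (hlist _), ?_⟩
    conv_lhs => rw [hsplit, List.map_append, List.map_append, List.prod_append, List.prod_append,
      hs', ← mul_assoc, inclSub_mul_comm (hlist _), mul_assoc]
  have hWk : ∀ k, w ∈ W (k + 1) := by
    intro k
    induction k with
    | zero => exact hW1
    | succ k ih =>
      rw [← hid]
      have key : ∀ x ∈ W 1, ∀ y ∈ W (k + 1), x * y ∈ W (k + 1 + 1) := by
        intro x hx y hy
        simp only [W] at hx hy ⊢
        induction hx using AddSubmonoid.closure_induction with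
        | mem x hx =>
          obtain ⟨j, hj, a, ha, rfl⟩ := hx
          induction hy using AddSubmonoid.closure_induction with
          | mem y hy =>
            obtain ⟨j', hj', a', ha', rfl⟩ := hy
            refine AddSubmonoid.subset_closure ⟨j * j', ?_, a * a', isPInv_mul ha ha', ?_⟩
            · rw [pow_succ' J (k + 1)]
              exact Ideal.mul_mem_mul (by simpa using hj) hj'
            · show inclSub N _ * a * (inclSub N _ * a') = inclSub N _ * (a * a')
              rw [MulMemClass.coe_mul, map_mul, mul_assoc, ← mul_assoc a, inclSub_mul_comm ha]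
              simp only [mul_assoc]
          | zero => rw [mul_zero]; exact zero_mem _
          | add a b _ _ h1 h2 => rw [mul_add]; exact add_mem h1 h2
        | zero => rw [zero_mul]; exact zero_mem _
        | add a b _ _ h1 h2 => rw [add_mul]; exact add_mem h1 h2
      exact key w hW1 w ih
  have hWK : W (K + 1) ≤ ⊥ := by
    refine AddSubmonoid.closure_le.2 ?_
    rintro _ ⟨j, hj, a, -, rfl⟩
    have : j ∈ (0 : Ideal (Subalgebra.center (kres M) (MonoidAlgebra (kres M) N))) := by
      rw [← hK]
      exact Ideal.pow_le_pow_right (Nat.le_succ K) hj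
    rw [Ideal.zero_eq_bot, Ideal.mem_bot] at this
    subst this
    show inclSub N _ * a ∈ _
    simp
  exact h0 (AddSubmonoid.mem_bot.1 (hWK (hWk K)))

end CfsgLib.BlockA
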