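import Cfsg.Agent.Lib.BlockA.FongReynolds
import Cfsg.Agent.Lib.Block.Fong

/-! A covered block stable under a defect group; stabilisers of covered blocks when a defect group
lies in the normal subgroup. -/

set_option autoImplicit false
set_option linter.unusedSectionVars false
set_option maxHeartbeats 1000000

namespace CfsgLib.BlockA

open Cfsg CfsgLib.Block MonoidAlgebra

universe u

variable {G : Type u} [Group G] [Fintype G] {p : ℕ} {M : Ideal AlgInt} [M.IsPrime]
  (hM : IsPModular p M)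

local notation "cen" Q => Subgroup.centralizer ((Q : Subgroup G) : Set G)

section Normal

variable {N : Subgroup G} [hN : N.Normal] [Fintype N] {B : Set (IrrCharacter G)}
  (hB : IsPBlock M B)
include hM hB

/-- A nonzero product of idempotents means covering. -/
theorem covered_of_mul_ne_zero {c : Set (IrrCharacter N)} (hc : IsPBlock M c)
    (h : (blkIdem M B : MonoidAlgebra (kres M) G) * sIdem M N c ≠ 0) :
    ∃ χ ∈ B, ∃ θ ∈ c, classInner (fun n : N => (χ : G → ℂ) n) (θ : N → ℂ) ≠ 0 := by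
  classical
  obtain ⟨χ, hχ⟩ := isPBlock_nonempty hB
  obtain ⟨θ, hθ⟩ := exists_constituent_res (N := N) χ
  have hb := isPBlock_blockOf (M := M) θ
  have horb := blkIdem_mul_orbitIdem hM hb hB hχ (mem_blockOf_self θ) hθ
  have h' : (blkIdem M B : MonoidAlgebra (kres M) G) *
      (orbitIdem M N (blockOf M (θ : N → ℂ)) * sIdem M N c) ≠ 0 := by
    rwa [← mul_assoc, horb]
  obtain ⟨t, ht, hne⟩ : ∃ t ∈ Finset.univ.image
      (fun x : G => conjGA x (sIdem M N (blockOf M (θ : N → ℂ)))), t * sIdem M N c ≠ 0 := by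
    by_contra hall
    push Not at hall
    apply h'
    rw [orbitIdem, Finset.sum_mul, Finset.sum_eq_zero hall, mul_zero]
  obtain ⟨a, -, rfl⟩ := Finset.mem_image.1 ht
  rw [conjGA_sIdem hM _ (mem_normalizer_of_normal a)] at hne
  have hc' : conjSet (⟨a, mem_normalizer_of_normal a⟩ : Subgroup.normalizer (N : Set G))
      (blockOf M (θ : N → ℂ)) = c := by
    by_contra hne'
    exact hne (sIdem_mul_ne hM (isPBlock_blockMap _ hb) hc hne')
  refine ⟨χ, hχ, conjIrr N θ a⁻¹, ?_, by rwa [classInner_res_conjIrr]⟩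
  rw [← hc', ← conjSet_normal_eq (mem_normalizer_of_normal a)]
  exact ⟨θ, mem_blockOf_self θ, rfl⟩

/-- **A covered block stable under a defect group.** -/
theorem exists_stable_covered {P : Subgroup G} (hP : IsDefectGroup p M B P) :
    ∃ c : Set (IrrCharacter N), IsPBlock M c ∧ (∀ x ∈ P, StabilizesBlock N c x) ∧
      (∃ χ ∈ B, ∃ θ ∈ c, classInner (fun n : N => (χ : G → ℂ) n) (θ : N → ℂ) ≠ 0) ∧
      IsDefectGroup p M c ((P ⊓ N).subgroupOf N) := by
  classical
  have := Fact.mk hM.1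
  have := charP_kres hM
  have hPp := isPGroup_defectGroup hM hB hP
  obtain ⟨x₀, hx₀, hne⟩ := (exists_le_conj_iff_coeff hM hB hP hPp).2
    ⟨1, by rw [map_conj_one]⟩
  set T := (allBlocks M N).image (sIdem M N)
  have hTc : ∀ (u : G), ∀ t ∈ T, conjGA u t ∈ T := by
    intro u t ht
    obtain ⟨f, hf, rfl⟩ := Finset.mem_image.1 ht
    rw [conjGA_sIdem hM _ (mem_normalizer_of_normal u)]
    exact Finset.mem_image.2 ⟨_, mem_allBlocks.2 (isPBlock_blockMap _ (mem_allBlocks.1 hf)), rfl⟩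
  let act : MulAction P T :=
    { smul := fun u t => ⟨conjGA (u : G) t.1, hTc _ _ t.2⟩
      one_smul := fun t => Subtype.ext (conjGA_one _)
      mul_smul := fun u v t => Subtype.ext (conjGA_conjGA _ _ _).symm }
  let F : T → kres M := fun t =>
    ((blkIdem M B : MonoidAlgebra (kres M) G) * t.1).coeff x₀
  have hF : ∀ (u : P) (t : T), F (u • t) = F t := by
    intro u t
    show ((blkIdem M B : MonoidAlgebra (kres M) G) * conjGA (u : G) t.1).coeff x₀ = _
    rw [← conjGA_blkIdem B (u : G), ← conjGA_mul, coeff_conjGA]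
    refine congrArg _ ?_
    rw [mul_assoc, ← Subgroup.mem_centralizer_iff.1 hx₀ u u.2, inv_mul_cancel_left]
  have hsum : ∑ t : T, F t ≠ 0 := by
    have e : ∑ t : T, F t = ((blkIdem M B : MonoidAlgebra (kres M) G) *
        ∑ f ∈ allBlocks M N, sIdem M N f).coeff x₀ := by
      rw [Finset.sum_coe_sort T (fun t => ((blkIdem M B : MonoidAlgebra (kres M) G) * t).coeff x₀),
        Finset.sum_image (fun f hf g hg h => eq_of_sIdem_eq hM (mem_allBlocks.1 hf)
          (mem_allBlocks.1 hg) h), Finset.mul_sum, coeff_sum, Finsupp.finsetSum_apply]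
    rw [e, sum_sIdem hM, mul_one]
    exact hne
  rw [sum_eq_sum_fixed hPp (fun v => by rw [nsmul_eq_mul, CharP.cast_eq_zero, zero_mul]) F hF]
    at hsum
  obtain ⟨t, ht, htne⟩ := Finset.exists_ne_zero_of_sum_ne_zero hsum
  rw [Finset.mem_filter] at ht
  obtain ⟨c, hc, hct⟩ := Finset.mem_image.1 t.2
  rw [mem_allBlocks] at hc
  have hst : ∀ x ∈ P, StabilizesBlock N c x := by
    intro x hx
    refine (stabilizesBlock_iff hc x).2 ⟨mem_normalizer_of_normal x,
      sIdem_injective hM (isPBlock_blockMap _ hc) hc ?_⟩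
    rw [← conjGA_sIdem hM c (mem_normalizer_of_normal x), hct]
    exact congrArg Subtype.val (ht.2 ⟨x, hx⟩)
  have hne' : (blkIdem M B : MonoidAlgebra (kres M) G) * sIdem M N c ≠ 0 := by
    intro h0
    apply htne
    show ((blkIdem M B : MonoidAlgebra (kres M) G) * t.1).coeff x₀ = 0
    rw [← hct, h0]
    simp
  have hcov := covered_of_mul_ne_zero hM hB hc hne'
  obtain ⟨χ, hχ, θ, hθ, hθne⟩ := hcov
  refine ⟨c, hc, hst, ⟨χ, hχ, θ, hθ, hθne⟩, ?_⟩
  obtain ⟨Q, hQ⟩ := exists_isDefectGroup hM hc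
  have hQN : Q.map N.subtype ≤ N := Subgroup.map_subtype_le Q
  have hQ' : (Q.map N.subtype).subgroupOf N = Q :=
    Subgroup.comap_map_eq_self_of_injective N.subtype_injective Q
  obtain ⟨P', hP', hPQ⟩ := exists_defect_inf_eq hM hc hB hχ hθ hθne hQN (hQ'.symm ▸ hQ)
  obtain ⟨g, hg⟩ := defectGroup_exists_conj hM hB hP hP'
  have hcard : Nat.card ((P ⊓ N).subgroupOf N) = Nat.card Q := by
    rw [Nat.card_congr (Subgroup.subgroupOfEquivOfLe inf_le_right).toEquiv,
      ← (show Nat.card (Q.map N.subtype) = Nat.card Q from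
        Subgroup.card_map_of_injective N.subtype_injective), ← hPQ, hg,
      ← natCard_map_conj (P ⊓ N) g, Subgroup.map_inf _ _ _ (MulAut.conj g).injective]
    have hNg : N.map (MulAut.conj g).toMonoidHom = N := by
      ext z
      rw [mem_map_conj_iff]
      refine ⟨fun h => ?_, fun h => ?_⟩
      · simpa [mul_assoc] using hN.conj_mem _ h g
      · simpa [mul_assoc] using hN.conj_mem _ h g⁻¹
    rw [hNg]
  set R := P ⊓ N with hR
  have hRp : IsPGroup p R := hPp.to_le inf_le_left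
  have hxR : x₀ ∈ (cen R) := Subgroup.centralizer_le inf_le_left hx₀
  have hbr : ∃ y : N, (y : G) ∈ (cen R) ∧ (blkIdem M c : MonoidAlgebra (kres M) N).coeff y ≠ 0 := by
    by_contra hall
    push Not at hall
    apply htne
    show ((blkIdem M B : MonoidAlgebra (kres M) G) * t.1).coeff x₀ = 0
    rw [← hct]
    have h0 : resSub (cen R) (sIdem M N c) = 0 := by
      ext y
      rw [coeff_resSub]
      by_cases hy : (y : G) ∈ N
      · rw [show (y : G) = ((⟨y, hy⟩ : N) : G) from rfl, sIdem, coeff_inclSub_of_mem,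
          hall ⟨y, hy⟩ y.2]
        simp
      · rw [coeff_sIdem_of_not_mem _ hy]
        simp
    have h1 := congrArg (fun a : MonoidAlgebra (kres M) (cen R) => a.coeff ⟨x₀, hxR⟩)
      (resSub_mul hM hRp (isPInv_of_isClassCoeff (isClassCoeff_center (blkIdem M B)) R)
        (fun u hu z => inclSub_conj_invariant N (isClassCoeff_center (blkIdem M c))
          (inf_le_right (a := P) hu) z : IsPInv R (sIdem M N c)))
    simp only [sIdem] at h0 ⊢
    simp only [h0, mul_zero, coeff_resSub] at h1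
    simpa using h1
  obtain ⟨y, hy, hy0⟩ := hbr
  obtain ⟨n, hn⟩ := (exists_le_conj_iff_coeff hM hc hQ (R := R.subgroupOf N) hRp.comap_subtype).1
    ⟨y, Subgroup.mem_centralizer_iff.2 fun r hr => Subtype.ext
      (Subgroup.mem_centralizer_iff.1 hy r hr), hy0⟩
  rw [Subgroup.eq_of_le_of_card_ge hn (by rw [natCard_map_conj, hcard])]
  exact defectGroup_conj hM hc hQ n

end Normal

section Stable

variable {N H : Subgroup G} [hN : N.Normal] [Fintype N]
include hM

/-- Over a stable block of a normal subgroup of `p`-power index. -/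
theorem exists_defect_over_stable {c : Set (IrrCharacter N)} (hc : IsPBlock M c) (hNH : N ≤ H)
    (hidx : ∃ k : ℕ, N.relIndex H = p ^ k) (hst : ∀ x ∈ H, StabilizesBlock N c x) :
    ∃ R : Subgroup G, IsPGroup p R ∧ R ≤ H ∧ R ⊔ N = H ∧
      ∃ y ∈ (cen R), (sIdem M N c).coeff y ≠ 0 := by
  classical
  have := Fact.mk hM.1
  have := Fintype.ofFinite H
  have := Fintype.ofFinite (N.subgroupOf H)
  have hN'n : (N.subgroupOf H).Normal := Subgroup.Normal.subgroupOf hN H
  set e := Subgroup.subgroupOfEquivOfLe hNH with he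
  set c' := blockMap e c with hc'
  have hb' : IsPBlock M c' := isPBlock_blockMap e hc
  have hinv : ∀ θ ∈ c', ∀ g : H, conjIrr (N.subgroupOf H) θ g ∈ c' := by
    rintro _ ⟨θ, hθ, rfl⟩ g
    obtain ⟨θ', hθ', h'⟩ := (stabilizesBlock_iff_conjIrr hc _).1 (hst _ (H.inv_mem g.2))
    refine ⟨conjIrr N θ (g : G), ?_, ?_⟩
    · rw [inv_inv] at h'
      exact mem_of_sameBlock hc h' (sameBlock_conjIrr (sameBlock_of_mem hc hθ' hθ) _)
    · refine Subtype.ext (funext fun n => ?_)
      rfl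
  obtain ⟨bH, hbH, hsum⟩ := exists_block_covering hM
    (isBlockSupported_of_index hM hidx) hb' (G := H)
  have hcv : coverSet (N.subgroupOf H) c' = c' := by
    refine Set.Subset.antisymm (fun η hη => ?_) (subset_coverSet _)
    obtain ⟨g, hg⟩ := hη
    have := hinv _ hg g⁻¹
    rwa [conjIrr_conjIrr, mul_inv_cancel, conjIrr_one] at this
  obtain ⟨θ', hθ'⟩ := isPBlock_nonempty hb'
  obtain ⟨χ, hχ⟩ := exists_over_constituent (G := H) θ'
  have hmem : χ ∈ bH := (mem_iff_constituent hM hsum hχ).2 (hcv.symm ▸ hθ')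
  obtain ⟨D, hD⟩ := exists_isDefectGroup hM hbH
  have h1 := (fong_covering hM hb' hinv hbH ⟨χ, hmem, θ', hθ', hχ⟩
    (fun B' hB' ⟨φ, hφ, η, hη, hne⟩ => by
      rw [isPBlock_eq_of_mem hB' hbH hφ ((mem_iff_constituent hM hsum hne).2 (hcv.symm ▸ hη))])
    hD).1
  have htop : D ⊔ N.subgroupOf H = ⊤ := by
    rw [← Subgroup.index_eq_one]
    obtain ⟨k, hk⟩ := hidx
    exact Nat.eq_one_of_dvd_coprimes (Nat.Coprime.pow_left k (hM.1.coprime_iff_not_dvd.2 h1))
      (hk ▸ Subgroup.index_dvd_of_le le_sup_right) dvd_rfl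
  have hDp := isPGroup_defectGroup hM hbH hD
  obtain ⟨y, hy, hy0⟩ := (exists_le_conj_iff_coeff hM hbH hD hDp).2 ⟨1, by rw [map_conj_one]⟩
  refine ⟨D.map H.subtype, hDp.map _, Subgroup.map_subtype_le D, ?_, (y : G), ?_, ?_⟩
  · have := congrArg (Subgroup.map H.subtype) htop
    rwa [Subgroup.map_sup, Subgroup.map_subgroupOf_eq_of_le hNH, ← MonoidHom.range_eq_map,
      Subgroup.range_subtype] at this
  · rintro _ ⟨d, hd, rfl⟩
    exact congrArg Subtype.val (Subgroup.mem_centralizer_iff.1 hy d hd)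
  · have hyN : (y : G) ∈ N := isBlockSupported_of_index hM hidx bH hbH y hy0
    rw [show (y : G) = ((⟨y, hyN⟩ : N) : G) from rfl, sIdem, coeff_inclSub_of_mem, coeff_blkIdem]
    rw [coeff_blkIdem, show blockCoeff bH y = (blockSum bH).coeff y by simp [blockSum], hsum, hcv,
      show y = ((⟨y, hyN⟩ : N.subgroupOf H) : H) from rfl, coeff_inclSub_of_mem] at hy0
    simp only [blockSum, coeff_mkGA, hc', blockCoeff_blockMap] at hy0
    exact hy0

end Stable

section Stabilizer

variable {N L : Subgroup G} [hN : N.Normal] [hL : L.Normal] [Fintype N]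
  {B : Set (IrrCharacter G)} (hB : IsPBlock M B) {c : Set (IrrCharacter N)} (hc : IsPBlock M c)
include hM hB hc

theorem stabilizer_inf_eq (hNL : N ≤ L) (hLN : ∃ k : ℕ, (N.subgroupOf L).index = p ^ k)
    (hcov : ∃ χ ∈ B, ∃ θ ∈ c, classInner (fun n : N => (χ : G → ℂ) n) (θ : N → ℂ) ≠ 0)
    {D : Subgroup G} (hD : IsDefectGroup p M B D) (hDN : D ≤ N) {T : Subgroup G}
    (hT : ∀ x : G, x ∈ T ↔ StabilizesBlock N c x) : T ⊓ L = N := by
  classical
  have := Fact.mk hM.1
  have := Fintype.ofFinite L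
  obtain ⟨χ, hχ, θ, hθ, hne⟩ := hcov
  have hNT : N ≤ T := fun n hn => (hT n).2 ((stabilizesBlock_iff_conjIrr hc n).2
    ⟨θ, hθ, by
      rw [show conjIrr N θ n⁻¹ = θ from Subtype.ext (funext fun x => by
        rw [conjIrr_apply]
        refine Eq.trans (congrArg (θ : N → ℂ) (Subtype.ext ?_))
          (CfsgLib.Char.irr_isClassFunction θ.2 x ⟨n⁻¹, N.inv_mem hn⟩)
        simp)]
      exact hθ⟩)
  set H := T ⊓ L with hH
  have hNH : N ≤ H := le_inf hNT hNL
  have hidx : ∃ k : ℕ, N.relIndex H = p ^ k := by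
    obtain ⟨k, hk⟩ := hLN
    have h1 : N.relIndex H ∣ p ^ k := hk ▸ Dvd.intro _ (Subgroup.relIndex_mul_relIndex N H L hNH
      inf_le_right)
    obtain ⟨j, -, hj⟩ := (Nat.dvd_prime_pow hM.1).1 h1
    exact ⟨j, hj⟩
  obtain ⟨R, hR, hRH, hRN, y, hy, hy0⟩ :=
    exists_defect_over_stable hM hc hNH hidx fun x hx => (hT x).1 hx.1
  obtain ⟨c₀, hc₀, -, ⟨χ₀, hχ₀, φ₀, hφ₀, hne₀⟩, hc₀D⟩ := exists_stable_covered hM (N := L) hB hD
  obtain ⟨f, hf, hBf⟩ : ∃ f, IsPBlock M f ∧
      (blkIdem M B : MonoidAlgebra (kres M) G) * (sIdem M L f * sIdem M N c) ≠ 0 := by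
    by_contra hall
    push Not at hall
    refine blkIdem_mul_sIdem_ne_zero hM hc hB hχ hθ hne ?_
    calc (blkIdem M B : MonoidAlgebra (kres M) G) * sIdem M N c
        = (blkIdem M B : MonoidAlgebra (kres M) G) *
            ((∑ f ∈ allBlocks M L, sIdem M L f) * sIdem M N c) := by rw [sum_sIdem hM, one_mul]
      _ = 0 := by
        rw [Finset.sum_mul, Finset.mul_sum]
        exact Finset.sum_eq_zero fun f hf => hall f (mem_allBlocks.1 hf)
  obtain ⟨χ₁, hχ₁, φ, hφ, hne₁⟩ := covered_of_mul_ne_zero hM hB hf (by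
    intro h0
    apply hBf
    rw [← mul_assoc, h0, zero_mul])
  obtain ⟨g, hg⟩ := (mem_iff_mem_of_sameBlock (covering_invariant c₀)
    (memLocalRing_coverSet hM hc₀) (sameBlock_of_mem hB hχ₀ hχ₁) hne₀ hne₁).1
    ⟨1, by rwa [conjIrr_one]⟩
  have hconj : conjGA g⁻¹ (sIdem M L f) = sIdem M L c₀ := by
    rw [conjGA_sIdem hM f (mem_normalizer_of_normal g⁻¹)]
    congr 1
    refine isPBlock_eq_of_mem (isPBlock_blockMap _ hf) hc₀ (χ := conjIrr L φ g) ⟨φ, hφ, ?_⟩ hg
    exact (conjSet_normal_eq (mem_normalizer_of_normal g⁻¹) φ).trans (by rw [inv_inv])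
  have hfN : ∀ x ∉ N, (sIdem M L f).coeff x = 0 := by
    intro x hx
    by_cases hxL : x ∈ L
    · rw [show x = ((⟨x, hxL⟩ : L) : G) from rfl, sIdem, coeff_inclSub_of_mem]
      by_contra h
      exact hx (isBlockSupported_of_index hM (N := N.subgroupOf L) hLN f hf ⟨x, hxL⟩ h)
    · exact coeff_sIdem_of_not_mem _ hxL
  set s := sIdem M L f * sIdem M N c with hs
  have hsN : ∀ x ∉ N, s.coeff x = 0 := fun x hx => by
    rw [hs, show sIdem M N c = inclSub N (blkIdem M c : MonoidAlgebra (kres M) N) from rfl,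
      ← inclSub_resSub N hfN, ← map_mul]
    exact coeff_inclSub_of_not_mem _ _ hx
  have hfi : ∀ X : Subgroup G, X ≤ L → IsPInv X (sIdem M L f) := fun X hX u hu z =>
    inclSub_conj_invariant L (isClassCoeff_center (blkIdem M f)) (hX hu) z
  have hci : IsPInv N (sIdem M N c) := fun u hu z =>
    inclSub_conj_invariant N (isClassCoeff_center (blkIdem M c)) hu z
  have hsid : s * s = s := by
    rw [hs, mul_assoc, ← mul_assoc (sIdem M N c), sIdem_mul_comm c hfN, mul_assoc (sIdem M L f) _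
      (sIdem M N c), sIdem_idem hM hc, ← mul_assoc, sIdem_idem hM hf]
  have hs0 : s ≠ 0 := fun h => hBf (by rw [h, mul_zero])
  obtain ⟨h, hh, hsh⟩ := exists_mul_sIdem hM hsN hsid (isPInv_mul (hfi N hNL) hci) hs0
  have hhc : c = h := by
    by_contra hne'
    apply sIdem_ne_zero hM hh
    rw [← hsh, hs, mul_assoc, sIdem_mul_ne hM hc hh hne', mul_zero]
  subst hhc
  rw [hs, mul_assoc, sIdem_idem hM hc] at hsh
  -- the Brauer image of `f` at `R`
  have hRL : R ≤ L := hRH.trans inf_le_right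
  obtain ⟨z, hz, hz0⟩ : ∃ z ∈ (cen R), (sIdem M L f).coeff z ≠ 0 := by
    by_contra hall
    push Not at hall
    apply hy0
    have h0 : resSub (cen R) (sIdem M L f) = 0 := by
      ext w
      rw [coeff_resSub, hall w w.2]
      simp
    have hcR : IsPInv R (sIdem M N c) := by
      intro u hu w
      have hx := mem_normalizer_of_normal (N := N) u
      obtain ⟨hx', he⟩ := (stabilizesBlock_iff hc u).1 ((hT u).1 (hRH hu).1)
      have e1 := congrArg (fun a : MonoidAlgebra (kres M) G => a.coeff (u * w * u⁻¹))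
        (conjGA_sIdem hM c hx')
      simp only [he, coeff_conjGA] at e1
      rw [← e1]
      congr 1
      group
    have h1 := congrArg (fun a : MonoidAlgebra (kres M) (cen R) => a.coeff ⟨y, hy⟩)
      (resSub_mul hM hR (hfi R hRL) hcR)
    simpa [h0, hsh] using h1
  -- hence `R ≤ N`
  have hRN' : R ≤ N := by
    have hzL : z ∈ L := by
      by_contra h
      exact hz0 (coeff_sIdem_of_not_mem _ h)
    set R' := R.map (MulAut.conj g⁻¹).toMonoidHom with hR'
    have hR'L : R' ≤ L := by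
      rintro _ ⟨r, hr, rfl⟩
      exact hL.conj_mem _ (hRL hr) _
    have hzg : g⁻¹ * z * g ∈ L := by simpa using hL.conj_mem z hzL g⁻¹
    have hcent : (⟨g⁻¹ * z * g, hzg⟩ : L) ∈
        Subgroup.centralizer ((R'.subgroupOf L : Subgroup L) : Set L) := by
      rw [Subgroup.mem_centralizer_iff]
      rintro ⟨_, hrL⟩ ⟨r, hr, rfl⟩
      apply Subtype.ext
      have h := Subgroup.mem_centralizer_iff.1 hz r hr
      simp only [Subgroup.coe_mul, MulEquiv.coe_toMonoidHom, MulAut.conj_apply, inv_inv]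
      calc g⁻¹ * r * g * (g⁻¹ * z * g) = g⁻¹ * (r * z) * g := by group
        _ = g⁻¹ * (z * r) * g := by rw [h]
        _ = _ := by group
    have hcoef : (blkIdem M c₀ : MonoidAlgebra (kres M) L).coeff ⟨g⁻¹ * z * g, hzg⟩ ≠ 0 := by
      have e1 := congrArg (fun a : MonoidAlgebra (kres M) G => a.coeff (g⁻¹ * z * g)) hconj
      simp only [coeff_conjGA] at e1
      rw [show (g⁻¹)⁻¹ * (g⁻¹ * z * g) * g⁻¹ = z by group] at e1
      intro h0
      apply hz0
      rw [e1]
      exact (coeff_inclSub_of_mem L _ ⟨g⁻¹ * z * g, hzg⟩).trans h0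
    obtain ⟨n, hn⟩ := (exists_le_conj_iff_coeff hM hc₀ hc₀D (R := R'.subgroupOf L)
      (hR.map _).comap_subtype).1 ⟨_, hcent, hcoef⟩
    intro r hr
    have hr' : g⁻¹ * r * g ∈ R' := ⟨r, hr, by simp⟩
    obtain ⟨d, hd, hde⟩ := hn (show (⟨g⁻¹ * r * g, hR'L hr'⟩ : L) ∈ R'.subgroupOf L from hr')
    have hdN : ((d : L) : G) ∈ N := hDN (show (d : G) ∈ D from hd.1)
    have e1 : (n : G) * (d : G) * (n : G)⁻¹ = g⁻¹ * r * g := congrArg Subtype.val hde
    have h2 : g⁻¹ * r * g ∈ N := e1 ▸ hN.conj_mem _ hdN _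
    simpa [mul_assoc] using hN.conj_mem _ h2 g
  exact le_antisymm (hRN ▸ sup_le hRN' le_rfl) hNH

end Stabilizer

end CfsgLib.BlockA
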