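import Cfsg.Agent.Lib.Block.Covering
import Mathlib.LinearAlgebra.Matrix.Charpoly.LinearMap
import Mathlib.RingTheory.Artinian.Module
import Mathlib.LinearAlgebra.Trace

/-! An idempotent of a group algebra over a local ring restricted to a normal subgroup: an element
of the subalgebra killed by it modulo the maximal ideal, and annihilated by everything it kills,
vanishes modulo the maximal ideal. -/

set_option autoImplicit false
set_option linter.unusedSectionVars false
set_option maxHeartbeats 1000000

namespace CfsgLib.BlockA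

open Cfsg CfsgLib.Block MonoidAlgebra

universe u v w

section Coset

variable {k : Type v} [CommRing k] {G : Type u} [Group G] [Finite G] {N : Subgroup G}
  [hN : N.Normal]

theorem coeff_mul_single' (x : MonoidAlgebra k G) (r : k) (a g : G) :
    (x * single a r).coeff g = x.coeff (g * a⁻¹) * r := by
  conv_lhs => rw [← inv_mul_cancel_right g a]
  exact coeff_mul_single_mul x r a _

theorem coeff_single_mul' (x : MonoidAlgebra k G) (r : k) (a g : G) :
    (single a r * x).coeff g = r * x.coeff (a⁻¹ * g) := by
  refine coeff_single_mul_eq_mul_coeff _ fun m' _ => ?_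
  constructor
  · rintro rfl; simp
  · rintro rfl; simp

theorem resSub_mul_incl (a : MonoidAlgebra k G) (b : MonoidAlgebra k N) :
    resSub N (a * inclSub N b) = resSub N a * b := by
  classical
  have : Fintype G := Fintype.ofFinite G
  induction b using MonoidAlgebra.induction_linear with
  | zero => ext h; simp
  | add x y hx hy => ext h; simp [mul_add, ← hx, ← hy]
  | single m r =>
      ext h
      have hi : inclSub N (single m r) = single (m : G) r := by
        simp [inclSub, MonoidAlgebra.mapDomainRingHom]
      rw [hi, coeff_resSub, coeff_mul_single', coeff_mul_single', coeff_resSub]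
      rfl

theorem resSub_add (a b : MonoidAlgebra k G) : resSub N (a + b) = resSub N a + resSub N b := by
  ext h; simp

theorem resSub_sum {ι : Type*} (s : Finset ι) (f : ι → MonoidAlgebra k G) :
    resSub N (∑ i ∈ s, f i) = ∑ i ∈ s, resSub N (f i) := by
  ext h; simp [coeff_sum, Finset.sum_apply']

/-- Decomposition along the cosets of a subgroup. -/
theorem eq_sum_cosets [Fintype (G ⧸ N)] (a : MonoidAlgebra k G) :
    a = ∑ q : G ⧸ N, single q.out (1 : k) * inclSub N (resSub N (single q.out⁻¹ (1 : k) * a)) := by
  classical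
  ext x
  simp only [coeff_sum, Finset.sum_apply', coeff_single_mul', one_mul]
  rw [Finset.sum_eq_single (QuotientGroup.mk x : G ⧸ N)]
  · have h := QuotientGroup.eq.1 (QuotientGroup.out_eq' (QuotientGroup.mk x : G ⧸ N))
    rw [show ((QuotientGroup.mk x : G ⧸ N).out⁻¹ * x) = ((⟨_, h⟩ : N) : G) from rfl,
      coeff_inclSub_of_mem, coeff_resSub, coeff_single_mul', one_mul, inv_inv]
    simp
  · intro q _ hq
    refine coeff_inclSub_of_not_mem N _ fun h => hq ?_
    rw [← QuotientGroup.out_eq' q]
    exact QuotientGroup.eq.2 h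
  · simp

theorem eq_zero_of_cosets [Fintype (G ⧸ N)] {a : MonoidAlgebra k G}
    (h : ∀ g : G, resSub N (single g (1 : k) * a) = 0) : a = 0 := by
  rw [eq_sum_cosets (N := N) a]
  simp [h]

theorem resSub_conj_single (t : G) (a : MonoidAlgebra k G) :
    resSub N (single t⁻¹ (1 : k) * a * single t (1 : k)) =
      mapDomainRingEquiv k (conjEquiv N t).symm (resSub N a) := by
  ext h
  obtain ⟨m, rfl⟩ := (conjEquiv N t).symm.surjective h
  rw [coeff_resSub, coeff_mul_single', coeff_single_mul', one_mul, mul_one, inv_inv]
  have h2 : (mapDomainRingEquiv k (conjEquiv N t).symm (resSub N a)).coeff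
      ((conjEquiv N t).symm m) = (resSub N a).coeff m := by
    simp [mapDomainRingEquiv, MonoidAlgebra.mapDomainRingHom,
      Finsupp.mapDomain_apply (conjEquiv N t).symm.injective]
  rw [h2, coeff_resSub]
  congr 1
  simp [conjEquiv, mul_assoc]

end Coset

section Jacobson

variable {k : Type v} [Field k] {G : Type u} [Group G] [Finite G] {N : Subgroup G}
  [hN : N.Normal]

theorem mapDomain_mem_jacobson (e : N ≃* N) {r : MonoidAlgebra k N}
    (hr : r ∈ Ring.jacobson (MonoidAlgebra k N)) :
    mapDomainRingEquiv k e r ∈ Ring.jacobson (MonoidAlgebra k N) := by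
  have : RingHomSurjective (mapDomainRingEquiv k e).toRingHom :=
    ⟨(mapDomainRingEquiv k e).surjective⟩
  exact Ring.le_comap_jacobson (mapDomainRingEquiv k e).toRingHom hr

/-- A central idempotent killing `w`, where the radical kills `w`, is orthogonal to some power of
an element fixing `w`. -/
theorem exists_fix_of_kills [Fintype (G ⧸ N)] {f : MonoidAlgebra k G} (hf : IsClassCoeff f)
    (hff : f * f = f) {w : MonoidAlgebra k N} (hw : f * inclSub N w = 0)
    (hR : ∀ r ∈ Ring.jacobson (MonoidAlgebra k N), r * w = 0) :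
    ∃ (c : MonoidAlgebra k N) (n : ℕ), c * w = w ∧ f * inclSub N (c ^ n) = 0 := by
  have : Finite N := inferInstance
  have hart : IsArtinianRing (MonoidAlgebra k N) := IsArtinianRing.of_finite k _
  set R := Ring.jacobson (MonoidAlgebra k N)
  let L : Ideal (MonoidAlgebra k N) :=
    LinearMap.ker (LinearMap.toSpanSingleton (MonoidAlgebra k N) (MonoidAlgebra k N) w)
  have hL : ∀ l, l ∈ L ↔ l * w = 0 := fun l => by
    simp [L, LinearMap.mem_ker, LinearMap.toSpanSingleton_apply]
  obtain ⟨e', he', hspan⟩ :=
    IsSemisimpleRing.ideal_eq_span_idempotent (L.map (Ideal.Quotient.mk R))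
  have he'mem : e' ∈ L.map (Ideal.Quotient.mk R) := by
    rw [hspan]; exact Ideal.subset_span rfl
  obtain ⟨el, hel, rfl⟩ := (Ideal.mem_map_iff_of_surjective _ Ideal.Quotient.mk_surjective).1 he'mem
  have hkey : ∀ a ∈ L, a * (1 - el) ∈ R := by
    intro a ha
    have h1 : Ideal.Quotient.mk R a ∈ L.map (Ideal.Quotient.mk R) := Ideal.mem_map_of_mem _ ha
    rw [hspan, Ideal.mem_span_singleton'] at h1
    obtain ⟨q, hq⟩ := h1
    rw [← Ideal.Quotient.eq_zero_iff_mem, map_mul, map_sub, map_one, ← hq, mul_sub, mul_one,
      mul_assoc, he'.eq, sub_self]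
  set c := 1 - el with hc
  have hcw : c * w = w := by rw [hc, sub_mul, (hL el).1 hel, one_mul, sub_zero]
  have hfc : ∀ g : G, resSub N (single g (1 : k) * (f * inclSub N c)) ∈ R := by
    intro g
    rw [← mul_assoc, resSub_mul_incl]
    refine hkey _ ((hL _).2 ?_)
    rw [← resSub_mul_incl, mul_assoc, hw, mul_zero]
    ext h; simp
  have hcomm : ∀ x, f * x = x * f := fun x =>
    ((Subalgebra.mem_center_iff.1 (isClassCoeff_iff_mem_center.1 hf)) x).symm
  have hind : ∀ (m : ℕ) (g : G), resSub N (single g (1 : k) * (f * inclSub N (c ^ m))) ∈ R ^ m := by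
    intro m
    induction m with
    | zero => intro g; rw [Submodule.pow_zero, Ideal.one_eq_top]; exact Submodule.mem_top
    | succ m ih =>
        intro g
        have hsplit : single g (1 : k) * (f * inclSub N (c ^ (m + 1))) =
            (single g (1 : k) * (f * inclSub N c)) * (f * inclSub N (c ^ m)) := by
          rw [pow_succ', map_mul]
          simp only [mul_assoc]
          congr 1
          rw [← mul_assoc (inclSub N c) f, ← hcomm, mul_assoc, ← mul_assoc f f, hff]
        rw [hsplit, eq_sum_cosets (N := N) (f * inclSub N (c ^ m)), Finset.mul_sum, resSub_sum,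
          Ideal.IsTwoSided.pow_succ]
        refine Submodule.sum_mem _ fun q _ => ?_
        rw [← mul_assoc, resSub_mul_incl]
        refine Ideal.mul_mem_mul ?_ (ih _)
        have h3 : single g (1 : k) * (f * inclSub N c) * single q.out (1 : k) =
            single q.out⁻¹ (1 : k) *
              (single (q.out * g) (1 : k) * (f * inclSub N c)) * single q.out (1 : k) := by
          rw [← mul_assoc (single q.out⁻¹ (1 : k)) (single (q.out * g) (1 : k)), single_mul_single,
            inv_mul_cancel_left, one_mul]
        rw [h3, resSub_conj_single]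
        exact mapDomain_mem_jacobson _ (hfc _)
  obtain ⟨n, hn⟩ := (IsSemiprimaryRing.isNilpotent : IsNilpotent R)
  refine ⟨c, n, hcw, eq_zero_of_cosets (N := N) fun g => ?_⟩
  have := hind n g
  rw [hn] at this
  exact this

/-- An element killed by the idempotent has a nonzero multiple killed by the radical. -/
theorem exists_multiple_kills {v : MonoidAlgebra k N} (hv : v ≠ 0) :
    ∃ u : MonoidAlgebra k N, u * v ≠ 0 ∧
      ∀ r ∈ Ring.jacobson (MonoidAlgebra k N), r * (u * v) = 0 := by
  classical
  have hart : IsArtinianRing (MonoidAlgebra k N) := IsArtinianRing.of_finite k _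
  set R := Ring.jacobson (MonoidAlgebra k N)
  obtain ⟨n, hn⟩ := (IsSemiprimaryRing.isNilpotent : IsNilpotent R)
  have hex : ∃ j, ∀ r ∈ R ^ j, r * v = 0 := ⟨n, fun r hr => by
    rw [hn] at hr
    rw [show r = 0 from hr, zero_mul]⟩
  have h0 : Nat.find hex ≠ 0 := fun h => hv (by
    have := Nat.find_spec hex 1 (by rw [h, Submodule.pow_zero, Ideal.one_eq_top]; exact Submodule.mem_top)
    rwa [one_mul] at this)
  obtain ⟨j, hj⟩ := Nat.exists_eq_add_one_of_ne_zero h0
  have hnot := Nat.find_min hex (show j < Nat.find hex by omega)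
  push Not at hnot
  obtain ⟨u, hu, huv⟩ := hnot
  refine ⟨u, huv, fun r hr => ?_⟩
  rw [← mul_assoc]
  refine Nat.find_spec hex _ ?_
  rw [hj, Ideal.IsTwoSided.pow_succ]
  exact Ideal.mul_mem_mul hr hu

end Jacobson

section Lift

variable {O : Type w} [CommRing O] {k : Type v} [Field k] (φ : O →+* k)
  {G : Type u} [Group G] [Finite G] {N : Subgroup G} [hN : N.Normal]

theorem mapRingHom_inclSub (a : MonoidAlgebra O N) :
    mapRingHom G φ (inclSub N a) = inclSub N (mapRingHom N φ a) := by
  ext x
  rw [coeff_mapRingHom]
  by_cases hx : x ∈ N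
  · rw [show x = ((⟨x, hx⟩ : N) : G) from rfl, coeff_inclSub_of_mem, coeff_inclSub_of_mem,
      coeff_mapRingHom]
  · rw [coeff_inclSub_of_not_mem N _ hx, coeff_inclSub_of_not_mem N _ hx, map_zero]

theorem exists_mapRingHom (hφ : Function.Surjective φ) {X : Type u} [Group X] [Finite X]
    (b : MonoidAlgebra k X) : ∃ a, mapRingHom X φ a = b :=
  ⟨mkGA fun x => Function.surjInv hφ (b.coeff x), by
    ext x; simp [Function.surjInv_eq hφ]⟩

variable [Fintype G]

/-- A central idempotent killing `y` modulo the ideal kills `y`, if `y` is annihilated by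
everything the idempotent kills. -/
theorem map_eq_zero_of_kills (hφ : Function.Surjective φ) {f : MonoidAlgebra O G}
    (hf : IsClassCoeff f) (hff : f * f = f) {y : MonoidAlgebra O N}
    (hann : ∀ z : MonoidAlgebra O N, f * inclSub N z = 0 → z * y = 0)
    (hy : mapRingHom G φ (f * inclSub N y) = 0) : mapRingHom N φ y = 0 := by
  classical
  by_contra hv
  have := Fintype.ofFinite (G ⧸ N)
  have hfk : IsClassCoeff (mapRingHom G φ f) := mapRingHom_isClassCoeff φ hf
  have hffk : mapRingHom G φ f * mapRingHom G φ f = mapRingHom G φ f := by rw [← map_mul, hff]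
  have hcomm : ∀ x : MonoidAlgebra O G, f * x = x * f := fun x =>
    ((Subalgebra.mem_center_iff.1 (isClassCoeff_iff_mem_center.1 hf)) x).symm
  obtain ⟨u, hu0, huR⟩ := exists_multiple_kills hv
  obtain ⟨uO, rfl⟩ := exists_mapRingHom φ hφ u
  rw [← map_mul] at hu0 huR
  have hw : mapRingHom G φ f * inclSub N (mapRingHom N φ (uO * y)) = 0 := by
    rw [← mapRingHom_inclSub, ← map_mul, map_mul (inclSub N), ← mul_assoc, hcomm, mul_assoc,
      map_mul, hy, mul_zero]
  obtain ⟨c, n, hcw, hfn⟩ := exists_fix_of_kills hfk hffk hw huR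
  obtain ⟨cO, rfl⟩ := exists_mapRingHom φ hφ c
  set z := cO ^ n with hz
  set y0 := f * inclSub N z with hy0
  have hy0φ : mapRingHom G φ y0 = 0 := by
    rw [hy0, map_mul, mapRingHom_inclSub, hz, map_pow]
    exact hfn
  set I := RingHom.ker φ with hI
  have hrange : LinearMap.range (LinearMap.mulLeft O y0) ≤
      I • (⊤ : Submodule O (MonoidAlgebra O G)) := by
    rintro _ ⟨x, rfl⟩
    rw [LinearMap.mulLeft_apply]
    have hdec : ∀ a : MonoidAlgebra O G, (∀ g, a.coeff g ∈ I) →
        a ∈ I • (⊤ : Submodule O (MonoidAlgebra O G)) := by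
      intro a ha
      have : a = ∑ g : G, a.coeff g • single g (1 : O) := by
        ext g; simp [coeff_sum, Finset.sum_apply', Finsupp.single_apply]
      rw [this]
      exact Submodule.sum_mem _ fun g _ => Submodule.smul_mem_smul (ha g) Submodule.mem_top
    refine hdec _ fun g => ?_
    rw [hI, RingHom.mem_ker, ← coeff_mapRingHom, map_mul, hy0φ, zero_mul]
    simp
  obtain ⟨q, hmon, -, hcoef, hq⟩ :=
    LinearMap.exists_monic_and_natDegree_eq_and_coeff_mem_pow_and_aeval_eq_zero O
      (LinearMap.mulLeft O y0) I hrange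
  have hq0 : Polynomial.aeval y0 q = 0 := by
    have h1 := Polynomial.aeval_algHom_apply (Algebra.lmul O (MonoidAlgebra O G)) y0 q
    have h2 : Algebra.lmul O (MonoidAlgebra O G) y0 = LinearMap.mulLeft O y0 := by
      ext x; simp
    rw [h2, hq] at h1
    have h3 := LinearMap.congr_fun h1.symm 1
    simpa using h3
  have hqmap : q.map φ = Polynomial.X ^ q.natDegree := by
    ext i
    rw [Polynomial.coeff_map, Polynomial.coeff_X_pow]
    rcases lt_trichotomy i q.natDegree with h | h | h
    · rw [if_neg (by omega)]
      exact RingHom.mem_ker.1 (Ideal.pow_le_self (by omega) (hcoef i))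
    · rw [if_pos h, h, hmon.coeff_natDegree, map_one]
    · rw [if_neg (by omega), Polynomial.coeff_eq_zero_of_natDegree_lt h, map_zero]
  have hfq : ∀ P : Polynomial O,
      f * inclSub N (Polynomial.aeval z P) = f * Polynomial.aeval y0 P := by
    intro P
    induction P using Polynomial.induction_on' with
    | add a b ha hb => simp [mul_add, ha, hb]
    | monomial i a =>
        rw [Polynomial.aeval_monomial, Polynomial.aeval_monomial, map_mul, map_pow, hy0]
        have hc1 : inclSub N (algebraMap O (MonoidAlgebra O N) a) =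
            algebraMap O (MonoidAlgebra O G) a := by
          simp [inclSub, MonoidAlgebra.mapDomainRingHom]
        rw [hc1, (show Commute f (inclSub N z) from hcomm _).mul_pow, ← mul_assoc, ← mul_assoc,
          hcomm (algebraMap O _ a)]
        rcases i with _ | i
        · simp
        · rw [show f ^ (i + 1) = f from (IsIdempotentElem.pow_succ_eq i hff)]
          simp only [mul_assoc]
          rw [← mul_assoc f f, hff]
  have hann' := hann (Polynomial.aeval z q * uO) (by
    rw [map_mul, ← mul_assoc, hfq, hq0, mul_zero, zero_mul])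
  have hmapq : mapRingHom N φ (Polynomial.aeval z q) =
      mapRingHom N φ cO ^ (n * q.natDegree) := by
    rw [Polynomial.aeval_def, Polynomial.hom_eval₂]
    have halg : (mapRingHom N φ).comp (algebraMap O (MonoidAlgebra O N)) =
        (algebraMap k (MonoidAlgebra k N)).comp φ := by
      refine RingHom.ext fun a => ?_
      simp
    rw [halg, ← Polynomial.eval₂_map, hqmap, Polynomial.eval₂_X_pow, hz, map_pow, pow_mul]
  have hfix : ∀ m : ℕ, mapRingHom N φ cO ^ m * mapRingHom N φ (uO * y) =
      mapRingHom N φ (uO * y) := by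
    intro m
    induction m with
    | zero => simp
    | succ m ih => rw [pow_succ, mul_assoc, hcw, ih]
  apply hu0
  rw [← hfix (n * q.natDegree), ← hmapq, ← map_mul, ← mul_assoc, hann', map_zero]

end Lift

end CfsgLib.BlockA
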