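import Cfsg.Agent.Lib.BlockA.CoveredUnder

/-! Every character of a covered block lies under a member of the covering block. -/

set_option autoImplicit false
set_option linter.unusedSectionVars false
set_option maxHeartbeats 1000000

namespace CfsgLib.BlockA

open Cfsg CfsgLib.Block MonoidAlgebra
open scoped ComplexConjugate

universe u

variable {G : Type u} [Group G] [Fintype G]

/-- An idempotent with vanishing coefficient at the identity is zero. -/
theorem eq_zero_of_idem_coeff_one {e : MonoidAlgebra ℂ G} (he : e * e = e) (h : e.coeff 1 = 0) :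
    e = 0 := by
  classical
  have hf : IsIdempotentElem (LinearMap.mulLeft ℂ e) := by
    refine LinearMap.ext fun x => ?_
    change e * (e * x) = e * x
    rw [← mul_assoc, he]
  have : Module.Finite ℂ (MonoidAlgebra ℂ G) := Module.Finite.of_basis (MonoidAlgebra.basis G ℂ)
  have htr : LinearMap.trace ℂ _ (LinearMap.mulLeft ℂ e) = 0 := by
    rw [LinearMap.trace_eq_matrix_trace ℂ (MonoidAlgebra.basis G ℂ), Matrix.trace]
    refine Finset.sum_eq_zero fun g _ => ?_
    rw [Matrix.diag_apply, LinearMap.toMatrix_apply]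
    simp [MonoidAlgebra.basis, coeff_mul_single', h]
  have := LinearMap.congr_fun (LinearMap.IsIdempotentElem.eq_zero_of_trace_eq_zero hf htr) 1
  simpa using this

variable {N : Subgroup G} [hN : N.Normal] [Fintype N]

theorem coeff_one_mul_idem (B : Set (IrrCharacter G)) [Fintype (IrrCharacter G)]
    [DecidablePred (· ∈ B)] (θ : IrrCharacter N) :
    (blockSum B * inclSub N (blockSum {θ})).coeff 1 = (Nat.card G : ℂ)⁻¹ * (θ : N → ℂ) 1 *
      ∑ χ : IrrCharacter G, if χ ∈ B then
        (χ : G → ℂ) 1 * classInner (θ : N → ℂ) (fun n : N => (χ : G → ℂ) n) else 0 := by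
  classical
  have h1 : (blockSum B * inclSub N (blockSum {θ})).coeff ((1 : N) : G) =
      (resSub N (blockSum B) * blockSum {θ}).coeff 1 := by
    rw [← coeff_resSub, resSub_mul_incl]
  rw [← OneMemClass.coe_one N, h1, coeff_mul_eq, Finset.mul_sum]
  simp only [coeff_resSub, blockSum, coeff_mkGA, blockCoeff_eq_sum B, Finset.sum_mul]
  rw [Finset.sum_comm]
  refine Finset.sum_congr rfl fun χ _ => ?_
  by_cases hχ : χ ∈ B
  · simp only [if_pos hχ]
    rw [CfsgLib.Char.classInner_def, Finset.mul_sum, Finset.mul_sum, Finset.mul_sum]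
    refine Finset.sum_congr rfl fun n _ => ?_
    simp only [idemC, coeff_mkGA, blockCoeff, finsum_mem_singleton, mul_one]
    rw [irr_conj_eq θ.2, inv_inv]
    simp only [OneMemClass.coe_one]
    ring
  · simp [hχ]

theorem mul_idem_eq_zero_iff (B : Set (IrrCharacter G)) (θ : IrrCharacter N) :
    blockSum B * inclSub N (blockSum {θ}) = 0 ↔
      ∀ χ ∈ B, classInner (fun n : N => (χ : G → ℂ) n) (θ : N → ℂ) = 0 := by
  classical
  have := Fintype.ofFinite (IrrCharacter G)
  have hm : ∀ χ : IrrCharacter G, ∃ m : ℕ,
      classInner (θ : N → ℂ) (fun n : N => (χ : G → ℂ) n) = m := fun χ =>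
    CfsgLib.Char.classInner_isCharacter_nat (CfsgLib.Char.irr_isCharacter θ.2)
      (CfsgLib.Char.isCharacter_restrict (CfsgLib.Char.irr_isCharacter χ.2) N)
  choose m hm using hm
  have hsymm : ∀ χ : IrrCharacter G,
      classInner (fun n : N => (χ : G → ℂ) n) (θ : N → ℂ) = m χ := fun χ => by
    rw [← CfsgLib.Char.classInner_conj_symm, hm]
    simp
  have hd : ∀ χ : IrrCharacter G, ∃ d : ℕ, (χ : G → ℂ) 1 = d := fun χ =>
    CfsgLib.Char.char_apply_one_eq_nat (CfsgLib.Char.irr_isCharacter χ.2)
  choose d hd using hd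
  have hco := coeff_one_mul_idem B θ
  simp only [hm, hd] at hco
  rw [← Finset.sum_filter] at hco
  constructor
  · intro h χ hχ
    rw [h, coeff_zero, Finsupp.zero_apply] at hco
    have hs : ∑ x ∈ Finset.univ.filter (fun x : IrrCharacter G => x ∈ B),
        ((d x : ℂ) * (m x : ℂ)) = 0 := by
      rcases mul_eq_zero.1 hco.symm with h' | h'
      · rcases mul_eq_zero.1 h' with h'' | h''
        · exact absurd h'' (inv_ne_zero (Nat.cast_ne_zero.2 Nat.card_pos.ne'))
        · exact absurd h'' (CfsgLib.Char.irr_apply_one_ne_zero θ.2)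
      · exact h'
    have hs' : ∑ x ∈ Finset.univ.filter (fun x : IrrCharacter G => x ∈ B), d x * m x = 0 := by
      exact_mod_cast hs
    have := Finset.sum_eq_zero_iff.1 hs' χ (by simpa using hχ)
    rcases mul_eq_zero.1 this with h' | h'
    · exact absurd ((hd χ).trans (by rw [h', Nat.cast_zero]))
        (CfsgLib.Char.irr_apply_one_ne_zero χ.2)
    · rw [hsymm, h', Nat.cast_zero]
  · intro h
    refine eq_zero_of_idem_coeff_one ?_ ?_
    · have hc : ∀ x, x * blockSum B = blockSum B * x :=
        Subalgebra.mem_center_iff.1 (isClassCoeff_iff_mem_center.1 (blockSum_isClassCoeff B))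
      rw [mul_assoc, ← mul_assoc (inclSub N (blockSum {θ})), hc, mul_assoc, ← map_mul,
        blockSum_mul, Set.inter_self, ← mul_assoc, blockSum_mul, Set.inter_self]
    · rw [hco, Finset.sum_eq_zero, mul_zero]
      intro χ hχ
      have := h χ (by simpa using hχ)
      rw [hsymm, Nat.cast_eq_zero] at this
      simp [this]

/-- What is killed by a block is generated by a central idempotent. -/
theorem exists_kernel_idem (B : Set (IrrCharacter G)) :
    ∃ e : MonoidAlgebra ℂ N, IsClassCoeff e ∧ e * e = e ∧
      ∀ z : MonoidAlgebra ℂ N, blockSum B * inclSub N z = 0 ↔ z * e = z := by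
  have hc : ∀ x, x * blockSum B = blockSum B * x :=
    Subalgebra.mem_center_iff.1 (isClassCoeff_iff_mem_center.1 (blockSum_isClassCoeff B))
  have hleft : ∀ a z : MonoidAlgebra ℂ N, blockSum B * inclSub N z = 0 →
      blockSum B * inclSub N (a * z) = 0 := fun a z hz => by
    rw [map_mul, ← mul_assoc, ← hc, mul_assoc, hz, mul_zero]
  have hright : ∀ z a : MonoidAlgebra ℂ N, blockSum B * inclSub N z = 0 →
      blockSum B * inclSub N (z * a) = 0 := fun z a hz => by
    rw [map_mul, ← mul_assoc, hz, zero_mul]
  let K : Ideal (MonoidAlgebra ℂ N) :=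
    { carrier := {z | blockSum B * inclSub N z = 0}
      add_mem' := fun {a b} ha hb => by
        simp only [Set.mem_ofPred_eq] at ha hb ⊢
        rw [map_add, mul_add, ha, hb, add_zero]
      zero_mem' := by simp
      smul_mem' := fun a z hz => hleft a z hz }
  have hK : ∀ z, z ∈ K ↔ blockSum B * inclSub N z = 0 := fun z => Iff.rfl
  have : NeZero (Nat.card N : ℂ) := ⟨Nat.cast_ne_zero.2 Nat.card_pos.ne'⟩
  obtain ⟨e, he, hspan⟩ := IsSemisimpleRing.ideal_eq_span_idempotent K
  have heK : e ∈ K := by rw [hspan]; exact Ideal.subset_span rfl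
  have hr : ∀ z ∈ K, z * e = z := by
    intro z hz
    rw [hspan, Ideal.mem_span_singleton'] at hz
    obtain ⟨a, rfl⟩ := hz
    rw [mul_assoc, he.eq]
  have hl : ∀ x ∈ K, e * x = x := by
    intro x hx
    set z := e * x - x with hz
    have hzK : z ∈ K := K.sub_mem (K.mul_mem_left e hx) hx
    have hkill : ∀ y ∈ K, y * z = 0 := fun y hy => by
      rw [hz, mul_sub, ← mul_assoc, hr y hy, sub_self]
    have hsq : ∀ a, (a * z) * (a * z) = 0 := fun a => by
      rw [mul_assoc, hkill (z) hzK |> fun h => show z * (a * z) = 0 from by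
        rw [← mul_assoc, hkill (z * a) (hright z a hzK)], mul_zero]
    obtain ⟨e', he', hspan'⟩ := IsSemisimpleRing.ideal_eq_span_idempotent (Ideal.span {z})
    have hm : e' ∈ Ideal.span {z} := by rw [hspan']; exact Ideal.subset_span rfl
    obtain ⟨a, rfl⟩ := Ideal.mem_span_singleton'.1 hm
    have h0 : a * z = 0 := by rw [← he'.eq, hsq]
    have hzz : z ∈ Ideal.span {z} := Ideal.subset_span rfl
    rw [hspan', h0, Ideal.mem_span_singleton'] at hzz
    obtain ⟨b, hb⟩ := hzz
    rw [mul_zero] at hb
    exact sub_eq_zero.1 (hz.symm.trans hb.symm)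
  refine ⟨e, isClassCoeff_iff_mem_center.2 (Subalgebra.mem_center_iff.2 fun b => ?_), he.eq,
    fun z => ⟨fun hz => hr z hz, fun hz => by rw [← hz]; exact hleft z e heK⟩⟩
  calc b * e = e * (b * e) := (hl _ (K.mul_mem_left b heK)).symm
    _ = (e * b) * e := (mul_assoc _ _ _).symm
    _ = e * b := hr _ (hright e b heK)

theorem isAlgebraic_coeff_idem {e : MonoidAlgebra ℂ N} (he : IsClassCoeff e) (hee : e * e = e)
    (n : N) : IsAlgebraic ℤ (e.coeff n) := by
  classical
  have := Fintype.ofFinite (IrrCharacter N)
  have key : IsIntegral ℤ ((Nat.card N : ℂ) * e.coeff n) := by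
    conv in (e.coeff n) => rw [eq_sum_idemC he]
    simp only [coeff_sum, Finset.sum_apply', coeff_smul, Finsupp.smul_apply, smul_eq_mul,
      Finset.mul_sum]
    refine IsIntegral.sum _ fun θ _ => ?_
    have h01 : omegaC (θ : N → ℂ) e = 0 ∨ omegaC (θ : N → ℂ) e = 1 := by
      have h := omegaC_mul θ.2 he e
      rw [hee] at h
      exact IsIdempotentElem.iff_eq_zero_or_one.1 (show _ * _ = _ from h.symm)
    rcases h01 with h | h <;> rw [h]
    · simpa using isIntegral_zero
    · rw [one_mul]
      simp only [idemC, coeff_mkGA]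
      rw [← mul_assoc, mul_inv_cancel₀ (Nat.cast_ne_zero.2 Nat.card_pos.ne'), one_mul,
        irr_conj_eq θ.2]
      exact (irr_apply_isIntegral (CfsgLib.Char.irr_isCharacter θ.2) _).mul
        (irr_apply_isIntegral (CfsgLib.Char.irr_isCharacter θ.2) _)
  have h2 : IsAlgebraic ℤ ((Nat.card N : ℂ)⁻¹) := (isAlgebraic_natCast (R := ℤ) _).inv
  have h3 := h2.mul key.isAlgebraic
  rwa [← mul_assoc, inv_mul_cancel₀ (Nat.cast_ne_zero.2 Nat.card_pos.ne'), one_mul] at h3

variable {p : ℕ} [Fact p.Prime] {M : Ideal AlgInt} (hM : IsPModular p M)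

include hM in
theorem exists_dominant [M.IsPrime] {ι : Type*} (s : Finset ι) (c : ι → ℂ)
    (hc : ∀ i, IsAlgebraic ℤ (c i)) (hs : ∃ i ∈ s, c i ≠ 0) :
    ∃ j ∈ s, c j ≠ 0 ∧ ∀ i ∈ s, MemLocalRing M (c i / c j) := by
  classical
  induction s using Finset.induction with
  | empty => simp at hs
  | insert a s ha ih =>
      by_cases h : ∃ i ∈ s, c i ≠ 0
      · obtain ⟨j, hj, hj0, hmax⟩ := ih h
        rcases mem_or_inv_mem hM ((hc a).mul (hc j).inv) with h1 | h1
        · refine ⟨j, Finset.mem_insert_of_mem hj, hj0, fun i hi => ?_⟩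
          rcases Finset.mem_insert.1 hi with rfl | hi
          · rwa [div_eq_mul_inv]
          · exact hmax i hi
        · by_cases ha0 : c a = 0
          · refine ⟨j, Finset.mem_insert_of_mem hj, hj0, fun i hi => ?_⟩
            rcases Finset.mem_insert.1 hi with rfl | hi
            · rw [ha0, zero_div]; exact (lring M).zero_mem
            · exact hmax i hi
          refine ⟨a, Finset.mem_insert_self a s, ha0, fun i hi => ?_⟩
          rcases Finset.mem_insert.1 hi with rfl | hi
          · rw [div_self ha0]; exact (lring M).one_mem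
          · rw [show c i / c a = c i / c j * (c a * (c j)⁻¹)⁻¹ by field_simp]
            exact memLocalRing_mul (hmax i hi) h1
      · push Not at h
        obtain ⟨i, hi, hi0⟩ := hs
        rcases Finset.mem_insert.1 hi with rfl | hi'
        · refine ⟨i, hi, hi0, fun k hk => ?_⟩
          rcases Finset.mem_insert.1 hk with rfl | hk
          · rw [div_self hi0]; exact (lring M).one_mem
          · rw [h k hk, zero_div]; exact (lring M).zero_mem
        · exact absurd (h i hi') hi0

include hM in
/-- The kernel idempotent of a block has coefficients in the local ring. -/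
theorem memLocalRing_kernel_idem [M.IsPrime] {B : Set (IrrCharacter G)} (hB : IsPBlock M B)
    {e : MonoidAlgebra ℂ N} (he : IsClassCoeff e) (hee : e * e = e)
    (hker : ∀ z : MonoidAlgebra ℂ N, blockSum B * inclSub N z = 0 ↔ z * e = z) (n : N) :
    MemLocalRing M (e.coeff n) := by
  classical
  by_contra hn
  have hn0 : e.coeff n ≠ 0 := fun h => hn (by rw [h]; exact (lring M).zero_mem)
  obtain ⟨j, -, hj0, hmax⟩ := exists_dominant hM (Finset.univ : Finset N) (fun i => e.coeff i)
    (fun i => isAlgebraic_coeff_idem he hee i) ⟨n, Finset.mem_univ n, hn0⟩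
  set s := (e.coeff j)⁻¹ with hs
  have hsR : MemLocalRing M s := by
    rcases mem_or_inv_mem hM (isAlgebraic_coeff_idem he hee j) with h | h
    · exact absurd (by
        have := memLocalRing_mul (hmax n (Finset.mem_univ n)) h
        rwa [div_mul_cancel₀ _ hj0] at this) hn
    · exact h
  have hsI : MemLocalIdeal M s := by
    by_contra h
    refine hn ?_
    have h1 := inv_memLocalRing hsR h
    rw [hs, inv_inv] at h1
    have h2 := memLocalRing_mul (hmax n (Finset.mem_univ n)) h1
    rwa [div_mul_cancel₀ _ hj0] at h2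
  have hx : ∀ i, MemLocalRing M ((s • e).coeff i) := fun i => by
    have := hmax i (Finset.mem_univ i)
    rw [div_eq_inv_mul] at this
    simpa [hs] using this
  have hone : ∀ i, MemLocalRing M ((1 : MonoidAlgebra ℂ N).coeff i) := fun i =>
    (isLocalCentral_one (G := N)).2 i
  have hy : ∀ i, MemLocalRing M ((s • (1 - e)).coeff i) := fun i => by
    have h1 := (lring M).sub_mem (memLocalRing_mul hsR (hone i)) (hx i)
    simpa [mul_sub, mem_lring] using h1
  let ι := (lring M).subtype
  have hinj : ∀ (X : Type u) [Group X] [Finite X],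
      Function.Injective (mapRingHom X ι : MonoidAlgebra (lring M) X → MonoidAlgebra ℂ X) := by
    intro X _ _ a b hab
    ext i
    have := congrArg (fun z : MonoidAlgebra ℂ X => z.coeff i) hab
    simpa [ι] using this
  set f : MonoidAlgebra (lring M) G :=
    mkGA fun g => ⟨blockCoeff B g, blockCoeff_memLocalRing hM hB g⟩ with hf
  have hfι : mapRingHom G ι f = blockSum B := by ext g; simp [hf, blockSum, ι]
  set y : MonoidAlgebra (lring M) N := mkGA fun i => ⟨(s • (1 - e)).coeff i, hy i⟩ with hy'
  have hyι : mapRingHom N ι y = s • (1 - e) := by ext i; simp [hy', ι]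
  have hres : mapRingHom N (red M) y = 0 := by
    refine map_eq_zero_of_kills (f := f) (y := y) (red M) red_surjective ?_ ?_ ?_ ?_
    · intro g h
      apply Subtype.ext
      simpa [hf, blockSum] using blockSum_isClassCoeff B g h
    · refine hinj G ?_
      rw [map_mul, hfι, blockSum_mul, Set.inter_self]
    · intro z hz
      refine hinj N ?_
      have h1 := congrArg (mapRingHom G ι) hz
      rw [map_mul, hfι, map_zero, mapRingHom_inclSub] at h1
      rw [map_mul, hyι, map_zero, ← (hker _).1 h1, Algebra.mul_smul_comm, mul_assoc, mul_sub,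
        mul_one, hee, sub_self, mul_zero, smul_zero]
    · ext g
      rw [coeff_mapRingHom, coeff_zero, Finsupp.zero_apply, red_eq_zero]
      have h1 : ((f * inclSub N y).coeff g : ℂ) = (blockSum B * inclSub N (s • (1 - e))).coeff g := by
        rw [← hyι, ← hfι, ← mapRingHom_inclSub, ← map_mul, coeff_mapRingHom]
        rfl
      have h2 : blockSum B * inclSub N (s • (1 - e)) = s • blockSum B := by
        have hsm : inclSub N (s • (1 - e)) = s • inclSub N (1 - e) := by
          ext x
          by_cases hx : x ∈ N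
          · rw [coeff_smul, Finsupp.smul_apply, show x = ((⟨x, hx⟩ : N) : G) from rfl,
              coeff_inclSub_of_mem, coeff_inclSub_of_mem, coeff_smul, Finsupp.smul_apply]
          · rw [coeff_smul, Finsupp.smul_apply, coeff_inclSub_of_not_mem N _ hx,
              coeff_inclSub_of_not_mem N _ hx, smul_zero]
        rw [hsm, Algebra.mul_smul_comm, map_sub, map_one, mul_sub, mul_one, (hker e).2 hee,
          sub_zero]
      rw [h1, h2, coeff_smul, Finsupp.smul_apply, smul_eq_mul]
      exact memLocalIdeal_mul_right (blockCoeff_memLocalRing hM hB g |> fun h => by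
        simpa [blockSum] using h) hsI
  have hj' := congrArg (fun z : MonoidAlgebra (kres M) N => z.coeff j) hres
  simp only [coeff_mapRingHom, coeff_zero, Finsupp.zero_apply, red_eq_zero] at hj'
  have hj2 : MemLocalIdeal M ((s • (1 - e)).coeff j) := by simpa [hy'] using hj'
  have : MemLocalIdeal M (1 : ℂ) := by
    have h1 := memLocalIdeal_sub (memLocalIdeal_mul_right (hone j) hsI) hj2
    simpa [hs, mul_sub, inv_mul_cancel₀ hj0] using h1
  exact not_memLocalIdeal_one this

include hM in
/-- Every character of a covered block lies under a member of the covering block. -/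
theorem exists_over_of_covers [M.IsPrime] {B : Set (IrrCharacter G)} (hB : IsPBlock M B)
    {b : Set (IrrCharacter N)} (hb : IsPBlock M b) {θ ψ : IrrCharacter N} (hθ : θ ∈ b)
    (hψ : ψ ∈ b) {χ : IrrCharacter G} (hχ : χ ∈ B)
    (hc : classInner (fun n : N => (χ : G → ℂ) n) (ψ : N → ℂ) ≠ 0) :
    ∃ χ' ∈ B, classInner (fun n : N => (χ' : G → ℂ) n) (θ : N → ℂ) ≠ 0 := by
  classical
  by_contra hno
  push Not at hno
  obtain ⟨e, he, hee, hker⟩ := exists_kernel_idem (N := N) B
  have hloc : IsLocalCentral M e := ⟨he, memLocalRing_kernel_idem hM hB he hee hker⟩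
  have homega : ∀ η : IrrCharacter N, omegaC (η : N → ℂ) e =
      if blockSum B * inclSub N (blockSum {η}) = 0 then 1 else 0 := by
    intro η
    have h1 : omegaC (η : N → ℂ) (blockSum {η} * e) = omegaC (η : N → ℂ) e := by
      rw [omegaC_mul η.2 (blockSum_isClassCoeff _), omegaC_blockSum,
        if_pos (Set.mem_singleton η), one_mul]
    split
    · next h =>
        rw [← h1, (hker _).1 h, omegaC_blockSum, if_pos (Set.mem_singleton η)]
    · next h =>
        by_contra hne
        refine h ((hker _).2 ?_)
        have h01 : omegaC (η : N → ℂ) e = 0 ∨ omegaC (η : N → ℂ) e = 1 := by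
          have h := omegaC_mul η.2 he e
          rw [hee] at h
          exact IsIdempotentElem.iff_eq_zero_or_one.1 (show _ * _ = _ from h.symm)
        have hone := h01.resolve_left hne
        refine eq_of_omegaC_eq (isClassCoeff_iff_mem_center.2 (Subalgebra.mul_mem _
          (isClassCoeff_iff_mem_center.1 (blockSum_isClassCoeff _))
          (isClassCoeff_iff_mem_center.1 he))) (blockSum_isClassCoeff _) fun ξ => ?_
        rw [omegaC_mul ξ.2 (blockSum_isClassCoeff _), omegaC_blockSum]
        split
        · next h' => rw [Set.mem_singleton_iff.1 h', hone, one_mul]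
        · rw [zero_mul]
  have hsame : lam M θ = lam M ψ := lam_eq_of_sameBlock (sameBlock_of_mem hb hθ hψ)
  let z : Subalgebra.center (kres M) (MonoidAlgebra (kres M) N) :=
    ⟨redA M e, isClassCoeff_iff_mem_center.1 (redA_isClassCoeff he)⟩
  have h1 := AlgHom.congr_fun hsame z
  rw [lam_apply θ hloc z rfl, lam_apply ψ hloc z rfl, homega, homega,
    if_pos ((mul_idem_eq_zero_iff B θ).2 hno),
    if_neg (fun h => hc ((mul_idem_eq_zero_iff B ψ).1 h χ hχ)), redC_one, redC_zero] at h1
  exact one_ne_zero h1

end CfsgLib.BlockA
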