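import Cfsg.Agent.Lib.BlockA.SubsectionRow
import Cfsg.Agent.Lib.Block.PermTrace
import Mathlib.RingTheory.Polynomial.Eisenstein.IsIntegral
import Mathlib.RingTheory.Polynomial.Cyclotomic.Roots

/-!
Local divisibility by `p` in the ring of a root of unity of `p`-power order is divisibility of the
coefficients, and the averages of real elements for `p = 2`.
-/

set_option autoImplicit false
set_option linter.unusedSectionVars false

namespace CfsgLib.BlockA

open Cfsg CfsgLib.Block CfsgLib.BlockB Polynomial
open scoped ComplexConjugate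

variable {p : ℕ} {M : Ideal AlgInt} [M.IsPrime]

theorem memLocalRing_aeval {z : ℂ} (hz : MemLocalRing M z) (P : ℤ[X]) :
    MemLocalRing M (aeval z P) := by
  rw [aeval_eq_sum_range]
  refine memLocalRing_sum _ _ fun r _ => ?_
  rw [zsmul_eq_mul]
  exact memLocalRing_mul (memLocalRing_intCast _) ((lring M).pow_mem hz r)

/-- Evaluation near a point of the ideal is congruent to the constant coefficient. -/
theorem memLocalIdeal_aeval_sub {z : ℂ} (hz : MemLocalIdeal M z) (P : ℤ[X]) :
    MemLocalIdeal M (aeval z P - (P.coeff 0 : ℂ)) := by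
  have h : aeval z P - (P.coeff 0 : ℂ) = z * aeval z P.divX := by
    conv_lhs => rw [← X_mul_divX_add P]
    simp
  rw [h]
  exact memLocalIdeal_mul_right (memLocalRing_aeval (memLocalRing_of_memLocalIdeal hz) _) hz

theorem aeval_sub_one_comp (ζ : ℂ) (P : ℤ[X]) : aeval (ζ - 1) (P.comp (X + 1)) = aeval ζ P := by
  simp [aeval_comp]

/-- **Local divisibility by `p`.** -/
theorem exists_div_p (hM : IsPModular p M) {i : ℕ} {ζ : ℂ}
    (hζ : IsPrimitiveRoot ζ (p ^ (i + 1))) (P : ℤ[X])
    (hloc : MemLocalRing M (aeval ζ P / (p : ℂ))) :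
    ∃ Q : ℤ[X], aeval ζ P = (p : ℂ) * aeval ζ Q := by
  classical
  have := Fact.mk hM.1
  have hp0 : (p : ℂ) ≠ 0 := Nat.cast_ne_zero.2 hM.1.ne_zero
  set π := ζ - 1 with hπ
  have hπI : MemLocalIdeal M π := memLocalIdeal_root_sub_one hM hζ.pow_eq_one
  have hπ0 : π ≠ 0 := by
    rw [hπ, sub_ne_zero]
    intro h1
    have := hζ.eq_orderOf
    rw [h1, orderOf_one] at this
    exact absurd this (Nat.one_lt_pow (by omega) hM.1.one_lt).ne'
  set F := (cyclotomic (p ^ (i + 1)) ℤ).comp (X + 1) with hF
  have hFm : F.Monic := (cyclotomic.monic _ ℤ).comp (monic_X_add_C 1) (by rw [show (X + 1 : ℤ[X]).natDegree = 1 from natDegree_X_add_C 1]; exact one_ne_zero)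
  have hFdeg : F.natDegree = (p ^ (i + 1)).totient := by
    rw [hF, natDegree_comp, natDegree_cyclotomic,
      show (X + 1 : ℤ[X]).natDegree = 1 from natDegree_X_add_C 1, mul_one]
  set N := F.natDegree with hN
  have hN0 : N ≠ 0 := by
    rw [hFdeg]
    exact (Nat.totient_pos.2 (pow_pos hM.1.pos _)).ne'
  have hF0 : F.coeff 0 = (p : ℤ) := by
    rw [hF, coeff_zero_eq_eval_zero, eval_comp]
    simp [eval_one_cyclotomic_prime_pow]
  have hFdvd : ∀ r, r < N → (p : ℤ) ∣ F.coeff r := fun r hr =>
    Ideal.mem_span_singleton.1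
      ((cyclotomic_prime_pow_comp_X_add_one_isEisensteinAt (p := p) i).mem hr)
  -- `π ^ N = - p * S` with `S` congruent to `1`
  set S : ℤ[X] := ∑ r ∈ Finset.range N, C (F.coeff r / (p : ℤ)) * X ^ r with hS
  have hS0 : S.coeff 0 = 1 := by
    rw [hS, finsetSum_coeff, Finset.sum_eq_single 0]
    · rw [pow_zero, mul_one, coeff_C_zero, hF0]
      exact Int.ediv_self (by exact_mod_cast hM.1.ne_zero)
    · intro r _ hr
      rw [coeff_C_mul_X_pow, if_neg (Ne.symm hr)]
    · intro h
      exact absurd (Finset.mem_range.2 (Nat.pos_of_ne_zero hN0)) h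
  have hroot : aeval π F = 0 := by
    rw [hπ, hF, aeval_sub_one_comp, aeval_def, eval₂_eq_eval_map, map_cyclotomic]
    exact hζ.isRoot_cyclotomic (pow_pos hM.1.pos _)
  have hpow : π ^ N = -((p : ℂ) * aeval π S) := by
    have h := hroot
    rw [hFm.as_sum, ← hN, map_add, map_pow, aeval_X] at h
    rw [eq_neg_iff_add_eq_zero]
    refine Eq.trans ?_ h
    congr 1
    rw [hS, map_sum, map_sum, Finset.mul_sum]
    refine Finset.sum_congr rfl fun r hr => ?_
    simp only [map_mul, map_pow, aeval_X, eq_intCast, map_intCast]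
    rw [← mul_assoc]
    congr 1
    exact_mod_cast Int.mul_ediv_cancel' (hFdvd r (Finset.mem_range.1 hr))
  have hSu : ¬ MemLocalIdeal M (aeval π S) := by
    intro h
    have h1 := memLocalIdeal_sub h (memLocalIdeal_aeval_sub hπI S)
    rw [sub_sub_cancel, hS0] at h1
    exact hM.1.not_dvd_one ((memLocalIdeal_natCast_iff hM 1).1 (by simpa using h1))
  -- the reduced polynomial
  set R := (P.comp (X + 1)) %ₘ F with hR
  have hRv : aeval π R = aeval ζ P := by
    rw [hR, aeval_modByMonic_eq_self_of_root hroot, hπ, aeval_sub_one_comp]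
  have hRdeg : ∀ r, N ≤ r → R.coeff r = 0 := fun r hr => by
    refine coeff_eq_zero_of_natDegree_lt (lt_of_lt_of_le ?_ hr)
    exact natDegree_modByMonic_lt _ hFm fun h => hN0 (by rw [hN, h, natDegree_one])
  have hdiv : ∀ r, (p : ℤ) ∣ R.coeff r := by
    intro r
    induction r using Nat.strong_induction_on with
    | h j ih =>
      by_contra hj
      have hjN : j < N := not_le.1 fun h => hj (by rw [hRdeg j h]; exact dvd_zero _)
      set T : ℤ[X] := ∑ r ∈ Finset.range j, C (R.coeff r / (p : ℤ)) * X ^ r with hT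
      set W : ℤ[X] := ∑ r ∈ Finset.Ico j N, C (R.coeff r) * X ^ (r - j) with hW
      have hsplit : aeval π R = (p : ℂ) * aeval π T + π ^ j * aeval π W := by
        rw [aeval_eq_sum_range' (n := N) (natDegree_modByMonic_lt _ hFm
          fun h => hN0 (by rw [hN, h, natDegree_one])),
          ← Finset.sum_range_add_sum_Ico _ hjN.le, hT, hW, map_sum, map_sum, Finset.mul_sum,
          Finset.mul_sum]
        congr 1
        · refine Finset.sum_congr rfl fun r hr => ?_
          simp only [map_mul, map_pow, aeval_X, eq_intCast, map_intCast,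
            zsmul_eq_mul]
          rw [← mul_assoc]
          congr 1
          exact_mod_cast (Int.mul_ediv_cancel' (ih r (Finset.mem_range.1 hr))).symm
        · refine Finset.sum_congr rfl fun r hr => ?_
          simp only [map_mul, map_pow, aeval_X, eq_intCast, map_intCast,
            zsmul_eq_mul]
          rw [mul_left_comm, ← pow_add, Nat.add_sub_cancel' (Finset.mem_Ico.1 hr).1]
      have hW0 : W.coeff 0 = R.coeff j := by
        rw [hW, finsetSum_coeff, Finset.sum_eq_single j]
        · simp
        · intro r hr hne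
          rw [coeff_C_mul_X_pow, if_neg]
          have := (Finset.mem_Ico.1 hr).1
          omega
        · intro h
          exact absurd (Finset.mem_Ico.2 ⟨le_rfl, hjN⟩) h
      -- `W` is a multiple of `π`
      set L := aeval ζ P / (p : ℂ) - aeval π T with hL
      have hLm : MemLocalRing M L :=
        (lring M).sub_mem hloc (memLocalRing_aeval (memLocalRing_of_memLocalIdeal hπI) T)
      have hWS : aeval π W * aeval π S = -(π * (π ^ (N - j - 1) * L)) := by
        refine mul_left_cancel₀ (pow_ne_zero j hπ0) ?_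
        have hLe : π ^ j * aeval π W = (p : ℂ) * L := by
          rw [hL, mul_sub, mul_div_cancel₀ _ hp0, ← hRv, hsplit]
          ring
        have hπN : π ^ N = π ^ j * (π * π ^ (N - j - 1)) := by
          rw [← pow_succ', ← pow_add]
          congr 1
          omega
        rw [← mul_assoc, hLe]
        linear_combination L * hpow - L * hπN
      have hWI : MemLocalIdeal M (aeval π W) := by
        by_contra h
        have hWr := memLocalRing_aeval (memLocalRing_of_memLocalIdeal hπI) W
        have hSr := memLocalRing_aeval (memLocalRing_of_memLocalIdeal hπI) S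
        have hmem : MemLocalIdeal M (aeval π W * aeval π S) := by
          rw [hWS]
          exact memLocalIdeal_neg (memLocalIdeal_mul_right
            (memLocalRing_mul ((lring M).pow_mem (memLocalRing_of_memLocalIdeal hπI) _) hLm) hπI)
        have h0 := (redC_eq_zero_iff (memLocalRing_mul hWr hSr)).2 hmem
        rw [redC_mul hWr hSr] at h0
        rcases mul_eq_zero.1 h0 with h1 | h1
        · exact h ((redC_eq_zero_iff hWr).1 h1)
        · exact hSu ((redC_eq_zero_iff hSr).1 h1)
      have h1 := memLocalIdeal_sub hWI (memLocalIdeal_aeval_sub hπI W)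
      rw [sub_sub_cancel, hW0] at h1
      apply hj
      rcases Int.natAbs_eq (R.coeff j) with e | e
      · rw [e, Int.cast_natCast] at h1
        rw [e]
        exact Int.natCast_dvd_natCast.2 ((memLocalIdeal_natCast_iff hM _).1 h1)
      · rw [e, Int.cast_neg, Int.cast_natCast] at h1
        rw [e, dvd_neg]
        exact Int.natCast_dvd_natCast.2
          ((memLocalIdeal_natCast_iff hM _).1 (by simpa using memLocalIdeal_neg h1))
  refine ⟨(∑ r ∈ Finset.range N, C (R.coeff r / (p : ℤ)) * X ^ r).comp (X - 1), ?_⟩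
  rw [aeval_comp, map_sub, aeval_X, map_one, ← hπ, ← hRv, map_sum, Finset.mul_sum,
    aeval_eq_sum_range' (n := N) (natDegree_modByMonic_lt _ hFm
      fun h => hN0 (by rw [hN, h, natDegree_one]))]
  refine Finset.sum_congr rfl fun r _ => ?_
  simp only [map_mul, map_pow, aeval_X, eq_intCast, map_intCast, zsmul_eq_mul]
  rw [← mul_assoc]
  congr 1
  exact_mod_cast (Int.mul_ediv_cancel' (hdiv r)).symm

/-- **Local divisibility by a power of `p`.** -/
theorem exists_div_pow (hM : IsPModular p M) {i : ℕ} {ζ : ℂ}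
    (hζ : IsPrimitiveRoot ζ (p ^ (i + 1))) (P : ℤ[X]) (h : ℕ)
    (hloc : MemLocalRing M (aeval ζ P / ((p ^ h : ℕ) : ℂ))) :
    ∃ Q : ℤ[X], aeval ζ P = ((p ^ h : ℕ) : ℂ) * aeval ζ Q := by
  induction h generalizing P with
  | zero => exact ⟨P, by simp⟩
  | succ h ih =>
    have hp0 : (p : ℂ) ≠ 0 := Nat.cast_ne_zero.2 hM.1.ne_zero
    obtain ⟨P₁, hP₁⟩ := exists_div_p hM hζ P (by
      have := memLocalRing_mul hloc (memLocalRing_natCast (M := M) (p ^ h))
      convert this using 1
      push_cast
      field_simp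
      ring)
    obtain ⟨Q, hQ⟩ := ih P₁ (by
      convert hloc using 1
      rw [hP₁]
      push_cast
      field_simp
      ring)
    exact ⟨Q, by rw [hP₁, hQ]; push_cast; ring⟩

/-- **The average of a real element.** -/
theorem exists_average_real {M : Ideal AlgInt} [M.IsPrime] (hM : IsPModular 2 M) {i : ℕ} {ζ : ℂ}
    (hζ : IsPrimitiveRoot ζ (2 ^ (i + 1))) {n : ℕ} [NeZero n] (hn : 2 ^ (i + 1) ∣ n) (P : ℤ[X])
    (hreal : conj (aeval ζ P) = aeval ζ P) :
    ∃ A : ℤ, ∑ u : (ZMod n)ˣ, aeval (ζ ^ (u : ZMod n).val) P =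
        (Fintype.card (ZMod n)ˣ : ℂ) * (A : ℂ) ∧
      MemLocalIdeal M (aeval ζ P - (A : ℂ)) := by
  classical
  have := Fact.mk hM.1
  set N := 2 ^ i with hN
  have hN0 : 0 < N := pow_pos two_pos _
  have hζN : ζ ^ N = -1 := by
    have hsq : (ζ ^ N) ^ 2 = 1 := by
      rw [← pow_mul, hN, ← pow_succ, hζ.pow_eq_one]
    rcases sq_eq_one_iff.1 hsq with h | h
    · exact absurd h (hζ.pow_ne_one_of_pos_of_lt (by omega)
        (Nat.pow_lt_pow_right one_lt_two (by omega)))
    · exact h
  set F : ℤ[X] := X ^ N + C 1 with hF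
  have hFm : F.Monic := monic_X_pow_add_C _ hN0.ne'
  have hFd : F.natDegree = N := natDegree_X_pow_add_C
  set R := P %ₘ F with hR
  have hroot : ∀ u : ℕ, Odd u → aeval (ζ ^ u) F = 0 := fun u hu => by
    rw [hF, map_add, map_pow, aeval_X, aeval_C, ← pow_mul, mul_comm u N, pow_mul, hζN,
      hu.neg_one_pow]
    simp
  have hRd : R.natDegree < N := hFd ▸ natDegree_modByMonic_lt _ hFm fun h => by
    rw [h, natDegree_one] at hFd
    omega
  have hRv : ∀ u : ℕ, Odd u → aeval (ζ ^ u) P = ∑ r ∈ Finset.range N,
      (R.coeff r : ℂ) * (ζ ^ r) ^ u := fun u hu => by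
    rw [← aeval_modByMonic_eq_self_of_root (q := F) (hroot u hu), ← hR,
      aeval_eq_sum_range' hRd]
    refine Finset.sum_congr rfl fun r _ => ?_
    rw [zsmul_eq_mul, pow_right_comm]
  have hz1 : aeval ζ P = ∑ r ∈ Finset.range N, (R.coeff r : ℂ) * ζ ^ r := by
    have := hRv 1 odd_one
    simpa using this
  -- the coefficients are antisymmetric
  set D : ℤ[X] := ∑ r ∈ (Finset.range N).erase 0, C (R.coeff r + R.coeff (N - r)) * X ^ r with hD
  have hDd : ∀ r, N ≤ r → D.coeff r = 0 := fun r hr => by
    rw [hD, finsetSum_coeff]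
    refine Finset.sum_eq_zero fun j hj => ?_
    rw [coeff_C_mul_X_pow, if_neg]
    have := Finset.mem_range.1 (Finset.mem_of_mem_erase hj)
    omega
  have hconj : conj ζ = ζ⁻¹ := by
    rw [Complex.inv_eq_conj (hζ.norm'_eq_one (pow_ne_zero _ two_ne_zero))]
  have hζ0 : ζ ≠ 0 := hζ.ne_zero (pow_ne_zero _ two_ne_zero)
  have hDz : aeval ζ D = 0 := by
    have h := hreal
    rw [hz1, map_sum] at h
    simp only [map_mul, map_pow, map_intCast, hconj] at h
    rw [← Finset.add_sum_erase _ _ (Finset.mem_range.2 hN0),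
      ← Finset.add_sum_erase (Finset.range N) (fun r => (R.coeff r : ℂ) * ζ ^ r)
        (Finset.mem_range.2 hN0), pow_zero, pow_zero, add_right_inj] at h
    have hrefl : ∑ r ∈ (Finset.range N).erase 0, (R.coeff r : ℂ) * ζ⁻¹ ^ r =
        -∑ r ∈ (Finset.range N).erase 0, (R.coeff (N - r) : ℂ) * ζ ^ r := by
      rw [← Finset.sum_neg_distrib]
      refine Finset.sum_nbij' (fun r => N - r) (fun r => N - r) ?_ ?_ ?_ ?_ ?_
      · intro r hr
        simp only [Finset.coe_erase, Finset.coe_range, Set.mem_sdiff, Set.mem_Iio,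
          Set.mem_singleton_iff, Finset.mem_erase, Finset.mem_range] at hr ⊢
        omega
      · intro r hr
        simp only [Finset.coe_erase, Finset.coe_range, Set.mem_sdiff, Set.mem_Iio,
          Set.mem_singleton_iff, Finset.mem_erase, Finset.mem_range] at hr ⊢
        omega
      · intro r hr
        simp only [Finset.coe_erase, Finset.coe_range, Set.mem_sdiff, Set.mem_Iio,
          Set.mem_singleton_iff, Finset.mem_erase, Finset.mem_range] at hr
        omega
      · intro r hr
        simp only [Finset.coe_erase, Finset.coe_range, Set.mem_sdiff, Set.mem_Iio,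
          Set.mem_singleton_iff, Finset.mem_erase, Finset.mem_range] at hr
        omega
      · intro r hr
        simp only [Finset.mem_erase, Finset.mem_range] at hr
        rw [Nat.sub_sub_self hr.2.le]
        have e : ζ⁻¹ ^ r = -ζ ^ (N - r) := by
          have h1 : ζ ^ (N - r) * ζ ^ r = -1 := by
            rw [← pow_add, Nat.sub_add_cancel hr.2.le, hζN]
          rw [inv_pow]
          field_simp
          linear_combination h1
        rw [e]
        ring
    rw [hrefl] at h
    rw [hD, map_sum]
    simp only [map_add, map_mul, map_pow, aeval_X, aeval_C, eq_intCast, map_intCast, Int.cast_add,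
      add_mul, Finset.sum_add_distrib]
    linear_combination -h
  have hanti : ∀ r ∈ (Finset.range N).erase 0, R.coeff r + R.coeff (N - r) = 0 := by
    intro r hr
    have hD0 : D = 0 := by
      by_contra hne
      have hdvd := minpoly.isIntegrallyClosed_dvd (hζ.isIntegral (pow_pos two_pos _)) hDz
      have h1 := natDegree_le_of_dvd hdvd hne
      rw [← cyclotomic_eq_minpoly hζ (pow_pos two_pos _), natDegree_cyclotomic,
        Nat.totient_prime_pow Nat.prime_two (Nat.succ_pos i)] at h1
      have h2 : D.natDegree < N := by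
        by_contra hle
        exact leadingCoeff_ne_zero.2 hne (hDd _ (not_lt.1 hle))
      simp at h1
      omega
    have h := congrArg (fun q : ℤ[X] => q.coeff r) hD0
    simp only [hD, finsetSum_coeff, coeff_C_mul_X_pow, Finset.sum_ite_eq, hr, if_true,
      coeff_zero] at h
    exact h
  have hsum : ∑ r ∈ (Finset.range N).erase 0, R.coeff r = 0 := by
    have h1 : ∑ r ∈ (Finset.range N).erase 0, R.coeff (N - r) =
        ∑ r ∈ (Finset.range N).erase 0, R.coeff r := by
      refine Finset.sum_nbij' (fun r => N - r) (fun r => N - r) ?_ ?_ ?_ ?_ fun r hr => rfl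
      all_goals
        intro r hr
        simp only [Finset.coe_erase, Finset.coe_range, Set.mem_sdiff, Set.mem_Iio,
          Set.mem_singleton_iff, Finset.mem_erase, Finset.mem_range] at hr ⊢
        omega
    have h2 := Finset.sum_congr rfl hanti
    rw [Finset.sum_add_distrib, h1, Finset.sum_const_zero] at h2
    omega
  refine ⟨R.coeff 0, ?_, ?_⟩
  · have hodd : ∀ u : (ZMod n)ˣ, Odd (u : ZMod n).val := fun u =>
      Nat.Coprime.odd_of_left ((ZMod.val_coe_unit_coprime u).coprime_dvd_right
        ((dvd_pow_self 2 (Nat.succ_ne_zero i)).trans hn)).symm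
    rw [Finset.sum_congr rfl fun u _ => hRv _ (hodd u), Finset.sum_comm,
      Finset.sum_eq_single 0]
    · rw [pow_zero]
      simp [mul_comm]
    · intro r hr hr0
      rw [← Finset.mul_sum, sum_units_pow_two (i := i + 1)
        (by rw [← pow_mul, mul_comm, pow_mul, hζ.pow_eq_one, one_pow]) hn]
      have hrN := Finset.mem_range.1 hr
      have hlt : r < 2 ^ (i + 1) := by rw [pow_succ]; omega
      rw [if_neg (hζ.pow_ne_one_of_pos_of_lt hr0 hlt), if_neg (fun h => ?_)]
      · simp
      · rw [← hζN] at h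
        have := hζ.pow_inj hlt (Nat.pow_lt_pow_right one_lt_two (by omega)) h
        omega
    · intro h
      exact absurd (Finset.mem_range.2 hN0) h
  · rw [hz1, ← Finset.add_sum_erase _ _ (Finset.mem_range.2 hN0), pow_zero, mul_one,
      add_sub_cancel_left]
    have h0 : ((∑ r ∈ (Finset.range N).erase 0, R.coeff r : ℤ) : ℂ) = 0 := by
      rw [hsum, Int.cast_zero]
    rw [← sub_zero (∑ r ∈ (Finset.range N).erase 0, (R.coeff r : ℂ) * ζ ^ r), ← h0, Int.cast_sum,
      ← Finset.sum_sub_distrib]
    refine memLocalIdeal_sum _ _ fun r _ => ?_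
    rw [show (R.coeff r : ℂ) * ζ ^ r - (R.coeff r : ℂ) = (R.coeff r : ℂ) * (ζ ^ r - 1) by ring]
    exact memLocalIdeal_mul_left (memLocalRing_intCast _) (memLocalIdeal_root_sub_one hM (n := i + 1)
      (by rw [← pow_mul, mul_comm, pow_mul, hζ.pow_eq_one, one_pow]))

end CfsgLib.BlockA
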