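import Cfsg.Agent.Lib.BlockA.CentralDefect
import Cfsg.Agent.Lib.BlockA.SectionNonzero
import Cfsg.Agent.Lib.Block.FirstMain

/-! 2-blocks of defect one. -/

set_option autoImplicit false
set_option linter.unusedSectionVars false
set_option maxHeartbeats 1000000

namespace CfsgLib.BlockA

open Cfsg CfsgLib.Block MonoidAlgebra
open scoped ComplexConjugate

universe u

variable {G : Type u} [Group G] [Fintype G] {M : Ideal AlgInt} [M.IsPrime]

/-- An inducing block of the normalizer of a defect group is the First Main Theorem block. -/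
theorem induced_unique_defect {p : ℕ} (hM : IsPModular p M) {D H : Subgroup G}
    (hH : H = Subgroup.normalizer (D : Set G)) {B : Set (IrrCharacter G)} (hB : IsPBlock M B)
    (hBD : IsDefectGroup p M B D) {b : Set (IrrCharacter H)} (hb : IsInducedBlock M H b B) :
    IsDefectGroup p M b (D.subgroupOf H) ∧
      ∀ b' : Set (IrrCharacter H), IsInducedBlock M H b' B → b' = b := by
  subst hH
  obtain ⟨b₀, -, hbD, hind⟩ := firstMain_exists hM hB hBD
  have hD := isPGroup_defectGroup hM hB hBD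
  obtain rfl := firstMain_unique hM hD hbD hind hb
  exact ⟨hbD, fun b' hb' => firstMain_unique hM hD hbD hb hb'⟩

variable (hM : IsPModular 2 M) {x : G} (hx : orderOf x = 2)
  {B : Set (IrrCharacter G)} (hB : IsPBlock M B)
  (hBD : IsDefectGroup 2 M B (Subgroup.zpowers x))
  {b : Set (IrrCharacter ↥(Subgroup.centralizer ({x} : Set G)))}
  (hb : IsInducedBlock M (Subgroup.centralizer ({x} : Set G)) b B)

include hx in
theorem zpowers_involution {g : G} (hg : g ∈ Subgroup.zpowers x) : g = 1 ∨ g = x := by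
  obtain ⟨n, rfl⟩ := Subgroup.mem_zpowers_iff.1 hg
  have h2 : x ^ (2 : ℤ) = 1 := by
    rw [show (2 : ℤ) = ((2 : ℕ) : ℤ) from rfl, zpow_natCast, ← hx, pow_orderOf_eq_one]
  rcases Int.even_or_odd' n with ⟨k, rfl | rfl⟩
  · left; rw [zpow_mul, h2, one_zpow]
  · right; rw [zpow_add, zpow_mul, h2, one_zpow, one_mul, zpow_one]

include hx in
theorem normalizer_zpowers_involution :
    Subgroup.centralizer ({x} : Set G) =
      Subgroup.normalizer ((Subgroup.zpowers x : Subgroup G) : Set G) := by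
  ext g
  rw [Subgroup.mem_centralizer_singleton_iff, Subgroup.mem_normalizer_iff]
  constructor
  · intro h r
    have hfix : g * x * g⁻¹ = x := mul_inv_eq_iff_eq_mul.2 h
    constructor
    · intro hr
      rcases zpowers_involution hx hr with h0 | h0
      · rw [h0]; simp
      · rw [h0, hfix]; exact Subgroup.mem_zpowers x
    · intro hr
      rcases zpowers_involution hx hr with h1 | h1
      · rw [mul_inv_eq_one, mul_eq_left] at h1
        rw [h1]; exact one_mem _
      · rw [← hfix, mul_left_inj, mul_right_inj] at h1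
        rw [h1]; exact Subgroup.mem_zpowers x
  · intro h
    rcases zpowers_involution hx ((h x).1 (Subgroup.mem_zpowers x)) with h1 | h1
    · rw [mul_inv_eq_one, mul_eq_left] at h1
      rw [h1, orderOf_one] at hx
      omega
    · exact mul_inv_eq_iff_eq_mul.1 h1

include hM hx hB hBD hb

theorem defect_zpowers_centralizer :
    IsDefectGroup 2 M b ((Subgroup.zpowers x).subgroupOf (Subgroup.centralizer ({x} : Set G))) ∧
      (Subgroup.zpowers x).subgroupOf (Subgroup.centralizer ({x} : Set G)) ≤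
        Subgroup.center (Subgroup.centralizer ({x} : Set G)) ∧
      ∀ b' : Set (IrrCharacter ↥(Subgroup.centralizer ({x} : Set G))),
        IsInducedBlock M (Subgroup.centralizer ({x} : Set G)) b' B → b' = b := by
  obtain ⟨h1, h2⟩ := induced_unique_defect hM (normalizer_zpowers_involution hx) hB hBD hb
  refine ⟨h1, fun t ht => Subgroup.mem_center_iff.2 fun s => Subtype.ext ?_, h2⟩
  show (s : G) * (t : G) = (t : G) * (s : G)
  rcases zpowers_involution hx ht with h | h
  · rw [show (t : G) = 1 from h, one_mul, mul_one]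
  · rw [show (t : G) = x from h, Subgroup.mem_centralizer_singleton_iff.1 s.2]

/-- Members of `b` have `x` in their kernel up to sign. -/
theorem sign_involution (φ : IrrCharacter ↥(Subgroup.centralizer ({x} : Set G)))
    (z : Subgroup.centralizer ({x} : Set G)) (hz : (z : G) = x) :
    ∃ s : ℤ, (s = 1 ∨ s = -1) ∧ ∀ c : Subgroup.centralizer ({x} : Set G),
      (φ : ↥(Subgroup.centralizer ({x} : Set G)) → ℂ) (z * c) =
        (s : ℂ) * (φ : ↥(Subgroup.centralizer ({x} : Set G)) → ℂ) c := by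
  have := Fintype.ofFinite (Subgroup.centralizer ({x} : Set G))
  have hzc : ∀ w, z * w = w * z := fun w => Subtype.ext (by
    show (z : G) * (w : G) = (w : G) * (z : G)
    rw [hz, Subgroup.mem_centralizer_singleton_iff.1 w.2])
  have hzz : z * z = 1 := Subtype.ext (by
    show (z : G) * (z : G) = 1
    rw [hz, ← pow_two, ← hx, pow_orderOf_eq_one])
  set r := (φ : ↥(Subgroup.centralizer ({x} : Set G)) → ℂ) z /
    (φ : ↥(Subgroup.centralizer ({x} : Set G)) → ℂ) 1 with hr
  have h2 : r * r = 1 := by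
    have h := irr_central_mul φ hzc z
    rw [hzz] at h
    rw [hr, div_mul_div_comm]
    rw [div_mul_eq_mul_div, eq_div_iff (CfsgLib.Char.irr_apply_one_ne_zero φ.2)] at h
    rw [← h, div_self]
    exact mul_ne_zero (CfsgLib.Char.irr_apply_one_ne_zero φ.2)
      (CfsgLib.Char.irr_apply_one_ne_zero φ.2)
  rcases mul_self_eq_one_iff.1 h2 with h | h
  · exact ⟨1, Or.inl rfl, fun c => by rw [irr_central_mul φ hzc c, ← hr, h]; simp⟩
  · exact ⟨-1, Or.inr rfl, fun c => by rw [irr_central_mul φ hzc c, ← hr, h]; simp⟩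

/-- The values on the section of `x`. -/
theorem exists_section_int {θ : IrrCharacter ↥(Subgroup.centralizer ({x} : Set G))} (hθ : θ ∈ b)
    {χ : IrrCharacter G} (hχ : χ ∈ B) :
    ∃ a : ℤ, (∀ y : Subgroup.centralizer ({x} : Set G), ¬ 2 ∣ orderOf y →
        (χ : G → ℂ) (x * (y : G)) =
          (a : ℂ) * (θ : ↥(Subgroup.centralizer ({x} : Set G)) → ℂ) y) ∧
      (blockHeight 2 B (χ : G → ℂ) = 0 → a ≠ 0) := by
  classical
  have := Fintype.ofFinite (Subgroup.centralizer ({x} : Set G))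
  have := Fintype.ofFinite (IrrCharacter ↥(Subgroup.centralizer ({x} : Set G)))
  obtain ⟨hD, hZ, huniq⟩ := defect_zpowers_centralizer hM hx hB hBD hb
  set z : Subgroup.centralizer ({x} : Set G) :=
    ⟨x, Subgroup.mem_centralizer_singleton_iff.2 rfl⟩ with hzdef
  have hint : ∀ φ : IrrCharacter ↥(Subgroup.centralizer ({x} : Set G)), ∃ n : ℤ,
      classInner (fun c : Subgroup.centralizer ({x} : Set G) => (χ : G → ℂ) (x * (c : G)))
        (φ : ↥(Subgroup.centralizer ({x} : Set G)) → ℂ) = (n : ℂ) := by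
    intro φ
    obtain ⟨s, hs, hsz⟩ := sign_involution hM hx hB hBD hb φ z rfl
    obtain ⟨n, hn⟩ := CfsgLib.Char.classInner_isCharacter_nat
      (CfsgLib.Char.isCharacter_restrict (CfsgLib.Char.irr_isCharacter χ.2)
        (Subgroup.centralizer ({x} : Set G))) (CfsgLib.Char.irr_isCharacter φ.2)
    refine ⟨s * n, ?_⟩
    rw [Int.cast_mul, Int.cast_natCast, ← hn, CfsgLib.Char.classInner_def,
      CfsgLib.Char.classInner_def, mul_left_comm]
    congr 1
    rw [Finset.mul_sum]
    refine Fintype.sum_equiv (Equiv.mulLeft z) _ _ fun c => ?_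
    simp only [Equiv.coe_mulLeft, hsz, map_mul, map_intCast]
    have hss : (s : ℂ) * s = 1 := by rcases hs with rfl | rfl <;> simp
    calc (χ : G → ℂ) (x * (c : G)) * conj ((φ : ↥(Subgroup.centralizer ({x} : Set G)) → ℂ) c)
        = ((s : ℂ) * s) * ((χ : G → ℂ) (x * (c : G)) *
          conj ((φ : ↥(Subgroup.centralizer ({x} : Set G)) → ℂ) c)) := by rw [hss, one_mul]
      _ = _ := by
          rw [show (((z * c : Subgroup.centralizer ({x} : Set G))) : G) = x * (c : G) from rfl]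
          ring
  choose n hn using hint
  refine ⟨∑ φ ∈ b.toFinite.toFinset, n φ, ?_⟩
  have hval : ∀ y : Subgroup.centralizer ({x} : Set G), ¬ 2 ∣ orderOf y →
      blockPart b (fun c : Subgroup.centralizer ({x} : Set G) => (χ : G → ℂ) (x * (c : G))) y =
        ((∑ φ ∈ b.toFinite.toFinset, n φ : ℤ) : ℂ) *
          (θ : ↥(Subgroup.centralizer ({x} : Set G)) → ℂ) y := by
    intro y hy
    simp only [blockPart, finsum_mem_eq_finite_toFinset_sum _ b.toFinite]
    rw [Int.cast_sum, Finset.sum_mul]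
    refine Finset.sum_congr rfl fun φ hφ => ?_
    rw [← regular_eq_of_central_defect hM hb.1 hD hZ (by simpa using hφ) hθ hy, ← hn φ]
    congr 1
    unfold classInner
    congr
    exact Subsingleton.elim _ _
  have hx2 : ∃ k : ℕ, orderOf x = 2 ^ k := ⟨1, by rw [hx, pow_one]⟩
  refine ⟨fun y hy => ?_, fun h0 ha => ?_⟩
  · rw [← hval y hy]
    have h := sum_inducing_blockPart hM hx2 hB χ hy
    rw [if_pos hχ] at h
    rw [← h]
    refine Finset.sum_eq_single_of_mem b
      (Finset.mem_filter.2 ⟨mem_allBlocks.2 hb.1, hb⟩) fun b' hb' hne => ?_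
    exact absurd (huniq b' (Finset.mem_filter.1 hb').2) hne
  · obtain ⟨y, hy, hne⟩ := exists_blockPart_ne_zero hM hχ h0 hx2 hb
    exact hne (by rw [hval y hy, ha, Int.cast_zero, zero_mul])

/-- Every member has a nonzero coefficient. -/
theorem section_coeff_ne_zero {θ : IrrCharacter ↥(Subgroup.centralizer ({x} : Set G))}
    (hθ : θ ∈ b) {χ : IrrCharacter G} (hχ : χ ∈ B) {a : ℤ}
    (ha : ∀ y : Subgroup.centralizer ({x} : Set G), ¬ 2 ∣ orderOf y →
        (χ : G → ℂ) (x * (y : G)) =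
          (a : ℂ) * (θ : ↥(Subgroup.centralizer ({x} : Set G)) → ℂ) y) : a ≠ 0 := by
  classical
  intro ha0
  subst ha0
  have hsing : ∀ g : G, 2 ∣ orderOf g → (χ : G → ℂ) g = 0 := by
    intro g hg
    obtain ⟨u, hu⟩ := exists_isPPart hM.1 g
    by_cases hconj : IsConj u x
    · obtain ⟨c, hc⟩ := isConj_iff.1 hconj
      have hu' := isPPart_conj hu c
      rw [hc] at hu'
      obtain ⟨y, hxy, hcomm, -, hy⟩ := hu'
      have h := ha ⟨y, Subgroup.mem_centralizer_singleton_iff.2 hcomm.eq.symm⟩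
        (by rwa [← Subgroup.orderOf_coe])
      have h' : (χ : G → ℂ) (x * y) = 0 := by simpa using h
      rw [hxy, CfsgLib.Char.irr_isClassFunction χ.2 g c] at h'
      exact h'
    · refine irr_apply_eq_zero_of_not_mem_defect hM hB hu (fun D hD hmem => ?_) hχ
      obtain ⟨w, rfl⟩ := defectGroup_exists_conj hM hB hBD hD
      obtain ⟨t, ht, htw⟩ := hmem
      rcases zpowers_involution hx ht with rfl | rfl
      · obtain ⟨v, hv, -, -, hv'⟩ := hu
        rw [← htw, map_one, one_mul] at hv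
        exact hv' (hv ▸ hg)
      · exact hconj (isConj_iff.2 ⟨w⁻¹, by
          rw [← htw]
          show w⁻¹ * (w * t * w⁻¹) * w⁻¹⁻¹ = t
          group⟩)
  obtain ⟨ψ, hψ, hψ0⟩ := exists_height_zero hM hB
  by_cases hne : χ = ψ
  · subst hne
    obtain ⟨a', ha', ha'0⟩ := exists_section_int hM hx hB hBD hb hθ hχ
    refine ha'0 hψ0 (Int.cast_eq_zero (α := ℂ) |>.1 ?_)
    have h1 : ¬ 2 ∣ orderOf (1 : Subgroup.centralizer ({x} : Set G)) := by simp
    have e := (ha 1 h1).symm.trans (ha' 1 h1)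
    rw [Int.cast_zero, zero_mul, eq_comm, mul_eq_zero] at e
    exact e.resolve_right (CfsgLib.Char.irr_apply_one_ne_zero θ.2)
  · refine (lam_regZ_ne_zero_iff hM hB hψ hχ).2 hψ0 ?_
    rw [lam_regZ, omegaC_eq]
    have h1 := CfsgLib.Char.irr_classInner_ne χ.2 ψ.2 (fun e => hne (Subtype.ext e))
    rw [CfsgLib.Char.classInner_def, mul_eq_zero,
      or_iff_right (inv_ne_zero CfsgLib.Char.natCard_ne_zero)] at h1
    have h2 : ∑ g : G, (regSum 2 (ψ : G → ℂ)).coeff g * (χ : G → ℂ) g = 0 := by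
      rw [← h1]
      refine Finset.sum_congr rfl fun g _ => ?_
      rw [coeff_regSum, irr_conj_eq ψ.2]
      split_ifs with hg
      · rw [hsing g hg, zero_mul, zero_mul]
      · rw [mul_comm]
    rw [h2, zero_div, redC_zero]

/-- **2-blocks of defect one.** -/
theorem defect_one_two {θ : IrrCharacter ↥(Subgroup.centralizer ({x} : Set G))} (hθ : θ ∈ b) :
    Nat.card B = 2 ∧ (∀ χ ∈ B, ∀ ψ ∈ B, ∀ g : G, ¬ 2 ∣ orderOf g →
        (χ : G → ℂ) g = (ψ : G → ℂ) g) ∧
      ∃ χ₁ ∈ B, ∃ χ₂ ∈ B, χ₁ ≠ χ₂ ∧ ∃ ε₁ ε₂ : ℤ, (ε₁ = 1 ∨ ε₁ = -1) ∧ (ε₂ = 1 ∨ ε₂ = -1) ∧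
        ε₁ * ε₂ = -1 ∧
        ∀ y : ↥(Subgroup.centralizer ({x} : Set G)), ¬ 2 ∣ orderOf y →
          (χ₁ : G → ℂ) (x * y) =
              (ε₁ : ℂ) * (θ : ↥(Subgroup.centralizer ({x} : Set G)) → ℂ) y ∧
            (χ₂ : G → ℂ) (x * y) =
              (ε₂ : ℂ) * (θ : ↥(Subgroup.centralizer ({x} : Set G)) → ℂ) y := by
  classical
  have := Fintype.ofFinite (Subgroup.centralizer ({x} : Set G))
  obtain ⟨hD, hZ, huniq⟩ := defect_zpowers_centralizer hM hx hB hBD hb
  have hex : ∀ χ : B, ∃ a : ℤ, a ≠ 0 ∧ ∀ y : Subgroup.centralizer ({x} : Set G),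
      ¬ 2 ∣ orderOf y → ((χ : IrrCharacter G) : G → ℂ) (x * (y : G)) =
          (a : ℂ) * (θ : ↥(Subgroup.centralizer ({x} : Set G)) → ℂ) y := fun χ => by
    obtain ⟨a, h1, -⟩ := exists_section_int hM hx hB hBD hb hθ χ.2
    exact ⟨a, section_coeff_ne_zero hM hx hB hBD hb hθ χ.2 h1, h1⟩
  choose a ha0 ha using hex
  have hx2 : ∃ k : ℕ, orderOf x = 2 ^ k := ⟨1, by rw [hx, pow_one]⟩
  have h1 : ¬ 2 ∣ orderOf (1 : Subgroup.centralizer ({x} : Set G)) := by simp
  have hθ1 := CfsgLib.Char.irr_apply_one_ne_zero θ.2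
  have := Fintype.ofFinite B
  have hbcard : b.toFinite.toFinset.card = 2 := by
    rw [← Nat.card_eq_card_finite_toFinset, natCard_block_of_central_defect hM hb.1 hD hZ,
      Nat.card_congr (Subgroup.subgroupOfEquivOfLe (Subgroup.zpowers_le.2
        (Subgroup.mem_centralizer_singleton_iff.2 rfl) :
          Subgroup.zpowers x ≤ Subgroup.centralizer ({x} : Set G))).toEquiv,
      Nat.card_zpowers, hx]
  have hsq : ∑ χ : B, (a χ) ^ 2 = 2 := by
    have h := sum_sq_section hM hx2 hB (y := (1 : Subgroup.centralizer ({x} : Set G))) h1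
    have hR : ∑ φ ∈ b.toFinite.toFinset,
        (φ : ↥(Subgroup.centralizer ({x} : Set G)) → ℂ) 1 *
          conj ((φ : ↥(Subgroup.centralizer ({x} : Set G)) → ℂ) 1) =
        ((2 : ℕ) : ℂ) * ((θ : ↥(Subgroup.centralizer ({x} : Set G)) → ℂ) 1 *
          conj ((θ : ↥(Subgroup.centralizer ({x} : Set G)) → ℂ) 1)) := by
      rw [← hbcard, ← nsmul_eq_mul, ← Finset.sum_const]
      refine Finset.sum_congr rfl fun φ hφ => ?_
      rw [regular_eq_of_central_defect hM hb.1 hD hZ ((Set.Finite.mem_toFinset _).1 hφ) hθ h1]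
    rw [Finset.sum_eq_single_of_mem b (Finset.mem_filter.2 ⟨mem_allBlocks.2 hb.1, hb⟩)
      (fun b' hb' hne => absurd (huniq b' (Finset.mem_filter.1 hb').2) hne), hR,
      Finset.sum_subtype B.toFinite.toFinset (p := (· ∈ B)) (by simp)] at h
    have h2 : ((∑ χ : B, (a χ) ^ 2 : ℤ) : ℂ) *
        ((θ : ↥(Subgroup.centralizer ({x} : Set G)) → ℂ) 1 *
          conj ((θ : ↥(Subgroup.centralizer ({x} : Set G)) → ℂ) 1)) =
        ((2 : ℤ) : ℂ) * ((θ : ↥(Subgroup.centralizer ({x} : Set G)) → ℂ) 1 *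
          conj ((θ : ↥(Subgroup.centralizer ({x} : Set G)) → ℂ) 1)) := by
      rw [show ((2 : ℤ) : ℂ) = ((2 : ℕ) : ℂ) by norm_num, ← h, Int.cast_sum, Finset.sum_mul]
      refine Finset.sum_congr rfl fun χ _ => ?_
      rw [ha χ 1 h1, map_mul, map_intCast, Int.cast_pow]
      ring
    exact_mod_cast mul_right_cancel₀ (mul_ne_zero hθ1 (by simpa using hθ1)) h2
  have hge : ∀ χ : B, (1 : ℤ) ≤ (a χ) ^ 2 := fun χ => by
    have : (0 : ℤ) < (a χ) ^ 2 := by
      have := ha0 χ
      positivity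
    omega
  have horth : ∀ g : G, ¬ 2 ∣ orderOf g →
      ∑ χ : B, ((χ : IrrCharacter G) : G → ℂ) g * (a χ : ℂ) = 0 := by
    intro g hg
    have hsing : 2 ∣ orderOf x := by rw [hx]
    have h := sum_block_eq_zero_of_regular_singular hM hB hg hsing
    rw [finsum_mem_eq_finite_toFinset_sum _ B.toFinite,
      Finset.sum_subtype B.toFinite.toFinset (p := (· ∈ B)) (by simp)] at h
    refine (mul_eq_zero.1 (?_ : _ * conj ((θ : ↥(Subgroup.centralizer ({x} : Set G)) → ℂ) 1) = 0)
      ).resolve_right (by simpa using hθ1)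
    rw [Finset.sum_mul, ← h]
    refine Finset.sum_congr rfl fun χ _ => ?_
    have e := ha χ 1 h1
    rw [OneMemClass.coe_one, mul_one] at e
    rw [e, map_mul, map_intCast]
    ring
  have hle : Fintype.card B ≤ 2 := by
    have h := Finset.sum_le_sum (s := Finset.univ) fun (χ : B) _ => hge χ
    rw [hsq, Finset.sum_const, Finset.card_univ, nsmul_eq_mul, mul_one] at h
    exact_mod_cast h
  have hdeg : ∀ χ : IrrCharacter G, (charDegree (χ : G → ℂ) : ℂ) = (χ : G → ℂ) 1 := fun χ =>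
    charDegree_cast (CfsgLib.Char.irr_isCharacter χ.2)
  have hg1 : ¬ 2 ∣ orderOf (1 : G) := by simp
  obtain ⟨φ₀, hφ₀⟩ := isPBlock_nonempty hB
  have hne1 : Fintype.card B ≠ 1 := by
    intro h
    obtain ⟨χ, hχ⟩ := Fintype.card_eq_one_iff.1 h
    have e := horth 1 hg1
    rw [Finset.sum_eq_single χ (fun c _ hc => absurd (hχ c) hc) (by simp), mul_eq_zero,
      Int.cast_eq_zero] at e
    exact e.elim (CfsgLib.Char.irr_apply_one_ne_zero χ.1.2) (ha0 χ)
  have hpos : 0 < Fintype.card B := Fintype.card_pos_iff.2 ⟨⟨φ₀, hφ₀⟩⟩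
  have hcard : Fintype.card B = 2 := by omega
  obtain ⟨χ₁, χ₂, hne, huniv⟩ := Finset.card_eq_two.1
    (show (Finset.univ : Finset B).card = 2 by rw [Finset.card_univ, hcard])
  rw [huniv, Finset.sum_pair hne] at hsq
  have hs1 : (a χ₁) ^ 2 = 1 := by have := hge χ₁; have := hge χ₂; omega
  have hs2 : (a χ₂) ^ 2 = 1 := by have := hge χ₁; have := hge χ₂; omega
  have horth2 : ∀ g : G, ¬ 2 ∣ orderOf g →
      ((χ₁ : IrrCharacter G) : G → ℂ) g * (a χ₁ : ℂ) +
        ((χ₂ : IrrCharacter G) : G → ℂ) g * (a χ₂ : ℂ) = 0 := fun g hg => by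
    have h := horth g hg
    rwa [huniv, Finset.sum_pair hne] at h
  have hmul : a χ₁ * a χ₂ = -1 := by
    rcases sq_eq_one_iff.1 hs1 with h | h <;> rcases sq_eq_one_iff.1 hs2 with h' | h'
    all_goals first
      | (rw [h, h']; norm_num; done)
      | (exfalso
         have e := horth2 1 hg1
         rw [h, h', ← hdeg, ← hdeg] at e
         push_cast at e
         have e' : ((charDegree ((χ₁ : IrrCharacter G) : G → ℂ) +
            charDegree ((χ₂ : IrrCharacter G) : G → ℂ) : ℕ) : ℂ) = 0 := by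
           push_cast
           linear_combination e
         rw [Nat.cast_eq_zero, add_eq_zero] at e'
         exact charDegree_ne_zero χ₁.1.2 e'.1)
      | (exfalso
         have e := horth2 1 hg1
         rw [h, h', ← hdeg, ← hdeg] at e
         push_cast at e
         have e' : ((charDegree ((χ₁ : IrrCharacter G) : G → ℂ) +
            charDegree ((χ₂ : IrrCharacter G) : G → ℂ) : ℕ) : ℂ) = 0 := by
           push_cast
           linear_combination -e
         rw [Nat.cast_eq_zero, add_eq_zero] at e'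
         exact charDegree_ne_zero χ₁.1.2 e'.1)
  have hagree : ∀ g : G, ¬ 2 ∣ orderOf g →
      ((χ₁ : IrrCharacter G) : G → ℂ) g = ((χ₂ : IrrCharacter G) : G → ℂ) g := by
    intro g hg
    have e := horth2 g hg
    have hm : (a χ₁ : ℂ) * (a χ₂ : ℂ) = -1 := by exact_mod_cast hmul
    have hq : (a χ₁ : ℂ) ^ 2 = 1 := by exact_mod_cast hs1
    linear_combination (a χ₁ : ℂ) * e - ((χ₁ : IrrCharacter G) : G → ℂ) g * hq -
      ((χ₂ : IrrCharacter G) : G → ℂ) g * hm
  refine ⟨by rw [Nat.card_eq_fintype_card, hcard], ?_, χ₁, χ₁.2, χ₂, χ₂.2,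
    fun h => hne (Subtype.ext h), a χ₁, a χ₂, sq_eq_one_iff.1 hs1, sq_eq_one_iff.1 hs2, hmul,
    fun y hy => ⟨ha χ₁ y hy, ha χ₂ y hy⟩⟩
  intro χ hχ ψ hψ g hg
  have hall : ∀ t : B, ((t : IrrCharacter G) : G → ℂ) g = ((χ₁ : IrrCharacter G) : G → ℂ) g := by
    intro t
    have ht : t ∈ ({χ₁, χ₂} : Finset B) := huniv ▸ Finset.mem_univ t
    rcases Finset.mem_insert.1 ht with h | h
    · rw [h]
    · rw [Finset.mem_singleton.1 h, hagree g hg]
  exact (hall ⟨χ, hχ⟩).trans (hall ⟨ψ, hψ⟩).symm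

end CfsgLib.BlockA
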