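import Cfsg.Agent.Lib.Block.DefectOrder
import Cfsg.Agent.Lib.Block.DefectClass
import Cfsg.Agent.Lib.Block.Orthogonality

/-! The central characters of the blocks of one defect on the regular classes of that defect. -/

set_option autoImplicit false
set_option linter.unusedSectionVars false

namespace CfsgLib.BlockA

open Cfsg CfsgLib.Block MonoidAlgebra

universe u

/-- A natural number which is a unit multiple of `n` at `M` has the `p`-part of `n`. -/
theorem factorization_eq_of_unit_mul {p : ℕ} {M : Ideal AlgInt} [M.IsPrime] (hM : IsPModular p M)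
    {S n : ℕ} (hn : n ≠ 0) {A : ℂ} (hA : MemLocalRing M A) (hA' : ¬ MemLocalIdeal M A)
    (h : (S : ℂ) = (n : ℂ) * A) : S.factorization p = n.factorization p := by
  have hn' : (n : ℂ) ≠ 0 := Nat.cast_ne_zero.2 hn
  have e : A = (S : ℂ) / (n : ℂ) := by rw [h, mul_div_cancel_left₀ _ hn']
  rcases lt_trichotomy (S.factorization p) (n.factorization p) with hlt | heq | hgt
  · have hS : S ≠ 0 := by
      rintro rfl
      rw [Nat.cast_zero, zero_div] at e
      exact hA' (e ▸ memLocalIdeal_zero)
    refine absurd ?_ (not_memLocalIdeal_one (M := M))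
    have h1 := memLocalIdeal_mul_right hA (memLocalIdeal_natCast_div hM hS (a := n) (Or.inr hlt))
    have e2 : (n : ℂ) / (S : ℂ) * A = 1 := by
      rw [e]
      field_simp
    rwa [e2] at h1
  · exact heq
  · exact absurd (e ▸ memLocalIdeal_natCast_div hM hn (Or.inr hgt)) hA'

variable {G : Type u} [Group G] [Finite G] {p : ℕ} [Fact p.Prime] {M : Ideal AlgInt} [M.IsPrime]
  (hM : IsPModular p M)
include hM

/-- Only regular classes of defect `d` contribute. -/
theorem lam_blkIdem_eq_sum_defect [Fintype (ConjClasses G)] {B B' : Set (IrrCharacter G)}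
    (hB : IsPBlock M B) (hB' : IsPBlock M B') (hd : blockDefect p B' = blockDefect p B)
    {χ : IrrCharacter G} (hχ : χ ∈ B) {C : ConjClasses G}
    (hC : (blkIdem M B' : MonoidAlgebra (kres M) G).coeff C.out *
      lam M χ (classSumZ (kres M) C.out) ≠ 0) :
    ¬ p ∣ orderOf C.out ∧
      (Nat.card (Subgroup.centralizer ({C.out} : Set G))).factorization p = blockDefect p B := by
  have hp : p.Prime := Fact.out
  have hc := left_ne_zero_of_mul hC
  have hl := right_ne_zero_of_mul hC
  refine ⟨fun h => hc (blkIdem_coeff_eq_zero_of_singular hM hB' h), le_antisymm ?_ ?_⟩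
  · obtain ⟨g, hg⟩ := exists_isDefectClass hM hB'
    obtain ⟨P⟩ := (inferInstance : Nonempty (Sylow p (Subgroup.centralizer ({g} : Set G))))
    obtain ⟨Q⟩ := (inferInstance : Nonempty (Sylow p (Subgroup.centralizer ({C.out} : Set G))))
    obtain ⟨x, hx⟩ := exists_le_conj_defect hM hB' hg P hc (isPGroup_cenSub C.out Q)
      (cenSub_le C.out _)
    have := Subgroup.card_le_of_le hx
    rw [natCard_map_conj, natCard_cenSub, natCard_cenSub, ← blockDefect_eq hM hB' hg, hd] at this
    exact (Nat.pow_le_pow_iff_right hp.one_lt).1 this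
  · obtain ⟨g, hg⟩ := exists_isDefectClass hM hB
    obtain ⟨P⟩ := (inferInstance : Nonempty (Sylow p (Subgroup.centralizer ({g} : Set G))))
    obtain ⟨Q⟩ := (inferInstance : Nonempty (Sylow p (Subgroup.centralizer ({C.out} : Set G))))
    obtain ⟨x, hx⟩ := exists_defect_le_conj hM hB hg P hχ hl Q
    have := Subgroup.card_le_of_le hx
    rw [natCard_map_conj, natCard_cenSub, natCard_cenSub, ← blockDefect_eq hM hB hg] at this
    exact (Nat.pow_le_pow_iff_right hp.one_lt).1 this

/-- Blocks of defect `d` are separated by the regular classes of defect `d`. -/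
theorem mem_of_congr_defect {χ ψ : IrrCharacter G} {d : ℕ}
    (hχ : blockDefect p (blockOf M (χ : G → ℂ)) = d)
    (hψ : blockDefect p (blockOf M (ψ : G → ℂ)) = d)
    (h : ∀ x : G, ¬ p ∣ orderOf x →
      (Nat.card (Subgroup.centralizer ({x} : Set G))).factorization p = d →
        lam M χ (classSumZ (kres M) x) = lam M ψ (classSumZ (kres M) x)) :
    SameBlock M (χ : G → ℂ) (ψ : G → ℂ) := by
  classical
  have : Finite (ConjClasses G) := Finite.of_surjective ConjClasses.mk ConjClasses.mk_surjective
  have := Fintype.ofFinite (ConjClasses G)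
  have hχb := isPBlock_blockOf (M := M) χ
  have hψb := isPBlock_blockOf (M := M) ψ
  have e : lam M χ (blkIdem M (blockOf M (ψ : G → ℂ))) =
      lam M ψ (blkIdem M (blockOf M (ψ : G → ℂ))) := by
    rw [algHom_eq_sum_classes (lam M χ), algHom_eq_sum_classes (lam M ψ)]
    refine Finset.sum_congr rfl fun C _ => ?_
    by_cases h1 : (blkIdem M (blockOf M (ψ : G → ℂ)) : MonoidAlgebra (kres M) G).coeff C.out *
        lam M χ (classSumZ (kres M) C.out) = 0
    · by_cases h2 : (blkIdem M (blockOf M (ψ : G → ℂ)) : MonoidAlgebra (kres M) G).coeff C.out *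
          lam M ψ (classSumZ (kres M) C.out) = 0
      · rw [h1, h2]
      · obtain ⟨hr, hf⟩ := lam_blkIdem_eq_sum_defect hM hψb hψb rfl (mem_blockOf_self ψ) h2
        rw [h _ hr (hf.trans hψ)]
    · obtain ⟨hr, hf⟩ := lam_blkIdem_eq_sum_defect hM hχb hψb (hψ.trans hχ.symm)
        (mem_blockOf_self χ) h1
      rw [h _ hr (hf.trans hχ)]
  rw [lam_blkIdem hM hψb ψ, if_pos (mem_blockOf_self ψ), lam_blkIdem hM hψb χ] at e
  split_ifs at e with hmem
  · exact sameBlock_of_mem hψb hmem (mem_blockOf_self ψ)
  · exact absurd e zero_ne_one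

/-- The number of blocks of one defect is at most that of the regular classes of that defect. -/
theorem natCard_blocks_defect_le (σ : ℕ) :
    Nat.card {B : Set (IrrCharacter G) // IsPBlock M B ∧ blockDefect p B = σ} ≤
      Nat.card {C : ConjClasses G // ∃ g : G, ConjClasses.mk g = C ∧ ¬ p ∣ orderOf g ∧
        (Nat.card (Subgroup.centralizer ({g} : Set G))).factorization p = σ} := by
  classical
  have : Finite (ConjClasses G) := Finite.of_surjective ConjClasses.mk ConjClasses.mk_surjective
  have := Fintype.ofFinite (ConjClasses G)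
  set ι := {B : Set (IrrCharacter G) // IsPBlock M B ∧ blockDefect p B = σ}
  set S := {C : ConjClasses G // ∃ g : G, ConjClasses.mk g = C ∧ ¬ p ∣ orderOf g ∧
        (Nat.card (Subgroup.centralizer ({g} : Set G))).factorization p = σ}
  have := Fintype.ofFinite ι
  have := Fintype.ofFinite S
  choose χ hχ using fun b : ι => isPBlock_nonempty b.2.1
  let v : ι → (S → kres M) := fun b C => lam M (χ b) (classSumZ (kres M) (C : ConjClasses G).out)
  have hli : LinearIndependent (kres M) v := by
    rw [Fintype.linearIndependent_iff]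
    intro g hg b'
    have h1 : ∀ b : ι, ∑ C : S, (blkIdem M b'.1 : MonoidAlgebra (kres M) G).coeff
        (C : ConjClasses G).out * v b C = if b = b' then 1 else 0 := by
      intro b
      have h2 : lam M (χ b) (blkIdem M b'.1) = if b = b' then 1 else 0 := by
        rw [lam_blkIdem hM b'.2.1]
        exact if_congr ⟨fun h => Subtype.ext (isPBlock_eq_of_mem b.2.1 b'.2.1 (hχ b) h),
          fun h => h ▸ hχ b⟩ rfl rfl
      rw [← h2, algHom_eq_sum_classes (lam M (χ b))]
      refine Finset.sum_bij_ne_zero (fun C _ _ => (C : ConjClasses G)) (fun _ _ _ => Finset.mem_univ _)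
        (fun _ _ _ _ _ _ h => Subtype.ext h) (fun C _ hC => ?_) (fun _ _ _ => rfl)
      obtain ⟨hr, hf⟩ := lam_blkIdem_eq_sum_defect hM b.2.1 b'.2.1
        (b'.2.2.trans b.2.2.symm) (hχ b) hC
      exact ⟨⟨C, C.out, Quotient.out_eq C, hr, hf.trans b.2.2⟩, Finset.mem_univ _, hC, rfl⟩
    have h3 : ∑ C : S, (blkIdem M b'.1 : MonoidAlgebra (kres M) G).coeff (C : ConjClasses G).out *
        (∑ b, g b • v b) C = 0 := by rw [hg]; simp
    simp only [Finset.sum_apply, Pi.smul_apply, smul_eq_mul, Finset.mul_sum] at h3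
    rw [Finset.sum_comm] at h3
    simp only [mul_left_comm _ (g _), ← Finset.mul_sum, h1, mul_ite, mul_one, mul_zero,
      Finset.mem_univ, if_true] at h3
    rw [Finset.sum_eq_single b' (fun b _ hb => if_neg hb)
      (fun hn => absurd (Finset.mem_univ b') hn), if_pos rfl] at h3
    exact h3
  have := hli.fintype_card_le_finrank
  rwa [Module.finrank_fintype_fun_eq_card, Fintype.card_eq_nat_card, Fintype.card_eq_nat_card]
    at this

end CfsgLib.BlockA
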