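import Cfsg.Agent.Lib.Char.FS
import Cfsg.Agent.Lib.Char.Linear
import Cfsg.Agent.Lib.ClassK.RowDegree

/-!
# Groups with an element `u` such that `χ(1) - χ(u) = 4` or `χ(u) = 0`

Elementary consequences: perfectness, inheritance to quotients, the two column equations, and
tools for decomposing characters of small degree.
-/

set_option autoImplicit false
set_option linter.unusedSectionVars false

namespace CfsgLib.BlockA.DegreeGap

open Module
open scoped ComplexConjugate

universe u

variable {G : Type u} [Group G]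

/-- The hypothesis. -/
def Gap (u : G) : Prop :=
  ∀ χ : Cfsg.IrrCharacter G, (χ : G → ℂ) ≠ (fun _ => (1 : ℂ)) →
    ((χ : G → ℂ) 1 - (χ : G → ℂ) u = 4 ∨ (χ : G → ℂ) u = 0)

/-- The trivial character. -/
noncomputable def one (G : Type u) [Group G] : Cfsg.IrrCharacter G :=
  ⟨fun _ => 1, Char.isIrrCharacter_one⟩

/-- The dual of an irreducible character. -/
noncomputable def dual [Finite G] (χ : Cfsg.IrrCharacter G) : Cfsg.IrrCharacter G :=
  ⟨fun g => conj ((χ : G → ℂ) g), Char.isIrrCharacter_conj χ.2⟩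

theorem dual_dual [Finite G] (χ : Cfsg.IrrCharacter G) : dual (dual χ) = χ :=
  Subtype.ext (funext fun g => by simp [dual])

/-- The degree. -/
noncomputable def deg (χ : Cfsg.IrrCharacter G) : ℕ :=
  (Char.char_apply_one_eq_nat (Char.irr_isCharacter χ.2)).choose

theorem deg_spec (χ : Cfsg.IrrCharacter G) : (χ : G → ℂ) 1 = (deg χ : ℂ) :=
  (Char.char_apply_one_eq_nat (Char.irr_isCharacter χ.2)).choose_spec

theorem deg_pos (χ : Cfsg.IrrCharacter G) : 0 < deg χ := by
  rcases Nat.eq_zero_or_pos (deg χ) with h | h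
  · exact absurd (by rw [deg_spec, h, Nat.cast_zero]) (Char.irr_apply_one_ne_zero χ.2)
  · exact h

theorem deg_dual [Finite G] (χ : Cfsg.IrrCharacter G) : deg (dual χ) = deg χ := by
  have h := deg_spec (dual χ)
  simp only [dual, deg_spec χ, map_natCast] at h
  exact_mod_cast h.symm

theorem dual_ne_one [Finite G] {χ : Cfsg.IrrCharacter G} (h : χ ≠ one G) : dual χ ≠ one G := by
  intro e
  apply h
  rw [← dual_dual χ, e]
  exact Subtype.ext (funext fun g => by simp [dual, one])

/-- The value of the hypothesis, as an integer. -/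
noncomputable def val (u : G) (χ : Cfsg.IrrCharacter G) : ℤ :=
  open scoped Classical in if (χ : G → ℂ) u = 0 then 0 else (deg χ : ℤ) - 4

variable {u : G}

theorem val_spec (h : Gap u) {χ : Cfsg.IrrCharacter G} (hχ : χ ≠ one G) :
    (χ : G → ℂ) u = (val u χ : ℂ) := by
  unfold val
  split_ifs with h0
  · simp [h0]
  · rcases h χ (fun e => hχ (Subtype.ext e)) with h4 | h4
    · rw [deg_spec] at h4
      push_cast
      linear_combination -h4
    · exact absurd h4 h0

theorem val_cases (u : G) (χ : Cfsg.IrrCharacter G) :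
    val u χ = 0 ∨ val u χ = (deg χ : ℤ) - 4 := by
  unfold val
  split_ifs
  · exact Or.inl rfl
  · exact Or.inr rfl

variable [Finite G]

theorem conj_apply (h : Gap u) {χ : Cfsg.IrrCharacter G} (hχ : χ ≠ one G) :
    conj ((χ : G → ℂ) u) = (χ : G → ℂ) u := by
  rw [val_spec h hχ, map_intCast]

theorem perfect (h : Gap u) : commutator G = ⊤ := by
  by_contra hne
  have hlt : 1 < Nat.card {χ : Cfsg.IrrCharacter G // (χ : G → ℂ) 1 = 1} := by
    rw [Char.natCard_linearIrr]
    exact Nat.one_lt_iff_ne_zero_and_ne_one.mpr ⟨Subgroup.index_ne_zero_of_finite,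
      fun h1 => hne (Subgroup.index_eq_one.mp h1)⟩
  have : Finite {χ : Cfsg.IrrCharacter G // (χ : G → ℂ) 1 = 1} := inferInstance
  rw [Finite.one_lt_card_iff_nontrivial] at hlt
  obtain ⟨⟨χ, h1⟩, hχ⟩ := exists_ne (⟨one G, rfl⟩ : {χ : Cfsg.IrrCharacter G // (χ : G → ℂ) 1 = 1})
  have hχ1 : χ ≠ one G := fun e => hχ (Subtype.ext e)
  obtain ⟨l, hl⟩ := Char.exists_hom_of_degree_one (Char.irr_isCharacter χ.2) h1
  have hn : ‖(χ : G → ℂ) u‖ = 1 := by
    rw [hl]
    exact Char.norm_eigen_eq_one (orderOf_pos u) (by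
      rw [← Units.val_pow_eq_pow_val, ← map_pow, pow_orderOf_eq_one, map_one, Units.val_one])
  rcases h χ (fun e => hχ1 (Subtype.ext e)) with h4 | h4
  · rw [h1] at h4
    have : (χ : G → ℂ) u = -3 := by linear_combination -h4
    rw [this] at hn
    norm_num at hn
  · rw [h4, norm_zero] at hn
    exact zero_ne_one hn

theorem eq_one_of_deg (h : Gap u) {χ : Cfsg.IrrCharacter G} (hd : deg χ = 1) : χ = one G := by
  have h1 : (χ : G → ℂ) 1 = 1 := by rw [deg_spec, hd, Nat.cast_one]
  have hcard := Char.natCard_linearIrr (G := G)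
  rw [perfect h, Subgroup.index_top, Nat.card_eq_one_iff_unique] at hcard
  have : Subsingleton {χ : Cfsg.IrrCharacter G // (χ : G → ℂ) 1 = 1} := hcard.1
  exact congrArg Subtype.val (Subsingleton.elim
    (⟨χ, h1⟩ : {χ : Cfsg.IrrCharacter G // (χ : G → ℂ) 1 = 1}) ⟨one G, rfl⟩)

theorem two_le_deg (h : Gap u) {χ : Cfsg.IrrCharacter G} (hχ : χ ≠ one G) : 2 ≤ deg χ := by
  have := deg_pos χ
  by_contra hlt
  exact hχ (eq_one_of_deg h (by omega))

section Inner

variable [Fintype G]

/-- Inner products with a trivial character. -/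
theorem inner_one_left (f : G → ℂ) :
    Cfsg.classInner f ((one G : Cfsg.IrrCharacter G) : G → ℂ) =
      (Nat.card G : ℂ)⁻¹ * ∑ g, f g := by
  simp [Char.classInner_def, one]

theorem inner_irr [DecidableEq (Cfsg.IrrCharacter G)] (χ ψ : Cfsg.IrrCharacter G) :
    Cfsg.classInner (χ : G → ℂ) (ψ : G → ℂ) = if χ = ψ then 1 else 0 := by
  split_ifs with h
  · rw [h, Char.irr_classInner_self ψ.2]
  · exact Char.irr_classInner_ne χ.2 ψ.2 fun e => h (Subtype.ext e)

theorem inner_eq_one_iff (χ ψ : Cfsg.IrrCharacter G) :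
    Cfsg.classInner (fun g => (χ : G → ℂ) g * (ψ : G → ℂ) g) ((one G : Cfsg.IrrCharacter G) : G → ℂ)
      = Cfsg.classInner (χ : G → ℂ) ((dual ψ : Cfsg.IrrCharacter G) : G → ℂ) := by
  simp [Char.classInner_def, one, dual]

/-- A character is the sum of a multiset of irreducible characters. -/
theorem exists_parts {φ : G → ℂ} (hφ : Cfsg.IsCharacter G φ) :
    ∃ l : Multiset (Cfsg.IrrCharacter G),
      φ = (l.map fun χ : Cfsg.IrrCharacter G => (χ : G → ℂ)).sum := by
  obtain ⟨l, hl, rfl⟩ := Char.isCharacter_exists_multiset hφ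
  refine ⟨l.attach.map fun f => ⟨f.1, hl f.1 f.2⟩, ?_⟩
  rw [Multiset.map_map]
  exact congrArg Multiset.sum (Multiset.attach_map_val l).symm

/-- Multiplicities. -/
theorem inner_parts [DecidableEq (Cfsg.IrrCharacter G)] (l : Multiset (Cfsg.IrrCharacter G))
    (ψ : Cfsg.IrrCharacter G) :
    Cfsg.classInner (l.map fun χ : Cfsg.IrrCharacter G => (χ : G → ℂ)).sum (ψ : G → ℂ) =
      (l.count ψ : ℂ) := by
  induction l using Multiset.induction with
  | empty => simp [Char.classInner_zero_left]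
  | cons a s ih =>
    rw [Multiset.map_cons, Multiset.sum_cons, Char.classInner_add_left, ih, inner_irr,
      Multiset.count_cons]
    by_cases h : a = ψ
    · subst h; simp [add_comm]
    · simp [h, Ne.symm h]

/-- The parts of a character without trivial constituent. -/
theorem parts_spec (h : Gap u) {φ : G → ℂ} (hφ : Cfsg.IsCharacter G φ) {N : ℕ} {t : ℤ}
    (hN : φ 1 = (N : ℂ)) (ht : φ u = (t : ℂ))
    (h0 : Cfsg.classInner φ ((one G : Cfsg.IrrCharacter G) : G → ℂ) = 0) :
    ∃ l : Multiset (Cfsg.IrrCharacter G),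
      φ = (l.map fun χ : Cfsg.IrrCharacter G => (χ : G → ℂ)).sum ∧ (∀ χ ∈ l, χ ≠ one G) ∧
      (l.map deg).sum = N ∧ (l.map (val u)).sum = t := by
  classical
  obtain ⟨l, rfl⟩ := exists_parts hφ
  have hne : ∀ χ ∈ l, χ ≠ one G := by
    intro χ hχ e
    rw [inner_parts, Nat.cast_eq_zero, Multiset.count_eq_zero] at h0
    exact h0 (e ▸ hχ)
  refine ⟨l, rfl, hne, ?_, ?_⟩
  · have key : ∀ s : Multiset (Cfsg.IrrCharacter G),
        (s.map fun χ : Cfsg.IrrCharacter G => (χ : G → ℂ)).sum 1 = (((s.map deg).sum : ℕ) : ℂ) := by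
      intro s
      induction s using Multiset.induction with
      | empty => simp
      | cons a s ih => simp [ih, deg_spec]
    rw [key] at hN
    exact_mod_cast hN
  · have key : ∀ s : Multiset (Cfsg.IrrCharacter G), (∀ χ ∈ s, χ ≠ one G) →
        (s.map fun χ : Cfsg.IrrCharacter G => (χ : G → ℂ)).sum u = (((s.map (val u)).sum : ℤ) : ℂ) := by
      intro s hs
      induction s using Multiset.induction with
      | empty => simp
      | cons a s ih =>
        simp [ih fun χ hχ => hs χ (Multiset.mem_cons_of_mem hχ),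
          val_spec h (hs a (Multiset.mem_cons_self a s))]
    rw [key l hne] at ht
    exact_mod_cast ht

/-- The inner product of two products. -/
theorem inner_mul_mul (a b c d : G → ℂ) :
    Cfsg.classInner (fun g => a g * b g) (fun g => c g * d g) =
      Cfsg.classInner (fun g => a g * conj (c g)) (fun g => conj (b g) * d g) := by
  simp only [Char.classInner_def, map_mul, Complex.conj_conj]
  congr 1
  exact Finset.sum_congr rfl fun g _ => by ring

/-- Moving a factor across the inner product. -/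
theorem inner_mul_left (a b c : G → ℂ) :
    Cfsg.classInner (fun g => a g * b g) c = Cfsg.classInner b (fun g => conj (a g) * c g) := by
  simp only [Char.classInner_def, map_mul, Complex.conj_conj]
  congr 1
  exact Finset.sum_congr rfl fun g _ => by ring

/-- The two column equations at `u`. -/
theorem column_equations [Fintype (Cfsg.IrrCharacter G)] [DecidableEq (Cfsg.IrrCharacter G)]
    (h : Gap u) (hu : u ≠ 1) :
    (∑ χ ∈ Finset.univ.filter (fun χ : Cfsg.IrrCharacter G => χ ≠ one G ∧ val u χ ≠ 0),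
        (deg χ : ℤ) * ((deg χ : ℤ) - 4) = -1) ∧
    (∑ χ ∈ Finset.univ.filter (fun χ : Cfsg.IrrCharacter G => χ ≠ one G ∧ val u χ ≠ 0),
        ((deg χ : ℤ) - 4) ^ 2 = (Nat.card (Subgroup.centralizer ({u} : Set G)) : ℤ) - 1) := by
  classical
  have hval : ∀ χ : Cfsg.IrrCharacter G, χ ≠ one G → val u χ ≠ 0 → val u χ = (deg χ : ℤ) - 4 :=
    fun χ _ h0 => (val_cases u χ).resolve_left h0
  have h1 : ∑ χ : Cfsg.IrrCharacter G, (deg χ : ℤ) * (if χ = one G then 1 else val u χ) = 0 := by
    have h2 := Char.sum_irr_mul_degree (G := G) u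
    rw [if_neg hu] at h2
    have h3 : ((∑ χ : Cfsg.IrrCharacter G, (deg χ : ℤ) * (if χ = one G then 1 else val u χ) : ℤ) : ℂ)
        = 0 := by
      rw [← h2, Int.cast_sum]
      refine Finset.sum_congr rfl fun χ _ => ?_
      rw [deg_spec]
      split_ifs with he
      · subst he; simp [one]
      · rw [val_spec h he]; push_cast; ring
    exact_mod_cast h3
  have h2 : ∑ χ : Cfsg.IrrCharacter G, (if χ = one G then 1 else val u χ) ^ 2 =
      (Nat.card (Subgroup.centralizer ({u} : Set G)) : ℤ) := by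
    have h2 := Char.column_orthogonality u u
    rw [if_pos (IsConj.refl u)] at h2
    have h3 : ((∑ χ : Cfsg.IrrCharacter G, (if χ = one G then 1 else val u χ) ^ 2 : ℤ) : ℂ)
        = ((Nat.card (Subgroup.centralizer ({u} : Set G)) : ℤ) : ℂ) := by
      rw [Int.cast_natCast, ← h2, Int.cast_sum]
      refine Finset.sum_congr rfl fun χ _ => ?_
      split_ifs with he
      · subst he; simp [one]
      · rw [val_spec h he, map_intCast]; push_cast; ring
    exact_mod_cast h3
  have hdeg1 : deg (one G) = 1 := by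
    have h3 := deg_spec (one G)
    change (1 : ℂ) = _ at h3
    exact_mod_cast h3.symm
  constructor
  · rw [← Finset.add_sum_erase _ _ (Finset.mem_univ (one G)), if_pos rfl, hdeg1] at h1
    have h4 : ∑ χ ∈ Finset.univ.filter (fun χ : Cfsg.IrrCharacter G => χ ≠ one G ∧ val u χ ≠ 0),
        (deg χ : ℤ) * ((deg χ : ℤ) - 4) =
        ∑ χ ∈ Finset.univ.erase (one G), (deg χ : ℤ) * (if χ = one G then 1 else val u χ) := by
      refine Finset.sum_subset_zero_on_sdiff (fun χ hχ => ?_) (fun χ hχ => ?_) (fun χ hχ => ?_)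
      · exact Finset.mem_erase.mpr ⟨(Finset.mem_filter.mp hχ).2.1, Finset.mem_univ _⟩
      · simp only [Finset.mem_sdiff, Finset.mem_erase, Finset.mem_filter, Finset.mem_univ,
          true_and, and_true, not_and, not_not] at hχ
        rw [if_neg hχ.1, hχ.2 hχ.1, mul_zero]
      · obtain ⟨hne, h0⟩ := (Finset.mem_filter.mp hχ).2
        rw [if_neg hne, hval χ hne h0]
    rw [h4]
    push_cast at h1
    linarith
  · rw [← Finset.add_sum_erase _ _ (Finset.mem_univ (one G)), if_pos rfl] at h2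
    have h4 : ∑ χ ∈ Finset.univ.filter (fun χ : Cfsg.IrrCharacter G => χ ≠ one G ∧ val u χ ≠ 0),
        ((deg χ : ℤ) - 4) ^ 2 =
        ∑ χ ∈ Finset.univ.erase (one G), (if χ = one G then 1 else val u χ) ^ 2 := by
      refine Finset.sum_subset_zero_on_sdiff (fun χ hχ => ?_) (fun χ hχ => ?_) (fun χ hχ => ?_)
      · exact Finset.mem_erase.mpr ⟨(Finset.mem_filter.mp hχ).2.1, Finset.mem_univ _⟩
      · simp only [Finset.mem_sdiff, Finset.mem_erase, Finset.mem_filter, Finset.mem_univ,
          true_and, and_true, not_and, not_not] at hχ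
        rw [if_neg hχ.1, hχ.2 hχ.1]
        norm_num
      · obtain ⟨hne, h0⟩ := (Finset.mem_filter.mp hχ).2
        rw [if_neg hne, hval χ hne h0]
    rw [h4]
    linarith

end Inner

/-- Passing to a quotient. -/
theorem quotient (h : Gap u) (N : Subgroup G) [N.Normal] (hN : N ≠ ⊤) :
    Gap (QuotientGroup.mk' N u) ∧ QuotientGroup.mk' N u ≠ 1 := by
  have hlift : ∀ ψ : Cfsg.IrrCharacter (G ⧸ N), ∃ χ : Cfsg.IrrCharacter G,
      (χ : G → ℂ) = (ψ : G ⧸ N → ℂ) ∘ QuotientGroup.mk' N :=
    fun ψ => ⟨⟨_, Char.isIrrCharacter_comp_surjective ψ.2 _ (QuotientGroup.mk'_surjective N)⟩, rfl⟩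
  have hne : ∀ (ψ : Cfsg.IrrCharacter (G ⧸ N)) (χ : Cfsg.IrrCharacter G),
      (χ : G → ℂ) = (ψ : G ⧸ N → ℂ) ∘ QuotientGroup.mk' N →
      (ψ : G ⧸ N → ℂ) ≠ (fun _ => (1 : ℂ)) → (χ : G → ℂ) ≠ (fun _ => (1 : ℂ)) := by
    intro ψ χ e hψ e'
    refine hψ (funext fun y => ?_)
    obtain ⟨g, rfl⟩ := QuotientGroup.mk'_surjective N y
    exact (congrFun e g).symm.trans (congrFun e' g)
  refine ⟨fun ψ hψ => ?_, fun hu1 => ?_⟩
  · obtain ⟨χ, e⟩ := hlift ψ
    have := h χ (hne ψ χ e hψ)
    rw [e] at this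
    simpa using this
  · have : Nontrivial (G ⧸ N) := QuotientGroup.nontrivial_iff.mpr hN
    obtain ⟨y, hy⟩ := exists_ne (1 : G ⧸ N)
    obtain ⟨ψ, hψ⟩ := Char.exists_irr_apply_ne hy
    have hψ1 : (ψ : G ⧸ N → ℂ) ≠ (fun _ => (1 : ℂ)) := fun e => hψ (by rw [e])
    obtain ⟨χ, e⟩ := hlift ψ
    have h4 := h χ (hne ψ χ e hψ1)
    rw [e] at h4
    simp only [Function.comp_apply, hu1, map_one, sub_self] at h4
    rcases h4 with h4 | h4
    · norm_num at h4
    · exact Char.irr_apply_one_ne_zero ψ.2 h4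

end CfsgLib.BlockA.DegreeGap
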