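import Cfsg.Agent.Lib.Solvable.Nilpotent
import Cfsg.Agent.Lib.Solvable.Frattini2
import Cfsg.Agent.Lib.Transfer.Tate
import Cfsg.Agent.Lib.Char.Column
import Mathlib.GroupTheory.Transfer
import Mathlib.GroupTheory.SpecificGroups.Alternating

/-!
# A homomorphism onto a group where one involution class lifts to a single class

If `π : G → S` is onto, `G` is perfect, the centralizer of `π u` has order four and every lift of a
conjugate of `π u` is conjugate to `u`, then the centralizer of `u` has order four, the kernel has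
a normal `2`-complement, and a `2`-group kernel is central of order at most two.
-/

set_option autoImplicit false
set_option linter.unusedSectionVars false

namespace CfsgLib.BlockA.CoverSixty

open Subgroup
open scoped commutatorElement

universe u v

variable {G : Type u} [Group G] [Finite G]

/-- The number of lifts of a set. -/
theorem natCard_preimage {S : Type v} [Group S] (π : G →* S) (hπ : Function.Surjective π)
    (K : Set S) : Nat.card {x : G // π x ∈ K} = Nat.card π.ker * Nat.card K := by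
  obtain ⟨σ, hσ⟩ := hπ.hasRightInverse
  rw [← Nat.card_prod]
  refine Nat.card_congr
    { toFun := fun x => (⟨(σ (π x.1))⁻¹ * x.1, ?_⟩, ⟨π x.1, x.2⟩)
      invFun := fun y => ⟨σ y.2.1 * (y.1 : G), ?_⟩
      left_inv := fun x => Subtype.ext (mul_inv_cancel_left _ _)
      right_inv := ?_ }
  · rw [MonoidHom.mem_ker, map_mul, map_inv, hσ, inv_mul_cancel]
  · rw [map_mul, hσ, MonoidHom.mem_ker.mp y.1.2, mul_one]; exact y.2.2
  · rintro ⟨⟨k, hk⟩, ⟨s, hs⟩⟩
    have e : π (σ s * k) = s := by rw [map_mul, hσ, MonoidHom.mem_ker.mp hk, mul_one]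
    ext <;> simp [e]

/-- A central element inside an abelian Sylow subgroup of a perfect group is trivial. -/
theorem eq_one_of_central (hperf : commutator G = ⊤) {p : ℕ} [Fact p.Prime] (P : Sylow p G)
    (hP : ∀ a ∈ (P : Subgroup G), ∀ b ∈ (P : Subgroup G), a * b = b * a) {z : G}
    (hz : z ∈ center G) (hzP : z ∈ (P : Subgroup G)) : z = 1 := by
  let : CommGroup (P : Subgroup G) :=
    { (inferInstance : Group (P : Subgroup G)) with
      mul_comm := fun a b => Subtype.ext (hP a a.2 b b.2) }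
  set t := MonoidHom.transfer (MonoidHom.id (P : Subgroup G)) with ht
  have hk : z ∈ t.ker := Abelianization.commutator_subset_ker t (hperf ▸ mem_top z)
  have key : ∀ (k : ℕ) (g₀ : G), g₀⁻¹ * z ^ k * g₀ ∈ (P : Subgroup G) →
      g₀⁻¹ * z ^ k * g₀ = z ^ k := fun k g₀ _ => by
    rw [mul_assoc, ← mem_center_iff.mp ((center G).pow_mem hz k) g₀, inv_mul_cancel_left]
  rw [MonoidHom.mem_ker, ht, MonoidHom.transfer_eq_pow _ z key] at hk
  have h1 : z ^ (P : Subgroup G).index = 1 := congrArg Subtype.val hk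
  obtain ⟨n, hn⟩ := IsPGroup.iff_orderOf.mp P.2 ⟨z, hzP⟩
  rw [Subgroup.orderOf_mk] at hn
  refine orderOf_eq_one_iff.mp (Nat.eq_one_of_dvd_coprimes
    (Nat.Coprime.pow_left n ((Fact.out : p.Prime).coprime_iff_not_dvd.mpr P.not_dvd_index))
    (hn ▸ dvd_rfl) (orderOf_dvd_of_pow_eq_one h1))

/-- A normal subgroup of order at most four of a perfect group is central. -/
theorem le_center_of_card_le_four (hperf : commutator G = ⊤) (W : Subgroup G) [hW : W.Normal]
    (hcard : Nat.card W ≤ 4) : W ≤ center G := by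
  classical
  let X := {w : W // w ≠ 1}
  let : MulAction G X :=
    { smul := fun g x => ⟨⟨g * (x.1 : G) * g⁻¹, hW.conj_mem _ x.1.2 g⟩, fun h => x.2 (by
        have h' : g * (x.1 : G) * g⁻¹ = 1 := congrArg Subtype.val h
        exact Subtype.ext (conj_eq_one_iff.mp h'))⟩
      one_smul := fun x => Subtype.ext (Subtype.ext (by show (1 : G) * x.1 * 1⁻¹ = x.1; simp))
      mul_smul := fun a b x => Subtype.ext (Subtype.ext (by
        show (a * b) * (x.1 : G) * (a * b)⁻¹ = a * (b * x.1 * b⁻¹) * a⁻¹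
        group)) }
  have := Fintype.ofFinite X
  have hX : Nat.card X ≤ 3 := by
    have h1 : Nat.card X + 1 = Nat.card W := by
      rw [← Nat.card_congr (Equiv.sumCompl fun w : W => w ≠ 1), Nat.card_sum]
      congr 1
      have : Unique {w : W // ¬ w ≠ 1} :=
        { default := ⟨1, by simp⟩, uniq := fun w => Subtype.ext (not_not.mp w.2) }
      simp
    omega
  set φ := MulAction.toPermHom G X
  have hsgn : ∀ g, φ g ∈ alternatingGroup X := fun g => by
    rw [Equiv.Perm.mem_alternatingGroup]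
    exact MonoidHom.mem_ker.mp (Abelianization.commutator_subset_ker
      ((Equiv.Perm.sign).comp φ) (hperf ▸ mem_top g))
  have hcomm : ∀ a b : alternatingGroup X, a * b = b * a := by
    have := alternatingGroup.isCyclic_of_card_le_three (α := X) hX
    intro a b
    exact IsMulCommutative.is_comm.comm a b
  let : CommGroup (alternatingGroup X) :=
    { (inferInstance : Group (alternatingGroup X)) with mul_comm := hcomm }
  intro w hw
  rw [mem_center_iff]
  intro g
  by_cases hw1 : w = 1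
  · simp [hw1]
  have hg : φ g = 1 := congrArg Subtype.val (MonoidHom.mem_ker.mp
    (Abelianization.commutator_subset_ker (φ.codRestrict _ hsgn) (hperf ▸ mem_top g)))
  have h1 := congrArg (fun σ : Equiv.Perm X => ((σ ⟨⟨w, hw⟩, fun h => hw1 (congrArg Subtype.val h)⟩).1 : G)) hg
  exact mul_inv_eq_iff_eq_mul.mp h1

variable {S : Type v} [Group S] [Finite S] (π : G →* S) (hπ : Function.Surjective π) (u : G)
  (hlift : ∀ x : G, IsConj (π x) (π u) → IsConj x u)
  (hS : Nat.card (centralizer ({π u} : Set S)) = 4)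
include hπ hlift hS

theorem card_centralizer : Nat.card (centralizer ({u} : Set G)) = 4 := by
  have := Fintype.ofFinite G
  have := Fintype.ofFinite S
  have h1 : {x : G | π x ∈ (ConjClasses.mk (π u)).carrier} = (ConjClasses.mk u).carrier := by
    ext x
    simp only [Set.mem_setOf_eq, ConjClasses.mem_carrier_iff_mk_eq, ConjClasses.mk_eq_mk_iff_isConj]
    exact ⟨hlift x, fun h => π.map_isConj h⟩
  have h2 := Char.natCard_carrier_mul_centralizer u
  have h3 := Char.natCard_carrier_mul_centralizer (π u)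
  have h4 : Nat.card (ConjClasses.mk u).carrier =
      Nat.card π.ker * Nat.card (ConjClasses.mk (π u)).carrier := by
    rw [← h1]; exact natCard_preimage π hπ _
  have h5 : Nat.card G = Nat.card π.ker * Nat.card S := by
    rw [card_eq_card_quotient_mul_card_subgroup π.ker, mul_comm,
      Nat.card_congr (QuotientGroup.quotientKerEquivOfSurjective π hπ).toEquiv]
  rw [hS] at h3
  rw [h5, ← h3, h4, mul_assoc] at h2
  have hne : 0 < Nat.card (ConjClasses.mk (π u)).carrier := by
    have : Nonempty (ConjClasses.mk (π u)).carrier := ⟨⟨π u, ConjClasses.mem_carrier_mk⟩⟩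
    exact Nat.card_pos
  exact Nat.eq_of_mul_eq_mul_left hne (Nat.eq_of_mul_eq_mul_left Nat.card_pos h2)

omit hS in
theorem pow_four (hc : Nat.card (centralizer ({u} : Set G)) = 4) : u ^ 4 = 1 := by
  have h : orderOf u ∣ 4 :=
    hc ▸ Subgroup.orderOf_dvd_natCard _ (mem_centralizer_singleton_iff.mpr rfl)
  exact orderOf_dvd_iff_pow_eq_one.mp h

/-- The kernel has a normal `2`-complement. -/
theorem ker_hasNormalPComplement (hS2 : ∀ Q : Sylow 2 S, Nat.card (Q : Subgroup S) = 4) :
    Cfsg.HasNormalPComplement 2 π.ker := by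
  classical
  have := Fintype.ofFinite G
  have hc := card_centralizer π hπ u hlift hS
  have hzp : IsPGroup 2 (zpowers u) := by
    obtain ⟨i, -, hi⟩ := (Nat.dvd_prime_pow Nat.prime_two).mp
      (orderOf_dvd_of_pow_eq_one (show u ^ (2 ^ 2) = 1 from pow_four π hπ u hlift hc))
    exact IsPGroup.of_card (n := i) (by rw [Nat.card_zpowers, hi])
  obtain ⟨P, hP⟩ := hzp.exists_le_sylow
  have hxP : u ∈ (P : Subgroup G) := hP (mem_zpowers u)
  set PQ : Sylow 2 S := P.mapSurjective (f := π) hπ with hPQdef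
  have hPQcard := hS2 PQ
  have hPQcomm : IsMulCommutative (PQ : Subgroup S) :=
    IsPGroup.isMulCommutative_of_card_eq_prime_sq (p := 2) (by rw [hPQcard]; norm_num)
  have hcent : ∀ y ∈ (P : Subgroup G), u⁻¹ * y * u * y⁻¹ ∈ π.ker := by
    intro y hy
    have h : π y * π u = π u * π y := congrArg Subtype.val (hPQcomm.is_comm.comm
      (⟨π y, mem_map_of_mem π hy⟩ : (PQ : Subgroup S)) ⟨π u, mem_map_of_mem π hxP⟩)
    rw [MonoidHom.mem_ker, map_mul, map_mul, map_mul, map_inv, map_inv, mul_assoc _ (π y), h]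
    group
  refine Transfer.tate P π.ker ?_
  set T := (P : Subgroup G) ⊓ centralizer ({u} : Set G) with hT
  have hTle : Nat.card T ≤ Nat.card (PQ : Subgroup S) := by
    rw [hPQcard, ← hc]; exact card_le_of_le inf_le_right
  set B := π.ker.subgroupOf (P : Subgroup G) with hB
  have hPcard : Nat.card (P : Subgroup G) = Nat.card (PQ : Subgroup S) * Nat.card B := by
    have e2 : (π.comp (P : Subgroup G).subtype).ker = B := rfl
    rw [card_eq_card_quotient_mul_card_subgroup B, ← e2,
      Nat.card_congr (QuotientGroup.quotientKerEquivRange _).toEquiv, MonoidHom.range_comp,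
      range_subtype]
    rfl
  let f : ↥(P : Subgroup G) → B := fun y =>
    ⟨(⟨u, hxP⟩ : (P : Subgroup G))⁻¹ * y * ⟨u, hxP⟩ * y⁻¹, hcent y y.2⟩
  have hfib : ∀ a : B, (Finset.univ.filter fun y => f y = a).card ≤ Nat.card T := by
    intro a
    rcases (Finset.univ.filter fun y => f y = a).eq_empty_or_nonempty with h | ⟨y₀, hy₀⟩
    · rw [h]; exact Nat.zero_le _
    rw [← Nat.card_eq_finsetCard]
    refine Nat.card_le_card_of_injective
      (fun y => (⟨(y₀ : G)⁻¹ * ((y.1 : (P : Subgroup G)) : G),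
        Subgroup.mul_mem _ (Subgroup.inv_mem _ y₀.2) y.1.2, ?_⟩ : T)) ?_
    · have e : u⁻¹ * (y.1 : G) * u * (y.1 : G)⁻¹ = u⁻¹ * (y₀ : G) * u * (y₀ : G)⁻¹ :=
        congrArg (fun z : B => ((z : (P : Subgroup G)) : G))
          ((Finset.mem_filter.mp y.2).2.trans (Finset.mem_filter.mp hy₀).2.symm)
      rw [mul_assoc, mul_assoc, mul_assoc, mul_assoc, mul_right_inj, ← mul_assoc, ← mul_assoc] at e
      show _ ∈ centralizer ({u} : Set G)
      rw [mem_centralizer_singleton_iff]
      calc (y₀ : G)⁻¹ * (y.1 : G) * u = (y₀ : G)⁻¹ * ((y.1 : G) * u * (y.1 : G)⁻¹) * (y.1 : G) := by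
            group
        _ = u * ((y₀ : G)⁻¹ * (y.1 : G)) := by rw [e]; group
    · intro a b h
      exact Subtype.ext (Subtype.ext (mul_left_cancel (congrArg Subtype.val h)))
  have himg : Nat.card B ≤ (Finset.univ.image f).card := by
    have h1 := Finset.card_le_mul_card_image (f := f) Finset.univ (Nat.card T) fun a _ => hfib a
    rw [Finset.card_univ, ← Nat.card_eq_fintype_card, hPcard] at h1
    exact Nat.le_of_mul_le_mul_left (h1.trans (Nat.mul_le_mul_right _ hTle)) Nat.card_pos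
  intro w hw
  have hsurj : Finset.univ.image f = Finset.univ := Finset.eq_univ_of_card _
    (le_antisymm (Finset.card_le_univ _) (by rwa [← Nat.card_eq_fintype_card]))
  obtain ⟨y, -, hy⟩ := Finset.mem_image.mp (hsurj ▸ Finset.mem_univ (⟨w, hw⟩ : B))
  have := P.2.isNilpotent
  refine Solvable.commutator_le_frattini ?_
  have e : w = ⁅(⟨u, hxP⟩ : (P : Subgroup G))⁻¹, y⁆ := by
    rw [commutatorElement_def, inv_inv]
    exact (congrArg Subtype.val hy).symm
  rw [e, _root_.commutator_def]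
  exact commutator_mem_commutator (mem_top _) (mem_top _)

omit hS in
/-- A `2`-group kernel is central of order at most two. -/
theorem ker_small (hperf : commutator G = ⊤) (hE : IsPGroup 2 π.ker)
    (hc : Nat.card (centralizer ({u} : Set G)) = 4) (hu : u ∉ π.ker) (hu2 : u * u ∈ π.ker) :
    Nat.card π.ker ≤ 2 ∧ π.ker ≤ center G := by
  classical
  set E := π.ker with hEdef
  have hCE : Nat.card (E ⊓ centralizer ({u} : Set G) : Subgroup G) ≤ 2 := by
    have hd : Nat.card (E ⊓ centralizer ({u} : Set G) : Subgroup G) ∣ 4 :=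
      hc ▸ card_dvd_of_le inf_le_right
    have hne : Nat.card (E ⊓ centralizer ({u} : Set G) : Subgroup G) ≠ 4 := fun h4 => by
      have h := eq_of_le_of_card_ge (inf_le_right : E ⊓ centralizer ({u} : Set G) ≤ _)
        (by rw [h4, hc])
      exact hu ((h ▸ (mem_centralizer_singleton_iff.mpr rfl : u ∈ centralizer ({u} : Set G))).1)
    have hle := Nat.le_of_dvd (by norm_num) hd
    by_contra hcon
    obtain ⟨k, hk⟩ := hd
    rcases (by omega : k = 0 ∨ k = 1 ∨ 2 ≤ k) with rfl | rfl | hk2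
    · simp at hk
    · omega
    · nlinarith
  set Z := E ⊓ center G with hZ
  have hZle : Z ≤ E ⊓ centralizer ({u} : Set G) := le_inf inf_le_left
    (inf_le_right.trans (center_le_centralizer _))
  have hZn : Z.Normal := inferInstance
  suffices hEZ : E ≤ Z from
    ⟨(card_le_of_le (hEZ.trans hZle)).trans hCE, hEZ.trans inf_le_right⟩
  let τ := QuotientGroup.mk' Z
  have hτ : Function.Surjective τ := QuotientGroup.mk'_surjective Z
  have hperf1 : commutator (G ⧸ Z) = ⊤ := by
    rw [_root_.commutator_def, ← MonoidHom.range_eq_top.mpr hτ, MonoidHom.range_eq_map,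
      ← map_commutator, ← _root_.commutator_def, hperf]
  set E1 := E.map τ with hE1
  have hE1n : E1.Normal := Normal.map inferInstance τ hτ
  by_contra hEZ
  have hne : E1 ≠ ⊥ := fun h => hEZ fun e he => by
    have h1 : τ e ∈ E1 := mem_map_of_mem τ he
    rw [h, mem_bot, QuotientGroup.mk'_apply, QuotientGroup.eq_one_iff] at h1
    exact h1
  have hE1p : IsPGroup 2 E1 := hE.map τ
  -- elementary central part
  let W1 : Subgroup (G ⧸ Z) :=
    { carrier := {w | w ∈ E1 ∧ w * w = 1 ∧ ∀ f ∈ E1, w * f = f * w}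
      one_mem' := ⟨E1.one_mem, one_mul 1, fun f _ => by simp⟩
      inv_mem' := fun {w} hw => ⟨E1.inv_mem hw.1, by rw [← mul_inv_rev, hw.2.1, inv_one],
        fun f hf => (Commute.inv_left (hw.2.2 f hf)).eq⟩
      mul_mem' := fun {a b} ha hb => ⟨E1.mul_mem ha.1 hb.1, by
        rw [mul_assoc, ← mul_assoc b, hb.2.2 a ha.1, mul_assoc a b b, hb.2.1, mul_one, ha.2.1],
        fun f hf => by rw [mul_assoc, hb.2.2 f hf, ← mul_assoc, ha.2.2 f hf, mul_assoc]⟩ }
  have hW1n : W1.Normal := ⟨fun w hw g => ⟨hE1n.conj_mem _ hw.1 g,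
    by rw [show g * w * g⁻¹ * (g * w * g⁻¹) = g * (w * w) * g⁻¹ by group, hw.2.1]; group,
    fun f hf => by
      have h := hw.2.2 (g⁻¹ * f * g) (by simpa using hE1n.conj_mem _ hf g⁻¹)
      calc g * w * g⁻¹ * f = g * (w * (g⁻¹ * f * g)) * g⁻¹ := by group
        _ = f * (g * w * g⁻¹) := by rw [h]; group⟩⟩
  have hW1ne : W1 ≠ ⊥ := by
    have : Nontrivial E1 := (nontrivial_iff_ne_bot E1).mpr hne
    have hcn := hE1p.center_nontrivial
    have hcard : 2 ∣ Nat.card (center E1) := by
      obtain ⟨n, hn⟩ := IsPGroup.iff_card.mp (hE1p.to_subgroup (center E1))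
      rw [hn]
      refine dvd_pow_self 2 fun h0 => ?_
      rw [h0, pow_zero] at hn
      exact absurd hn Finite.one_lt_card.ne'
    have : Fact (Nat.Prime 2) := ⟨Nat.prime_two⟩
    obtain ⟨w, hw⟩ := exists_prime_orderOf_dvd_card' (G := center E1) 2 hcard
    intro h
    have hmem : ((w : E1) : G ⧸ Z) ∈ W1 := by
      refine ⟨(w : E1).2, ?_, fun f hf => (congrArg Subtype.val (mem_center_iff.mp w.2 ⟨f, hf⟩)).symm⟩
      have := pow_orderOf_eq_one w
      rw [hw, sq] at this
      exact congrArg (fun z : center E1 => ((z : E1) : G ⧸ Z)) this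
    rw [h, mem_bot] at hmem
    have : w = 1 := Subtype.ext (Subtype.ext hmem)
    rw [this, orderOf_one] at hw
    norm_num at hw
  -- few fixed points
  set ū := τ u with hūdef
  set F := W1 ⊓ centralizer ({ū} : Set (G ⧸ Z)) with hF
  have hFcard : Nat.card F ≤ 2 := by
    let X := {x : G // τ x ∈ (F : Set (G ⧸ Z))}
    have := Fintype.ofFinite X
    have hX : Nat.card X = Nat.card Z * Nat.card F := by
      rw [natCard_preimage τ hτ, QuotientGroup.ker_mk']
      rfl
    have hXE : ∀ x : X, (x.1 : G) ∈ E ∧ ⁅(x.1 : G), u⁆ ∈ Z := by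
      intro x
      refine ⟨?_, ?_⟩
      · obtain ⟨e, he, hex⟩ := x.2.1.1
        have h1 : e⁻¹ * x.1 ∈ Z := QuotientGroup.eq.mp hex
        have := E.mul_mem he h1.1
        rwa [mul_inv_cancel_left] at this
      · rw [← QuotientGroup.eq_one_iff]
        show τ ⁅(x.1 : G), u⁆ = 1
        rw [map_commutatorElement, commutatorElement_eq_one_iff_mul_comm]
        exact mem_centralizer_singleton_iff.mp x.2.2
    let f : X → Z := fun x => ⟨⁅(x.1 : G), u⁆, (hXE x).2⟩
    have hfib : ∀ z : Z, (Finset.univ.filter fun x => f x = z).card ≤ 2 := by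
      intro z
      rcases (Finset.univ.filter fun x => f x = z).eq_empty_or_nonempty with h | ⟨y₀, hy₀⟩
      · rw [h]; exact Nat.zero_le _
      rw [← Nat.card_eq_finsetCard]
      refine le_trans (Nat.card_le_card_of_injective
        (fun y => (⟨(y₀.1 : G)⁻¹ * (y.1.1 : G), E.mul_mem (E.inv_mem (hXE y₀).1) (hXE y.1).1, ?_⟩ :
          (E ⊓ centralizer ({u} : Set G) : Subgroup G))) ?_) hCE
      · have e' : ⁅(y.1.1 : G), u⁆ = ⁅(y₀.1 : G), u⁆ :=
          congrArg Subtype.val ((Finset.mem_filter.mp y.2).2.trans (Finset.mem_filter.mp hy₀).2.symm)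
        rw [commutatorElement_def, commutatorElement_def, mul_left_inj] at e'
        show _ ∈ centralizer ({u} : Set G)
        rw [mem_centralizer_singleton_iff]
        calc (y₀.1 : G)⁻¹ * y.1.1 * u = (y₀.1 : G)⁻¹ * (y.1.1 * u * (y.1.1 : G)⁻¹) * y.1.1 := by
              group
          _ = u * ((y₀.1 : G)⁻¹ * y.1.1) := by rw [e']; group
      · intro a b h
        exact Subtype.ext (Subtype.ext (mul_left_cancel (congrArg Subtype.val h)))
    have h1 := Finset.card_le_mul_card_image (f := f) Finset.univ 2 fun z _ => hfib z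
    rw [Finset.card_univ, ← Nat.card_eq_fintype_card, hX] at h1
    have h2 : (Finset.univ.image f).card ≤ Nat.card Z := by
      have := Fintype.ofFinite Z
      rw [Nat.card_eq_fintype_card]
      exact Finset.card_le_univ _
    exact Nat.le_of_mul_le_mul_left (h1.trans (by rw [mul_comm]; exact Nat.mul_le_mul_right 2 h2))
      Nat.card_pos
  -- hence order at most four
  have hW1card : Nat.card W1 ≤ 4 := by
    have := Fintype.ofFinite W1
    let f : W1 → G ⧸ Z := fun w => ū * (w : G ⧸ Z) * ū⁻¹ * (w : G ⧸ Z)⁻¹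
    have hfF : ∀ w : W1, f w ∈ F := by
      intro w
      have hw' : ū * (w : G ⧸ Z) * ū⁻¹ ∈ W1 := hW1n.conj_mem _ w.2 ū
      refine ⟨W1.mul_mem hw' (W1.inv_mem w.2), ?_⟩
      show f w ∈ centralizer ({ū} : Set (G ⧸ Z))
      rw [mem_centralizer_singleton_iff]
      have huu : ū * ū ∈ E1 := by rw [hūdef, ← map_mul]; exact mem_map_of_mem τ hu2
      have hinv : (w : G ⧸ Z)⁻¹ = w := inv_eq_of_mul_eq_one_right w.2.2.1
      have hA : ū * (w : G ⧸ Z) * ū⁻¹ * (w : G ⧸ Z) = (w : G ⧸ Z) * (ū * w * ū⁻¹) :=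
        (w.2.2.2 _ hw'.1).symm
      have hB : ū * ū * (w : G ⧸ Z) = w * (ū * ū) := (w.2.2.2 _ huu).symm
      show ū * (w : G ⧸ Z) * ū⁻¹ * (w : G ⧸ Z)⁻¹ * ū = ū * (ū * w * ū⁻¹ * (w : G ⧸ Z)⁻¹)
      rw [hinv]
      calc ū * (w : G ⧸ Z) * ū⁻¹ * w * ū = (w : G ⧸ Z) * (ū * w * ū⁻¹) * ū := by rw [hA]
        _ = (w : G ⧸ Z) * (ū * ū) * ū⁻¹ * w := by group
        _ = ū * (ū * w * ū⁻¹ * w) := by rw [← hB]; group
    have hfib : ∀ a : G ⧸ Z, (Finset.univ.filter fun w => f w = a).card ≤ Nat.card F := by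
      intro a
      rcases (Finset.univ.filter fun w => f w = a).eq_empty_or_nonempty with h | ⟨w₀, hw₀⟩
      · rw [h]; exact Nat.zero_le _
      rw [← Nat.card_eq_finsetCard]
      refine Nat.card_le_card_of_injective (fun w => (⟨(w₀ : G ⧸ Z)⁻¹ * (w.1 : G ⧸ Z),
        W1.mul_mem (W1.inv_mem w₀.2) w.1.2, ?_⟩ : F)) ?_
      · have e' : ū * (w.1 : G ⧸ Z) * ū⁻¹ * (w.1 : G ⧸ Z)⁻¹ =
            ū * (w₀ : G ⧸ Z) * ū⁻¹ * (w₀ : G ⧸ Z)⁻¹ :=
          (Finset.mem_filter.mp w.2).2.trans (Finset.mem_filter.mp hw₀).2.symm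
        have hinv1 : (w.1 : G ⧸ Z)⁻¹ = w.1 := inv_eq_of_mul_eq_one_right w.1.2.2.1
        show _ ∈ centralizer ({ū} : Set (G ⧸ Z))
        rw [mem_centralizer_singleton_iff]
        have h3 : ū * (w.1 : G ⧸ Z) * ū⁻¹ = ū * (w₀ : G ⧸ Z) * ū⁻¹ * ((w₀ : G ⧸ Z)⁻¹ * w.1) := by
          calc ū * (w.1 : G ⧸ Z) * ū⁻¹ = (ū * (w.1 : G ⧸ Z) * ū⁻¹ * (w.1 : G ⧸ Z)⁻¹) * w.1 := by group
            _ = _ := by rw [e']; group
        calc (w₀ : G ⧸ Z)⁻¹ * w.1 * ū
            = (ū * (w₀ : G ⧸ Z) * ū⁻¹)⁻¹ * (ū * (w₀ : G ⧸ Z) * ū⁻¹ * ((w₀ : G ⧸ Z)⁻¹ * w.1)) * ū := by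
              group
          _ = _ := by rw [← h3]; group
      · intro a b h
        exact Subtype.ext (Subtype.ext (mul_left_cancel (congrArg Subtype.val h)))
    have h1 := Finset.card_le_mul_card_image (f := f) Finset.univ (Nat.card F) fun a _ => hfib a
    rw [Finset.card_univ, ← Nat.card_eq_fintype_card] at h1
    have h2 : (Finset.univ.image f).card ≤ Nat.card F := by
      rw [← Nat.card_eq_finsetCard]
      refine Nat.card_le_card_of_injective (fun a => (⟨a.1, ?_⟩ : F))
        fun a b h => Subtype.ext (congrArg (fun z : F => (z : G ⧸ Z)) h)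
      obtain ⟨w, -, hw⟩ := Finset.mem_image.mp a.2
      exact hw ▸ hfF w
    calc Nat.card W1 ≤ Nat.card F * (Finset.univ.image f).card := h1
      _ ≤ 2 * 2 := Nat.mul_le_mul hFcard (h2.trans hFcard)
  -- central, and lifts to a central subgroup
  have hW1c := le_center_of_card_le_four hperf1 W1 hW1card
  set W := W1.comap τ with hWdef
  have hWG : ⁅W, (⊤ : Subgroup G)⁆ ≤ Z := commutator_le.mpr fun w hw g _ => by
    rw [← QuotientGroup.eq_one_iff]
    show τ ⁅w, g⁆ = 1
    rw [map_commutatorElement, commutatorElement_eq_one_iff_mul_comm]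
    exact (mem_center_iff.mp (hW1c hw) (τ g)).symm
  have h1 : ⁅⁅W, (⊤ : Subgroup G)⁆, (⊤ : Subgroup G)⁆ = ⊥ := by
    rw [commutator_top_right_eq_bot_iff_le_center]
    exact hWG.trans inf_le_right
  have h2 : ⁅⁅(⊤ : Subgroup G), (⊤ : Subgroup G)⁆, W⁆ = ⊥ :=
    commutator_commutator_eq_bot_of_rotate (by rw [commutator_comm (⊤ : Subgroup G) W]; exact h1) h1
  rw [← _root_.commutator_def, hperf, commutator_top_left_eq_bot_iff_le_center] at h2
  refine hW1ne (le_bot_iff.mp fun w hw => ?_)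
  obtain ⟨e, he, rfl⟩ := hw.1
  have heZ : e ∈ Z := ⟨he, h2 (show e ∈ W from hw)⟩
  exact mem_bot.mpr ((QuotientGroup.eq_one_iff e).mpr heZ)

end CfsgLib.BlockA.CoverSixty
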