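import Cfsg.Agent.Lib.BlockA.DegreeGapSimple
import Cfsg.Agent.Lib.BlockA.PerfectCoverSixty
import Cfsg.Agent.Lib.BlockB.PEltValue
import Cfsg.Agent.Lib.Clifford.Correspondence
import Cfsg.Agent.Lib.Clifford.Constituents
import Cfsg.Agent.Lib.StructC.UniqueInvol
import Cfsg.Agent.Lib.Classical.ExcIsoPermOdd
import Cfsg.Agent.S3378
import Mathlib.RingTheory.RootsOfUnity.Complex

/-!
# Groups with `χ(1) - χ(u) = 4` or `χ(u) = 0`: the structure

The group is an extension of an odd abelian normal subgroup by `PSL₂(5)` or `SL₂(5)`.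
-/

set_option autoImplicit false
set_option linter.unusedSectionVars false

namespace CfsgLib.BlockA.DegreeGap

open Module Subgroup
open scoped ComplexConjugate commutatorElement

universe u

variable {G : Type u} [Group G] [Finite G] {u : G}

/-- A proper normal subgroup is contained in one with simple quotient. -/
theorem exists_simple_quotient [Nontrivial G] :
    ∃ (R : Subgroup G) (_ : R.Normal), R ≠ ⊤ ∧ IsSimpleGroup (G ⧸ R) := by
  obtain ⟨M, hM, hMmax⟩ := Set.Finite.exists_maximal (Set.toFinite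
    {M : Subgroup G | M.Normal ∧ M ≠ ⊤}) ⟨⊥, inferInstance, bot_ne_top⟩
  have : M.Normal := hM.1
  have hnt : Nontrivial (G ⧸ M) := QuotientGroup.nontrivial_iff.2 hM.2
  refine ⟨M, hM.1, hM.2, ⟨fun H hH => ?_⟩⟩
  by_cases htop : H.comap (QuotientGroup.mk' M) = ⊤
  · exact Or.inr (Subgroup.comap_injective (QuotientGroup.mk'_surjective M)
      (htop.trans (Subgroup.comap_top _).symm))
  · left
    have hle : M ≤ H.comap (QuotientGroup.mk' M) := fun y hy => by
      simp [(QuotientGroup.eq_one_iff y).mpr hy]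
    have h := hMmax (show _ ∈ {M : Subgroup G | M.Normal ∧ M ≠ ⊤} from
      ⟨hH.comap _, htop⟩) hle
    rw [← Subgroup.map_comap_eq_self_of_surjective (QuotientGroup.mk'_surjective M) H,
      le_antisymm h hle, QuotientGroup.map_mk'_self]

/-- The facts about `A₅` that are used. -/
theorem alt_five_facts :
    (Finset.univ.filter fun a : alternatingGroup (Fin 5) => a * a = 1 ∧ a ≠ 1).card = 15 ∧
      ∀ a : alternatingGroup (Fin 5), a * a * (a * a) = 1 → a * a = 1 := by
  refine ⟨?_, ?_⟩ <;> decide +kernel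

/-- A character of degree three with large restricted norm is scalar on the normal subgroup. -/
theorem exists_scalar {R : Subgroup G} [R.Normal] [Fintype R] {θ : Cfsg.IrrCharacter G}
    (hd : deg θ = 3)
    (hn : ∃ n : ℕ, 4 ≤ n ∧
      Cfsg.classInner (fun r : R => (θ : G → ℂ) r) (fun r : R => (θ : G → ℂ) r) = (n : ℂ)) :
    ∃ f : R →* ℂˣ, ∀ r : R, (θ : G → ℂ) r = 3 * (f r : ℂ) := by
  classical
  have := Fintype.ofFinite G
  set θR : R → ℂ := fun r => (θ : G → ℂ) r with hθR
  obtain ⟨l, hl⟩ := exists_parts (φ := θR)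
    (Char.isCharacter_restrict (Char.irr_isCharacter θ.2) R)
  have hsum : (l.map deg).sum = 3 := by
    have key : ∀ s : Multiset (Cfsg.IrrCharacter R),
        (s.map fun χ : Cfsg.IrrCharacter R => (χ : R → ℂ)).sum 1 = (((s.map deg).sum : ℕ) : ℂ) := by
      intro s
      induction s using Multiset.induction with
      | empty => simp
      | cons a s ih => simp [ih, deg_spec]
    have h1 := key l
    rw [← hl, hθR] at h1
    simp only [OneMemClass.coe_one, deg_spec, hd] at h1
    exact_mod_cast h1.symm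
  have hcount : ∀ a : Cfsg.IrrCharacter R,
      Cfsg.classInner θR (a : R → ℂ) = (l.count a : ℂ) := fun a => by rw [hl, inner_parts]
  have heq : ∀ a ∈ l, ∀ b ∈ l, l.count a = l.count b := by
    intro a ha b hb
    obtain ⟨g, hg⟩ := Clifford.exists_conj_of_constituents (N := R) θ.2 a.2 b.2
      (by rw [← hθR, hcount]; exact_mod_cast (Multiset.count_pos.mpr ha).ne')
      (by rw [← hθR, hcount]; exact_mod_cast (Multiset.count_pos.mpr hb).ne')
    have hinv : ∀ r : R, θR (Clifford.conjN g r) = θR r := fun r =>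
      congr_fun (Clifford.isCharacter_restrict_conj (Char.irr_isClassFunction θ.2) g) r
    have e : Cfsg.classInner θR (b : R → ℂ) = Cfsg.classInner θR (a : R → ℂ) := by
      rw [← hg, Char.classInner_def, Char.classInner_def]
      congr 1
      refine Fintype.sum_equiv (⟨Clifford.conjN g, Clifford.conjN g⁻¹,
        fun r => by rw [← Clifford.conjN_mul, inv_mul_cancel, Clifford.conjN_one],
        fun r => by rw [← Clifford.conjN_mul, mul_inv_cancel, Clifford.conjN_one]⟩ : R ≃ R) _ _ fun r => ?_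
      simp [Clifford.conjFn_apply, hinv]
    rw [hcount, hcount] at e
    exact_mod_cast e.symm
  obtain ⟨n, hn4, hn⟩ := hn
  have hnorm : ∑ a ∈ l.toFinset, l.count a * l.count a = n := by
    have h1 : Cfsg.classInner θR θR = ∑ a ∈ l.toFinset, (l.count a : ℂ) * (l.count a : ℂ) := by
      conv_lhs => arg 2; rw [hl, Finset.sum_multiset_map_count]
      rw [Char.classInner_sum_right]
      refine Finset.sum_congr rfl fun a _ => ?_
      rw [← Nat.cast_smul_eq_nsmul ℂ, Char.classInner_smul_right, hcount, map_natCast]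
    rw [hn] at h1
    exact_mod_cast h1.symm
  have hcs : ∑ a ∈ l.toFinset, l.count a = Multiset.card l := Multiset.toFinset_sum_count_eq l
  have hle : Multiset.card l ≤ 3 := by
    rw [← hsum]
    have := Multiset.card_nsmul_le_sum (s := l.map deg) (a := 1)
      (fun x hx => by obtain ⟨a, -, rfl⟩ := Multiset.mem_map.mp hx; exact deg_pos a)
    simpa using this
  obtain ⟨a, ha⟩ : ∃ a, a ∈ l := by
    refine Multiset.exists_mem_of_ne_zero fun e => ?_
    rw [e] at hsum
    simp at hsum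
  set e := l.count a with he
  have hsq : ∑ b ∈ l.toFinset, l.count b * l.count b = e * Multiset.card l := by
    rw [← hcs, Finset.mul_sum]
    exact Finset.sum_congr rfl fun b hb => by rw [heq b (Multiset.mem_toFinset.mp hb) a ha]
  have hdeg : e * (∑ b ∈ l.toFinset, deg b) = 3 := by
    rw [← hsum, Finset.sum_multiset_map_count, Finset.mul_sum]
    exact Finset.sum_congr rfl fun b hb => by
      rw [heq b (Multiset.mem_toFinset.mp hb) a ha, smul_eq_mul]
  have hea : e ≤ Multiset.card l := Multiset.count_le_card a l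
  have he3 : e = 3 := by
    have hd3 : e ∣ 3 := ⟨_, hdeg.symm⟩
    rcases (Nat.dvd_prime Nat.prime_three).mp hd3 with h | h
    · rw [hsq, h] at hnorm; omega
    · exact h
  have hrep : l = Multiset.replicate 3 a := by
    have h3 : Multiset.card l = 3 := by omega
    rw [← h3]
    refine Multiset.eq_replicate_card.mpr fun b hb => ?_
    exact (Multiset.count_eq_card.mp (show l.count a = Multiset.card l by omega) b hb).symm
  have ha1 : deg a = 1 := by
    rw [hrep, Multiset.map_replicate, Multiset.sum_replicate, smul_eq_mul] at hsum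
    omega
  obtain ⟨f, hf⟩ := Char.exists_hom_of_degree_one (Char.irr_isCharacter a.2)
    (by rw [deg_spec, ha1, Nat.cast_one])
  refine ⟨f, fun r => ?_⟩
  have h1 := congr_fun hl r
  rw [hrep, Multiset.map_replicate, Multiset.sum_replicate, Pi.smul_apply, nsmul_eq_mul, hf] at h1
  simpa [hθR] using h1

/-- Inflation. -/
noncomputable def infl (R : Subgroup G) [R.Normal] (χ : Cfsg.IrrCharacter (G ⧸ R)) :
    Cfsg.IrrCharacter G :=
  ⟨_, Char.isIrrCharacter_comp_surjective χ.2 (QuotientGroup.mk' R)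
    (QuotientGroup.mk'_surjective R)⟩

theorem infl_apply (R : Subgroup G) [R.Normal] (χ : Cfsg.IrrCharacter (G ⧸ R)) (g : G) :
    (infl R χ : G → ℂ) g = (χ : G ⧸ R → ℂ) (QuotientGroup.mk' R g) := rfl

theorem infl_injective (R : Subgroup G) [R.Normal] : Function.Injective (infl R) := by
  intro a b h
  refine Subtype.ext (funext fun x => ?_)
  obtain ⟨g, rfl⟩ := QuotientGroup.mk'_surjective R x
  exact congr_fun (congrArg Subtype.val h) g

theorem infl_trivial (R : Subgroup G) [R.Normal] (χ : Cfsg.IrrCharacter (G ⧸ R)) {r : G} (hr : r ∈ R) :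
    (infl R χ : G → ℂ) r = (infl R χ : G → ℂ) 1 := by
  rw [infl_apply, infl_apply, map_one, QuotientGroup.mk'_apply, (QuotientGroup.eq_one_iff r).mpr hr]

theorem exists_infl (R : Subgroup G) [R.Normal] (χ : Cfsg.IrrCharacter G)
    (hχ : ∀ r ∈ R, (χ : G → ℂ) r = (χ : G → ℂ) 1) : ∃ ψ, infl R ψ = χ := by
  obtain ⟨ψ, hψ⟩ := (CfsgLib.BlockB.quotIrrEquiv R).surjective ⟨χ, hχ⟩
  exact ⟨ψ, congrArg Subtype.val hψ⟩

theorem deg_infl (R : Subgroup G) [R.Normal] (χ : Cfsg.IrrCharacter (G ⧸ R)) :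
    deg (infl R χ) = deg χ := by
  have h := deg_spec (infl R χ)
  rw [infl_apply, map_one, deg_spec χ] at h
  exact_mod_cast h.symm

theorem infl_one (R : Subgroup G) [R.Normal] : infl R (one (G ⧸ R)) = one G := rfl

theorem perfect_quotient (hperf : commutator G = ⊤) (R : Subgroup G) [R.Normal] :
    commutator (G ⧸ R) = ⊤ := by
  rw [_root_.commutator_def, ← MonoidHom.range_eq_top.mpr (QuotientGroup.mk'_surjective R),
    MonoidHom.range_eq_map, ← map_commutator, ← _root_.commutator_def, hperf]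

section SimpleQuotient

variable (h : Gap u) (R : Subgroup G) [R.Normal] [IsSimpleGroup (G ⧸ R)] (hR : R ≠ ⊤)
include h hR

theorem quotient_structure :
    Nat.card (Subgroup.centralizer ({QuotientGroup.mk' R u} : Set (G ⧸ R))) = 4 ∧
    Nonempty (G ⧸ R ≃* ↥(alternatingGroup (Fin 5))) ∧ Nat.card (G ⧸ R) = 60 ∧
    QuotientGroup.mk' R u * QuotientGroup.mk' R u = 1 := by
  obtain ⟨hg, hu⟩ := quotient h R hR
  obtain ⟨hc, ⟨e⟩, -⟩ := simple_case hg hu
  refine ⟨hc, ⟨e⟩, ?_, sq_eq_one hg hu⟩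
  rw [Nat.card_congr e.toEquiv, nat_card_alternatingGroup, Nat.card_fin]
  rfl

/-- A character of degree three with value `-1` at `u` is inflated. -/
theorem trivial_of_three {θ : Cfsg.IrrCharacter G} (hd : deg θ = 3) (hv : (θ : G → ℂ) u = -1) :
    ∀ r ∈ R, (θ : G → ℂ) r = (θ : G → ℂ) 1 := by
  classical
  have := Fintype.ofFinite G
  have := Fintype.ofFinite R
  obtain ⟨hg, hu⟩ := quotient h R hR
  obtain ⟨-, -, α, ψ, hαd, hψd, hαv, hαdual, hψ1, hαψ⟩ := simple_case hg hu
  set A := infl R α with hA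
  set B := infl R ψ with hB
  set φ : G → ℂ := fun g => (θ : G → ℂ) g * conj ((θ : G → ℂ) g) with hφ
  have hφc : Cfsg.IsCharacter G φ :=
    Char.isCharacter_mul (Char.irr_isCharacter θ.2) (Char.irr_isCharacter (dual θ).2)
  have hφ1 : Cfsg.classInner φ ((one G : Cfsg.IrrCharacter G) : G → ℂ) = 1 := by
    rw [show φ = fun g => (θ : G → ℂ) g * ((dual θ : Cfsg.IrrCharacter G) : G → ℂ) g from rfl,
      inner_eq_one_iff, dual_dual, inner_irr, if_pos rfl]
  obtain ⟨γ, hγ, hγd, hγR⟩ : ∃ γ : Cfsg.IrrCharacter G, Cfsg.classInner φ (γ : G → ℂ) ≠ 0 ∧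
      3 ≤ deg γ ∧ ∀ r ∈ R, (γ : G → ℂ) r = (γ : G → ℂ) 1 := by
    by_contra hcon
    push Not at hcon
    have hAi : Cfsg.classInner φ (A : G → ℂ) = 0 := by
      by_contra h0
      obtain ⟨r, hr, hne⟩ := hcon A h0 (by rw [hA, deg_infl, hαd])
      exact hne (infl_trivial R α hr)
    have hBi : Cfsg.classInner φ (B : G → ℂ) = 0 := by
      by_contra h0
      obtain ⟨r, hr, hne⟩ := hcon B h0 (by rw [hB, deg_infl, hψd]; norm_num)
      exact hne (infl_trivial R ψ hr)
    have hsq : (fun g => conj ((A : G → ℂ) g) * (A : G → ℂ) g) =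
        ((one G : Cfsg.IrrCharacter G) : G → ℂ) + (A : G → ℂ) + (B : G → ℂ) := by
      funext g
      have e : conj ((α : G ⧸ R → ℂ) (QuotientGroup.mk' R g)) = (α : G ⧸ R → ℂ) (QuotientGroup.mk' R g) :=
        congr_fun (congrArg Subtype.val hαdual) _
      simp only [Pi.add_apply, hA, hB, infl_apply, e]
      exact hαψ _
    set ω : G → ℂ := fun g => (θ : G → ℂ) g * (A : G → ℂ) g with hω
    have hωirr : Cfsg.IsIrrCharacter G ω := Char.isIrrCharacter_iff.mpr
      ⟨Char.isCharacter_mul (Char.irr_isCharacter θ.2) (Char.irr_isCharacter A.2), by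
        rw [hω, inner_mul_mul, hsq, ← hφ, Char.classInner_add_right, Char.classInner_add_right,
          hφ1, hAi, hBi, add_zero, add_zero]⟩
    have hω1 : ω 1 = 9 := by
      simp [ω, deg_spec, hd, hA, deg_infl, hαd]; norm_num
    have hωu : ω u = 1 := by
      simp only [ω, hA, infl_apply, hαv, hv]; norm_num
    rcases h ⟨ω, hωirr⟩ (fun e => by
      have := congr_fun e 1
      rw [show ((⟨ω, hωirr⟩ : Cfsg.IrrCharacter G) : G → ℂ) 1 = 9 from hω1] at this
      norm_num at this) with h4 | h4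
    · rw [show ((⟨ω, hωirr⟩ : Cfsg.IrrCharacter G) : G → ℂ) 1 = 9 from hω1,
        show ((⟨ω, hωirr⟩ : Cfsg.IrrCharacter G) : G → ℂ) u = 1 from hωu] at h4
      norm_num at h4
    · rw [show ((⟨ω, hωirr⟩ : Cfsg.IrrCharacter G) : G → ℂ) u = 1 from hωu] at h4
      norm_num at h4
  have hγ1 : γ ≠ one G := by
    intro e
    have h1 := deg_spec γ
    rw [e] at h1
    change (1 : ℂ) = _ at h1
    have : deg (one G) = 1 := by exact_mod_cast h1.symm
    rw [e] at hγd
    omega
  obtain ⟨F₁, hF₁, e₁⟩ := Clifford.exists_add_of_constituent hφc γ.2 hγ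
  obtain ⟨F₂, hF₂, e₂⟩ := Clifford.exists_add_of_constituent hF₁ (one G).2 (by
    rw [e₁, Char.classInner_add_left, inner_irr, if_neg hγ1, zero_add] at hφ1
    rw [hφ1]; exact one_ne_zero)
  have hone : Cfsg.IsIrrCharacter R (fun _ => (1 : ℂ)) := Char.isIrrCharacter_one
  obtain ⟨k, hk⟩ := Char.classInner_isCharacter_nat (Char.isCharacter_restrict hF₂ R)
    (Char.irr_isCharacter hone)
  obtain ⟨f, hf⟩ := exists_scalar (θ := θ) (R := R) hd ⟨deg γ + 1 + k, by omega, by
    have e3 : Cfsg.classInner (fun r : R => (θ : G → ℂ) r) (fun r : R => (θ : G → ℂ) r) =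
        Cfsg.classInner (fun r : R => φ r) (fun _ => (1 : ℂ)) := by
      simp [Char.classInner_def, hφ]
    have e4 : (fun r : R => φ r) =
        ((deg γ + 1 : ℕ) : ℂ) • (fun _ => (1 : ℂ)) + fun r : R => F₂ r := by
      funext r
      rw [e₁, e₂]
      simp [hγR r r.2, deg_spec, one, add_assoc]
    rw [e3, e4, Char.classInner_add_left, Char.classInner_smul_left, Char.irr_classInner_self hone,
      hk, mul_one]
    push_cast
    ring⟩
  have hcube : ∀ r : R, f r ^ 3 = 1 := by
    intro r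
    have h1 := sq_three (perfect h) hd (r : G)
    rw [← Subgroup.coe_mul, hf, hf, map_mul, Units.val_mul, map_mul, map_ofNat] at h1
    have h2 : (f r : ℂ) * (f r : ℂ) = conj (f r : ℂ) := by linear_combination -h1 / 6
    have h3 := congrArg conj h2
    rw [map_mul, Complex.conj_conj, ← h2] at h3
    refine Units.ext (mul_left_cancel₀ (Units.ne_zero (f r)) ?_)
    rw [Units.val_pow_eq_pow_val, Units.val_one, mul_one]
    linear_combination h3
  intro r₀ hr₀
  by_contra hne
  have hf0 : f ⟨r₀, hr₀⟩ ≠ 1 := by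
    intro e
    apply hne
    rw [show (θ : G → ℂ) r₀ = _ from hf ⟨r₀, hr₀⟩, e, deg_spec, hd]
    norm_num
  have hinv : ∀ (g : G) (r : R), f ⟨g * r * g⁻¹, (inferInstance : R.Normal).conj_mem _ r.2 g⟩ = f r := by
    intro g r
    have h1 := hf ⟨g * r * g⁻¹, (inferInstance : R.Normal).conj_mem _ r.2 g⟩
    have h2 : (θ : G → ℂ) (g * r * g⁻¹) = (θ : G → ℂ) r := (Char.irr_isClassFunction θ.2) (r : G) g
    have h3 := hf r
    simp only at h1
    rw [h2, h3] at h1
    exact (Units.ext (mul_left_cancel₀ (by norm_num : (3 : ℂ) ≠ 0) h1)).symm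
  set K := f.ker.map R.subtype with hK
  have hKn : K.Normal := ⟨fun x hx g => by
    obtain ⟨r, hr, rfl⟩ := hx
    exact ⟨⟨g * r * g⁻¹, (inferInstance : R.Normal).conj_mem _ r.2 g⟩,
      show f _ = 1 by rw [hinv]; exact hr, rfl⟩⟩
  have hKR : K ≤ R := map_subtype_le f.ker
  have hidx : Nat.card (G ⧸ K) = 180 := by
    have h3 : Nat.card f.range = 3 := by
      have hd3 : Nat.card f.range ∣ 3 := by
        have := Subgroup.card_dvd_of_le (show f.range ≤ rootsOfUnity 3 ℂ by
          rintro x ⟨r, rfl⟩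
          exact (mem_rootsOfUnity _ _).mpr (hcube r))
        rwa [Complex.card_rootsOfUnity] at this
      rcases (Nat.dvd_prime Nat.prime_three).mp hd3 with h1 | h1
      · have := Subgroup.eq_bot_of_card_eq f.range h1
        exact absurd (mem_bot.mp (this ▸ MonoidHom.mem_range.mpr ⟨_, rfl⟩ : f ⟨r₀, hr₀⟩ ∈ (⊥ : Subgroup ℂˣ))) hf0
      · exact h1
    have hrel : K.relIndex R = 3 := by
      rw [relIndex, hK, subgroupOf, comap_map_eq_self_of_injective R.subtype_injective, index_ker, h3]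
    rw [← index_eq_card, ← relIndex_mul_index hKR, hrel, index_eq_card,
      (quotient_structure h R hR).2.2.1]
  have : Fact (Nat.Prime 3) := ⟨Nat.prime_three⟩
  set z : G ⧸ K := QuotientGroup.mk' K r₀ with hz
  have hzc : z ∈ center (G ⧸ K) := by
    rw [mem_center_iff]
    intro y
    obtain ⟨g, rfl⟩ := QuotientGroup.mk'_surjective K y
    rw [← commutatorElement_eq_one_iff_mul_comm, hz, ← map_commutatorElement,
      QuotientGroup.mk'_apply, QuotientGroup.eq_one_iff]
    refine ⟨⟨g * r₀ * g⁻¹, (inferInstance : R.Normal).conj_mem _ hr₀ g⟩ * ⟨r₀, hr₀⟩⁻¹, ?_, ?_⟩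
    · show f _ = 1
      rw [map_mul, hinv g ⟨r₀, hr₀⟩, map_inv, mul_inv_cancel]
    · simp [commutatorElement_def]
  have hz3 : z ^ 3 = 1 := by
    rw [hz, ← map_pow, QuotientGroup.mk'_apply, QuotientGroup.eq_one_iff]
    exact ⟨⟨r₀, hr₀⟩ ^ 3, show f _ = 1 by rw [map_pow, hcube], rfl⟩
  have hzp : IsPGroup 3 (zpowers z) := by
    obtain ⟨i, -, hi⟩ := (Nat.dvd_prime_pow Nat.prime_three).mp
      (orderOf_dvd_of_pow_eq_one (show z ^ (3 ^ 1) = 1 from hz3))
    exact IsPGroup.of_card (n := i) (by rw [Nat.card_zpowers, hi])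
  obtain ⟨P, hP⟩ := hzp.exists_le_sylow
  have hP9 : Nat.card (P : Subgroup (G ⧸ K)) = 3 ^ 2 := by
    rw [Sylow.card_eq_multiplicity, hidx, show (180 : ℕ) = 3 ^ 2 * 20 by norm_num,
      Nat.factorization_mul (by norm_num) (by norm_num), Finsupp.add_apply,
      Nat.Prime.factorization_pow Nat.prime_three,
      Nat.factorization_eq_zero_of_not_dvd (by norm_num)]
    simp
  have hPc : IsMulCommutative (P : Subgroup (G ⧸ K)) := IsPGroup.isMulCommutative_of_card_eq_prime_sq hP9
  have hz1 := CoverSixty.eq_one_of_central (perfect_quotient (perfect h) K) P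
    (fun a ha b hb => congrArg Subtype.val (hPc.is_comm.comm (⟨a, ha⟩ : (P : Subgroup _)) ⟨b, hb⟩))
    hzc (hP (mem_zpowers z))
  rw [hz, QuotientGroup.mk'_apply, QuotientGroup.eq_one_iff] at hz1
  obtain ⟨r, hr, hrr⟩ := hz1
  exact hf0 ((show r = ⟨r₀, hr₀⟩ from Subtype.ext hrr) ▸ hr)

/-- Non-inflated characters vanish at `u`. -/
theorem vanish (hu : u ≠ 1) {χ : Cfsg.IrrCharacter G} (hχ : ∀ ψ, infl R ψ ≠ χ) :
    (χ : G → ℂ) u = 0 := by
  classical
  have := Fintype.ofFinite G
  have := Fintype.ofFinite (Cfsg.IrrCharacter G)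
  have := Fintype.ofFinite (Cfsg.IrrCharacter (G ⧸ R))
  set T := (Finset.univ.image (infl R))ᶜ with hT
  have hmem : ∀ χ : Cfsg.IrrCharacter G, χ ∈ T ↔ ∀ ψ, infl R ψ ≠ χ := by simp [hT]
  have hne : ∀ χ ∈ T, χ ≠ one G := fun χ hχ e =>
    (hmem χ).mp hχ (one (G ⧸ R)) ((infl_one R).trans e.symm)
  have hnn : ∀ χ ∈ T, (0 : ℤ) ≤ (deg χ : ℤ) * val u χ ∧ ((deg χ : ℤ) * val u χ = 0 → val u χ = 0) := by
    intro χ hχ
    refine ⟨?_, fun h0 => (mul_eq_zero.mp h0).resolve_left (by exact_mod_cast (deg_pos χ).ne')⟩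
    rcases val_cases u χ with e | e
    · rw [e, mul_zero]
    · have h2 := two_le_deg h (hne χ hχ)
      rcases (by omega : deg χ = 2 ∨ deg χ = 3 ∨ 4 ≤ deg χ) with hd | hd | hd
      · rw [val_deg_two h (hne χ hχ) hd, mul_zero]
      · exfalso
        obtain ⟨ψ, hψ⟩ := exists_infl R χ (trivial_of_three h R hR hd (by
          rw [val_spec h (hne χ hχ), e, hd]; norm_num))
        exact (hmem χ).mp hχ ψ hψ
      · rw [e]; exact mul_nonneg (by omega) (by omega)
  have hsum : ∑ χ ∈ T, (deg χ : ℤ) * val u χ = 0 := by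
    have h1 := Char.sum_irr_mul_degree (G := G) u
    rw [if_neg hu, ← Finset.sum_add_sum_compl (Finset.univ.image (infl R))] at h1
    rw [Finset.sum_image (fun a _ b _ e => infl_injective R e)] at h1
    have h2 := Char.sum_irr_mul_degree (G := G ⧸ R) (QuotientGroup.mk' R u)
    rw [if_neg (quotient h R hR).2] at h2
    simp only [infl_apply, map_one] at h1
    rw [h2, zero_add, ← hT] at h1
    have h3 : ((∑ χ ∈ T, (deg χ : ℤ) * val u χ : ℤ) : ℂ) = 0 := by
      rw [← h1, Int.cast_sum]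
      refine Finset.sum_congr rfl fun χ hχ => ?_
      rw [val_spec h (hne χ hχ), deg_spec]
      push_cast
      ring
    exact_mod_cast h3
  have hz := (Finset.sum_eq_zero_iff_of_nonneg fun χ hχ => (hnn χ hχ).1).mp hsum χ ((hmem χ).mpr hχ)
  rw [val_spec h (hne χ ((hmem χ).mpr hχ)), (hnn χ ((hmem χ).mpr hχ)).2 hz, Int.cast_zero]

/-- One conjugacy class lies over the class of the image of `u`. -/
theorem isConj_of_map (hu : u ≠ 1) (x : G)
    (hx : IsConj (QuotientGroup.mk' R x) (QuotientGroup.mk' R u)) : IsConj x u := by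
  classical
  have := Fintype.ofFinite G
  have := Fintype.ofFinite (Cfsg.IrrCharacter G)
  have := Fintype.ofFinite (Cfsg.IrrCharacter (G ⧸ R))
  by_contra hn
  have h1 := Char.column_orthogonality x u
  rw [if_neg hn, ← Finset.sum_add_sum_compl (Finset.univ.image (infl R)),
    Finset.sum_image (fun a _ b _ e => infl_injective R e),
    Finset.sum_eq_zero (s := (Finset.univ.image (infl R))ᶜ) (fun χ hχ => by
      rw [vanish h R hR hu (by simpa using hχ), map_zero, mul_zero]), add_zero] at h1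
  have h2 := Char.column_orthogonality (QuotientGroup.mk' R x) (QuotientGroup.mk' R u)
  rw [if_pos hx] at h2
  simp only [infl_apply] at h1
  rw [h1] at h2
  exact absurd h2.symm (by exact_mod_cast Nat.card_pos.ne')

end SimpleQuotient

/-- In a group isomorphic to `A₅` the involutions form one class. -/
theorem sixty_facts {S : Type*} [Group S] [Finite S] (e : S ≃* alternatingGroup (Fin 5)) {a : S}
    (ha : a * a = 1) (ha1 : a ≠ 1) (hc : Nat.card (Subgroup.centralizer ({a} : Set S)) = 4) :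
    (∀ y : S, y * y = 1 → y ≠ 1 → IsConj y a) ∧ ∀ y : S, y * y * (y * y) = 1 → y * y = 1 := by
  classical
  obtain ⟨h15, h4⟩ := alt_five_facts
  refine ⟨fun y hy hy1 => ?_, fun y hy => e.injective ?_⟩
  · set I := {y : S | y * y = 1 ∧ y ≠ 1} with hI
    have hsub : (ConjClasses.mk a).carrier ⊆ I := by
      intro x hx
      rw [ConjClasses.mem_carrier_iff_mk_eq, ConjClasses.mk_eq_mk_iff_isConj] at hx
      obtain ⟨g, hg⟩ := isConj_iff.mp hx.symm
      refine ⟨by rw [← hg]; calc g * a * g⁻¹ * (g * a * g⁻¹) = g * (a * a) * g⁻¹ := by group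
                                  _ = 1 := by rw [ha]; group, fun h1 => ha1 ?_⟩
      rw [h1] at hg
      exact conj_eq_one_iff.mp hg
    have hI15 : Nat.card I = 15 := by
      rw [← h15, ← Nat.card_eq_finsetCard]
      refine Nat.card_congr (e.toEquiv.subtypeEquiv fun x => ?_)
      show x * x = 1 ∧ x ≠ 1 ↔ _
      simp [← map_mul]
    have hK : Nat.card (ConjClasses.mk a).carrier = 15 := by
      have := Fintype.ofFinite S
      have h60 := Char.natCard_carrier_mul_centralizer a
      rw [hc, Nat.card_congr e.toEquiv, nat_card_alternatingGroup, Nat.card_fin,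
        show Nat.factorial 5 / 2 = 15 * 4 from rfl] at h60
      omega
    have heq := Set.eq_of_subset_of_ncard_le hsub
      (by rw [← Nat.card_coe_set_eq, ← Nat.card_coe_set_eq, hI15, hK])
    have hyI : y ∈ I := ⟨hy, hy1⟩
    rw [← heq, ConjClasses.mem_carrier_iff_mk_eq, ConjClasses.mk_eq_mk_iff_isConj] at hyI
    exact hyI
  · rw [map_mul, map_one]
    refine h4 (e y) ?_
    rw [← map_mul, ← map_mul, hy, map_one]

/-- An element whose square centralises `W` and which fixes no point of `W` inverts `W`. -/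
theorem inverts (W : Subgroup G) {x : G} (hx : ∀ w ∈ W, x * w * x⁻¹ ∈ W)
    (hx2 : ∀ w ∈ W, x * x * w = w * (x * x)) (hfix : ∀ w ∈ W, x * w = w * x → w = 1) :
    ∀ w ∈ W, x * w * x⁻¹ = w⁻¹ := by
  let f : W → W := fun w => ⟨(w : G)⁻¹ * (x * w * x⁻¹), W.mul_mem (W.inv_mem w.2) (hx w w.2)⟩
  have hf : Function.Injective f := by
    intro a b hab
    have e : (a : G)⁻¹ * (x * a * x⁻¹) = (b : G)⁻¹ * (x * b * x⁻¹) := congrArg Subtype.val hab
    have h1 : (b : G) * (a : G)⁻¹ = 1 := hfix _ (W.mul_mem b.2 (W.inv_mem a.2)) (by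
      calc x * ((b : G) * (a : G)⁻¹) = (x * b * x⁻¹) * (x * a * x⁻¹)⁻¹ * x := by group
        _ = ((b : G) * ((b : G)⁻¹ * (x * b * x⁻¹))) * ((a : G) * ((a : G)⁻¹ * (x * a * x⁻¹)))⁻¹ * x := by
              group
        _ = (b : G) * (a : G)⁻¹ * x := by rw [e]; group)
    exact Subtype.ext (mul_inv_eq_one.mp h1).symm
  intro w hw
  obtain ⟨y, hy⟩ := (Finite.injective_iff_surjective.mp hf) ⟨w, hw⟩
  have e : (y : G)⁻¹ * (x * y * x⁻¹) = w := congrArg Subtype.val hy
  rw [← e]
  calc x * ((y : G)⁻¹ * (x * y * x⁻¹)) * x⁻¹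
      = (x * y * x⁻¹)⁻¹ * (x * x * y) * (x * x)⁻¹ := by group
    _ = ((y : G)⁻¹ * (x * y * x⁻¹))⁻¹ := by rw [hx2 y y.2]; group

theorem comm_of_inverts (W : Subgroup G) {x : G} (h : ∀ w ∈ W, x * w * x⁻¹ = w⁻¹) :
    IsMulCommutative W := by
  refine ⟨⟨fun a b => Subtype.ext ?_⟩⟩
  have h1 := h _ (W.mul_mem a.2 b.2)
  have h2 : x * ((a : G) * b) * x⁻¹ = (a : G)⁻¹ * (b : G)⁻¹ := by
    rw [← h a a.2, ← h b b.2]; group
  rw [h1, ← mul_inv_rev] at h2
  exact inv_injective h2

theorem eq_one_of_pow_four_of_odd (N : Subgroup G) (hodd : Odd (Nat.card N)) {w : G} (hw : w ∈ N)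
    (h4 : w ^ 4 = 1) : w = 1 := by
  refine orderOf_eq_one_iff.mp (Nat.eq_one_of_dvd_coprimes ?_
    (Subgroup.orderOf_dvd_natCard N hw) (orderOf_dvd_of_pow_eq_one h4))
  exact (Nat.Coprime.pow_right 2 (Nat.coprime_two_right.mpr hodd) : Nat.Coprime _ (2 ^ 2))

/-- An element conjugate to `u` has no fixed point on an odd normal subgroup. -/
theorem fix_eq_one (hc : Nat.card (Subgroup.centralizer ({u} : Set G)) = 4) (N : Subgroup G) [N.Normal]
    (hodd : Odd (Nat.card N)) {x : G} (hx : IsConj x u) :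
    ∀ w ∈ N, x * w = w * x → w = 1 := by
  intro w hw hxw
  obtain ⟨g, hg⟩ := isConj_iff.mp hx
  have h1 : g * w * g⁻¹ ∈ Subgroup.centralizer ({u} : Set G) := by
    rw [mem_centralizer_singleton_iff, ← hg]
    calc g * w * g⁻¹ * (g * x * g⁻¹) = g * (w * x) * g⁻¹ := by group
      _ = g * x * g⁻¹ * (g * w * g⁻¹) := by rw [← hxw]; group
  have h2 : (g * w * g⁻¹) ^ 4 = 1 := orderOf_dvd_iff_pow_eq_one.mp
    (hc ▸ Subgroup.orderOf_dvd_natCard _ h1)
  exact conj_eq_one_iff.mp
    (eq_one_of_pow_four_of_odd N hodd ((inferInstance : N.Normal).conj_mem _ hw g) h2)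

theorem card_sylow_two_of_sixty {S : Type*} [Group S] [Finite S] (hS : Nat.card S = 60)
    (Q : Sylow 2 S) : Nat.card (Q : Subgroup S) = 4 := by
  have : Fact (Nat.Prime 2) := ⟨Nat.prime_two⟩
  rw [Sylow.card_eq_multiplicity, hS, show (60 : ℕ) = 2 ^ 2 * 15 by norm_num,
    Nat.factorization_mul (by norm_num) (by norm_num), Finsupp.add_apply,
    Nat.Prime.factorization_pow Nat.prime_two,
    Nat.factorization_eq_zero_of_not_dvd (by norm_num)]
  simp

/-- The odd core is the normal `2`-complement of the kernel. -/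
theorem oddCore_spec {S : Type*} [Group S] [Finite S] [IsSimpleGroup S] (π : G →* S)
    (hπ : Function.Surjective π) (heven : ¬ Odd (Nat.card S))
    (hN : Cfsg.HasNormalPComplement 2 π.ker) :
    Cfsg.oddCore G ≤ π.ker ∧ Odd (Nat.card (Cfsg.oddCore G)) ∧
      ∀ y ∈ π.ker, ∃ n : ℕ, y ^ (2 ^ n) ∈ Cfsg.oddCore G := by
  have : Fact (Nat.Prime 2) := ⟨Nat.prime_two⟩
  obtain ⟨P, N₀, hN₀, hcompl⟩ := hN
  obtain ⟨n, hn⟩ := IsPGroup.iff_card.mp P.2
  have hP : N₀.index = 2 ^ n := by rw [hcompl.symm.index_eq_card, hn]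
  have hN₀odd : Odd (Nat.card N₀) := by
    have h1 := P.not_dvd_index
    rw [hcompl.index_eq_card] at h1
    exact Nat.odd_iff.mpr (Nat.two_dvd_ne_zero.mp h1)
  have hodd : ∀ y : π.ker, Odd (orderOf y) → y ∈ N₀ := by
    intro y hy
    rw [← QuotientGroup.eq_one_iff, ← orderOf_eq_one_iff]
    refine Nat.eq_one_of_dvd_coprimes (Nat.Coprime.pow_left n (Nat.coprime_two_left.mpr hy))
      (by rw [← hP, N₀.index_eq_card]; exact _root_.orderOf_dvd_natCard _)
      (orderOf_map_dvd (QuotientGroup.mk' N₀) y)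
  have hoddG : ∀ y ∈ π.ker, Odd (orderOf y) → y ∈ N₀.map π.ker.subtype := fun y hy hyo =>
    ⟨⟨y, hy⟩, hodd _ (by rwa [Subgroup.orderOf_mk]), rfl⟩
  have hcard : Nat.card (N₀.map π.ker.subtype) = Nat.card N₀ :=
    (Nat.card_congr (N₀.equivMapOfInjective _ π.ker.subtype_injective).toEquiv).symm
  have hnormal : (N₀.map π.ker.subtype).Normal := ⟨fun y hy g => by
    refine hoddG _ ((MonoidHom.normal_ker π).conj_mem _ (map_subtype_le N₀ hy) g) ?_
    rw [show g * y * g⁻¹ = MulAut.conj g y from rfl, MulEquiv.orderOf_eq]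
    exact (hcard ▸ hN₀odd).of_dvd_nat (Subgroup.orderOf_dvd_natCard _ hy)⟩
  have heq : Cfsg.oddCore G = N₀.map π.ker.subtype := by
    refine le_antisymm (sSup_le ?_) (le_sSup ⟨hnormal, ?_⟩)
    · rintro M ⟨hM, hMc⟩
      have := hM
      have hMo : Odd (Nat.card M) := Nat.coprime_two_right.mp hMc
      rcases IsSimpleGroup.eq_bot_or_eq_top_of_normal (M.map π) (hM.map π hπ) with hb | ht
      · intro y hy
        exact hoddG y ((MonoidHom.mem_ker).mpr (mem_bot.mp (hb ▸ mem_map_of_mem π hy)))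
          (hMo.of_dvd_nat (Subgroup.orderOf_dvd_natCard _ hy))
      · exact absurd (hMo.of_dvd_nat (by rw [← Subgroup.card_top (G := S), ← ht]; exact card_map_dvd _ _)) heven
    · exact Nat.coprime_two_right.mpr (hcard ▸ hN₀odd)
  rw [heq]
  refine ⟨map_subtype_le N₀, hcard ▸ hN₀odd, fun y hy => ⟨n, ⟨⟨y, hy⟩ ^ (2 ^ n), ?_, rfl⟩⟩⟩
  show _ ∈ N₀
  rw [← hP]
  exact Subgroup.pow_index_mem _ _

/-- A group of order `120` in which a class of elements of order four lies over the involutions. -/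
theorem double_cover {S : Type*} [Group S] [Finite S] (e : S ≃* alternatingGroup (Fin 5))
    (π : G →* S) (hπ : Function.Surjective π) (hperf : commutator G = ⊤)
    (hlift : ∀ x : G, IsConj (π x) (π u) → IsConj x u)
    (ha : π u * π u = 1) (ha1 : π u ≠ 1)
    (hS : Nat.card (Subgroup.centralizer ({π u} : Set S)) = 4)
    (hker : Nat.card π.ker = 2) (hcen : π.ker ≤ center G) :
    Nat.card G = 120 ∧ u * u ≠ 1 ∧ (∀ x : G, x * x = 1 → x = 1 ∨ x = u * u) ∧
      Nonempty (G ≃* Matrix.SpecialLinearGroup (Fin 2) (ZMod 5)) := by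
  classical
  have : Fact (Nat.Prime 2) := ⟨Nat.prime_two⟩
  obtain ⟨hclass, hfour⟩ := sixty_facts e ha ha1 hS
  have hS60 : Nat.card S = 60 := by
    rw [Nat.card_congr e.toEquiv, nat_card_alternatingGroup, Nat.card_fin]; rfl
  have hG : Nat.card G = 120 := by
    rw [card_eq_card_quotient_mul_card_subgroup π.ker,
      Nat.card_congr (QuotientGroup.quotientKerEquivOfSurjective π hπ).toEquiv, hS60, hker]
  obtain ⟨z, hz, hz1⟩ : ∃ z ∈ π.ker, z ≠ 1 := by
    obtain ⟨w, hw⟩ := ne_bot_iff_exists_ne_one.mp (show π.ker ≠ ⊥ by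
      intro hb
      rw [hb, card_bot] at hker
      norm_num at hker)
    exact ⟨(w : G), w.2, fun e' => hw (Subtype.ext e')⟩
  have hkerz : ∀ y ∈ π.ker, y = 1 ∨ y = z := by
    intro y hy
    by_contra hcon
    push Not at hcon
    have h3 : ({⟨1, π.ker.one_mem⟩, ⟨y, hy⟩, ⟨z, hz⟩} : Finset π.ker).card = 3 := by
      rw [Finset.card_insert_of_notMem, Finset.card_pair]
      · simpa using hcon.2
      · simp [Subtype.ext_iff, eq_comm, hcon.1, hz1]
    have := Fintype.ofFinite π.ker
    have h2 := Finset.card_le_univ ({⟨1, π.ker.one_mem⟩, ⟨y, hy⟩, ⟨z, hz⟩} : Finset π.ker)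
    rw [h3, ← Nat.card_eq_fintype_card, hker] at h2
    omega
  obtain ⟨P⟩ : Nonempty (Sylow 2 G) := inferInstance
  have hsq : ∀ (Q : Sylow 2 G) (y : G), y ∈ (Q : Subgroup G) → π y * π y = 1 := by
    intro Q y hy
    refine hfour _ ?_
    obtain ⟨i, hi⟩ := IsPGroup.iff_orderOf.mp Q.2 ⟨y, hy⟩
    rw [Subgroup.orderOf_mk] at hi
    have h4 : orderOf (π y) ∣ 2 ^ 2 :=
      Nat.Coprime.dvd_of_dvd_mul_right (n := 15)
          (Nat.Coprime.coprime_dvd_left (hi ▸ orderOf_map_dvd π y) (Nat.Coprime.pow_left i (by norm_num)))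
          (by rw [show 2 ^ 2 * 15 = Nat.card S from hS60.symm]; exact _root_.orderOf_dvd_natCard _)
    have := orderOf_dvd_iff_pow_eq_one.mp h4
    rw [show 2 ^ 2 = 2 + 2 by norm_num, pow_add, sq] at this
    exact this
  have hu2 : u * u ≠ 1 := by
    intro h2
    have hexp : ∀ y ∈ (P : Subgroup G), y * y = 1 := by
      intro y hy
      by_cases h1 : π y = 1
      · rcases hkerz y h1 with rfl | rfl
        · exact one_mul 1
        · have := pow_card_eq_one' (x := (⟨y, hz⟩ : π.ker))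
          rw [hker, sq] at this
          exact congrArg Subtype.val this
      · obtain ⟨g, hg⟩ := isConj_iff.mp (hlift y (hclass _ (hsq P y hy) h1)).symm
        rw [← hg]
        calc g * u * g⁻¹ * (g * u * g⁻¹) = g * (u * u) * g⁻¹ := by group
          _ = 1 := by rw [h2]; group
    have hzP : z ∈ (P : Subgroup G) := by
      have hp : IsPGroup 2 π.ker := IsPGroup.of_card (n := 1) (by rw [hker, pow_one])
      have hle : π.ker ≤ (P : Subgroup G) := by
        rw [← P.3 (P.2.to_sup_of_normal_right hp) le_sup_left]; exact le_sup_right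
      exact hle hz
    exact hz1 (CoverSixty.eq_one_of_central hperf P (fun a ha b hb => by
      have hA := hexp a ha
      have hB := hexp b hb
      have hAB := hexp (a * b) ((P : Subgroup G).mul_mem ha hb)
      calc a * b = (a * b)⁻¹ := (inv_eq_of_mul_eq_one_right hAB).symm
        _ = b * a := by rw [mul_inv_rev, inv_eq_of_mul_eq_one_right hA, inv_eq_of_mul_eq_one_right hB])
      (hcen hz) hzP)
  have hzu : u * u = z := (hkerz _ (by rw [MonoidHom.mem_ker, map_mul, ha])).resolve_left hu2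
  have hinv : ∀ x : G, x * x = 1 → x = 1 ∨ x = u * u := by
    intro x hx
    by_cases h1 : π x = 1
    · rw [hzu]; exact hkerz x h1
    · obtain ⟨g, hg⟩ := isConj_iff.mp (hlift x (hclass _ (by rw [← map_mul, hx, map_one]) h1)).symm
      rw [← hg] at hx
      exact absurd (conj_eq_one_iff.mp (show g * (u * u) * g⁻¹ = 1 by rw [← hx]; group)) hu2
  refine ⟨hG, hu2, hinv, ?_⟩
  have hns : ¬ Group.IsSolvable G := by
    intro hsol
    have : Nontrivial G := ⟨u * u, 1, hu2⟩
    exact (Group.IsSolvable.commutator_lt_top_of_nontrivial G).ne hperf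
  refine Cfsg.Agent.S3378.result.1 G hG hns fun Q => ?_
  have hQ8 : Nat.card (Q : Subgroup G) = 8 := by
    rw [Sylow.card_eq_multiplicity, hG, show (120 : ℕ) = 2 ^ 3 * 15 by norm_num,
      Nat.factorization_mul (by norm_num) (by norm_num), Finsupp.add_apply,
      Nat.Prime.factorization_pow Nat.prime_two,
      Nat.factorization_eq_zero_of_not_dvd (by norm_num)]
    simp
  rcases CfsgLib.StructC.isCyclic_or_quaternion Q.2 (fun a b hA hB _ => by
      have key : ∀ c : (Q : Subgroup G), orderOf c = 2 → (c : G) = u * u := fun c hc => by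
        refine (hinv _ ?_).resolve_left fun h1 => ?_
        · have := pow_orderOf_eq_one c
          rw [hc, sq] at this
          exact congrArg Subtype.val this
        · rw [show c = 1 from Subtype.ext h1, orderOf_one] at hc
          norm_num at hc
      rw [show b = a from Subtype.ext ((key b hB).trans (key a hA).symm)]
      exact mem_zpowers a) with hcyc | ⟨k, hk, ⟨ε⟩⟩
  · exfalso
    obtain ⟨c, hc⟩ := IsCyclic.exists_ofOrder_eq_natCard (α := (Q : Subgroup G))
    rw [hQ8] at hc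
    have h1 := hsq Q c c.2
    rw [← map_mul, ← MonoidHom.mem_ker] at h1
    have h2 := pow_card_eq_one' (x := (⟨_, h1⟩ : π.ker))
    rw [hker] at h2
    have h4 : c ^ 4 = 1 := Subtype.ext (by
      rw [sq] at h2
      rw [SubgroupClass.coe_pow, Subgroup.coe_one, show 4 = 2 * 2 by norm_num, pow_mul, sq, sq]
      exact congrArg Subtype.val h2)
    have := orderOf_dvd_of_pow_eq_one h4
    rw [hc] at this
    norm_num at this
  · have hc := Nat.card_congr ε.toEquiv
    rw [hQ8, Nat.card_eq_fintype_card, QuaternionGroup.card] at hc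
    have h2 : 2 ^ k = 2 := by omega
    rw [h2] at ε
    exact ⟨ε⟩

/-- The structure of a group with `χ(1) - χ(u) = 4` or `χ(u) = 0`. -/
theorem main (h : Gap u) (hu : u ≠ 1) :
    IsMulCommutative ↥(Cfsg.oddCore G) ∧
      ((Nonempty (G ⧸ Cfsg.oddCore G ≃* Matrix.ProjectiveSpecialLinearGroup (Fin 2) (ZMod 5)) ∧
          orderOf u = 2) ∨
        (Nonempty (G ⧸ Cfsg.oddCore G ≃* Matrix.SpecialLinearGroup (Fin 2) (ZMod 5)) ∧
          orderOf u = 4)) := by
  classical
  have : Fact (Nat.Prime 2) := ⟨Nat.prime_two⟩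
  have : Nontrivial G := ⟨u, 1, hu⟩
  obtain ⟨R, hRn, hR, hsimple⟩ := exists_simple_quotient (G := G)
  obtain ⟨hcS, ⟨e⟩, h60, hsq⟩ := quotient_structure h R hR
  set π := QuotientGroup.mk' R with hπdef
  have hπ : Function.Surjective π := QuotientGroup.mk'_surjective R
  have hu1 : π u ≠ 1 := (quotient h R hR).2
  have hlift := isConj_of_map h R hR hu
  obtain ⟨hclass, hfour⟩ := sixty_facts e hsq hu1 hcS
  have hc := CoverSixty.card_centralizer π hπ u hlift hcS
  have hu4 : u ^ 4 = 1 := CoverSixty.pow_four π hπ u hlift hc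
  obtain ⟨hle, hodd, hpow⟩ := oddCore_spec π hπ (by rw [h60]; decide)
    (CoverSixty.ker_hasNormalPComplement π hπ u hlift hcS (card_sylow_two_of_sixty h60))
  set N := Cfsg.oddCore G with hN
  set τ := QuotientGroup.mk' N with hτdef
  have hτ : Function.Surjective τ := QuotientGroup.mk'_surjective N
  let πb : G ⧸ N →* G ⧸ R := QuotientGroup.lift N π hle
  have hπb : ∀ g, πb (τ g) = π g := fun g => rfl
  have hπbs : Function.Surjective πb := fun s => by
    obtain ⟨g, rfl⟩ := hπ s
    exact ⟨τ g, hπb g⟩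
  have hE : IsPGroup 2 πb.ker := by
    rintro ⟨y, hy⟩
    obtain ⟨g, rfl⟩ := hτ y
    rw [MonoidHom.mem_ker, hπb] at hy
    obtain ⟨n, hn⟩ := hpow g hy
    exact ⟨n, Subtype.ext (by
      rw [SubgroupClass.coe_pow, Subgroup.coe_one, ← map_pow, hτdef, QuotientGroup.mk'_apply,
        QuotientGroup.eq_one_iff]
      exact hn)⟩
  have hliftQ : ∀ x : G ⧸ N, IsConj (πb x) (πb (τ u)) → IsConj x (τ u) := by
    intro x hx
    obtain ⟨g, rfl⟩ := hτ x
    exact τ.map_isConj (hlift g hx)
  have hsqQ : πb (τ u) * πb (τ u) = 1 := hsq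
  have hu1Q : πb (τ u) ≠ 1 := hu1
  obtain ⟨hcard, hcen⟩ := CoverSixty.ker_small πb hπbs (τ u) hliftQ
    (perfect_quotient (perfect h) N) hE (CoverSixty.card_centralizer πb hπbs (τ u) hliftQ hcS)
    (fun hmem => hu1Q (MonoidHom.mem_ker.mp hmem))
    (by rw [MonoidHom.mem_ker, map_mul, hsqQ])
  have hfix : ∀ x : G, IsConj x u → ∀ w ∈ N, x * w = w * x → w = 1 := fun x hx =>
    fix_eq_one hc N hodd hx
  have hnorm : ∀ (x : G), ∀ w ∈ N, x * w * x⁻¹ ∈ N := fun x w hw =>
    (inferInstance : N.Normal).conj_mem w hw x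
  rcases (by have := Nat.card_pos (α := πb.ker); omega : Nat.card πb.ker = 1 ∨ Nat.card πb.ker = 2)
    with h1 | h2
  · have hbot : πb.ker = ⊥ := Subgroup.eq_bot_of_card_eq _ h1
    have huu : u * u = 1 := by
      refine eq_one_of_pow_four_of_odd N hodd ?_ ?_
      · have : τ (u * u) ∈ πb.ker := by rw [MonoidHom.mem_ker, map_mul, map_mul, hsqQ]
        rw [hbot, mem_bot, hτdef, QuotientGroup.mk'_apply, QuotientGroup.eq_one_iff] at this
        exact this
      · rw [← sq, ← pow_mul, show 2 * 4 = 4 * 2 by norm_num, pow_mul, hu4, one_pow]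
    refine ⟨comm_of_inverts N (inverts N (hnorm u)
      (fun w _ => by rw [huu, one_mul, mul_one]) (hfix u (IsConj.refl u))), Or.inl ⟨?_, ?_⟩⟩
    · obtain ⟨e'⟩ := CfsgLib.Classical.psl_two_five_equiv
      exact ⟨((MulEquiv.ofBijective πb ⟨(MonoidHom.ker_eq_bot_iff πb).mp hbot, hπbs⟩).trans e).trans
        e'.symm⟩
    · exact orderOf_eq_prime (by rw [sq, huu]) hu
  · obtain ⟨-, hu2, hinv, hiso⟩ := double_cover (G := G ⧸ N) (u := τ u) e πb hπbs
      (perfect_quotient (perfect h) N) hliftQ hsqQ hu1Q hcS h2 hcen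
    have hord : orderOf u = 4 := orderOf_eq_prime_pow (p := 2) (n := 1)
      (fun h' => hu2 (by rw [← map_mul, ← sq, show u ^ 2 = 1 from h', map_one])) hu4
    refine ⟨?_, Or.inr ⟨hiso, hord⟩⟩
    have hup : IsPGroup 2 (zpowers u) := IsPGroup.of_card (n := 2) (by rw [Nat.card_zpowers, hord]; norm_num)
    obtain ⟨P, hP⟩ := hup.exists_le_sylow
    have huP : u ∈ (P : Subgroup G) := hP (mem_zpowers u)
    have hP4 := card_sylow_two_of_sixty h60 (P.mapSurjective (f := π) hπ)
    have hPinv : ∀ y ∈ (P : Subgroup G), π y * π y = 1 := by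
      intro y hy
      refine hfour _ ?_
      have h4 := orderOf_dvd_iff_pow_eq_one.mp (hP4 ▸ Subgroup.orderOf_dvd_natCard _
        (show π y ∈ (P.mapSurjective (f := π) hπ : Subgroup (G ⧸ R)) from mem_map_of_mem π hy))
      rw [show 4 = 2 + 2 by norm_num, pow_add, sq] at h4
      exact h4
    obtain ⟨v, hvP, hv1, hvu⟩ : ∃ v ∈ (P : Subgroup G), π v ≠ 1 ∧ π v ≠ π u := by
      by_contra hcon
      push Not at hcon
      have hsub : ((P.mapSurjective (f := π) hπ : Subgroup (G ⧸ R)) : Set (G ⧸ R)) ⊆ {1, π u} := by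
        rintro _ ⟨y, hy, rfl⟩
        by_cases h0 : π y = 1
        · exact Or.inl h0
        · exact Or.inr (hcon y hy h0)
      have h5 := Set.ncard_le_ncard hsub (Set.toFinite _)
      rw [Set.ncard_pair (Ne.symm hu1), ← Nat.card_coe_set_eq] at h5
      exact absurd (hP4 ▸ h5 : 4 ≤ 2) (by norm_num)
    have hconjP : ∀ y ∈ (P : Subgroup G), π y ≠ 1 → IsConj y u := fun y hy h0 =>
      hlift y (hclass _ (hPinv y hy) h0)
    have hvc : IsConj v u := hconjP v hvP hv1
    have huvc : IsConj (u * v) u := hconjP (u * v) ((P : Subgroup G).mul_mem huP hvP) fun h0 => hvu (by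
      rw [map_mul] at h0
      exact mul_left_cancel (h0.trans hsq.symm))
    have hsquare : ∀ x ∈ (P : Subgroup G), IsConj x u → x * x = u * u := by
      intro x hx hxu
      obtain ⟨g, hg⟩ := isConj_iff.mp hxu
      have hx2 : τ x * τ x ≠ 1 := by
        intro h0
        apply hu2
        rw [← hg, ← map_mul, show g * x * g⁻¹ * (g * x * g⁻¹) = g * (x * x) * g⁻¹ by group,
          map_mul, map_mul, map_mul, h0, mul_one, map_inv, mul_inv_cancel]
      have hx4 : (τ x * τ x) * (τ x * τ x) = 1 := by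
        rw [← map_mul, ← map_mul, show x * x * (x * x) = x ^ 4 by simp [pow_succ, mul_assoc]]
        have : x ^ 4 = 1 := by
          have e4 : (g * x * g⁻¹) ^ 4 = 1 := by rw [hg, hu4]
          rwa [conj_pow, conj_eq_one_iff] at e4
        rw [this, map_one]
      have heq := (hinv _ hx4).resolve_left hx2
      rw [← map_mul, ← map_mul] at heq
      have hmem : (x * x) * (u * u)⁻¹ ∈ N := by
        rw [← QuotientGroup.eq_one_iff]
        show τ _ = 1
        rw [map_mul, map_inv, heq, mul_inv_cancel]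
      have hmemP : (x * x) * (u * u)⁻¹ ∈ (P : Subgroup G) :=
        mul_mem (mul_mem hx hx) (inv_mem (mul_mem huP huP))
      obtain ⟨i, hi⟩ := IsPGroup.iff_orderOf.mp P.2 ⟨_, hmemP⟩
      rw [Subgroup.orderOf_mk] at hi
      exact mul_inv_eq_one.mp (orderOf_eq_one_iff.mp (Nat.eq_one_of_dvd_coprimes
        (Nat.Coprime.pow_left i (Nat.coprime_two_left.mpr hodd)) (hi ▸ dvd_rfl)
        (Subgroup.orderOf_dvd_natCard _ hmem)))
    have hv2 : v * v = u * u := hsquare v hvP hvc
    have huv2 : u * v * (u * v) = u * u := hsquare _ ((P : Subgroup G).mul_mem huP hvP) huvc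
    set W := N ⊓ Subgroup.centralizer ({u * u} : Set G) with hW
    have hWinv : ∀ x : G, IsConj x u → x * x = u * u → ∀ w ∈ W, x * w * x⁻¹ = w⁻¹ := by
      intro x hxu hx2
      refine inverts W (fun w hw => ⟨hnorm x w hw.1, ?_⟩) (fun w hw => ?_)
        fun w hw => hfix x hxu w hw.1
      · show _ ∈ Subgroup.centralizer ({u * u} : Set G)
        rw [mem_centralizer_singleton_iff, ← hx2]
        have hww : w * (x * x) = x * x * w := by rw [hx2]; exact mem_centralizer_singleton_iff.mp hw.2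
        calc x * w * x⁻¹ * (x * x) = x * (w * (x * x)) * x⁻¹ := by group
          _ = x * x * (x * w * x⁻¹) := by rw [hww]; group
      · rw [hx2]; exact (mem_centralizer_singleton_iff.mp hw.2).symm
    have hWbot : ∀ w ∈ N, u * u * w = w * (u * u) → w = 1 := by
      intro w hw hcomm
      have hwW : w ∈ W := ⟨hw, mem_centralizer_singleton_iff.mpr hcomm.symm⟩
      have e1 := hWinv u (IsConj.refl u) rfl w hwW
      have e2 := hWinv v hvc hv2 w hwW
      have e3 := hWinv (u * v) huvc huv2 w hwW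
      have e4 : w = w⁻¹ := by
        calc w = (w⁻¹)⁻¹ := (inv_inv w).symm
          _ = (u * w * u⁻¹)⁻¹ := by rw [e1]
          _ = u * (v * w * v⁻¹) * u⁻¹ := by rw [e2]; group
          _ = u * v * w * (u * v)⁻¹ := by group
          _ = w⁻¹ := e3
      refine eq_one_of_pow_four_of_odd N hodd hw ?_
      rw [show w ^ 4 = (w * w) * (w * w) by simp [pow_succ, mul_assoc],
        mul_eq_one_iff_eq_inv.mpr e4, one_mul]
    refine comm_of_inverts N (inverts N (hnorm (u * u)) (fun w _ => ?_) hWbot)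
    rw [show u * u * (u * u) = u ^ 4 by simp [pow_succ, mul_assoc], hu4, one_mul, mul_one]

end CfsgLib.BlockA.DegreeGap
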