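import Cfsg.Agent.Lib.BlockA.KleinCount
import Cfsg.Agent.Lib.BlockA.RealOdd
import Cfsg.Agent.Lib.BlockB.PrincipalLambda

/-!
The order formula for a principal 2-block with Klein four defect group, and the conjugate pair.
-/

set_option autoImplicit false
set_option linter.unusedSectionVars false

namespace CfsgLib.BlockA

open Cfsg CfsgLib.Block
open scoped ComplexConjugate

universe u

variable {G : Type u} [Group G] [Finite G]

theorem klein_setup {g₀ : ℕ} (hg₀ : Odd g₀) (hG : Nat.card G = 4 * g₀)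
    (hnc : ¬ ∃ N : Subgroup G, N.Normal ∧ Nat.card N = g₀) (P : Sylow 2 G) :
    IsKleinFour (P : Subgroup G) ∧
      ∀ s t : G, orderOf s = 2 → orderOf t = 2 → IsConj s t := by
  classical
  have hg0 : ¬ 2 ∣ g₀ := fun h => Nat.not_even_iff_odd.2 hg₀ (even_iff_two_dvd.2 h)
  have hcard : Nat.card (P : Subgroup G) = 4 := by
    rw [P.card_eq_multiplicity, hG, Nat.factorization_mul (by norm_num) (by rintro rfl; simp at hg0),
      Finsupp.add_apply, show (4 : ℕ) = 2 ^ 2 by norm_num, Nat.factorization_pow_self Nat.prime_two,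
      Nat.factorization_eq_zero_of_not_dvd hg0]
  have hcen : ¬ Subgroup.normalizer ((P : Subgroup G) : Set G) ≤
      Subgroup.centralizer ((P : Subgroup G) : Set G) := fun h => by
    obtain ⟨Q, N, hN, hcompl⟩ :=
      CfsgLib.Transfer.hasNormalPComplement_of_normalizer_le_centralizer P h
    refine hnc ⟨N, hN, ?_⟩
    have h1 := hcompl.card_mul
    rw [show Nat.card (Q : Subgroup G) = 4 by
      rw [Q.card_eq_multiplicity, ← P.card_eq_multiplicity, hcard], hG] at h1
    omega
  have hsq : ∀ x : (P : Subgroup G), x * x = 1 := by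
    intro x
    by_contra hx
    refine hcen fun n hn => Subgroup.mem_centralizer_iff.2 ?_
    have hox : orderOf x = 2 ^ 2 := by
      obtain ⟨k, hk, he⟩ := (Nat.dvd_prime_pow Nat.prime_two).1
        (show orderOf x ∣ 2 ^ 2 by rw [show (2 : ℕ) ^ 2 = 4 by norm_num, ← hcard]
                                   exact orderOf_dvd_natCard x)
      by_contra hne
      refine hx ?_
      rw [← pow_two, ← orderOf_dvd_iff_pow_eq_one, he]
      have : k ≤ 1 := by
        by_contra hk1
        exact hne (by rw [he, show k = 2 by omega])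
      exact (pow_dvd_pow 2 this).trans (by norm_num)
    have hgen : Subgroup.zpowers (x : G) = (P : Subgroup G) := by
      refine Subgroup.eq_of_le_of_card_ge (Subgroup.zpowers_le.2 x.2) ?_
      rw [Nat.card_zpowers, Subgroup.orderOf_coe, hox, hcard]
      norm_num
    have hxfix : Commute n (x : G) := by
      have hmem := (Subgroup.mem_normalizer_iff.1 hn _).1 x.2
      have ho : orderOf (n * (x : G) * n⁻¹) = 4 := by
        rw [CfsgLib.Invol.orderOf_conj_eq, Subgroup.orderOf_coe, hox]; norm_num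
      have hmem := hgen.symm.le hmem
      obtain ⟨i, hi⟩ := (mem_powers_iff_mem_zpowers.2 hmem : _)
      simp only at hi
      have hxo : orderOf (x : G) = 4 := by rw [Subgroup.orderOf_coe, hox]; norm_num
      rw [← pow_mod_orderOf, hxo] at hi
      have hi4 : i % 4 < 4 := Nat.mod_lt _ (by norm_num)
      rw [← hi, orderOf_pow, hxo] at ho
      have hodd : i % 4 = 1 ∨ i % 4 = 3 := by
        rcases (by omega : i % 4 = 0 ∨ i % 4 = 1 ∨ i % 4 = 2 ∨ i % 4 = 3) with e | e | e | e <;>
          simp only [e] at ho <;> norm_num at ho <;> omega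
      rcases hodd with e | e <;> rw [e] at hi
      · rw [pow_one] at hi
        exact (mul_inv_eq_iff_eq_mul.1 hi.symm)
      · exfalso
        have h2 : n ^ 2 * (x : G) * (n ^ 2)⁻¹ = (x : G) := by
          calc n ^ 2 * (x : G) * (n ^ 2)⁻¹ = n * (n * (x : G) * n⁻¹) * n⁻¹ := by
                rw [pow_two, mul_inv_rev]; simp [mul_assoc]
            _ = n * (x : G) ^ 3 * n⁻¹ := by rw [← hi]
            _ = (n * (x : G) * n⁻¹) ^ 3 := conj_pow.symm
            _ = (x : G) := by
                rw [← hi, ← pow_mul, ← pow_mod_orderOf, hxo]; norm_num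
        obtain ⟨j, ⟨k, rfl⟩, hj⟩ := CfsgLib.Invol.exists_odd_pow_mem_sylow P hn
        rw [← hgen] at hj
        obtain ⟨l, hl⟩ := hj
        have h3 : Commute (n ^ (2 * k + 1)) (x : G) := by
          rw [← hl]; exact (Commute.refl (x : G)).zpow_left l
        have h4 : Commute ((n ^ 2) ^ k) (x : G) :=
          Commute.pow_left (mul_inv_eq_iff_eq_mul.1 h2) k
        rw [← pow_mul] at h4
        have h5 : Commute n (x : G) := by
          have := h4.inv_left.mul_left h3
          rwa [pow_succ, inv_mul_cancel_left] at this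
        have h6 : n * (x : G) * n⁻¹ = (x : G) := by rw [h5.eq, mul_inv_cancel_right]
        rw [h6] at hi
        have h7 : (x : G) ^ 2 = 1 := by
          refine mul_right_cancel (b := (x : G)) ?_
          rw [← pow_succ, one_mul]
          exact hi
        rw [← orderOf_dvd_iff_pow_eq_one, hxo] at h7
        norm_num at h7
    intro y hy
    rw [SetLike.mem_coe, ← hgen] at hy
    obtain ⟨l, rfl⟩ := hy
    exact ((hxfix.zpow_right l).eq).symm
  have hK := isKleinFour_of_sq hcard hsq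
  refine ⟨hK, fun s t hs ht => ?_⟩
  rcases CfsgLib.Invol.klein_normalizer_dichotomy P hK with h | h
  · exact absurd (fun n hn => Subgroup.mem_centralizer_iff.2 fun a ha =>
      ((mul_inv_eq_iff_eq_mul.1 (h n hn a ha))).symm) hcen
  · obtain ⟨a, ha⟩ := CfsgLib.Invol.exists_conj_invol_mem_sylow P hs
    obtain ⟨b, hb⟩ := CfsgLib.Invol.exists_conj_invol_mem_sylow P ht
    have h1 := h _ ha _ hb (fun e => CfsgLib.Invol.invol_ne_one hs (conj_eq_one_iff.1 e))
      (fun e => CfsgLib.Invol.invol_ne_one ht (conj_eq_one_iff.1 e))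
    exact ((isConj_iff.2 ⟨a, rfl⟩ : IsConj s (a * s * a⁻¹)).trans h1).trans
      (isConj_iff.2 ⟨b, rfl⟩ : IsConj t (b * t * b⁻¹)).symm

/-- A character with value `±1` at an involution has odd degree. -/
theorem odd_degree_of_invol {χ : G → ℂ} (hχ : IsCharacter G χ) {t : G} (ht : t * t = 1)
    (hv : χ t = 1 ∨ χ t = -1) : Odd (charDegree χ) := by
  obtain ⟨n, ρ, rfl⟩ := hχ
  have hn : charDegree ρ.character = n := by
    simp [charDegree, Representation.char_one]
  rw [hn, ← Nat.not_even_iff_odd]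
  rintro ⟨m, hm⟩
  have h2 : ρ t * ρ t = 1 := by rw [← map_mul, ht, map_one]
  set f : Module.End ℂ (Fin n → ℂ) := (2 : ℂ)⁻¹ • (1 + ρ t) with hf
  have hff : IsIdempotentElem f := by
    show f * f = f
    rw [hf, smul_mul_smul_comm, add_mul, one_mul, mul_add, mul_one, h2,
      show 1 + ρ t + (ρ t + 1) = (2 : ℂ) • (1 + ρ t) by rw [two_smul]; abel, smul_smul]
    norm_num
  have htr := (LinearMap.isProj_range_iff_isIdempotentElem f).2 hff |>.trace
  rw [hf, map_smul, map_add, LinearMap.trace_one, Module.finrank_fin_fun, smul_eq_mul,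
    show (n : ℂ) = (m : ℂ) + m by exact_mod_cast hm] at htr
  set r := Module.finrank ℂ (LinearMap.range f)
  rcases hv with hv | hv <;> rw [Representation.character] at hv <;> rw [hv] at htr <;>
    push_cast at htr
  · have : ((m + m + 1 : ℕ) : ℂ) = ((2 * r : ℕ) : ℂ) := by push_cast; linear_combination 2 * htr
    have := Nat.cast_injective this
    omega
  · have : ((m + m : ℕ) : ℂ) = ((2 * r + 1 : ℕ) : ℂ) := by push_cast; linear_combination 2 * htr
    have := Nat.cast_injective this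
    omega

/-- The principal block is stable under complex conjugation. -/
theorem conj_mem_principalBlock {p : ℕ} {M : Ideal AlgInt} (hM : IsPModular p M)
    {χ : IrrCharacter G} (hχ : χ ∈ principalBlock M G) :
    (⟨fun g => conj ((χ : G → ℂ) g), CfsgLib.Char.isIrrCharacter_conj χ.2⟩ : IrrCharacter G) ∈
      principalBlock M G := by
  have := Fintype.ofFinite G
  rw [CfsgLib.BlockB.mem_principalBlock_iff_regTotal hM] at hχ ⊢
  intro h
  refine hχ ((starRingEnd ℂ).injective ?_)
  rw [map_zero, ← h]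
  simp only [CfsgLib.BlockB.regTotal, map_sum, map_mul]
  refine Finset.sum_congr rfl fun g _ => ?_
  congr 1
  unfold regInd
  split_ifs <;> simp

variable {M : Ideal AlgInt} [M.IsPrime] (hM : IsPModular 2 M) {P : Sylow 2 G}
  (hP : IsKleinFour (P : Subgroup G))
  (hone : ∀ s t : G, orderOf s = 2 → orderOf t = 2 → IsConj s t)
  {J : G} (hJ : J ∈ (P : Subgroup G)) (hJ1 : J ≠ 1)
  {χ₁ χ₂ χ₃ : IrrCharacter G} {ε₁ ε₂ ε₃ : ℤ}
  (hB : principalBlock M G =
    {χ : IrrCharacter G | (χ : G → ℂ) = (fun _ => 1) ∨ χ = χ₁ ∨ χ = χ₂ ∨ χ = χ₃})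
  (hdist : (χ₁ : G → ℂ) ≠ (fun _ => 1) ∧ (χ₂ : G → ℂ) ≠ (fun _ => 1) ∧
    (χ₃ : G → ℂ) ≠ (fun _ => 1) ∧ χ₁ ≠ χ₂ ∧ χ₁ ≠ χ₃ ∧ χ₂ ≠ χ₃)
  (hval : (χ₁ : G → ℂ) J = ε₁ ∧ (χ₂ : G → ℂ) J = ε₂ ∧ (χ₃ : G → ℂ) J = ε₃)
include hB hdist

theorem finsum_block_four {A : Type*} [AddCommMonoid A] (f : IrrCharacter G → A) :
    ∑ᶠ χ ∈ principalBlock M G, f χ = f trivIrr + f χ₁ + f χ₂ + f χ₃ := by
  classical
  have := Fintype.ofFinite (IrrCharacter G)
  obtain ⟨h1, h2, h3, h12, h13, h23⟩ := hdist
  have hset : principalBlock M G = ↑({trivIrr, χ₁, χ₂, χ₃} : Finset (IrrCharacter G)) := by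
    rw [hB]
    ext χ
    simp only [Set.mem_ofPred_eq, Finset.coe_insert, Finset.coe_singleton, Set.mem_insert_iff,
      Set.mem_singleton_iff]
    exact or_congr_left ⟨fun e => Subtype.ext e, fun e => by rw [e]; rfl⟩
  have e1 : trivIrr ≠ χ₁ := fun e => h1 (by rw [← e]; rfl)
  have e2 : trivIrr ≠ χ₂ := fun e => h2 (by rw [← e]; rfl)
  have e3 : trivIrr ≠ χ₃ := fun e => h3 (by rw [← e]; rfl)
  rw [hset, finsum_mem_coe_finset, Finset.sum_insert (by simp [e1, e2, e3]),
    Finset.sum_insert (by simp [h12, h13]), Finset.sum_pair h23]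
  simp only [add_assoc]

include hM hP hone hJ hJ1 hval

theorem klein_degree_relation :
    1 + ε₁ * (charDegree (χ₁ : G → ℂ) : ℤ) + ε₂ * charDegree (χ₂ : G → ℂ) +
      ε₃ * charDegree (χ₃ : G → ℂ) = 0 := by
  classical
  have := Fintype.ofFinite (principalBlock M G)
  have h := klein_relation hM P hP hone hJ hJ1 (g := 1) (by rw [orderOf_one]; norm_num)
  rw [← finsum_eq_sum_of_fintype, finsum_set_coe_eq_finsum_mem (principalBlock M G)
    (f := fun χ : IrrCharacter G => (χ : G → ℂ) J * (χ : G → ℂ) 1),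
    finsum_block_four hB hdist] at h
  rw [hval.1, hval.2.1, hval.2.2] at h
  simp only [trivIrr, mul_one] at h
  rw [← CfsgLib.BlockB.irr_degree_cast χ₁, ← CfsgLib.BlockB.irr_degree_cast χ₂,
    ← CfsgLib.BlockB.irr_degree_cast χ₃] at h
  exact_mod_cast h

theorem klein_order_formula (hε : (ε₁ = 1 ∨ ε₁ = -1) ∧ (ε₂ = 1 ∨ ε₂ = -1) ∧ (ε₃ = 1 ∨ ε₃ = -1)) :
    (Nat.card G : ℤ) * ((charDegree (χ₁ : G → ℂ) + ε₁) * (charDegree (χ₂ : G → ℂ) + ε₂) *
        (charDegree (χ₃ : G → ℂ) + ε₃)) *
        (Nat.card (Subgroup.centralizer ((P : Subgroup G) : Set G)) : ℤ) ^ 2 =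
      8 * (Nat.card (Subgroup.centralizer ({J} : Set G)) : ℤ) ^ 3 *
        (charDegree (χ₁ : G → ℂ) * charDegree (χ₂ : G → ℂ) * charDegree (χ₃ : G → ℂ)) := by
  have hrel := congrArg (Int.cast : ℤ → ℂ) (klein_degree_relation hM hP hone hJ hJ1 hB hdist hval)
  have h := klein_order_sum P hP hJ hJ1 hone hM
  rw [finsum_block_four hB hdist, hval.1, hval.2.1, hval.2.2] at h
  simp only [trivIrr, one_pow, div_one] at h
  rw [← CfsgLib.BlockB.irr_degree_cast χ₁, ← CfsgLib.BlockB.irr_degree_cast χ₂,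
    ← CfsgLib.BlockB.irr_degree_cast χ₃] at h
  have hx : ∀ χ : IrrCharacter G, ((charDegree (χ : G → ℂ) : ℕ) : ℂ) ≠ 0 := fun χ =>
    Nat.cast_ne_zero.2 (CfsgLib.BlockB.irr_degree_ne_zero χ)
  have := hx χ₁; have := hx χ₂; have := hx χ₃
  field_simp at h
  push_cast at hrel
  apply Int.cast_injective (α := ℂ)
  push_cast
  obtain ⟨h1, h2, h3⟩ := hε
  rcases h1 with rfl | rfl <;> rcases h2 with rfl | rfl <;> rcases h3 with rfl | rfl <;>
    push_cast at h hrel ⊢ <;>
    first
      | linear_combination h + (Nat.card G : ℂ) *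
          (Nat.card (Subgroup.centralizer ((P : Subgroup G) : Set G)) : ℂ) ^ 2 * hrel
      | linear_combination h - (Nat.card G : ℂ) *
          (Nat.card (Subgroup.centralizer ((P : Subgroup G) : Set G)) : ℂ) ^ 2 * hrel

/-- With signs `1, 1, -1` the first two characters are complex conjugate. -/
theorem klein_conj_pair (h1 : ε₁ = 1) (h2 : ε₂ = 1) (h3 : ε₃ = -1) :
    charDegree (χ₁ : G → ℂ) = charDegree (χ₂ : G → ℂ) := by
  classical
  have := Fintype.ofFinite G
  have := Fintype.ofFinite (IrrCharacter G)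
  have := Fintype.ofFinite (principalBlock M G)
  subst h1 h2 h3
  obtain ⟨hv1, hv2, hv3⟩ := hval
  obtain ⟨n1, n2, n3, n12, n13, n23⟩ := hdist
  have hJo := CfsgLib.Invol.klein_orderOf hP hJ hJ1
  have mem1 : χ₁ ∈ principalBlock M G := hB ▸ Or.inr (Or.inl rfl)
  have mem2 : χ₂ ∈ principalBlock M G := hB ▸ Or.inr (Or.inr (Or.inl rfl))
  have mem3 : χ₃ ∈ principalBlock M G := hB ▸ Or.inr (Or.inr (Or.inr rfl))
  let bar : IrrCharacter G → IrrCharacter G := fun χ =>
    ⟨fun g => conj ((χ : G → ℂ) g), CfsgLib.Char.isIrrCharacter_conj χ.2⟩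
  have hbar : ∀ χ ∈ principalBlock M G, (χ : G → ℂ) ≠ (fun _ => 1) → (χ : G → ℂ) J = 1 →
      bar χ = χ₁ ∨ bar χ = χ₂ := fun χ hχ hne hχJ => by
    have hm := conj_mem_principalBlock hM hχ
    rw [hB] at hm
    rcases hm with e | e | e | e
    · refine absurd (funext fun g => ?_) hne
      simpa using congrArg (starRingEnd ℂ) (congrFun e g)
    · exact Or.inl e
    · exact Or.inr e
    · exfalso
      have h := congrFun (congrArg Subtype.val e) J
      simp only [hχJ, map_one, hv3] at h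
      norm_num at h
  by_contra hne
  have hdeg : ∀ χ ψ : IrrCharacter G, bar χ = ψ → charDegree (χ : G → ℂ) = charDegree (ψ : G → ℂ) :=
    fun χ ψ e => by
      subst e
      simp only [bar, charDegree, Complex.conj_re]
  have hr1 : bar χ₁ = χ₁ := (hbar χ₁ mem1 n1 (by rw [hv1]; norm_num)).resolve_right
    fun e => hne (hdeg _ _ e)
  have hr2 : bar χ₂ = χ₂ := (hbar χ₂ mem2 n2 (by rw [hv2]; norm_num)).resolve_left
    fun e => hne (hdeg _ _ e).symm
  have hr3 : bar χ₃ = χ₃ := by
    have hm := conj_mem_principalBlock hM mem3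
    have hJ3 : (bar χ₃ : G → ℂ) J = -1 := by simp [bar, hv3]
    rw [hB] at hm
    rcases hm with e | e | e | e
    · exfalso; rw [show (bar χ₃ : G → ℂ) = fun _ => 1 from e] at hJ3; norm_num at hJ3
    · exfalso; rw [show bar χ₃ = χ₁ from e, hv1] at hJ3; norm_num at hJ3
    · exfalso; rw [show bar χ₃ = χ₂ from e, hv2] at hJ3; norm_num at hJ3
    · exact e
  have hν : ∀ χ ∈ principalBlock M G, bar χ = χ → CfsgLib.BlockB.fsInd χ = 1 := fun χ hχ hr => by
    refine fsInd_eq_one_of_odd χ ?_ fun g =>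
      Complex.conj_eq_iff_im.1 (congrFun (congrArg Subtype.val hr) g)
    exact odd_degree_of_invol (CfsgLib.Char.irr_isCharacter χ.2)
      (CfsgLib.Invol.klein_sq_eq_one hP hJ) ((klein_principal_card hM P hP hone hJ hJ1).2 χ hχ)
  -- the square root function vanishes on the 2-singular elements
  have hsqrt : ∀ g : G, 2 ∣ orderOf g → CfsgLib.BlockB.sqrtCount g = 0 := fun g hg => by
    unfold CfsgLib.BlockB.sqrtCount
    rw [Nat.cast_eq_zero, Finset.card_eq_zero, Finset.filter_eq_empty_iff]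
    intro h _ he
    have h2 : 2 ∣ orderOf h := hg.trans (he ▸ orderOf_mul_self_dvd h)
    have h3 := orderOf_pow h (n := 2)
    rw [pow_two, he, Nat.gcd_eq_right h2] at h3
    have h4 : 2 ^ 2 ∣ orderOf h := by
      obtain ⟨c, hc⟩ := h2
      rw [h3, hc, Nat.mul_div_cancel_left c two_pos] at hg
      rw [hc, pow_two]
      exact Nat.mul_dvd_mul_left 2 hg
    obtain ⟨w, hw⟩ := exists_isPPart Nat.prime_two h
    obtain ⟨y, hy, hc, ⟨m, hm⟩, hyr⟩ := id hw
    obtain ⟨Q, hQ⟩ := (IsPGroup.of_card (n := m) (by rw [Nat.card_zpowers, hm]) :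
      IsPGroup 2 (Subgroup.zpowers w)).exists_le_sylow
    obtain ⟨c, hc'⟩ := MulAction.exists_smul_eq G Q P
    have hcw : c * w * c⁻¹ ∈ (P : Subgroup G) := by
      rw [← hc', Sylow.coe_subgroup_smul]
      exact Subgroup.smul_mem_pointwise_smul w (MulAut.conj c) _ (hQ (Subgroup.mem_zpowers w))
    have hw2 : orderOf w ∣ 2 := by
      rw [← CfsgLib.Invol.orderOf_conj_eq c w, orderOf_dvd_iff_pow_eq_one, pow_two]
      exact CfsgLib.Invol.klein_sq_eq_one hP hcw
    have h5 : orderOf h ∣ 2 * orderOf y := by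
      rw [← hy]
      exact hc.orderOf_mul_dvd_mul_orderOf.trans (Nat.mul_dvd_mul_right hw2 _)
    exact hyr (Nat.dvd_of_mul_dvd_mul_left two_pos ((pow_two 2 ▸ h4).trans h5))
  have key : ∑ᶠ χ ∈ principalBlock M G, CfsgLib.BlockB.fsInd χ * (χ : G → ℂ) J = 0 := by
    calc ∑ᶠ χ ∈ principalBlock M G, CfsgLib.BlockB.fsInd χ * (χ : G → ℂ) J
        = ∑ χ : principalBlock M G, ((Nat.card G : ℂ)⁻¹ * ∑ g : G,
            CfsgLib.BlockB.sqrtCount g * conj (((χ : IrrCharacter G) : G → ℂ) g)) *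
              ((χ : IrrCharacter G) : G → ℂ) J := by
          rw [← finsum_set_coe_eq_finsum_mem, finsum_eq_sum_of_fintype]
          refine Finset.sum_congr rfl fun χ _ => ?_
          rw [← CfsgLib.BlockB.classInner_sqrtCount, CfsgLib.Char.classInner_def]
      _ = (Nat.card G : ℂ)⁻¹ * ∑ g : G, CfsgLib.BlockB.sqrtCount g *
            conj (∑ χ : principalBlock M G, ((χ : IrrCharacter G) : G → ℂ) J *
              ((χ : IrrCharacter G) : G → ℂ) g) := by
          simp only [map_sum, map_mul, Finset.mul_sum, Finset.sum_mul]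
          rw [Finset.sum_comm]
          refine Finset.sum_congr rfl fun g _ => Finset.sum_congr rfl fun χ _ => ?_
          rcases (klein_principal_card hM P hP hone hJ hJ1).2 χ χ.2 with e | e <;> rw [e] <;>
            simp <;> ring
      _ = 0 := by
          rw [Finset.sum_eq_zero fun g _ => ?_, mul_zero]
          by_cases hg : 2 ∣ orderOf g
          · rw [hsqrt g hg, zero_mul]
          · rw [klein_relation hM P hP hone hJ hJ1 hg, map_zero, mul_zero]
  rw [finsum_block_four hB ⟨n1, n2, n3, n12, n13, n23⟩, hν χ₁ mem1 hr1, hν χ₂ mem2 hr2,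
    hν χ₃ mem3 hr3, hv1, hv2, hv3,
    hν trivIrr one_mem_principalBlock (Subtype.ext (funext fun g => by simp [bar, trivIrr]))] at key
  norm_num [trivIrr] at key
where
  orderOf_mul_self_dvd (h : G) : orderOf (h * h) ∣ orderOf h := by
    rw [← pow_two]; exact orderOf_pow_dvd 2

end CfsgLib.BlockA
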