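import Cfsg.Agent.Lib.BlockA.DegreeGapBasic
import Cfsg.Agent.Lib.InvChar.KleinCentralizerFive

/-!
# Simple groups with `χ(1) - χ(u) = 4` or `χ(u) = 0`

Inner products of products of characters of degree three show that these characters are real, at
most two in number and share one character of degree five; so `|C(u)| = 4` and the group is `A₅`.
-/

set_option autoImplicit false
set_option linter.unusedSectionVars false

namespace CfsgLib.BlockA.DegreeGap

open Module
open scoped ComplexConjugate

universe u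

variable {G : Type u} [Group G] [Finite G] {u : G}

/-- A character of degree two cannot take the value `-2`. -/
theorem val_deg_two (h : Gap u) {χ : Cfsg.IrrCharacter G} (hχ : χ ≠ one G) (hd : deg χ = 2) :
    val u χ = 0 := by
  classical
  have := Fintype.ofFinite G
  by_contra h0
  have hv : val u χ = -2 := by
    rw [(val_cases u χ).resolve_left h0, hd]; norm_num
  have hchar : Cfsg.IsCharacter G (fun g => (χ : G → ℂ) g * conj ((χ : G → ℂ) g)) :=
    Char.isCharacter_mul (Char.irr_isCharacter χ.2) (Char.isCharacter_conj (Char.irr_isCharacter χ.2))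
  have h1 : Cfsg.classInner (fun g => (χ : G → ℂ) g * conj ((χ : G → ℂ) g))
      ((one G : Cfsg.IrrCharacter G) : G → ℂ) = 1 := by
    rw [show (fun g => (χ : G → ℂ) g * conj ((χ : G → ℂ) g)) =
      fun g => (χ : G → ℂ) g * ((dual χ : Cfsg.IrrCharacter G) : G → ℂ) g from rfl,
      inner_eq_one_iff, dual_dual, inner_irr, if_pos rfl]
  have hsub := Char.isCharacter_sub_of_constituent hchar (one G).2 (by rw [h1]; exact one_ne_zero)
  obtain ⟨l, -, hne, hN, ht⟩ := parts_spec (N := 3) (t := 3) h hsub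
    (by simp [one, deg_spec, hd, map_ofNat]; norm_num)
    (by simp [one, val_spec h hχ, hv, map_ofNat]; norm_num)
    (by rw [Char.classInner_sub_left, h1, inner_irr, if_pos rfl, sub_self])
  have key : ∀ s : Multiset (Cfsg.IrrCharacter G), s ≠ 0 →
      (s.map (val u)).sum < (((s.map deg).sum : ℕ) : ℤ) := by
    intro s
    induction s using Multiset.induction with
    | empty => intro h; exact absurd rfl h
    | cons a s ih =>
      intro _
      have ha : val u a < (deg a : ℤ) := by
        have := deg_pos a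
        rcases val_cases u a with e | e <;> rw [e] <;> omega
      rcases eq_or_ne s 0 with rfl | hs
      · simpa using ha
      · have := ih hs
        simp only [Multiset.map_cons, Multiset.sum_cons, Nat.cast_add]
        linarith
  have hl : l ≠ 0 := fun e => by rw [e] at hN; simp at hN
  have := key l hl
  rw [hN, ht] at this
  norm_num at this

/-- Eigenvalues with product one. -/
theorem exists_eigen (hperf : commutator G = ⊤) (χ : Cfsg.IrrCharacter G) (g : G) :
    ∃ μ : Fin (deg χ) → ℂ, ∏ i, μ i = 1 ∧ (∀ i, μ i ^ orderOf g = 1) ∧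
      (∀ n : ℕ, (χ : G → ℂ) (g ^ n) = ∑ i, μ i ^ n) ∧ conj ((χ : G → ℂ) g) = ∑ i, (μ i)⁻¹ := by
  obtain ⟨m, ρ, hρ, hρc⟩ := χ.2
  obtain ⟨ι, hι, b, μ, hb, hμ, hχ, hinv⟩ := Char.exists_char_eigen ρ g
  have hprod := ClassK.RowDegree.prod_eigen_eq_one hperf ρ b μ g hb
  have hcard : Fintype.card ι = deg χ := by
    have h1 := hχ 0
    simp only [pow_zero, Finset.sum_const, Finset.card_univ, nsmul_eq_mul, mul_one] at h1
    rw [hρc, deg_spec] at h1
    exact_mod_cast h1.symm
  let e := Fintype.equivFinOfCardEq hcard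
  refine ⟨μ ∘ e.symm, ?_, fun i => hμ _, fun n => ?_, ?_⟩
  · rw [← hprod]; exact e.symm.prod_comp μ
  · rw [← hρc, hχ]; exact (e.symm.sum_comp fun i => μ i ^ n).symm
  · rw [← hρc, ← Char.char_inv_eq_conj, hinv]; exact (e.symm.sum_comp fun i => (μ i)⁻¹).symm

/-- Squaring for characters of degree three of a perfect group. -/
theorem sq_three (hperf : commutator G = ⊤) {χ : Cfsg.IrrCharacter G} (hd : deg χ = 3) (g : G) :
    (χ : G → ℂ) (g * g) = (χ : G → ℂ) g ^ 2 - 2 * conj ((χ : G → ℂ) g) := by
  obtain ⟨μ, hp, hμ, hn, hc⟩ := exists_eigen hperf χ g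
  revert μ
  rw [hd]
  intro μ hp hμ hn hc
  rw [← sq, hn 2, hc, show (χ : G → ℂ) g = ∑ i, μ i ^ 1 by rw [← hn 1, pow_one]]
  simp only [Fin.sum_univ_three, Fin.prod_univ_three, pow_one] at *
  have h0 : μ 0 ≠ 0 := fun e => by simp [e] at hp
  have h1 : μ 1 ≠ 0 := fun e => by simp [e] at hp
  have h2 : μ 2 ≠ 0 := fun e => by simp [e] at hp
  rw [show (μ 0)⁻¹ = μ 1 * μ 2 from inv_eq_of_mul_eq_one_right (by linear_combination hp),
    show (μ 1)⁻¹ = μ 0 * μ 2 from inv_eq_of_mul_eq_one_right (by linear_combination hp),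
    show (μ 2)⁻¹ = μ 0 * μ 1 from inv_eq_of_mul_eq_one_right (by linear_combination hp)]
  ring

/-- A character of degree three with value `-1` at `u` has `u²` in its kernel. -/
theorem sq_kernel_three (h : Gap u) {χ : Cfsg.IrrCharacter G} (hd : deg χ = 3)
    (hv : (χ : G → ℂ) u = -1) : (χ : G → ℂ) (u * u) = (χ : G → ℂ) 1 := by
  rw [sq_three (perfect h) hd, hv, deg_spec, hd]
  simp
  norm_num

/-- Parity of the values at an involution. -/
theorem exists_even (hperf : commutator G = ⊤) (hu2 : u * u = 1) (χ : Cfsg.IrrCharacter G) :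
    ∃ k : ℕ, (χ : G → ℂ) u = (deg χ : ℂ) - 2 * (k : ℂ) ∧ (deg χ = 2 → k = 0 ∨ k = 2) := by
  classical
  obtain ⟨μ, hp, hμ, hn, -⟩ := exists_eigen hperf χ u
  have hord : ∀ i, μ i = 1 ∨ μ i = -1 := by
    intro i
    obtain ⟨c, hc⟩ := orderOf_dvd_of_pow_eq_one (show u ^ 2 = 1 by rw [sq, hu2])
    have : μ i ^ 2 = 1 := by rw [hc, pow_mul, hμ, one_pow]
    exact sq_eq_one_iff.mp this
  refine ⟨(Finset.univ.filter fun i => μ i = -1).card, ?_, fun h2 => ?_⟩
  · rw [← pow_one u, hn 1]
    have e : ∀ i, μ i ^ 1 = 1 - 2 * (if μ i = -1 then (1 : ℂ) else 0) := fun i => by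
      rcases hord i with e | e <;> simp [e] <;> norm_num
    rw [Finset.sum_congr rfl fun i _ => e i, Finset.sum_sub_distrib, ← Finset.mul_sum,
      Finset.sum_boole]
    simp
  · revert μ
    rw [h2]
    intro μ hp _ _ hord
    simp only [Fin.prod_univ_two] at hp
    rcases hord 0 with e0 | e0 <;> rcases hord 1 with e1 | e1
    · left
      rw [Finset.card_eq_zero, Finset.filter_eq_empty_iff]
      intro i _
      fin_cases i <;> simp [e0, e1] <;> norm_num
    · rw [e0, e1] at hp; norm_num at hp
    · rw [e0, e1] at hp; norm_num at hp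
    · right
      rw [Finset.filter_true_of_mem (fun i _ => by fin_cases i <;> simp [e0, e1])]
      simp

section Simple

variable [IsSimpleGroup G] (h : Gap u) (hu : u ≠ 1)
include h hu

theorem faithful {χ : Cfsg.IrrCharacter G} (hχ : χ ≠ one G) {g : G}
    (hg : (χ : G → ℂ) g = (χ : G → ℂ) 1) : g = 1 := by
  have := Fintype.ofFinite G
  obtain ⟨m, ρ, hρ, hρc⟩ := χ.2
  rcases IsSimpleGroup.eq_bot_or_eq_top_of_normal (MonoidHom.ker ρ : Subgroup G)
    inferInstance with hk | hk
  · have h1 : g ∈ (MonoidHom.ker ρ : Subgroup G) := by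
      rw [Char.mem_ker_iff_char, hρc]; exact hg
    rw [hk] at h1
    exact h1
  · exfalso
    have hconst : ∀ x : G, (χ : G → ℂ) x = (χ : G → ℂ) 1 := fun x => by
      rw [← hρc]; exact (Char.mem_ker_iff_char ρ x).mp (hk ▸ Subgroup.mem_top x)
    have h2 := Char.irr_classInner_ne χ.2 (one G).2 fun e => hχ (Subtype.ext e)
    rw [inner_one_left, Finset.sum_congr rfl fun x _ => hconst x, Finset.sum_const,
      Finset.card_univ, nsmul_eq_mul, ← Nat.card_eq_fintype_card, ← mul_assoc,
      inv_mul_cancel₀ Char.natCard_ne_zero, one_mul] at h2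
    exact Char.irr_apply_one_ne_zero χ.2 h2

theorem exists_three : ∃ α : Cfsg.IrrCharacter G, deg α = 3 ∧ val u α = -1 ∧ α ≠ one G := by
  classical
  have := Fintype.ofFinite G
  have := Fintype.ofFinite (Cfsg.IrrCharacter G)
  have h1 := (column_equations h hu).1
  obtain ⟨χ, hχ, hneg⟩ := Finset.exists_lt_of_sum_lt (f := fun χ : Cfsg.IrrCharacter G =>
    (deg χ : ℤ) * ((deg χ : ℤ) - 4)) (g := fun _ => (0 : ℤ))
    (s := Finset.univ.filter (fun χ : Cfsg.IrrCharacter G => χ ≠ one G ∧ val u χ ≠ 0))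
    (by rw [h1]; simp)
  obtain ⟨hne, h0⟩ := (Finset.mem_filter.mp hχ).2
  have h4 : deg χ < 4 := by
    by_contra h4
    have : (0 : ℤ) ≤ (deg χ : ℤ) * ((deg χ : ℤ) - 4) := mul_nonneg (by omega) (by omega)
    exact absurd hneg (not_lt.mpr this)
  have h2 := two_le_deg h hne
  rcases (by omega : deg χ = 2 ∨ deg χ = 3) with hd | hd
  · exact absurd (val_deg_two h hne hd) h0
  · refine ⟨χ, hd, ?_, hne⟩
    rw [(val_cases u χ).resolve_left h0, hd]
    norm_num

theorem sq_eq_one : u * u = 1 := by
  obtain ⟨α, hd, hv, hne⟩ := exists_three h hu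
  refine faithful h hu hne (sq_kernel_three h hd ?_)
  rw [val_spec h hne, hv]
  norm_num

theorem deg_val {χ : Cfsg.IrrCharacter G} (hχ : χ ≠ one G) :
    3 ≤ deg χ ∧ (Odd (deg χ) → val u χ = (deg χ : ℤ) - 4) ∧ (deg χ = 4 → val u χ = 0) := by
  obtain ⟨k, hk, hk2⟩ := exists_even (perfect h) (sq_eq_one h hu) χ
  rw [val_spec h hχ] at hk
  have hk' : val u χ = (deg χ : ℤ) - 2 * (k : ℤ) := by exact_mod_cast hk
  refine ⟨?_, fun hodd => ?_, fun h4 => ?_⟩
  · have := two_le_deg h hχ
    by_contra h3
    have hd : deg χ = 2 := by omega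
    have := val_deg_two h hχ hd
    rcases hk2 hd with rfl | rfl <;> omega
  · refine (val_cases u χ).resolve_left fun h0 => ?_
    obtain ⟨j, hj⟩ := hodd
    omega
  · rcases val_cases u χ with e | e <;> omega

theorem val_three {χ : Cfsg.IrrCharacter G} (hχ : χ ≠ one G) (hd : deg χ = 3) :
    (χ : G → ℂ) u = -1 := by
  rw [val_spec h hχ, (deg_val h hu hχ).2.1 (by rw [hd]; decide), hd]
  norm_num

theorem ne_one_of_three {χ : Cfsg.IrrCharacter G} (hd : deg χ = 3) : χ ≠ one G := by
  intro e
  have h3 := deg_spec χ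
  rw [hd, e] at h3
  change (1 : ℂ) = _ at h3
  norm_num at h3

theorem sum_deg_ge {l : Multiset (Cfsg.IrrCharacter G)} (hl : ∀ χ ∈ l, χ ≠ one G) :
    3 * Multiset.card l ≤ (l.map deg).sum := by
  induction l using Multiset.induction with
  | empty => simp
  | cons a s ih =>
    have := ih fun χ hχ => hl χ (Multiset.mem_cons_of_mem hχ)
    have := (deg_val h hu (hl a (Multiset.mem_cons_self a s))).1
    simp only [Multiset.card_cons, Multiset.map_cons, Multiset.sum_cons]
    omega

/-- A product of two characters of degree three has two constituents. -/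
theorem nine [Fintype G] {α β : Cfsg.IrrCharacter G} (ha : deg α = 3) (hb : deg β = 3)
    (hne : α ≠ dual β) :
    ∃ a b : Cfsg.IrrCharacter G, a ≠ b ∧ a ≠ one G ∧ b ≠ one G ∧ deg a + deg b = 9 ∧
      deg a ≤ 6 ∧ deg b ≤ 6 ∧
      (fun g => (α : G → ℂ) g * (β : G → ℂ) g) = (a : G → ℂ) + (b : G → ℂ) := by
  classical
  obtain ⟨l, hl, hne1, hN, ht⟩ := parts_spec (N := 9) (t := 1) h
    (φ := fun g => (α : G → ℂ) g * (β : G → ℂ) g)
    (Char.isCharacter_mul (Char.irr_isCharacter α.2) (Char.irr_isCharacter β.2))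
    (by simp [deg_spec, ha, hb]; norm_num)
    (by simp [val_three h hu (ne_one_of_three h hu ha) ha, val_three h hu (ne_one_of_three h hu hb) hb])
    (by rw [inner_eq_one_iff, inner_irr, if_neg hne])
  have hc := sum_deg_ge h hu hne1
  rw [hN] at hc
  rcases (by omega : Multiset.card l = 0 ∨ Multiset.card l = 1 ∨ Multiset.card l = 2 ∨
    Multiset.card l = 3) with hk | hk | hk | hk
  · rw [Multiset.card_eq_zero.mp hk] at hN; simp at hN
  · obtain ⟨a, rfl⟩ := Multiset.card_eq_one.mp hk
    simp only [Multiset.map_singleton, Multiset.sum_singleton] at hN ht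
    have := (deg_val h hu (hne1 a (by simp))).2.1 (by rw [hN]; decide)
    omega
  · obtain ⟨a, b, rfl⟩ := Multiset.card_eq_two.mp hk
    simp only [Multiset.insert_eq_cons, Multiset.map_cons, Multiset.map_singleton,
      Multiset.sum_cons, Multiset.sum_singleton] at hN hl
    have ha' := hne1 a (by simp)
    have hb' := hne1 b (by simp)
    have h1 := (deg_val h hu ha').1
    have h2 := (deg_val h hu hb').1
    refine ⟨a, b, fun e => ?_, ha', hb', hN, by omega, by omega, hl⟩
    subst e
    omega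
  · obtain ⟨a, b, c, rfl⟩ := Multiset.card_eq_three.mp hk
    simp only [Multiset.insert_eq_cons, Multiset.map_cons, Multiset.map_singleton,
      Multiset.sum_cons, Multiset.sum_singleton] at hN ht
    have ha' := hne1 a (by simp)
    have hb' := hne1 b (by simp)
    have hc' := hne1 c (by simp)
    have h1 := (deg_val h hu ha').1
    have h2 := (deg_val h hu hb').1
    have h3 := (deg_val h hu hc').1
    have h1' := (deg_val h hu ha').2.1 (by rw [show deg a = 3 by omega]; decide)
    have h2' := (deg_val h hu hb').2.1 (by rw [show deg b = 3 by omega]; decide)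
    have h3' := (deg_val h hu hc').2.1 (by rw [show deg c = 3 by omega]; decide)
    omega

theorem inner_pair [Fintype G] [DecidableEq (Cfsg.IrrCharacter G)] (a b c : Cfsg.IrrCharacter G) :
    Cfsg.classInner ((a : G → ℂ) + (b : G → ℂ)) (c : G → ℂ) =
      (if a = c then 1 else 0) + (if b = c then 1 else 0) := by
  rw [Char.classInner_add_left, inner_irr, inner_irr]

theorem norm_nine [Fintype G] {α β : Cfsg.IrrCharacter G} (ha : deg α = 3) (hb : deg β = 3)
    (hne : α ≠ dual β) :
    Cfsg.classInner (fun g => (α : G → ℂ) g * (β : G → ℂ) g)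
      (fun g => (α : G → ℂ) g * (β : G → ℂ) g) = 2 := by
  classical
  obtain ⟨a, b, hab, -, -, -, -, -, e⟩ := nine h hu ha hb hne
  rw [e, Char.classInner_add_right, inner_pair h hu, inner_pair h hu, if_pos rfl, if_pos rfl,
    if_neg hab, if_neg hab.symm]
  norm_num

/-- The dual is a constituent of the square. -/
theorem dual_constituent [Fintype G] {α : Cfsg.IrrCharacter G} (ha : deg α = 3) :
    Cfsg.classInner (fun g => (α : G → ℂ) g * (α : G → ℂ) g)
      ((dual α : Cfsg.IrrCharacter G) : G → ℂ) ≠ 0 := by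
  classical
  obtain ⟨m, ρ, hρ, hρc⟩ := α.2
  obtain ⟨S, A, hS, hA, hadd, hsub⟩ := Char.exists_sq_split ρ
  rw [hρc] at hadd hsub
  have hAeq : ∀ g, A g = conj ((α : G → ℂ) g) := fun g => by
    have h1 := hadd g
    have h2 := hsub g
    rw [sq_three (perfect h) ha] at h2
    linear_combination h1 / 2 - h2 / 2
  have e : (fun g => (α : G → ℂ) g * (α : G → ℂ) g) = S + ((dual α : Cfsg.IrrCharacter G) : G → ℂ) := by
    funext g
    rw [← sq, ← hadd g, hAeq]
    rfl
  obtain ⟨k, hk⟩ := Char.classInner_isCharacter_nat hS (Char.irr_isCharacter (dual α).2)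
  rw [e, Char.classInner_add_left, hk, inner_irr, if_pos rfl, ← Nat.cast_one, ← Nat.cast_add,
    Nat.cast_ne_zero]
  omega

/-- Characters of degree three are real. -/
theorem dual_eq {α : Cfsg.IrrCharacter G} (ha : deg α = 3) : dual α = α := by
  classical
  have := Fintype.ofFinite G
  by_contra hαne
  have hα1 := ne_one_of_three h hu ha
  have hda : deg (dual α) = 3 := by rw [deg_dual, ha]
  -- the square
  obtain ⟨a, b, hab, ha1, hb1, hsum, -, -, e⟩ := nine h hu ha ha (fun e => hαne e.symm)
  obtain ⟨ψ, hψd, hψ1, heq⟩ : ∃ ψ : Cfsg.IrrCharacter G, deg ψ = 6 ∧ ψ ≠ one G ∧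
      (fun g => (α : G → ℂ) g * (α : G → ℂ) g) =
        ((dual α : Cfsg.IrrCharacter G) : G → ℂ) + (ψ : G → ℂ) := by
    have hc := dual_constituent h hu ha
    rw [e, inner_pair h hu] at hc
    by_cases hA : a = dual α
    · subst hA
      exact ⟨b, by omega, hb1, e⟩
    · by_cases hB : b = dual α
      · subst hB
        exact ⟨a, by omega, ha1, e.trans (add_comm _ _)⟩
      · rw [if_neg hA, if_neg hB, add_zero] at hc
        exact absurd rfl hc
  have hψu : (ψ : G → ℂ) u = 2 := by
    have h1 := congrFun heq u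
    simp only [Pi.add_apply] at h1
    rw [val_three h hu hα1 ha, val_three h hu (dual_ne_one hα1) hda] at h1
    linear_combination -h1
  -- the other product is `1 + R`
  obtain ⟨R, hRd, hReq⟩ : ∃ R : Cfsg.IrrCharacter G, deg R = 8 ∧
      (fun g => (α : G → ℂ) g * conj ((α : G → ℂ) g)) =
        ((one G : Cfsg.IrrCharacter G) : G → ℂ) + (R : G → ℂ) := by
    set φ := fun g => (α : G → ℂ) g * conj ((α : G → ℂ) g) with hφ
    have hφc : Cfsg.IsCharacter G φ :=
      Char.isCharacter_mul (Char.irr_isCharacter α.2) (Char.irr_isCharacter (dual α).2)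
    have hn : Cfsg.classInner φ φ = 2 := by
      have h2 := norm_nine h hu ha ha (fun e => hαne e.symm)
      rw [inner_mul_mul] at h2
      rw [← h2]
      congr 1
      funext g
      exact mul_comm _ _
    have h1 : Cfsg.classInner φ ((one G : Cfsg.IrrCharacter G) : G → ℂ) = 1 := by
      rw [show φ = fun g => (α : G → ℂ) g * ((dual α : Cfsg.IrrCharacter G) : G → ℂ) g from rfl,
        inner_eq_one_iff, dual_dual, inner_irr, if_pos rfl]
    have h1' : Cfsg.classInner ((one G : Cfsg.IrrCharacter G) : G → ℂ) φ = 1 := by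
      rw [← Char.classInner_conj_symm, h1, map_one]
    have hsub := Char.isCharacter_sub_of_constituent hφc (one G).2 (by rw [h1]; exact one_ne_zero)
    let R : Cfsg.IrrCharacter G := ⟨φ - ((one G : Cfsg.IrrCharacter G) : G → ℂ),
      Char.isIrrCharacter_iff.mpr ⟨hsub, by
        rw [Char.classInner_sub_left, Char.classInner_sub_right, Char.classInner_sub_right,
          hn, h1, h1', inner_irr, if_pos rfl]
        norm_num⟩⟩
    refine ⟨R, ?_, (add_sub_cancel _ φ).symm⟩
    have h8 := deg_spec R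
    change φ 1 - 1 = _ at h8
    rw [hφ] at h8
    simp only [deg_spec, ha, map_natCast] at h8
    have : ((8 : ℕ) : ℂ) = deg R := by rw [← h8]; norm_num
    exact_mod_cast this.symm
  -- constituents of `α ψ`
  obtain ⟨l, hl, hne1, hN, ht⟩ := parts_spec (N := 18) (t := -2) h
    (φ := fun g => (α : G → ℂ) g * (ψ : G → ℂ) g)
    (Char.isCharacter_mul (Char.irr_isCharacter α.2) (Char.irr_isCharacter ψ.2))
    (by simp [deg_spec, ha, hψd]; norm_num)
    (by simp [val_three h hu hα1 ha, hψu])
    (by
      rw [inner_eq_one_iff, inner_irr, if_neg]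
      intro e'
      have := congrArg deg e'
      rw [deg_dual] at this
      omega)
  have hcount : ∀ β : Cfsg.IrrCharacter G, (l.count β : ℂ) =
      Cfsg.classInner (ψ : G → ℂ) (fun g => conj ((α : G → ℂ) g) * (β : G → ℂ) g) := fun β => by
    rw [← inner_parts l β, ← hl, inner_mul_left]
  have key : ∀ s : Multiset (Cfsg.IrrCharacter G), (∀ χ ∈ s, χ ≠ one G) →
      -((Multiset.card (s.filter fun χ => deg χ = 3) : ℕ) : ℤ) ≤ (s.map (val u)).sum := by
    intro s hs
    induction s using Multiset.induction with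
    | empty => simp
    | cons x s ih =>
      have := ih fun χ hχ => hs χ (Multiset.mem_cons_of_mem hχ)
      have hx := deg_val h hu (hs x (Multiset.mem_cons_self x s))
      by_cases hx3 : deg x = 3
      · rw [Multiset.filter_cons_of_pos (p := fun χ => deg χ = 3) s hx3]
        simp only [Multiset.card_cons, Multiset.map_cons, Multiset.sum_cons, Nat.cast_add, Nat.cast_one]
        have := hx.2.1 (by rw [hx3]; decide)
        omega
      · rw [Multiset.filter_cons_of_neg (p := fun χ => deg χ = 3) s hx3]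
        simp only [Multiset.map_cons, Multiset.sum_cons]
        rcases val_cases u x with e' | e' <;> omega
  have hF : 2 ≤ Multiset.card (l.filter fun χ => deg χ = 3) := by
    have := key l hne1
    omega
  obtain ⟨β, hβ⟩ := Multiset.card_pos_iff_exists_mem.mp (show 0 < _ by omega : 0 <
    Multiset.card (l.filter fun χ => deg χ = 3))
  obtain ⟨F, hFeq⟩ := Multiset.exists_cons_of_mem hβ
  rw [hFeq, Multiset.card_cons] at hF
  obtain ⟨γ, hγ⟩ := Multiset.card_pos_iff_exists_mem.mp (show 0 < Multiset.card F by omega)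
  have hγ' : γ ∈ l.filter fun χ => deg χ = 3 := hFeq ▸ Multiset.mem_cons_of_mem hγ
  obtain ⟨hβl, hβd⟩ := Multiset.mem_filter.mp hβ
  obtain ⟨hγl, hγd⟩ := Multiset.mem_filter.mp hγ'
  have hne3 : ∀ δ : Cfsg.IrrCharacter G, deg δ = 3 → δ ∈ l → ∃ x : Cfsg.IrrCharacter G,
      ψ ≠ x ∧ (fun g => conj ((α : G → ℂ) g) * (δ : G → ℂ) g) = (ψ : G → ℂ) + (x : G → ℂ) := by
    intro δ hd hδ
    have hc := hcount δ
    have hpos : 0 < l.count δ := Multiset.count_pos.mpr hδ
    have hδne : dual α ≠ dual δ := by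
      intro e'
      have e'' : δ = α := by rw [← dual_dual δ, ← e', dual_dual]
      subst e''
      have e3 : (fun g => conj ((δ : G → ℂ) g) * (δ : G → ℂ) g) =
          ((one G : Cfsg.IrrCharacter G) : G → ℂ) + (R : G → ℂ) := by
        rw [← hReq]; funext g; ring
      rw [e3, Char.classInner_add_right, inner_irr, inner_irr, if_neg hψ1,
        if_neg (fun e4 => by rw [e4, hRd] at hψd; omega), add_zero, Nat.cast_eq_zero] at hc
      omega
    obtain ⟨x, y, hxy, -, -, -, -, -, exy⟩ := nine h hu hda hd hδne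
    have exy' : (fun g => conj ((α : G → ℂ) g) * (δ : G → ℂ) g) = (x : G → ℂ) + (y : G → ℂ) := exy
    rw [exy', Char.classInner_add_right, inner_irr, inner_irr] at hc
    by_cases hx : ψ = x
    · subst hx; exact ⟨y, hxy, exy'⟩
    · by_cases hy : ψ = y
      · subst hy; exact ⟨x, hxy.symm, exy'.trans (add_comm _ _)⟩
      · rw [if_neg hx, if_neg hy, add_zero, Nat.cast_eq_zero] at hc
        omega
  obtain ⟨x, hxψ, hx⟩ := hne3 β hβd hβl
  obtain ⟨y, hyψ, hy⟩ := hne3 γ hγd hγl
  have hβγ : β ≠ γ := by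
    intro e'
    subst e'
    have h1 : 2 ≤ l.count β := by
      have h2 : (l.filter fun χ => deg χ = 3).count β ≤ l.count β :=
        Multiset.count_le_of_le _ (Multiset.filter_le _ _)
      rw [hFeq, Multiset.count_cons_self] at h2
      have := Multiset.count_pos.mpr hγ
      omega
    have hc := hcount β
    rw [hx, Char.classInner_add_right, inner_irr, inner_irr, if_pos rfl, if_neg hxψ, add_zero,
      Nat.cast_eq_one] at hc
    omega
  have hsw := inner_mul_mul (fun g => conj ((α : G → ℂ) g)) (β : G → ℂ)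
    (fun g => conj ((α : G → ℂ) g)) (γ : G → ℂ)
  rw [hx, hy] at hsw
  have e3 : (fun g => conj ((α : G → ℂ) g) * conj (conj ((α : G → ℂ) g))) =
      ((one G : Cfsg.IrrCharacter G) : G → ℂ) + (R : G → ℂ) := by
    rw [← hReq]; funext g; rw [Complex.conj_conj]; ring
  obtain ⟨s, t, hst, hs1, ht1, hstd, hs6, ht6, est⟩ := nine h hu (show deg (dual β) = 3 by
    rw [deg_dual, hβd]) hγd (fun e' => hβγ (by rw [← dual_dual β, e', dual_dual]))
  have est' : (fun g => conj ((β : G → ℂ) g) * (γ : G → ℂ) g) = (s : G → ℂ) + (t : G → ℂ) := est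
  rw [e3, est'] at hsw
  have hR : ∀ z : Cfsg.IrrCharacter G, deg z ≤ 6 → R ≠ z := fun z hz e' => by
    rw [← e', hRd] at hz; omega
  simp only [Char.classInner_add_left, Char.classInner_add_right, inner_irr, if_neg hs1.symm,
    if_neg ht1.symm, if_neg (hR s hs6), if_neg (hR t ht6), add_zero,
    if_neg hyψ, if_neg hxψ.symm] at hsw
  split_ifs at hsw <;> norm_num at hsw

/-- The square of a character of degree three. -/
theorem exists_five [Fintype G] {α : Cfsg.IrrCharacter G} (ha : deg α = 3) :
    ∃ ψ : Cfsg.IrrCharacter G, deg ψ = 5 ∧ ψ ≠ one G ∧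
      (fun g => (α : G → ℂ) g * (α : G → ℂ) g) =
        ((one G : Cfsg.IrrCharacter G) : G → ℂ) + (α : G → ℂ) + (ψ : G → ℂ) := by
  classical
  have hα1 := ne_one_of_three h hu ha
  have hdual := dual_eq h hu ha
  set φ := fun g => (α : G → ℂ) g * (α : G → ℂ) g with hφ
  have hφc : Cfsg.IsCharacter G φ :=
    Char.isCharacter_mul (Char.irr_isCharacter α.2) (Char.irr_isCharacter α.2)
  have h1 : Cfsg.classInner φ ((one G : Cfsg.IrrCharacter G) : G → ℂ) = 1 := by
    rw [inner_eq_one_iff, hdual, inner_irr, if_pos rfl]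
  have hsub := Char.isCharacter_sub_of_constituent hφc (one G).2 (by rw [h1]; exact one_ne_zero)
  have hc := dual_constituent h hu ha
  rw [hdual] at hc
  have hsub2 := Char.isCharacter_sub_of_constituent hsub α.2 (by
    rw [Char.classInner_sub_left, inner_irr, if_neg hα1.symm, sub_zero]; exact hc)
  obtain ⟨l, hl, hne1, hN, -⟩ := parts_spec (N := 5) (t := 1) h hsub2
    (by simp [φ, one, deg_spec, ha]; norm_num)
    (by simp [φ, one, val_three h hu hα1 ha])
    (by rw [Char.classInner_sub_left, Char.classInner_sub_left, h1, inner_irr, if_pos rfl,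
      inner_irr, if_neg hα1, sub_self, sub_zero])
  have hcard := sum_deg_ge h hu hne1
  rw [hN] at hcard
  obtain ⟨ψ, rfl⟩ : ∃ ψ, l = {ψ} := by
    refine Multiset.card_eq_one.mp ?_
    rcases Nat.eq_zero_or_pos (Multiset.card l) with h0 | h0
    · rw [Multiset.card_eq_zero.mp h0] at hN; simp at hN
    · omega
  simp only [Multiset.map_singleton, Multiset.sum_singleton] at hN hl
  refine ⟨ψ, hN, hne1 ψ (by simp), ?_⟩
  rw [← hl]
  abel

/-- The main theorem for simple groups. -/
theorem simple_case : Nat.card (Subgroup.centralizer ({u} : Set G)) = 4 ∧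
    Nonempty (G ≃* ↥(alternatingGroup (Fin 5))) ∧
    ∃ α ψ : Cfsg.IrrCharacter G, deg α = 3 ∧ deg ψ = 5 ∧ (α : G → ℂ) u = -1 ∧ dual α = α ∧
      ψ ≠ one G ∧ ∀ g, (α : G → ℂ) g * (α : G → ℂ) g = 1 + (α : G → ℂ) g + (ψ : G → ℂ) g := by
  classical
  have := Fintype.ofFinite G
  have := Fintype.ofFinite (Cfsg.IrrCharacter G)
  obtain ⟨α, hαd, hαv, hα1⟩ := exists_three h hu
  obtain ⟨ψ, hψd, hψ1, hαψ⟩ := exists_five h hu hαd
  have hreal : ∀ {β : Cfsg.IrrCharacter G}, deg β = 3 → ∀ g, conj ((β : G → ℂ) g) = (β : G → ℂ) g :=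
    fun {β} hβ g => congrFun (congrArg Subtype.val (dual_eq h hu hβ)) g
  have hall : ∀ β : Cfsg.IrrCharacter G, deg β = 3 →
      (fun g => (β : G → ℂ) g * (β : G → ℂ) g) =
        ((one G : Cfsg.IrrCharacter G) : G → ℂ) + (β : G → ℂ) + (ψ : G → ℂ) := by
    intro β hβd
    obtain ⟨ψ', hψ'd, hψ'1, hβψ⟩ := exists_five h hu hβd
    by_cases hαβ : α = β
    · subst hαβ; exact hαψ
    have hn := norm_nine h hu hαd hβd (by rw [dual_eq h hu hβd]; exact hαβ)
    rw [inner_mul_mul, show (fun g => (α : G → ℂ) g * conj ((α : G → ℂ) g)) = _ from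
      (funext fun g => by rw [hreal hαd g]).trans hαψ,
      show (fun g => conj ((β : G → ℂ) g) * (β : G → ℂ) g) = _ from
      (funext fun g => by rw [hreal hβd g]).trans hβψ] at hn
    have hd1 : deg (one G) = 1 := by
      have h3 := deg_spec (one G)
      change (1 : ℂ) = _ at h3
      exact_mod_cast h3.symm
    simp only [Char.classInner_add_left, Char.classInner_add_right, inner_irr,
      if_neg hαβ, if_neg hψ'1.symm, if_neg hψ1, if_neg hα1, if_neg (ne_one_of_three h hu hβd).symm,
      if_neg (show α ≠ ψ' from fun e => by rw [e] at hαd; omega),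
      if_neg (show ψ ≠ β from fun e => by rw [e] at hψd; omega), add_zero, zero_add] at hn
    by_cases hψψ : ψ = ψ'
    · rw [hψψ]; exact hβψ
    · rw [if_neg hψψ] at hn; norm_num at hn
  -- the alternating square of `ψ`
  have hsmall : ∀ β γ δ : Cfsg.IrrCharacter G, deg β = 3 → deg γ = 3 → deg δ = 3 →
      β ≠ γ → β ≠ δ → γ ≠ δ → False := by
    intro β γ δ hβ hγ hδ hbg hbd hgd
    obtain ⟨m, ρ, hρ, hρc⟩ := ψ.2
    obtain ⟨S, A, hS, hA, hadd, hsub⟩ := Char.exists_sq_split ρ
    rw [hρc] at hadd hsub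
    have hAeq : ∀ ε : Cfsg.IrrCharacter G, deg ε = 3 →
        A = (fun g => (ε : G → ℂ) g * (ψ : G → ℂ) g) - (ψ : G → ℂ) := by
      intro ε hε
      funext g
      have hq := hall ε hε
      have q1 := congrFun hq g
      have q2 := congrFun hq (g * g)
      simp only [Pi.add_apply] at q1 q2
      change _ = (1 : ℂ) + _ + _ at q1 q2
      have q3 : (ε : G → ℂ) (g * g) = (ε : G → ℂ) g ^ 2 - 2 * (ε : G → ℂ) g := by
        rw [sq_three (perfect h) hε, hreal hε g]
      have h1 := hadd g
      have h2 := hsub g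
      have p1 : (ψ : G → ℂ) g = (ε : G → ℂ) g * (ε : G → ℂ) g - 1 - (ε : G → ℂ) g := by
        linear_combination -q1
      have p2 : (ψ : G → ℂ) (g * g) =
          (ε : G → ℂ) (g * g) * (ε : G → ℂ) (g * g) - 1 - (ε : G → ℂ) (g * g) := by
        linear_combination -q2
      rw [q3] at p2
      rw [p1] at h1
      rw [p2] at h2
      simp only [Pi.sub_apply]
      rw [p1]
      linear_combination h1 / 2 - h2 / 2
    have hψε : ∀ ε : Cfsg.IrrCharacter G, deg ε = 3 → ψ ≠ ε := fun ε hε e => by
      rw [e] at hψd; omega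
    have hcnt : ∀ ε : Cfsg.IrrCharacter G, deg ε = 3 → Cfsg.classInner A (ε : G → ℂ) = 1 := by
      intro ε hε
      rw [hAeq ε hε, Char.classInner_sub_left, inner_mul_left, inner_irr, if_neg (hψε ε hε), sub_zero,
        show (fun g => conj ((ε : G → ℂ) g) * (ε : G → ℂ) g) = _ from
          (funext fun g => by rw [hreal hε g]).trans (hall ε hε)]
      simp only [Char.classInner_add_right, inner_irr, if_neg hψ1, if_neg (hψε ε hε)]
      norm_num
    obtain ⟨l, rfl⟩ := exists_parts hA
    have hmem : ∀ ε : Cfsg.IrrCharacter G, deg ε = 3 → ε ∈ l := fun ε hε => by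
      have := hcnt ε hε
      rw [inner_parts, Nat.cast_eq_one] at this
      exact Multiset.count_pos.mp (by omega)
    have hne1 : ∀ χ ∈ l, χ ≠ one G := by
      intro χ hχ e
      have hz : Cfsg.classInner (l.map fun χ : Cfsg.IrrCharacter G => (χ : G → ℂ)).sum
          ((one G : Cfsg.IrrCharacter G) : G → ℂ) = 0 := by
        rw [hAeq β hβ, Char.classInner_sub_left, inner_eq_one_iff, inner_irr, inner_irr, if_neg hψ1,
          if_neg, sub_zero]
        intro e'
        have := congrArg deg e'
        rw [deg_dual] at this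
        omega
      rw [inner_parts, Nat.cast_eq_zero, Multiset.count_eq_zero] at hz
      exact hz (e ▸ hχ)
    have hle : ({β, γ, δ} : Multiset (Cfsg.IrrCharacter G)) ≤ l := by
      refine (Multiset.le_iff_subset (by simp [hbg, hbd, hgd])).mpr fun x hx => ?_
      simp only [Multiset.insert_eq_cons, Multiset.mem_cons, Multiset.mem_singleton] at hx
      rcases hx with rfl | rfl | rfl
      · exact hmem _ hβ
      · exact hmem _ hγ
      · exact hmem _ hδ
    obtain ⟨r, hr⟩ := Multiset.le_iff_exists_add.mp hle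
    have hN : (l.map deg).sum = 10 := by
      have h10 : (l.map fun χ : Cfsg.IrrCharacter G => (χ : G → ℂ)).sum 1 = 10 := by
        rw [hAeq β hβ]
        simp [deg_spec, hβ, hψd]
        norm_num
      have key : ∀ s : Multiset (Cfsg.IrrCharacter G),
          (s.map fun χ : Cfsg.IrrCharacter G => (χ : G → ℂ)).sum 1 = (((s.map deg).sum : ℕ) : ℂ) := by
        intro s
        induction s using Multiset.induction with
        | empty => simp
        | cons a s ih => simp [ih, deg_spec]
      rw [key] at h10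
      exact_mod_cast h10
    have hge := sum_deg_ge h hu (l := r) fun χ hχ => hne1 χ (hr ▸ Multiset.mem_add.mpr (Or.inr hχ))
    rw [hr] at hN
    simp only [Multiset.map_add, Multiset.sum_add, Multiset.insert_eq_cons, Multiset.map_cons,
      Multiset.map_singleton, Multiset.sum_cons, Multiset.sum_singleton, hβ, hγ, hδ] at hN
    rcases Nat.eq_zero_or_pos (Multiset.card r) with h0 | h0
    · rw [Multiset.card_eq_zero.mp h0] at hN; simp at hN
    · omega
  -- counting
  set T := Finset.univ.filter (fun χ : Cfsg.IrrCharacter G => χ ≠ one G ∧ val u χ ≠ 0) with hT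
  have hT3 : (T.filter fun χ => deg χ = 3).card ≤ 2 := by
    by_contra hcon
    obtain ⟨a, b, c, ha, hb, hc, hab, hac, hbc⟩ := Finset.two_lt_card_iff.mp (not_le.mp hcon)
    exact hsmall a b c (Finset.mem_filter.mp ha).2 (Finset.mem_filter.mp hb).2
      (Finset.mem_filter.mp hc).2 hab hac hbc
  obtain ⟨hS1, hS2⟩ := column_equations h hu
  rw [← hT, ← Finset.sum_filter_add_sum_filter_not T (fun χ => deg χ = 3)] at hS1 hS2
  have h3s : ∀ χ ∈ T.filter (fun χ => deg χ = 3), (deg χ : ℤ) * ((deg χ : ℤ) - 4) = -3 :=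
    fun χ hχ => by rw [(Finset.mem_filter.mp hχ).2]; norm_num
  have h3q : ∀ χ ∈ T.filter (fun χ => deg χ = 3), ((deg χ : ℤ) - 4) ^ 2 = 1 :=
    fun χ hχ => by rw [(Finset.mem_filter.mp hχ).2]; norm_num
  rw [Finset.sum_congr rfl h3s, Finset.sum_const, nsmul_eq_mul] at hS1
  rw [Finset.sum_congr rfl h3q, Finset.sum_const, nsmul_eq_mul] at hS2
  have hψT : ψ ∈ T.filter (fun χ => ¬deg χ = 3) := by
    refine Finset.mem_filter.mpr ⟨Finset.mem_filter.mpr ⟨Finset.mem_univ _, hψ1, ?_⟩, by omega⟩
    rw [(deg_val h hu hψ1).2.1 (by rw [hψd]; decide), hψd]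
    norm_num
  have hge5 : ∀ χ ∈ T.filter (fun χ => ¬deg χ = 3), (5 : ℤ) ≤ (deg χ : ℤ) * ((deg χ : ℤ) - 4) := by
    intro χ hχ
    obtain ⟨hχT, h3⟩ := Finset.mem_filter.mp hχ
    obtain ⟨hne, h0⟩ := (Finset.mem_filter.mp hχT).2
    obtain ⟨hg, -, h4⟩ := deg_val h hu hne
    have : 5 ≤ deg χ := by
      by_contra h5
      exact h0 (h4 (by omega))
    nlinarith
  have hone : T.filter (fun χ => ¬deg χ = 3) = {ψ} := by
    refine Finset.eq_singleton_iff_unique_mem.mpr ⟨hψT, fun χ hχ => ?_⟩
    by_contra hne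
    have h1 := Finset.sum_le_sum_of_subset_of_nonneg
      (show ({χ, ψ} : Finset (Cfsg.IrrCharacter G)) ⊆ T.filter (fun χ => ¬deg χ = 3) by
        intro x hx
        rcases Finset.mem_insert.mp hx with rfl | hx
        · exact hχ
        · exact Finset.mem_singleton.mp hx ▸ hψT)
      (f := fun χ => (deg χ : ℤ) * ((deg χ : ℤ) - 4)) (fun i hi _ => le_trans (by norm_num) (hge5 i hi))
    rw [Finset.sum_pair hne] at h1
    have := hge5 χ hχ
    have := hge5 ψ hψT
    omega
  rw [hone, Finset.sum_singleton, hψd] at hS1 hS2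
  norm_num [-Nat.card_eq_fintype_card] at hS1 hS2
  have hc4 : Nat.card (Subgroup.centralizer ({u} : Set G)) = 4 := by
    have : ((T.filter fun χ => deg χ = 3).card : ℤ) = 2 := by linarith
    have h4 : (Nat.card (Subgroup.centralizer ({u} : Set G)) : ℤ) = 4 := by linarith
    exact_mod_cast h4
  refine ⟨hc4, ?_, α, ψ, hαd, hψd, val_three h hu hα1 hαd, dual_eq h hu hαd, hψ1,
    fun g => congrFun hαψ g⟩
  -- the centralizer is a four-group
  have hu2 := sq_eq_one h hu
  have hord : orderOf u = 2 := orderOf_eq_prime (by rw [sq, hu2]) hu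
  have hexp : ∀ y ∈ Subgroup.centralizer ({u} : Set G), y * y = 1 := by
    intro y hy
    by_contra hy2
    have hd : orderOf y ∣ 4 := hc4 ▸ Subgroup.orderOf_dvd_natCard _ hy
    have hy4 : orderOf y = 4 := by
      have hle := Nat.le_of_dvd (by norm_num) hd
      have hne : ¬ orderOf y ∣ 2 := fun h2 => hy2 (by
        rw [← sq]; exact orderOf_dvd_iff_pow_eq_one.mp h2)
      have := orderOf_pos y
      interval_cases hh : orderOf y <;> omega
    have hC : Subgroup.zpowers y = Subgroup.centralizer ({u} : Set G) :=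
      Subgroup.eq_of_le_of_card_ge (Subgroup.zpowers_le.mpr hy) (by rw [Nat.card_zpowers, hy4, hc4])
    have huy : u = y * y := by
      have hmem : u ∈ Subgroup.zpowers y := by
        rw [hC]; exact Subgroup.mem_centralizer_singleton_iff.mpr rfl
      obtain ⟨i, hi, rfl⟩ : ∃ i < 4, y ^ i = u := by
        obtain ⟨i, hi, e⟩ := (mem_zpowers_iff_mem_range_orderOf.mp hmem |> Finset.mem_image.mp)
        exact ⟨i, hy4 ▸ Finset.mem_range.mp hi, e⟩
      interval_cases i
      · exact absurd (pow_zero y) hu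
      · rw [pow_one] at hord; omega
      · exact sq y
      · rw [orderOf_pow, hy4] at hord; norm_num at hord
    have h3y : ∀ ε : Cfsg.IrrCharacter G, deg ε = 3 → (ε : G → ℂ) y = 1 := by
      intro ε hε
      have h1 := sq_three (perfect h) hε y
      rw [← huy, val_three h hu (ne_one_of_three h hu hε) hε, hreal hε y] at h1
      have h2 : ((ε : G → ℂ) y - 1) ^ 2 = 0 := by linear_combination -h1
      exact sub_eq_zero.mp (pow_eq_zero_iff (by norm_num) |>.mp h2)
    have hψy : (ψ : G → ℂ) y = -1 := by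
      have q1 := congrFun hαψ y
      simp only [Pi.add_apply] at q1
      change _ = (1 : ℂ) + _ + _ at q1
      rw [h3y α hαd] at q1
      linear_combination -q1
    have hnc : ¬ IsConj y u := fun hc => by
      obtain ⟨w, hw⟩ := isConj_iff.mp hc
      have := (SemiconjBy.conj_mk w y).orderOf_eq _
      rw [hw, hy4, hord] at this
      omega
    have horth := Char.column_orthogonality y u
    rw [if_neg hnc, ← Finset.add_sum_erase _ _ (Finset.mem_univ (one G))] at horth
    have hTsub : ∑ χ ∈ Finset.univ.erase (one G), (χ : G → ℂ) y * conj ((χ : G → ℂ) u) =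
        ∑ χ ∈ T, (χ : G → ℂ) y * conj ((χ : G → ℂ) u) := by
      refine (Finset.sum_subset (fun χ hχ => Finset.mem_erase.mpr
        ⟨(Finset.mem_filter.mp hχ).2.1, Finset.mem_univ _⟩) fun χ hχ hχT => ?_).symm
      have hne := (Finset.mem_erase.mp hχ).1
      have h0 : val u χ = 0 := by
        by_contra h0
        exact hχT (Finset.mem_filter.mpr ⟨Finset.mem_univ _, hne, h0⟩)
      rw [val_spec h hne, h0]; simp
    rw [hTsub, ← Finset.sum_filter_add_sum_filter_not T (fun χ => deg χ = 3), hone,
      Finset.sum_singleton] at horth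
    have e3 : ∀ χ ∈ T.filter (fun χ => deg χ = 3), (χ : G → ℂ) y * conj ((χ : G → ℂ) u) = -1 := by
      intro χ hχ
      have hd3 := (Finset.mem_filter.mp hχ).2
      rw [h3y χ hd3, hreal hd3 u, val_three h hu (ne_one_of_three h hu hd3) hd3, one_mul]
    have hcard2 : ((T.filter fun χ => deg χ = 3).card : ℂ) = 2 := by
      have : ((T.filter fun χ => deg χ = 3).card : ℤ) = 2 := by linarith
      exact_mod_cast this
    have hψu : (ψ : G → ℂ) u = 1 := by
      rw [val_spec h hψ1, (deg_val h hu hψ1).2.1 (by rw [hψd]; decide), hψd]; norm_num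
    rw [Finset.sum_congr rfl e3, Finset.sum_const, nsmul_eq_mul, hcard2, hψy, hψu, map_one] at horth
    change (1 : ℂ) * conj (1 : ℂ) + _ = 0 at horth
    rw [map_one] at horth
    norm_num at horth
  have hK : IsKleinFour (Subgroup.centralizer ({u} : Set G)) := by
    constructor
    · exact hc4
    · have : Nontrivial (Subgroup.centralizer ({u} : Set G)) :=
        Finite.one_lt_card_iff_nontrivial.mp (by rw [hc4]; norm_num)
      exact (Monoid.exponent_eq_prime_iff Nat.prime_two).mpr fun g hg =>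
        orderOf_eq_prime (by rw [sq]; exact Subtype.ext (hexp g g.2)) hg
  refine InvChar.klein_centralizer_altFive u hord _ le_rfl hK ?_ ?_
  · rw [Subgroup.relIndex_self]; norm_num
  · rw [Subgroup.subgroupOf_self]; infer_instance

end Simple

end CfsgLib.BlockA.DegreeGap
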