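import Cfsg.Agent.Lib.Fusion.DihedralAut
import Cfsg.Agent.Lib.Invol.DihedralFusion

/-!
Subgroups with the multiplication of a dihedral group, given by a rotation; their automorphisms
fixing the central involution.
-/

set_option autoImplicit false
set_option linter.unusedSectionVars false

namespace CfsgLib.BlockA.DihedralDefect

open Subgroup

universe u

variable {G : Type u} [Group G]

/-- `P` is dihedral of order `4 * h` with rotation `r`. -/
structure Rot (P : Subgroup G) (r : G) (h : ℕ) : Prop where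
  two_le : 2 ≤ h
  two_pow : ∃ k : ℕ, h = 2 ^ k
  mem : r ∈ P
  orderOf_eq : orderOf r = 2 * h
  card_eq : Nat.card P = 4 * h
  invert : ∀ w ∈ P, w ∉ zpowers r → w * w = 1 ∧ w * r * w⁻¹ = r⁻¹
  cover : ∀ v ∈ P, ∀ w ∈ P, v ∉ zpowers r → w ∉ zpowers r → v * w⁻¹ ∈ zpowers r

theorem exists_rot {P : Subgroup G} [Finite P] {n : ℕ} (hn : 3 ≤ n) (hP : IsPGroup 2 P)
    (e : P ≃* DihedralGroup (2 ^ (n - 1))) : ∃ r : G, Rot P r (2 ^ (n - 2)) := by
  have h4 : 2 ≤ 2 ^ (n - 1) := le_self_pow₀ one_le_two (by omega)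
  obtain ⟨D⟩ := CfsgLib.Invol.exists_dihData hP h4 e
  have hh : D.h = 2 ^ (n - 2) := by
    have h1 := D.card_eq
    rw [Nat.card_congr e.toEquiv, DihedralGroup.nat_card, show n - 1 = n - 2 + 1 by omega,
      pow_succ] at h1
    omega
  have hmem : ∀ {w : P}, (w : G) ∈ zpowers (D.r : G) ↔ ∃ i : ℤ, w = D.r ^ i := by
    intro w
    rw [mem_zpowers_iff]
    constructor
    · rintro ⟨i, hi⟩
      exact ⟨i, Subtype.ext (by rw [← hi]; push_cast; rfl)⟩
    · rintro ⟨i, rfl⟩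
      exact ⟨i, by push_cast; rfl⟩
  have hrefl : ∀ w : P, (w : G) ∉ zpowers (D.r : G) → ∃ i : ℤ, w = D.r ^ i * D.s := fun w hw =>
    (D.cases w).resolve_left fun h => hw (hmem.2 h)
  refine ⟨D.r, ⟨le_self_pow₀ one_le_two (by omega), ⟨_, rfl⟩, D.r.2, ?_, ?_, ?_, ?_⟩⟩
  · rw [orderOf_coe, D.orderOf_r, hh]
  · rw [D.card_eq, hh]
  · intro w hw hnot
    obtain ⟨i, hi⟩ := hrefl ⟨w, hw⟩ hnot
    have h1 : (⟨w, hw⟩ : P) * ⟨w, hw⟩ = 1 := by
      rw [hi, D.zy_mul_zy, sub_self, zpow_zero]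
    refine ⟨congrArg Subtype.val h1, ?_⟩
    have h2 : (⟨w, hw⟩ : P) * D.r * (⟨w, hw⟩ : P)⁻¹ = D.r⁻¹ := by
      rw [hi]
      calc D.r ^ i * D.s * D.r * (D.r ^ i * D.s)⁻¹
          = D.r ^ i * (D.s * D.r * D.s⁻¹) * (D.r ^ i)⁻¹ := by group
        _ = D.r⁻¹ := by rw [D.conj_r]; group
    exact congrArg Subtype.val h2
  · intro v hv w hw hv' hw'
    obtain ⟨i, hi⟩ := hrefl ⟨v, hv⟩ hv'
    obtain ⟨j, hj⟩ := hrefl ⟨w, hw⟩ hw'
    have : ((⟨v, hv⟩ * (⟨w, hw⟩ : P)⁻¹ : P) : G) ∈ zpowers (D.r : G) :=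
      hmem.2 ⟨i - j, by rw [hi, hj, D.zy_inv, D.zy_mul_zy]⟩
    exact this

namespace Rot

variable {P : Subgroup G} {r : G} {h : ℕ} (hR : Rot P r h)
include hR

theorem h_pos : 0 < h := Nat.lt_of_lt_of_le two_pos hR.two_le

theorem h_even : Even h := by
  obtain ⟨k, hk⟩ := hR.two_pow
  rcases k with _ | k
  · have := hR.two_le; omega
  · exact ⟨2 ^ k, by rw [hk, pow_succ]; ring⟩

theorem zpowers_le : zpowers r ≤ P := Subgroup.zpowers_le.2 hR.mem

theorem pow_eq_one_iff (l : ℕ) : r ^ l = 1 ↔ 2 * h ∣ l := by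
  rw [← orderOf_dvd_iff_pow_eq_one, hR.orderOf_eq]

theorem pow_inj {l m : ℕ} (hl : l < 2 * h) (hm : m < 2 * h) (e : r ^ l = r ^ m) : l = m :=
  pow_injOn_Iio_orderOf (show l < orderOf r by rw [hR.orderOf_eq]; exact hl)
    (show m < orderOf r by rw [hR.orderOf_eq]; exact hm) e

theorem pow_sub {l : ℕ} (hl : l ≤ 2 * h) : r ^ (2 * h - l) = (r ^ l)⁻¹ :=
  (inv_eq_of_mul_eq_one_left (by rw [← pow_add, Nat.sub_add_cancel hl, hR.pow_eq_one_iff])).symm

theorem pow_ne_one {l : ℕ} (h0 : 0 < l) (hl : l < 2 * h) : r ^ l ≠ 1 := fun e => by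
  have := Nat.le_of_dvd h0 ((hR.pow_eq_one_iff l).1 e)
  omega

theorem exists_two_pow (l : ℕ) : ∃ k : ℕ, orderOf (r ^ l) = 2 ^ k := by
  obtain ⟨k, hk⟩ := hR.two_pow
  obtain ⟨i, -, hi⟩ := (Nat.dvd_prime_pow Nat.prime_two).1
    (show orderOf (r ^ l) ∣ 2 ^ (k + 1) by
      rw [pow_succ, mul_comm, ← hk, ← hR.orderOf_eq]
      exact orderOf_pow_dvd l)
  exact ⟨i, hi⟩

theorem z_mem : r ^ h ∈ P := P.pow_mem hR.mem h

theorem z_sq : r ^ h * r ^ h = 1 := by rw [← pow_add, ← two_mul, hR.pow_eq_one_iff]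

theorem z_inv : (r ^ h)⁻¹ = r ^ h := inv_eq_of_mul_eq_one_left hR.z_sq

theorem z_ne_one : r ^ h ≠ 1 := hR.pow_ne_one hR.h_pos (by have := hR.h_pos; omega)

theorem orderOf_z : orderOf (r ^ h) = 2 :=
  orderOf_eq_prime (by rw [pow_two]; exact hR.z_sq) hR.z_ne_one

theorem conj_pow {w : G} (hw : w ∈ P) (hnot : w ∉ zpowers r) (l : ℕ) :
    w * r ^ l * w⁻¹ = (r ^ l)⁻¹ := by
  rw [← _root_.conj_pow, (hR.invert w hw hnot).2, inv_pow]

theorem commute_z {w : G} (hw : w ∈ P) : Commute w (r ^ h) := by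
  by_cases hm : w ∈ zpowers r
  · obtain ⟨i, rfl⟩ := hm
    exact ((Commute.refl r).zpow_left i).pow_right h
  · exact mul_inv_eq_iff_eq_mul.1 ((hR.conj_pow hw hm h).trans hR.z_inv)

theorem mem_of_commute {w : G} (hw : w ∈ P) {l : ℕ} (hl : ¬ h ∣ l) (hc : Commute w (r ^ l)) :
    w ∈ zpowers r := by
  by_contra hnot
  have h1 := hR.conj_pow hw hnot l
  rw [hc.eq, mul_inv_cancel_right, eq_inv_iff_mul_eq_one, ← pow_add, hR.pow_eq_one_iff] at h1
  exact hl ((Nat.mul_dvd_mul_iff_left two_pos).1 (by rwa [← two_mul] at h1))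

theorem exists_reflection : ∃ s ∈ P, s ∉ zpowers r := by
  by_contra hno
  push Not at hno
  have h1 : P = zpowers r := le_antisymm hno hR.zpowers_le
  have h2 := hR.card_eq
  rw [h1, Nat.card_zpowers, hR.orderOf_eq] at h2
  have := hR.h_pos
  omega

theorem eq_z_of_sq {w : G} (hw : w ∈ zpowers r) (h2 : w * w = 1) : w = 1 ∨ w = r ^ h := by
  obtain ⟨i, rfl⟩ := hw
  simp only at h2 ⊢
  rw [← zpow_add, ← orderOf_dvd_iff_zpow_eq_one, hR.orderOf_eq] at h2
  obtain ⟨c, hc⟩ := h2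
  push_cast at hc
  rcases Int.even_or_odd' c with ⟨d, rfl | rfl⟩
  · refine Or.inl ?_
    rw [← orderOf_dvd_iff_zpow_eq_one, hR.orderOf_eq]
    exact ⟨d, by push_cast; linarith⟩
  · refine Or.inr ?_
    rw [← zpow_natCast r h, ← inv_mul_eq_one, ← zpow_neg, ← zpow_add,
      ← orderOf_dvd_iff_zpow_eq_one, hR.orderOf_eq]
    exact ⟨-d, by push_cast; linarith⟩

/-- The same data inside a subgroup containing `P`. -/
theorem subgroupOf {H : Subgroup G} (hle : P ≤ H) :
    Rot (P.subgroupOf H) (⟨r, hle hR.mem⟩ : H) h := by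
  have hmem : ∀ w : H, w ∈ zpowers (⟨r, hle hR.mem⟩ : H) ↔ (w : G) ∈ zpowers r := fun w => by
    simp only [mem_zpowers_iff, Subtype.ext_iff]
    push_cast
    rfl
  refine ⟨hR.two_le, hR.two_pow, hR.mem, ?_, ?_, fun w hw hnot => ?_, fun v hv w hw hv' hw' => ?_⟩
  · rw [Subgroup.orderOf_mk, hR.orderOf_eq]
  · rw [Nat.card_congr (subgroupOfEquivOfLe hle).toEquiv, hR.card_eq]
  · obtain ⟨h1, h2⟩ := hR.invert w hw (fun e => hnot ((hmem w).2 e))
    exact ⟨Subtype.ext h1, Subtype.ext h2⟩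
  · exact (hmem _).2 (hR.cover v hv w hw (fun e => hv' ((hmem v).2 e))
      fun e => hw' ((hmem w).2 e))

theorem natCard_centralizer (l : ℕ) :
    Nat.card (Subgroup.centralizer ({(⟨r ^ l, P.pow_mem hR.mem l⟩ : P)} : Set P)) =
      if h ∣ l then 4 * h else 2 * h := by
  split_ifs with hd
  · rw [← hR.card_eq, show Subgroup.centralizer ({(⟨r ^ l, P.pow_mem hR.mem l⟩ : P)} : Set P) = ⊤
      from ?_, card_top]
    refine eq_top_iff.2 fun w _ => mem_centralizer_singleton_iff.2 (Subtype.ext ?_)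
    obtain ⟨c, rfl⟩ := hd
    push_cast
    rw [pow_mul]
    exact ((hR.commute_z w.2).pow_right c).eq
  · rw [show Subgroup.centralizer ({(⟨r ^ l, P.pow_mem hR.mem l⟩ : P)} : Set P) =
      (zpowers r).subgroupOf P from ?_, Nat.card_congr (subgroupOfEquivOfLe hR.zpowers_le).toEquiv,
      Nat.card_zpowers, hR.orderOf_eq]
    ext w
    rw [mem_centralizer_singleton_iff, mem_subgroupOf, Subtype.ext_iff]
    push_cast
    constructor
    · intro e
      exact hR.mem_of_commute w.2 hd e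
    · rintro ⟨i, hi⟩
      rw [← hi]
      exact ((Commute.refl r).zpow_left i).pow_right l

end Rot

/-- An automorphism of odd order of a group with a cyclic subgroup of index two which it
stabilises is the identity. -/
theorem eq_one_of_odd {Q : Type*} [Group Q] [Finite Q] {g x : Q} {m : ℕ}
    (hg : orderOf g = 2 ^ m)
    (hcover : ∀ y : Q, y ∈ zpowers g ∨ y * x⁻¹ ∈ zpowers g) (hx : x ∉ zpowers g)
    {α : MulAut Q} (hgen : α g ∈ zpowers g) (hα : Odd (orderOf α)) : α = 1 := by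
  classical
  obtain ⟨k, hk⟩ := mem_powers_iff_mem_zpowers.2 hgen
  have hk' : g ^ k = α g := hk
  have hit : ∀ n, (α ^ n) g = g ^ (k ^ n) := by
    intro n
    induction n with
    | zero => simp
    | succ n ih => rw [pow_succ', MulAut.mul_apply, ih, map_pow, ← hk', ← pow_mul, pow_succ']
  have hfix : α g = g := by
    rcases Nat.eq_zero_or_pos m with rfl | hm
    · rw [orderOf_eq_one_iff.1 (hg.trans (pow_zero 2)), map_one]
    have hcop : k.Coprime (2 ^ m) := by
      have h1 : orderOf (g ^ k) = 2 ^ m := by rw [hk', MulEquiv.orderOf_eq, hg]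
      refine Nat.Coprime.pow_right m ((Nat.prime_two.coprime_iff_not_dvd.2 fun h2 => ?_).symm)
      rw [orderOf_pow, hg] at h1
      have h3 : 2 ∣ Nat.gcd (2 ^ m) k := Nat.dvd_gcd (dvd_pow_self 2 hm.ne') h2
      exact absurd h1 (Nat.div_lt_self (pow_pos two_pos m)
        (Nat.le_of_dvd (Nat.gcd_pos_of_pos_left _ (pow_pos two_pos m)) h3)).ne
    have h1 : (α ^ Nat.totient (2 ^ m)) g = g := by
      rw [hit, ← pow_mod_orderOf, hg, Nat.ModEq.pow_totient hcop, ← hg, pow_mod_orderOf, pow_one]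
    have hstab : α ∈ MulAction.stabilizer (MulAut Q) g := by
      have h2 : α ^ Nat.totient (2 ^ m) ∈ MulAction.stabilizer (MulAut Q) g := h1
      have hc : (orderOf α).Coprime (Nat.totient (2 ^ m)) := by
        rw [Nat.totient_prime_pow Nat.prime_two hm]
        simpa using (Nat.coprime_two_right.2 hα).pow_right (m - 1)
      obtain ⟨i, hi⟩ := exists_pow_eq_self_of_coprime hc.symm
      rw [← hi]
      exact Subgroup.pow_mem _ h2 i
    exact hstab
  have hxα : α x * x⁻¹ ∈ zpowers g := (hcover (α x)).resolve_left fun h => by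
    obtain ⟨j, hj⟩ := h
    refine hx ⟨j, α.injective ?_⟩
    rw [map_zpow, hfix]
    exact hj
  obtain ⟨j, hj⟩ := mem_powers_iff_mem_zpowers.2 hxα
  have hj' : g ^ j = α x * x⁻¹ := hj
  have hit2 : ∀ n, (α ^ n) x = g ^ (n * j) * x := by
    intro n
    induction n with
    | zero => simp
    | succ n ih =>
      rw [pow_succ', MulAut.mul_apply, ih, map_mul, map_pow, hfix,
        show α x = g ^ j * x by rw [hj', inv_mul_cancel_right], ← mul_assoc, ← pow_add]
      congr 2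
      ring
  have hgj : g ^ j = 1 := by
    have h := hit2 (orderOf α)
    rw [pow_orderOf_eq_one, MulAut.one_apply, eq_comm, mul_eq_right,
      ← orderOf_dvd_iff_pow_eq_one, hg] at h
    rw [← orderOf_dvd_iff_pow_eq_one, hg]
    exact ((Nat.coprime_two_left.2 hα).pow_left m).dvd_of_dvd_mul_left h
  have hxfix : α x = x := by
    rw [hgj, eq_comm, mul_inv_eq_one] at hj'
    exact hj'
  refine MulEquiv.ext fun y => ?_
  rcases hcover y with ⟨i, hi⟩ | ⟨i, hi⟩
  · rw [MulAut.one_apply, ← hi, map_zpow, hfix]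
  · have h1 : y = g ^ i * x := by
      rw [show g ^ i = y * x⁻¹ from hi, inv_mul_cancel_right]
    rw [MulAut.one_apply, h1, map_mul, map_zpow, hfix, hxfix]

/-- **An automorphism of a subgroup fixing the central involution has `2`-power order.** -/
theorem exists_pow_eq_one [Finite G] {P : Subgroup G} {r : G} {h : ℕ} (hR : Rot P r h)
    {Q : Subgroup G} (hQ : Q ≤ P) (α : MulAut Q)
    (hfix : ∀ q : Q, (q : G) = r ^ h → α q = q) : ∃ k : ℕ, α ^ 2 ^ k = 1 := by
  classical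
  obtain ⟨kh, hkh⟩ := hR.two_pow
  by_cases hcyc : Q ≤ zpowers r
  · have : IsCyclic Q := isCyclic_of_injective (Subgroup.inclusion hcyc)
      (Subgroup.inclusion_injective hcyc)
    have hdvd : Nat.card Q ∣ 2 ^ (kh + 1) := by
      rw [pow_succ, mul_comm, ← hkh, ← hR.orderOf_eq, ← Nat.card_zpowers]
      exact Subgroup.card_dvd_of_le hcyc
    obtain ⟨i, -, hi⟩ := (Nat.dvd_prime_pow Nat.prime_two).1 hdvd
    rcases i with _ | i
    · have : Subsingleton Q := (Nat.card_eq_one_iff_unique.1 (hi.trans (pow_zero 2))).1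
      exact ⟨0, MulEquiv.ext fun q => Subsingleton.elim _ _⟩
    · refine ⟨i, ?_⟩
      have h1 : Nat.card (MulAut Q) = 2 ^ i := by
        rw [IsCyclic.card_mulAut, hi, Nat.totient_prime_pow_succ Nat.prime_two]
        simp
      rw [← h1, pow_card_eq_one']
  · obtain ⟨x, hxQ, hxr⟩ := SetLike.not_le_iff_exists.1 hcyc
    have : IsCyclic ↥(Q ⊓ zpowers r) := isCyclic_of_injective
      (Subgroup.inclusion (inf_le_right : Q ⊓ zpowers r ≤ zpowers r))
      (Subgroup.inclusion_injective _)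
    obtain ⟨g₀, hg₀⟩ := IsCyclic.exists_generator (α := ↥(Q ⊓ zpowers r))
    let g : Q := ⟨g₀, g₀.2.1⟩
    have hgmem : ∀ y : Q, y ∈ zpowers g ↔ (y : G) ∈ zpowers r := by
      intro y
      constructor
      · rintro ⟨i, rfl⟩
        push_cast
        exact Subgroup.zpow_mem (zpowers r) g₀.2.2 i
      · intro hy
        obtain ⟨i, hi⟩ := hg₀ ⟨y, y.2, hy⟩
        refine ⟨i, Subtype.ext ?_⟩
        have := congrArg Subtype.val hi
        push_cast at this ⊢
        exact this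
    obtain ⟨m, hm⟩ : ∃ m, orderOf g = 2 ^ m := by
      obtain ⟨i, -, hi⟩ := (Nat.dvd_prime_pow Nat.prime_two).1
        (show orderOf g ∣ 2 ^ (kh + 1) by
          rw [pow_succ, mul_comm, ← hkh, ← hR.orderOf_eq, ← orderOf_coe, ← Nat.card_zpowers,
            ← Nat.card_zpowers]
          exact Subgroup.card_dvd_of_le (Subgroup.zpowers_le.2 g₀.2.2))
      exact ⟨i, hi⟩
    have hstab : ∀ n : ℕ, (α ^ n) g ∈ zpowers g := by
      intro n
      rw [hgmem]
      by_contra hnot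
      have h1 := (hR.invert _ (hQ ((α ^ n) g).2) hnot).1
      have h2 : g * g = 1 := (α ^ n).injective (by rw [map_mul, map_one]; exact Subtype.ext h1)
      rcases hR.eq_z_of_sq g₀.2.2 (congrArg Subtype.val h2) with e | e
      · refine hnot ?_
        rw [show g = 1 from Subtype.ext e, map_one]
        exact one_mem _
      · have hn : (α ^ n) g = g := by
          clear hnot h1
          induction n with
          | zero => simp
          | succ n ih => rw [pow_succ', MulAut.mul_apply, ih, hfix g e]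
        exact hnot (by rw [hn]; exact g₀.2.2)
    obtain ⟨k, o, ho, hk⟩ := Nat.exists_eq_two_pow_mul_odd (orderOf_pos α).ne'
    refine ⟨k, eq_one_of_odd hm (x := ⟨x, hxQ⟩) (fun y => ?_) ?_ (hstab _) ?_⟩
    · by_cases hy : (y : G) ∈ zpowers r
      · exact Or.inl ((hgmem y).2 hy)
      · exact Or.inr ((hgmem _).2 (hR.cover y (hQ y.2) x (hQ hxQ) hy hxr))
    · exact fun e => hxr ((hgmem _).1 e)
    · rw [orderOf_pow_of_dvd (pow_ne_zero _ two_ne_zero) (hk ▸ dvd_mul_right _ _), hk,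
        Nat.mul_div_cancel_left _ (pow_pos two_pos k)]
      exact ho

end CfsgLib.BlockA.DihedralDefect
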