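import Cfsg.Agent.Lib.BlockA.CentralizerBlock
import Cfsg.Agent.Lib.BlockA.DihedralRot
import Cfsg.Agent.Lib.BlockB.HeightBound

/-!
A block with dihedral defect group: the block below the maximal pair at the central involution is
nilpotent.
-/

set_option autoImplicit false
set_option linter.unusedSectionVars false
set_option maxHeartbeats 1000000

namespace CfsgLib.BlockA.DihedralDefect

open Cfsg CfsgLib.Block CfsgLib.BlockA CfsgLib.BlockB CfsgLib.BlockB.HeightBound MonoidAlgebra
  CfsgLib.Fusion

universe u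

variable {G : Type u} [Group G] [Finite G] {p : ℕ} {M : Ideal AlgInt} [M.IsPrime]

local notation "cen" Q => Subgroup.centralizer ((Q : Subgroup G) : Set G)

/-- The block of the centralizer of a subgroup centralized by the whole defect group. -/
theorem exists_central_data (hM : IsPModular p M) {B : Set (IrrCharacter G)} {P : Subgroup G}
    {c : Set (IrrCharacter (Subgroup.centralizer (P : Set G)))}
    (hmax : IsMaximalBrauerPair p M B P c) (hPD : IsDefectGroup p M B P)
    {Q : Subgroup G} (hQ : Q ≤ P) (hDH : P ≤ cen Q)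
    {H : Subgroup G} (hH : H = cen Q) :
    ∃ (g : Set (IrrCharacter H)) (h : CenEq (P.subgroupOf H) P),
      IsInducedBlock M H g B ∧
      IsMaximalBrauerPair p M g (P.subgroupOf H) (subBlock h c) := by
  classical
  have := Fact.mk hM.1
  subst hH
  have := Fintype.ofFinite G
  have := Fintype.ofFinite (cen Q)
  obtain ⟨g, hg, hgle⟩ := exists_subpair hM hmax.1.1 _ Q hQ rfl
  obtain ⟨h₁, h₂, hle⟩ := subpairLE_subBlock hM hgle hDH le_rfl
  have hD' : IsBrauerPair p M (P.subgroupOf (cen Q)) (subBlock h₂ c) :=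
    isBrauerPair_subBlock h₂ hmax.1.1
  have hQpair : IsBrauerPair p M (Q.subgroupOf (cen Q)) (subBlock h₁ g) :=
    isBrauerPair_of_subpairLE hD' hle
  have hBQ : IsBrauerPairOf p M g (Q.subgroupOf (cen Q)) (subBlock h₁ g) := by
    obtain ⟨ξ, hξ⟩ := isPBlock_nonempty hg
    rw [isBrauerPairOf_iff hM hQpair hg
      (show irrMap (cenIso h₁) ξ ∈ subBlock h₁ g from ⟨ξ, hξ, rfl⟩)]
    have hcoef : ∀ t : (cen Q), (t : G) ∈ (cen Q) →
        (blkIdem M g : MonoidAlgebra (kres M) (cen Q)).coeff t =
          (sIdem M (cen Q) g).coeff (t : G) := by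
      intro t _
      rw [sIdem, coeff_inclSub_of_mem]
    rw [(pairVal_subBlock h₁ ξ (isCInv_sIdem hM le_rfl g) hcoef).2,
      pairVal_sIdem hM hg, if_pos hξ]
  have hBD := (isBrauerPairOf_iff_of_le hM hD' hle hg).2 hBQ
  have hQB : IsInducedBlock M (cen Q) g B :=
    isInducedBlock_of_isBrauerPairOf hM
      ((isBrauerPairOf_iff_of_le hM hmax.1.1 hgle hmax.1.2.1).1 hmax.1)
  obtain ⟨D, hD⟩ := exists_isDefectGroup (p := p) hM hg
  obtain ⟨E, hE, hDE⟩ := exists_map_subtype_le_defect hM hQB hD
  have hcard : Nat.card D ≤ Nat.card (P.subgroupOf (cen Q)) := by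
    obtain ⟨x, hx⟩ := defectGroup_exists_conj hM hmax.1.2.1 hPD hE
    rw [Nat.card_congr (Subgroup.subgroupOfEquivOfLe hDH).toEquiv,
      ← Subgroup.card_map_of_injective (Subgroup.subtype_injective (cen Q))]
    refine (Subgroup.card_le_of_le hDE).trans ?_
    rw [hx, natCard_map_conj]
  exact ⟨g, h₂, hQB, isMaximal_of_card hM hBD hD hcard⟩

variable {P : Subgroup G} {r : G} {h : ℕ}

theorem le_centralizer_z (hR : Rot P r h) : P ≤ Subgroup.centralizer ({r ^ h} : Set G) :=
  fun _ hw => Subgroup.mem_centralizer_singleton_iff.2 (hR.commute_z hw).eq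

/-- **The block at the central involution is nilpotent.** -/
theorem exists_nilpotent_central (hM : IsPModular 2 M) {B : Set (IrrCharacter G)}
    {c : Set (IrrCharacter (Subgroup.centralizer (P : Set G)))}
    (hmax : IsMaximalBrauerPair 2 M B P c) (hPD : IsDefectGroup 2 M B P) (hR : Rot P r h) :
    ∃ (g : Set (IrrCharacter (Subgroup.centralizer ({r ^ h} : Set G))))
      (hc : CenEq (P.subgroupOf (Subgroup.centralizer ({r ^ h} : Set G))) P),
      IsInducedBlock M (Subgroup.centralizer ({r ^ h} : Set G)) g B ∧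
      IsMaximalBrauerPair 2 M g (P.subgroupOf (Subgroup.centralizer ({r ^ h} : Set G)))
        (subBlock hc c) ∧
      IsNilpotentBlock 2 M g := by
  have := Fact.mk hM.1
  have := Fintype.ofFinite G
  set H := Subgroup.centralizer ({r ^ h} : Set G) with hH
  obtain ⟨g, hc, hind, hmax'⟩ := exists_central_data hM hmax hPD
    (Subgroup.zpowers_le.2 hR.z_mem) (by rw [cen_zpowers]; exact le_centralizer_z hR)
    (H := H) (cen_zpowers (r ^ h)).symm
  have hF := isBlockFusionSystemOn_blockFusion hM hmax'
  have hR' := hR.subgroupOf (le_centralizer_z hR)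
  have hin := eq_inner_of_pGroup hF.1.1.1.1 (isSaturated_block hM hF) (fun Q hQ => by
    rintro ⟨α, hα⟩
    have hQle : Q ≤ P.subgroupOf H := hQ.elim le_of_eq fun e => e.2.1.1
    obtain ⟨-, t, ht, -⟩ := (isMap_iff hM hF).1 (isMap_of_autGroup hQle hα)
    obtain ⟨k, hk⟩ := exists_pow_eq_one hR' hQle α (fun q hq => Subtype.ext (by
      rw [← toFun_aut_apply α q.2, ht q q.2]
      have h1 : ((t : G)) * ((q : H) : G) = ((q : H) : G) * (t : G) := by
        rw [hq]
        push_cast
        exact Subgroup.mem_centralizer_singleton_iff.1 t.2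
      exact Subtype.ext (by
        push_cast
        rw [h1, mul_inv_cancel_right])))
    exact ⟨k, Subtype.ext (by rw [SubmonoidClass.coe_pow]; exact hk)⟩)
  exact ⟨g, hc, hind, hmax', nilpotent_of_inner hM hF fun Q => by rw [hin]⟩

end CfsgLib.BlockA.DihedralDefect
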