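import Cfsg.Agent.Lib.BlockA.DihedralStar

/-!
The integer vectors belonging to a block with dihedral defect group: either a sunflower with a
core of two and two further elements, or one of two exceptional configurations of five elements.
-/

set_option autoImplicit false
set_option linter.unusedSectionVars false

namespace CfsgLib.BlockA.DihedralDefect

open CfsgLib.BlockA.DihedralBlock

variable {ι : Type*} [DecidableEq ι]

/-- The sunflower. -/
def IsSunflower (S : Finset ι) (h : ℕ) (s : ℕ → Finset ι) : Prop :=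
  ∃ (p q a b : ι) (l : ℕ → ι),
    p ≠ q ∧ p ≠ a ∧ p ≠ b ∧ q ≠ a ∧ q ≠ b ∧ a ≠ b ∧
    (∀ j ∈ Finset.Ico 1 h, l j ≠ p ∧ l j ≠ q ∧ l j ≠ a ∧ l j ≠ b) ∧
    Set.InjOn l (Finset.Ico 1 h : Set ℕ) ∧
    (∀ j ∈ Finset.Ico 1 h, s j = {p, q, l j}) ∧ s h = {p, q, a, b} ∧
    S = {p, q, a, b} ∪ (Finset.Ico 1 h).image l

/-- The two exceptional configurations. -/
def IsExceptional (S : Finset ι) (h : ℕ) (s : ℕ → Finset ι) : Prop :=
  h = 4 ∧ ∃ a₁ a₂ a₃ d e : ι,
    a₁ ≠ a₂ ∧ a₁ ≠ a₃ ∧ a₁ ≠ d ∧ a₁ ≠ e ∧ a₂ ≠ a₃ ∧ a₂ ≠ d ∧ a₂ ≠ e ∧ a₃ ≠ d ∧ a₃ ≠ e ∧ d ≠ e ∧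
    S = {a₁, a₂, a₃, d, e} ∧
    ((s 1 = {a₂, a₃, d} ∧ s 2 = {a₁, a₃, d} ∧ s 3 = {a₁, a₂, d} ∧ s 4 = {a₁, a₂, a₃, e}) ∨
      (s 1 = {a₁, d, e} ∧ s 2 = {a₂, d, e} ∧ s 3 = {a₃, d, e} ∧ s 4 = {a₁, a₂, a₃, e}))

theorem eq_of_inter_two {s t : Finset ι} (hs : s.card = 3) (ht : t.card = 3)
    (hst : (s ∩ t).card = 2) : s ≠ t := fun e => by
  subst e
  rw [Finset.inter_self, hs] at hst
  omega

theorem third_of_pair {s : Finset ι} (hs : s.card = 3) {p q : ι} (hpq : p ≠ q) (hp : p ∈ s)
    (hq : q ∈ s) : ∃ x, x ≠ p ∧ x ≠ q ∧ s = {p, q, x} := by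
  have hsub : ({p, q} : Finset ι) ⊆ s := by
    simp [Finset.insert_subset_iff, hp, hq]
  have hc : (s \ {p, q}).card = 1 := by
    rw [Finset.card_sdiff_of_subset hsub, hs, Finset.card_pair hpq]
  obtain ⟨x, hx⟩ := Finset.card_eq_one.1 hc
  have hxm : x ∈ s \ {p, q} := hx ▸ Finset.mem_singleton_self x
  simp only [Finset.mem_sdiff, Finset.mem_insert, Finset.mem_singleton, not_or] at hxm
  refine ⟨x, hxm.2.1, hxm.2.2, ?_⟩
  rw [← Finset.union_sdiff_of_subset hsub, hx]
  ext i
  simp only [Finset.mem_union, Finset.mem_insert, Finset.mem_singleton]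
  tauto

theorem mem_pair_of_inter {s : Finset ι} {p q x : ι}
    (h : (s ∩ {p, q, x}).card = 2) (hp : p ∉ s) : q ∈ s ∧ x ∈ s := by
  have hsub : s ∩ {p, q, x} ⊆ {q, x} := fun i hi => by
    simp only [Finset.mem_inter, Finset.mem_insert, Finset.mem_singleton] at hi ⊢
    rcases hi.2 with rfl | e
    · exact absurd hi.1 hp
    · exact e
  have he := Finset.eq_of_subset_of_card_le hsub (h ▸ Finset.card_le_two)
  constructor
  · exact (Finset.mem_inter.1 (show q ∈ s ∩ {p, q, x} by rw [he]; simp)).1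
  · exact (Finset.mem_inter.1 (show x ∈ s ∩ {p, q, x} by rw [he]; simp)).1

theorem third_not_mem {s : Finset ι} {p q x : ι} (hpq : p ≠ q) (hxp : x ≠ p) (hxq : x ≠ q)
    (h : (s ∩ {p, q, x}).card = 2) (hp : p ∈ s) (hq : q ∈ s) : x ∉ s := fun hx => by
  rw [Finset.inter_eq_right.2 (by simp [Finset.insert_subset_iff, hp, hq, hx]),
    Finset.card_insert_of_notMem (by simp [hpq, hxp.symm]), Finset.card_pair hxq.symm] at h
  omega

/-- **The configurations of sets.** -/
theorem exists_cores (S : Finset ι) {h : ℕ} (hh : 2 ≤ h) (hh3 : h ≠ 3) (s : ℕ → Finset ι)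
    (hs3 : ∀ j ∈ Finset.Ico 1 h, (s j).card = 3) (hs4 : (s h).card = 4)
    (hint : ∀ j ∈ Finset.Icc 1 h, ∀ k ∈ Finset.Icc 1 h, j ≠ k → (s j ∩ s k).card = 2)
    (hS : ∀ i, i ∈ S ↔ ∃ j ∈ Finset.Icc 1 h, i ∈ s j) :
    IsSunflower S h s ∨ IsExceptional S h s := by
  have hIc : ∀ {j}, j ∈ Finset.Ico 1 h → j ∈ Finset.Icc 1 h := fun hj =>
    Finset.Ico_subset_Icc_self hj
  have hhm : h ∈ Finset.Icc 1 h := Finset.mem_Icc.2 ⟨by omega, le_rfl⟩
  have hlt : ∀ {j}, j ∈ Finset.Ico 1 h → j ≠ h := fun hj => (Finset.mem_Ico.1 hj).2.ne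
  have h1 : 1 ∈ Finset.Ico 1 h := Finset.mem_Ico.2 ⟨le_rfl, by omega⟩
  have hjh : ∀ j ∈ Finset.Ico 1 h, (s h ∩ s j).card = 2 := fun j hj =>
    hint h hhm j (hIc hj) (hlt hj).symm
  -- the sunflower once the core is known
  have sun : ∀ p q : ι, p ≠ q → (∀ j ∈ Finset.Ico 1 h, p ∈ s j ∧ q ∈ s j) →
      ∃ l : ℕ → ι, (∀ j ∈ Finset.Ico 1 h, l j ≠ p ∧ l j ≠ q ∧ s j = {p, q, l j}) ∧
        Set.InjOn l (Finset.Ico 1 h : Set ℕ) := by
    intro p q hpq hmem
    have hex : ∀ j, ∃ x, j ∈ Finset.Ico 1 h → x ≠ p ∧ x ≠ q ∧ s j = {p, q, x} := fun j => by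
      by_cases hj : j ∈ Finset.Ico 1 h
      · obtain ⟨x, hx⟩ := third_of_pair (hs3 j hj) hpq (hmem j hj).1 (hmem j hj).2
        exact ⟨x, fun _ => hx⟩
      · exact ⟨p, fun e => absurd e hj⟩
    choose l hl using hex
    refine ⟨l, hl, fun j hj k hk e => ?_⟩
    by_contra hne
    exact eq_of_inter_two (hs3 j hj) (hs3 k hk) (hint j (hIc hj) k (hIc hk) hne)
      (by rw [(hl j hj).2.2, (hl k hk).2.2, e])
  -- the sunflower with the core inside the last set
  have good : ∀ p q : ι, p ≠ q → (∀ j ∈ Finset.Ico 1 h, p ∈ s j ∧ q ∈ s j) → p ∈ s h → q ∈ s h →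
      IsSunflower S h s := by
    intro p q hpq hmem hp hq
    obtain ⟨l, hl, hinj⟩ := sun p q hpq hmem
    have hsub : ({p, q} : Finset ι) ⊆ s h := by simp [Finset.insert_subset_iff, hp, hq]
    obtain ⟨a, b, hab, he⟩ := Finset.card_eq_two.1 (show (s h \ {p, q}).card = 2 by
      rw [Finset.card_sdiff_of_subset hsub, hs4, Finset.card_pair hpq])
    have ha : a ∈ s h \ {p, q} := he ▸ Finset.mem_insert_self a {b}
    have hb : b ∈ s h \ {p, q} := he ▸ Finset.mem_insert_of_mem (Finset.mem_singleton_self b)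
    simp only [Finset.mem_sdiff, Finset.mem_insert, Finset.mem_singleton, not_or] at ha hb
    have hh' : s h = {p, q, a, b} := by
      rw [← Finset.union_sdiff_of_subset hsub, he]
      ext i
      simp only [Finset.mem_union, Finset.mem_insert, Finset.mem_singleton]
      tauto
    have hout : ∀ j ∈ Finset.Ico 1 h, l j ∉ s h := fun j hj => by
      have := hjh j hj
      rw [(hl j hj).2.2] at this
      exact third_not_mem hpq (hl j hj).1 (hl j hj).2.1 this hp hq
    refine ⟨p, q, a, b, l, hpq, Ne.symm ha.2.1, Ne.symm hb.2.1, Ne.symm ha.2.2, Ne.symm hb.2.2, hab,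
      fun j hj => ⟨(hl j hj).1, (hl j hj).2.1, fun e => hout j hj (e ▸ ha.1),
        fun e => hout j hj (e ▸ hb.1)⟩, hinj, fun j hj => (hl j hj).2.2, hh', ?_⟩
    ext i
    rw [hS]
    simp only [Finset.mem_union, Finset.mem_image]
    constructor
    · rintro ⟨j, hj, hi⟩
      obtain ⟨hj1, hj2⟩ := Finset.mem_Icc.1 hj
      rcases hj2.eq_or_lt with rfl | hj2
      · exact Or.inl (hh' ▸ hi)
      · have hj' := Finset.mem_Ico.2 ⟨hj1, hj2⟩
        rw [(hl j hj').2.2] at hi
        simp only [Finset.mem_insert, Finset.mem_singleton] at hi ⊢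
        rcases hi with e | e | e
        · exact Or.inl (Or.inl e)
        · exact Or.inl (Or.inr (Or.inl e))
        · exact Or.inr ⟨j, hj', e.symm⟩
    · rintro (hi | ⟨j, hj, rfl⟩)
      · exact ⟨h, hhm, hh'.symm ▸ hi⟩
      · exact ⟨j, hIc hj, (hl j hj).2.2 ▸ by simp⟩
  have hS5 : ∀ (i : ι), h = 4 → (i ∈ S ↔ i ∈ s 1 ∨ i ∈ s 2 ∨ i ∈ s 3 ∨ i ∈ s 4) := fun i e => by
    subst e
    rw [hS]
    constructor
    · rintro ⟨j, hj, hi⟩
      obtain ⟨hj1, hj2⟩ := Finset.mem_Icc.1 hj
      interval_cases j <;> tauto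
    · rintro (hi | hi | hi | hi) <;> exact ⟨_, Finset.mem_Icc.2 ⟨by omega, by omega⟩, hi⟩
  -- the core missing from the last set
  have bad : ∀ p q : ι, p ≠ q → (∀ j ∈ Finset.Ico 1 h, p ∈ s j ∧ q ∈ s j) → 4 ≤ h → p ∉ s h →
      IsExceptional S h s := by
    intro p q hpq hmem h4 hp
    obtain ⟨l, hl, hinj⟩ := sun p q hpq hmem
    have hql : ∀ j ∈ Finset.Ico 1 h, q ∈ s h ∧ l j ∈ s h := fun j hj => by
      have := hjh j hj
      rw [(hl j hj).2.2] at this
      exact mem_pair_of_inter this hp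
    have hsub : insert q ((Finset.Ico 1 h).image l) ⊆ s h := by
      refine Finset.insert_subset (hql 1 h1).1 fun i hi => ?_
      obtain ⟨j, hj, rfl⟩ := Finset.mem_image.1 hi
      exact (hql j hj).2
    have hc : (insert q ((Finset.Ico 1 h).image l)).card = h := by
      rw [Finset.card_insert_of_notMem (fun hq => by
        obtain ⟨j, hj, e⟩ := Finset.mem_image.1 hq
        exact (hl j hj).2.1 e), Finset.card_image_of_injOn hinj, Nat.card_Ico]
      omega
    have hle := Finset.card_le_card hsub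
    obtain rfl : h = 4 := by omega
    have he := Finset.eq_of_subset_of_card_le hsub (by omega)
    have hI : Finset.Ico 1 4 = ({1, 2, 3} : Finset ℕ) := by decide
    have m1 : 1 ∈ Finset.Ico 1 4 := by simp
    have m2 : 2 ∈ Finset.Ico 1 4 := by simp
    have m3 : 3 ∈ Finset.Ico 1 4 := by simp
    have n12 : l 1 ≠ l 2 := fun e => absurd (hinj m1 m2 e) (by norm_num)
    have n13 : l 1 ≠ l 3 := fun e => absurd (hinj m1 m3 e) (by norm_num)
    have n23 : l 2 ≠ l 3 := fun e => absurd (hinj m2 m3 e) (by norm_num)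
    have e4 : s 4 = {l 1, l 2, l 3, q} := by
      rw [← he, hI]
      ext i
      simp only [Finset.mem_insert, Finset.mem_singleton, Finset.mem_image, exists_eq_or_imp,
        exists_eq_left]
      tauto
    refine ⟨rfl, l 1, l 2, l 3, p, q, n12, n13, (hl 1 m1).1, (hl 1 m1).2.1, n23, (hl 2 m2).1,
      (hl 2 m2).2.1, (hl 3 m3).1, (hl 3 m3).2.1, hpq, ?_, Or.inr ⟨?_, ?_, ?_, e4⟩⟩
    · ext i
      rw [hS5 i rfl, (hl 1 m1).2.2, (hl 2 m2).2.2, (hl 3 m3).2.2, e4]
      simp only [Finset.mem_insert, Finset.mem_singleton]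
      tauto
    all_goals
      first | rw [(hl 1 m1).2.2] | rw [(hl 2 m2).2.2] | rw [(hl 3 m3).2.2]
    all_goals
      ext i
      simp only [Finset.mem_insert, Finset.mem_singleton]
      tauto
  rcases eq_or_ne h 2 with rfl | h2
  · obtain ⟨p, q, hpq, he⟩ := Finset.card_eq_two.1 (hjh 1 h1)
    have hp : p ∈ s 2 ∩ s 1 := he ▸ Finset.mem_insert_self p {q}
    have hq : q ∈ s 2 ∩ s 1 := he ▸ Finset.mem_insert_of_mem (Finset.mem_singleton_self q)
    rw [Finset.mem_inter] at hp hq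
    refine Or.inl (good p q hpq (fun j hj => ?_) hp.1 hq.1)
    have := Finset.mem_Ico.1 hj
    obtain rfl : j = 1 := by omega
    exact ⟨hp.2, hq.2⟩
  have h4 : 4 ≤ h := by omega
  have m2 : 2 ∈ Finset.Ico 1 h := Finset.mem_Ico.2 ⟨by omega, by omega⟩
  obtain ⟨p, q, hpq, he⟩ := Finset.card_eq_two.1 (hint 1 (hIc h1) 2 (hIc m2) (by norm_num))
  have hp : p ∈ s 1 ∧ p ∈ s 2 := Finset.mem_inter.1 (he ▸ Finset.mem_insert_self p {q})
  have hq : q ∈ s 1 ∧ q ∈ s 2 :=
    Finset.mem_inter.1 (he ▸ Finset.mem_insert_of_mem (Finset.mem_singleton_self q))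
  by_cases hall : ∀ j ∈ Finset.Ico 1 h, p ∈ s j ∧ q ∈ s j
  · by_cases hph : p ∈ s h
    · by_cases hqh : q ∈ s h
      · exact Or.inl (good p q hpq hall hph hqh)
      · exact Or.inr (bad q p hpq.symm (fun j hj => (hall j hj).symm) h4 hqh)
    · exact Or.inr (bad p q hpq hall h4 hph)
  -- the triples inside four elements
  push Not at hall
  obtain ⟨k, hk, hk'⟩ := hall
  obtain ⟨x, hxp, hxq, e1⟩ := third_of_pair (hs3 1 h1) hpq hp.1 hq.1
  obtain ⟨y, hyp, hyq, e2⟩ := third_of_pair (hs3 2 m2) hpq hp.2 hq.2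
  have hxy : x ≠ y := fun e => eq_of_inter_two (hs3 1 h1) (hs3 2 m2)
    (hint 1 (hIc h1) 2 (hIc m2) (by norm_num)) (by rw [e1, e2, e])
  have hk1 : k ≠ 1 := fun e => by subst e; exact hk' hp.1 hq.1
  have hk2 : k ≠ 2 := fun e => by subst e; exact hk' hp.2 hq.2
  -- arrange that the exceptional triple misses `p`
  obtain ⟨p, q, hpq, e1, e2, hxp, hxq, hyp, hyq, hpk⟩ :
      ∃ p' q' : ι, p' ≠ q' ∧ s 1 = {p', q', x} ∧ s 2 = {p', q', y} ∧ x ≠ p' ∧ x ≠ q' ∧ y ≠ p' ∧
        y ≠ q' ∧ p' ∉ s k := by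
    by_cases hpk : p ∈ s k
    · exact ⟨q, p, hpq.symm, by rw [e1, Finset.insert_comm], by rw [e2, Finset.insert_comm],
        hxq, hxp, hyq, hyp, hk' hpk⟩
    · exact ⟨p, q, hpq, e1, e2, hxp, hxq, hyp, hyq, hpk⟩
  have i1 := hint k (hIc hk) 1 (hIc h1) hk1
  have i2 := hint k (hIc hk) 2 (hIc m2) hk2
  rw [e1] at i1
  rw [e2] at i2
  obtain ⟨hqk, hxk⟩ := mem_pair_of_inter i1 hpk
  obtain ⟨-, hyk⟩ := mem_pair_of_inter i2 hpk
  have ek : s k = {q, x, y} := by
    refine (Finset.eq_of_subset_of_card_le (by simp [Finset.insert_subset_iff, hqk, hxk, hyk]) ?_).symm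
    rw [hs3 k hk, Finset.card_insert_of_notMem (by simp [hxq.symm, hyq.symm]), Finset.card_pair hxy]
  have hU : ∀ j ∈ Finset.Ico 1 h, s j ⊆ {p, q, x, y} := by
    intro j hj
    rcases eq_or_ne j 1 with rfl | j1
    · rw [e1]; intro i; simp; tauto
    rcases eq_or_ne j 2 with rfl | j2
    · rw [e2]; intro i; simp; tauto
    rcases eq_or_ne j k with rfl | jk
    · rw [ek]; intro i; simp; tauto
    have a1 := hint j (hIc hj) 1 (hIc h1) j1
    have a2 := hint j (hIc hj) 2 (hIc m2) j2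
    have a3 := hint j (hIc hj) k (hIc hk) jk
    rw [e1] at a1
    rw [e2] at a2
    rw [ek] at a3
    have ht : ∃ t : Finset ι, t ⊆ s j ∧ t.card = 3 ∧ t ⊆ {p, q, x, y} := by
      by_cases hpj : p ∈ s j
      · by_cases hqj : q ∈ s j
        · obtain ⟨z, -, -, ez⟩ := third_of_pair (hs3 j hj) hpq hpj hqj
          refine ⟨s j, le_rfl, hs3 j hj, ?_⟩
          have hz : z = x ∨ z = y := by
            by_contra hz
            push Not at hz
            have hsub : s j ∩ {q, x, y} ⊆ {q} := fun i hi => by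
              rw [ez] at hi
              simp only [Finset.mem_inter, Finset.mem_insert, Finset.mem_singleton] at hi ⊢
              rcases hi with ⟨rfl | rfl | rfl, e | e | e⟩
              all_goals first
                | rfl | exact e | exact absurd e hpq | exact absurd e hxp.symm
                | exact absurd e hyp.symm | exact absurd e hz.1 | exact absurd e hz.2
            have := Finset.card_le_card hsub
            rw [a3, Finset.card_singleton] at this
            omega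
          rw [ez]
          rcases hz with rfl | rfl <;> (intro i; simp; tauto)
        · rw [Finset.insert_comm] at a1 a2
          obtain ⟨-, hx'⟩ := mem_pair_of_inter a1 hqj
          obtain ⟨-, hy'⟩ := mem_pair_of_inter a2 hqj
          exact ⟨{p, x, y}, by simp [Finset.insert_subset_iff, hpj, hx', hy'],
            by rw [Finset.card_insert_of_notMem (by simp [hxp.symm, hyp.symm]), Finset.card_pair hxy],
            by intro i; simp; tauto⟩
      · obtain ⟨hq', hx'⟩ := mem_pair_of_inter a1 hpj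
        obtain ⟨-, hy'⟩ := mem_pair_of_inter a2 hpj
        exact ⟨{q, x, y}, by simp [Finset.insert_subset_iff, hq', hx', hy'],
          by rw [Finset.card_insert_of_notMem (by simp [hxq.symm, hyq.symm]), Finset.card_pair hxy],
          by intro i; simp; tauto⟩
    obtain ⟨t, ht1, ht2, ht3⟩ := ht
    exact (Finset.eq_of_subset_of_card_le ht1 (by rw [ht2, hs3 j hj])) ▸ ht3
  obtain rfl : h = 4 := by
    have hc : (Finset.Ico 1 h).card ≤ (({p, q, x, y} : Finset ι).powersetCard 3).card :=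
      Finset.card_le_card_of_injOn s (fun j hj => Finset.mem_powersetCard.2 ⟨hU j hj, hs3 j hj⟩)
        fun j hj j' hj' e => by
          by_contra hne
          exact eq_of_inter_two (hs3 j hj) (hs3 j' hj') (hint j (hIc hj) j' (hIc hj') hne) e
    have h5 : ({p, q, x, y} : Finset ι).card ≤ 4 := Finset.card_le_four
    rw [Finset.card_powersetCard, Nat.card_Ico] at hc
    have h6 := Nat.choose_le_choose 3 h5
    norm_num [Nat.choose] at h6
    have h7 : (h - 1) ≤ 4 := hc.trans h6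
    rcases Nat.lt_or_ge h 5 with h8 | h8
    · omega
    · exfalso
      obtain rfl : h = 5 := by omega
      -- four triples force the last set to meet the four elements in a number of points
      have hall5 : ∀ j ∈ Finset.Ico 1 5, (s 5 ∩ s j).card = 2 := hjh
      have himg : (Finset.Ico 1 5).image s = ({p, q, x, y} : Finset ι).powersetCard 3 := by
        refine Finset.eq_of_subset_of_card_le (fun t ht => ?_) ?_
        · obtain ⟨j, hj, rfl⟩ := Finset.mem_image.1 ht
          exact Finset.mem_powersetCard.2 ⟨hU j hj, hs3 j hj⟩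
        · rw [Finset.card_image_of_injOn (fun j hj j' hj' e => by
            by_contra hne
            exact eq_of_inter_two (hs3 j hj) (hs3 j' hj') (hint j (hIc hj) j' (hIc hj') hne) e),
            Finset.card_powersetCard, Nat.card_Ico]
          exact h6
      have hmem : ({p, x, y} : Finset ι) ∈ (Finset.Ico 1 5).image s := by
        rw [himg, Finset.mem_powersetCard]
        exact ⟨by intro i; simp; tauto,
          by rw [Finset.card_insert_of_notMem (by simp [hxp.symm, hyp.symm]), Finset.card_pair hxy]⟩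
      obtain ⟨j, hj, ej⟩ := Finset.mem_image.1 hmem
      have b1 := hall5 1 h1
      have b2 := hall5 2 m2
      have b3 := hall5 k hk
      have b4 := hall5 j hj
      rw [e1] at b1
      rw [e2] at b2
      rw [ek] at b3
      rw [ej] at b4
      by_cases hps : p ∈ s 5 <;> by_cases hqs : q ∈ s 5 <;> by_cases hxs : x ∈ s 5 <;>
        by_cases hys : y ∈ s 5 <;>
        simp [Finset.inter_insert_of_mem, Finset.inter_insert_of_notMem, Finset.inter_singleton_of_mem,
          Finset.inter_singleton_of_notMem, hps, hqs, hxs, hys, hpq, hxp.symm, hxq.symm, hyp.symm,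
          hyq.symm, hxy] at b1 b2 b3 b4
  obtain rfl : k = 3 := by
    have := Finset.mem_Ico.1 hk
    omega
  have b1 := hjh 1 h1
  have b2 := hjh 2 m2
  have b3 := hjh 3 hk
  rw [e1] at b1
  rw [e2] at b2
  rw [ek] at b3
  have hin : p ∈ s 4 ∧ q ∉ s 4 ∧ x ∈ s 4 ∧ y ∈ s 4 := by
    by_cases hps : p ∈ s 4 <;> by_cases hqs : q ∈ s 4 <;> by_cases hxs : x ∈ s 4 <;>
      by_cases hys : y ∈ s 4 <;>
      simp [Finset.inter_insert_of_mem, Finset.inter_insert_of_notMem, Finset.inter_singleton_of_mem,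
        Finset.inter_singleton_of_notMem, hps, hqs, hxs, hys, hpq, hxp.symm, hxq.symm, hyp.symm,
        hyq.symm, hxy] at b1 b2 b3 ⊢
  obtain ⟨hps, hqs, hxs, hys⟩ := hin
  have hsub : ({p, x, y} : Finset ι) ⊆ s 4 := by simp [Finset.insert_subset_iff, hps, hxs, hys]
  obtain ⟨e, he'⟩ := Finset.card_eq_one.1 (show (s 4 \ {p, x, y}).card = 1 by
    rw [Finset.card_sdiff_of_subset hsub, hs4,
      Finset.card_insert_of_notMem (by simp [hxp.symm, hyp.symm]), Finset.card_pair hxy])
  have hem : e ∈ s 4 \ {p, x, y} := he' ▸ Finset.mem_singleton_self e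
  simp only [Finset.mem_sdiff, Finset.mem_insert, Finset.mem_singleton, not_or] at hem
  have e4 : s 4 = {y, x, p, e} := by
    rw [← Finset.union_sdiff_of_subset hsub, he']
    ext i
    simp only [Finset.mem_union, Finset.mem_insert, Finset.mem_singleton]
    tauto
  refine Or.inr ⟨rfl, y, x, p, q, e, hxy.symm, hyp, hyq, fun a => hem.2.2.2 a.symm, hxp, hxq,
    fun a => hem.2.2.1 a.symm, hpq, fun a => hem.2.1 a.symm, fun a => hqs (a ▸ hem.1), ?_,
    Or.inl ⟨?_, ?_, ?_, e4⟩⟩
  · ext i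
    rw [hS5 i rfl, e1, e2, ek, e4]
    simp only [Finset.mem_insert, Finset.mem_singleton]
    tauto
  all_goals
    first | rw [e1] | rw [e2] | rw [ek]
  all_goals
    ext i
    simp only [Finset.mem_insert, Finset.mem_singleton]
    tauto

/-- **From the vectors to the sets.** -/
theorem exists_supports (S : Finset ι) {h : ℕ} (hh : 2 ≤ h) (u : ℕ → ι → ℤ) (x : ι → ℤ)
    (hx : ∀ i ∈ S, 1 ≤ x i) (hdeg : ∀ j ∈ Finset.Icc 1 h, ∑ i ∈ S, u j i * x i = 0)
    (hgram : ∀ j ∈ Finset.Icc 1 h, ∀ k ∈ Finset.Icc 1 h,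
      ∑ i ∈ S, u j i * u k i = if j = k then (if j = h then 4 else 3) else 2)
    (hcover : ∀ i ∈ S, ∃ j ∈ Finset.Icc 1 h, u j i ≠ 0) :
    ∃ (s : ℕ → Finset ι) (σ : ι → ℤ), (∀ i, σ i = 1 ∨ σ i = -1) ∧
      (∀ j ∈ Finset.Ico 1 h, (s j).card = 3) ∧ (s h).card = 4 ∧
      (∀ j ∈ Finset.Icc 1 h, ∀ k ∈ Finset.Icc 1 h, j ≠ k → (s j ∩ s k).card = 2) ∧
      (∀ i, i ∈ S ↔ ∃ j ∈ Finset.Icc 1 h, i ∈ s j) ∧
      (∀ j ∈ Finset.Icc 1 h, ∀ i ∈ S, u j i = if i ∈ s j then σ i else 0) := by
  classical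
  have hhm : h ∈ Finset.Icc 1 h := Finset.mem_Icc.2 ⟨by omega, le_rfl⟩
  have hb : ∀ j ∈ Finset.Icc 1 h, ∀ i ∈ S, u j i = -1 ∨ u j i = 0 ∨ u j i = 1 := by
    intro j hj i hi
    have hg := hgram j hj j hj
    rw [if_pos rfl] at hg
    split_ifs at hg with e
    · subst e
      have h1 : u j i * u j i ≤ 4 :=
        hg ▸ Finset.single_le_sum (f := fun i => u j i * u j i) (fun k _ => mul_self_nonneg _) hi
      have h2 : -2 ≤ u j i := by nlinarith
      have h3 : u j i ≤ 2 := by nlinarith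
      by_contra hne
      push Not at hne
      have h4 : u j i * u j i = 4 := by
        rcases (show u j i = -2 ∨ u j i = 2 by omega) with e | e <;> rw [e] <;> norm_num
      rw [← Finset.add_sum_erase S _ hi] at hg
      have hrest : ∀ k ∈ S.erase i, u j k = 0 := by
        intro k hk
        have := (Finset.sum_eq_zero_iff_of_nonneg (s := S.erase i)
          (f := fun i => u j i * u j i) fun k _ => mul_self_nonneg _).1 (by linarith) k hk
        exact mul_self_eq_zero.1 this
      have hd := hdeg j hj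
      rw [← Finset.add_sum_erase S _ hi, Finset.sum_eq_zero (fun k hk => by
        rw [hrest k hk, zero_mul]), add_zero] at hd
      rcases mul_eq_zero.1 hd with e | e
      · rw [e] at h4; norm_num at h4
      · have := hx i hi; omega
    · exact (small_support S (u j) (le_refl 3) hg).1 i hi
  let s : ℕ → Finset ι := fun j => S.filter fun i => u j i ≠ 0
  have hcard : ∀ j ∈ Finset.Icc 1 h, ((s j).card : ℤ) = if j = h then 4 else 3 := by
    intro j hj
    have hg := hgram j hj j hj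
    rw [if_pos rfl] at hg
    rw [← hg, Finset.card_filter, Nat.cast_sum]
    refine Finset.sum_congr rfl fun i hi => ?_
    rcases hb j hj i hi with e | e | e <;> simp [e]
  -- two vectors share two entries with equal signs
  have hpair : ∀ j ∈ Finset.Icc 1 h, ∀ k ∈ Finset.Icc 1 h, j ≠ k →
      (s j ∩ s k).card = 2 ∧ ∀ i ∈ s j ∩ s k, u j i = u k i := by
    intro j hj k hk hne
    have hg := hgram j hj k hk
    rw [if_neg hne] at hg
    set C := s j ∩ s k with hC
    have hsum : ∑ i ∈ C, u j i * u k i = 2 := by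
      rw [← hg]
      refine Finset.sum_subset (fun i hi => (Finset.mem_filter.1 (Finset.mem_inter.1 hi).1).1) ?_
      intro i hi hn
      simp only [hC, s, Finset.mem_inter, Finset.mem_filter] at hn
      by_contra h0
      exact hn ⟨⟨hi, fun e => h0 (by rw [e, zero_mul])⟩, hi, fun e => h0 (by rw [e, mul_zero])⟩
    have hone : ∀ i ∈ C, u j i * u k i = 1 ∨ u j i * u k i = -1 := by
      intro i hi
      obtain ⟨h1, h2⟩ := Finset.mem_inter.1 hi
      obtain ⟨hiS, n1⟩ := Finset.mem_filter.1 h1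
      obtain ⟨-, n2⟩ := Finset.mem_filter.1 h2
      rcases hb j hj i hiS with e | e | e <;> rcases hb k hk i hiS with e' | e' | e' <;>
        simp [e, e'] at n1 n2 ⊢
    have hsplit : (C.card : ℤ) - 2 * ((C.filter fun i => u j i * u k i = -1).card : ℤ) = 2 := by
      conv_rhs => rw [← hsum]
      rw [Finset.card_filter, Finset.card_eq_sum_ones]
      push_cast
      rw [Finset.mul_sum, ← Finset.sum_sub_distrib]
      refine Finset.sum_congr rfl fun i hi => ?_
      rcases hone i hi with e | e <;> simp [e]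
    have hle : (C.card : ℤ) ≤ 3 := by
      have c1 := hcard j hj
      have c2 := hcard k hk
      have l1 : C.card ≤ (s j).card := Finset.card_le_card Finset.inter_subset_left
      have l2 : C.card ≤ (s k).card := Finset.card_le_card Finset.inter_subset_right
      split_ifs at c1 c2 <;> omega
    have h0 : (C.filter fun i => u j i * u k i = -1).card = 0 := by omega
    refine ⟨by omega, fun i hi => ?_⟩
    have hne' : u j i * u k i ≠ -1 := fun e =>
      Finset.notMem_empty i (Finset.card_eq_zero.1 h0 ▸ Finset.mem_filter.2 ⟨hi, e⟩)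
    have h1 := (hone i hi).resolve_right hne'
    rcases Int.eq_one_or_neg_one_of_mul_eq_one' h1 with ⟨a, b⟩ | ⟨a, b⟩ <;> rw [a, b]
  choose w hw hw' using hcover
  let σ : ι → ℤ := fun i => if hi : i ∈ S then u (w i hi) i else 1
  refine ⟨s, σ, fun i => ?_, fun j hj => ?_, ?_, fun j hj k hk hne => (hpair j hj k hk hne).1,
    fun i => ?_, fun j hj i hi => ?_⟩
  · by_cases hi : i ∈ S
    · simp only [σ, dif_pos hi]
      rcases hb _ (hw i hi) i hi with e | e | e
      · exact Or.inr e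
      · exact absurd e (hw' i hi)
      · exact Or.inl e
    · simp [σ, hi]
  · have := hcard j (Finset.Ico_subset_Icc_self hj)
    rw [if_neg (Finset.mem_Ico.1 hj).2.ne] at this
    exact_mod_cast this
  · have := hcard h hhm
    rw [if_pos rfl] at this
    exact_mod_cast this
  · constructor
    · exact fun hi => ⟨_, hw i hi, Finset.mem_filter.2 ⟨hi, hw' i hi⟩⟩
    · rintro ⟨j, -, hi⟩
      exact (Finset.mem_filter.1 hi).1
  · split_ifs with h1
    · simp only [σ, dif_pos hi]
      rcases eq_or_ne j (w i hi) with e | e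
      · rw [← e]
      · exact (hpair j hj _ (hw i hi) e).2 i
          (Finset.mem_inter.2 ⟨h1, Finset.mem_filter.2 ⟨hi, hw' i hi⟩⟩)
    · simpa [s, hi] using h1

end CfsgLib.BlockA.DihedralDefect
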