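import Cfsg.Agent.Lib.BlockA.DihedralRotations
import Cfsg.Agent.Lib.Block.PrincipalSection
import Cfsg.Agent.Lib.Block.PPart

/-!
Counting pairs of involutions with product of even order when a Sylow 2-subgroup is dihedral and
there is one class of involutions.
-/

set_option autoImplicit false
set_option linter.unusedSectionVars false
set_option maxHeartbeats 1000000

namespace CfsgLib.BlockA.DihedralBlock

open Cfsg CfsgLib.Invol CfsgLib.Block

universe u

variable {G : Type u} [Group G] [Finite G]

/-- A cyclic group has one involution. -/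
theorem invol_zpowers_unique {x a b : G} (ha : a ∈ Subgroup.zpowers x) (hb : b ∈ Subgroup.zpowers x)
    (ha2 : orderOf a = 2) (hb2 : orderOf b = 2) : a = b := by
  obtain ⟨i, hi⟩ := mem_powers_iff_mem_zpowers.2 ha
  obtain ⟨j, hj⟩ := mem_powers_iff_mem_zpowers.2 hb
  change x ^ i = a at hi
  change x ^ j = b at hj
  obtain ⟨m, hm⟩ : 2 ∣ orderOf x := ha2 ▸ hi ▸ orderOf_pow_dvd i
  have key : ∀ k, orderOf (x ^ k) = 2 → x ^ k = x ^ m := by
    intro k hk
    have h1 : orderOf x ∣ k * 2 := by
      rw [orderOf_dvd_iff_pow_eq_one, pow_mul, pow_two]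
      exact invol_mul_self hk
    obtain ⟨c, hc⟩ := h1
    have hk' : k = m * c := by rw [hm] at hc; linarith
    rcases Nat.even_or_odd c with ⟨d, hd⟩ | ⟨d, hd⟩
    · refine absurd ?_ (invol_ne_one hk)
      rw [hk', hd, show m * (d + d) = 2 * m * d by ring, pow_mul, ← hm, pow_orderOf_eq_one, one_pow]
    · rw [hk', hd, show m * (2 * d + 1) = 2 * m * d + m by ring, pow_add, pow_mul x (2 * m) d, ← hm,
        pow_orderOf_eq_one, one_pow, one_mul]
  rw [← hi, ← hj, key i (hi ▸ ha2), key j (hj ▸ hb2)]

theorem exists_invol_zpowers {x : G} (hx : 2 ∣ orderOf x) :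
    ∃ z ∈ Subgroup.zpowers x, orderOf z = 2 :=
  ⟨x ^ (orderOf x / 2), Subgroup.pow_mem _ (Subgroup.mem_zpowers x) _,
    orderOf_pow_orderOf_div (orderOf_pos x).ne' hx⟩

variable (P : Sylow 2 G) (D : DihData (P : Subgroup G))

local notation "CJ" => Subgroup.centralizer (Singleton.singleton (dz P D) : Set G)

/-- The retraction of the centralizer of the central involution onto the Sylow subgroup. -/
theorem exists_retraction :
    ∃ π : CJ →* (P : Subgroup G), (∀ (x : CJ) (hx : (x : G) ∈ (P : Subgroup G)), π x = ⟨x, hx⟩) ∧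
      ∀ x : CJ, π x = 1 ↔ ¬ 2 ∣ orderOf (x : G) := by
  classical
  have : Fact (Nat.Prime 2) := ⟨Nat.prime_two⟩
  obtain ⟨hreg, hcard⟩ := core_of_hasNormalPComplement (complement_dz P D)
  set K := Cfsg.pPrimeCore 2 CJ with hK
  have hKcop : ¬ 2 ∣ Nat.card K :=
    Nat.prime_two.coprime_iff_not_dvd.1 (CfsgLib.Solvable.pPrimeCore_coprime 2).symm
  have hiff : ∀ h : CJ, h ∈ K ↔ ¬ 2 ∣ orderOf (h : G) := fun h => ⟨fun hh hd => hKcop (by
      rw [Subgroup.orderOf_coe] at hd
      exact hd.trans (Subgroup.orderOf_dvd_natCard _ hh)),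
    fun hh => hreg h (by rwa [Subgroup.orderOf_coe] at hh)⟩
  let f : (P : Subgroup G) →* CJ ⧸ K :=
    (QuotientGroup.mk' K).comp (Subgroup.inclusion (sylow_le_centralizer_dz P D))
  have hinj : Function.Injective f := (injective_iff_map_eq_one f).2 fun x hx => by
    have h := (hiff _).1 ((QuotientGroup.eq_one_iff _).1 hx)
    rw [Subgroup.coe_inclusion] at h
    by_contra hne
    obtain ⟨k, hk⟩ := IsPGroup.iff_orderOf.1 P.2 x
    rcases k with _ | k
    · exact hne (orderOf_eq_one_iff.1 (hk.trans (pow_zero 2)))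
    · rw [Subgroup.orderOf_coe, hk] at h
      exact h (dvd_pow_self 2 (Nat.succ_ne_zero k))
  have hbij : Function.Bijective f := by
    refine hinj.bijective_of_nat_card_le (le_of_eq ?_)
    rw [card_two_centralizer_dz, Subgroup.card_eq_card_quotient_mul_card_subgroup K] at hcard
    rw [Nat.eq_of_mul_eq_mul_right Nat.card_pos hcard, D.card_eq]
  let e := MulEquiv.ofBijective f hbij
  refine ⟨e.symm.toMonoidHom.comp (QuotientGroup.mk' K), fun x hx => ?_, fun x => ?_⟩
  · show e.symm (QuotientGroup.mk' K x) = _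
    rw [e.symm_apply_eq]
    rfl
  · show e.symm (QuotientGroup.mk' K x) = 1 ↔ _
    rw [e.symm.map_eq_one_iff, QuotientGroup.mk'_apply, QuotientGroup.eq_one_iff, hiff]

/-- The involutions other than the centre in the centralizer map to reflections. -/
theorem retract_reflection {π : CJ →* (P : Subgroup G)}
    (hid : ∀ (x : CJ) (hx : (x : G) ∈ (P : Subgroup G)), π x = ⟨x, hx⟩)
    (hker : ∀ x : CJ, π x = 1 ↔ ¬ 2 ∣ orderOf (x : G)) {u : CJ} (hu : orderOf (u : G) = 2)
    (hne : (u : G) ≠ dz P D) : ∃ i : ℤ, π u = D.r ^ i * D.s := by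
  have h1 : π u ≠ 1 := fun h => (hker u).1 h (hu ▸ dvd_rfl)
  have h2 : orderOf (π u) = 2 := invol_of_mul_self (by
    rw [← map_mul, show u * u = 1 from Subtype.ext (invol_mul_self hu), map_one]) h1
  rcases D.invol_cases h2 with h | h
  · exfalso
    set Z : CJ := ⟨dz P D, Subgroup.mem_centralizer_singleton_iff.2 rfl⟩
    have hZ : π Z = D.z := hid Z (SetLike.coe_mem D.z)
    have hc : Commute (u : G) (dz P D) := Subgroup.mem_centralizer_singleton_iff.1 u.2
    have hodd : ¬ 2 ∣ orderOf ((u * Z : CJ) : G) := (hker _).1 (by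
      rw [map_mul, h, hZ, invol_mul_self D.orderOf_z])
    refine hne ?_
    have hzz : orderOf (dz P D) = 2 := (Subgroup.orderOf_coe _).trans D.orderOf_z
    have hsq : (u : G) * dz P D * ((u : G) * dz P D) = 1 := by
      rw [hc.symm.mul_mul_mul_comm, invol_mul_self hu, invol_mul_self hzz, one_mul]
    have h3 := eq_one_of_sq_of_odd hsq (Nat.not_even_iff_odd.1 fun h => hodd (even_iff_two_dvd.1 h))
    rw [← mul_right_cancel_iff (a := dz P D), h3, invol_mul_self hzz]
  · exact h

/-- The key step: two further involutions of the centralizer have product of odd order, or the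
centre is a power of their product. -/
theorem dz_mem_zpowers_mul {v u : G} (hv : orderOf v = 2) (hu : orderOf u = 2)
    (hvJ : Commute v (dz P D)) (huJ : Commute u (dz P D)) (hv' : v ≠ dz P D) (hu' : u ≠ dz P D)
    (he : 2 ∣ orderOf (v * u)) : dz P D ∈ Subgroup.zpowers (v * u) := by
  obtain ⟨π, hid, hker⟩ := exists_retraction P D
  set V : CJ := ⟨v, Subgroup.mem_centralizer_singleton_iff.2 hvJ.eq⟩
  set U : CJ := ⟨u, Subgroup.mem_centralizer_singleton_iff.2 huJ.eq⟩
  set Z : CJ := ⟨dz P D, Subgroup.mem_centralizer_singleton_iff.2 rfl⟩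
  obtain ⟨a, ha⟩ := retract_reflection P D hid hker (u := V) hv hv'
  obtain ⟨b, hb⟩ := retract_reflection P D hid hker (u := U) hu hu'
  obtain ⟨w, hw, hw2⟩ := exists_invol_zpowers he
  obtain ⟨i, hi⟩ := hw
  have hi' : (((V * U) ^ i : CJ) : G) = w := by simpa [V, U] using hi
  have hpi : π ((V * U) ^ i) = D.z := by
    have hne : π ((V * U) ^ i) ≠ 1 := fun h => (hker _).1 h (by rw [hi', hw2])
    have e : π ((V * U) ^ i) = D.r ^ ((a - b) * i) := by
      rw [map_zpow, map_mul, ha, hb, D.zy_mul_zy, ← zpow_mul]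
    rw [e] at hne ⊢
    refine D.eq_z_of_zpow (invol_of_mul_self ?_ hne)
    have h1 : ((V * U) ^ i : CJ) * (V * U) ^ i = 1 := Subtype.ext (by
      rw [Subgroup.coe_mul, hi']; exact invol_mul_self hw2)
    have h2 := congrArg π h1
    rwa [map_mul, map_one, show π ((V * U) ^ i) = D.r ^ ((a - b) * i) by
      rw [map_zpow, map_mul, ha, hb, D.zy_mul_zy, ← zpow_mul]] at h2
  have hzz : orderOf (dz P D) = 2 := (Subgroup.orderOf_coe _).trans D.orderOf_z
  have hodd : ¬ 2 ∣ orderOf (w * dz P D) := by
    have h := (hker ((V * U) ^ i * Z)).1 (by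
      rw [map_mul, hpi, hid Z (SetLike.coe_mem D.z)]
      exact invol_mul_self D.orderOf_z)
    rwa [Subgroup.coe_mul, hi'] at h
  have hc : Commute w (dz P D) := hi' ▸ Subgroup.mem_centralizer_singleton_iff.1 ((V * U) ^ i).2
  have hsq : w * dz P D * (w * dz P D) = 1 := by
    rw [hc.symm.mul_mul_mul_comm, invol_mul_self hw2, invol_mul_self hzz, one_mul]
  have h3 := eq_one_of_sq_of_odd hsq (Nat.not_even_iff_odd.1 fun h => hodd (even_iff_two_dvd.1 h))
  have hwz : w = dz P D := by rw [← mul_right_cancel_iff (a := dz P D), h3, invol_mul_self hzz]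
  exact hwz ▸ ⟨i, hi⟩

/-- The involutions commuting with `z` other than `z`. -/
def invSet (z : G) : Set G := {u | orderOf u = 2 ∧ Commute u z ∧ u ≠ z}

theorem card_centralizer_pair {j t : G}
    (ht : t ∈ Subgroup.centralizer ({j} : Set G)) :
    Nat.card (Subgroup.centralizer
        ({(⟨t, ht⟩ : Subgroup.centralizer ({j} : Set G))} : Set (Subgroup.centralizer ({j} : Set G)))) =
      Nat.card (Subgroup.centralizer ({j, t} : Set G)) :=
  Nat.card_congr
    { toFun := fun x => ⟨((x : Subgroup.centralizer ({j} : Set G)) : G),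
        Subgroup.mem_centralizer_iff.2 fun y hy => by
          rcases hy with rfl | rfl
          · exact (Subgroup.mem_centralizer_singleton_iff.1
              (x : Subgroup.centralizer ({y} : Set G)).2).symm
          · exact (congrArg Subtype.val (Subgroup.mem_centralizer_singleton_iff.1 x.2)).symm⟩
      invFun := fun x => ⟨⟨x, Subgroup.centralizer_le (Set.singleton_subset_iff.2 (Set.mem_insert _ _)) x.2⟩,
        Subgroup.mem_centralizer_singleton_iff.2 (Subtype.ext
          (Subgroup.mem_centralizer_iff.1 x.2 t (Set.mem_insert_of_mem _ rfl)).symm)⟩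
      left_inv := fun x => rfl
      right_inv := fun x => rfl }

theorem ncard_invSet_dz :
    ((invSet (dz P D)).ncard : ℚ) = (Nat.card CJ : ℚ) *
      (1 / (Nat.card (Subgroup.centralizer ({dz P D, dt P D 0} : Set G)) : ℚ) +
        1 / (Nat.card (Subgroup.centralizer ({dz P D, dt P D 1} : Set G)) : ℚ)) := by
  classical
  obtain ⟨π, hid, hker⟩ := exists_retraction P D
  let T : ℤ → CJ := fun i => ⟨dt P D i, sylow_le_centralizer_dz P D (SetLike.coe_mem _)⟩
  have hT : ∀ i, π (T i) = D.r ^ i * D.s := fun i => hid (T i) (D.r ^ i * D.s : (P : Subgroup G)).2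
  have hT2 : ∀ i, orderOf ((T i : CJ) : G) = 2 := fun i =>
    (Subgroup.orderOf_coe (D.r ^ i * D.s : (P : Subgroup G))).trans (D.orderOf_zy i)
  have hTne : ∀ i, ((T i : CJ) : G) ≠ dz P D := fun i e => D.ne_zpow i _ (Subtype.ext e)
  let K : ℤ → Set G := fun i => Subtype.val '' {t : CJ | IsConj (T i) t}
  have hcard : ∀ i, ((K i).ncard : ℚ) =
      (Nat.card CJ : ℚ) / (Nat.card (Subgroup.centralizer ({dz P D, dt P D i} : Set G)) : ℚ) := by
    intro i
    have h := card_class_mul_card_centralizer (T i)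
    rw [card_centralizer_pair (sylow_le_centralizer_dz P D (SetLike.coe_mem _))] at h
    rw [eq_div_iff (Nat.cast_ne_zero.2 Nat.card_pos.ne'), ← h,
      show (K i).ncard = Nat.card {t : CJ // IsConj (T i) t} by
        rw [Set.ncard_image_of_injective _ Subtype.val_injective, ← Nat.card_coe_set_eq]; rfl,
      Nat.cast_mul]
  have hunion : invSet (dz P D) = K 0 ∪ K 1 := by
    ext u
    constructor
    · rintro ⟨hu2, huJ, hne⟩
      set U : CJ := ⟨u, Subgroup.mem_centralizer_singleton_iff.2 huJ.eq⟩
      obtain ⟨i, hi⟩ := retract_reflection P D hid hker (u := U) hu2 hne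
      obtain ⟨m, a, hm, ha⟩ : ∃ (m : ℤ) (a : ℤ), (m = 0 ∨ m = 1) ∧ i + 2 * a = m := by
        rcases Int.even_or_odd i with ⟨k, hk⟩ | ⟨k, hk⟩
        · exact ⟨0, -k, Or.inl rfl, by omega⟩
        · exact ⟨1, -k, Or.inr rfl, by omega⟩
      set R : CJ := ⟨((D.r ^ a : (P : Subgroup G)) : G),
        sylow_le_centralizer_dz P D (SetLike.coe_mem _)⟩
      set U' : CJ := R * U * R⁻¹ with hU'
      have hπ : π U' = D.r ^ m * D.s := by
        rw [hU', map_mul, map_mul, map_inv, hi, show π R = D.r ^ a from hid R (D.r ^ a : (P : Subgroup G)).2,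
          D.conj_refl, ha]
      have hu'2 : orderOf ((U' : CJ) : G) = 2 :=
        (orderOf_conj_eq _ _).trans hu2
      have hodd : Odd (orderOf (((T m : CJ) : G) * ((U' : CJ) : G))) := by
        rw [← Nat.not_even_iff_odd, even_iff_two_dvd]
        exact (hker (T m * U')).1 (by rw [map_mul, hT, hπ, D.zy_mul_zy, sub_self, zpow_zero])
      obtain ⟨d, hd, hde⟩ := exists_conj_of_odd (hT2 m) hu'2 hodd
      have hdC : d ∈ CJ := (Subgroup.zpowers_le.2 (mul_mem (T m).2 U'.2)) hd
      have hc : IsConj (T m) U :=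
        (isConj_iff.2 ⟨⟨d, hdC⟩, Subtype.ext hde⟩ : IsConj (T m) U').trans
          (isConj_iff.2 ⟨R, rfl⟩ : IsConj U U').symm
      rcases hm with rfl | rfl
      · exact Or.inl ⟨U, hc, rfl⟩
      · exact Or.inr ⟨U, hc, rfl⟩
    · rintro (⟨t, ht, rfl⟩ | ⟨t, ht, rfl⟩) <;>
      · obtain ⟨g, hg⟩ := isConj_iff.1 ht
        refine ⟨?_, Subgroup.mem_centralizer_singleton_iff.1 t.2, fun e => ?_⟩
        · rw [← hg]
          exact (orderOf_conj_eq _ _).trans (hT2 _)
        · have h1 : ((g : CJ) : G)⁻¹ * (t : G) * (g : G) = dz P D := by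
            rw [e, mul_assoc, ← Subgroup.mem_centralizer_singleton_iff.1 g.2, inv_mul_cancel_left]
          rw [← hg] at h1
          simp [mul_assoc] at h1
          exact hTne _ h1
  have hdisj : Disjoint (K 0) (K 1) := by
    rw [Set.disjoint_left]
    rintro _ ⟨t, ht, rfl⟩ ⟨t', ht', e⟩
    obtain ⟨g, hg⟩ := isConj_iff.1 (ht.trans ((Subtype.ext e : t' = t) ▸ ht').symm)
    have h := congrArg π hg
    rw [map_mul, map_mul, map_inv, hT, hT] at h
    rcases D.cases (π g) with ⟨a, ha⟩ | ⟨a, ha⟩ <;> rw [ha] at h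
    · rw [D.conj_refl, mul_left_inj, D.zpow_eq_iff] at h
      obtain ⟨c, hc⟩ := h
      have : (1 : ℤ) = 2 * (a + (D.h : ℤ) * c) := by linarith
      omega
    · rw [D.zy_inv, D.zy_mul_zy, ← mul_assoc, ← zpow_add, mul_left_inj, D.zpow_eq_iff] at h
      obtain ⟨c, hc⟩ := h
      have : (1 : ℤ) = 2 * (a + (D.h : ℤ) * c) := by linarith
      omega
  rw [hunion, Set.ncard_union_eq hdisj, Nat.cast_add, hcard, hcard]
  ring

variable {P D}

theorem ncard_invSet_conj (g z : G) : (invSet (g * z * g⁻¹)).ncard = (invSet z).ncard := by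
  have h : invSet (g * z * g⁻¹) = (fun x => g * x * g⁻¹) '' invSet z := by
    ext u
    constructor
    · rintro ⟨h1, h2, h3⟩
      refine ⟨g⁻¹ * u * g, ⟨?_, ?_, fun e => h3 (by rw [← e]; group)⟩, by group⟩
      · rw [← h1, ← orderOf_conj_eq g⁻¹ u, inv_inv]
      · have := h2.map (MulAut.conj g⁻¹).toMonoidHom
        simpa [mul_assoc] using this
    · rintro ⟨x, ⟨h1, h2, h3⟩, rfl⟩
      exact ⟨(orderOf_conj_eq g x).trans h1, h2.map (MulAut.conj g).toMonoidHom,
        fun e => h3 (mul_left_cancel (mul_right_cancel e))⟩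
  rw [h, Set.ncard_image_of_injective]
  exact fun a b e => mul_left_cancel (mul_right_cancel e)

variable (P D)

/-- **The pairs with product of even order.** -/
theorem count_even_pairs (hone : ∀ s t : G, orderOf s = 2 → orderOf t = 2 → IsConj s t) :
    {u : G | orderOf u = 2 ∧ 2 ∣ orderOf (dz P D * u)}.ncard +
        {u : G | orderOf u = 2 ∧ ∃ w, IsPPart 2 (dz P D * u) w ∧ orderOf w = 2}.ncard =
      (invSet (dz P D)).ncard ^ 2 := by
  classical
  have := Fintype.ofFinite G
  set J := dz P D with hJ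
  have hJ2 : orderOf J = 2 := (Subgroup.orderOf_coe _).trans D.orderOf_z
  set I := Finset.univ.filter (fun u => orderOf u = 2 ∧ Commute u J ∧ u ≠ J) with hI
  have hImem : ∀ {z}, z ∈ I → orderOf z = 2 ∧ Commute z J ∧ z ≠ J := fun hz =>
    (Finset.mem_filter.1 hz).2
  have hIcard : (invSet J).ncard = I.card := by
    rw [Set.ncard_eq_toFinset_card']; congr 1; ext u
    simp only [I, Set.mem_toFinset, Finset.mem_filter, Finset.mem_univ, true_and]
    exact Iff.rfl
  let A : G → Finset G := fun z => Finset.univ.filter fun u =>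
    orderOf u = 2 ∧ 2 ∣ orderOf (J * u) ∧ z ∈ Subgroup.zpowers (J * u)
  let B : G → Finset G := fun z => Finset.univ.filter fun u =>
    orderOf u = 2 ∧ Commute u z ∧ ¬ 2 ∣ orderOf (z * J * u)
  let B' : G → Finset G := fun z => Finset.univ.filter fun u =>
    orderOf u = 2 ∧ Commute u z ∧ ¬ 2 ∣ orderOf (J * u)
  have hEven : {u : G | orderOf u = 2 ∧ 2 ∣ orderOf (J * u)}.ncard = ∑ z ∈ I, (A z).card := by
    rw [← Finset.card_biUnion]
    · rw [Set.ncard_eq_toFinset_card']
      congr 1
      ext u
      simp only [Set.mem_toFinset, Finset.mem_biUnion, A, Finset.mem_filter, Finset.mem_univ, true_and,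
        Set.mem_ofPred_eq, I]
      constructor
      · rintro ⟨hu, he⟩
        obtain ⟨z, hz, hz2⟩ := exists_invol_zpowers he
        have hzJ : Commute z J := by
          obtain ⟨i, hi⟩ := hz
          have h1 : J * z * J⁻¹ = z⁻¹ := by
            rw [← hi, ← conj_zpow, conj_left_mul hJ2 hu, inv_zpow]
          rw [invol_inv hz2] at h1
          exact (mul_inv_eq_iff_eq_mul.1 h1).symm
        refine ⟨z, ⟨hz2, hzJ, fun e => ?_⟩, hu, he, hz⟩
        obtain ⟨i, hi⟩ := hz
        have hc : Commute J (J * u) := by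
          have h1 : Commute z (J * u) := hi ▸ (Commute.refl (J * u)).zpow_left i
          rwa [e] at h1
        have h2 : (J * u) * (J * u) = 1 := by
          have h3 := conj_left_mul hJ2 hu
          rw [hc.eq, mul_inv_cancel_right] at h3
          exact mul_eq_one_iff_eq_inv.2 h3
        have h4 : orderOf (J * u) = 2 := invol_of_mul_self h2 fun h => by
          rw [h, orderOf_one] at he; omega
        have h5 : z = J * u := invol_zpowers_unique ⟨i, hi⟩ (Subgroup.mem_zpowers _) hz2 h4
        rw [e, eq_comm, mul_eq_left] at h5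
        exact invol_ne_one hu h5
      · rintro ⟨z, -, hu, he, -⟩
        exact ⟨hu, he⟩
    · intro a ha b hb hab
      rw [Function.onFun, Finset.disjoint_left]
      intro u hua hub
      simp only [A, Finset.mem_filter] at hua hub
      exact hab (invol_zpowers_unique hua.2.2.2 hub.2.2.2 (hImem ha).1
        (hImem hb).1)
  have hOne : {u : G | orderOf u = 2 ∧ ∃ w, IsPPart 2 (J * u) w ∧ orderOf w = 2}.ncard =
      ∑ z ∈ I, (B z).card := by
    rw [← Finset.card_biUnion]
    · rw [Set.ncard_eq_toFinset_card']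
      congr 1
      ext u
      simp only [Set.mem_toFinset, Finset.mem_biUnion, B, Finset.mem_filter, Finset.mem_univ, true_and,
        Set.mem_ofPred_eq, I]
      constructor
      · rintro ⟨hu, z, hz, hz2⟩
        obtain ⟨y, hy, hc, hk, hyr⟩ := id hz
        have hzinv : z⁻¹ = z := invol_inv hz2
        have hzs : Commute z J := by
          have h1 := isPPart_conj hz J
          have h2 : IsPPart 2 (J * u)⁻¹ z := by
            refine ⟨y⁻¹, ?_, hc.inv_right, hk, by rwa [orderOf_inv]⟩
            rw [← hy, mul_inv_rev, hzinv]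
            exact (hc.inv_right).eq
          rw [conj_left_mul hJ2 hu] at h1
          exact (mul_inv_eq_iff_eq_mul.1 (isPPart_unique Nat.prime_two h1 h2)).symm
        have hzsu : Commute z (J * u) := by rw [← hy]; exact (Commute.refl z).mul_right hc
        have hzu : Commute z u := by
          have := hzs.mul_right hzsu
          rwa [← mul_assoc, invol_mul_self hJ2, one_mul] at this
        have hyeq : z * J * u = y := by
          rw [mul_assoc, ← hy, ← mul_assoc, invol_mul_self hz2, one_mul]
        refine ⟨z, ⟨hz2, hzs, fun e => ?_⟩, hu, hzu.symm, by rwa [hyeq]⟩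
        rw [e, invol_mul_self hJ2, one_mul] at hyeq
        exact hyr (by rw [← hyeq, hu])
      · rintro ⟨z, ⟨hz2, hzs, -⟩, hu, hzu, hodd⟩
        exact ⟨hu, z, ⟨z * J * u, by rw [← mul_assoc, ← mul_assoc, invol_mul_self hz2, one_mul],
          ((Commute.refl z).mul_right hzs).mul_right hzu.symm, ⟨1, by rw [hz2, pow_one]⟩, hodd⟩, hz2⟩
    · intro a ha b hb hab
      rw [Function.onFun, Finset.disjoint_left]
      intro u hua hub
      simp only [B, Finset.mem_filter] at hua hub
      obtain ⟨ha2, has, -⟩ := hImem ha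
      obtain ⟨hb2, hbs, -⟩ := hImem hb
      refine hab (isPPart_unique Nat.prime_two (g := J * u) ?_ ?_)
      · exact ⟨a * J * u, by rw [← mul_assoc, ← mul_assoc, invol_mul_self ha2, one_mul],
          ((Commute.refl a).mul_right has).mul_right hua.2.2.1.symm, ⟨1, by rw [ha2, pow_one]⟩,
          hua.2.2.2⟩
      · exact ⟨b * J * u, by rw [← mul_assoc, ← mul_assoc, invol_mul_self hb2, one_mul],
          ((Commute.refl b).mul_right hbs).mul_right hub.2.2.1.symm, ⟨1, by rw [hb2, pow_one]⟩,
          hub.2.2.2⟩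
  have hBB : ∀ z ∈ I, (B z).card = (B' z).card := by
    intro z hz
    obtain ⟨hz2, hzJ, hzne⟩ := hImem hz
    have hzz := invol_mul_self hz2
    have horder : ∀ u, orderOf u = 2 → Commute u z → u ≠ z → orderOf (z * u) = 2 := by
      intro u hu hc hne
      refine invol_of_mul_self ?_ fun e => hne ?_
      · rw [hc.mul_mul_mul_comm, hzz, invol_mul_self hu, one_mul]
      · exact (mul_left_cancel (e.trans hzz.symm))
    refine Finset.card_nbij' (fun u => z * u) (fun u => z * u) ?_ ?_ ?_ ?_
    · intro u hu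
      simp only [Finset.mem_coe, B, B', Finset.mem_filter, Finset.mem_univ, true_and] at hu ⊢
      obtain ⟨h1, h2, h3⟩ := hu
      refine ⟨horder u h1 h2 fun e => h3 ?_, (Commute.refl z).mul_left h2, ?_⟩
      · rw [e, hzJ.eq, mul_assoc, hzz, mul_one, hJ2]
      · rwa [← mul_assoc, ← hzJ.eq]
    · intro u hu
      simp only [Finset.mem_coe, B, B', Finset.mem_filter, Finset.mem_univ, true_and] at hu ⊢
      obtain ⟨h1, h2, h3⟩ := hu
      refine ⟨horder u h1 h2 fun e => h3 ?_, (Commute.refl z).mul_left h2, ?_⟩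
      · rw [e, ← hzJ.eq, horder J hJ2 hzJ.symm hzne.symm]
      · rwa [hzJ.eq, mul_assoc, ← mul_assoc z z u, hzz, one_mul]
    · exact fun u _ => show z * (z * u) = u by rw [← mul_assoc, hzz, one_mul]
    · exact fun u _ => show z * (z * u) = u by rw [← mul_assoc, hzz, one_mul]
  have hsplit : ∀ z ∈ I, (A z).card + (B' z).card = I.card := by
    intro z hz
    obtain ⟨hz2, hzJ, hzne⟩ := hImem hz
    obtain ⟨g, hg⟩ := isConj_iff.1 (hone J z hJ2 hz2)
    have hin : (invSet z).ncard = I.card := by
      rw [← hg, ncard_invSet_conj, hIcard]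
    rw [← hin, Set.ncard_eq_toFinset_card', ← Finset.card_union_of_disjoint]
    · congr 1
      ext u
      simp only [A, B', Finset.mem_union, Finset.mem_filter, Finset.mem_univ, true_and,
        Set.mem_toFinset]
      simp only [invSet, Set.mem_ofPred_eq]
      constructor
      · rintro (⟨hu, he, hzm⟩ | ⟨hu, hc, ho⟩)
        · obtain ⟨i, hi⟩ := id hzm
          have h1 : Commute z (J * u) := hi ▸ (Commute.refl (J * u)).zpow_left i
          have hcu : Commute u z := by
            have := (hzJ.mul_right h1).symm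
            rwa [← mul_assoc, invol_mul_self hJ2, one_mul] at this
          refine ⟨hu, hcu, fun e => ?_⟩
          have h3 : orderOf (J * u) = 2 := by
            refine invol_of_mul_self ?_ fun h => ?_
            · rw [e, hzJ.mul_mul_mul_comm, invol_mul_self hJ2, invol_mul_self hz2, one_mul]
            · rw [h, orderOf_one] at he; omega
          have h4 : z = J * u := invol_zpowers_unique hzm (Subgroup.mem_zpowers _) hz2 h3
          rw [e, eq_comm, mul_eq_right] at h4
          exact invol_ne_one hJ2 h4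
        · refine ⟨hu, hc, fun e => ho ?_⟩
          have h3 : orderOf (J * z) = 2 := invol_of_mul_self
            (by rw [hzJ.mul_mul_mul_comm, invol_mul_self hJ2, invol_mul_self hz2, one_mul])
            (fun h => hzne (mul_left_cancel (h.trans (invol_mul_self hJ2).symm)))
          rw [e, h3]
      · rintro ⟨hu, hc, hne⟩
        by_cases he : 2 ∣ orderOf (J * u)
        · refine Or.inl ⟨hu, he, ?_⟩
          -- transport to the centralizer of the centre
          have hJg : Commute J z := hzJ.symm
          let φ := (MulAut.conj g⁻¹).toMonoidHom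
          have hφz : φ z = J := by
            show g⁻¹ * z * g⁻¹⁻¹ = J
            rw [← hg]; group
          have hφ2 : ∀ x : G, orderOf (φ x) = orderOf x := fun x =>
            MulEquiv.orderOf_eq (MulAut.conj g⁻¹) x
          have hinj : Function.Injective φ := (MulAut.conj g⁻¹).injective
          have hmem := dz_mem_zpowers_mul P D (v := φ J) (u := φ u) ((hφ2 J).trans hJ2)
            ((hφ2 u).trans hu) (by have h1 := hJg.map φ; rwa [hφz] at h1)
            (by have h1 := hc.map φ; rwa [hφz] at h1)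
            (fun e => hzne (hinj (e.trans hφz.symm)).symm) (fun e => hne (hinj (e.trans hφz.symm)))
            (by rw [← map_mul, hφ2]; exact he)
          obtain ⟨i, hi⟩ := hmem
          refine ⟨i, hinj ?_⟩
          rw [hφz, map_zpow, map_mul]
          exact hi
        · exact Or.inr ⟨hu, hc, he⟩
    · rw [Finset.disjoint_left]
      intro u hua hub
      simp only [A, B', Finset.mem_filter] at hua hub
      exact hub.2.2.2 hua.2.2.1
  rw [hEven, hOne, ← Finset.sum_add_distrib, Finset.sum_congr rfl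
    (fun z hz => by rw [hBB z hz, hsplit z hz] : ∀ z ∈ I, (A z).card + (B z).card = I.card),
    Finset.sum_const, smul_eq_mul, pow_two, hIcard]

end CfsgLib.BlockA.DihedralBlock
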