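import Cfsg.Agent.Lib.BlockA.SectionOrth
import Cfsg.Agent.Lib.BlockA.AbelianSubsections
import Cfsg.Agent.Lib.BlockA.CentralizerBlock
import Cfsg.Agent.Lib.BlockB.StarNilpotent

/-!
The subsections above a nilpotent block of a subgroup containing the centralizer: the block parts
are the values of integral combinations of the characters of the defect group times one function.
-/

set_option autoImplicit false
set_option linter.unusedSectionVars false
set_option maxHeartbeats 1000000

namespace CfsgLib.BlockA.NilpotentSection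

open Cfsg CfsgLib.Block CfsgLib.BlockA CfsgLib.BlockB CfsgLib.BlockB.SubSum
  CfsgLib.BlockB.HeightBound CfsgLib.BlockB.Star AbelianSub SectionOrth
open scoped ComplexConjugate

universe u

variable {G : Type u} [Group G] [Fintype G] {p : ℕ} {M : Ideal AlgInt} [M.IsPrime]

local notation "cen" Q => Subgroup.centralizer ((Q : Subgroup G) : Set G)

/-- The extension by zero of a function on a subgroup. -/
noncomputable def psiExt {H : Subgroup G} (f : H → ℂ) (g : G) : ℂ := by
  classical exact if hg : g ∈ H then f ⟨g, hg⟩ else 0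

theorem psiExt_coe {H : Subgroup G} (f : H → ℂ) (g : H) : psiExt f (g : G) = f g := by
  rw [psiExt, dif_pos g.2]

/-- The combination of the characters of the defect group attached to a character. -/
noncomputable def fval {H : Subgroup G} [Fintype H] {P : Subgroup H} [Fintype (IrrCharacter P)]
    {g : Set (IrrCharacter H)} (Φ : IrrCharacter P ≃ g) (χ : IrrCharacter G) (v : P) : ℂ :=
  ∑ θ : IrrCharacter P,
    classInner (fun h : H => (χ : G → ℂ) h) (((Φ θ : g) : IrrCharacter H) : H → ℂ) * (θ : P → ℂ) v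

theorem exists_mult {H : Subgroup G} [Fintype H] {P : Subgroup H}
    {g : Set (IrrCharacter H)} (Φ : IrrCharacter P ≃ g) (χ : IrrCharacter G) :
    ∃ n : IrrCharacter P → ℕ, ∀ θ,
      classInner (fun h : H => (χ : G → ℂ) h) (((Φ θ : g) : IrrCharacter H) : H → ℂ) = n θ := by
  choose n hn using fun θ => CfsgLib.Char.classInner_isCharacter_nat
    (CfsgLib.Char.isCharacter_restrict (CfsgLib.Char.irr_isCharacter χ.2) H)
    (CfsgLib.Char.irr_isCharacter ((Φ θ : g) : IrrCharacter H).2)
  exact ⟨n, hn⟩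

variable (hM : IsPModular p M) {B : Set (IrrCharacter G)} {P : Subgroup G}
  {c : Set (IrrCharacter (Subgroup.centralizer (P : Set G)))}
variable (hmax : IsMaximalBrauerPair p M B P c)
include hM hmax

/-- The block below the maximal pair at an element, as a block of any group equal to the
centralizer. -/
theorem exists_block_below {v : G} (hv : v ∈ P) {K : Subgroup G}
    (hK : K = Subgroup.centralizer ({v} : Set G)) :
    ∃ b : Set (IrrCharacter K), IsInducedBlock M K b B ∧
      subgroupBlockCoeff K b = beta hM hmax v := by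
  obtain ⟨f, hf, hfle⟩ := exists_below hM hmax hv
  have hfB := (isBrauerPairOf_iff_of_le hM hmax.1.1 hfle hmax.1.2.1).1 hmax.1
  have key : ∀ H : Subgroup G, H = (cen (Subgroup.zpowers v)) →
      ∃ b : Set (IrrCharacter H), IsInducedBlock M H b B ∧
        subgroupBlockCoeff H b = subgroupBlockCoeff (cen (Subgroup.zpowers v)) f := by
    rintro _ rfl
    exact ⟨f, isInducedBlock_of_isBrauerPairOf hM hfB, rfl⟩
  obtain ⟨b, h1, h2⟩ := key K (hK.trans (cen_zpowers v).symm)
  exact ⟨b, h1, h2.trans (beta_eq_of_below hM hmax hv rfl hfle)⟩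

variable {H : Subgroup G} [Fintype H] (hPH : P ≤ H) (hc : CenEq (P.subgroupOf H) P)
  {g : Set (IrrCharacter H)}
  (hmaxH : IsMaximalBrauerPair p M g (P.subgroupOf H) (subBlock hc c))
  (hnil : IsNilpotentBlock p M g) {ψ : IrrCharacter H} (hψ : ψ ∈ g)
  {Φ : IrrCharacter (P.subgroupOf H) ≃ g}
  (hΦ : ∀ θ : IrrCharacter (P.subgroupOf H), (((Φ θ : g) : IrrCharacter H) : H → ℂ) =
    CfsgLib.BlockB.Star.star p M (P.subgroupOf H) (subBlock hc c) (ψ : H → ℂ) (θ : P.subgroupOf H → ℂ))
include hPH hc hmaxH hnil hψ hΦ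

open Classical in
/-- **The block parts at a subsection.** -/
theorem section_data [Fintype (IrrCharacter (P.subgroupOf H))] (v : P.subgroupOf H)
    (hle : Subgroup.centralizer ({((v : H) : G)} : Set G) ≤ H)
    {b : Set (IrrCharacter (Subgroup.centralizer ({((v : H) : G)} : Set G)))}
    (hb : IsInducedBlock M (Subgroup.centralizer ({((v : H) : G)} : Set G)) b B)
    (hbβ : subgroupBlockCoeff (Subgroup.centralizer ({((v : H) : G)} : Set G)) b =
      beta hM hmax ((v : H) : G)) :
    (∀ (χ : IrrCharacter G) (y : Subgroup.centralizer ({((v : H) : G)} : Set G)),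
      ¬ p ∣ orderOf y → bp b χ y = fval Φ χ v *
        blockPart b (fun k : Subgroup.centralizer ({((v : H) : G)} : Set G) =>
          psiExt (ψ : H → ℂ) (((v : H) : G) * (k : G))) y) ∧
      ∀ y y' : Subgroup.centralizer ({((v : H) : G)} : Set G),
        ¬ p ∣ orderOf y → ¬ p ∣ orderOf y' →
        ∑ φ ∈ b.toFinite.toFinset, conj ((φ : _ → ℂ) y') * (φ : _ → ℂ) y =
          (Nat.card (Subgroup.centralizer ({v} : Set (P.subgroupOf H))) : ℂ) *
            (conj (blockPart b (fun k : Subgroup.centralizer ({((v : H) : G)} : Set G) =>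
              psiExt (ψ : H → ℂ) (((v : H) : G) * (k : G))) y') *
            blockPart b (fun k : Subgroup.centralizer ({((v : H) : G)} : Set G) =>
              psiExt (ψ : H → ℂ) (((v : H) : G) * (k : G))) y) := by
  have := Fact.mk hM.1
  let K := Subgroup.centralizer ({((v : H) : G)} : Set G)
  have := Fintype.ofFinite K
  have := Fintype.ofFinite (IrrCharacter H)
  let L := Subgroup.centralizer ({(v : H)} : Set H)
  have := Fintype.ofFinite L
  have := Fintype.ofFinite (IrrCharacter L)
  let σ : K ≃* L :=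
    { toFun := fun k => ⟨⟨k, hle k.2⟩, Subgroup.mem_centralizer_singleton_iff.2
        (Subtype.ext (Subgroup.mem_centralizer_singleton_iff.1 k.2))⟩
      invFun := fun l => ⟨((l : H) : G), Subgroup.mem_centralizer_singleton_iff.2
        (congrArg Subtype.val (Subgroup.mem_centralizer_singleton_iff.1 l.2))⟩
      left_inv := fun _ => rfl
      right_inv := fun _ => rfl
      map_mul' := fun _ _ => rfl }
  have hvP : ((v : H) : G) ∈ P := v.2
  obtain ⟨β, hβg, hβc⟩ := exists_block_below hM hmaxH (v := (v : H)) v.2 (K := L) rfl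
  -- the block below the maximal pair is the transported one
  have hblk : b = blockMap σ β := by
    refine subgroupBlockCoeff_injective hM hb.1 (isPBlock_blockMap _ hβg.1) ?_
    obtain ⟨f, hf, hfle⟩ := exists_below hM hmax hvP
    have hCQ : (cen (Subgroup.zpowers ((v : H) : G))) ≤ H := by rw [cen_zpowers]; exact hle
    obtain ⟨h₁, h₂, hle'⟩ := subpairLE_subBlock hM hfle hPH hCQ
    have hQ : (Subgroup.zpowers ((v : H) : G)).subgroupOf H = Subgroup.zpowers (v : H) := by
      ext x
      simp only [Subgroup.mem_subgroupOf, Subgroup.mem_zpowers_iff, Subtype.ext_iff]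
      push_cast
      rfl
    have hcβ := beta_eq_of_below hM hmaxH v.2 hQ hle'
    rw [hbβ, ← beta_eq_of_below hM hmax hvP rfl hfle]
    funext k
    by_cases hk : k ∈ K
    · have hkQ : k ∈ cen (Subgroup.zpowers ((v : H) : G)) := by rw [cen_zpowers]; exact hk
      have e := congrFun (hcβ.trans hβc.symm) (⟨k, hle hk⟩ : H)
      have hk1 : (⟨k, hle hk⟩ : H) ∈ Subgroup.centralizer
          (((Subgroup.zpowers ((v : H) : G)).subgroupOf H : Subgroup H) : Set H) :=
        (((cenEq_iff _ _).1 h₁).2 _).2 hkQ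
      have hk2 : (⟨k, hle hk⟩ : H) ∈ L := (σ ⟨k, hk⟩).2
      rw [subgroupBlockCoeff, subgroupBlockCoeff, dif_pos hk1, dif_pos hk2, subBlock,
        blockCoeff_blockMap] at e
      rw [subgroupBlockCoeff, subgroupBlockCoeff, dif_pos hkQ, dif_pos hk, blockCoeff_blockMap]
      refine Eq.trans ?_ e
      congr 1
    · have hkQ : k ∉ cen (Subgroup.zpowers ((v : H) : G)) := by rw [cen_zpowers]; exact hk
      rw [subgroupBlockCoeff, subgroupBlockCoeff, dif_neg hkQ, dif_neg hk]
  -- the orders
  obtain ⟨i, hi⟩ := IsPGroup.iff_orderOf.1 hmaxH.1.1.1 v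
  rw [← Subgroup.orderOf_coe] at hi
  have hv'p : ∃ i : ℕ, orderOf (v : H) = p ^ i := ⟨i, hi⟩
  obtain ⟨fb, -, hfb⟩ := exists_below hM hmaxH v.2
  have hrep : Rep p M (P.subgroupOf H) (subBlock hc c) (v : H) (subgroupBlockCoeff L β) v :=
    ⟨1, fb, by simp, hfb, by
      rw [beta_eq_of_below hM hmaxH v.2 rfl hfb, conjFun_one]; exact hβc⟩
  set Ψ : L → ℂ := fun y => blockPart β (fun l : L => (ψ : H → ℂ) ((v : H) * (l : H))) y with hΨ
  have hη : ∀ θ : IrrCharacter (P.subgroupOf H), ∀ y : L, ¬ p ∣ orderOf y →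
      blockPart β (fun l : L => (((Φ θ : g) : IrrCharacter H) : H → ℂ) ((v : H) * (l : H))) y =
        (θ : P.subgroupOf H → ℂ) v * Ψ y := by
    intro θ y hy
    have hstab := isStable_of_nilpotent hM hmaxH hnil (CfsgLib.Char.irr_isClassFunction θ.2)
    rw [blockPart_star hM hmaxH (χ := ψ) hstab (hΦ θ) hv'p hβg.1 hy,
      L_eq hM hmaxH.1.1 hstab hrep]
  have hΨK : ∀ y : K, blockPart b (fun k : K => psiExt (ψ : H → ℂ) (((v : H) : G) * (k : G))) y =
      Ψ (σ y) := by
    intro y
    have e : (fun k : K => psiExt (ψ : H → ℂ) (((v : H) : G) * (k : G))) =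
        fun k : K => (fun l : L => (ψ : H → ℂ) ((v : H) * (l : H))) (σ k) :=
      funext fun k => psiExt_coe (ψ : H → ℂ) ((v : H) * (σ k : H))
    rw [e, hblk, Contribution.blockPart_blockMap σ (Contribution.isClassFunction_shift ψ (v : H))]
  refine ⟨fun χ y hy => ?_, fun y y' hy hy' => ?_⟩
  · obtain ⟨k, hk⟩ : ∃ k : IrrCharacter H → ℕ, ∀ θ : IrrCharacter H,
        classInner (fun h : H => (χ : G → ℂ) h) (θ : H → ℂ) = k θ := by
      choose k hk using fun θ : IrrCharacter H => CfsgLib.Char.classInner_isCharacter_nat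
        (CfsgLib.Char.isCharacter_restrict (CfsgLib.Char.irr_isCharacter χ.2) H)
        (CfsgLib.Char.irr_isCharacter θ.2)
      exact ⟨k, hk⟩
    rw [hΨK]
    have hy' : ¬ p ∣ orderOf (σ y) := by rwa [MulEquiv.orderOf_eq]
    have hexp : (fun l : L => (χ : G → ℂ) (((v : H) * (l : H) : H) : G)) =
        fun l : L => ∑ θ : IrrCharacter H, (k θ : ℂ) * (θ : H → ℂ) ((v : H) * (l : H)) := by
      funext l
      rw [CfsgLib.Char.classFunction_apply_eq_sum
        (ψ := fun h : H => (χ : G → ℂ) h) (fun a b => by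
          simp only [Subgroup.coe_mul, Subgroup.coe_inv]
          exact CfsgLib.Char.irr_isClassFunction χ.2 _ _) ((v : H) * (l : H))]
      exact Finset.sum_congr rfl fun θ _ => by rw [hk]
    have hcl : IsClassFunction L (fun l : L => (χ : G → ℂ) (((v : H) * (l : H) : H) : G)) := by
      intro a b
      rw [hexp]
      exact Finset.sum_congr rfl fun θ _ =>
        congrArg (fun z : ℂ => (k θ : ℂ) * z)
          ((Contribution.isClassFunction_shift θ (v : H)) a b)
    rw [bp, show (fun k : K => (χ : G → ℂ) (((v : H) : G) * (k : G))) =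
        fun k => (fun l : L => (χ : G → ℂ) (((v : H) * (l : H) : H) : G)) (σ k) from rfl, hblk,
      Contribution.blockPart_blockMap σ hcl, hexp, blockPart_sum_smul]
    rw [← Finset.sum_subset (Finset.subset_univ g.toFinite.toFinset) fun θ _ hθ => ?_]
    · rw [fval, Finset.sum_mul]
      refine (Finset.sum_bij (fun θ _ => ((Φ θ : g) : IrrCharacter H))
        (fun θ _ => g.toFinite.mem_toFinset.2 (Φ θ).2)
        (fun θ _ θ' _ h => Φ.injective (Subtype.ext h))
        (fun θ hθ => ⟨Φ.symm ⟨θ, g.toFinite.mem_toFinset.1 hθ⟩, Finset.mem_univ _,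
          by rw [Equiv.apply_symm_apply]⟩) fun θ _ => ?_).symm
      rw [hη θ (σ y) hy', hk]
      ring
    · rw [blockPart_centralizer_eq_zero hM hv'p (isPBlock_blockOf θ) (mem_blockOf_self θ)
        hβg.1 (fun h => hθ ?_) hy', mul_zero]
      rw [Set.Finite.mem_toFinset, isInducedBlock_unique _ hβg h]
      exact mem_blockOf_self θ
  · rw [hΨK, hΨK]
    have hyL : ¬ p ∣ orderOf (σ y) := by rwa [MulEquiv.orderOf_eq]
    have hyL' : ¬ p ∣ orderOf (σ y') := by rwa [MulEquiv.orderOf_eq]
    have h1 := sum_bp_same hM hv'p (B := g) hmaxH.1.2.1 hβg hβg.1 hyL hyL'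
    rw [if_pos rfl] at h1
    calc ∑ φ ∈ b.toFinite.toFinset, conj ((φ : K → ℂ) y') * (φ : K → ℂ) y
        = ∑ φ ∈ β.toFinite.toFinset, conj ((φ : L → ℂ) (σ y')) * (φ : L → ℂ) (σ y) := by
          subst hblk
          refine (Finset.sum_bij (fun φ _ => irrMap σ φ) (fun φ hφ => ?_)
            (fun φ _ φ' _ e => irrMap_injective σ e) (fun φ hφ => ?_) fun φ _ => ?_).symm
          · exact (Set.Finite.mem_toFinset _).2 ⟨φ, (Set.Finite.mem_toFinset _).1 hφ, rfl⟩
          · obtain ⟨φ₀, hφ₀, e⟩ := (Set.Finite.mem_toFinset _).1 hφ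
            exact ⟨φ₀, (Set.Finite.mem_toFinset _).2 hφ₀, e⟩
          · simp only [irrMap_apply]
      _ = ∑ θ : IrrCharacter (P.subgroupOf H),
            ((θ : P.subgroupOf H → ℂ) v * conj ((θ : P.subgroupOf H → ℂ) v)) *
              (conj (Ψ (σ y')) * Ψ (σ y)) := by
          rw [← h1]
          refine (Finset.sum_bij (fun θ _ => ((Φ θ : g) : IrrCharacter H))
            (fun θ _ => g.toFinite.mem_toFinset.2 (Φ θ).2)
            (fun θ _ θ' _ h => Φ.injective (Subtype.ext h))
            (fun θ hθ => ⟨Φ.symm ⟨θ, g.toFinite.mem_toFinset.1 hθ⟩, Finset.mem_univ _,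
              by rw [Equiv.apply_symm_apply]⟩) fun θ _ => ?_).symm
          simp only [bp]
          rw [hη θ _ hyL, hη θ _ hyL', map_mul]
          ring
      _ = _ := by
          rw [← Finset.sum_mul, CfsgLib.Char.column_orthogonality, if_pos (IsConj.refl v)]

end CfsgLib.BlockA.NilpotentSection
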