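import Cfsg.Agent.Lib.BlockA.DihedralFus
import Cfsg.Agent.Lib.BlockA.NilpotentSection
import Cfsg.Agent.Lib.BlockA.MajorValuation
import Cfsg.Agent.Lib.BlockA.RegMatrix
import Cfsg.Agent.Lib.BlockA.AbelianRankCount
import Cfsg.Agent.Lib.Char.Diag

/-!
A block with dihedral defect group: the columns of the subsections at the rotations.
-/

set_option autoImplicit false
set_option linter.unusedSectionVars false
set_option maxHeartbeats 1000000

namespace CfsgLib.BlockA.DihedralDefect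

open Cfsg CfsgLib.Block CfsgLib.BlockA CfsgLib.BlockB CfsgLib.BlockB.SubSum
  CfsgLib.BlockB.HeightBound AbelianSub SectionOrth NilpotentSection
open scoped ComplexConjugate

universe u

variable {G : Type u} [Group G] [Fintype G] {M : Ideal AlgInt} [M.IsPrime]
  {B : Set (IrrCharacter G)} {P : Subgroup G}
  {c : Set (IrrCharacter (Subgroup.centralizer (P : Set G)))} {r : G} {h : ℕ}

/-- The centralizer of the central involution. -/
abbrev cz (r : G) (h : ℕ) : Subgroup G := Subgroup.centralizer ({r ^ h} : Set G)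

/-- The nilpotent block at the central involution with its parametrisation. -/
structure Setup (M : Ideal AlgInt) [M.IsPrime] (P : Subgroup G)
    (c : Set (IrrCharacter (Subgroup.centralizer (P : Set G)))) (r : G) (h : ℕ)
    [Fintype (cz r h)] where
  g : Set (IrrCharacter (cz r h))
  hc : CenEq (P.subgroupOf (cz r h)) P
  hmaxH : IsMaximalBrauerPair 2 M g (P.subgroupOf (cz r h)) (subBlock hc c)
  hnil : IsNilpotentBlock 2 M g
  ψ : IrrCharacter (cz r h)
  hψ : ψ ∈ g
  Φ : IrrCharacter (P.subgroupOf (cz r h)) ≃ g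
  hΦ : ∀ θ : IrrCharacter (P.subgroupOf (cz r h)),
    (((Φ θ : g) : IrrCharacter (cz r h)) : cz r h → ℂ) =
      CfsgLib.BlockB.Star.star 2 M (P.subgroupOf (cz r h)) (subBlock hc c) (ψ : cz r h → ℂ)
        (θ : P.subgroupOf (cz r h) → ℂ)

theorem exists_setup (hM : IsPModular 2 M) (hmax : IsMaximalBrauerPair 2 M B P c)
    (hPD : IsDefectGroup 2 M B P) (hR : Rot P r h) [Fintype (cz r h)] :
    Nonempty (Setup M P c r h) := by
  obtain ⟨g, hc, -, hmaxH, hnil⟩ := exists_nilpotent_central hM hmax hPD hR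
  obtain ⟨ψ, hψ, h0⟩ := exists_height_zero hM hmaxH.1.2.1
  obtain ⟨Φ, hΦ⟩ := CfsgLib.BlockB.Star.exists_star_equiv hM hmaxH hnil hψ h0
  exact ⟨⟨g, hc, hmaxH, hnil, ψ, hψ, Φ, hΦ⟩⟩

variable [Fintype (cz r h)] [Fintype (IrrCharacter (P.subgroupOf (cz r h)))]

/-- A power of the rotation in the defect group of the block at the involution. -/
noncomputable def pw (hR : Rot P r h) (l : ℕ) : P.subgroupOf (cz r h) :=
  ⟨⟨r ^ l, le_centralizer_z hR (P.pow_mem hR.mem l)⟩, P.pow_mem hR.mem l⟩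

/-- The column of the subsection at a rotation. -/
noncomputable def col (hR : Rot P r h) (S : Setup M P c r h) (χ : IrrCharacter G) (l : ℕ) : ℂ :=
  fval S.Φ χ (pw hR l)

/-- The common factor of the subsection at an element. -/
noncomputable def common (S : Setup M P c r h) {v : G}
    (b : Set (IrrCharacter (Subgroup.centralizer ({v} : Set G))))
    (y : Subgroup.centralizer ({v} : Set G)) : ℂ :=
  blockPart b (fun k : Subgroup.centralizer ({v} : Set G) =>
    psiExt (S.ψ : cz r h → ℂ) (v * (k : G))) y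

variable (hR : Rot P r h) (S : Setup M P c r h)

theorem z_mem_zpowers {l : ℕ} (hl0 : 0 < l) (hl : l < 2 * h) (hR : Rot P r h) :
    r ^ h ∈ Subgroup.zpowers (r ^ l) := by
  obtain ⟨i, hi⟩ := hR.exists_two_pow l
  rcases i with _ | i
  · exact absurd (orderOf_eq_one_iff.1 (hi.trans (pow_zero 2))) (hR.pow_ne_one hl0 hl)
  have h2 : orderOf ((r ^ l) ^ 2 ^ i) = 2 := by
    rw [orderOf_pow_of_dvd (pow_ne_zero _ two_ne_zero) (hi ▸ pow_dvd_pow 2 (Nat.le_succ i)), hi,
      pow_succ, Nat.mul_div_cancel_left _ (pow_pos two_pos i)]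
  rcases hR.eq_z_of_sq (Subgroup.pow_mem _ (Subgroup.npow_mem_zpowers r l) _) (by
    rw [← pow_two, ← orderOf_dvd_iff_pow_eq_one, h2]) with e | e
  · rw [e, orderOf_one] at h2
    omega
  · exact e ▸ Subgroup.npow_mem_zpowers _ _

theorem centralizer_le_cz (hR : Rot P r h) {l : ℕ} (hl0 : 0 < l) (hl : l < 2 * h) :
    Subgroup.centralizer ({r ^ l} : Set G) ≤ cz r h := fun w hw => by
  obtain ⟨i, hi⟩ := Subgroup.mem_zpowers_iff.1 (z_mem_zpowers hl0 hl hR)
  have h1 : Commute w (r ^ l) := Subgroup.mem_centralizer_singleton_iff.1 hw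
  rw [Subgroup.mem_centralizer_singleton_iff, ← hi]
  exact (h1.zpow_right i).eq

variable (hM : IsPModular 2 M) (hmax : IsMaximalBrauerPair 2 M B P c)
include hM hmax

/-- **The subsection at a rotation.** -/
theorem rot_data {l : ℕ} (hl0 : 0 < l) (hl : l < 2 * h) :
    ∃ b : Set (IrrCharacter (Subgroup.centralizer ({r ^ l} : Set G))),
      IsInducedBlock M (Subgroup.centralizer ({r ^ l} : Set G)) b B ∧
      subgroupBlockCoeff (Subgroup.centralizer ({r ^ l} : Set G)) b = beta hM hmax (r ^ l) ∧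
      (∀ (χ : IrrCharacter G) (y : Subgroup.centralizer ({r ^ l} : Set G)),
        ¬ 2 ∣ orderOf y → bp b χ y = col hR S χ l * common S b y) ∧
      (∀ y y' : Subgroup.centralizer ({r ^ l} : Set G), ¬ 2 ∣ orderOf y → ¬ 2 ∣ orderOf y' →
        ∑ φ ∈ b.toFinite.toFinset, conj ((φ : _ → ℂ) y') * (φ : _ → ℂ) y =
          ((if h ∣ l then 4 * h else 2 * h : ℕ) : ℂ) * (conj (common S b y') * common S b y)) ∧
      common S b 1 ≠ 0 := by
  classical
  have hle := centralizer_le_cz hR hl0 hl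
  obtain ⟨b, hb, hbβ⟩ := exists_block_below hM hmax (P.pow_mem hR.mem l) (K := Subgroup.centralizer ({r ^ l} : Set G)) rfl
  obtain ⟨h1, h2⟩ := section_data hM hmax (le_centralizer_z hR) S.hc S.hmaxH S.hnil S.hψ S.hΦ
    (pw hR l) hle hb hbβ
  have hcard : Nat.card (Subgroup.centralizer ({pw hR l} : Set (P.subgroupOf (cz r h)))) =
      if h ∣ l then 4 * h else 2 * h :=
    (hR.subgroupOf (le_centralizer_z hR)).natCard_centralizer l
  have h2' : ∀ y y' : Subgroup.centralizer ({r ^ l} : Set G), ¬ 2 ∣ orderOf y → ¬ 2 ∣ orderOf y' →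
      ∑ φ ∈ b.toFinite.toFinset, conj ((φ : _ → ℂ) y') * (φ : _ → ℂ) y =
        ((if h ∣ l then 4 * h else 2 * h : ℕ) : ℂ) * (conj (common S b y') * common S b y) :=
    fun y y' hy hy' => hcard ▸ h2 y y' hy hy'
  refine ⟨b, hb, hbβ, h1, h2', fun h0 => ?_⟩
  have h3 := h2' 1 1 (by rw [orderOf_one]; norm_num) (by rw [orderOf_one]; norm_num)
  rw [h0, mul_zero, mul_zero] at h3
  obtain ⟨φ₀, hφ₀⟩ := isPBlock_nonempty hb.1
  have h4 : (((∑ φ ∈ b.toFinite.toFinset, charDegree (φ : Subgroup.centralizer ({r ^ l} : Set G) → ℂ) ^ 2 : ℕ)) : ℂ) = 0 := by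
    rw [← h3]
    push_cast
    refine Finset.sum_congr rfl fun φ _ => ?_
    rw [← CfsgLib.BlockB.irr_degree_cast φ, Complex.conj_natCast, pow_two]
  rw [Nat.cast_eq_zero] at h4
  have h5 := Finset.single_le_sum
    (f := fun φ : IrrCharacter (Subgroup.centralizer ({r ^ l} : Set G)) => charDegree (φ : Subgroup.centralizer ({r ^ l} : Set G) → ℂ) ^ 2)
    (fun φ _ => Nat.zero_le _) (b.toFinite.mem_toFinset.2 hφ₀)
  rw [h4] at h5
  exact charDegree_ne_zero φ₀.2 (by simpa using h5)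

omit hM hmax in
/-- The columns are sums of powers of the root of unity. -/
theorem exists_coeff {ζ : ℂ} (hζ : IsPrimitiveRoot ζ (2 * h)) (χ : IrrCharacter G) :
    ∃ b : ℕ → ℤ, ∀ l, col hR S χ l = ∑ s ∈ Finset.range (2 * h), (b s : ℂ) * (ζ ^ s) ^ l := by
  classical
  have : NeZero (2 * h) := ⟨by have := hR.h_pos; omega⟩
  obtain ⟨n, hn⟩ := NilpotentSection.exists_mult S.Φ χ
  have hm : ∀ θ : IrrCharacter (P.subgroupOf (cz r h)), ∃ m : ℕ → ℤ, ∀ l,
      (θ : P.subgroupOf (cz r h) → ℂ) (pw hR l) =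
        ∑ s ∈ Finset.range (2 * h), (m s : ℂ) * (ζ ^ s) ^ l := by
    intro θ
    obtain ⟨d, ρ, hρ⟩ := CfsgLib.Char.irr_isCharacter θ.2
    obtain ⟨ι, hι, bb, μ, -, hμ, h3, -⟩ := CfsgLib.Char.exists_char_eigen ρ (pw hR 1)
    have ho : orderOf (pw hR 1) = 2 * h := by
      rw [← Subgroup.orderOf_coe, ← Subgroup.orderOf_coe]
      show orderOf (r ^ 1) = _
      rw [pow_one, hR.orderOf_eq]
    rw [ho] at hμ
    have key : ∀ i, ∃ s < 2 * h, ζ ^ s = μ i := fun i => hζ.eq_pow_of_pow_eq_one (hμ i)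
    choose e he he' using key
    refine ⟨fun s => ((Finset.univ.filter fun i => e i = s).card : ℤ), fun l => ?_⟩
    have hpw : pw hR l = pw hR 1 ^ l := Subtype.ext (Subtype.ext (by
      push_cast
      show r ^ l = (r ^ 1) ^ l
      rw [pow_one]))
    rw [hpw, ← hρ, h3, ← Finset.sum_fiberwise_of_maps_to (g := e) (t := Finset.range (2 * h))
      (fun i _ => Finset.mem_range.2 (he i))]
    refine Finset.sum_congr rfl fun s _ => ?_
    rw [Finset.sum_congr rfl (g := fun _ => (ζ ^ s) ^ l), Finset.sum_const, nsmul_eq_mul]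
    · simp
    · intro i hi
      rw [← he' i, (Finset.mem_filter.1 hi).2]
  choose m hm using hm
  refine ⟨fun s => ∑ θ : IrrCharacter (P.subgroupOf (cz r h)), (n θ : ℤ) * m θ s, fun l => ?_⟩
  rw [col, fval]
  simp only [hn, hm, Finset.mul_sum]
  rw [Finset.sum_comm]
  refine Finset.sum_congr rfl fun s _ => ?_
  push_cast
  rw [Finset.sum_mul]
  exact Finset.sum_congr rfl fun θ _ => by ring

omit hM hmax in
theorem col_symm (χ : IrrCharacter G) {l : ℕ} (hl : l ≤ 2 * h) :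
    col hR S χ (2 * h - l) = col hR S χ l := by
  obtain ⟨s, hs, hsr⟩ := hR.exists_reflection
  refine Finset.sum_congr rfl fun θ _ => ?_
  congr 1
  rw [show pw hR (2 * h - l) = (⟨⟨s, le_centralizer_z hR hs⟩, hs⟩ : P.subgroupOf (cz r h)) *
    pw hR l * (⟨⟨s, le_centralizer_z hR hs⟩, hs⟩ : P.subgroupOf (cz r h))⁻¹ from
    Subtype.ext (Subtype.ext (by
      push_cast
      show r ^ (2 * h - l) = s * r ^ l * s⁻¹
      rw [hR.conj_pow hs hsr, hR.pow_sub hl])), CfsgLib.Char.irr_isClassFunction θ.2]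

omit hR S in
/-- Distinct subsections are orthogonal. -/
theorem sum_bp_eq_zero_of_ne {x x' : G} (hx : ∃ k : ℕ, orderOf x = 2 ^ k)
    (hx' : ∃ k : ℕ, orderOf x' = 2 ^ k)
    {b : Set (IrrCharacter (Subgroup.centralizer ({x} : Set G)))}
    (hb : IsInducedBlock M (Subgroup.centralizer ({x} : Set G)) b B)
    {b' : Set (IrrCharacter (Subgroup.centralizer ({x'} : Set G)))}
    (hb' : IsInducedBlock M (Subgroup.centralizer ({x'} : Set G)) b' B)
    (hne : ∀ a : G, a * x * a⁻¹ = x' →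
      conjFun a (subgroupBlockCoeff (Subgroup.centralizer ({x} : Set G)) b) ≠
        subgroupBlockCoeff (Subgroup.centralizer ({x'} : Set G)) b') :
    ∑ χ ∈ B.toFinite.toFinset, conj (bp b' χ 1) * bp b χ 1 = 0 := by
  classical
  have hB : IsPBlock M B := hb.2.1
  have h1 : ∀ (H : Subgroup G), ¬ 2 ∣ orderOf (1 : H) := fun H => by rw [orderOf_one]; norm_num
  by_cases hc : IsConj x x'
  · obtain ⟨a, rfl⟩ := isConj_iff.1 hc
    have h2 := sum_bp_same hM hx' (isInducedBlock_cenConj hb a).2.1 (isInducedBlock_cenConj hb a)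
      hb'.1 (h1 _) (h1 _)
    rw [if_neg fun e => hne a rfl (by rw [conjFun_subgroupBlockCoeff, e])] at h2
    rw [← h2]
    refine Finset.sum_congr rfl fun χ _ => ?_
    rw [bp_conj hM, map_one]
  · exact sum_bp_of_not_isConj hM hB hx hx' hc hb hb'.1 (h1 _) (h1 _)

/-- **Orthogonality of the columns.** -/
theorem col_orth {l m : ℕ} (hl0 : 0 < l) (hl : l < 2 * h) (hm0 : 0 < m) (hm : m < 2 * h) :
    ∑ χ ∈ B.toFinite.toFinset, col hR S χ l * conj (col hR S χ m) =
      ((2 * h : ℕ) : ℂ) * ((if m = l then 1 else 0) + (if m = 2 * h - l then 1 else 0)) := by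
  classical
  have h1 : ∀ (H : Subgroup G), ¬ 2 ∣ orderOf (1 : H) := fun H => by rw [orderOf_one]; norm_num
  have hself : ∑ χ ∈ B.toFinite.toFinset, col hR S χ l * conj (col hR S χ l) =
      ((if h ∣ l then 4 * h else 2 * h : ℕ) : ℂ) := by
    obtain ⟨b, hb, -, hbp, hnorm, hne⟩ := rot_data hR S hM hmax hl0 hl
    have h2 := sum_bp_same hM (hR.exists_two_pow l) hb.2.1 hb hb.1 (h1 _) (h1 _)
    rw [if_pos rfl, hnorm 1 1 (h1 _) (h1 _)] at h2
    refine mul_right_cancel₀ (mul_ne_zero ((map_ne_zero (starRingEnd ℂ)).2 hne) hne) ?_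
    rw [← h2, Finset.sum_mul]
    refine Finset.sum_congr rfl fun χ _ => ?_
    rw [hbp χ 1 (h1 _), map_mul]
    ring
  by_cases hpm : m = l ∨ m = 2 * h - l
  · have he : ∀ χ, col hR S χ m = col hR S χ l := fun χ => by
      rcases hpm with rfl | rfl
      · rfl
      · rw [col_symm hR S χ hl.le]
    simp only [he]
    rw [hself]
    by_cases hd : h ∣ l
    · obtain ⟨q, rfl⟩ := hd
      have hq : q = 1 := by
        rcases q with _ | _ | q
        · omega
        · rfl
        · nlinarith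
      subst hq
      have : m = h := by omega
      rw [if_pos (dvd_mul_right h 1), if_pos (by omega), if_pos (by omega)]
      push_cast
      ring
    · have hne : l ≠ 2 * h - l := fun e => hd ⟨1, by omega⟩
      rw [if_neg hd]
      rcases hpm with rfl | rfl
      · rw [if_pos rfl, if_neg hne]
        push_cast; ring
      · rw [if_pos rfl, if_neg hne.symm]
        push_cast; ring
  · push Not at hpm
    rw [if_neg hpm.1, if_neg hpm.2, add_zero, mul_zero]
    obtain ⟨b, hb, hbβ, hbp, -, hne⟩ := rot_data hR S hM hmax hl0 hl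
    obtain ⟨b', hb', hbβ', hbp', -, hne'⟩ := rot_data hR S hM hmax hm0 hm
    have h2 := sum_bp_eq_zero_of_ne hM hmax (hR.exists_two_pow l) (hR.exists_two_pow m) hb hb'
      fun a ha e => by
        rw [hbβ, hbβ'] at e
        rcases fus_rot hM hmax hR hl0 hl hm ha e with e' | e'
        exacts [hpm.1 e', hpm.2 e']
    refine (mul_eq_zero.1 (Eq.trans ?_ h2)).resolve_right
      (mul_ne_zero ((map_ne_zero (starRingEnd ℂ)).2 hne') hne)
    rw [Finset.sum_mul]
    refine Finset.sum_congr rfl fun χ _ => ?_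
    rw [hbp χ 1 (h1 _), hbp' χ 1 (h1 _), map_mul]
    ring

/-- The columns are orthogonal to the regular columns. -/
theorem col_regular {l : ℕ} (hl0 : 0 < l) (hl : l < 2 * h) {ρ : G} (hρ : ¬ 2 ∣ orderOf ρ) :
    ∑ χ ∈ B.toFinite.toFinset, (χ : G → ℂ) ρ * col hR S χ l = 0 := by
  obtain ⟨b, hb, -, hbp, -, hne⟩ := rot_data hR S hM hmax hl0 hl
  have h1 : ¬ 2 ∣ orderOf (1 : Subgroup.centralizer ({r ^ l} : Set G)) := by
    rw [orderOf_one]; norm_num
  have h2 := sum_bp_mul_regular hM (hR.exists_two_pow l) hb.2.1 (hR.pow_ne_one hl0 hl) hb.1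
    (ρ := ρ⁻¹) (by rwa [orderOf_inv]) h1
  refine (mul_eq_zero.1 (Eq.trans ?_ h2)).resolve_right hne
  rw [Finset.sum_mul]
  refine Finset.sum_congr rfl fun χ _ => ?_
  rw [hbp χ 1 h1, irr_conj_eq χ.2, inv_inv]
  ring

/-- The columns away from the involution are orthogonal to its values. -/
theorem col_involution {l : ℕ} (hl0 : 0 < l) (hl : l < 2 * h) (hlh : l ≠ h) :
    ∑ χ ∈ B.toFinite.toFinset, (χ : G → ℂ) (r ^ h) * col hR S χ l = 0 := by
  obtain ⟨b, hb, -, hbp, -, hne⟩ := rot_data hR S hM hmax hl0 hl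
  have h1 : ¬ 2 ∣ orderOf (1 : Subgroup.centralizer ({r ^ l} : Set G)) := by
    rw [orderOf_one]; norm_num
  have h2 := sum_bp_mul_pElt hM (hR.exists_two_pow l) hb.2.1 hb.1 (hR.exists_two_pow h)
    (fun hc => ?_) h1
  · refine (mul_eq_zero.1 (Eq.trans ?_ h2)).resolve_right hne
    rw [Finset.sum_mul]
    refine Finset.sum_congr rfl fun χ _ => ?_
    rw [hbp χ 1 h1, irr_conj_eq χ.2, hR.z_inv]
    ring
  · obtain ⟨a, ha⟩ := isConj_iff.1 hc
    have ho : orderOf (r ^ l) = 2 := by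
      rw [← hR.orderOf_z, ← ha]
      exact (MulEquiv.orderOf_eq (MulAut.conj a) _).symm
    rcases hR.eq_z_of_sq (Subgroup.npow_mem_zpowers r l) (by
      rw [← pow_two, ← orderOf_dvd_iff_pow_eq_one, ho]) with e | e
    · exact hR.pow_ne_one hl0 hl e
    · exact hlh (hR.pow_inj hl (by have := hR.h_pos; omega) e)

/-- **The values at the involution and the heights.** -/
theorem col_height (hPD : IsDefectGroup 2 M B P) {χ : IrrCharacter G} (hχ : χ ∈ B) :
    ∀ a : ℤ, col hR S χ h = (a : ℂ) → a ≠ 0 ∧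
      ((2 : ℤ) ^ blockHeight 2 B (χ : G → ℂ)) ∣ a ∧
      ¬ ((2 : ℤ) ^ (blockHeight 2 B (χ : G → ℂ) + 1)) ∣ a := by
  classical
  intro a ha
  have := Fact.mk hM.1
  have := Fintype.ofFinite (IrrCharacter G)
  have hh0 := hR.h_pos
  have hh2 : h < 2 * h := by omega
  have hx : ∃ k : ℕ, orderOf (r ^ h) = 2 ^ k := hR.exists_two_pow h
  obtain ⟨b, hb, hbβ, hbp, hnorm, -⟩ := rot_data hR S hM hmax hh0 hh2
  obtain ⟨f, hf, hfle⟩ := exists_below hM hmax hR.z_mem
  obtain ⟨b₀, hb₀, hb₀β, hd₀⟩ := exists_major hM hmax hR.z_mem (fun w hw => hR.commute_z hw) hfle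
  obtain rfl : b₀ = b := subgroupBlockCoeff_injective hM hb₀.1 hb.1
    (hb₀β.trans ((beta_eq_of_below hM hmax hR.z_mem rfl hfle).trans hbβ.symm))
  have hd : ((2 ^ blockDefect 2 b₀ : ℕ) : ℂ) = ((4 * h : ℕ) : ℂ) := by
    rw [hd₀, ← natCard_defectGroup hM hmax.1.2.1 hPD, hR.card_eq]
  let K := Subgroup.centralizer ({r ^ h} : Set G)
  set N : ℂ := (Nat.card K : ℂ)⁻¹ * ∑ y : K, regInd 2 y * (common S b₀ y * conj (common S b₀ y))
    with hN
  have hrank : (blockRank 2 b₀ : ℂ) = ((4 * h : ℕ) : ℂ) * N := by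
    rw [CfsgLib.BlockB.blockRank_eq_sum hM hb₀.1, hN]
    simp only [CfsgLib.Char.classInner_def, Finset.mul_sum]
    rw [Finset.sum_comm]
    refine Finset.sum_congr (by ext; simp) fun y _ => ?_
    by_cases hy : 2 ∣ orderOf y
    · simp [regInd, hy]
    · have h1 := hnorm y y hy hy
      rw [if_pos dvd_rfl] at h1
      calc ∑ φ ∈ b₀.toFinite.toFinset,
            (Nat.card K : ℂ)⁻¹ * (regInd 2 y * (φ : K → ℂ) y * conj ((φ : K → ℂ) y))
          = (Nat.card K : ℂ)⁻¹ * regInd 2 y *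
              ∑ φ ∈ b₀.toFinite.toFinset, conj ((φ : K → ℂ) y) * (φ : K → ℂ) y := by
            rw [Finset.mul_sum]
            exact Finset.sum_congr rfl fun φ _ => by ring
        _ = _ := by rw [h1]; ring
  have hsub : ∀ χ ξ : IrrCharacter G, subEntry 2 b₀ χ ξ 1 =
      (blockRank 2 b₀ : ℂ) * (col hR S χ h * conj (col hR S ξ h)) := by
    intro χ ξ
    rw [subEntry_one hM hx hb₀, hd, hrank, hN, CfsgLib.Char.classInner_def]
    simp only [Finset.mul_sum, Finset.sum_mul]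
    refine Finset.sum_congr (by ext; simp) fun y _ => ?_
    by_cases hy : 2 ∣ orderOf y
    · simp [sectionFun, regInd, hy]
    · have e : ∀ χ : IrrCharacter G, sectionFun 2 (r ^ h) b₀ (χ : G → ℂ) y =
          col hR S χ h * common S b₀ y := fun χ => by
        rw [sectionFun, ← hbp χ y hy, regInd, if_neg hy, one_mul]
        rfl
      rw [e, e, regInd, if_neg hy, map_mul]
      ring
  have hint : ∀ χ : IrrCharacter G, ∃ a : ℤ, col hR S χ h = (a : ℂ) := by
    intro χ
    obtain ⟨ζ, hζ⟩ : ∃ ζ : ℂ, IsPrimitiveRoot ζ (2 * h) :=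
      ⟨_, Complex.isPrimitiveRoot_exp (2 * h) (by omega)⟩
    obtain ⟨bb, hbb⟩ := exists_coeff hR S hζ χ
    have hhalf : ζ ^ h = -1 := by
      have h1 : ζ ^ h * ζ ^ h = 1 := by rw [← pow_add, ← two_mul, hζ.pow_eq_one]
      rcases mul_self_eq_one_iff.1 h1 with e | e
      · have := Nat.le_of_dvd hh0 ((hζ.pow_eq_one_iff_dvd h).1 e)
        omega
      · exact e
    refine ⟨∑ s ∈ Finset.range (2 * h), bb s * (-1) ^ s, ?_⟩
    rw [hbb]
    push_cast
    refine Finset.sum_congr rfl fun s _ => ?_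
    rw [← pow_mul, mul_comm s, pow_mul, hhalf]
  obtain ⟨ξ, hξ, hξ0⟩ := exists_height_zero hM hb₀.2.1
  obtain ⟨e, he⟩ := hint ξ
  have h1 := not_memLocalIdeal_subEntry hM hx hb₀ hξ hξ hξ0 hξ0
  rw [hsub, he, map_intCast, ← Int.cast_natCast, ← Int.cast_mul, ← Int.cast_mul,
    ← div_one ((Int.cast _ : ℂ)), ← Nat.cast_one, memLocalIdeal_intCast_div_iff hM one_ne_zero,
    Nat.factorization_one, Finsupp.coe_zero, Pi.zero_apply, zero_add, pow_one] at h1
  have hodd : ¬ (2 : ℤ) ∣ (blockRank 2 b₀ : ℤ) * e := fun hd2 => h1 (by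
    push_cast
    rw [← mul_assoc]
    exact dvd_mul_of_dvd_left hd2 e)
  have hpow : (2 ^ blockHeight 2 B (χ : G → ℂ)).factorization 2 = blockHeight 2 B (χ : G → ℂ) := by
    rw [Nat.Prime.factorization_pow Nat.prime_two, Finsupp.single_eq_same]
  have h2 := memLocalRing_subEntry_div hM hx hb₀ hd₀ hχ ξ
  have h3 : ¬ MemLocalIdeal M (subEntry 2 b₀ χ ξ 1 / ((2 ^ blockHeight 2 B (χ : G → ℂ) : ℕ) : ℂ)) :=
    fun hh => (memLocalIdeal_subEntry_div_iff hM hx hb₀ hd₀ hχ hξ).1 hh hξ0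
  rw [hsub, ha, he, map_intCast, ← Int.cast_natCast, ← Int.cast_mul, ← Int.cast_mul] at h2 h3
  have h4 := pow_dvd_of_memLocalRing hM h2
  rw [memLocalIdeal_intCast_div_iff hM (pow_ne_zero _ two_ne_zero), hpow] at h3
  rw [hpow] at h4
  push_cast at h3 h4
  have hcop : IsCoprime ((2 : ℤ) ^ blockHeight 2 B (χ : G → ℂ)) ((blockRank 2 b₀ : ℤ) * e) :=
    ((Int.prime_two.coprime_iff_not_dvd).2 hodd).pow_left
  refine ⟨fun h0 => h3 (by rw [h0]; simp), hcop.dvd_of_dvd_mul_right ?_, fun hd2 => h3 ?_⟩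
  · rw [show a * ((blockRank 2 b₀ : ℤ) * e) = (blockRank 2 b₀ : ℤ) * (a * e) by ring]
    exact h4
  · exact dvd_mul_of_dvd_right (dvd_mul_of_dvd_left hd2 _) _

end CfsgLib.BlockA.DihedralDefect
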