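import Cfsg.Agent.Lib.BlockA.DihedralCentral
import Cfsg.Agent.Lib.BlockA.AbelianSubsections

/-!
A block with dihedral defect group: the subsections at rotations are fused only to their inverses.
-/

set_option autoImplicit false
set_option linter.unusedSectionVars false
set_option maxHeartbeats 1000000

namespace CfsgLib.BlockA.DihedralDefect

open Cfsg CfsgLib.Block CfsgLib.BlockA CfsgLib.BlockB CfsgLib.BlockB.HeightBound
  CfsgLib.BlockB.SubSum AbelianSub MonoidAlgebra CfsgLib.Fusion

universe u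

variable {G : Type u} [Group G] [Fintype G] {M : Ideal AlgInt} [M.IsPrime]

local notation "cen" Q => Subgroup.centralizer ((Q : Subgroup G) : Set G)

variable {B : Set (IrrCharacter G)} {P : Subgroup G}
  {c : Set (IrrCharacter (Subgroup.centralizer (P : Set G)))} {r : G} {h : ℕ}
variable (hM : IsPModular 2 M) (hmax : IsMaximalBrauerPair 2 M B P c) (hR : Rot P r h)
include hM hmax hR

theorem fus_rot {a : G} {l m : ℕ} (hl0 : 0 < l) (hl : l < 2 * h) (hm : m < 2 * h)
    (ha : a * r ^ l * a⁻¹ = r ^ m)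
    (hβ : conjFun a (beta hM hmax (r ^ l)) = beta hM hmax (r ^ m)) :
    m = l ∨ m = 2 * h - l := by
  classical
  have := Fact.mk hM.1
  have he := hmax.1.1
  have ho : orderOf (r ^ l) = orderOf (r ^ m) := by
    rw [← ha]
    exact (MulEquiv.orderOf_eq (MulAut.conj a) _).symm
  have hm0 : 0 < m := by
    rcases Nat.eq_zero_or_pos m with rfl | hm0
    · rw [pow_zero, orderOf_one, orderOf_eq_one_iff] at ho
      exact absurd ho (hR.pow_ne_one hl0 hl)
    · exact hm0
  by_cases hd : h ∣ l
  · obtain ⟨q, rfl⟩ := hd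
    have hq : q = 1 := by
      rcases q with _ | _ | q
      · omega
      · rfl
      · nlinarith
    subst hq
    rw [mul_one, hR.orderOf_z] at ho
    have h2 : r ^ m * r ^ m = 1 := by
      rw [← pow_two, ← orderOf_dvd_iff_pow_eq_one, ← ho]
    rcases hR.eq_z_of_sq (Subgroup.npow_mem_zpowers r m) h2 with e | e
    · exact absurd e (hR.pow_ne_one hm0 hm)
    · exact Or.inl (by rw [mul_one]; exact hR.pow_inj hm (by omega) e)
  set Q := Subgroup.zpowers (r ^ l) with hQdef
  have hQle : Q ≤ P := Subgroup.zpowers_le.2 (P.pow_mem hR.mem l)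
  have hQr : Q ≤ Subgroup.zpowers r := Subgroup.zpowers_le.2 (Subgroup.npow_mem_zpowers r l)
  have hQm : Subgroup.zpowers (r ^ m) = Q := by
    have key : ∀ k : ℕ, Subgroup.zpowers (r ^ k) = Subgroup.zpowers (r ^ Nat.gcd (orderOf r) k) := by
      intro k
      obtain ⟨q, hq⟩ := Nat.gcd_dvd_right (orderOf r) k
      refine Subgroup.eq_of_le_of_card_ge (Subgroup.zpowers_le.2 ?_) ?_
      · rw [show r ^ k = (r ^ Nat.gcd (orderOf r) k) ^ q by rw [← pow_mul, ← hq]]
        exact Subgroup.npow_mem_zpowers _ q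
      · rw [Nat.card_zpowers, Nat.card_zpowers, orderOf_pow, orderOf_pow,
          Nat.gcd_eq_right (Nat.gcd_dvd_left (orderOf r) k)]
    have hg : Nat.gcd (orderOf r) l = Nat.gcd (orderOf r) m := by
      rw [orderOf_pow, orderOf_pow] at ho
      have hpos := orderOf_pos r
      have e1 := Nat.div_mul_cancel (Nat.gcd_dvd_left (orderOf r) l)
      have e2 := Nat.div_mul_cancel (Nat.gcd_dvd_left (orderOf r) m)
      rw [← ho] at e2
      refine Nat.eq_of_mul_eq_mul_left (Nat.pos_of_ne_zero fun e => ?_) (e1.trans e2.symm)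
      rw [e, zero_mul] at e1
      omega
    rw [hQdef, key m, key l, hg]
  have hmap : Q.map (MulAut.conj a).toMonoidHom = Q := by
    rw [hQdef, MonoidHom.map_zpowers]
    show Subgroup.zpowers (a * r ^ l * a⁻¹) = _
    rw [ha, hQm]
  obtain ⟨f, hf, hfle⟩ := exists_below hM hmax (hQle (Subgroup.mem_zpowers (r ^ l)))
  have hfb := isBrauerPair_of_subpairLE he hfle
  have hfb' : subgroupBlockCoeff (cen Q) f = beta hM hmax (r ^ m) :=
    beta_eq_of_below hM hmax (P.pow_mem hR.mem m) hQm.symm hfle
  have hfl : subgroupBlockCoeff (cen Q) f = beta hM hmax (r ^ l) :=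
    beta_eq_of_below hM hmax (P.pow_mem hR.mem l) rfl hfle
  have hidx : (⟨Q.map (MulAut.conj a).toMonoidHom, conjBlock Q a f⟩ : BrauerPairIdx G) = ⟨Q, f⟩ := by
    refine pairIdx_ext hM hmap (isBrauerPair_conj hM hfb a).2 hfb.2 ?_
    ext g
    rw [coeff_sIdem_conjBlock hM]
    have hcoef : ∀ (H : Subgroup G) (c : Set (IrrCharacter H)) (g : G),
        (sIdem M H c).coeff g = redC M (subgroupBlockCoeff H c g) := by
      intro H c g
      by_cases hg : g ∈ H
      · rw [show g = ((⟨g, hg⟩ : H) : G) from rfl, sIdem, coeff_inclSub_of_mem, coeff_blkIdem,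
          subgroupBlockCoeff, dif_pos hg]
      · rw [sIdem, coeff_inclSub_of_not_mem _ _ hg, subgroupBlockCoeff, dif_neg hg, redC_zero]
    rw [hcoef, hcoef]
    conv_rhs => rw [hfb', ← hβ, ← hfl]
    rfl
  have hfus : IsFus 2 M P c Q a := by
    refine ⟨hmap.le.trans hQle, f, hfle, ?_⟩
    unfold SubpairLE at hfle ⊢
    rwa [hidx]
  have haN : a ∈ Subgroup.normalizer (Q : Set G) := mem_normalizer_of_map_le hmap.le
  set F := blockFusion hM he
  have hF := isBlockFusionSystemOn_blockFusion hM hmax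
  have hS : IsPGroup 2 P := he.1
  have hPN : P ≤ Subgroup.normalizer (Q : Set G) := fun w hw => by
    refine mem_normalizer_of_map_le ?_
    rw [hQdef, MonoidHom.map_zpowers]
    refine Subgroup.zpowers_le.2 ?_
    show w * r ^ l * w⁻¹ ∈ Subgroup.zpowers (r ^ l)
    by_cases hwr : w ∈ Subgroup.zpowers r
    · obtain ⟨i, rfl⟩ := hwr
      rw [((Commute.refl r).zpow_left i).pow_right l |>.eq, mul_inv_cancel_right]
      exact Subgroup.mem_zpowers _
    · rw [hR.conj_pow hw hwr l]
      exact inv_mem (Subgroup.mem_zpowers _)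
  have hFN : F.IsFullyNormalized Q := by
    refine ⟨hQle, fun R _ => ?_⟩
    rw [show FusionSystem.normalizerIn P Q = P from inf_eq_left.2 hPN]
    exact Subgroup.card_le_of_le inf_le_left
  have : Finite Q := inferInstance
  let α : MulAut Q := Q.normalizerMonoidHom ⟨a, haN⟩
  have hα : α ∈ F.autGroup Q := by
    refine (autGroup_iff_isMap hQle (f := fun x => a * x * a⁻¹) fun x => rfl).2 ?_
    exact (isMap_iff hM hF).2 ⟨hQle, a, fun _ _ => rfl, hfus⟩
  obtain ⟨T, hT⟩ := (fullyAutomized_of_fullyNormalized hS (isSaturated_block hM hF) hFN).2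
  have hAut : IsPGroup 2 (F.autGroup Q) := by
    have : IsCyclic Q := Subgroup.isCyclic_zpowers _
    obtain ⟨i, hi⟩ := hR.exists_two_pow l
    have hc : Nat.card Q = 2 ^ i := by rw [hQdef, Nat.card_zpowers, hi]
    refine IsPGroup.to_subgroup ?_ _
    rcases i with _ | i
    · rw [pow_zero, orderOf_eq_one_iff] at hi
      exact absurd hi (hR.pow_ne_one hl0 hl)
    · refine IsPGroup.of_card (n := i) ?_
      rw [IsCyclic.card_mulAut, hc, Nat.totient_prime_pow_succ Nat.prime_two]
      simp
  have htop : (T : Subgroup (F.autGroup Q)) = ⊤ :=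
    T.is_maximal' (hAut.of_equiv Subgroup.topEquiv.symm) le_top |>.symm
  have hmem : (⟨α, hα⟩ : F.autGroup Q) ∈ (T : Subgroup (F.autGroup Q)) := htop ▸ Subgroup.mem_top _
  rw [hT, Subgroup.mem_subgroupOf] at hmem
  let g₀ : Q := ⟨r ^ l, Subgroup.mem_zpowers _⟩
  have hpm : α g₀ = g₀ ∨ α g₀ = g₀⁻¹ := by
    have key : ∀ β ∈ autInducedBy P Q, β g₀ = g₀ ∨ β g₀ = g₀⁻¹ := by
      intro β hβ'
      induction hβ' using Subgroup.closure_induction with
      | mem β hβ' =>
        obtain ⟨w, hw, hwβ⟩ := hβ'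
        by_cases hwr : w ∈ Subgroup.zpowers r
        · refine Or.inl (Subtype.ext ?_)
          obtain ⟨i, rfl⟩ := hwr
          rw [hwβ]
          show r ^ i * r ^ l * (r ^ i)⁻¹ = r ^ l
          rw [((Commute.refl r).zpow_left i).pow_right l |>.eq, mul_inv_cancel_right]
        · refine Or.inr (Subtype.ext ?_)
          rw [hwβ]
          exact hR.conj_pow hw hwr l
      | one => exact Or.inl rfl
      | mul β γ _ _ hb hg =>
        rw [MulAut.mul_apply]
        rcases hg with hg | hg <;> rw [hg] <;> rcases hb with hb | hb <;> simp [hb]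
      | inv β _ hb =>
        rcases hb with hb | hb
        · exact Or.inl (β.injective (by simp [hb]))
        · exact Or.inr (β.injective (by simp [hb]))
    exact key α hmem
  rcases hpm with e | e
  · left
    have e' : a * r ^ l * a⁻¹ = r ^ l := congrArg Subtype.val e
    rw [ha] at e'
    exact hR.pow_inj hm hl e'
  · right
    have e' : a * r ^ l * a⁻¹ = (r ^ l)⁻¹ := congrArg Subtype.val e
    rw [ha, ← hR.pow_sub hl.le] at e'
    exact hR.pow_inj hm (by omega) e'

end CfsgLib.BlockA.DihedralDefect
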