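import Cfsg.Agent.Lib.BlockA.DihedralExpansion
import Cfsg.Agent.Lib.BlockA.CentralLam

/-!
A block with dihedral defect group: the congruence between the column at the involution and the
columns at two generators of the rotations.
-/

set_option autoImplicit false
set_option linter.unusedSectionVars false
set_option maxHeartbeats 1000000

namespace CfsgLib.BlockA.DihedralDefect

open Cfsg CfsgLib.Block CfsgLib.BlockA CfsgLib.BlockB CfsgLib.BlockB.SubSum
  CfsgLib.BlockB.HeightBound AbelianSub SectionOrth NilpotentSection CentralLam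
open scoped ComplexConjugate

universe u

variable {G : Type u} [Group G] [Fintype G] {M : Ideal AlgInt} [M.IsPrime]
  {B : Set (IrrCharacter G)} {P : Subgroup G}
  {c : Set (IrrCharacter (Subgroup.centralizer (P : Set G)))} {r : G} {h : ℕ}
  [Fintype (cz r h)] [Fintype (IrrCharacter (P.subgroupOf (cz r h)))]

/-- The common factor, read in any group equal to the centralizer. -/
noncomputable def commonAt (S : Setup M P c r h) {T : Subgroup G} (b : Set (IrrCharacter T))
    (v : G) (t : T) : ℂ :=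
  blockPart b (fun k : T => psiExt (S.ψ : cz r h → ℂ) (v * (k : G))) t

/-- The central character value at the class of the involution. -/
noncomputable def omegaZ (r : G) (h : ℕ) (χ : IrrCharacter G) : ℂ :=
  (Nat.card G : ℂ) / (Nat.card (cz r h) : ℂ) * (χ : G → ℂ) (r ^ h) / (χ : G → ℂ) 1

variable (hR : Rot P r h) (S : Setup M P c r h)
variable (hM : IsPModular 2 M) (hmax : IsMaximalBrauerPair 2 M B P c)
include hM hmax

/-- The subsection at a rotation, read in any group equal to the centralizer. -/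
theorem rot_data_at {l : ℕ} (hl0 : 0 < l) (hl : l < 2 * h) {T : Subgroup G}
    (hT : T = Subgroup.centralizer ({r ^ l} : Set G)) :
    ∃ b : Set (IrrCharacter T), IsInducedBlock M T b B ∧
      subgroupBlockCoeff T b = beta hM hmax (r ^ l) ∧
      (∀ (χ : IrrCharacter G) (t : T), ¬ 2 ∣ orderOf t →
        blockPart b (fun k : T => (χ : G → ℂ) (r ^ l * (k : G))) t =
          col hR S χ l * commonAt S b (r ^ l) t) ∧
      (∀ y y' : T, ¬ 2 ∣ orderOf y → ¬ 2 ∣ orderOf y' →
        ∑ φ ∈ b.toFinite.toFinset, conj ((φ : T → ℂ) y') * (φ : T → ℂ) y =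
          ((if h ∣ l then 4 * h else 2 * h : ℕ) : ℂ) *
            (conj (commonAt S b (r ^ l) y') * commonAt S b (r ^ l) y)) ∧
      commonAt S b (r ^ l) 1 ≠ 0 := by
  subst hT
  exact rot_data hR S hM hmax hl0 hl

/-- The blocks at the generators of the rotations have defect groups inside the rotations. -/
theorem defect_le_zpowers {T : Subgroup G} (hT : T = Subgroup.centralizer ({r} : Set G))
    {b : Set (IrrCharacter T)} (hb : IsInducedBlock M T b B) {D : Subgroup T}
    (hD : IsDefectGroup 2 M b D) (hR : Rot P r h) : D ≤ (Subgroup.zpowers r).subgroupOf T := by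
  classical
  have hh0 := hR.h_pos
  have hrT : r ∈ T := by rw [hT, Subgroup.mem_centralizer_singleton_iff]
  have hc : ∀ t : T, (t : G) * r = r * (t : G) := fun t =>
    Subgroup.mem_centralizer_singleton_iff.1 (hT ▸ t.2 : (t : G) ∈ Subgroup.centralizer ({r} : Set G))
  set R := (Subgroup.zpowers r).subgroupOf T with hRdef
  have hRle : Subgroup.zpowers r ≤ T := Subgroup.zpowers_le.2 hrT
  have hn : R.Normal := ⟨fun n hn g => by
    obtain ⟨i, hi⟩ := Subgroup.mem_subgroupOf.1 hn
    refine Subgroup.mem_subgroupOf.2 ⟨i, ?_⟩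
    push_cast
    rw [← hi, ((Commute.zpow_right (show Commute (g : G) r from hc g)) i).eq,
      mul_inv_cancel_right]⟩
  have hRp : IsPGroup 2 R := (hmax.1.1.1.to_le hR.zpowers_le).of_equiv
    (Subgroup.subgroupOfEquivOfLe hRle).symm
  have hRD : R ≤ D := normal_le_defectGroup hM hRp hb.1 hD
  obtain ⟨E, hE, hDE⟩ := exists_map_subtype_le_defect hM hb hD
  obtain ⟨x, hx⟩ := defectGroup_exists_conj hM hmax.1.2.1 (maximal_core hM hmax).1 hE
  intro d hd
  have hrE : r ∈ E := hDE ⟨⟨r, hrT⟩, hRD (Subgroup.mem_zpowers r), rfl⟩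
  have hdE : (d : G) ∈ E := hDE ⟨d, hd, rfl⟩
  rw [hx, mem_map_conj_iff] at hrE hdE
  set y := x⁻¹ * r * x with hy
  set w := x⁻¹ * (d : G) * x with hw
  have hord : orderOf y = 2 * h := by
    rw [hy, ← hR.orderOf_eq]
    have := MulEquiv.orderOf_eq (MulAut.conj x⁻¹) r
    simpa using this
  have hyr : y ∈ Subgroup.zpowers r := by
    by_contra hn
    have h2 := (hR.invert y hrE hn).1
    have h3 : orderOf y ∣ 2 := orderOf_dvd_of_pow_eq_one (by rw [pow_two]; exact h2)
    have := Nat.le_of_dvd two_pos h3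
    rw [hord] at this
    have := hR.two_le
    omega
  have hgen : Subgroup.zpowers y = Subgroup.zpowers r :=
    Subgroup.eq_of_le_of_card_ge (Subgroup.zpowers_le.2 hyr)
      (by rw [Nat.card_zpowers, Nat.card_zpowers, hord, hR.orderOf_eq])
  have hwy : Commute w y := by
    show w * y = y * w
    calc w * y = x⁻¹ * ((d : G) * r) * x := by rw [hw, hy]; group
      _ = y * w := by rw [hc d, hw, hy]; group
  have hwr : w ∈ Subgroup.zpowers r := by
    obtain ⟨i, hi⟩ := Subgroup.mem_zpowers_iff.1 (hgen.symm ▸ Subgroup.mem_zpowers r :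
      r ∈ Subgroup.zpowers y)
    have hwc : Commute w (r ^ 1) := by rw [pow_one, ← hi]; exact hwy.zpow_right i
    exact hR.mem_of_commute hdE (fun h1 => by
      have := Nat.le_of_dvd Nat.one_pos h1
      have := hR.two_le
      omega) hwc
  rw [← hgen] at hwr
  obtain ⟨i, hi⟩ := hwr
  refine Subgroup.mem_subgroupOf.2 ⟨i, ?_⟩
  calc r ^ i = x * y ^ i * x⁻¹ := by
        rw [← conj_zpow, hy]
        congr 1
        group
    _ = (d : G) := by rw [show y ^ i = w from hi, hw]; group

/-- **The congruence.** -/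
theorem key_congruence :
    ∃ κ : ℂ, MemLocalRing M κ ∧ MemLocalIdeal M (κ * ((2 * h : ℕ) : ℂ)⁻¹ *
      ∑ χ ∈ B.toFinite.toFinset,
        omegaZ r h χ * col hR S χ (h + 1) * conj (col hR S χ 1) - 1) := by
  classical
  have := Fact.mk hM.1
  have hh0 := hR.h_pos
  have hh2 := hR.two_le
  have hB : IsPBlock M B := hmax.1.2.1
  set l₁ := h + 1 with hl₁
  let T := Subgroup.centralizer ({r} : Set G)
  have := Fintype.ofFinite T
  have := Fintype.ofFinite (IrrCharacter T)
  have hT₀ : T = Subgroup.centralizer ({r ^ 1} : Set G) := by rw [pow_one]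
  have hzp : Subgroup.zpowers (r ^ l₁) = Subgroup.zpowers r := by
    refine Subgroup.eq_of_le_of_card_ge (Subgroup.zpowers_le.2 (Subgroup.npow_mem_zpowers r l₁)) ?_
    rw [Nat.card_zpowers, Nat.card_zpowers, Nat.Coprime.orderOf_pow]
    rw [hR.orderOf_eq]
    obtain ⟨k, hk⟩ := hR.two_pow
    have hodd : Odd (h + 1) := hR.h_even.add_one
    rw [hk, ← pow_succ']
    exact Nat.Coprime.pow_left _ (Nat.coprime_two_left.2 hodd)
  have hT₁ : T = Subgroup.centralizer ({r ^ l₁} : Set G) := by
    show Subgroup.centralizer ({r} : Set G) = _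
    rw [← cen_zpowers, ← cen_zpowers, hzp]
  obtain ⟨b, hb, hbβ, hbp, hnorm, hne⟩ := rot_data_at hR S hM hmax Nat.one_pos (by omega) hT₀
  obtain ⟨b', hb', hbβ', hbp', hnorm', hne'⟩ :=
    rot_data_at hR S hM hmax (l := l₁) (by omega) (by omega) hT₁
  obtain rfl : b' = b := by
    refine subgroupBlockCoeff_injective hM hb'.1 hb.1 ?_
    rw [hbβ', hbβ]
    obtain ⟨f, hf, hfle⟩ := exists_below hM hmax (P.pow_mem hR.mem 1)
    rw [← beta_eq_of_below hM hmax (P.pow_mem hR.mem 1) rfl hfle,
      ← beta_eq_of_below hM hmax (P.pow_mem hR.mem l₁) (by rw [hzp, pow_one]) hfle]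
  have h1T : ¬ 2 ∣ orderOf (1 : T) := by rw [orderOf_one]; norm_num
  have hcr : ∀ t : T, Commute r (t : G) := fun t =>
    (Subgroup.mem_centralizer_singleton_iff.1 t.2).symm
  have hndvd : ∀ {l : ℕ}, 0 < l → l < 2 * h → l ≠ h → ¬ h ∣ l := fun {l} a b c ⟨q, hq⟩ => by
    rcases q with _ | _ | q
    · omega
    · omega
    · nlinarith
  have hn₀ : ¬ h ∣ 1 := hndvd Nat.one_pos (by omega) (by omega)
  have hn₁ : ¬ h ∣ l₁ := hndvd (by omega) (by omega) (by omega)
  -- the two common factors
  set κ : ℂ := (S.ψ : cz r h → ℂ) ⟨r ^ h, Subgroup.mem_centralizer_singleton_iff.2 rfl⟩ /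
    (S.ψ : cz r h → ℂ) 1 with hκ
  let zH : cz r h := ⟨r ^ h, Subgroup.mem_centralizer_singleton_iff.2 rfl⟩
  have hψ1 : (S.ψ : cz r h → ℂ) 1 ≠ 0 := by
    rw [← CfsgLib.BlockB.irr_degree_cast]
    exact Nat.cast_ne_zero.2 (charDegree_ne_zero S.ψ.2)
  have hzmul : ∀ x : cz r h, (S.ψ : cz r h → ℂ) (zH * x) = κ * (S.ψ : cz r h → ℂ) x := by
    intro x
    have h' := sum_irr_mul_conj S.ψ zH x
    rw [Finset.sum_congr rfl (g := fun _ => (S.ψ : cz r h → ℂ) (zH * x)) (fun t _ => by
      rw [← CfsgLib.Char.irr_isClassFunction S.ψ.2 (zH * x) t]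
      congr 1
      have hz : zH * t = t * zH :=
        Subtype.ext (Subgroup.mem_centralizer_singleton_iff.1 t.2).symm
      rw [← mul_assoc, ← mul_assoc, ← mul_assoc, hz]), Finset.sum_const,
      Finset.card_univ, nsmul_eq_mul, ← Nat.card_eq_fintype_card, mul_assoc, mul_div_assoc] at h'
    rw [mul_left_cancel₀ (Nat.cast_ne_zero.2 Nat.card_pos.ne') h', hκ]
    ring
  have hκ2 : κ * κ = 1 := by
    have h' := hzmul zH
    rw [show zH * zH = 1 from Subtype.ext hR.z_sq] at h'
    refine mul_right_cancel₀ hψ1 ?_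
    rw [one_mul]
    conv_rhs => rw [h']
    rw [show (S.ψ : cz r h → ℂ) zH = κ * (S.ψ : cz r h → ℂ) 1 from (div_mul_cancel₀ _ hψ1).symm]
    ring
  have hκl : MemLocalRing M κ := by
    rcases mul_self_eq_one_iff.1 hκ2 with e | e <;> rw [e]
    · simpa using memLocalRing_intCast (M := M) 1
    · simpa using memLocalRing_intCast (M := M) (-1)
  have hcomm : ∀ t : T, commonAt S b' (r ^ l₁) t = κ * commonAt S b' (r ^ 1) t := by
    intro t
    have e : (fun k : T => psiExt (S.ψ : cz r h → ℂ) (r ^ l₁ * (k : G))) =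
        fun k : T => ∑ _i : Unit, κ * psiExt (S.ψ : cz r h → ℂ) (r ^ 1 * (k : G)) := by
      funext k
      have hk : r ^ 1 * (k : G) ∈ cz r h := mul_mem
        (le_centralizer_z hR (P.pow_mem hR.mem 1))
        (centralizer_le_cz hR Nat.one_pos (by omega)
          (show (k : G) ∈ Subgroup.centralizer ({r ^ 1} : Set G) from by rw [← hT₀]; exact k.2))
      have e1 : r ^ l₁ * (k : G) = ((zH * ⟨_, hk⟩ : cz r h) : G) := by
        push_cast
        rw [← mul_assoc, ← pow_add]
      rw [e1, psiExt_coe, hzmul, Fintype.sum_unique]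
      exact congrArg (fun v => κ * v) (psiExt_coe (S.ψ : cz r h → ℂ) ⟨_, hk⟩).symm
    rw [commonAt, e, blockPart_sum_smul, Fintype.sum_unique]
    rfl
  -- a member of the block
  obtain ⟨ξ, hξ⟩ := isPBlock_nonempty hb'.1
  have hξ1 : (ξ : T → ℂ) 1 ≠ 0 := by
    rw [← CfsgLib.BlockB.irr_degree_cast]
    exact Nat.cast_ne_zero.2 (charDegree_ne_zero ξ.2)
  let J : G → ℂ := fun v => ∑ t : T, regInd 2 t * conj (commonAt S b' v t) * (ξ : T → ℂ) t
  have hJ : ∀ l : ℕ, ¬ h ∣ l → (∀ y y' : T, ¬ 2 ∣ orderOf y → ¬ 2 ∣ orderOf y' →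
        ∑ φ ∈ b'.toFinite.toFinset, conj ((φ : T → ℂ) y') * (φ : T → ℂ) y =
          ((if h ∣ l then 4 * h else 2 * h : ℕ) : ℂ) *
            (conj (commonAt S b' (r ^ l) y') * commonAt S b' (r ^ l) y)) →
      (ξ : T → ℂ) 1 =
        ((2 * h : ℕ) : ℂ) / (Nat.card T : ℂ) * commonAt S b' (r ^ l) 1 * J (r ^ l) := by
    intro l hl hn
    have h0 := blockPart_eq_kernel b' (ξ : T → ℂ) 1
    rw [blockPart_irr, if_pos hξ] at h0
    rw [h0]
    simp only [J, Finset.mul_sum]
    refine Finset.sum_congr rfl fun t _ => ?_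
    rw [show ∀ (a b c d e f g : ℂ), a / b * c * (d * e * f) = b⁻¹ * (a * c * (d * e * f)) from
      fun a b c d e f g => by ring]
    swap; · exact 0
    congr 1
    by_cases ht : 2 ∣ orderOf t
    · rw [sum_block_eq_zero_of_regular_singular hM hb'.1 h1T ht]
      simp [regInd, ht]
    · rw [finsum_mem_eq_finite_toFinset_sum _ b'.toFinite, regInd, if_neg ht,
        Finset.sum_congr rfl (g := fun φ : IrrCharacter T => conj ((φ : T → ℂ) t) * (φ : T → ℂ) 1)
          (fun φ _ => mul_comm _ _), hn 1 t h1T ht, if_neg hl]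
      ring
  have hJ₀ := hJ 1 hn₀ hnorm
  have hJ₁ := hJ l₁ hn₁ hnorm'
  have hcol : ∀ (l : ℕ), (∀ t : T, Commute (r ^ l) (t : G)) →
      (∀ (χ : IrrCharacter G) (t : T), ¬ 2 ∣ orderOf t →
        blockPart b' (fun k : T => (χ : G → ℂ) (r ^ l * (k : G))) t =
          col hR S χ l * commonAt S b' (r ^ l) t) → ∀ χ : IrrCharacter G,
      ∑ t : T, regInd 2 t * conj ((χ : G → ℂ) (r ^ l * (t : G))) * (ξ : T → ℂ) t =
        conj (col hR S χ l) * J (r ^ l) := by
    intro l hcl hp χ
    have hF : IsClassFunction T (fun k : T => (χ : G → ℂ) (r ^ l * (k : G))) := fun t s =>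
      isClassFunction_section hcl (CfsgLib.Char.irr_isClassFunction χ.2) t s
    set a : IrrCharacter T → ℂ := fun φ =>
      classInner (fun k : T => (χ : G → ℂ) (r ^ l * (k : G))) (φ : T → ℂ) with ha
    have hlhs : ∀ t : T, (χ : G → ℂ) (r ^ l * (t : G)) = ∑ φ : IrrCharacter T, a φ * (φ : T → ℂ) t :=
      fun t => CfsgLib.Char.classFunction_apply_eq_sum hF t
    calc ∑ t : T, regInd 2 t * conj ((χ : G → ℂ) (r ^ l * (t : G))) * (ξ : T → ℂ) t
        = ∑ φ : IrrCharacter T, conj (a φ) * regPair 2 (ξ : T → ℂ) (φ : T → ℂ) := by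
          simp only [hlhs, map_sum, Finset.mul_sum, Finset.sum_mul, regPair, map_mul]
          rw [Finset.sum_comm]
          refine Finset.sum_congr rfl fun φ _ => Finset.sum_congr rfl fun t _ => ?_
          rw [irr_conj_eq φ.2]
          ring
      _ = ∑ φ ∈ b'.toFinite.toFinset, conj (a φ) * regPair 2 (ξ : T → ℂ) (φ : T → ℂ) := by
          refine (Finset.sum_subset (Finset.subset_univ _) fun φ _ hφ => ?_).symm
          rw [regPair_eq_zero hM hb'.1 hξ (fun e => hφ (b'.toFinite.mem_toFinset.2 e)), mul_zero]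
      _ = ∑ t : T, regInd 2 t *
            conj (blockPart b' (fun k : T => (χ : G → ℂ) (r ^ l * (k : G))) t) * (ξ : T → ℂ) t := by
          have hbpe : ∀ t : T, blockPart b' (fun k : T => (χ : G → ℂ) (r ^ l * (k : G))) t =
              ∑ φ ∈ b'.toFinite.toFinset, a φ * (φ : T → ℂ) t := by
            intro t
            rw [blockPart, finsum_mem_eq_finite_toFinset_sum _ b'.toFinite]
            refine Finset.sum_congr rfl fun φ _ => ?_
            simp only [ha]
            congr!
          simp only [hbpe, map_sum, Finset.mul_sum, Finset.sum_mul, regPair, map_mul]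
          rw [Finset.sum_comm]
          refine Finset.sum_congr (by ext; simp) fun t _ => Finset.sum_congr rfl fun φ _ => ?_
          rw [irr_conj_eq φ.2]
          ring
      _ = _ := by
          rw [Finset.mul_sum]
          refine Finset.sum_congr rfl fun t _ => ?_
          by_cases ht : 2 ∣ orderOf t
          · simp [regInd, ht]
          · rw [hp χ t ht, map_mul]; ring
  have hc₀ : ∀ t : T, Commute (r ^ 1) (t : G) := fun t => (hcr t).pow_left 1
  have hc₁ : ∀ t : T, Commute (r ^ l₁) (t : G) := fun t => (hcr t).pow_left l₁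
  -- the trace of the subsection at the second generator
  let A : G → ℂ := fun g => (Nat.card T : ℂ)⁻¹ *
    ∑ a : G, subgroupBlockCoeff T b' ((r ^ l₁)⁻¹ * (a * g * a⁻¹))
  have hAcol : ∀ g, A g = commonAt S b' (r ^ l₁) 1 / (Nat.card T : ℂ) *
      ∑ χ ∈ B.toFinite.toFinset, col hR S χ l₁ * conj ((χ : G → ℂ) g) := by
    intro g
    have := Fintype.ofFinite (IrrCharacter G)
    have h2 : ∑ χ ∈ B.toFinite.toFinset,
        blockPart b' (fun k : T => (χ : G → ℂ) (r ^ l₁ * (k : G))) 1 * conj ((χ : G → ℂ) g) =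
        ∑ a : G, subgroupBlockCoeff T b' ((r ^ l₁)⁻¹ * (a * g * a⁻¹)) := by
      rw [Finset.sum_subset (Finset.subset_univ B.toFinite.toFinset) fun χ _ hχ => ?_]
      · calc ∑ χ : IrrCharacter G,
              blockPart b' (fun k : T => (χ : G → ℂ) (r ^ l₁ * (k : G))) 1 * conj ((χ : G → ℂ) g)
            = ∑ k : T, blockCoeff b' k *
                ∑ χ : IrrCharacter G, (χ : G → ℂ) (r ^ l₁ * (k : G)) * conj ((χ : G → ℂ) g) := by
              have e : ∀ χ : IrrCharacter G,
                  blockPart b' (fun k : T => (χ : G → ℂ) (r ^ l₁ * (k : G))) 1 =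
                    ∑ k : T, blockCoeff b' k * (χ : G → ℂ) (r ^ l₁ * (k : G)) := fun χ => by
                rw [blockPart_eq_sum b' (fun t s => isClassFunction_section hc₁
                  (CfsgLib.Char.irr_isClassFunction χ.2) t s)]
                simp
              simp only [e, Finset.sum_mul, Finset.mul_sum]
              rw [Finset.sum_comm]
              exact Finset.sum_congr rfl fun k _ => Finset.sum_congr rfl fun χ _ => by ring
          _ = ∑ k : T, ∑ a : G, if a * g * a⁻¹ = r ^ l₁ * (k : G) then blockCoeff b' k else 0 := by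
              refine Finset.sum_congr rfl fun k _ => ?_
              rw [CfsgLib.Char.column_orthogonality]
              split_ifs with hc
              · rw [← Finset.sum_filter, Finset.sum_const, natCard_conjugators hc.symm, nsmul_eq_mul,
                  mul_comm]
                obtain ⟨d, hd⟩ := isConj_iff.1 hc
                rw [← Nat.card_congr (cenConj d (r ^ l₁ * (k : G))).toEquiv, hd]
              · rw [mul_zero]
                refine (Finset.sum_eq_zero fun a _ => if_neg fun e => hc ?_).symm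
                exact (isConj_iff.2 ⟨a, e⟩).symm
          _ = _ := by
              rw [Finset.sum_comm]
              refine Finset.sum_congr rfl fun a _ => ?_
              by_cases hm : (r ^ l₁)⁻¹ * (a * g * a⁻¹) ∈ T
              · rw [Finset.sum_eq_single (⟨_, hm⟩ : T), if_pos (by simp), subgroupBlockCoeff,
                  dif_pos hm]
                · intro k _ hk
                  refine if_neg fun e => hk (Subtype.ext ?_)
                  exact ((inv_mul_eq_iff_eq_mul).2 e).symm
                · exact fun hh => absurd (Finset.mem_univ _) hh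
              · rw [subgroupBlockCoeff, dif_neg hm]
                refine Finset.sum_eq_zero fun k _ => if_neg fun e => hm ?_
                rw [e, inv_mul_cancel_left]
                exact k.2
      · obtain ⟨b₁, hb₁, hbβ₁, hbp₁, -, hne₁⟩ :=
          rot_data hR S hM hmax (l := l₁) (by omega) (by omega)
        have h0 : col hR S χ l₁ = 0 := by
          have := bp_eq_zero hM (hR.exists_two_pow l₁) hB hb₁
            (fun e => hχ (B.toFinite.mem_toFinset.2 e)) (y := 1) (by rw [orderOf_one]; norm_num)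
          rw [hbp₁ χ 1 (by rw [orderOf_one]; norm_num)] at this
          exact (mul_eq_zero.1 this).resolve_right hne₁
        rw [hbp' χ 1 h1T, h0, zero_mul, zero_mul]
    show (Nat.card T : ℂ)⁻¹ * _ = _
    rw [← h2, Finset.mul_sum, Finset.mul_sum]
    refine Finset.sum_congr rfl fun χ _ => ?_
    rw [hbp' χ 1 h1T]
    ring
  have hAcl : IsClassFunction G A := fun g a => by
    rw [hAcol, hAcol]
    congr 1
    exact Finset.sum_congr rfl fun χ _ => by rw [CfsgLib.Char.irr_isClassFunction χ.2]
  have hAloc : ∀ g, MemLocalRing M (A g) := by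
    intro g
    refine memLocalRing_avg T _ (fun a t => ?_) fun a => ?_
    · have e : (r ^ l₁)⁻¹ * ((t : G) * a * g * ((t : G) * a)⁻¹) =
          (t : G) * ((r ^ l₁)⁻¹ * (a * g * a⁻¹)) * (t : G)⁻¹ := by
        rw [mul_inv_rev, ← mul_assoc (t : G) (r ^ l₁)⁻¹, ← (hc₁ t).inv_left.eq]
        group
      rw [e]
      set x := (r ^ l₁)⁻¹ * (a * g * a⁻¹)
      by_cases hx : x ∈ T
      · rw [subgroupBlockCoeff, subgroupBlockCoeff,
          dif_pos (T.mul_mem (T.mul_mem t.2 hx) (T.inv_mem t.2)), dif_pos hx]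
        have := blockSum_isClassCoeff b' (⟨x, hx⟩ : T) t
        simp only [blockSum, coeff_mkGA] at this
        convert this using 2
        exact Subtype.ext (by simp)
      · have hx' : (t : G) * x * (t : G)⁻¹ ∉ T := fun hh => hx (by
          simpa [mul_assoc] using T.mul_mem (T.mul_mem (T.inv_mem t.2) hh) t.2)
        rw [subgroupBlockCoeff, subgroupBlockCoeff, dif_neg hx', dif_neg hx]
    · unfold subgroupBlockCoeff
      split_ifs
      · exact blockCoeff_memLocalRing hM hb'.1 _
      · exact memLocalRing_of_memLocalIdeal memLocalIdeal_zero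
  -- the product with the class sum of the involution
  let KA : G → ℂ := fun g => ∑ i : G, if IsConj (r ^ h) i then A (i * g) else 0
  let KA' : G → ℂ := fun g =>
    ∑ i : G, if Commute (r ^ 1) i ∧ IsConj (r ^ h) i then A (i * g) else 0
  have hconjsum : ∀ (g : G) (χ : IrrCharacter G),
      ∑ i : G, (if IsConj (r ^ h) i then conj ((χ : G → ℂ) (i * g)) else 0) =
        omegaZ r h χ * conj ((χ : G → ℂ) g) := by
    intro g χ
    have h1 := sum_irr_mul_conj χ g (r ^ h)
    have h2 : ∑ t : G, (χ : G → ℂ) (g * (t * r ^ h * t⁻¹)) =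
        (Nat.card (cz r h) : ℂ) *
          ∑ i : G, (if IsConj (r ^ h) i then (χ : G → ℂ) (i * g) else 0) := by
      rw [Finset.mul_sum, ← Finset.sum_fiberwise_of_maps_to (g := fun t : G => t * r ^ h * t⁻¹)
        (t := Finset.univ) (fun _ _ => Finset.mem_univ _)]
      refine Finset.sum_congr rfl fun i _ => ?_
      split_ifs with hi
      · rw [Finset.sum_congr rfl (g := fun _ => (χ : G → ℂ) (i * g)) fun t ht => ?_,
          Finset.sum_const, natCard_conjugators hi, nsmul_eq_mul]
        rw [(Finset.mem_filter.1 ht).2, ← CfsgLib.Char.irr_isClassFunction χ.2 (g * i) i]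
        congr 1
        group
      · rw [mul_zero]
        exact Finset.sum_eq_zero fun t ht =>
          absurd (isConj_iff.2 ⟨t, (Finset.mem_filter.1 ht).2⟩) hi
    rw [h2] at h1
    have hreal : conj ((χ : G → ℂ) (r ^ h)) = (χ : G → ℂ) (r ^ h) := by
      rw [irr_conj_eq χ.2, hR.z_inv]
    have h3 : ∑ i : G, (if IsConj (r ^ h) i then (χ : G → ℂ) (i * g) else 0) =
        omegaZ r h χ * (χ : G → ℂ) g := by
      refine mul_left_cancel₀ (Nat.cast_ne_zero.2 (Nat.card_pos (α := cz r h)).ne') (h1.trans ?_)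
      rw [omegaZ]
      field_simp [Nat.cast_ne_zero.2 (Nat.card_pos (α := cz r h)).ne']
    have h4 := congrArg conj h3
    simp only [map_sum, apply_ite (starRingEnd ℂ), map_zero, map_mul] at h4
    rw [h4]
    congr 1
    simp [omegaZ, hreal, ← CfsgLib.BlockB.irr_degree_cast]
  have hKAcol : ∀ g, KA g = commonAt S b' (r ^ l₁) 1 / (Nat.card T : ℂ) *
      ∑ χ ∈ B.toFinite.toFinset, omegaZ r h χ * col hR S χ l₁ * conj ((χ : G → ℂ) g) := by
    intro g
    show ∑ i : G, _ = _
    simp only [hAcol]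
    rw [Finset.sum_congr rfl (g := fun i : G => commonAt S b' (r ^ l₁) 1 / (Nat.card T : ℂ) *
      ∑ χ ∈ B.toFinite.toFinset, col hR S χ l₁ *
        (if IsConj (r ^ h) i then conj ((χ : G → ℂ) (i * g)) else 0)) (fun i _ => by
      split_ifs <;> simp), ← Finset.mul_sum, Finset.sum_comm]
    refine congrArg _ (Finset.sum_congr rfl fun χ _ => ?_)
    rw [← Finset.mul_sum, hconjsum]
    ring
  have hKAcl : IsClassFunction G KA := fun g a => by
    rw [hKAcol, hKAcol]
    congr 1
    exact Finset.sum_congr rfl fun χ _ => by rw [CfsgLib.Char.irr_isClassFunction χ.2]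
  have hKA'inv : ∀ t s : T, KA' (r ^ 1 * ((s * t * s⁻¹ : T) : G)) = KA' (r ^ 1 * (t : G)) := by
    intro t s
    refine Fintype.sum_equiv (MulAut.conj (s : G)⁻¹).toEquiv _ _ fun i => ?_
    simp only [MulEquiv.toEquiv_eq_coe, MulEquiv.coe_toEquiv, MulAut.conj_apply, inv_inv]
    refine if_congr ⟨fun ⟨h1, h2⟩ => ⟨?_, h2.trans (isConj_iff.2 ⟨(s : G)⁻¹, by group⟩)⟩,
      fun ⟨h1, h2⟩ => ⟨?_, h2.trans (isConj_iff.2 ⟨(s : G), by group⟩)⟩⟩ ?_ rfl
    · exact (((hc₀ s).inv_right).mul_right h1).mul_right (hc₀ s)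
    · have := ((hc₀ s).mul_right h1).mul_right (hc₀ s).inv_right
      simpa [mul_assoc] using this
    · rw [← hAcl ((s : G)⁻¹ * i * (s : G) * (r ^ 1 * (t : G))) (s : G)]
      congr 1
      push_cast
      rw [← mul_assoc (r ^ 1) ((s : G) * (t : G)), ← mul_assoc (r ^ 1) (s : G), (hc₀ s).eq]
      group
  have hcong := lam_sub_mem (M := M) (p := 2) (u := r ^ 1) hc₀ (A := KA) (A' := KA')
    (isClassFunction_section hc₀ hKAcl) hKA'inv (ξ := ξ) fun t _ => by
      have h1 := sum_sub_sum_commute (p := 2) hM (hR.exists_two_pow 1)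
        (fun i => if IsConj (r ^ h) i then A (i * (r ^ 1 * (t : G))) else 0) (fun i => ?_)
        (fun i => by
          split_ifs
          exacts [hAloc _, memLocalRing_of_memLocalIdeal memLocalIdeal_zero])
      · have e : KA' (r ^ 1 * (t : G)) = ∑ i : G, if Commute (r ^ 1) i then
            (if IsConj (r ^ h) i then A (i * (r ^ 1 * (t : G))) else 0) else 0 :=
          Finset.sum_congr rfl fun i _ => by rw [ite_and]
        rw [e]
        exact h1
      · refine if_congr ⟨fun h2 => h2.trans (isConj_iff.2 ⟨(r ^ 1)⁻¹, by group⟩),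
          fun h2 => h2.trans (isConj_iff.2 ⟨r ^ 1, rfl⟩)⟩ ?_ rfl
        rw [← hAcl (i * (r ^ 1 * (t : G))) (r ^ 1)]
        congr 1
        rw [(hc₀ t).eq]
        simp only [← mul_assoc]
        rw [mul_assoc (r ^ 1 * i) (r ^ 1)⁻¹ (t : G), (hc₀ t).inv_left.eq]
        group
  have hzT : r ^ h ∈ T := Subgroup.mem_centralizer_singleton_iff.2
    ((Commute.refl r).pow_left h).eq
  have hlam' : CentralLam.lam (T := T) 2 (r ^ 1) (ξ : T → ℂ) KA' = CentralLam.lam (T := T) 2 (r ^ l₁) (ξ : T → ℂ) A := by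
    have hu : r ^ 1 ∈ T := Subgroup.mem_centralizer_singleton_iff.2
      ((Commute.refl r).pow_left 1).eq
    have h0 := sum_class_eq_zero (p := 2) hc₀ hM hb'.1 hξ hu hAcl
      (fun i : T => IsConj (r ^ h) (i : G) ∧ (i : G) ≠ r ^ h)
      (fun i s ⟨h1, h2⟩ => ⟨h1.trans (isConj_iff.2 ⟨(s : G), by push_cast; rfl⟩), fun e => h2 (by
        push_cast at e
        have hz : Commute (r ^ h) (s : G) := (hcr s).pow_left h
        calc (i : G) = (s : G)⁻¹ * ((s : G) * (i : G) * (s : G)⁻¹) * (s : G) := by group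
          _ = r ^ h := by rw [e, mul_assoc, hz.eq, inv_mul_cancel_left])⟩)
      fun i ⟨hi, hne⟩ η hη => ?_
    · unfold CentralLam.lam
      congr 1
      rw [← sub_eq_zero, ← Finset.sum_sub_distrib]
      refine Eq.trans (Finset.sum_congr rfl fun t _ => ?_) h0
      have e : KA' (r ^ 1 * (t : G)) = A (r ^ l₁ * (t : G)) +
          ∑ i : T, if IsConj (r ^ h) (i : G) ∧ (i : G) ≠ r ^ h then
            A ((i : G) * (r ^ 1 * (t : G))) else 0 := by
        show ∑ i : G, _ = _
        rw [← Finset.sum_filter, Finset.sum_subtype (p := fun i : G => Commute (r ^ 1) i ∧ IsConj (r ^ h) i)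
          _ (fun i => by simp)]
        rw [← Finset.sum_filter]
        have hzmem : Commute (r ^ 1) (r ^ h) ∧ IsConj (r ^ h) (r ^ h) :=
          ⟨((Commute.refl r).pow_left 1).pow_right h, IsConj.refl _⟩
        rw [← Finset.add_sum_erase _ _ (Finset.mem_univ
          (⟨r ^ h, hzmem⟩ : {i : G // Commute (r ^ 1) i ∧ IsConj (r ^ h) i}))]
        congr 1
        · show A (r ^ h * (r ^ 1 * (t : G))) = _
          rw [← mul_assoc, ← pow_add]
        · refine Finset.sum_bij (fun i _ => (⟨i.1, Subgroup.mem_centralizer_singleton_iff.2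
            (by simpa using i.2.1.eq.symm)⟩ : T)) (fun i hi => ?_)
            (fun i _ j _ e => Subtype.ext (congrArg Subtype.val e :)) (fun i hi => ?_) fun i _ => rfl
          · exact Finset.mem_filter.2 ⟨Finset.mem_univ _, i.2.2,
              fun e => (Finset.mem_erase.1 hi).1 (Subtype.ext e)⟩
          · obtain ⟨h1, h2⟩ := (Finset.mem_filter.1 hi).2
            exact ⟨⟨i, hc₀ i, h1⟩, Finset.mem_erase.2 ⟨fun e => h2 (congrArg Subtype.val e),
              Finset.mem_univ _⟩, rfl⟩
      rw [e]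
      ring
    · obtain ⟨D, hD⟩ := exists_isDefectGroup (p := 2) hM hb'.1
      have hle := defect_le_zpowers hM hmax (T := T) rfl hb' hD hR
      obtain ⟨a, ha⟩ := isConj_iff.1 hi
      have ho : orderOf (i : G) = 2 := by
        rw [← ha, ← hR.orderOf_z]
        exact MulEquiv.orderOf_eq (MulAut.conj a) _
      refine eq_zero_of_not_mem_defect hM hb'.1 hD hη ⟨1, ?_⟩ fun d hd => ?_
      · rw [← Subgroup.orderOf_coe, ho, pow_one]
      · have hm := Subgroup.mem_subgroupOf.1 (hle hd)
        push_cast at hm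
        have hi2 : (d : G) * (i : G) * (d : G)⁻¹ * ((d : G) * (i : G) * (d : G)⁻¹) = 1 := by
          have := pow_orderOf_eq_one (i : G)
          rw [ho, pow_two] at this
          calc (d : G) * (i : G) * (d : G)⁻¹ * ((d : G) * (i : G) * (d : G)⁻¹)
              = (d : G) * ((i : G) * (i : G)) * (d : G)⁻¹ := by group
            _ = 1 := by rw [this]; group
        rcases hR.eq_z_of_sq hm hi2 with e | e
        · have : (i : G) = 1 := conj_eq_one_iff.1 e
          rw [this, orderOf_one] at ho
          omega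
        · refine hne ?_
          have hz : Commute (r ^ h) (d : G) := (hcr d).pow_left h
          calc (i : G) = (d : G)⁻¹ * ((d : G) * (i : G) * (d : G)⁻¹) * (d : G) := by group
            _ = r ^ h := by rw [e, mul_assoc, hz.eq, inv_mul_cancel_left]
  -- the two weighted sums
  have hlamA : CentralLam.lam (T := T) 2 (r ^ l₁) (ξ : T → ℂ) A = 1 := by
    rw [CentralLam.lam, div_eq_one_iff_eq hξ1]
    have ho := col_orth hR S hM hmax (l := l₁) (m := l₁) (by omega) (by omega) (by omega) (by omega)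
    rw [if_pos rfl, if_neg (by omega), add_zero, mul_one] at ho
    calc ∑ t : T, regInd 2 t * A (r ^ l₁ * (t : G)) * (ξ : T → ℂ) t
        = commonAt S b' (r ^ l₁) 1 / (Nat.card T : ℂ) * ∑ χ ∈ B.toFinite.toFinset,
            col hR S χ l₁ * (conj (col hR S χ l₁) * J (r ^ l₁)) := by
          simp only [← hcol l₁ hc₁ hbp', hAcol, Finset.mul_sum, Finset.sum_mul]
          rw [Finset.sum_comm]
          exact Finset.sum_congr rfl fun χ _ => Finset.sum_congr rfl fun t _ => by ring
      _ = (ξ : T → ℂ) 1 := by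
          simp only [← mul_assoc, ← Finset.sum_mul]
          rw [ho, hJ₁]
          ring
  have hlamKA : CentralLam.lam (T := T) 2 (r ^ 1) (ξ : T → ℂ) KA = κ * ((2 * h : ℕ) : ℂ)⁻¹ *
      ∑ χ ∈ B.toFinite.toFinset, omegaZ r h χ * col hR S χ l₁ * conj (col hR S χ 1) := by
    have hq : ((2 * h : ℕ) : ℂ) ≠ 0 := Nat.cast_ne_zero.2 (by omega)
    rw [CentralLam.lam, div_eq_iff hξ1]
    calc ∑ t : T, regInd 2 t * KA (r ^ 1 * (t : G)) * (ξ : T → ℂ) t
        = commonAt S b' (r ^ l₁) 1 / (Nat.card T : ℂ) * ∑ χ ∈ B.toFinite.toFinset,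
            omegaZ r h χ * col hR S χ l₁ * (conj (col hR S χ 1) * J (r ^ 1)) := by
          simp only [← hcol 1 hc₀ hbp, hKAcol, Finset.mul_sum, Finset.sum_mul]
          rw [Finset.sum_comm]
          exact Finset.sum_congr rfl fun χ _ => Finset.sum_congr rfl fun t _ => by ring
      _ = _ := by
          simp only [← mul_assoc, ← Finset.sum_mul]
          rw [hcomm 1, hJ₀]
          field_simp
  refine ⟨κ, hκl, ?_⟩
  rw [← hlamKA, ← hlamA, ← hlam']
  exact hcong

end CfsgLib.BlockA.DihedralDefect
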