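import Cfsg.Agent.Lib.BlockA.DihedralShape
import Cfsg.Agent.Lib.BlockA.DihedralCount

/-!
The order formula for a dihedral Sylow 2-subgroup and one class of involutions.
-/

set_option autoImplicit false
set_option linter.unusedSectionVars false
set_option maxHeartbeats 1000000

namespace CfsgLib.BlockA.DihedralBlock

open Cfsg CfsgLib.Invol CfsgLib.Block
open scoped ComplexConjugate

universe u

variable {G : Type u} [Group G] [Finite G] {M : Ideal AlgInt} [M.IsPrime]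
variable (hM : IsPModular 2 M) (P : Sylow 2 G) (D : DihData (P : Subgroup G)) (hh : 2 ≤ D.h)

/-- The weight of a member of the block. -/
noncomputable def weight (χ : IrrCharacter G) : ℂ :=
  (χ : G → ℂ) (dz P D) + ∑ l ∈ Finset.Ico 1 (2 * D.h), (χ : G → ℂ) (rot P D ^ l)

include hM hh

open scoped Classical in
theorem sum_weight_mul (hone : ∀ s t : G, orderOf s = 2 → orderOf t = 2 → IsConj s t) (g : G) :
    ∑ χ ∈ (principalBlock M G).toFinite.toFinset, weight P D χ * (χ : G → ℂ) g =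
      ((2 * (2 * D.h) : ℕ) : ℂ) * ((if 2 ∣ orderOf g then 1 else 0) +
        (if ∃ w, IsPPart 2 g w ∧ orderOf w = 2 then 1 else 0)) := by
  have : Fact (Nat.Prime 2) := ⟨Nat.prime_two⟩
  have hz : orderOf (dz P D) = 2 := (Subgroup.orderOf_coe _).trans D.orderOf_z
  have hhq : ¬ 2 * D.h ∣ D.h := fun h => by have := Nat.le_of_dvd (by omega) h; omega
  simp only [weight, add_mul, Finset.sum_mul, Finset.sum_add_distrib]
  rw [Finset.sum_comm]
  by_cases hg : 2 ∣ orderOf g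
  · obtain ⟨w, hw⟩ := exists_isPPart Nat.prime_two g
    obtain ⟨y, hy, hc, hk, hyr⟩ := id hw
    have hw1 : w ≠ 1 := by
      rintro rfl
      rw [one_mul] at hy
      exact hyr (hy ▸ hg)
    obtain ⟨m, hm, hcm⟩ := exists_conj_rot P D hone hk hw1
    obtain ⟨a, ha⟩ := isConj_iff.1 hcm.symm
    have hval : ∀ χ ∈ (principalBlock M G).toFinite.toFinset,
        (χ : G → ℂ) g = (χ : G → ℂ) (rot P D ^ m) := by
      intro χ hχ
      rw [← CfsgLib.Char.irr_isClassFunction χ.2 g a, ← hy,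
        show a * (w * y) * a⁻¹ = (a * w * a⁻¹) * (a * y * a⁻¹) by group, ha]
      refine (principal_section hM (orderOf_rot_pow_two P D m) (complement_rot_all P D hm)).1 χ
        ((Set.Finite.mem_toFinset _).1 hχ) _ ?_ ?_
      · rw [← ha]; exact hc.map (MulAut.conj a).toMonoidHom
      · rwa [show a * y * a⁻¹ = MulAut.conj a y from rfl, MulEquiv.orderOf_eq]
    have hex : (∃ w, IsPPart 2 g w ∧ orderOf w = 2) ↔ rot P D ^ m = dz P D := by
      constructor
      · rintro ⟨v, hv, hv2⟩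
        obtain rfl := isPPart_unique Nat.prime_two hv hw
        have h1 : orderOf (rot P D ^ m) = 2 := by rw [← ha, orderOf_conj_eq, hv2]
        have h2 : D.h ∣ m := (rot_sq_eq_one_iff P D m).1 (by rw [← h1, pow_orderOf_eq_one])
        obtain ⟨c, rfl⟩ := h2
        obtain ⟨d, rfl⟩ | ⟨d, rfl⟩ := Nat.even_or_odd c
        · exact absurd ⟨d, by ring⟩ hm
        · rw [mul_add, mul_one, ← mul_assoc, pow_add, rot_pow_h,
            (rot_pow_eq_one_iff P D (D.h * 2 * d)).2 ⟨d, by ring⟩, one_mul]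
      · intro h
        exact ⟨w, hw, by rw [← orderOf_conj_eq a w, ha, h, hz]⟩
    rw [if_pos hg, Finset.sum_congr rfl (g := fun χ : IrrCharacter G =>
        (χ : G → ℂ) (rot P D ^ D.h) * (χ : G → ℂ) (rot P D ^ m)) (fun χ hχ => by
          rw [hval χ hχ, rot_pow_h]), sum_val_mul P D hh hhq hm hM,
      Finset.sum_congr rfl (g := fun l => ((2 * D.h : ℕ) : ℂ) *
        ((if rot P D ^ m = rot P D ^ l then 1 else 0) +
          (if rot P D ^ m = (rot P D ^ l)⁻¹ then 1 else 0))) (fun l hl => by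
        obtain ⟨h1, h2⟩ := Finset.mem_Ico.1 hl
        rw [← sum_val_mul P D hh (fun h => by have := Nat.le_of_dvd h1 h; omega) hm hM]
        exact Finset.sum_congr rfl fun χ hχ => by rw [hval χ hχ]),
      ← Finset.mul_sum, Finset.sum_add_distrib]
    -- exactly one term in each sum
    have hm0 : 1 ≤ m % (2 * D.h) := by
      rcases Nat.eq_zero_or_pos (m % (2 * D.h)) with h | h
      · exact absurd (Nat.dvd_of_mod_eq_zero h) hm
      · exact h
    have hmlt : m % (2 * D.h) < 2 * D.h := Nat.mod_lt _ (by omega)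
    have hmm : rot P D ^ m = rot P D ^ (m % (2 * D.h)) := by
      conv_lhs => rw [← pow_mod_orderOf, orderOf_rot]
    have hinj : ∀ i j, i < 2 * D.h → j < 2 * D.h → rot P D ^ i = rot P D ^ j → i = j := fun i j hi hj h =>
      pow_injOn_Iio_orderOf (show i < orderOf (rot P D) by rwa [orderOf_rot])
        (show j < orderOf (rot P D) by rwa [orderOf_rot]) h
    have hinv : ∀ l, l ≤ 2 * D.h → (rot P D ^ l)⁻¹ = rot P D ^ (2 * D.h - l) := fun l hl =>
      inv_eq_of_mul_eq_one_right (by rw [← pow_add, Nat.add_sub_cancel' hl, rot_pow_eq_one_iff])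
    have hs1 : ∑ l ∈ Finset.Ico 1 (2 * D.h),
        (if rot P D ^ m = rot P D ^ l then (1 : ℂ) else 0) = 1 := by
      rw [Finset.sum_eq_single (m % (2 * D.h)), if_pos hmm]
      · intro l hl hne
        rw [if_neg fun h => hne (hinj _ _ (Finset.mem_Ico.1 hl).2 hmlt (h.symm.trans hmm))]
      · exact fun h => absurd (Finset.mem_Ico.2 ⟨hm0, hmlt⟩) h
    have hs2 : ∑ l ∈ Finset.Ico 1 (2 * D.h),
        (if rot P D ^ m = (rot P D ^ l)⁻¹ then (1 : ℂ) else 0) = 1 := by
      rw [Finset.sum_eq_single (2 * D.h - m % (2 * D.h)), if_pos]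
      · rw [hinv _ (by omega), hmm]; congr 1; omega
      · intro l hl hne
        obtain ⟨h1, h2⟩ := Finset.mem_Ico.1 hl
        rw [if_neg fun h => hne ?_]
        rw [hmm, hinv l h2.le] at h
        have := hinj _ _ hmlt (by omega) h
        omega
      · exact fun h => absurd (Finset.mem_Ico.2 ⟨by omega, by omega⟩) h
    rw [hs1, hs2, rot_pow_h]
    have hzinv : (dz P D)⁻¹ = dz P D := invol_inv hz
    simp only [hzinv, hex]
    split_ifs <;> push_cast <;> ring
  · have hno : ¬ ∃ w, IsPPart 2 g w ∧ orderOf w = 2 := by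
      rintro ⟨w, hw, hw2⟩
      have := isPPart_unique Nat.prime_two hw (isPPart_one_of_regular hg)
      rw [this, orderOf_one] at hw2
      omega
    have horth : ∀ l, ¬ 2 * D.h ∣ l → ∑ χ ∈ (principalBlock M G).toFinite.toFinset,
        (χ : G → ℂ) (rot P D ^ l) * (χ : G → ℂ) g = 0 := by
      intro l hl
      have hd : 2 ∣ orderOf (rot P D ^ l) := by
        obtain ⟨k, hk⟩ := orderOf_rot_pow_two P D l
        rcases k with _ | k
        · exact absurd ((rot_pow_eq_one_iff P D l).1 (orderOf_eq_one_iff.1 (hk.trans (pow_zero 2)))) hl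
        · exact hk ▸ dvd_pow_self 2 (Nat.succ_ne_zero k)
      have h := sum_block_eq_zero_of_regular_singular hM (isPBlock_principalBlock (M := M)) hg hd
      rw [finsum_mem_eq_finite_toFinset_sum _ (principalBlock M G).toFinite] at h
      simp only [val_real] at h
      rw [← h]
      exact Finset.sum_congr rfl fun χ _ => mul_comm _ _
    rw [if_neg hg, if_neg hno, ← rot_pow_h, horth D.h hhq, Finset.sum_eq_zero fun l hl => horth l ?_]
    · simp
    · obtain ⟨h1, h2⟩ := Finset.mem_Ico.1 hl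
      exact fun h => by have := Nat.le_of_dvd h1 h; omega

/-- The sum form of the order formula. -/
theorem weight_order_sum (hone : ∀ s t : G, orderOf s = 2 → orderOf t = 2 → IsConj s t) :
    (Nat.card G : ℂ) * ∑ χ ∈ (principalBlock M G).toFinite.toFinset,
        weight P D χ * (χ : G → ℂ) (dz P D) ^ 2 / (χ : G → ℂ) 1 =
      ((2 * (2 * D.h) : ℕ) : ℂ) * (Nat.card (Subgroup.centralizer ({dz P D} : Set G)) : ℂ) *
        ((invSet (dz P D)).ncard : ℂ) ^ 2 := by
  classical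
  have := Fintype.ofFinite G
  set J := dz P D with hJ
  have hJ2 : orderOf J = 2 := (Subgroup.orderOf_coe _).trans D.orderOf_z
  set cJ := Nat.card (Subgroup.centralizer ({J} : Set G))
  have hfib : ∀ (p : G → Prop) [DecidablePred p],
      ((Finset.univ.filter fun t => p (J * (t * J * t⁻¹))).card : ℂ) =
        (cJ : ℂ) * ({u : G | orderOf u = 2 ∧ p (J * u)}.ncard : ℂ) := by
    intro p _
    rw [← Nat.cast_mul, Nat.cast_inj, Finset.card_eq_sum_card_fiberwise (f := fun t => t * J * t⁻¹)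
      (t := {u : G | orderOf u = 2 ∧ p (J * u)}.toFinset) fun t ht => by
        simpa [orderOf_conj_eq, hJ2] using (Finset.mem_filter.1 ht).2,
      Finset.sum_congr rfl (g := fun _ => cJ), Finset.sum_const, ← Set.ncard_eq_toFinset_card',
      smul_eq_mul, mul_comm]
    intro u hu
    simp only [Set.mem_toFinset, Set.mem_ofPred_eq] at hu
    obtain ⟨g, hg⟩ := isConj_iff.1 (hone J u hJ2 hu.1)
    rw [← Fintype.card_coe]
    simp only [cJ, Nat.card_eq_fintype_card]
    refine Fintype.card_congr ?_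
    exact
      { toFun := fun t => ⟨g⁻¹ * t.1, Subgroup.mem_centralizer_singleton_iff.2 (by
          have ht : t.1 * J * (t.1)⁻¹ = g * J * g⁻¹ :=
            ((Finset.mem_filter.1 t.2).2).trans hg.symm
          calc g⁻¹ * t.1 * J = g⁻¹ * (t.1 * J * (t.1)⁻¹) * t.1 := by group
            _ = J * (g⁻¹ * t.1) := by rw [ht]; group)⟩
        invFun := fun c => ⟨g * c.1, by
          have hc := Subgroup.mem_centralizer_singleton_iff.1 c.2
          have he : g * (c : G) * J * (g * (c : G))⁻¹ = u := by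
            rw [← hg, mul_assoc g, hc]; group
          simp only [Finset.mem_filter, Finset.mem_univ, true_and]
          exact ⟨by rw [he]; exact hu.2, he⟩⟩
        left_inv := fun t => Subtype.ext (mul_inv_cancel_left g t.1)
        right_inv := fun c => Subtype.ext (inv_mul_cancel_left g c.1) }
  rw [← Nat.cast_pow, ← count_even_pairs P D hone, Nat.cast_add, Finset.mul_sum,
    mul_assoc, mul_add, ← hfib (fun x => 2 ∣ orderOf x),
    ← hfib (fun x => ∃ w, IsPPart 2 x w ∧ orderOf w = 2), ← Finset.sum_boole, ← Finset.sum_boole,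
    ← Finset.sum_add_distrib, Finset.mul_sum,
    Finset.sum_congr (s₁ := (Finset.univ : Finset G)) rfl (g := fun t =>
      ∑ χ ∈ (principalBlock M G).toFinite.toFinset,
        weight P D χ * (χ : G → ℂ) (J * (t * J * t⁻¹))) (fun t _ => by
      rw [sum_weight_mul hM P D hh hone]; congr!),
    Finset.sum_comm]
  refine Finset.sum_congr rfl fun χ _ => ?_
  rw [← Finset.mul_sum, CfsgLib.BlockB.sum_irr_mul_conj]
  ring

variable {χ₁ χ₂ χ₃ : IrrCharacter G} {χ' : ℕ → IrrCharacter G} {δ₁ δ₂ δ₃ : ℤ} {ζ : ℂ}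
  (hζ : IsPrimitiveRoot ζ (2 * D.h))

omit hM hh in
theorem Shape.sum_block (S : Shape M P D ζ χ₁ χ₂ χ₃ χ' δ₁ δ₂ δ₃) (f : IrrCharacter G → ℂ) :
    ∑ χ ∈ (principalBlock M G).toFinite.toFinset, f χ =
      f trivIrr + f χ₁ + f χ₂ + f χ₃ + ∑ j ∈ Finset.Ico 1 D.h, f (χ' j) := by
  classical
  have hset : (principalBlock M G).toFinite.toFinset =
      insert trivIrr (insert χ₁ (insert χ₂ (insert χ₃ ((Finset.Ico 1 D.h).image χ')))) := by
    ext χ
    simp only [Set.Finite.mem_toFinset, S.block_eq, Finset.mem_insert, Finset.mem_image]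
    refine or_congr ⟨fun e => Subtype.ext e, fun e => by rw [e]; rfl⟩
      (or_congr Iff.rfl (or_congr Iff.rfl (or_congr Iff.rfl
        ⟨fun ⟨j, hj, e⟩ => ⟨j, hj, e.symm⟩, fun ⟨j, hj, e⟩ => ⟨j, hj, e.symm⟩⟩)))
  have e1 : (trivIrr : IrrCharacter G) ≠ χ₁ := fun e => S.ne_one₁ (by rw [← e]; rfl)
  have e2 : (trivIrr : IrrCharacter G) ≠ χ₂ := fun e => S.ne_one₂ (by rw [← e]; rfl)
  have e3 : (trivIrr : IrrCharacter G) ≠ χ₃ := fun e => S.ne_one₃ (by rw [← e]; rfl)
  have hn0 : ∀ j ∈ Finset.Ico 1 D.h, (trivIrr : IrrCharacter G) ≠ χ' j := fun j hj e =>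
    (S.leaf_ne j hj).2.2.2 (by rw [← e]; rfl)
  have m3 : χ₃ ∉ (Finset.Ico 1 D.h).image χ' := by
    simp only [Finset.mem_image, not_exists, not_and]
    exact fun j hj e => (S.leaf_ne j hj).2.2.1 e
  have m2 : χ₂ ∉ insert χ₃ ((Finset.Ico 1 D.h).image χ') := by
    simp only [Finset.mem_insert, Finset.mem_image, not_or, not_exists, not_and]
    exact ⟨S.ne₂₃, fun j hj e => (S.leaf_ne j hj).2.1 e⟩
  have m1 : χ₁ ∉ insert χ₂ (insert χ₃ ((Finset.Ico 1 D.h).image χ')) := by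
    simp only [Finset.mem_insert, Finset.mem_image, not_or, not_exists, not_and]
    exact ⟨S.ne₁₂, S.ne₁₃, fun j hj e => (S.leaf_ne j hj).1 e⟩
  have m0 : (trivIrr : IrrCharacter G) ∉
      insert χ₁ (insert χ₂ (insert χ₃ ((Finset.Ico 1 D.h).image χ'))) := by
    simp only [Finset.mem_insert, Finset.mem_image, not_or, not_exists, not_and]
    exact ⟨e1, e2, e3, fun j hj e => hn0 j hj e.symm⟩
  rw [hset, Finset.sum_insert m0, Finset.sum_insert m1, Finset.sum_insert m2,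
    Finset.sum_insert m3, Finset.sum_image S.injOn]
  simp only [add_assoc]

omit hM in
theorem sum_neg_one_Ico (k : ℕ) (hk : 1 ≤ k) :
    ∑ l ∈ Finset.Ico 1 (2 * k), (-1 : ℂ) ^ (l + 1) = 1 := by
  obtain ⟨k, rfl⟩ := Nat.exists_eq_add_of_le hk
  rw [Finset.sum_Ico_eq_sum_range]
  induction k with
  | zero => norm_num
  | succ k ih =>
    rw [show 2 * (1 + (k + 1)) - 1 = 2 * (1 + k) - 1 + 1 + 1 by omega, Finset.sum_range_succ,
      Finset.sum_range_succ, ih (by omega),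
      show 1 + (2 * (1 + k) - 1) + 1 = 2 * (1 + k) + 1 by omega,
      show 1 + (2 * (1 + k) - 1 + 1) + 1 = 2 * (1 + k) + 2 by omega]
    simp [pow_add, pow_mul]

omit hM in
include hζ in
/-- The weights of the members. -/
theorem Shape.weights (S : Shape M P D ζ χ₁ χ₂ χ₃ χ' δ₁ δ₂ δ₃) :
    weight P D χ₁ = δ₁ * (2 * D.h : ℕ) ∧ weight P D χ₂ = 0 ∧ weight P D χ₃ = 0 ∧
      ∀ j ∈ Finset.Ico 1 D.h, weight P D (χ' j) = δ₁ * (2 * (-1) ^ j - 2) ∧
        (χ' j : G → ℂ) (dz P D) = δ₁ * (2 * (-1) ^ j) := by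
  have hq : ∀ l ∈ Finset.Ico 1 (2 * D.h), ¬ 2 * D.h ∣ l := fun l hl h => by
    obtain ⟨h1, h2⟩ := Finset.mem_Ico.1 hl
    have := Nat.le_of_dvd h1 h
    omega
  have hhq : ¬ 2 * D.h ∣ D.h := fun h => by have := Nat.le_of_dvd (by omega) h; omega
  have heven : Even D.h := by
    obtain ⟨k, hk⟩ := D.h_pow
    rcases k with _ | k
    · simp at hk; omega
    · exact hk ▸ (Nat.even_pow.2 ⟨even_two, Nat.succ_ne_zero k⟩)
  have hhsign : (-1 : ℂ) ^ (D.h + 1) = -1 := by rw [pow_succ, heven.neg_one_pow, one_mul]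
  have h2 : ∀ (χ : IrrCharacter G) (δ : ℤ), (∀ l : ℕ, ¬ 2 * D.h ∣ l →
      (χ : G → ℂ) (rot P D ^ l) = δ * (-1) ^ (l + 1)) → weight P D χ = 0 := by
    intro χ δ hv
    rw [weight, ← rot_pow_h, hv _ hhq, Finset.sum_congr rfl (fun l hl => hv l (hq l hl)),
      ← Finset.mul_sum, sum_neg_one_Ico P D hh D.h (by omega), hhsign]
    ring
  refine ⟨?_, h2 _ _ S.val₂, h2 _ _ S.val₃, fun j hj => ?_⟩
  · rw [weight, ← rot_pow_h, S.val₁ _ hhq, Finset.sum_congr rfl (fun l hl => S.val₁ l (hq l hl)),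
      Finset.sum_const, Nat.card_Ico, nsmul_eq_mul, Nat.cast_sub (by omega)]
    push_cast; ring
  · obtain ⟨hj1, hj2⟩ := Finset.mem_Ico.1 hj
    have hz2 : ζ ^ D.h = -1 := by
      have h1 : ζ ^ D.h * ζ ^ D.h = 1 := by rw [← pow_add, ← two_mul, root_pow_q P D hζ]
      rcases mul_self_eq_one_iff.1 h1 with h | h
      · exact absurd ((hζ.pow_eq_one_iff_dvd D.h).1 h) hhq
      · exact h
    have hJ : (χ' j : G → ℂ) (dz P D) = δ₁ * (2 * (-1) ^ j) := by
      rw [← rot_pow_h, S.val' _ hhq j hj, mul_comm j, pow_mul, hz2, ← inv_pow, inv_neg, inv_one]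
      ring
    refine ⟨?_, hJ⟩
    have hsum : ∀ ω : ℂ, ω ^ (2 * D.h) = 1 → ω ≠ 1 → ∑ l ∈ Finset.Ico 1 (2 * D.h), ω ^ l = -1 := by
      intro ω h h1
      have h2 := sum_pow_root h
      rw [if_neg h1, Finset.range_eq_Ico, Finset.sum_eq_sum_Ico_succ_bot (by omega), pow_zero] at h2
      linear_combination h2
    have hne : ζ ^ j ≠ 1 := fun h => by
      have := Nat.le_of_dvd hj1 ((hζ.pow_eq_one_iff_dvd j).1 h)
      omega
    rw [weight, hJ, Finset.sum_congr rfl (g := fun l => (δ₁ : ℂ) * ((ζ ^ j) ^ l + (ζ ^ j)⁻¹ ^ l))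
      (fun l hl => by rw [S.val' l (hq l hl) j hj, pow_mul, inv_pow (ζ ^ j)]), ← Finset.mul_sum,
      Finset.sum_add_distrib, hsum _ (pow_pow_q P D hζ (root_pow_q P D hζ) j) hne,
      hsum _ (by rw [inv_pow, pow_pow_q P D hζ (root_pow_q P D hζ) j, inv_one])
        (fun h => hne (inv_eq_one.1 h))]
    ring

omit hM in
theorem sum_neg_one_range (k : ℕ) :
    ∑ j ∈ Finset.range (2 * k), (-1 : ℂ) ^ j = 0 := by
  induction k with
  | zero => simp
  | succ k ih =>
    rw [show 2 * (k + 1) = 2 * k + 1 + 1 by ring, Finset.sum_range_succ, Finset.sum_range_succ, ih,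
      pow_succ, pow_mul]
    simp

include hζ in
/-- **The order formula.** -/
theorem order_formula (S : Shape M P D ζ χ₁ χ₂ χ₃ χ' δ₁ δ₂ δ₃)
    (hone : ∀ s t : G, orderOf s = 2 → orderOf t = 2 → IsConj s t) :
    (charDegree (χ₁ : G → ℂ) : ℤ) ≠ δ₁ ∧
      (Nat.card G : ℚ) * ((charDegree (χ₁ : G → ℂ) : ℚ) - δ₁) ^ 2 =
        2 * (charDegree (χ₁ : G → ℂ) : ℚ) * ((charDegree (χ₁ : G → ℂ) : ℚ) + δ₁) *
          (Nat.card (Subgroup.centralizer ({dz P D} : Set G)) : ℚ) ^ 3 *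
          (1 / (Nat.card (Subgroup.centralizer ({dz P D, dt P D 0} : Set G)) : ℚ) +
            1 / (Nat.card (Subgroup.centralizer ({dz P D, dt P D 1} : Set G)) : ℚ)) ^ 2 := by
  set x := charDegree (χ₁ : G → ℂ) with hx
  set cJ := Nat.card (Subgroup.centralizer ({dz P D} : Set G)) with hcJ
  set Z := (invSet (dz P D)).ncard with hZ
  have h1mem : 1 ∈ Finset.Ico 1 D.h := Finset.mem_Ico.2 ⟨le_rfl, by omega⟩
  have hx0 : (x : ℂ) ≠ 0 := Nat.cast_ne_zero.2 (CfsgLib.BlockB.irr_degree_ne_zero χ₁)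
  have hleaf : ∀ j ∈ Finset.Ico 1 D.h, (χ' j : G → ℂ) 1 = (x : ℂ) + δ₁ := by
    intro j hj
    have h := (S.rel 1 (by rw [orderOf_one]; norm_num) j hj).2
    rw [← CfsgLib.BlockB.irr_degree_cast χ₁, ← hx] at h
    rcases S.sgn₁ with e | e <;> rw [e] at h ⊢ <;> push_cast at h ⊢
    · linear_combination -h
    · linear_combination h
  have hxd : (x : ℂ) + δ₁ ≠ 0 := by
    rw [← hleaf 1 h1mem]
    exact CfsgLib.Char.irr_apply_one_ne_zero (χ' 1).2
  obtain ⟨w1, w2, w3, wl⟩ := S.weights P D hh hζ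
  have hhq : ¬ 2 * D.h ∣ D.h := fun h => by have := Nat.le_of_dvd (by omega) h; omega
  have hd1 : (δ₁ : ℂ) ^ 2 = 1 := by rcases S.sgn₁ with e | e <;> simp [e]
  have ht : weight P D (trivIrr : IrrCharacter G) = (2 * D.h : ℕ) := by
    simp only [weight, trivIrr, Finset.sum_const, Nat.card_Ico, nsmul_eq_mul, mul_one]
    rw [Nat.cast_sub (by omega)]
    push_cast; ring
  have hsign : ∑ j ∈ Finset.Ico 1 D.h, (-1 : ℂ) ^ j = -1 := by
    obtain ⟨k, hk⟩ := D.h_pow
    rcases k with _ | k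
    · simp at hk; omega
    · have h := sum_neg_one_range P D hh (2 ^ k)
      rw [← pow_succ', ← hk, Finset.range_eq_Ico, Finset.sum_eq_sum_Ico_succ_bot (by omega),
        pow_zero] at h
      linear_combination h
  have hsum : ∑ χ ∈ (principalBlock M G).toFinite.toFinset,
      weight P D χ * (χ : G → ℂ) (dz P D) ^ 2 / (χ : G → ℂ) 1 =
      (2 * D.h : ℕ) + δ₁ * (2 * D.h : ℕ) / x +
        δ₁ * (2 * (-1) - 2 * ((D.h : ℂ) - 1)) * 4 / ((x : ℂ) + δ₁) := by
    rw [S.sum_block P D, ht, w1, w2, w3, ← CfsgLib.BlockB.irr_degree_cast χ₁, ← hx, ← rot_pow_h,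
      S.val₁ _ hhq, hd1, Finset.sum_congr rfl (g := fun j => (δ₁ : ℂ) * (2 * (-1) ^ j - 2) * 4 /
        ((x : ℂ) + δ₁)) (fun j hj => by
          obtain ⟨e1, e2⟩ := wl j hj
          rw [rot_pow_h, e1, e2, hleaf j hj, mul_pow, mul_pow, hd1, ← pow_mul, mul_comm j 2, pow_mul]
          norm_num),
      ← Finset.sum_div, ← Finset.sum_mul, ← Finset.mul_sum, Finset.sum_sub_distrib, ← Finset.mul_sum,
      hsign, Finset.sum_const, Nat.card_Ico, nsmul_eq_mul, Nat.cast_sub (by omega)]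
    simp [trivIrr]
    ring
  have hmain : (Nat.card G : ℂ) * ((x : ℂ) - δ₁) ^ 2 = 2 * x * ((x : ℂ) + δ₁) * cJ * (Z : ℂ) ^ 2 := by
    have h := weight_order_sum hM P D hh hone
    rw [hsum, ← hcJ, ← hZ] at h
    field_simp at h
    push_cast at h
    refine mul_left_cancel₀ (show ((2 * D.h : ℕ) : ℂ) ≠ 0 from q_ne_zero P D) ?_
    push_cast
    linear_combination h + 2 * (D.h : ℂ) * (Nat.card G : ℂ) * hd1 * 0
  have hZQ := ncard_invSet_dz P D
  rw [← hcJ, ← hZ] at hZQ
  have hmainQ : (Nat.card G : ℚ) * ((x : ℚ) - δ₁) ^ 2 = 2 * x * ((x : ℚ) + δ₁) * cJ * (Z : ℚ) ^ 2 := by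
    have h' : ((Nat.card G : ℤ) * ((x : ℤ) - δ₁) ^ 2 : ℤ) = 2 * x * ((x : ℤ) + δ₁) * cJ * (Z : ℤ) ^ 2 := by
      apply Int.cast_injective (α := ℂ)
      push_cast
      exact hmain
    exact_mod_cast h'
  refine ⟨fun he => ?_, ?_⟩
  · have he' : (x : ℚ) = δ₁ := by exact_mod_cast he
    have hxQ : (x : ℚ) ≠ 0 := Nat.cast_ne_zero.2 (CfsgLib.BlockB.irr_degree_ne_zero χ₁)
    rw [← he', sub_self, zero_pow two_ne_zero, mul_zero] at hmainQ
    have hcQ : (cJ : ℚ) ≠ 0 := Nat.cast_ne_zero.2 Nat.card_pos.ne'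
    have hZ0 : (Z : ℚ) ≠ 0 := by
      rw [hZQ]
      have : ∀ t : G, (0 : ℚ) < 1 / (Nat.card (Subgroup.centralizer ({dz P D, t} : Set G)) : ℚ) :=
        fun t => one_div_pos.2 (Nat.cast_pos.2 Nat.card_pos)
      exact mul_ne_zero hcQ (add_pos (this _) (this _)).ne'
    have : (x : ℚ) + (x : ℚ) ≠ 0 := by
      intro h; exact hxQ (by linarith)
    exact absurd hmainQ.symm
      (mul_ne_zero (mul_ne_zero (mul_ne_zero (mul_ne_zero two_ne_zero hxQ) this) hcQ)
        (pow_ne_zero _ hZ0))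
  · rw [hmainQ, hZQ]
    ring

end CfsgLib.BlockA.DihedralBlock
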