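import Mathlib.Algebra.BigOperators.Group.Finset.Basic
import Mathlib.Algebra.Order.BigOperators.Group.Finset
import Mathlib.Data.Int.Basic
import Mathlib.Tactic

/-!
The integer vectors belonging to a principal block with dihedral defect group form a star.
-/

set_option autoImplicit false
set_option linter.unusedSectionVars false

namespace CfsgLib.BlockA.DihedralBlock

variable {ι : Type*}

/-- A vector of small norm has entries `0, ±1` and as many nonzero entries as its norm. -/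
theorem small_support (S : Finset ι) (v : ι → ℤ) {n : ℤ}
    (hn : n ≤ 3) (hv : ∑ i ∈ S, v i * v i = n) :
    (∀ i ∈ S, v i = -1 ∨ v i = 0 ∨ v i = 1) ∧
      ((S.filter fun i => v i ≠ 0).card : ℤ) = n := by
  have hb : ∀ i ∈ S, v i = -1 ∨ v i = 0 ∨ v i = 1 := fun i hi => by
    have h1 : v i * v i ≤ n := hv ▸ Finset.single_le_sum (f := fun i => v i * v i)
      (fun j _ => mul_self_nonneg _) hi
    have h2 : -1 ≤ v i := by nlinarith
    have h3 : v i ≤ 1 := by nlinarith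
    omega
  refine ⟨hb, ?_⟩
  rw [← hv, Finset.card_filter, Nat.cast_sum]
  refine Finset.sum_congr rfl fun i hi => ?_
  rcases hb i hi with h | h | h <;> simp [h]

theorem sum_pair_mul [DecidableEq ι] {S : Finset ι} {P N : ι} (hP : P ∈ S) (hN : N ∈ S) (hne : P ≠ N)
    (w : ι → ℤ) (a b : ℤ) :
    ∑ i ∈ S, (if i = P then a else if i = N then b else 0) * w i = a * w P + b * w N := by
  rw [← Finset.sum_subset (s₁ := ({P, N} : Finset ι)) (s₂ := S)
    (by simp [Finset.insert_subset_iff, hP, hN]) (fun i _ hi => by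
      simp only [Finset.mem_insert, Finset.mem_singleton, not_or] at hi
      simp [hi.1, hi.2]), Finset.sum_pair hne]
  simp [hne.symm]

/-- A vector of norm two with weighted sum one is a difference of two unit vectors. -/
theorem norm_two_shape [DecidableEq ι] (S : Finset ι) (v x : ι → ℤ) (hx : ∀ i ∈ S, 1 ≤ x i)
    (hv : ∑ i ∈ S, v i * v i = 2) (hd : ∑ i ∈ S, v i * x i = 1) :
    ∃ P N : ι, P ∈ S ∧ N ∈ S ∧ P ≠ N ∧
      ∀ i ∈ S, v i = if i = P then 1 else if i = N then -1 else 0 := by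
  obtain ⟨hb, hc⟩ := small_support S v (by norm_num) hv
  obtain ⟨P, N, hne, hPN⟩ := Finset.card_eq_two.1 (show (S.filter fun i => v i ≠ 0).card = 2 by
    exact_mod_cast hc)
  have hmem : ∀ i, i ∈ S ∧ v i ≠ 0 ↔ i = P ∨ i = N := fun i => by
    have h := Finset.ext_iff.1 hPN i
    simpa using h
  have hP := (hmem P).2 (Or.inl rfl)
  have hN := (hmem N).2 (Or.inr rfl)
  have hshape : ∀ i ∈ S, v i = if i = P then v P else if i = N then v N else 0 := fun i hi => by
    split_ifs with h1 h2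
    · rw [h1]
    · rw [h2]
    · by_contra h0
      rcases (hmem i).1 ⟨hi, h0⟩ with h | h
      exacts [h1 h, h2 h]
  rw [Finset.sum_congr rfl (fun i hi => congrArg (· * x i) (hshape i hi)),
    sum_pair_mul hP.1 hN.1 hne] at hd
  have := hx P hP.1
  have := hx N hN.1
  rcases hb P hP.1 with e1 | e1 | e1
  · rcases hb N hN.1 with e2 | e2 | e2
    · rw [e1, e2] at hd; omega
    · exact absurd e2 hN.2
    · refine ⟨N, P, hN.1, hP.1, hne.symm, fun i hi => ?_⟩
      rw [hshape i hi, e1, e2]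
      rcases eq_or_ne i P with rfl | h1
      · simp [hne]
      · simp [h1]
  · exact absurd e1 hP.2
  · rcases hb N hN.1 with e2 | e2 | e2
    · refine ⟨P, N, hP.1, hN.1, hne, fun i hi => ?_⟩
      rw [hshape i hi, e1, e2]
    · exact absurd e2 hN.2
    · rw [e1, e2] at hd; omega

/-- The star once the centre is chosen. -/
theorem star_of_centre [DecidableEq ι] (S : Finset ι) {h : ℕ} (hh : 2 ≤ h) (hh3 : h ≠ 3) (u : ℕ → ι → ℤ) (x : ι → ℤ)
    (hdeg : ∀ j ∈ Finset.Icc 1 h, ∑ i ∈ S, u j i * x i = 1)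
    (hnorm : ∑ i ∈ S, u h i * u h i = 3) {c : ι} {α : ℤ} (hα : α = 1 ∨ α = -1) {leaf : ℕ → ι}
    (hc : c ∈ S) (hleaf : ∀ j ∈ Finset.Ico 1 h, leaf j ∈ S ∧ leaf j ≠ c)
    (hinj : Set.InjOn leaf (Finset.Ico 1 h : Set ℕ))
    (hu : ∀ j ∈ Finset.Ico 1 h, ∀ i ∈ S, u j i = if i = c then α else if i = leaf j then -α else 0)
    (hcase : ∀ j ∈ Finset.Ico 1 h,
      (u h c = α ∧ u h (leaf j) = 0) ∨ (u h c = 0 ∧ u h (leaf j) = -α))
    (hctr : u h c = α ∨ 4 ≤ h) :
    ∃ (c a b : ι) (leaf : ℕ → ι) (α γ δ : ℤ), (α = 1 ∨ α = -1) ∧ (γ = 1 ∨ γ = -1) ∧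
      (δ = 1 ∨ δ = -1) ∧ c ∈ S ∧ a ∈ S ∧ b ∈ S ∧
      (∀ j ∈ Finset.Ico 1 h, leaf j ∈ S ∧ leaf j ≠ c ∧ leaf j ≠ a ∧ leaf j ≠ b) ∧
      Set.InjOn leaf (Finset.Ico 1 h : Set ℕ) ∧ c ≠ a ∧ c ≠ b ∧ a ≠ b ∧
      (∀ j ∈ Finset.Ico 1 h, ∀ i ∈ S,
        u j i = if i = c then α else if i = leaf j then -α else 0) ∧
      (∀ i ∈ S, u h i = if i = c then α else if i = a then γ else if i = b then δ else 0) := by
  obtain ⟨hb, hcard⟩ := small_support S (u h) le_rfl hnorm
  have hcard' : (S.filter fun i => u h i ≠ 0).card = 3 := by exact_mod_cast hcard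
  have hα0 : α ≠ 0 := by rcases hα with e | e <;> omega
  have huc : u h c = α := by
    by_contra hne
    have h4 : 4 ≤ h := hctr.resolve_left hne
    have hl : ∀ j ∈ Finset.Ico 1 h, u h (leaf j) = -α := fun j hj =>
      ((hcase j hj).resolve_left fun e => hne e.1).2
    have hsub : (Finset.Ico 1 h).image leaf ⊆ S.filter fun i => u h i ≠ 0 := by
      intro i hi
      obtain ⟨j, hj, rfl⟩ := Finset.mem_image.1 hi
      refine Finset.mem_filter.2 ⟨(hleaf j hj).1, ?_⟩
      rw [hl j hj]; omega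
    have hci : ((Finset.Ico 1 h).image leaf).card = h - 1 := by
      rw [Finset.card_image_of_injOn hinj, Nat.card_Ico]
    have h41 : h = 4 := by
      have := Finset.card_le_card hsub
      omega
    have heq := Finset.eq_of_subset_of_card_le hsub (by omega)
    have hd := hdeg h (Finset.mem_Icc.2 ⟨by omega, le_rfl⟩)
    rw [← Finset.sum_filter_of_ne (p := fun i => u h i ≠ 0) (fun i _ h0 e => h0 (by rw [e, zero_mul])),
      ← heq, Finset.sum_image hinj] at hd
    have hlx : ∀ j ∈ Finset.Ico 1 h, u h (leaf j) * x (leaf j) = 1 - α * x c := fun j hj => by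
      have hj' := hdeg j (Finset.Ico_subset_Icc_self hj)
      rw [Finset.sum_congr rfl (fun i hi => congrArg (· * x i) (hu j hj i hi)),
        sum_pair_mul hc (hleaf j hj).1 (hleaf j hj).2.symm] at hj'
      rw [hl j hj]
      linarith
    rw [Finset.sum_congr rfl hlx, Finset.sum_const, Nat.card_Ico, h41] at hd
    norm_num at hd
    omega
  have hcmem : c ∈ S.filter fun i => u h i ≠ 0 := Finset.mem_filter.2 ⟨hc, by omega⟩
  obtain ⟨a, b, hab, he⟩ := Finset.card_eq_two.1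
    (show ((S.filter fun i => u h i ≠ 0).erase c).card = 2 by
      rw [Finset.card_erase_of_mem hcmem, hcard'])
  have hmem : ∀ i, i ≠ c ∧ i ∈ S ∧ u h i ≠ 0 ↔ i = a ∨ i = b := fun i => by
    have h := Finset.ext_iff.1 he i
    simpa using h
  have ha := (hmem a).2 (Or.inl rfl)
  have hb' := (hmem b).2 (Or.inr rfl)
  have hl0 : ∀ j ∈ Finset.Ico 1 h, u h (leaf j) = 0 := fun j hj =>
    ((hcase j hj).resolve_right fun e => hα0 (huc.symm.trans e.1)).2
  refine ⟨c, a, b, leaf, α, u h a, u h b, hα, ?_, ?_, hc, ha.2.1, hb'.2.1, fun j hj => ?_, hinj,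
    ha.1.symm, hb'.1.symm, hab, hu, fun i hi => ?_⟩
  · have := hb a ha.2.1; have := ha.2.2; omega
  · have := hb b hb'.2.1; have := hb'.2.2; omega
  · exact ⟨(hleaf j hj).1, (hleaf j hj).2, fun e => ha.2.2 (e ▸ hl0 j hj),
      fun e => hb'.2.2 (e ▸ hl0 j hj)⟩
  · split_ifs with h1 h2 h3
    · rw [h1, huc]
    · rw [h2]
    · rw [h3]
    · by_contra h0
      rcases (hmem i).1 ⟨h1, hi, h0⟩ with e | e
      exacts [h2 e, h3 e]

/-- **The star.** -/
theorem exists_star [DecidableEq ι] (S : Finset ι) {h : ℕ} (hh : 2 ≤ h) (hh3 : h ≠ 3) (u : ℕ → ι → ℤ) (x : ι → ℤ)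
    (hx : ∀ i ∈ S, 1 ≤ x i)
    (hdeg : ∀ j ∈ Finset.Icc 1 h, ∑ i ∈ S, u j i * x i = 1)
    (hgram : ∀ j ∈ Finset.Icc 1 h, ∀ k ∈ Finset.Icc 1 h,
      ∑ i ∈ S, u j i * u k i = if j = k then (if j = h then 3 else 2) else 1) :
    ∃ (c a b : ι) (leaf : ℕ → ι) (α γ δ : ℤ), (α = 1 ∨ α = -1) ∧ (γ = 1 ∨ γ = -1) ∧
      (δ = 1 ∨ δ = -1) ∧ c ∈ S ∧ a ∈ S ∧ b ∈ S ∧
      (∀ j ∈ Finset.Ico 1 h, leaf j ∈ S ∧ leaf j ≠ c ∧ leaf j ≠ a ∧ leaf j ≠ b) ∧
      Set.InjOn leaf (Finset.Ico 1 h : Set ℕ) ∧ c ≠ a ∧ c ≠ b ∧ a ≠ b ∧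
      (∀ j ∈ Finset.Ico 1 h, ∀ i ∈ S,
        u j i = if i = c then α else if i = leaf j then -α else 0) ∧
      (∀ i ∈ S, u h i = if i = c then α else if i = a then γ else if i = b then δ else 0) := by
  have hIc : ∀ {j}, j ∈ Finset.Ico 1 h → j ∈ Finset.Icc 1 h := fun hj =>
    Finset.Ico_subset_Icc_self hj
  have hlt : ∀ {j}, j ∈ Finset.Ico 1 h → j ≠ h := fun hj => (Finset.mem_Ico.1 hj).2.ne
  have hne : Nonempty ι := by
    by_contra hno
    have := not_nonempty_iff.1 hno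
    have h1 := hdeg 1 (Finset.mem_Icc.2 ⟨le_rfl, by omega⟩)
    rw [Finset.eq_empty_of_isEmpty S, Finset.sum_empty] at h1
    omega
  have hshape : ∀ j, ∃ P N : ι, j ∈ Finset.Ico 1 h → P ∈ S ∧ N ∈ S ∧ P ≠ N ∧
      ∀ i ∈ S, u j i = if i = P then 1 else if i = N then -1 else 0 := by
    intro j
    by_cases hj : j ∈ Finset.Ico 1 h
    · have hg := hgram j (hIc hj) j (hIc hj)
      rw [if_pos rfl, if_neg (hlt hj)] at hg
      obtain ⟨P, N, hPN⟩ := norm_two_shape S (u j) x hx hg (hdeg j (hIc hj))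
      exact ⟨P, N, fun _ => hPN⟩
    · exact ⟨hne.some, hne.some, fun h' => absurd h' hj⟩
  choose P N hPN using hshape
  -- pairing with a difference of unit vectors
  have hpair : ∀ j ∈ Finset.Ico 1 h, ∀ w : ι → ℤ, ∑ i ∈ S, u j i * w i = w (P j) - w (N j) := by
    intro j hj w
    obtain ⟨hP, hN, hne, hs⟩ := hPN j hj
    rw [Finset.sum_congr rfl (fun i hi => congrArg (· * w i) (hs i hi)), sum_pair_mul hP hN hne]
    ring
  have hxor : ∀ j ∈ Finset.Ico 1 h, ∀ k ∈ Finset.Ico 1 h, j ≠ k →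
      (P j = P k ∧ N j ≠ N k) ∨ (N j = N k ∧ P j ≠ P k) := by
    intro j hj k hk hjk
    have hg := hgram j (hIc hj) k (hIc hk)
    rw [if_neg hjk, hpair j hj] at hg
    obtain ⟨hP, hN, hne, -⟩ := hPN j hj
    obtain ⟨-, -, hne', hs⟩ := hPN k hk
    rw [hs _ hP, hs _ hN] at hg
    split_ifs at hg with a1 a2 a3 a4 <;> grind
  have huh : ∀ j ∈ Finset.Ico 1 h,
      (u h (P j) = 1 ∧ u h (N j) = 0) ∨ (u h (P j) = 0 ∧ u h (N j) = -1) := by
    intro j hj
    have hg := hgram j (hIc hj) h (Finset.mem_Icc.2 ⟨by omega, le_rfl⟩)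
    rw [if_neg (hlt hj), hpair j hj] at hg
    have hn := hgram h (Finset.mem_Icc.2 ⟨by omega, le_rfl⟩) h (Finset.mem_Icc.2 ⟨by omega, le_rfl⟩)
    rw [if_pos rfl, if_pos rfl] at hn
    obtain ⟨hb, -⟩ := small_support S (u h) le_rfl hn
    have := hb _ (hPN j hj).1
    have := hb _ (hPN j hj).2.1
    omega
  have hn := hgram h (Finset.mem_Icc.2 ⟨by omega, le_rfl⟩) h (Finset.mem_Icc.2 ⟨by omega, le_rfl⟩)
  rw [if_pos rfl, if_pos rfl] at hn
  have h1 : 1 ∈ Finset.Ico 1 h := Finset.mem_Ico.2 ⟨le_rfl, by omega⟩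
  -- the two orientations
  have hleft : (∀ j ∈ Finset.Ico 1 h, P j = P 1) → (u h (P 1) = 1 ∨ 4 ≤ h) →
      _ := fun hall hctr =>
    star_of_centre S hh hh3 u x hdeg hn (c := P 1) (α := 1) (Or.inl rfl) (leaf := N) (hPN 1 h1).1
      (fun j hj => ⟨(hPN j hj).2.1, hall j hj ▸ (hPN j hj).2.2.1.symm⟩)
      (fun j hj k hk e => by
        by_contra hjk
        rcases hxor j hj k hk hjk with h' | h'
        · exact h'.2 e
        · exact h'.2 ((hall j hj).trans (hall k hk).symm))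
      (fun j hj i hi => by rw [← hall j hj]; exact (hPN j hj).2.2.2 i hi)
      (fun j hj => by rw [← hall j hj]; exact huh j hj) hctr
  have hright : (∀ j ∈ Finset.Ico 1 h, N j = N 1) → (u h (N 1) = -1 ∨ 4 ≤ h) →
      _ := fun hall hctr =>
    star_of_centre S hh hh3 u x hdeg hn (c := N 1) (α := -1) (Or.inr rfl) (leaf := P) (hPN 1 h1).2.1
      (fun j hj => ⟨(hPN j hj).1, hall j hj ▸ (hPN j hj).2.2.1⟩)
      (fun j hj k hk e => by
        by_contra hjk
        rcases hxor j hj k hk hjk with h' | h'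
        · exact h'.2 ((hall j hj).trans (hall k hk).symm)
        · exact h'.2 e)
      (fun j hj i hi => by
        rw [← hall j hj, (hPN j hj).2.2.2 i hi, neg_neg]
        have hne := (hPN j hj).2.2.1
        rcases eq_or_ne i (P j) with rfl | a1
        · simp [hne]
        · simp [a1])
      (fun j hj => by
        rw [← hall j hj, neg_neg]
        rcases huh j hj with e | e
        · exact Or.inr ⟨e.2, e.1⟩
        · exact Or.inl ⟨e.2, e.1⟩) hctr
  rcases eq_or_ne h 2 with h2 | h2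
  · have hj1 : ∀ j ∈ Finset.Ico 1 h, j = 1 := fun j hj => by
      have := Finset.mem_Ico.1 hj; omega
    rcases huh 1 h1 with e | e
    · exact hleft (fun j hj => by rw [hj1 j hj]) (Or.inl e.1)
    · exact hright (fun j hj => by rw [hj1 j hj]) (Or.inl e.2)
  · have h4 : 4 ≤ h := by omega
    by_cases hall : ∀ j ∈ Finset.Ico 1 h, P j = P 1
    · exact hleft hall (Or.inr h4)
    · refine hright (fun k hk => ?_) (Or.inr h4)
      push Not at hall
      obtain ⟨i, hi, hi1⟩ := hall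
      by_contra hk1
      have hi1' : i ≠ 1 := fun e => hi1 (by rw [e])
      have hk1' : k ≠ 1 := fun e => hk1 (by rw [e])
      have hN := ((hxor i hi 1 h1 hi1').resolve_left fun e => hi1 e.1).1
      have hP := ((hxor k hk 1 h1 hk1').resolve_right fun e => hk1 e.1).1
      have hik : i ≠ k := fun e => hi1 (by rw [e, hP])
      rcases hxor i hi k hk hik with e | e
      · exact hi1 (e.1.trans hP)
      · exact hk1 (e.1.symm.trans hN)

end CfsgLib.BlockA.DihedralBlock
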