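import Cfsg.Prelude.Def_BlockRank
import Cfsg.Agent.Lib.Block.PrincipalSection
import Cfsg.Agent.Lib.Block.Knorr
import Cfsg.Agent.Lib.Block.DefectOrder
import Cfsg.Agent.Lib.Invol.Klein
import Cfsg.Agent.Lib.Transfer.ExcSimple

/-!
The principal 2-block of a group with a Klein four Sylow 2-subgroup and one class of involutions.
-/

set_option autoImplicit false
set_option linter.unusedSectionVars false

namespace CfsgLib.BlockA

open Cfsg CfsgLib.Block
open scoped ComplexConjugate

universe u

variable {G : Type u} [Group G] [Finite G]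

/-- The defect of a principal block is full. -/
theorem blockDefect_principalBlock {p : ℕ} (M : Ideal AlgInt) [M.IsPrime] :
    blockDefect p (principalBlock M G) = (Nat.card G).factorization p := by
  have h0 : sInf ((fun χ : IrrCharacter G => (charDegree (χ : G → ℂ)).factorization p) ''
      principalBlock M G) = 0 := Nat.eq_zero_of_le_zero (Nat.sInf_le
    ⟨trivIrr, one_mem_principalBlock, by simp [trivIrr, charDegree]⟩)
  rw [blockDefect, h0, Nat.sub_zero]

theorem factorization_two_of_klein (P : Sylow 2 G) (hP : IsKleinFour (P : Subgroup G)) :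
    (Nat.card G).factorization 2 = 2 := by
  have h := P.card_eq_multiplicity
  rw [hP.card_four, show (4 : ℕ) = 2 ^ 2 by norm_num] at h
  exact (Nat.pow_right_injective le_rfl h).symm

theorem isKleinFour_of_sq {P : Subgroup G} (hP : Nat.card P = 4) (hexp : ∀ x : P, x * x = 1) :
    IsKleinFour P := by
  refine ⟨hP, ?_⟩
  have : Nontrivial P := Finite.one_lt_card_iff_nontrivial.1 (by omega)
  rcases (Nat.dvd_prime Nat.prime_two).1
    (Monoid.exponent_dvd_of_forall_pow_eq_one fun x : P => (pow_two x).trans (hexp x)) with h | h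
  · exact absurd (Monoid.exp_eq_one_iff.1 h) (not_subsingleton P)
  · exact h

/-- The centralizer of an involution of a Klein four Sylow subgroup has a normal 2-complement. -/
theorem klein_centralizer_complement (P : Sylow 2 G) (hP : IsKleinFour (P : Subgroup G)) {s : G}
    (hs : s ∈ (P : Subgroup G)) (hs1 : s ≠ 1) :
    HasNormalPComplement 2 (Subgroup.centralizer ({s} : Set G)) := by
  classical
  set H := Subgroup.centralizer ({s} : Set G)
  have hcomm : ∀ u ∈ (P : Subgroup G), ∀ v ∈ (P : Subgroup G), u * v = v * u := fun u hu v hv =>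
    congrArg Subtype.val ((IsKleinFour.isMulCommutative (G := (P : Subgroup G))).is_comm.comm
      ⟨u, hu⟩ ⟨v, hv⟩)
  have hPH : (P : Subgroup G) ≤ H := fun x hx =>
    Subgroup.mem_centralizer_singleton_iff.2 (hcomm x hx s hs)
  refine CfsgLib.Transfer.hasNormalPComplement_of_normalizer_le_centralizer (P.subtype hPH) ?_
  intro n hn
  rw [Subgroup.mem_centralizer_iff]
  intro x hx
  rw [Sylow.coe_subtype, SetLike.mem_coe, Subgroup.mem_subgroupOf] at hx
  refine Subtype.ext ?_
  show (x : G) * (n : G) = (n : G) * (x : G)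
  set a : G := (x : G) with hadef
  set g : G := (n : G) with hgdef
  have hgN : g ∈ Subgroup.normalizer ((P : Subgroup G) : Set G) := by
    refine Subgroup.mem_normalizer_iff.2 fun y => ?_
    have key : ∀ (m : H), m ∈ Subgroup.normalizer (((P.subtype hPH : Sylow 2 H) : Subgroup H) : Set H) →
        ∀ z ∈ (P : Subgroup G), (m : G) * z * (m : G)⁻¹ ∈ (P : Subgroup G) := fun m hm z hz => by
      have := (Subgroup.mem_normalizer_iff.1 hm ⟨z, hPH hz⟩).1
        (by rw [Sylow.coe_subtype, Subgroup.mem_subgroupOf]; exact hz)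
      rwa [Sylow.coe_subtype, Subgroup.mem_subgroupOf] at this
    refine ⟨key n hn y, fun h => ?_⟩
    have h2 := key n⁻¹ (inv_mem hn) _ h
    simpa [hgdef, mul_assoc] using h2
  have hfix : g * s * g⁻¹ = s := by
    rw [Subgroup.mem_centralizer_singleton_iff.1 n.2, mul_inv_cancel_right]
  rcases eq_or_ne a 1 with ha1 | ha1
  · simp [ha1]
  rcases eq_or_ne a s with has | has
  · rw [has]; exact (Subgroup.mem_centralizer_singleton_iff.1 n.2).symm
  have ha' := (Subgroup.mem_normalizer_iff.1 hgN a).1 hx
  rcases CfsgLib.Invol.klein_mem_of_ne hP hs hx ha' hs1 ha1 (Ne.symm has)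
    (fun e => ha1 (conj_eq_one_iff.1 e)) with e | e | e
  · exact absurd (conj_left_cancel g (e.trans hfix.symm)) has
  · exact (mul_inv_eq_iff_eq_mul.1 e).symm
  · exfalso
    have hsq : g ^ 2 * a * (g ^ 2)⁻¹ = a := by
      calc g ^ 2 * a * (g ^ 2)⁻¹ = g * (g * a * g⁻¹) * g⁻¹ := by
            rw [pow_two, mul_inv_rev]; simp [mul_assoc]
        _ = (g * s * g⁻¹) * (g * a * g⁻¹) := by
            conv_lhs => rw [e]
            group
        _ = a := by rw [hfix, e, ← mul_assoc, CfsgLib.Invol.klein_sq_eq_one hP hs, one_mul]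
    obtain ⟨j, ⟨k, rfl⟩, hj⟩ := CfsgLib.Invol.exists_odd_pow_mem_sylow P hgN
    have h1 : g ^ (2 * k + 1) * a * (g ^ (2 * k + 1))⁻¹ = a := by
      rw [hcomm _ hj a hx, mul_inv_cancel_right]
    have h2 : Commute ((g ^ 2) ^ k) a :=
      Commute.pow_left (mul_inv_eq_iff_eq_mul.1 hsq) k
    rw [pow_succ' g (2 * k), pow_mul, mul_inv_rev, show g * (g ^ 2) ^ k * a *
      (((g ^ 2) ^ k)⁻¹ * g⁻¹) = g * ((g ^ 2) ^ k * a * ((g ^ 2) ^ k)⁻¹) * g⁻¹ by group,
      h2.eq, mul_inv_cancel_right, e] at h1
    exact hs1 (mul_eq_right.1 h1)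
where
  conj_left_cancel (g : G) {x y : G} (h : g * x * g⁻¹ = g * y * g⁻¹) : x = y :=
    mul_left_cancel (mul_right_cancel h)

section Main

variable {M : Ideal AlgInt} [M.IsPrime] (hM : IsPModular 2 M) (P : Sylow 2 G)
  (hP : IsKleinFour (P : Subgroup G))
  (hone : ∀ s t : G, orderOf s = 2 → orderOf t = 2 → IsConj s t)
  {s : G} (hs : s ∈ (P : Subgroup G)) (hs1 : s ≠ 1)
include hM hP hone hs hs1

theorem klein_singular_conj {g : G} (hg : 2 ∣ orderOf g) :
    ∃ a v : G, Commute s v ∧ ¬ 2 ∣ orderOf v ∧ a * g * a⁻¹ = s * v := by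
  obtain ⟨w, hw⟩ := exists_isPPart Nat.prime_two g
  obtain ⟨y, hy, hc, ⟨m, hm⟩, hyr⟩ := id hw
  have hw1 : w ≠ 1 := by
    rintro rfl
    rw [one_mul] at hy
    exact hyr (hy ▸ hg)
  have hwP : IsPGroup 2 (Subgroup.zpowers w) := IsPGroup.of_card (n := m) (by rw [Nat.card_zpowers, hm])
  obtain ⟨Q, hQ⟩ := hwP.exists_le_sylow
  obtain ⟨c, hcQ⟩ := MulAction.exists_smul_eq G Q P
  have hwQ : w ∈ (Q : Subgroup G) := hQ (Subgroup.mem_zpowers w)
  have hcw : c * w * c⁻¹ ∈ (P : Subgroup G) := by
    rw [← hcQ, Sylow.coe_subgroup_smul]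
    exact Subgroup.smul_mem_pointwise_smul w (MulAut.conj c) _ hwQ
  have hcw2 : orderOf (c * w * c⁻¹) = 2 :=
    CfsgLib.Invol.klein_orderOf hP hcw (fun e => hw1 (conj_eq_one_iff.1 e))
  obtain ⟨d, hd⟩ := isConj_iff.1 (hone _ _ hcw2 (CfsgLib.Invol.klein_orderOf hP hs hs1))
  set a := d * c with hadef
  have hwa : a * w * a⁻¹ = s := by rw [← hd, hadef]; group
  refine ⟨a, a * y * a⁻¹, ?_, ?_, ?_⟩
  · rw [← hwa]
    exact (Commute.map hc (MulAut.conj a).toMonoidHom : _)
  · rwa [show a * y * a⁻¹ = MulAut.conj a y from rfl, MulEquiv.orderOf_eq]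
  · rw [← hy, ← hwa]; group

theorem klein_factorization_centralizer :
    (Nat.card (Subgroup.centralizer ({s} : Set G))).factorization 2 = 2 := by
  have hle : (P : Subgroup G) ≤ Subgroup.centralizer ({s} : Set G) := fun x hx =>
    Subgroup.mem_centralizer_singleton_iff.2 (congrArg Subtype.val
      ((IsKleinFour.isMulCommutative (G := (P : Subgroup G))).is_comm.comm ⟨x, hx⟩ ⟨s, hs⟩))
  refine le_antisymm ?_ ?_
  · exact le_of_le_of_eq ((Nat.factorization_le_iff_dvd Nat.card_pos.ne' Nat.card_pos.ne').2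
      (Subgroup.card_subgroup_dvd_card (Subgroup.centralizer ({s} : Set G))) 2)
      (factorization_two_of_klein P hP)
  · rw [← Nat.prime_two.pow_dvd_iff_le_factorization Nat.card_pos.ne']
    have h : Nat.card (P : Subgroup G) = 2 ^ 2 := by rw [hP.card_four]; norm_num
    rw [← h]
    exact Subgroup.card_dvd_of_le hle

/-- The values on the 2-singular elements. -/
theorem klein_principal_singular {χ : IrrCharacter G} (hχ : χ ∈ principalBlock M G) {g : G}
    (hg : 2 ∣ orderOf g) : (χ : G → ℂ) g = (χ : G → ℂ) s := by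
  obtain ⟨a, v, hc, hv, he⟩ := klein_singular_conj hM P hP hone hs hs1 hg
  rw [← CfsgLib.Char.irr_isClassFunction χ.2 g a, he]
  exact (principal_section hM (p := 2) ⟨1, by rw [pow_one, CfsgLib.Invol.klein_orderOf hP hs hs1]⟩
    (klein_centralizer_complement P hP hs hs1)).1 χ hχ v hc hv

theorem klein_principal_value {χ : IrrCharacter G} (hχ : χ ∈ principalBlock M G) :
    ∃ e : ℤ, (χ : G → ℂ) s = e ∧ e ≠ 0 := by
  obtain ⟨e, he⟩ := CfsgLib.Transfer.exists_int_char_involution (CfsgLib.Char.irr_isCharacter χ.2)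
    (CfsgLib.Invol.klein_sq_eq_one hP hs)
  refine ⟨e, he, fun h0 => ?_⟩
  have hvan : ∀ g : G, orderOf g = 2 → (χ : G → ℂ) g = 0 := fun g hg => by
    rw [klein_principal_singular hM P hP hone hs hs1 hχ (g := g) (by rw [hg]), he, h0, Int.cast_zero]
  have h := blockDefect_eq_zero_of_vanish hM isPBlock_principalBlock hχ hvan
  rw [blockDefect_principalBlock, factorization_two_of_klein P hP] at h
  exact absurd h (by norm_num)

/-- The principal block has four members, each `±1` at the involution. -/
theorem klein_principal_card :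
    Nat.card (principalBlock M G) = 4 ∧
      ∀ χ ∈ principalBlock M G, (χ : G → ℂ) s = 1 ∨ (χ : G → ℂ) s = -1 := by
  classical
  have := Fintype.ofFinite (IrrCharacter G)
  set B := principalBlock M G
  have hsec := (principal_section hM (p := 2)
    ⟨1, by rw [pow_one, CfsgLib.Invol.klein_orderOf hP hs hs1]⟩
    (klein_centralizer_complement P hP hs hs1)).2
  rw [klein_factorization_centralizer hM P hP hone hs hs1,
    finsum_mem_eq_finite_toFinset_sum _ B.toFinite] at hsec
  choose e he he0 using fun (χ : IrrCharacter G) (hχ : χ ∈ B) =>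
    klein_principal_value hM P hP hone hs hs1 hχ
  let E : IrrCharacter G → ℤ := fun χ => if h : χ ∈ B then e χ h else 0
  have hE : ∀ χ ∈ B, (χ : G → ℂ) s = (E χ : ℂ) ∧ E χ ≠ 0 := fun χ hχ => by
    simp only [E, dif_pos hχ]; exact ⟨he χ hχ, he0 χ hχ⟩
  set S := B.toFinite.toFinset with hSdef
  have hmem : ∀ {χ}, χ ∈ S ↔ χ ∈ B := fun {χ} => Set.Finite.mem_toFinset _
  have hsum : ∑ χ ∈ S, (E χ * E χ) = 4 := by
    have h1 : ∑ χ ∈ S, ((χ : G → ℂ) s * conj ((χ : G → ℂ) s)) = ∑ χ ∈ S, ((E χ * E χ : ℤ) : ℂ) :=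
      Finset.sum_congr rfl fun χ hχ => by
        rw [(hE χ (hmem.1 hχ)).1]; push_cast; simp
    rw [h1] at hsec
    norm_num at hsec
    exact_mod_cast hsec
  have hge : ∀ χ ∈ S, 1 ≤ E χ * E χ := fun χ hχ => by
    nlinarith [mul_self_pos.2 (hE χ (hmem.1 hχ)).2]
  have htriv : (trivIrr : IrrCharacter G) ∈ S := hmem.2 one_mem_principalBlock
  -- the trivial character gives one, and four or more members are forced by divisibility
  have hle : S.card ≤ 4 := by
    have := Finset.card_nsmul_le_sum S (fun χ => E χ * E χ) 1 hge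
    rw [hsum, nsmul_eq_mul, mul_one] at this
    exact_mod_cast this
  have h1 : ∀ χ ∈ S, E χ * E χ = 1 := by
    intro χ hχ
    by_contra hne
    have hab : 2 ≤ (E χ).natAbs := by
      by_contra hlt
      have : (E χ).natAbs = 1 := by
        have := Int.natAbs_ne_zero.2 (hE χ (hmem.1 hχ)).2
        omega
      exact hne (by rw [← Int.natAbs_mul_self, this]; rfl)
    have h4 : 4 ≤ E χ * E χ := by
      rw [← Int.natAbs_mul_self (a := E χ)]
      exact_mod_cast Nat.mul_le_mul hab hab
    have hne' : trivIrr ≠ χ := by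
      rintro rfl
      have h := (hE _ (hmem.1 hχ)).1
      have : E (trivIrr : IrrCharacter G) = 1 := by
        simpa [trivIrr] using h.symm
      exact hne (by rw [this]; rfl)
    have h2 : E χ * E χ + E (trivIrr : IrrCharacter G) * E (trivIrr : IrrCharacter G) ≤
        ∑ ψ ∈ S, E ψ * E ψ := by
      rw [← Finset.sum_pair (f := fun ψ => E ψ * E ψ) (Ne.symm hne')]
      exact Finset.sum_le_sum_of_subset_of_nonneg (by simp [Finset.insert_subset_iff, hχ, htriv])
        fun ψ _ _ => mul_self_nonneg _
    have := hge _ htriv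
    omega
  refine ⟨?_, fun χ hχ => ?_⟩
  · have : (S.card : ℤ) = 4 := by
      rw [← hsum, Finset.sum_congr rfl h1]; simp
    rw [Nat.card_coe_set_eq, Set.ncard_eq_toFinset_card _ B.toFinite]
    exact_mod_cast this
  · rcases mul_self_eq_one_iff.1 (h1 χ (hmem.2 hχ)) with h | h <;> simp [(hE χ hχ).1, h]

/-- The sign vector is orthogonal to the values at every 2-regular element. -/
theorem klein_relation [Fintype (principalBlock M G)] {g : G} (hg : ¬ 2 ∣ orderOf g) :
    ∑ χ : principalBlock M G,
      ((χ : IrrCharacter G) : G → ℂ) s * ((χ : IrrCharacter G) : G → ℂ) g = 0 := by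
  have h := sum_block_eq_zero_of_regular_singular hM (isPBlock_principalBlock (M := M)) hg
    (h := s) (by rw [CfsgLib.Invol.klein_orderOf hP hs hs1])
  rw [← finsum_set_coe_eq_finsum_mem, finsum_eq_sum_of_fintype] at h
  rw [← h]
  refine Finset.sum_congr rfl fun χ _ => ?_
  rcases (klein_principal_card hM P hP hone hs hs1).2 χ χ.2 with e | e <;> simp [e]

/-- The principal block has 2-regular rank three. -/
theorem klein_principal_rank : blockRank 2 (principalBlock M G) = 3 := by
  classical
  set B := principalBlock M G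
  have := Fintype.ofFinite B
  obtain ⟨hcard, hval⟩ := klein_principal_card hM P hP hone hs hs1
  rw [Nat.card_eq_fintype_card] at hcard
  let v : B → (G → ℂ) := fun χ => pRegularPart 2 ((χ : IrrCharacter G) : G → ℂ)
  let L : (B → ℂ) →ₗ[ℂ] (G → ℂ) := Fintype.linearCombination ℂ v
  let a : B → ℂ := fun χ => ((χ : IrrCharacter G) : G → ℂ) s
  have haa : ∀ χ : B, a χ * a χ = 1 := fun χ => by
    rcases hval χ χ.2 with h | h <;> simp [a, h]
  have hvapp : ∀ (χ : B) (g : G), v χ g = if ¬ 2 ∣ orderOf g then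
      ((χ : IrrCharacter G) : G → ℂ) g else 0 := fun χ g => by
    by_cases h : 2 ∣ orderOf g <;> simp [v, pRegularPart, IsPRegular, h]
  have hker : LinearMap.ker L = Submodule.span ℂ {a} := by
    refine le_antisymm (fun w hw => ?_) ((Submodule.span_singleton_le_iff_mem _ _).2 ?_)
    · rw [LinearMap.mem_ker] at hw
      set c : ℂ := (∑ χ, w χ * a χ) / 4
      have hli : LinearIndependent ℂ (fun χ : B => ((χ : IrrCharacter G) : G → ℂ)) :=
        CfsgLib.Char.irr_linearIndependent.comp _ Subtype.val_injective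
      have hzero : ∑ χ, (w χ - c * a χ) • ((χ : IrrCharacter G) : G → ℂ) = 0 := by
        funext g
        simp only [Finset.sum_apply, Pi.smul_apply, smul_eq_mul, Pi.zero_apply, sub_mul,
          Finset.sum_sub_distrib, mul_assoc, ← Finset.mul_sum]
        by_cases hg : 2 ∣ orderOf g
        · have hs' : ∀ χ : B, ((χ : IrrCharacter G) : G → ℂ) g = a χ := fun χ =>
            klein_principal_singular hM P hP hone hs hs1 χ.2 hg
          simp only [hs', haa]
          rw [Finset.sum_const, Finset.card_univ, hcard, nsmul_eq_mul]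
          simp only [c]
          push_cast
          ring
        · have h0 := congrFun hw g
          simp only [L, Fintype.linearCombination_apply, Finset.sum_apply, Pi.smul_apply,
            smul_eq_mul, hvapp, if_pos hg, Pi.zero_apply] at h0
          rw [h0, klein_relation hM P hP hone hs hs1 hg, mul_zero, sub_zero]
      have hall := Fintype.linearIndependent_iff.1 hli _ hzero
      exact Submodule.mem_span_singleton.2 ⟨c, funext fun χ => (sub_eq_zero.1 (hall χ)).symm⟩
    · rw [LinearMap.mem_ker]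
      funext g
      simp only [L, Fintype.linearCombination_apply, Finset.sum_apply, Pi.smul_apply, smul_eq_mul,
        hvapp, Pi.zero_apply]
      by_cases hg : 2 ∣ orderOf g
      · simp [hg]
      · simp only [if_pos hg]
        exact klein_relation hM P hP hone hs hs1 hg
  have hane : a ≠ 0 := fun h => by
    have h1 := haa ⟨trivIrr, one_mem_principalBlock⟩
    rw [h] at h1
    simp at h1
  have hrange : Submodule.span ℂ ((fun χ : IrrCharacter G => pRegularPart 2 (χ : G → ℂ)) '' B) =
      LinearMap.range L := by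
    rw [Fintype.range_linearCombination, Set.image_eq_range]
  rw [blockRank, hrange]
  have h := LinearMap.finrank_range_add_finrank_ker L
  rw [hker, finrank_span_singleton hane, Module.finrank_pi, hcard] at h
  omega

end Main

end CfsgLib.BlockA
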