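import Cfsg.Agent.Lib.BlockA.DihedralRotations
import Cfsg.Agent.Lib.BlockA.DihedralStar
import Cfsg.Agent.Lib.BlockA.KleinPrincipal
import Cfsg.Agent.Lib.BlockA.MajorValuation
import Cfsg.Agent.Lib.BlockA.SubsectionCount
import Cfsg.Agent.Lib.BlockB.PrincipalSum
import Cfsg.Agent.Lib.BlockB.ClassMul
import Cfsg.Agent.Lib.Char.Diag
import Cfsg.Agent.S0936

/-!
The principal 2-block of a group with a dihedral Sylow 2-subgroup.
-/

set_option autoImplicit false
set_option linter.unusedSectionVars false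
set_option maxHeartbeats 1000000

namespace CfsgLib.BlockA.DihedralBlock

open Cfsg CfsgLib.Invol CfsgLib.Block
open scoped ComplexConjugate

universe u

theorem sum_pow_root {q : ℕ} {ω : ℂ} (h : ω ^ q = 1) :
    ∑ l ∈ Finset.range q, ω ^ l = if ω = 1 then (q : ℂ) else 0 := by
  split_ifs with h1
  · simp [h1]
  · rw [geom_sum_eq h1, h, sub_self, zero_div]

theorem sum_two_support {ι : Type*} [DecidableEq ι] {S : Finset ι} {P N : ι} (hP : P ∈ S) (hN : N ∈ S)
    (hne : P ≠ N) (v : ι → ℤ) (w : ι → ℂ) (a b : ℤ)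
    (hv : ∀ i ∈ S, v i = if i = P then a else if i = N then b else 0) :
    ∑ i ∈ S, (v i : ℂ) * w i = a * w P + b * w N := by
  rw [← Finset.sum_subset (s₁ := ({P, N} : Finset ι)) (s₂ := S)
    (by simp [Finset.insert_subset_iff, hP, hN]) (fun i hi hn => by
      simp only [Finset.mem_insert, Finset.mem_singleton, not_or] at hn
      rw [hv i hi]
      simp [hn.1, hn.2]), Finset.sum_pair hne, hv P hP, hv N hN]
  simp [hne.symm]

theorem sum_three_support {ι : Type*} [DecidableEq ι] {S : Finset ι} {a b c : ι} (ha : a ∈ S)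
    (hb : b ∈ S) (hc : c ∈ S) (hab : a ≠ b) (hac : a ≠ c) (hbc : b ≠ c) (v : ι → ℤ) (w : ι → ℂ)
    (x y z : ℤ)
    (hv : ∀ i ∈ S, v i = if i = a then x else if i = b then y else if i = c then z else 0) :
    ∑ i ∈ S, (v i : ℂ) * w i = x * w a + y * w b + z * w c := by
  rw [← Finset.sum_subset (s₁ := ({a, b, c} : Finset ι)) (s₂ := S)
    (by simp [Finset.insert_subset_iff, ha, hb, hc]) (fun i hi hn => by
      simp only [Finset.mem_insert, Finset.mem_singleton, not_or] at hn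
      rw [hv i hi]
      simp [hn.1, hn.2.1, hn.2.2]), Finset.sum_insert (by simp [hab, hac]), Finset.sum_pair hbc,
    hv a ha, hv b hb, hv c hc]
  simp [hab.symm, hac.symm, hbc.symm, add_assoc]

variable {G : Type u} [Group G] [Finite G]
variable {M : Ideal AlgInt} [M.IsPrime]
variable (P : Sylow 2 G) (D : DihData (P : Subgroup G)) (ζ : ℂ)

/-- The multiplicity difference attached to the `j`th character of the rotations. -/
noncomputable def wc (χ : IrrCharacter G) (j : ℕ) : ℂ :=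
  (((2 * D.h : ℕ) : ℂ))⁻¹ *
    ∑ l ∈ Finset.range (2 * D.h), (χ : G → ℂ) (rot P D ^ l) * ((ζ⁻¹) ^ (j * l) - 1)

theorem q_ne_zero : ((2 * D.h : ℕ) : ℂ) ≠ 0 := Nat.cast_ne_zero.2 (by have := D.h_pos; omega)

theorem val_inv (χ : IrrCharacter G) (l : ℕ) :
    (χ : G → ℂ) (rot P D ^ l)⁻¹ = (χ : G → ℂ) (rot P D ^ l) := by
  rw [← refl_conj_pow P D l, CfsgLib.Char.irr_isClassFunction χ.2]

theorem val_real (χ : IrrCharacter G) (l : ℕ) :
    conj ((χ : G → ℂ) (rot P D ^ l)) = (χ : G → ℂ) (rot P D ^ l) := by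
  rw [irr_conj_eq χ.2, val_inv]

variable {ζ} (hM : IsPModular 2 M) (hh : 2 ≤ D.h) (hζ : IsPrimitiveRoot ζ (2 * D.h))

include hh in
open scoped Classical in
theorem sum_val_mul {l m : ℕ} (hl : ¬ 2 * D.h ∣ l) (hm : ¬ 2 * D.h ∣ m) (hM : IsPModular 2 M) :
    ∑ χ ∈ (principalBlock M G).toFinite.toFinset,
        (χ : G → ℂ) (rot P D ^ l) * (χ : G → ℂ) (rot P D ^ m) =
      ((2 * D.h : ℕ) : ℂ) * ((if rot P D ^ m = rot P D ^ l then 1 else 0) +
        (if rot P D ^ m = (rot P D ^ l)⁻¹ then 1 else 0)) := by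
  classical
  have : Fact (Nat.Prime 2) := ⟨Nat.prime_two⟩
  by_cases hc : IsConj (rot P D ^ l) (rot P D ^ m)
  · have hs := (principal_section hM (orderOf_rot_pow_two P D l) (complement_rot_all P D hl)).2
    rw [finsum_mem_eq_finite_toFinset_sum _ (principalBlock M G).toFinite] at hs
    rw [Finset.sum_congr rfl fun (χ : IrrCharacter G) _ => show (χ : G → ℂ) (rot P D ^ l) * (χ : G → ℂ) (rot P D ^ m) =
      (χ : G → ℂ) (rot P D ^ l) * conj ((χ : G → ℂ) (rot P D ^ l)) by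
        obtain ⟨g, hg⟩ := isConj_iff.1 hc
        rw [← hg, CfsgLib.Char.irr_isClassFunction χ.2, val_real], hs]
    by_cases hd : D.h ∣ l
    · have h2 : (rot P D ^ l)⁻¹ = rot P D ^ l :=
        inv_eq_of_mul_eq_one_left (by rw [← pow_two]; exact (rot_sq_eq_one_iff P D l).2 hd)
      have hml : rot P D ^ m = rot P D ^ l := by
        rcases (isConj_rot_iff P D hh hl hm).1 hc with e | e
        · exact e
        · rw [e, h2]
      have hdz : rot P D ^ l = dz P D := by
        obtain ⟨c, rfl⟩ := hd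
        obtain ⟨d, rfl⟩ | ⟨d, rfl⟩ := Nat.even_or_odd c
        · exact absurd ⟨d, by ring⟩ hl
        · rw [mul_add, mul_one, ← mul_assoc, pow_add, rot_pow_h,
            (rot_pow_eq_one_iff P D (D.h * 2 * d)).2 ⟨d, by ring⟩, one_mul]
      rw [hdz, card_two_centralizer_dz, ← hdz, hml, h2, if_pos rfl]
      push_cast; ring
    · have h2 : (rot P D ^ l)⁻¹ ≠ rot P D ^ l := fun e => hd ((rot_sq_eq_one_iff P D l).1 (by
        rw [pow_two]; exact mul_eq_one_iff_eq_inv.2 e.symm))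
      rw [card_two_centralizer_rot P D hd]
      rcases (isConj_rot_iff P D hh hl hm).1 hc with e | e <;> rw [e]
      · rw [if_pos rfl, if_neg h2.symm]; simp
      · rw [if_pos rfl, if_neg h2]; simp
  · have h := CfsgLib.BlockB.sum_block_pElt_eq_zero hM (isPBlock_principalBlock (M := M))
      (orderOf_rot_pow_two P D l) (orderOf_rot_pow_two P D m) hc
    rw [finsum_mem_eq_finite_toFinset_sum _ (principalBlock M G).toFinite] at h
    simp only [val_real] at h
    have n1 : rot P D ^ m ≠ rot P D ^ l := fun e => hc (by rw [e])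
    have n2 : rot P D ^ m ≠ (rot P D ^ l)⁻¹ := fun e => hc (by rw [e]; exact isConj_rot_inv P D l)
    rw [h, if_neg n1, if_neg n2]
    simp

include hζ

theorem root_pow_q : ζ ^ (2 * D.h) = 1 := hζ.pow_eq_one

theorem pow_pow_q {ω : ℂ} (h : ω ^ (2 * D.h) = 1) (k : ℕ) : (ω ^ k) ^ (2 * D.h) = 1 := by
  rw [← pow_mul, mul_comm, pow_mul, h, one_pow]

theorem inv_pow_q : ζ⁻¹ ^ (2 * D.h) = 1 := by rw [inv_pow, root_pow_q P D hζ, inv_one]

theorem root_ne_zero : ζ ≠ 0 := hζ.ne_zero (by have := D.h_pos; omega)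

theorem inv_root_pow_eq_one_iff (j : ℕ) : ζ⁻¹ ^ j = 1 ↔ 2 * D.h ∣ j := by
  rw [inv_pow, inv_eq_one]; exact hζ.pow_eq_one_iff_dvd j

/-- The differences of multiplicities are integers, and they give the values back. -/
theorem exists_mult (χ : IrrCharacter G) :
    ∃ b : ℕ → ℤ, (∀ j < 2 * D.h, wc P D ζ χ j = ((b j - b 0 : ℤ) : ℂ)) ∧
      ∀ l, ¬ 2 * D.h ∣ l → (χ : G → ℂ) (rot P D ^ l) =
        ∑ s ∈ Finset.range (2 * D.h), wc P D ζ χ s * (ζ ^ s) ^ l := by
  classical
  obtain ⟨n, ρ, hρ⟩ := CfsgLib.Char.irr_isCharacter χ.2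
  obtain ⟨ι, hι, B, μ, -, h2, h3, -⟩ := CfsgLib.Char.exists_char_eigen ρ (rot P D)
  rw [orderOf_rot] at h2
  have : NeZero (2 * D.h) := ⟨by have := D.h_pos; omega⟩
  have key : ∀ i, ∃ s < 2 * D.h, ζ ^ s = μ i := fun i => hζ.eq_pow_of_pow_eq_one (h2 i)
  choose e he he' using key
  set b : ℕ → ℤ := fun s => ((Finset.univ.filter fun i => e i = s).card : ℤ) with hb
  have hexp : ∀ l, (χ : G → ℂ) (rot P D ^ l) =
      ∑ s ∈ Finset.range (2 * D.h), (b s : ℂ) * (ζ ^ s) ^ l := by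
    intro l
    rw [← hρ, h3, ← Finset.sum_fiberwise_of_maps_to (g := e) (t := Finset.range (2 * D.h))
      (fun i _ => Finset.mem_range.2 (he i))]
    refine Finset.sum_congr rfl fun s _ => ?_
    rw [Finset.sum_congr rfl (g := fun _ => (ζ ^ s) ^ l), Finset.sum_const, nsmul_eq_mul]
    · simp [hb]
    · intro i hi
      rw [← he' i, (Finset.mem_filter.1 hi).2]
  have hsum : ∀ j < 2 * D.h, ∑ l ∈ Finset.range (2 * D.h),
      (χ : G → ℂ) (rot P D ^ l) * (ζ⁻¹) ^ (j * l) = ((2 * D.h : ℕ) : ℂ) * (b j : ℂ) := by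
    intro j hj
    simp only [hexp, Finset.sum_mul]
    rw [Finset.sum_comm, Finset.sum_eq_single j]
    · rw [Finset.sum_congr rfl (g := fun _ => (b j : ℂ)), Finset.sum_const, Finset.card_range,
        nsmul_eq_mul]
      intro l _
      rw [mul_assoc, pow_mul (ζ⁻¹), ← mul_pow, ← mul_pow, mul_inv_cancel₀ (root_ne_zero P D hζ),
        one_pow, one_pow, mul_one]
    · intro s hs hne
      have hs' := Finset.mem_range.1 hs
      rw [Finset.sum_congr rfl (g := fun l => (b s : ℂ) * (ζ ^ s * ζ⁻¹ ^ j) ^ l) (fun l _ => by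
        rw [mul_pow, pow_mul (ζ⁻¹), mul_assoc]), ← Finset.mul_sum, sum_pow_root (by
        rw [mul_pow, pow_pow_q P D hζ (root_pow_q P D hζ), pow_pow_q P D hζ (inv_pow_q P D hζ),
          one_mul]), if_neg, mul_zero]
      intro h1
      refine hne (hζ.pow_inj hs' hj ?_)
      rwa [inv_pow, mul_inv_eq_one₀ (pow_ne_zero _ (root_ne_zero P D hζ))] at h1
    · exact fun h => absurd (Finset.mem_range.2 hj) h
  have hpos : 0 < 2 * D.h := by have := D.h_pos; omega
  have hwc : ∀ j < 2 * D.h, wc P D ζ χ j = ((b j - b 0 : ℤ) : ℂ) := by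
    intro j hj
    have h0 := hsum 0 hpos
    simp only [Nat.zero_mul, pow_zero, mul_one] at h0
    rw [wc, Finset.sum_congr rfl (g := fun l => (χ : G → ℂ) (rot P D ^ l) * (ζ⁻¹) ^ (j * l) -
        (χ : G → ℂ) (rot P D ^ l)) (fun l _ => by ring), Finset.sum_sub_distrib, hsum j hj, h0,
      ← mul_sub, inv_mul_cancel_left₀ (q_ne_zero P D), Int.cast_sub]
  refine ⟨b, hwc, fun l hl => ?_⟩
  rw [hexp, Finset.sum_congr rfl (g := fun s => (b s : ℂ) * (ζ ^ s) ^ l - (b 0 : ℂ) * (ζ ^ l) ^ s)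
    (fun s hs => by
      rw [hwc s (Finset.mem_range.1 hs)]
      push_cast
      rw [← pow_mul ζ l, mul_comm l, pow_mul]
      ring) (s₁ := Finset.range (2 * D.h)) (s₂ := Finset.range (2 * D.h))
    (f := fun s => wc P D ζ χ s * (ζ ^ s) ^ l), Finset.sum_sub_distrib, ← Finset.mul_sum,
    sum_pow_root (by rw [← pow_mul, mul_comm, pow_mul, root_pow_q P D hζ, one_pow]),
    if_neg (fun h => hl ((hζ.pow_eq_one_iff_dvd l).1 h)), mul_zero, sub_zero]

theorem wc_symm (χ : IrrCharacter G) {j : ℕ} (hj : 1 ≤ j) (hj' : j < 2 * D.h) :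
    wc P D ζ χ (2 * D.h - j) = wc P D ζ χ j := by
  obtain ⟨b, hb, -⟩ := exists_mult P D hζ χ
  have h1 : conj (wc P D ζ χ j) = wc P D ζ χ j := by rw [hb j hj', map_intCast]
  rw [← h1, wc, wc, map_mul, map_sum, map_inv₀, Complex.conj_natCast]
  congr 1
  refine Finset.sum_congr rfl fun l _ => ?_
  rw [map_mul, val_real, map_sub, map_pow, map_one, map_inv₀]
  have hc : conj ζ = ζ⁻¹ := (Complex.inv_eq_conj
    (Complex.norm_eq_one_of_pow_eq_one (root_pow_q P D hζ) (by omega))).symm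
  rw [hc, inv_inv]
  congr 2
  rw [inv_pow]
  refine inv_eq_of_mul_eq_one_right ?_
  rw [← pow_add, ← Nat.add_mul, Nat.sub_add_cancel hj'.le, pow_mul, root_pow_q P D hζ, one_pow]

theorem wc_triv {j : ℕ} (hj : ¬ 2 * D.h ∣ j) : wc P D ζ (trivIrr : IrrCharacter G) j = -1 := by
  have h : ∀ l, ((trivIrr : IrrCharacter G) : G → ℂ) (rot P D ^ l) * ((ζ⁻¹) ^ (j * l) - 1) =
      (ζ⁻¹ ^ j) ^ l - 1 := fun l => by simp [trivIrr, pow_mul]
  simp only [wc, h]
  rw [Finset.sum_sub_distrib, sum_pow_root (by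
      rw [← pow_mul, mul_comm, pow_mul, inv_pow ζ, root_pow_q P D hζ, inv_one, one_pow]),
    if_neg (fun h' => hj ((inv_root_pow_eq_one_iff P D hζ j).1 h')), zero_sub, Finset.sum_const,
    Finset.card_range, nsmul_eq_mul, mul_one, mul_neg, inv_mul_cancel₀ (q_ne_zero P D)]

include hM

theorem wc_orth {j : ℕ} {ρ : G} (hρ : ¬ 2 ∣ orderOf ρ) :
    ∑ χ ∈ (principalBlock M G).toFinite.toFinset, wc P D ζ χ j * (χ : G → ℂ) ρ = 0 := by
  simp only [wc, mul_assoc, Finset.sum_mul]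
  rw [← Finset.mul_sum, Finset.sum_comm, Finset.sum_eq_zero (fun l _ => ?_), mul_zero]
  by_cases hl : rot P D ^ l = 1
  · refine Finset.sum_eq_zero fun χ _ => ?_
    rw [(inv_root_pow_eq_one_iff P D hζ (j * l)).2 (dvd_mul_of_dvd_right
      ((rot_pow_eq_one_iff P D l).1 hl) j), sub_self, zero_mul, mul_zero]
  · have hd : 2 ∣ orderOf (rot P D ^ l) := by
      obtain ⟨k, hk⟩ := orderOf_rot_pow_two P D l
      rcases k with _ | k
      · exact absurd (orderOf_eq_one_iff.1 (hk.trans (pow_zero 2))) hl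
      · exact hk ▸ dvd_pow_self 2 (Nat.succ_ne_zero k)
    have h := sum_block_eq_zero_of_regular_singular hM (isPBlock_principalBlock (M := M)) hρ hd
    rw [finsum_mem_eq_finite_toFinset_sum _ (principalBlock M G).toFinite] at h
    simp only [val_real] at h
    rw [Finset.sum_congr rfl (g := fun χ : IrrCharacter G => ((ζ⁻¹) ^ (j * l) - 1) *
      ((χ : G → ℂ) ρ * (χ : G → ℂ) (rot P D ^ l))) (fun χ _ => by ring), ← Finset.mul_sum, h,
      mul_zero]

include hh

theorem wc_gram {i j : ℕ} (hi : 1 ≤ i) (hi' : i ≤ D.h) (hj : 1 ≤ j) (hj' : j ≤ D.h) :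
    ∑ χ ∈ (principalBlock M G).toFinite.toFinset, wc P D ζ χ i * wc P D ζ χ j =
      (((if i = j then (if i = D.h then 2 else 1) else 0) + 2 : ℕ) : ℂ) := by
  classical
  set q := 2 * D.h with hq
  set S := (principalBlock M G).toFinite.toFinset
  have hq0 := q_ne_zero P D
  have hq1 : (q : ℂ) ≠ 0 := hq0
  have hζ0 := root_ne_zero P D hζ
  have hinner : ∀ l ∈ Finset.range q,
      (∑ m ∈ Finset.range q, (∑ χ ∈ S, (χ : G → ℂ) (rot P D ^ l) * (χ : G → ℂ) (rot P D ^ m)) *
        ((ζ⁻¹) ^ (j * m) - 1)) * ((ζ⁻¹) ^ (i * l) - 1) =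
      (q : ℂ) * (((ζ⁻¹ ^ i) ^ l - 1) * (((ζ⁻¹ ^ j) ^ l - 1) + ((ζ ^ j) ^ l - 1))) := by
    intro l hl
    rw [Finset.mem_range] at hl
    rcases Nat.eq_zero_or_pos l with rfl | hl0
    · simp
    have hndl : ¬ q ∣ l := fun h => by have := Nat.le_of_dvd hl0 h; omega
    have hterm : ∀ m ∈ Finset.range q,
        (∑ χ ∈ S, (χ : G → ℂ) (rot P D ^ l) * (χ : G → ℂ) (rot P D ^ m)) *
          ((ζ⁻¹) ^ (j * m) - 1) =
        (q : ℂ) * ((if m = l then ((ζ⁻¹) ^ (j * m) - 1) else 0) +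
          (if m = q - l then ((ζ⁻¹) ^ (j * m) - 1) else 0)) := by
      intro m hm
      rw [Finset.mem_range] at hm
      rcases Nat.eq_zero_or_pos m with rfl | hm0
      · simp
      have hndm : ¬ q ∣ m := fun h => by have := Nat.le_of_dvd hm0 h; omega
      rw [sum_val_mul P D hh hndl hndm hM]
      have e1 : rot P D ^ m = rot P D ^ l ↔ m = l :=
        ⟨fun h => pow_injOn_Iio_orderOf (show m < orderOf (rot P D) by rw [orderOf_rot]; omega)
          (show l < orderOf (rot P D) by rw [orderOf_rot]; omega) h, fun h => by rw [h]⟩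
      have e2 : rot P D ^ m = (rot P D ^ l)⁻¹ ↔ m = q - l := by
        have : (rot P D ^ l)⁻¹ = rot P D ^ (q - l) := inv_eq_of_mul_eq_one_right (by
          rw [← pow_add, Nat.add_sub_cancel' hl.le, rot_pow_eq_one_iff])
        rw [this]
        exact ⟨fun h => pow_injOn_Iio_orderOf (show m < orderOf (rot P D) by rw [orderOf_rot]; omega)
          (show q - l < orderOf (rot P D) by rw [orderOf_rot]; omega) h, fun h => by rw [h]⟩
      simp only [e1, e2]
      split_ifs <;> ring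
    rw [Finset.sum_congr rfl hterm, ← Finset.mul_sum, Finset.sum_add_distrib, Finset.sum_ite_eq',
      Finset.sum_ite_eq', if_pos (Finset.mem_range.2 hl), if_pos (Finset.mem_range.2 (by omega))]
    have : (ζ⁻¹) ^ (j * (q - l)) = (ζ ^ j) ^ l := by
      rw [← pow_mul, inv_pow]
      refine inv_eq_of_mul_eq_one_right ?_
      rw [← pow_add, ← Nat.mul_add, Nat.sub_add_cancel hl.le, mul_comm, pow_mul,
        root_pow_q P D hζ, one_pow]
    rw [this, pow_mul, pow_mul]
    ring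
  have hexp : ∑ χ ∈ S, wc P D ζ χ i * wc P D ζ χ j =
      (q : ℂ)⁻¹ * (q : ℂ)⁻¹ * ∑ l ∈ Finset.range q,
        (∑ m ∈ Finset.range q, (∑ χ ∈ S, (χ : G → ℂ) (rot P D ^ l) * (χ : G → ℂ) (rot P D ^ m)) *
          ((ζ⁻¹) ^ (j * m) - 1)) * ((ζ⁻¹) ^ (i * l) - 1) := by
    simp only [wc, ← hq, mul_mul_mul_comm ((q : ℂ)⁻¹), Finset.sum_mul_sum, ← Finset.mul_sum]
    congr 1
    rw [Finset.sum_comm]
    refine Finset.sum_congr rfl fun l _ => ?_
    simp only [Finset.mul_sum]
    rw [Finset.sum_comm, Finset.sum_mul]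
    refine Finset.sum_congr rfl fun m _ => ?_
    rw [Finset.sum_mul, Finset.sum_mul]
    exact Finset.sum_congr rfl fun χ _ => by ring
  have hX : ∀ k, 1 ≤ k → k ≤ D.h → ζ⁻¹ ^ k ≠ 1 ∧ ζ ^ k ≠ 1 := fun k h1 h2 => by
    have hnd : ¬ q ∣ k := fun h => by have := Nat.le_of_dvd h1 h; omega
    exact ⟨fun h => hnd ((inv_root_pow_eq_one_iff P D hζ k).1 h),
      fun h => hnd ((hζ.pow_eq_one_iff_dvd k).1 h)⟩
  have hpq : ∀ {ω : ℂ}, ω ^ q = 1 → ∀ k, (ω ^ k) ^ q = 1 := fun {ω} h k => by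
    rw [← pow_mul, mul_comm, pow_mul, h, one_pow]
  have hzq := root_pow_q P D hζ
  have hziq : ζ⁻¹ ^ q = 1 := by rw [inv_pow, hzq, inv_one]
  have e1 : ζ⁻¹ ^ i * ζ⁻¹ ^ j = 1 ↔ i = D.h ∧ j = D.h := by
    rw [← pow_add, inv_root_pow_eq_one_iff P D hζ]
    exact ⟨fun h => by have := Nat.le_of_dvd (by omega) h; omega,
      fun h => ⟨1, by omega⟩⟩
  have e2 : ζ⁻¹ ^ i * ζ ^ j = 1 ↔ i = j := by
    rw [inv_pow, inv_mul_eq_one₀ (pow_ne_zero _ hζ0)]
    exact ⟨fun h => hζ.pow_inj (by omega) (by omega) h, fun h => by rw [h]⟩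
  rw [hexp, Finset.sum_congr rfl hinner, ← Finset.mul_sum,
    Finset.sum_congr rfl (g := fun l => ((ζ⁻¹ ^ i * ζ⁻¹ ^ j) ^ l + (ζ⁻¹ ^ i * ζ ^ j) ^ l -
      2 * (ζ⁻¹ ^ i) ^ l - (ζ⁻¹ ^ j) ^ l - (ζ ^ j) ^ l) + 2) (fun l _ => by ring),
    Finset.sum_add_distrib, Finset.sum_sub_distrib, Finset.sum_sub_distrib, Finset.sum_sub_distrib,
    Finset.sum_add_distrib, ← Finset.mul_sum, Finset.sum_const, Finset.card_range,
    sum_pow_root (by rw [mul_pow, hpq hziq, hpq hziq, one_mul]),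
    sum_pow_root (by rw [mul_pow, hpq hziq, hpq hzq, one_mul]),
    sum_pow_root (hpq hziq i), sum_pow_root (hpq hziq j), sum_pow_root (hpq hzq j),
    if_neg (hX i hi hi').1, if_neg (hX j hj hj').1, if_neg (hX j hj hj').2]
  by_cases hij : i = j
  · by_cases hih : i = D.h
    · rw [if_pos (e1.2 ⟨hih, hij ▸ hih⟩), if_pos (e2.2 hij), if_pos hij, if_pos hih]
      push_cast; field_simp; ring
    · rw [if_neg (fun h => hih (e1.1 h).1), if_pos (e2.2 hij), if_pos hij, if_neg hih]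
      push_cast; field_simp; ring
  · rw [if_neg (fun h => hij ((e1.1 h).1.trans (e1.1 h).2.symm)), if_neg (fun h => hij (e2.1 h)),
      if_neg hij]
    push_cast; field_simp; ring

omit hζ hh

/-- The members of the principal block do not vanish at the central involution. -/
theorem val_dz_ne_zero {χ : IrrCharacter G} (hχ : χ ∈ principalBlock M G) :
    (χ : G → ℂ) (dz P D) ≠ 0 := by
  classical
  intro h0
  have : Fact (Nat.Prime 2) := ⟨Nat.prime_two⟩
  have := Fintype.ofFinite G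
  have := Fintype.ofFinite (IrrCharacter G)
  have := Fintype.ofFinite (Subgroup.centralizer ({dz P D} : Set G))
  have hx : ∃ k : ℕ, orderOf (dz P D) = 2 ^ k :=
    ⟨1, by rw [pow_one]; exact (Subgroup.orderOf_coe _).trans D.orderOf_z⟩
  set C := Subgroup.centralizer ({dz P D} : Set G) with hC
  have hdef : InducedBlockDefined M C (principalBlock M C) :=
    exists_isInducedBlock_centralizer hM hx isPBlock_principalBlock
  have hind : IsInducedBlock M C (principalBlock M C) (principalBlock M G) :=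
    (Cfsg.Agent.S0936.result 2 M hM _ _ hdef).2 rfl
  have hd : blockDefect 2 (principalBlock M C) = blockDefect 2 (principalBlock M G) := by
    rw [blockDefect_principalBlock, blockDefect_principalBlock]
    exact Nat.pow_right_injective le_rfl
      ((card_two_centralizer_dz P D).trans (two_pow_factorization P D).symm)
  have hsec := (principal_section hM hx (complement_dz P D)).1 χ hχ
  have hfun : CfsgLib.BlockB.sectionFun 2 (dz P D) (principalBlock M C) (χ : G → ℂ) = 0 := by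
    funext v
    unfold CfsgLib.BlockB.sectionFun regInd
    split_ifs with hv
    · simp
    · rw [blockPart_congr_regular hM isPBlock_principalBlock (f' := fun _ => 0) (fun z hz => ?_) hv]
      · simp [blockPart_eq_kernel]
      · rw [hsec (z : G) (Subgroup.mem_centralizer_singleton_iff.1 z.2).symm
          (by rwa [Subgroup.orderOf_coe]), h0]
  refine (memLocalIdeal_subEntry_div_iff hM hx hind hd hχ
    (one_mem_principalBlock (M := M) (G := G))).1 ?_ ?_
  · rw [CfsgLib.BlockB.subEntry_one hM hx hind, hfun]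
    simp [CfsgLib.Char.classInner_def, memLocalIdeal_zero]
  · simp [blockHeight, charDegree]

end CfsgLib.BlockA.DihedralBlock
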