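import Cfsg.Agent.Lib.Invol.DihedralFusion
import Cfsg.Agent.Lib.Transfer.Frobenius
import Mathlib.GroupTheory.SpecificGroups.Cyclic

/-!
The rotations of a dihedral Sylow 2-subgroup: their centralizers have normal 2-complements and
they are fused only to their inverses.
-/

set_option autoImplicit false
set_option linter.unusedSectionVars false

namespace CfsgLib.BlockA.DihedralBlock

open CfsgLib.Invol Subgroup

universe u

variable {G : Type u} [Group G] [Finite G]

/-- A normal form from a rotation of order `2 * h` and an inverting involution. -/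
theorem exists_data_of_elems (P : Sylow 2 G) {h : ℕ} (hh : 0 < h) (hpow : ∃ k : ℕ, h = 2 ^ k)
    (hcard : Nat.card (P : Subgroup G) = 4 * h) {σ τ : G} (hσ : σ ∈ (P : Subgroup G))
    (hτ : τ ∈ (P : Subgroup G)) (hσo : orderOf σ = 2 * h) (hτo : orderOf τ = 2)
    (hrel : τ * σ * τ⁻¹ = σ⁻¹) (hnot : τ ∉ zpowers σ) :
    ∃ D : DihData (P : Subgroup G), D.h = h ∧ (D.r : G) = σ ∧ (D.s : G) = τ := by
  classical
  set R : Subgroup (P : Subgroup G) := zpowers ⟨σ, hσ⟩ with hR
  have hidx : R.index = 2 := by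
    have h1 := R.card_mul_index
    rw [hR, Nat.card_zpowers, Subgroup.orderOf_mk, hσo, hcard] at h1
    refine Nat.eq_of_mul_eq_mul_left (show 0 < 2 * h by omega) ?_
    rw [h1]; ring
  have hsR : (⟨τ, hτ⟩ : (P : Subgroup G)) ∉ R := by
    rintro ⟨i, hi⟩
    exact hnot ⟨i, by simpa using congrArg Subtype.val hi⟩
  refine ⟨⟨h, ⟨σ, hσ⟩, ⟨τ, hτ⟩, hh, hpow, ?_, ?_, Subtype.ext hrel, hsR, fun u => ?_, hcard⟩,
    rfl, rfl, rfl⟩
  · rwa [Subgroup.orderOf_mk]
  · rwa [Subgroup.orderOf_mk]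
  · by_cases hu : u ∈ R
    · obtain ⟨i, hi⟩ := hu
      exact Or.inl ⟨i, hi.symm⟩
    · have h2 : u * ⟨τ, hτ⟩ ∈ R := by
        rw [Subgroup.mul_mem_iff_of_index_two hidx]
        exact iff_of_false hu hsR
      obtain ⟨i, hi⟩ := h2
      refine Or.inr ⟨i, ?_⟩
      have htt : (⟨τ, hτ⟩ : (P : Subgroup G)) * ⟨τ, hτ⟩ = 1 :=
        Subtype.ext (invol_mul_self hτo)
      rw [show (⟨σ, hσ⟩ : (P : Subgroup G)) ^ i = u * ⟨τ, hτ⟩ from hi, mul_assoc, htt, mul_one]

variable (P : Sylow 2 G) (D : DihData (P : Subgroup G))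

/-- The rotation in `G`. -/
abbrev rot : G := ((D.r : (P : Subgroup G)) : G)

/-- The reflection in `G`. -/
abbrev refl : G := ((D.s : (P : Subgroup G)) : G)

theorem orderOf_rot : orderOf (rot P D) = 2 * D.h := by
  rw [Subgroup.orderOf_coe, D.orderOf_r]

theorem rot_mem : rot P D ∈ (P : Subgroup G) := SetLike.coe_mem _

theorem zpowers_rot_le : zpowers (rot P D) ≤ (P : Subgroup G) := zpowers_le.2 (rot_mem P D)

theorem rot_pow_h : rot P D ^ D.h = dz P D := by
  show _ = (((D.r ^ (D.h : ℤ) : (P : Subgroup G))) : G)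
  rw [zpow_natCast, SubmonoidClass.coe_pow]

theorem refl_conj : refl P D * rot P D * (refl P D)⁻¹ = (rot P D)⁻¹ :=
  congrArg Subtype.val D.conj_r

theorem refl_conj_pow (l : ℕ) :
    refl P D * rot P D ^ l * (refl P D)⁻¹ = (rot P D ^ l)⁻¹ := by
  rw [← conj_pow, refl_conj, inv_pow]

theorem isConj_rot_inv (l : ℕ) : IsConj (rot P D ^ l) (rot P D ^ l)⁻¹ :=
  isConj_iff.2 ⟨refl P D, refl_conj_pow P D l⟩

theorem rot_pow_eq_one_iff (l : ℕ) : rot P D ^ l = 1 ↔ 2 * D.h ∣ l := by
  rw [← orderOf_dvd_iff_pow_eq_one, orderOf_rot]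

theorem rot_sq_eq_one_iff (l : ℕ) : (rot P D ^ l) ^ 2 = 1 ↔ D.h ∣ l := by
  rw [← pow_mul, rot_pow_eq_one_iff, mul_comm l, Nat.mul_dvd_mul_iff_left two_pos]

theorem exists_pow_two_q : ∃ k : ℕ, 2 * D.h = 2 ^ k := by
  obtain ⟨k, hk⟩ := D.h_pow
  exact ⟨k + 1, by rw [hk, pow_succ, mul_comm]⟩

theorem isPGroup_zpowers_rot : IsPGroup 2 (zpowers (rot P D)) := P.2.to_le (zpowers_rot_le P D)

theorem orderOf_rot_pow_two (l : ℕ) : ∃ k : ℕ, orderOf (rot P D ^ l) = 2 ^ k := by
  obtain ⟨k, hk⟩ := exists_pow_two_q P D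
  obtain ⟨j, -, hj⟩ := (Nat.dvd_prime_pow Nat.prime_two).1
    (hk ▸ orderOf_rot P D ▸ orderOf_pow_dvd l : orderOf (rot P D ^ l) ∣ 2 ^ k)
  exact ⟨j, hj⟩

theorem card_zpowers_rot : Nat.card (zpowers (rot P D)) = 2 * D.h := by
  rw [Nat.card_zpowers, orderOf_rot]

theorem two_pow_factorization : 2 ^ (Nat.card G).factorization 2 = 4 * D.h := by
  rw [← P.card_eq_multiplicity, D.card_eq]

/-- The elements of `P` commuting with a rotation of order at least four are rotations. -/
theorem mem_zpowers_of_commute {w u : G} (hw : w ∈ (P : Subgroup G)) (hu : u ∈ (P : Subgroup G))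
    (hw2 : w ^ 2 ≠ 1) (hc : Commute u w) : u ∈ zpowers (rot P D) := by
  rcases D.cases ⟨u, hu⟩ with ⟨i, hi⟩ | ⟨i, hi⟩
  · exact ⟨i, by
      simpa using (congrArg Subtype.val hi).symm⟩
  exfalso
  rcases D.cases ⟨w, hw⟩ with ⟨j, hj⟩ | ⟨j, hj⟩
  · have e : (⟨u, hu⟩ : (P : Subgroup G)) * ⟨w, hw⟩ = ⟨w, hw⟩ * ⟨u, hu⟩ := Subtype.ext hc.eq
    rw [hi, hj, D.zy_mul_z, ← mul_assoc, ← zpow_add, mul_left_inj, D.zpow_eq_iff] at e
    obtain ⟨c, hc'⟩ := e
    refine hw2 ?_
    have : (⟨w, hw⟩ : (P : Subgroup G)) ^ 2 = 1 := by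
      rw [hj, ← zpow_natCast, ← zpow_mul, D.zpow_eq_one_iff]
      exact ⟨c, by push_cast; linarith⟩
    exact congrArg Subtype.val this
  · refine hw2 ?_
    have : (⟨w, hw⟩ : (P : Subgroup G)) ^ 2 = 1 := by
      rw [hj, pow_two, D.zy_mul_zy, sub_self, zpow_zero]
    exact congrArg Subtype.val this

/-- A 2-subgroup centralizing a rotation of order at least four has at most `2 * h` elements. -/
theorem card_le_of_centralizes {l : ℕ} (hl : ¬ D.h ∣ l) {T : Subgroup G} (hT : IsPGroup 2 T)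
    (hmem : rot P D ^ l ∈ T) (hc : ∀ t ∈ T, Commute t (rot P D ^ l)) :
    Nat.card T ≤ 2 * D.h := by
  have : Fact (Nat.Prime 2) := ⟨Nat.prime_two⟩
  obtain ⟨g, hg⟩ := exists_conj_mem_sylow P hT
  have hle : T.map (MulAut.conj g).toMonoidHom ≤ zpowers (rot P D) := by
    rintro _ ⟨t, ht, rfl⟩
    refine mem_zpowers_of_commute P D (hg _ hmem) (hg t ht) (fun h => hl ?_)
      ((hc t ht).map (MulAut.conj g).toMonoidHom)
    rw [← rot_sq_eq_one_iff P D, ← conj_eq_one_iff (a := g), ← conj_pow]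
    exact h
  rw [← card_zpowers_rot P D]
  refine le_trans (le_of_eq ?_) (Subgroup.card_le_of_le hle)
  exact (Nat.card_congr (equivMapOfInjective T _ (MulAut.conj g).injective).toEquiv)

theorem zpowers_rot_le_centralizer (l : ℕ) :
    zpowers (rot P D) ≤ centralizer ({rot P D ^ l} : Set G) :=
  zpowers_le.2 (mem_centralizer_singleton_iff.2 ((Commute.refl (rot P D)).pow_right l).eq)

theorem sylow_centralizer_rot {l : ℕ} (hl : ¬ D.h ∣ l) :
    ∃ S : Sylow 2 (centralizer ({rot P D ^ l} : Set G)),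
      (S : Subgroup (centralizer ({rot P D ^ l} : Set G))) =
        (zpowers (rot P D)).subgroupOf (centralizer ({rot P D ^ l} : Set G)) := by
  have : Fact (Nat.Prime 2) := ⟨Nat.prime_two⟩
  set H := centralizer ({rot P D ^ l} : Set G) with hH
  have hle := zpowers_rot_le_centralizer P D l
  have hp : IsPGroup 2 ((zpowers (rot P D)).subgroupOf H) :=
    (isPGroup_zpowers_rot P D).of_equiv (subgroupOfEquivOfLe hle).symm
  obtain ⟨S, hS⟩ := hp.exists_le_sylow
  refine ⟨S, (Subgroup.eq_of_le_of_card_ge hS ?_).symm⟩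
  rw [Nat.card_congr (subgroupOfEquivOfLe hle).toEquiv, card_zpowers_rot P D]
  refine le_trans (le_of_eq ?_) (card_le_of_centralizes P D hl (T := (S : Subgroup H).map H.subtype)
    (S.2.map _) ⟨⟨_, hle (pow_mem (mem_zpowers _) l)⟩, hS ?_, rfl⟩ ?_)
  · exact (Nat.card_congr (equivMapOfInjective _ _ H.subtype_injective).toEquiv)
  · exact mem_subgroupOf.2 (pow_mem (mem_zpowers _) l)
  · rintro _ ⟨t, -, rfl⟩
    exact (mem_centralizer_singleton_iff.1 t.2)

theorem card_two_centralizer_rot {l : ℕ} (hl : ¬ D.h ∣ l) :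
    2 ^ (Nat.card (centralizer ({rot P D ^ l} : Set G))).factorization 2 = 2 * D.h := by
  have : Fact (Nat.Prime 2) := ⟨Nat.prime_two⟩
  obtain ⟨S, hS⟩ := sylow_centralizer_rot P D hl
  rw [← S.card_eq_multiplicity, hS,
    Nat.card_congr (subgroupOfEquivOfLe (zpowers_rot_le_centralizer P D l)).toEquiv,
    card_zpowers_rot]

theorem complement_rot {l : ℕ} (hl : ¬ D.h ∣ l) :
    Cfsg.HasNormalPComplement 2 (centralizer ({rot P D ^ l} : Set G)) := by
  obtain ⟨S, hS⟩ := sylow_centralizer_rot P D hl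
  refine hasNormalPComplement_of_cyclic_focal S (S : Subgroup _) ?_ inf_le_right
  rw [hS]
  exact isCyclic_of_surjective (subgroupOfEquivOfLe (zpowers_rot_le_centralizer P D l)).symm
    (MulEquiv.surjective _)

theorem sylow_le_centralizer_dz : (P : Subgroup G) ≤ centralizer ({dz P D} : Set G) := fun _ hx =>
  mem_centralizer_singleton_iff.2 (dz_commute P D hx).eq.symm

theorem card_two_centralizer_dz :
    2 ^ (Nat.card (centralizer ({dz P D} : Set G))).factorization 2 = 4 * D.h := by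
  have : Fact (Nat.Prime 2) := ⟨Nat.prime_two⟩
  rw [← (P.subtype (sylow_le_centralizer_dz P D)).card_eq_multiplicity, Sylow.coe_subtype,
    Nat.card_congr (subgroupOfEquivOfLe (sylow_le_centralizer_dz P D)).toEquiv, D.card_eq]

/-- The normal form transported to the centralizer of the central involution. -/
noncomputable def cenData :
    DihData ((P.subtype (sylow_le_centralizer_dz P D) : Sylow 2 (centralizer ({dz P D} : Set G))) :
      Subgroup (centralizer ({dz P D} : Set G))) :=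
  let e : (P : Subgroup G) ≃* _ := (subgroupOfEquivOfLe (sylow_le_centralizer_dz P D)).symm
  { h := D.h
    r := e D.r
    s := e D.s
    h_pos := D.h_pos
    h_pow := D.h_pow
    orderOf_r := (MulEquiv.orderOf_eq e D.r).trans D.orderOf_r
    orderOf_s := (MulEquiv.orderOf_eq e D.s).trans D.orderOf_s
    conj_r := by
      have := congrArg e D.conj_r
      simp only [map_mul, map_inv] at this
      exact this
    s_notMem := fun ⟨i, hi⟩ => D.s_notMem ⟨i, e.injective (by
      show e (D.r ^ i) = e D.s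
      rw [map_zpow]; exact hi)⟩
    cases := fun u => by
      obtain ⟨v, rfl⟩ : ∃ v, e v = u := ⟨e.symm u, e.apply_symm_apply u⟩
      rcases D.cases v with ⟨i, hi⟩ | ⟨i, hi⟩
      · exact Or.inl ⟨i, by rw [hi, map_zpow]; rfl⟩
      · exact Or.inr ⟨i, by rw [hi, map_mul, map_zpow]; rfl⟩
    card_eq := (Nat.card_congr e.toEquiv).symm.trans D.card_eq }

theorem complement_dz : Cfsg.HasNormalPComplement 2 (centralizer ({dz P D} : Set G)) := by
  set Q := P.subtype (sylow_le_centralizer_dz P D) with hQ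
  set D' := cenData P D with hD'
  have hz : ((dz Q D' : centralizer ({dz P D} : Set G)) : G) = dz P D := by
    simp only [dz, DihData.z, hD', cenData, SubgroupClass.coe_zpow]
    rfl
  have hno : ∀ j, ¬ IsConj (dz Q D') (dt Q D' j) := fun j hj => by
    obtain ⟨g, hg⟩ := isConj_iff.1 hj
    have h1 : g * dz Q D' * g⁻¹ = dz Q D' := Subtype.ext (by
      simp only [Subgroup.coe_mul, InvMemClass.coe_inv, hz]
      rw [mem_centralizer_singleton_iff.1 g.2, mul_inv_cancel_right])
    exact D'.ne_zpow j _ (Subtype.ext (hg.symm.trans h1))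
  exact hasNormalPComplement_of_cyclic_focal Q ((zpowers D'.r).map (Q : Subgroup _).subtype)
    (by rw [MonoidHom.map_zpowers]; infer_instance) (residual_le_rot Q D' (hno 0) (hno 1))

/-- Every nontrivial rotation has a centralizer with a normal 2-complement. -/
theorem complement_rot_all {l : ℕ} (hl : ¬ 2 * D.h ∣ l) :
    Cfsg.HasNormalPComplement 2 (centralizer ({rot P D ^ l} : Set G)) := by
  by_cases hh : D.h ∣ l
  · have : rot P D ^ l = dz P D := by
      obtain ⟨c, rfl⟩ := hh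
      obtain ⟨d, rfl⟩ | ⟨d, rfl⟩ := Nat.even_or_odd c
      · exact absurd ⟨d, by ring⟩ hl
      · rw [mul_add, mul_one, ← mul_assoc, pow_add, rot_pow_h,
          (rot_pow_eq_one_iff P D (D.h * 2 * d)).2 ⟨d, by ring⟩, one_mul]
    rw [this]
    exact complement_dz P D
  · exact complement_rot P D hh

theorem mem_centralizer_or (d : G) (hd : d ∈ normalizer ((zpowers (rot P D) : Subgroup G) : Set G))
    (hh : 2 ≤ D.h) :
    d * rot P D * d⁻¹ = rot P D ∨ d * rot P D * d⁻¹ = (rot P D)⁻¹ := by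
  classical
  have : Fact (Nat.Prime 2) := ⟨Nat.prime_two⟩
  set R := zpowers (rot P D) with hR
  set N := normalizer (R : Set G) with hN
  set φ := normalizerMonoidHom R with hφ
  have hPN : (P : Subgroup G) ≤ N := by
    intro x hx
    refine mem_normalizer_iff_of_finite ?_
    rintro _ ⟨i, rfl⟩
    rcases D.cases ⟨x, hx⟩ with ⟨j, hj⟩ | ⟨j, hj⟩
    · refine ⟨i, ?_⟩
      have hx' : x = rot P D ^ j := by simpa using congrArg Subtype.val hj
      show rot P D ^ i = x * rot P D ^ i * x⁻¹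
      rw [hx', ((Commute.refl (rot P D)).zpow_zpow j i).eq, mul_inv_cancel_right]
    · refine ⟨-i, ?_⟩
      have hx' : x = rot P D ^ j * refl P D := by simpa using congrArg Subtype.val hj
      show rot P D ^ (-i) = x * rot P D ^ i * x⁻¹
      rw [hx', show rot P D ^ j * refl P D * rot P D ^ i * (rot P D ^ j * refl P D)⁻¹ =
        rot P D ^ j * (refl P D * rot P D ^ i * (refl P D)⁻¹) * (rot P D ^ j)⁻¹ by group,
        ← conj_zpow, refl_conj, inv_zpow', ← zpow_add, ← zpow_neg, ← zpow_add]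
      congr 1; ring
  -- the index of the kernel is two
  have hidx2 : ∃ e, φ.ker.index = 2 ^ e := by
    obtain ⟨k, hk⟩ := exists_pow_two_q P D
    have h1 : Nat.card φ.range ∣ 2 ^ (k - 1) := by
      have h2 : Nat.card (MulAut R) = (2 * D.h).totient := by
        rw [IsCyclic.card_mulAut, card_zpowers_rot]
      rw [hk, Nat.totient_prime_pow Nat.prime_two (by
        rcases Nat.eq_zero_or_pos k with rfl | h
        · simp at hk
        · exact h)] at h2
      simpa [h2] using Subgroup.card_subgroup_dvd_card φ.range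
    obtain ⟨e, -, he⟩ := (Nat.dvd_prime_pow Nat.prime_two).1 h1
    exact ⟨e, by rw [index_ker, he]⟩
  obtain ⟨e, he⟩ := hidx2
  have hσN : rot P D ∈ N := hPN (rot_mem P D)
  have hτN : refl P D ∈ N := hPN (SetLike.coe_mem _)
  have hker : ∀ g : N, g ∈ φ.ker ↔ (g : G) * rot P D * (g : G)⁻¹ = rot P D := by
    intro g
    rw [hφ, normalizerMonoidHom_ker, mem_subgroupOf, mem_centralizer_iff, mul_inv_eq_iff_eq_mul]
    refine ⟨fun h => (h _ (mem_zpowers _)).symm, fun h x hx => ?_⟩
    obtain ⟨i, rfl⟩ := hx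
    exact ((show Commute (g : G) (rot P D) from h).zpow_right i).eq.symm
  have hle2 : φ.ker.index ≤ 2 := by
    -- the kernel already contains the rotations
    have hR' : R.subgroupOf N ≤ φ.ker := fun g hg => (hker g).2 (by
      obtain ⟨i, hi⟩ := mem_subgroupOf.1 hg
      rw [show (g : G) = rot P D ^ i from hi.symm, (Commute.refl (rot P D)).zpow_left i |>.eq,
        mul_inv_cancel_right])
    have hRN : R ≤ N := le_normalizer
    have h1 : φ.ker.index ∣ (R.subgroupOf N).index := index_dvd_of_le hR'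
    have h2 : (R.subgroupOf N).index ∣ R.index := relIndex_dvd_index_of_le hRN
    have h3 : R.index = 2 * (P : Subgroup G).index := by
      have e1 := R.card_mul_index
      have e2 := (P : Subgroup G).card_mul_index
      rw [card_zpowers_rot] at e1
      rw [D.card_eq, ← e1] at e2
      refine Nat.eq_of_mul_eq_mul_left (show 0 < 2 * D.h by omega) ?_
      rw [← e2]; ring
    rw [he]
    have h4 : 2 ^ e ∣ 2 * (P : Subgroup G).index := h3 ▸ he ▸ (h1.trans h2)
    have h5 : Nat.Coprime (2 ^ e) (P : Subgroup G).index :=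
      Nat.Coprime.pow_left _ (Nat.prime_two.coprime_iff_not_dvd.2 P.not_dvd_index)
    exact Nat.le_of_dvd two_pos (h5.dvd_of_dvd_mul_right h4)
  have hτker : (⟨refl P D, hτN⟩ : N) ∉ φ.ker := fun h => by
    have h1 := ((hker _).1 h).symm.trans (refl_conj P D)
    have h2 : rot P D ^ 2 = 1 := by
      rw [pow_two]; exact mul_eq_one_iff_eq_inv.2 h1
    have h3 := (rot_pow_eq_one_iff P D 2).1 h2
    have := Nat.le_of_dvd two_pos h3
    omega
  have hidx : φ.ker.index = 2 := by
    have h1 : φ.ker.index ≠ 1 := fun h => hτker (by rw [index_eq_one.1 h]; exact mem_top _)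
    have h0 := φ.ker.index_ne_zero_of_finite
    omega
  by_cases hdk : (⟨d, hd⟩ : N) ∈ φ.ker
  · exact Or.inl ((hker _).1 hdk)
  · have h1 : (⟨d, hd⟩ : N) * ⟨refl P D, hτN⟩ ∈ φ.ker := by
      rw [mul_mem_iff_of_index_two hidx]
      exact iff_of_false hdk hτker
    have h2 := (hker _).1 h1
    simp only [Subgroup.coe_mul] at h2
    refine Or.inr ?_
    have h3 : d * (rot P D)⁻¹ * d⁻¹ = rot P D := by
      calc d * (rot P D)⁻¹ * d⁻¹ = d * refl P D * rot P D * (d * refl P D)⁻¹ := by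
            rw [← refl_conj P D]; group
        _ = rot P D := h2
    have h4 := congrArg (·⁻¹) h3
    simp only [mul_inv_rev, inv_inv, ← mul_assoc] at h4
    exact h4

/-- Fusion of rotations. -/
theorem isConj_rot_iff (hh : 2 ≤ D.h) {l m : ℕ} (hl : ¬ 2 * D.h ∣ l) (hm : ¬ 2 * D.h ∣ m) :
    IsConj (rot P D ^ l) (rot P D ^ m) ↔
      rot P D ^ m = rot P D ^ l ∨ rot P D ^ m = (rot P D ^ l)⁻¹ := by
  classical
  have : Fact (Nat.Prime 2) := ⟨Nat.prime_two⟩
  refine ⟨fun hc => ?_, fun h => ?_⟩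
  swap
  · rcases h with h | h <;> rw [h]
    exact isConj_rot_inv P D l
  obtain ⟨g, hg⟩ := isConj_iff.1 hc
  by_cases hhl : D.h ∣ l
  · -- both are the central involution
    have key : ∀ i, D.h ∣ i → ¬ 2 * D.h ∣ i → rot P D ^ i = dz P D := by
      intro i hi hni
      obtain ⟨c, rfl⟩ := hi
      obtain ⟨d, rfl⟩ | ⟨d, rfl⟩ := Nat.even_or_odd c
      · exact absurd ⟨d, by ring⟩ hni
      · rw [mul_add, mul_one, ← mul_assoc, pow_add, rot_pow_h,
          (rot_pow_eq_one_iff P D (D.h * 2 * d)).2 ⟨d, by ring⟩, one_mul]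
    have hhm : D.h ∣ m := by
      rw [← rot_sq_eq_one_iff P D, ← hg, conj_pow, (rot_sq_eq_one_iff P D l).2 hhl]
      group
    exact Or.inl (by rw [key l hhl hl, key m hhm hm])
  have hhm : ¬ D.h ∣ m := fun h => hhl (by
    rw [← rot_sq_eq_one_iff P D, ← conj_eq_one_iff (a := g), ← conj_pow, hg]
    exact (rot_sq_eq_one_iff P D m).2 h)
  set H := centralizer ({rot P D ^ m} : Set G) with hH
  obtain ⟨S, hS⟩ := sylow_centralizer_rot P D hhm
  set T := (zpowers (rot P D)).map (MulAut.conj g).toMonoidHom with hT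
  have hTH : T ≤ H := by
    rintro _ ⟨t, ht, rfl⟩
    refine mem_centralizer_singleton_iff.2 ?_
    rw [← hg]
    obtain ⟨i, rfl⟩ := ht
    exact ((((Commute.refl (rot P D)).zpow_left i).pow_right l).map
      (MulAut.conj g).toMonoidHom).eq
  obtain ⟨c, hc'⟩ := exists_conj_mem_sylow S (H := T.subgroupOf H)
    (((isPGroup_zpowers_rot P D).map _).of_equiv (subgroupOfEquivOfLe hTH).symm)
  set d : G := (c : G) * g with hd
  have hdR : ∀ x ∈ zpowers (rot P D), d * x * d⁻¹ ∈ zpowers (rot P D) := by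
    intro x hx
    have h1 := hc' ⟨g * x * g⁻¹, hTH ⟨x, hx, rfl⟩⟩ (mem_subgroupOf.2 ⟨x, hx, rfl⟩)
    replace h1 : _ ∈ (S : Subgroup H) := h1
    rw [hS, mem_subgroupOf] at h1
    simp only [Subgroup.coe_mul, InvMemClass.coe_inv] at h1
    rwa [show d * x * d⁻¹ = (c : G) * (g * x * g⁻¹) * (c : G)⁻¹ by rw [hd]; group]
  have hdl : d * rot P D ^ l * d⁻¹ = rot P D ^ m := by
    rw [hd, show (c : G) * g * rot P D ^ l * ((c : G) * g)⁻¹ =
      (c : G) * (g * rot P D ^ l * g⁻¹) * (c : G)⁻¹ by group, hg,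
      mem_centralizer_singleton_iff.1 c.2, mul_inv_cancel_right]
  rcases mem_centralizer_or P D d (mem_normalizer_iff_of_finite hdR) hh with e | e
  · left; rw [← hdl, ← conj_pow, e]
  · right; rw [← hdl, ← conj_pow, e, inv_pow]

/-- Every nontrivial element of a cyclic or dihedral 2-subgroup is fused into the rotations when
there is one class of involutions. -/
theorem exists_conj_rot (hone : ∀ s t : G, orderOf s = 2 → orderOf t = 2 → IsConj s t) {w : G}
    (hw : ∃ k : ℕ, orderOf w = 2 ^ k) (hw1 : w ≠ 1) :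
    ∃ m, ¬ 2 * D.h ∣ m ∧ IsConj (rot P D ^ m) w := by
  have : Fact (Nat.Prime 2) := ⟨Nat.prime_two⟩
  obtain ⟨k, hk⟩ := hw
  obtain ⟨g, hg⟩ := exists_conj_mem_sylow P (H := zpowers w)
    (IsPGroup.of_card (n := k) (by rw [Nat.card_zpowers, hk]))
  have hgw := hg w (mem_zpowers w)
  rcases D.cases ⟨_, hgw⟩ with ⟨i, hi⟩ | ⟨i, hi⟩
  · have h1 : g * w * g⁻¹ ∈ zpowers (rot P D) := ⟨i, by simpa using (congrArg Subtype.val hi).symm⟩
    obtain ⟨m, hm⟩ := mem_powers_iff_mem_zpowers.2 h1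
    change rot P D ^ m = g * w * g⁻¹ at hm
    refine ⟨m, fun h => hw1 ?_, (isConj_iff.2 ⟨g, hm.symm⟩ : IsConj w (rot P D ^ m)).symm⟩
    rw [← conj_eq_one_iff (a := g), ← hm]
    exact (rot_pow_eq_one_iff P D m).2 h
  · have h2 : orderOf (g * w * g⁻¹) = 2 := by
      rw [show g * w * g⁻¹ = ((D.r ^ i * D.s : (P : Subgroup G)) : G) from congrArg Subtype.val hi,
        Subgroup.orderOf_coe]
      exact D.orderOf_zy i
    refine ⟨D.h, fun h => ?_, ?_⟩
    · have := D.h_pos
      have := Nat.le_of_dvd this h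
      omega
    · rw [rot_pow_h]
      exact hone _ _ ((Subgroup.orderOf_coe _).trans D.orderOf_z) ((orderOf_conj_eq g w).symm.trans h2)

end CfsgLib.BlockA.DihedralBlock
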