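import Cfsg.Agent.Lib.BlockA.DihedralPrincipal

/-!
The characters of the principal 2-block of a group with a dihedral Sylow 2-subgroup.
-/

set_option autoImplicit false
set_option linter.unusedSectionVars false
set_option maxHeartbeats 1000000

namespace CfsgLib.BlockA.DihedralBlock

open Cfsg CfsgLib.Invol CfsgLib.Block
open scoped ComplexConjugate

universe u

variable {G : Type u} [Group G] [Finite G] {M : Ideal AlgInt} [M.IsPrime]

/-- The labelled principal block. -/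
structure Shape (M : Ideal AlgInt) (P : Sylow 2 G) (D : DihData (P : Subgroup G)) (ζ : ℂ)
    (χ₁ χ₂ χ₃ : IrrCharacter G) (χ' : ℕ → IrrCharacter G) (δ₁ δ₂ δ₃ : ℤ) : Prop where
  sgn₁ : δ₁ = 1 ∨ δ₁ = -1
  sgn₂ : δ₂ = 1 ∨ δ₂ = -1
  sgn₃ : δ₃ = 1 ∨ δ₃ = -1
  ne_one₁ : (χ₁ : G → ℂ) ≠ fun _ => 1
  ne_one₂ : (χ₂ : G → ℂ) ≠ fun _ => 1
  ne_one₃ : (χ₃ : G → ℂ) ≠ fun _ => 1
  ne₁₂ : χ₁ ≠ χ₂
  ne₁₃ : χ₁ ≠ χ₃
  ne₂₃ : χ₂ ≠ χ₃
  leaf_ne : ∀ j ∈ Finset.Ico 1 D.h, χ' j ≠ χ₁ ∧ χ' j ≠ χ₂ ∧ χ' j ≠ χ₃ ∧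
    (χ' j : G → ℂ) ≠ fun _ => 1
  injOn : Set.InjOn χ' (Finset.Ico 1 D.h : Set ℕ)
  block_eq : ∀ χ : IrrCharacter G, χ ∈ principalBlock M G ↔
    (χ : G → ℂ) = (fun _ => 1) ∨ χ = χ₁ ∨ χ = χ₂ ∨ χ = χ₃ ∨ ∃ j ∈ Finset.Ico 1 D.h, χ = χ' j
  val₁ : ∀ l : ℕ, ¬ 2 * D.h ∣ l → (χ₁ : G → ℂ) (rot P D ^ l) = δ₁
  val₂ : ∀ l : ℕ, ¬ 2 * D.h ∣ l → (χ₂ : G → ℂ) (rot P D ^ l) = δ₂ * (-1) ^ (l + 1)
  val₃ : ∀ l : ℕ, ¬ 2 * D.h ∣ l → (χ₃ : G → ℂ) (rot P D ^ l) = δ₃ * (-1) ^ (l + 1)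
  val' : ∀ l : ℕ, ¬ 2 * D.h ∣ l → ∀ j ∈ Finset.Ico 1 D.h,
    (χ' j : G → ℂ) (rot P D ^ l) = δ₁ * (ζ ^ (j * l) + (ζ ^ (j * l))⁻¹)
  rel : ∀ ρ : G, ¬ 2 ∣ orderOf ρ → ∀ j ∈ Finset.Ico 1 D.h,
    1 + δ₁ * (χ₁ : G → ℂ) ρ = -δ₂ * (χ₂ : G → ℂ) ρ - δ₃ * (χ₃ : G → ℂ) ρ ∧
      1 + δ₁ * (χ₁ : G → ℂ) ρ = δ₁ * (χ' j : G → ℂ) ρ

theorem exists_shape (hM : IsPModular 2 M) (P : Sylow 2 G) (D : DihData (P : Subgroup G))
    (hh : 2 ≤ D.h) {ζ : ℂ} (hζ : IsPrimitiveRoot ζ (2 * D.h)) :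
    ∃ (χ₁ χ₂ χ₃ : IrrCharacter G) (χ' : ℕ → IrrCharacter G) (δ₁ δ₂ δ₃ : ℤ),
      Shape M P D ζ χ₁ χ₂ χ₃ χ' δ₁ δ₂ δ₃ := by
  classical
  set B := (principalBlock M G).toFinite.toFinset with hBdef
  set S := B.erase trivIrr with hSdef
  have hh3 : D.h ≠ 3 := fun h => by
    obtain ⟨k, hk⟩ := D.h_pow
    rcases k with _ | k
    · omega
    · rw [h, pow_succ] at hk; omega
  have hint : ∀ (χ : IrrCharacter G) (j : ℕ), ∃ z : ℤ, j < 2 * D.h → wc P D ζ χ j = z :=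
    fun χ j => by
    obtain ⟨b, hb, -⟩ := exists_mult P D hζ χ
    exact ⟨b j - b 0, hb j⟩
  choose W hW using hint
  have htB : (trivIrr : IrrCharacter G) ∈ B :=
    (Set.Finite.mem_toFinset _).2 one_mem_principalBlock
  have hsplit : ∀ (j : ℕ) (f : IrrCharacter G → ℂ), j ∈ Finset.Icc 1 D.h →
      ∑ χ ∈ B, wc P D ζ χ j * f χ = -f trivIrr + ∑ χ ∈ S, (W χ j : ℂ) * f χ := by
    intro j f hj
    obtain ⟨h1, h2⟩ := Finset.mem_Icc.1 hj
    rw [hSdef, ← Finset.add_sum_erase B _ htB, wc_triv P D hζ (fun h => by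
      have := Nat.le_of_dvd h1 h; omega), neg_one_mul]
    congr 1
    exact Finset.sum_congr rfl fun χ _ => by rw [hW χ j (by omega)]
  have hrel : ∀ (ρ : G), ¬ 2 ∣ orderOf ρ → ∀ j ∈ Finset.Icc 1 D.h,
      ∑ χ ∈ S, (W χ j : ℂ) * (χ : G → ℂ) ρ = 1 := by
    intro ρ hρ j hj
    have h := wc_orth P D hM hζ (j := j) hρ
    rw [hsplit j (fun χ : IrrCharacter G => (χ : G → ℂ) ρ) hj] at h
    simp only [trivIrr] at h
    linear_combination h
  have hdeg : ∀ j ∈ Finset.Icc 1 D.h,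
      ∑ χ ∈ S, W χ j * (charDegree (χ : G → ℂ) : ℤ) = 1 := by
    intro j hj
    have h := hrel 1 (by rw [orderOf_one]; norm_num) j hj
    simp only [← CfsgLib.BlockB.irr_degree_cast] at h
    exact_mod_cast h
  have hgram : ∀ j ∈ Finset.Icc 1 D.h, ∀ k ∈ Finset.Icc 1 D.h,
      ∑ χ ∈ S, W χ j * W χ k = if j = k then (if j = D.h then 3 else 2) else 1 := by
    intro j hj k hk
    obtain ⟨h1, h2⟩ := Finset.mem_Icc.1 hj
    obtain ⟨h3, h4⟩ := Finset.mem_Icc.1 hk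
    have h := wc_gram P D hM hh hζ h1 h2 h3 h4
    rw [hsplit j (fun χ : IrrCharacter G => wc P D ζ χ k) hj, wc_triv P D hζ (fun h' => by
      have := Nat.le_of_dvd h3 h'; omega), neg_neg,
      Finset.sum_congr rfl (g := fun χ : IrrCharacter G => ((W χ j * W χ k : ℤ) : ℂ))
        (fun χ _ => by rw [hW χ k (by omega)]; push_cast; rfl), ← Int.cast_sum] at h
    split_ifs at h ⊢ <;> push_cast at h <;>
      refine Int.cast_injective (α := ℂ) ?_ <;> push_cast at h ⊢ <;> linear_combination h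
  obtain ⟨c, a, b, leaf, α, γ, δ, hα, hγ, hδ, hc, ha, hb, hleaf, hinj, hca, hcb, hab, huj, huh⟩ :=
    exists_star S hh hh3 (fun j χ => W χ j) (fun χ => (charDegree (χ : G → ℂ) : ℤ))
      (fun χ _ => by exact_mod_cast CfsgLib.BlockB.irr_degree_pos χ) hdeg hgram
  have hIc : ∀ {j}, j ∈ Finset.Ico 1 D.h → j ∈ Finset.Icc 1 D.h := fun hj =>
    Finset.Ico_subset_Icc_self hj
  have hmemB : ∀ {χ : IrrCharacter G}, χ ∈ S → χ ∈ principalBlock M G ∧
      (χ : G → ℂ) ≠ fun _ => 1 := fun {χ} hχ =>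
    ⟨(Set.Finite.mem_toFinset _).1 (Finset.mem_of_mem_erase hχ),
      fun e => (Finset.mem_erase.1 hχ).1 (Subtype.ext e)⟩
  -- the signs of the leaves
  have hleafsum : ∀ j ∈ Finset.Ico 1 D.h, ∀ f : IrrCharacter G → ℂ,
      ∑ χ ∈ S, (W χ j : ℂ) * f χ = α * f c + (-α : ℤ) * f (leaf j) := fun j hj f =>
    sum_two_support hc (hleaf j hj).1 (hleaf j hj).2.1.symm (fun χ => W χ j) f α (-α) (huj j hj)
  have hhmem : D.h ∈ Finset.Icc 1 D.h := Finset.mem_Icc.2 ⟨by omega, le_rfl⟩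
  have hhsum : ∀ f : IrrCharacter G → ℂ,
      ∑ χ ∈ S, (W χ D.h : ℂ) * f χ = α * f c + γ * f a + δ * f b := fun f =>
    sum_three_support hc ha hb hca hcb hab (fun χ => W χ D.h) f α γ δ huh
  have hwc0 : ∀ χ : IrrCharacter G, wc P D ζ χ 0 = 0 := fun χ => by simp [wc]
  -- every index reduces to one below the middle
  have hred : ∀ (χ : IrrCharacter G) (s : ℕ), 1 ≤ s → s < 2 * D.h →
      ∃ t ∈ Finset.Icc 1 D.h, (t = s ∨ t = 2 * D.h - s) ∧ wc P D ζ χ s = (W χ t : ℂ) := by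
    intro χ s h1 h2
    by_cases h3 : s ≤ D.h
    · exact ⟨s, Finset.mem_Icc.2 ⟨h1, h3⟩, Or.inl rfl, hW χ s h2⟩
    · refine ⟨2 * D.h - s, Finset.mem_Icc.2 ⟨by omega, by omega⟩, Or.inr rfl, ?_⟩
      rw [← hW χ _ (by omega), wc_symm P D hζ χ h1 h2]
  have hq0 : (0 : ℕ) ∈ Finset.range (2 * D.h) := Finset.mem_range.2 (by omega)
  have hgeo : ∀ l, ¬ 2 * D.h ∣ l → ∑ s ∈ Finset.range (2 * D.h), (ζ ^ s) ^ l = 0 := by
    intro l hl
    rw [Finset.sum_congr rfl (g := fun s => (ζ ^ l) ^ s) (fun s _ => by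
      rw [← pow_mul, ← pow_mul, mul_comm]), sum_pow_root (pow_pow_q P D hζ (root_pow_q P D hζ) l),
      if_neg fun h => hl ((hζ.pow_eq_one_iff_dvd l).1 h)]
  have hhalf : ∀ l : ℕ, (ζ ^ D.h) ^ l = (-1 : ℂ) ^ l := by
    intro l
    have h1 : ζ ^ D.h * ζ ^ D.h = 1 := by rw [← pow_add, ← two_mul, root_pow_q P D hζ]
    rcases mul_self_eq_one_iff.1 h1 with h | h
    · have := Nat.le_of_dvd (by omega) ((hζ.pow_eq_one_iff_dvd D.h).1 h)
      omega
    · rw [h]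
  have hvac : ∀ l, ¬ 2 * D.h ∣ l → (c : G → ℂ) (rot P D ^ l) = ((-α : ℤ) : ℂ) := by
    intro l hl
    obtain ⟨bb, -, hv⟩ := exists_mult P D hζ c
    rw [hv l hl]
    have h0 : ∑ s ∈ Finset.range (2 * D.h), ((if s = 0 then 0 else (α : ℂ)) * (ζ ^ s) ^ l) =
        ((-α : ℤ) : ℂ) := by
      have h := hgeo l hl
      rw [← Finset.add_sum_erase _ _ hq0] at h ⊢
      rw [if_pos rfl, zero_mul, zero_add, Finset.sum_congr rfl (g := fun s => (α : ℂ) * (ζ ^ s) ^ l)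
        (fun s hs => by rw [if_neg (Finset.mem_erase.1 hs).1]), ← Finset.mul_sum]
      simp only [pow_zero, one_pow] at h
      push_cast
      linear_combination (α : ℂ) * h
    rw [← h0]
    refine Finset.sum_congr rfl fun s hs => ?_
    rcases Nat.eq_zero_or_pos s with rfl | hs0
    · simp [hwc0]
    · obtain ⟨t, ht, -, e⟩ := hred c s hs0 (Finset.mem_range.1 hs)
      rw [e, if_neg hs0.ne']
      obtain ⟨h1, h2⟩ := Finset.mem_Icc.1 ht
      rcases h2.eq_or_lt with rfl | h2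
      · rw [huh c hc, if_pos rfl]
      · rw [huj t (Finset.mem_Ico.2 ⟨h1, h2⟩) c hc, if_pos rfl]
  have hside : ∀ (χ : IrrCharacter G) (z : ℤ), χ ∈ S → χ ≠ c → W χ D.h = z →
      (∀ j ∈ Finset.Ico 1 D.h, χ ≠ leaf j) → ∀ l, ¬ 2 * D.h ∣ l →
        (χ : G → ℂ) (rot P D ^ l) = (z : ℂ) * (-1) ^ l := by
    intro χ z hχ hne hz hnl l hl
    obtain ⟨bb, -, hv⟩ := exists_mult P D hζ χ
    rw [hv l hl, Finset.sum_eq_single D.h, hW χ _ (by omega), hz, hhalf]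
    · intro s hs hsne
      rcases Nat.eq_zero_or_pos s with rfl | hs0
      · simp [hwc0]
      · obtain ⟨t, ht, htc, e⟩ := hred χ s hs0 (Finset.mem_range.1 hs)
        obtain ⟨h1, h2⟩ := Finset.mem_Icc.1 ht
        have hlt : t < D.h := by
          have := Finset.mem_range.1 hs
          omega
        have htI := Finset.mem_Ico.2 ⟨h1, hlt⟩
        rw [e, huj t htI χ hχ, if_neg hne, if_neg (hnl t htI), Int.cast_zero, zero_mul]
    · exact fun h => absurd (Finset.mem_range.2 (by omega)) h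
  have hval' : ∀ j ∈ Finset.Ico 1 D.h, ∀ l, ¬ 2 * D.h ∣ l →
      (leaf j : G → ℂ) (rot P D ^ l) = ((-α : ℤ) : ℂ) * (ζ ^ (j * l) + (ζ ^ (j * l))⁻¹) := by
    intro j hj l hl
    obtain ⟨h1, h2⟩ := Finset.mem_Ico.1 hj
    obtain ⟨hlS, hlc, hla, hlb⟩ := hleaf j hj
    obtain ⟨bb, -, hv⟩ := exists_mult P D hζ (leaf j)
    have hj' : 2 * D.h - j ≠ j := by omega
    rw [hv l hl, ← Finset.sum_subset (s₁ := ({j, 2 * D.h - j} : Finset ℕ))
      (s₂ := Finset.range (2 * D.h)) (by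
        simp only [Finset.insert_subset_iff, Finset.singleton_subset_iff, Finset.mem_range]
        omega) (fun s hs hn => ?_), Finset.sum_pair hj'.symm, wc_symm P D hζ _ h1 (by omega),
      hW _ j (by omega), huj j hj _ hlS, if_neg hlc, if_pos rfl]
    · have hinv : (ζ ^ (2 * D.h - j)) ^ l = (ζ ^ (j * l))⁻¹ := by
        refine (inv_eq_of_mul_eq_one_right ?_).symm
        rw [← pow_mul, ← pow_add, ← Nat.add_mul, Nat.add_sub_cancel' (by omega), pow_mul,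
          root_pow_q P D hζ, one_pow]
      rw [hinv, ← pow_mul]
      ring
    · simp only [Finset.mem_insert, Finset.mem_singleton, not_or] at hn
      rcases Nat.eq_zero_or_pos s with rfl | hs0
      · simp [hwc0]
      · have hs' := Finset.mem_range.1 hs
        obtain ⟨t, ht, htc, e⟩ := hred (leaf j) s hs0 hs'
        obtain ⟨h3, h4⟩ := Finset.mem_Icc.1 ht
        rw [e]
        rcases h4.eq_or_lt with rfl | h4
        · rw [huh _ hlS, if_neg hlc, if_neg hla, if_neg hlb, Int.cast_zero, zero_mul]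
        · rw [huj t (Finset.mem_Ico.2 ⟨h3, h4⟩) _ hlS, if_neg hlc, if_neg (fun e' => ?_),
            Int.cast_zero, zero_mul]
          have htj := hinj (Finset.mem_coe.2 hj) (Finset.mem_coe.2 (Finset.mem_Ico.2 ⟨h3, h4⟩)) e'
          omega
  have hneg : ∀ (z : ℤ) (l : ℕ),
      (z : ℂ) * (-1 : ℂ) ^ l = ((-z : ℤ) : ℂ) * (-1) ^ (l + 1) := fun z l => by
    push_cast; ring
  refine ⟨c, a, b, leaf, -α, -γ, -δ,
    ⟨by omega, by omega, by omega, (hmemB hc).2, (hmemB ha).2, (hmemB hb).2, hca, hcb, hab,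
      fun j hj => ⟨(hleaf j hj).2.1, (hleaf j hj).2.2.1, (hleaf j hj).2.2.2,
        (hmemB (hleaf j hj).1).2⟩, hinj, fun χ => ?_, hvac, ?_, ?_, fun l hl j hj => hval' j hj l hl,
      fun ρ hρ j hj => ?_⟩⟩
  · constructor
    · intro hχ
      by_contra hn
      push Not at hn
      obtain ⟨n1, n2, n3, n4, n5⟩ := hn
      have hχS : χ ∈ S := Finset.mem_erase.2 ⟨fun e => n1 (by rw [e]; rfl),
        (Set.Finite.mem_toFinset _).2 hχ⟩
      have hz : ∀ t ∈ Finset.Icc 1 D.h, W χ t = 0 := by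
        intro t ht
        obtain ⟨h1, h2⟩ := Finset.mem_Icc.1 ht
        rcases h2.eq_or_lt with rfl | h2
        · rw [huh χ hχS, if_neg n2, if_neg n3, if_neg n4]
        · have htI := Finset.mem_Ico.2 ⟨h1, h2⟩
          rw [huj t htI χ hχS, if_neg n2, if_neg (n5 t htI)]
      refine val_dz_ne_zero P D hM hχ ?_
      obtain ⟨bb, -, hv⟩ := exists_mult P D hζ χ
      rw [← rot_pow_h, hv D.h (fun h => by have := Nat.le_of_dvd (by omega) h; omega)]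
      refine Finset.sum_eq_zero fun s hs => ?_
      rcases Nat.eq_zero_or_pos s with rfl | hs0
      · simp [hwc0]
      · obtain ⟨t, ht, -, e⟩ := hred χ s hs0 (Finset.mem_range.1 hs)
        rw [e, hz t ht, Int.cast_zero, zero_mul]
    · rintro (e | rfl | rfl | rfl | ⟨j, hj, rfl⟩)
      · rw [show χ = trivIrr from Subtype.ext e]; exact one_mem_principalBlock
      exacts [(hmemB hc).1, (hmemB ha).1, (hmemB hb).1, (hmemB (hleaf j hj).1).1]
  · intro l hl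
    rw [hside a γ ha hca.symm (by rw [huh a ha, if_neg hca.symm, if_pos rfl])
      (fun j hj => (hleaf j hj).2.2.1.symm) l hl]
    exact hneg γ l
  · intro l hl
    rw [hside b δ hb hcb.symm (by rw [huh b hb, if_neg hcb.symm, if_neg hab.symm, if_pos rfl])
      (fun j hj => (hleaf j hj).2.2.2.symm) l hl]
    exact hneg δ l
  · have h1 := hrel ρ hρ j (hIc hj)
    rw [hleafsum j hj (fun χ : IrrCharacter G => (χ : G → ℂ) ρ)] at h1
    have h2 := hrel ρ hρ D.h hhmem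
    rw [hhsum (fun χ : IrrCharacter G => (χ : G → ℂ) ρ)] at h2
    push_cast at h1 h2 ⊢
    exact ⟨by linear_combination -h2, by linear_combination -h1⟩

/-- The number of members of the block. -/
theorem Shape.card_block {P : Sylow 2 G} {D : DihData (P : Subgroup G)} {ζ : ℂ}
    {χ₁ χ₂ χ₃ : IrrCharacter G} {χ' : ℕ → IrrCharacter G} {δ₁ δ₂ δ₃ : ℤ}
    (h : Shape M P D ζ χ₁ χ₂ χ₃ χ' δ₁ δ₂ δ₃) : Nat.card (principalBlock M G) = 3 + D.h := by
  classical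
  have hset : principalBlock M G =
      ↑(({trivIrr, χ₁, χ₂, χ₃} : Finset (IrrCharacter G)) ∪ (Finset.Ico 1 D.h).image χ') := by
    ext χ
    rw [h.block_eq]
    simp only [Finset.coe_union, Set.mem_union, Finset.mem_coe, Finset.mem_insert,
      Finset.mem_singleton, Finset.mem_image]
    constructor
    · rintro (e | e | e | e | ⟨j, hj, e⟩)
      · exact Or.inl (Or.inl (Subtype.ext e))
      · exact Or.inl (Or.inr (Or.inl e))
      · exact Or.inl (Or.inr (Or.inr (Or.inl e)))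
      · exact Or.inl (Or.inr (Or.inr (Or.inr e)))
      · exact Or.inr ⟨j, hj, e.symm⟩
    · rintro ((e | e | e | e) | ⟨j, hj, e⟩)
      · exact Or.inl (by rw [e]; rfl)
      · exact Or.inr (Or.inl e)
      · exact Or.inr (Or.inr (Or.inl e))
      · exact Or.inr (Or.inr (Or.inr (Or.inl e)))
      · exact Or.inr (Or.inr (Or.inr (Or.inr ⟨j, hj, e.symm⟩)))
  have e1 : (trivIrr : IrrCharacter G) ≠ χ₁ := fun e => h.ne_one₁ (by rw [← e]; rfl)
  have e2 : (trivIrr : IrrCharacter G) ≠ χ₂ := fun e => h.ne_one₂ (by rw [← e]; rfl)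
  have e3 : (trivIrr : IrrCharacter G) ≠ χ₃ := fun e => h.ne_one₃ (by rw [← e]; rfl)
  have hdis : Disjoint ({trivIrr, χ₁, χ₂, χ₃} : Finset (IrrCharacter G))
      ((Finset.Ico 1 D.h).image χ') := by
    rw [Finset.disjoint_right]
    intro χ hχ
    obtain ⟨j, hj, rfl⟩ := Finset.mem_image.1 hχ
    obtain ⟨n1, n2, n3, n4⟩ := h.leaf_ne j hj
    simp only [Finset.mem_insert, Finset.mem_singleton, not_or]
    exact ⟨fun e => n4 (by rw [e]; rfl), n1, n2, n3⟩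
  rw [hset, Nat.card_coe_set_eq, Set.ncard_coe_finset, Finset.card_union_of_disjoint hdis,
    Finset.card_image_of_injOn h.injOn, Nat.card_Ico,
    Finset.card_insert_of_notMem (by simp [e1, e2, e3]),
    Finset.card_insert_of_notMem (by simp [h.ne₁₂, h.ne₁₃]),
    Finset.card_insert_of_notMem (by simp [h.ne₂₃]), Finset.card_singleton]
  have := D.h_pos
  omega

end CfsgLib.BlockA.DihedralBlock
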