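import Cfsg.Agent.Lib.BlockA.DihedralKey
import Cfsg.Agent.Lib.BlockA.DihedralPrincipal
import Cfsg.Agent.Lib.BlockA.DihedralCores

/-!
A block with dihedral defect group: the integer vectors behind the columns at the rotations.
-/

set_option autoImplicit false
set_option linter.unusedSectionVars false
set_option maxHeartbeats 1000000

namespace CfsgLib.BlockA.DihedralDefect

open Cfsg CfsgLib.Block CfsgLib.BlockA CfsgLib.BlockB CfsgLib.BlockA.DihedralBlock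
open scoped ComplexConjugate

universe u

variable {G : Type u} [Group G] [Fintype G] {M : Ideal AlgInt} [M.IsPrime]
  {B : Set (IrrCharacter G)} {P : Subgroup G}
  {c : Set (IrrCharacter (Subgroup.centralizer (P : Set G)))} {r : G} {h : ℕ}
  [Fintype (cz r h)] [Fintype (IrrCharacter (P.subgroupOf (cz r h)))]

variable (hR : Rot P r h) (S : Setup M P c r h)

theorem col_real (χ : IrrCharacter G) {l : ℕ} (hl : l ≤ 2 * h) :
    conj (col hR S χ l) = col hR S χ l := by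
  have hh := hR.h_pos
  obtain ⟨ζ, hζ⟩ : ∃ ζ : ℂ, IsPrimitiveRoot ζ (2 * h) :=
    ⟨_, Complex.isPrimitiveRoot_exp (2 * h) (by omega)⟩
  obtain ⟨b, hb⟩ := exists_coeff hR S hζ χ
  conv_rhs => rw [← col_symm hR S χ hl]
  rw [hb, hb, map_sum]
  refine Finset.sum_congr rfl fun s _ => ?_
  have hz : (ζ ^ s) ^ (2 * h) = 1 := by
    rw [← pow_mul, mul_comm, pow_mul, hζ.pow_eq_one, one_pow]
  rw [map_mul, map_intCast, map_pow,
    (Complex.inv_eq_conj (Complex.norm_eq_one_of_pow_eq_one hz (by omega))).symm, inv_pow]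
  congr 1
  refine inv_eq_of_mul_eq_one_right ?_
  rw [← pow_add, Nat.add_sub_cancel' hl, hz]

/-- The differences of the multiplicities. -/
theorem exists_diff {ζ : ℂ} (hζ : IsPrimitiveRoot ζ (2 * h)) :
    ∃ u : ℕ → IrrCharacter G → ℤ,
      (∀ χ, u 0 χ = 0) ∧
      (∀ χ j, 0 < j → j < 2 * h → u (2 * h - j) χ = u j χ) ∧
      (∀ χ j, j < 2 * h → (u j χ : ℂ) = ((2 * h : ℕ) : ℂ)⁻¹ *
        ∑ l ∈ Finset.range (2 * h), col hR S χ l * ((ζ⁻¹) ^ (j * l) - 1)) ∧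
      (∀ χ l, ¬ 2 * h ∣ l →
        col hR S χ l = ∑ s ∈ Finset.range (2 * h), (u s χ : ℂ) * (ζ ^ s) ^ l) := by
  classical
  have hh := hR.h_pos
  have hq : ((2 * h : ℕ) : ℂ) ≠ 0 := Nat.cast_ne_zero.2 (by omega)
  have hz0 : ζ ≠ 0 := hζ.ne_zero (by omega)
  choose b hb using exists_coeff hR S hζ
  have hpw : ∀ {ω : ℂ}, ω ^ (2 * h) = 1 → ∀ k, (ω ^ k) ^ (2 * h) = 1 := fun {ω} e k => by
    rw [← pow_mul, mul_comm, pow_mul, e, one_pow]
  have hzi : ζ⁻¹ ^ (2 * h) = 1 := by rw [inv_pow, hζ.pow_eq_one, inv_one]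
  have hsum : ∀ χ j, j < 2 * h → ∑ l ∈ Finset.range (2 * h),
      col hR S χ l * (ζ⁻¹) ^ (j * l) = ((2 * h : ℕ) : ℂ) * (b χ j : ℂ) := by
    intro χ j hj
    simp only [hb, Finset.sum_mul]
    rw [Finset.sum_comm, Finset.sum_eq_single j]
    · rw [Finset.sum_congr rfl (g := fun _ => (b χ j : ℂ)), Finset.sum_const, Finset.card_range,
        nsmul_eq_mul]
      intro l _
      rw [mul_assoc, pow_mul (ζ⁻¹), ← mul_pow, ← mul_pow, mul_inv_cancel₀ hz0,
        one_pow, one_pow, mul_one]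
    · intro s hs hne
      have hs' := Finset.mem_range.1 hs
      rw [Finset.sum_congr rfl (g := fun l => (b χ s : ℂ) * (ζ ^ s * ζ⁻¹ ^ j) ^ l) (fun l _ => by
        rw [mul_pow, pow_mul (ζ⁻¹), mul_assoc]), ← Finset.mul_sum, sum_pow_root (by
        rw [mul_pow, hpw hζ.pow_eq_one, hpw hzi, one_mul]), if_neg, mul_zero]
      intro h1
      refine hne (hζ.pow_inj hs' hj ?_)
      rwa [inv_pow, mul_inv_eq_one₀ (pow_ne_zero _ hz0)] at h1
    · exact fun e => absurd (Finset.mem_range.2 hj) e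
  have hformula : ∀ χ j, j < 2 * h → ((b χ j - b χ 0 : ℤ) : ℂ) = ((2 * h : ℕ) : ℂ)⁻¹ *
      ∑ l ∈ Finset.range (2 * h), col hR S χ l * ((ζ⁻¹) ^ (j * l) - 1) := by
    intro χ j hj
    have h0 := hsum χ 0 (by omega)
    simp only [Nat.zero_mul, pow_zero, mul_one] at h0
    rw [Finset.sum_congr rfl (g := fun l => col hR S χ l * (ζ⁻¹) ^ (j * l) -
        col hR S χ l) (fun l _ => by ring), Finset.sum_sub_distrib, hsum χ j hj, h0,
      ← mul_sub, inv_mul_cancel_left₀ hq, Int.cast_sub]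
  refine ⟨fun j χ => b χ j - b χ 0, fun χ => sub_self _, fun χ j hj0 hj => ?_, hformula,
    fun χ l hl => ?_⟩
  · refine Int.cast_injective (α := ℂ) ?_
    have h1 : conj (((b χ (2 * h - j) - b χ 0 : ℤ)) : ℂ) =
        ((b χ (2 * h - j) - b χ 0 : ℤ) : ℂ) := map_intCast _ _
    show ((b χ (2 * h - j) - b χ 0 : ℤ) : ℂ) = ((b χ j - b χ 0 : ℤ) : ℂ)
    rw [← h1, hformula χ _ (by omega), hformula χ j hj, map_mul, map_sum, map_inv₀,
      Complex.conj_natCast]
    congr 1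
    refine Finset.sum_congr rfl fun l hl => ?_
    rw [map_mul, col_real hR S χ (Finset.mem_range.1 hl).le, map_sub, map_pow, map_one, map_inv₀,
      (Complex.inv_eq_conj (Complex.norm_eq_one_of_pow_eq_one hζ.pow_eq_one (by omega))).symm,
      inv_inv]
    congr 2
    rw [inv_pow]
    refine (inv_eq_of_mul_eq_one_right ?_).symm
    rw [← pow_add, ← Nat.add_mul, Nat.add_sub_cancel' hj.le, pow_mul, hζ.pow_eq_one, one_pow]
  · rw [hb, Finset.sum_congr rfl (g := fun s => (b χ s : ℂ) * (ζ ^ s) ^ l -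
        (b χ 0 : ℂ) * (ζ ^ l) ^ s) (fun s _ => by
      push_cast
      rw [← pow_mul ζ l, mul_comm l, pow_mul]
      ring) (s₁ := Finset.range (2 * h)) (s₂ := Finset.range (2 * h))
      (f := fun s => ((b χ s - b χ 0 : ℤ) : ℂ) * (ζ ^ s) ^ l), Finset.sum_sub_distrib,
      ← Finset.mul_sum, sum_pow_root (hpw hζ.pow_eq_one l),
      if_neg (fun e => hl ((hζ.pow_eq_one_iff_dvd l).1 e)), mul_zero, sub_zero]

variable {ζ : ℂ} (hζ : IsPrimitiveRoot ζ (2 * h)) {u : ℕ → IrrCharacter G → ℤ}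
  (hu : ∀ χ j, j < 2 * h → (u j χ : ℂ) = ((2 * h : ℕ) : ℂ)⁻¹ *
    ∑ l ∈ Finset.range (2 * h), col hR S χ l * ((ζ⁻¹) ^ (j * l) - 1))
include hu

/-- A weighted sum of the differences. -/
theorem sum_weight_diff (T : Finset (IrrCharacter G)) (v : IrrCharacter G → ℂ) {j : ℕ}
    (hj : j < 2 * h) :
    ∑ χ ∈ T, v χ * (u j χ : ℂ) = ((2 * h : ℕ) : ℂ)⁻¹ *
      ∑ l ∈ Finset.range (2 * h), (∑ χ ∈ T, v χ * col hR S χ l) * ((ζ⁻¹) ^ (j * l) - 1) := by
  simp only [hu _ j hj, Finset.mul_sum, Finset.sum_mul]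
  rw [Finset.sum_comm]
  exact Finset.sum_congr rfl fun l _ => Finset.sum_congr rfl fun χ _ => by ring

include hζ in
theorem sum_weight_diff_involution (T : Finset (IrrCharacter G)) (v : IrrCharacter G → ℂ)
    (hv : ∀ l, 0 < l → l < 2 * h → l ≠ h → ∑ χ ∈ T, v χ * col hR S χ l = 0) {j : ℕ}
    (hj : j < 2 * h) :
    ∑ χ ∈ T, v χ * (u j χ : ℂ) =
      ((2 * h : ℕ) : ℂ)⁻¹ * (∑ χ ∈ T, v χ * col hR S χ h) * ((-1) ^ j - 1) := by
  have hh := hR.h_pos
  rw [sum_weight_diff hR S hu T v hj, Finset.sum_eq_single h, mul_assoc]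
  · congr 2
    rw [mul_comm j, pow_mul, inv_pow]
    have h1 : ζ ^ h * ζ ^ h = 1 := by rw [← pow_add, ← two_mul, hζ.pow_eq_one]
    rcases mul_self_eq_one_iff.1 h1 with e | e
    · have := Nat.le_of_dvd hh ((hζ.pow_eq_one_iff_dvd h).1 e)
      omega
    · rw [e]; norm_num
  · intro l hl hne
    rcases Nat.eq_zero_or_pos l with rfl | hl0
    · simp
    · rw [hv l hl0 (Finset.mem_range.1 hl) hne, zero_mul]
  · exact fun e => absurd (Finset.mem_range.2 (by omega)) e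

variable (hM : IsPModular 2 M) (hmax : IsMaximalBrauerPair 2 M B P c)
include hM hmax

/-- The differences are orthogonal to the regular columns. -/
theorem diff_regular {j : ℕ} (hj : j < 2 * h) {ρ : G} (hρ : ¬ 2 ∣ orderOf ρ) :
    ∑ χ ∈ B.toFinite.toFinset, (χ : G → ℂ) ρ * (u j χ : ℂ) = 0 := by
  rw [sum_weight_diff hR S hu _ (fun χ => (χ : G → ℂ) ρ) hj, Finset.sum_eq_zero, mul_zero]
  intro l hl
  rcases Nat.eq_zero_or_pos l with rfl | hl0
  · simp
  · rw [col_regular hR S hM hmax hl0 (Finset.mem_range.1 hl) hρ, zero_mul]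

include hζ in
/-- The inner products of the differences. -/
theorem diff_gram {i j : ℕ} (hi : 1 ≤ i) (hi' : i ≤ h) (hj : 1 ≤ j) (hj' : j ≤ h) :
    ∑ χ ∈ B.toFinite.toFinset, u i χ * u j χ =
      if i = j then (if i = h then 4 else 3) else 2 := by
  classical
  have hh2 := hR.two_le
  refine Int.cast_injective (α := ℂ) ?_
  push_cast
  set q := 2 * h with hq
  have hq1 : (q : ℂ) ≠ 0 := Nat.cast_ne_zero.2 (by omega)
  have hz0 : ζ ≠ 0 := hζ.ne_zero (by omega)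
  have hzq : ζ ^ q = 1 := hζ.pow_eq_one
  have hziq : ζ⁻¹ ^ q = 1 := by rw [inv_pow, hzq, inv_one]
  have hpq : ∀ {ω : ℂ}, ω ^ q = 1 → ∀ k, (ω ^ k) ^ q = 1 := fun {ω} e k => by
    rw [← pow_mul, mul_comm, pow_mul, e, one_pow]
  have hinner : ∀ l ∈ Finset.range q,
      (∑ χ ∈ B.toFinite.toFinset, (u i χ : ℂ) * col hR S χ l) =
        if l = 0 then ∑ χ ∈ B.toFinite.toFinset, (u i χ : ℂ) * col hR S χ l
        else ((ζ⁻¹) ^ (i * l) - 1) + ((ζ ^ i) ^ l - 1) := by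
    intro l hl
    rw [Finset.mem_range] at hl
    split_ifs with h0
    · rfl
    have hl0 : 0 < l := Nat.pos_of_ne_zero h0
    rw [Finset.sum_congr rfl (fun χ _ => mul_comm _ _),
      sum_weight_diff hR S hu _ (fun χ => col hR S χ l) (j := i) (by omega)]
    have hterm : ∀ m ∈ Finset.range q,
        (∑ χ ∈ B.toFinite.toFinset, col hR S χ l * col hR S χ m) * ((ζ⁻¹) ^ (i * m) - 1) =
        (q : ℂ) * ((if m = l then ((ζ⁻¹) ^ (i * m) - 1) else 0) +
          (if m = q - l then ((ζ⁻¹) ^ (i * m) - 1) else 0)) := by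
      intro m hm
      rw [Finset.mem_range] at hm
      rcases Nat.eq_zero_or_pos m with rfl | hm0
      · simp
      have e := col_orth hR S hM hmax hl0 hl hm0 hm
      simp only [col_real hR S _ hm.le] at e
      rw [e, ← hq]
      split_ifs <;> ring
    rw [← hq, Finset.sum_congr rfl hterm, ← Finset.mul_sum, inv_mul_cancel_left₀ hq1,
      Finset.sum_add_distrib, Finset.sum_ite_eq', Finset.sum_ite_eq',
      if_pos (Finset.mem_range.2 hl), if_pos (Finset.mem_range.2 (by omega))]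
    congr 2
    rw [← pow_mul, inv_pow]
    refine inv_eq_of_mul_eq_one_right ?_
    rw [← pow_add, ← Nat.mul_add, Nat.sub_add_cancel hl.le, mul_comm, pow_mul, hzq, one_pow]
  rw [sum_weight_diff hR S hu _ (fun χ => (u i χ : ℂ)) (j := j) (by omega)]
  rw [Finset.sum_congr rfl (g := fun l => ((ζ⁻¹ ^ i * ζ⁻¹ ^ j) ^ l + (ζ ^ i * ζ⁻¹ ^ j) ^ l -
      2 * (ζ⁻¹ ^ j) ^ l - (ζ⁻¹ ^ i) ^ l - (ζ ^ i) ^ l) + 2) (fun l hl => by
      rw [hinner l hl, ← pow_mul, ← pow_mul]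
      split_ifs with h0
      · subst h0; norm_num
      · ring),
    Finset.sum_add_distrib, Finset.sum_sub_distrib, Finset.sum_sub_distrib, Finset.sum_sub_distrib,
    Finset.sum_add_distrib, ← Finset.mul_sum, Finset.sum_const, Finset.card_range,
    sum_pow_root (by rw [mul_pow, hpq hziq, hpq hziq, one_mul]),
    sum_pow_root (by rw [mul_pow, hpq hzq, hpq hziq, one_mul]),
    sum_pow_root (hpq hziq j), sum_pow_root (hpq hziq i), sum_pow_root (hpq hzq i)]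
  have hnd : ∀ k, 1 ≤ k → k ≤ h → ¬ q ∣ k := fun k h1 h2 e => by
    have := Nat.le_of_dvd h1 e
    omega
  have hX : ∀ k, 1 ≤ k → k ≤ h → ζ⁻¹ ^ k ≠ 1 ∧ ζ ^ k ≠ 1 := fun k h1 h2 =>
    ⟨fun e => hnd k h1 h2 ((hζ.pow_eq_one_iff_dvd k).1 (by rwa [inv_pow, inv_eq_one] at e)),
      fun e => hnd k h1 h2 ((hζ.pow_eq_one_iff_dvd k).1 e)⟩
  have e1 : ζ⁻¹ ^ i * ζ⁻¹ ^ j = 1 ↔ i = h ∧ j = h := by
    rw [← pow_add, inv_pow, inv_eq_one, hζ.pow_eq_one_iff_dvd]
    exact ⟨fun e => by have := Nat.le_of_dvd (by omega) e; omega, fun e => ⟨1, by omega⟩⟩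
  have e2 : ζ ^ i * ζ⁻¹ ^ j = 1 ↔ i = j := by
    rw [inv_pow, mul_inv_eq_one₀ (pow_ne_zero _ hz0)]
    exact ⟨fun e => hζ.pow_inj (by omega) (by omega) e, fun e => by rw [e]⟩
  rw [if_neg (hX i hi hi').1, if_neg (hX i hi hi').2, if_neg (hX j hj hj').1]
  have hh0 : (h : ℂ) ≠ 0 := Nat.cast_ne_zero.2 (by omega)
  by_cases hij : i = j
  · by_cases hih : i = h
    · rw [if_pos (e1.2 ⟨hih, hij ▸ hih⟩), if_pos (e2.2 hij), if_pos hij, if_pos hih]
      simp only [hq, nsmul_eq_mul]; push_cast; field_simp; ring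
    · rw [if_neg (fun e => hih (e1.1 e).1), if_pos (e2.2 hij), if_pos hij, if_neg hih]
      simp only [hq, nsmul_eq_mul]; push_cast; field_simp; ring
  · rw [if_neg (fun e => hij ((e1.1 e).1.trans (e1.1 e).2.symm)), if_neg (fun e => hij (e2.1 e)),
      if_neg hij]
    simp only [hq, nsmul_eq_mul]; push_cast; field_simp; ring

end CfsgLib.BlockA.DihedralDefect
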