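import Cfsg.Agent.Lib.BlockB.RegRank
import Cfsg.Agent.Lib.Block.DefectOrder
import Cfsg.Agent.Lib.Block.Orthogonality
import Cfsg.Agent.Lib.Block.PPart
import Cfsg.Agent.Lib.Block.Linkage
import Cfsg.Agent.Lib.Char.Linear
import Cfsg.Agent.Lib.Char.Brauer

/-!
Blocks of a group and of its quotient by a central `p`-subgroup: the regular elements correspond,
and a block of the group dominates exactly one block of the quotient, with the same regular
pairing, the same rank and the defect dropped by the order of the central subgroup.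
-/

set_option autoImplicit false
set_option linter.unusedSectionVars false

namespace CfsgLib.BlockA.Dominated

open Cfsg CfsgLib.Block CfsgLib.BlockA MonoidAlgebra
open scoped ComplexConjugate

universe u

variable {C : Type u} [Group C]

/-- Inflation along the quotient map. -/
noncomputable def infl (Z : Subgroup C) [Z.Normal] (η : IrrCharacter (C ⧸ Z)) : IrrCharacter C :=
  ⟨_, CfsgLib.Char.isIrrCharacter_comp_surjective η.2 (QuotientGroup.mk' Z)
    (QuotientGroup.mk'_surjective Z)⟩

theorem infl_apply (Z : Subgroup C) [Z.Normal] (η : IrrCharacter (C ⧸ Z)) (g : C) :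
    (infl Z η : C → ℂ) g = (η : C ⧸ Z → ℂ) (g : C ⧸ Z) := rfl

theorem infl_injective (Z : Subgroup C) [Z.Normal] : Function.Injective (infl Z) := by
  intro a b h
  refine Subtype.ext (funext fun x => ?_)
  obtain ⟨g, rfl⟩ := QuotientGroup.mk'_surjective Z x
  exact congr_fun (congrArg Subtype.val h) g

theorem charDegree_infl (Z : Subgroup C) [Z.Normal] (η : IrrCharacter (C ⧸ Z)) :
    charDegree (infl Z η : C → ℂ) = charDegree (η : C ⧸ Z → ℂ) := rfl

variable [Finite C] {p : ℕ} [hp : Fact p.Prime] {Z : Subgroup C} [Z.Normal]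

theorem regular_mk {g : C} (hg : ¬ p ∣ orderOf g) : ¬ p ∣ orderOf (g : C ⧸ Z) := fun h =>
  hg (h.trans (orderOf_map_dvd (QuotientGroup.mk' Z) g))

/-- On an elementary group a power map killing the `p`-parts and fixing the regular parts is a
homomorphism. -/
theorem exists_hom_pow {E : Type u} [Group E] [Finite E] {q : ℕ} (hq : q.Prime)
    (hE : IsElementary q E) {k : ℕ}
    (hkp : ∀ e : E, (∃ j : ℕ, orderOf e = p ^ j) → e ^ k = 1)
    (hkr : ∀ e : E, ¬ p ∣ orderOf e → e ^ k = e) :
    ∃ f : E →* E, ∀ e, f e = e ^ k := by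
  have := Fact.mk hq
  obtain ⟨x, hx, hcop, j, hj⟩ := hE
  obtain ⟨Q⟩ := (inferInstance : Nonempty (Sylow q E))
  have hxq : ¬ q ∣ orderOf x := fun h => hq.not_dvd_one (hcop ▸ Nat.dvd_gcd h dvd_rfl)
  have hcard : orderOf x * q ^ j = Nat.card E := by
    rw [← hj, ← Nat.card_zpowers, Subgroup.card_mul_index]
  have hf : (Nat.card E).factorization q = j := by
    rw [← hcard, Nat.factorization_mul (orderOf_pos x).ne' (pow_ne_zero _ hq.ne_zero),
      Finsupp.add_apply, Nat.factorization_eq_zero_of_not_dvd hxq, zero_add,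
      Nat.Prime.factorization_pow hq, Finsupp.single_eq_same]
  have hQ : Nat.card (Q : Subgroup E) = q ^ j := by rw [Q.card_eq_multiplicity, hf]
  have hcomp : Subgroup.IsComplement' (Subgroup.zpowers x) (Q : Subgroup E) := by
    refine Subgroup.isComplement'_of_coprime ?_ ?_
    · rw [Nat.card_zpowers, hQ, hcard]
    · rw [Nat.card_zpowers, hQ]
      exact hcop.pow_right j
  have hdec : ∀ e : E, ∃ i : ℤ, ∃ w ∈ (Q : Subgroup E), x ^ i * w = e := fun e => by
    obtain ⟨⟨a, w⟩, h, -⟩ := Subgroup.isComplement'_def.1 hcomp |>.existsUnique e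
    obtain ⟨i, hi⟩ := Subgroup.mem_zpowers_iff.1 a.2
    exact ⟨i, w, w.2, by rw [hi]; exact h⟩
  have hpow : ∀ (i : ℤ) (w : E), w ∈ (Q : Subgroup E) →
      (x ^ i * w) ^ k = (x ^ k) ^ i * if q = p then 1 else w := fun i w hw => by
    have hc : Commute (x ^ i) w :=
      Commute.zpow_left (Subgroup.mem_center_iff.1 hx w).symm i
    rw [hc.mul_pow]
    congr 1
    · rw [← zpow_natCast, ← zpow_natCast, ← zpow_mul, ← zpow_mul, mul_comm]
    · obtain ⟨s, hs⟩ := (IsPGroup.iff_orderOf.1 Q.isPGroup') ⟨w, hw⟩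
      rw [Subgroup.orderOf_mk] at hs
      split_ifs with h
      · exact hkp w ⟨s, h ▸ hs⟩
      · exact hkr w fun hd => h (((Nat.prime_dvd_prime_iff_eq hp.out hq).1
          (hp.out.dvd_of_dvd_pow (hs ▸ hd))).symm)
  have hcen : ∀ (i : ℤ) (w : E), Commute (x ^ i) w := fun i w =>
    Commute.zpow_left (Subgroup.mem_center_iff.1 hx w).symm i
  refine ⟨MonoidHom.mk' (fun e => e ^ k) fun a b => ?_, fun e => rfl⟩
  obtain ⟨i, v, hv, rfl⟩ := hdec a
  obtain ⟨i', w, hw, rfl⟩ := hdec b
  have hmul : x ^ i * v * (x ^ i' * w) = x ^ (i + i') * (v * w) := by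
    rw [zpow_add, mul_assoc, ← mul_assoc v, ← (hcen i' v).eq]
    group
  show (x ^ i * v * (x ^ i' * w)) ^ k = (x ^ i * v) ^ k * (x ^ i' * w) ^ k
  rw [hmul, hpow _ _ (mul_mem hv hw), hpow _ _ hv, hpow _ _ hw]
  have hcen' : ∀ w : E, Commute ((x ^ k) ^ i') w := fun w => by
    rw [← zpow_natCast, ← zpow_mul]
    exact hcen _ w
  split_ifs
  · rw [mul_one, mul_one, mul_one, zpow_add]
  · rw [zpow_add, mul_assoc ((x ^ k) ^ i) v, ← mul_assoc v, ← (hcen' v).eq]
    group

/-- A character composed with the regular part is a generalized character. -/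
theorem isGeneralized_comp_regPow {χ : C → ℂ} (hχ : IsCharacter C χ) {k : ℕ}
    (hkp : ∀ e : C, (∃ j : ℕ, orderOf e = p ^ j) → e ^ k = 1)
    (hkr : ∀ e : C, ¬ p ∣ orderOf e → e ^ k = e) :
    IsGeneralizedCharacter C (fun g => χ (g ^ k)) := by
  have := Fintype.ofFinite C
  refine CfsgLib.Char.brauer_characterization (fun g h => ?_) fun E q hq hE => ?_
  · rw [conj_pow, CfsgLib.Char.isCharacter_isClassFunction hχ]
  · obtain ⟨f, hf⟩ := exists_hom_pow (p := p) hq hE (k := k)
      (fun e he => Subtype.ext (hkp e (by rwa [Subgroup.orderOf_coe])))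
      (fun e he => Subtype.ext (hkr e (by rwa [Subgroup.orderOf_coe])))
    have h := CfsgLib.Char.isGeneralized_of_isCharacter
      (CfsgLib.Char.isCharacter_comp (CfsgLib.Char.isCharacter_restrict hχ E) f)
    convert h using 1
    funext e
    simp [hf]

variable (hZc : Z ≤ Subgroup.center C) (hZp : IsPGroup p Z)
include hZc hZp

theorem regular_inj {g g' : C} (hg : ¬ p ∣ orderOf g) (hg' : ¬ p ∣ orderOf g')
    (h : (g : C ⧸ Z) = (g' : C ⧸ Z)) : g = g' := by
  have hz : g⁻¹ * g' ∈ Z := QuotientGroup.eq.1 h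
  obtain ⟨j, hj⟩ := (IsPGroup.iff_orderOf.1 hZp) ⟨_, hz⟩
  rw [Subgroup.orderOf_mk] at hj
  have hcc : Commute (g⁻¹ * g') g := (Subgroup.mem_center_iff.1 (hZc hz) g).symm
  have hc : Commute g⁻¹ g' := by
    have h2 : g⁻¹ * g' * g = g * (g⁻¹ * g') := hcc.eq
    rw [← mul_assoc, mul_inv_cancel, one_mul] at h2
    have h3 : g' * g = g * g' := by
      calc g' * g = g * (g⁻¹ * g' * g) := by group
        _ = g * g' := by rw [h2]
    exact Commute.inv_left h3.symm
  rw [← inv_mul_eq_one]
  refine orderOf_eq_one_iff.1 ?_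
  rw [hj]
  rcases Nat.eq_zero_or_pos j with rfl | hj0
  · rw [pow_zero]
  · exfalso
    have hl := hc.orderOf_mul_dvd_lcm
    rw [orderOf_inv, hj] at hl
    rcases (Nat.Prime.dvd_mul hp.out).1
      ((dvd_pow_self p hj0.ne').trans (hl.trans (Nat.lcm_dvd_mul _ _))) with h' | h'
    · exact hg h'
    · exact hg' h'

theorem regular_lift {x : C ⧸ Z} (hx : ¬ p ∣ orderOf x) :
    ∃ g : C, ¬ p ∣ orderOf g ∧ (g : C ⧸ Z) = x := by
  obtain ⟨g, rfl⟩ := QuotientGroup.mk'_surjective Z x
  obtain ⟨u, y, huy, hc, ⟨j, hj⟩, hy⟩ := exists_isPPart (p := p) hp.out g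
  refine ⟨y, hy, ?_⟩
  have hu : (u : C ⧸ Z) = 1 := by
    rw [← orderOf_eq_one_iff]
    have h1 : orderOf (u : C ⧸ Z) ∣ p ^ j := hj ▸ orderOf_map_dvd (QuotientGroup.mk' Z) u
    obtain ⟨i, -, hi⟩ := (Nat.dvd_prime_pow hp.out).1 h1
    rcases Nat.eq_zero_or_pos i with rfl | hi0
    · rw [hi, pow_zero]
    · exfalso
      apply hx
      have hc' : Commute (u : C ⧸ Z) (y : C ⧸ Z) := hc.map (QuotientGroup.mk' Z)
      have hco : Nat.Coprime (orderOf (u : C ⧸ Z)) (orderOf (y : C ⧸ Z)) := by
        rw [hi]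
        exact Nat.Coprime.pow_left i (hp.out.coprime_iff_not_dvd.2 (regular_mk hy))
      rw [← huy, map_mul]
      show p ∣ orderOf ((u : C ⧸ Z) * (y : C ⧸ Z))
      rw [hc'.orderOf_mul_eq_mul_orderOf_of_coprime hco, hi]
      exact Dvd.dvd.mul_right (dvd_pow_self p hi0.ne') _
  show ((y : C) : C ⧸ Z) = ((g : C) : C ⧸ Z)
  rw [← huy, QuotientGroup.mk_mul, hu, one_mul]

theorem card_centralizer_mk {g : C} (hg : ¬ p ∣ orderOf g) :
    (Subgroup.centralizer ({(g : C ⧸ Z)} : Set (C ⧸ Z))).index =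
      (Subgroup.centralizer ({g} : Set C)).index := by
  have h : (Subgroup.centralizer ({(g : C ⧸ Z)} : Set (C ⧸ Z))).comap (QuotientGroup.mk' Z) =
      Subgroup.centralizer ({g} : Set C) := by
    ext h
    rw [Subgroup.mem_comap, Subgroup.mem_centralizer_singleton_iff,
      Subgroup.mem_centralizer_singleton_iff]
    constructor
    · intro hh
      have e : ((h * g * h⁻¹ : C) : C ⧸ Z) = (g : C ⧸ Z) := by
        rw [QuotientGroup.mk_mul, QuotientGroup.mk_mul, QuotientGroup.mk_inv]
        exact mul_inv_eq_iff_eq_mul.2 hh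
      have ho : ¬ p ∣ orderOf (h * g * h⁻¹) := by
        rwa [show orderOf (h * g * h⁻¹) = orderOf g from
          orderOf_injective (MulAut.conj h).toMonoidHom (MulAut.conj h).injective g]
      exact mul_inv_eq_iff_eq_mul.1 (regular_inj hZc hZp ho hg e)
    · intro hh
      exact congrArg (QuotientGroup.mk' Z) hh
  rw [← h, Subgroup.index_comap_of_surjective _ (QuotientGroup.mk'_surjective Z)]

variable [Fintype C] [Fintype (C ⧸ Z)]

theorem sum_regular (f : C ⧸ Z → ℂ) :
    ∑ g : C, regInd p g * f (g : C ⧸ Z) = ∑ x : C ⧸ Z, regInd p x * f x := by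
  classical
  simp only [regInd, ite_mul, zero_mul, one_mul]
  rw [Finset.sum_ite, Finset.sum_ite, Finset.sum_const_zero, Finset.sum_const_zero, zero_add,
    zero_add]
  refine Finset.sum_bij (fun g _ => (g : C ⧸ Z)) (fun g hg => ?_) (fun g hg g' hg' h => ?_)
    (fun x hx => ?_) (fun g _ => rfl)
  · rw [Finset.mem_filter] at hg ⊢
    exact ⟨Finset.mem_univ _, regular_mk hg.2⟩
  · exact regular_inj hZc hZp (Finset.mem_filter.1 hg).2 (Finset.mem_filter.1 hg').2 h
  · obtain ⟨g, hg, rfl⟩ := regular_lift hZc hZp (Finset.mem_filter.1 hx).2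
    exact ⟨g, Finset.mem_filter.2 ⟨Finset.mem_univ _, hg⟩, rfl⟩

omit hZc [Fintype C] [Fintype (C ⧸ Z)] in
theorem factorization_card :
    (Nat.card C).factorization p =
      (Nat.card (C ⧸ Z)).factorization p + (Nat.card Z).factorization p := by
  rw [Subgroup.card_eq_card_quotient_mul_card_subgroup Z,
    Nat.factorization_mul Nat.card_pos.ne' Nat.card_pos.ne', Finsupp.add_apply]

theorem classInner_infl (η η' : IrrCharacter (C ⧸ Z)) :
    classInner (fun g => regInd p g * (infl Z η : C → ℂ) g) (infl Z η' : C → ℂ) =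
      (Nat.card Z : ℂ)⁻¹ *
        classInner (fun x => regInd p x * (η : C ⧸ Z → ℂ) x) (η' : C ⧸ Z → ℂ) := by
  rw [CfsgLib.Char.classInner_def, CfsgLib.Char.classInner_def]
  simp only [infl_apply, mul_assoc]
  rw [sum_regular hZc hZp (fun x => (η : C ⧸ Z → ℂ) x * conj ((η' : C ⧸ Z → ℂ) x)),
    Subgroup.card_eq_card_quotient_mul_card_subgroup Z, Nat.cast_mul, mul_inv]
  ring

theorem regEntry_infl (η η' : IrrCharacter (C ⧸ Z)) :
    regEntry p (infl Z η) (infl Z η') = regEntry p η η' := by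
  have h := classInner_infl hZc hZp η η'
  obtain ⟨j, hj⟩ := hZp.exists_card_eq
  rw [CfsgLib.BlockB.classInner_regInd_eq_regEntry, CfsgLib.BlockB.classInner_regInd_eq_regEntry,
    factorization_card (p := p) hZp, hj, Nat.Prime.factorization_pow hp.out,
    Finsupp.single_eq_same, pow_add] at h
  have hp0 : (p : ℂ) ≠ 0 := Nat.cast_ne_zero.2 hp.out.ne_zero
  push_cast at h
  field_simp at h
  exact_mod_cast h

variable {M : Ideal AlgInt} [M.IsPrime] (hM : IsPModular p M)
include hM

/-- A block of the quotient from inflation. -/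
theorem sameBlock_of_infl {η η' : IrrCharacter (C ⧸ Z)}
    (h : SameBlock M (infl Z η : C → ℂ) (infl Z η' : C → ℂ)) :
    SameBlock M (η : C ⧸ Z → ℂ) (η' : C ⧸ Z → ℂ) := by
  classical
  have : Finite (ConjClasses (C ⧸ Z)) :=
    Finite.of_surjective ConjClasses.mk ConjClasses.mk_surjective
  have := Fintype.ofFinite (ConjClasses (C ⧸ Z))
  set B₁ := blockOf M (η : C ⧸ Z → ℂ) with hB₁
  have hB := isPBlock_blockOf (M := M) η
  have hl : lam M η (blkIdem M B₁) = lam M η' (blkIdem M B₁) := by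
    rw [algHom_eq_sum_classes (lam M η), algHom_eq_sum_classes (lam M η')]
    refine Finset.sum_congr rfl fun K _ => ?_
    by_cases hK : p ∣ orderOf K.out
    · rw [blkIdem_coeff_eq_zero_of_singular hM hB hK, zero_mul, zero_mul]
    · obtain ⟨g, hg, hgK⟩ := regular_lift hZc hZp hK
      congr 1
      have e : ∀ φ : IrrCharacter (C ⧸ Z), centralChar (φ : C ⧸ Z → ℂ) K.out =
          centralChar (infl Z φ : C → ℂ) g := fun φ => by
        simp only [centralChar, infl_apply, QuotientGroup.mk_one, ← hgK,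
          card_centralizer_mk hZc hZp hg]
      rw [lam_classSumZ, lam_classSumZ, e, e, ← lam_classSumZ, ← lam_classSumZ,
        lam_eq_of_sameBlock h]
  rw [lam_blkIdem hM hB, lam_blkIdem hM hB, if_pos (mem_blockOf_self η)] at hl
  split_ifs at hl with hmem
  · exact hmem
  · exact absurd hl one_ne_zero

/-- The regular restriction of a member is an integral combination of inflated members. -/
theorem exists_comb [Fintype (IrrCharacter (C ⧸ Z))] {b : Set (IrrCharacter C)}
    (hb : IsPBlock M b) {θ : IrrCharacter C} (hθ : θ ∈ b) :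
    ∃ n : IrrCharacter (C ⧸ Z) → ℤ, (∀ η, infl Z η ∉ b → n η = 0) ∧
      ∀ g : C, regInd p g * (θ : C → ℂ) g =
        ∑ η, (n η : ℂ) * (regInd p g * (infl Z η : C → ℂ) g) := by
  classical
  have hpp := hp.out
  have := Fintype.ofFinite (IrrCharacter C)
  set m := ordCompl[p] (Nat.card C) with hm
  set a := (Nat.card C).factorization p with ha
  have hcop : (p ^ a).Coprime m :=
    Nat.Coprime.pow_left a (Nat.coprime_ordCompl hpp Nat.card_pos.ne')
  obtain ⟨k, hk0, hk1⟩ := Nat.chineseRemainder hcop 0 1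
  have hkp : ∀ e : C, (∃ j : ℕ, orderOf e = p ^ j) → e ^ k = 1 := by
    rintro e ⟨j, hj⟩
    rw [← orderOf_dvd_iff_pow_eq_one, hj]
    refine dvd_trans (pow_dvd_pow p ?_) (Nat.modEq_zero_iff_dvd.1 hk0)
    exact (hpp.pow_dvd_iff_le_factorization Nat.card_pos.ne').1 (hj ▸ orderOf_dvd_natCard e)
  have hkr : ∀ e : C, ¬ p ∣ orderOf e → e ^ k = e := by
    intro e he
    have hd : orderOf e ∣ m := by
      refine ((hpp.coprime_iff_not_dvd.2 he).symm.pow_right a).dvd_of_dvd_mul_left (m := p ^ a) ?_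
      rw [hm, ha, Nat.ordProj_mul_ordCompl_eq_self]
      exact orderOf_dvd_natCard e
    conv_rhs => rw [← pow_one e]
    exact pow_eq_pow_iff_modEq.2 (hk1.of_dvd hd)
  have hgen := isGeneralized_comp_regPow (p := p) (CfsgLib.Char.irr_isCharacter θ.2) hkp hkr
  set F : C → ℂ := fun g => (θ : C → ℂ) (g ^ k) with hF
  have hconst : ∀ g h : C, (g : C ⧸ Z) = (h : C ⧸ Z) → F g = F h := by
    intro g h e
    obtain ⟨z, hz, rfl⟩ : ∃ z ∈ Z, g * z = h := ⟨g⁻¹ * h, QuotientGroup.eq.1 e, by group⟩
    obtain ⟨j, hj⟩ := (IsPGroup.iff_orderOf.1 hZp) ⟨z, hz⟩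
    rw [Subgroup.orderOf_mk] at hj
    have hc : Commute g z := Subgroup.mem_center_iff.1 (hZc hz) g
    show (θ : C → ℂ) (g ^ k) = (θ : C → ℂ) ((g * z) ^ k)
    rw [hc.mul_pow, hkp z ⟨j, hj⟩, mul_one]
  set Fb : C ⧸ Z → ℂ := fun x => F x.out with hFb
  have hFbg : ∀ g : C, Fb (g : C ⧸ Z) = F g := fun g => hconst _ _ (QuotientGroup.out_eq' _)
  have hcl : IsClassFunction (C ⧸ Z) Fb := by
    intro x y
    obtain ⟨g, rfl⟩ := QuotientGroup.mk'_surjective Z x
    obtain ⟨h, rfl⟩ := QuotientGroup.mk'_surjective Z y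
    simp only [QuotientGroup.mk'_apply, ← QuotientGroup.mk_inv, ← QuotientGroup.mk_mul, hFbg]
    exact CfsgLib.Char.isGeneralized_isClassFunction hgen g h
  have hint : ∀ η : IrrCharacter (C ⧸ Z), ∃ n : ℤ, classInner Fb (η : C ⧸ Z → ℂ) = n := by
    intro η
    obtain ⟨n, hn⟩ := CfsgLib.Char.classInner_isGeneralized_int hgen
      (CfsgLib.Char.isGeneralized_of_isCharacter (CfsgLib.Char.irr_isCharacter (infl Z η).2))
    refine ⟨n, ?_⟩
    rw [← hn, CfsgLib.Char.classInner_def, CfsgLib.Char.classInner_def]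
    have hsum : ∀ f : C ⧸ Z → ℂ,
        ∑ g : C, f (g : C ⧸ Z) = (Nat.card Z : ℂ) * ∑ x, f x := by
      intro f
      rw [← Finset.sum_fiberwise Finset.univ (fun g : C => (g : C ⧸ Z)), Finset.mul_sum]
      refine Finset.sum_congr rfl fun x _ => ?_
      rw [Finset.sum_congr rfl (fun g hg => congrArg f (Finset.mem_filter.1 hg).2),
        Finset.sum_const, nsmul_eq_mul]
      congr 2
      rw [← Nat.card_eq_finsetCard]
      obtain ⟨g₀, rfl⟩ := QuotientGroup.mk'_surjective Z x
      refine Nat.card_congr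
        { toFun := fun g => ⟨g₀⁻¹ * g.1, QuotientGroup.eq.1
            (Finset.mem_filter.1 g.2).2.symm⟩
          invFun := fun z => ⟨g₀ * z, Finset.mem_filter.2 ⟨Finset.mem_univ _,
            (QuotientGroup.eq.2 (by simp)).symm⟩⟩
          left_inv := fun g => Subtype.ext (mul_inv_cancel_left g₀ g.1)
          right_inv := fun z => Subtype.ext (inv_mul_cancel_left g₀ (z : C)) }
    have e : ∑ g : C, F g * conj ((infl Z η : C → ℂ) g) =
        (Nat.card Z : ℂ) * ∑ x, Fb x * conj ((η : C ⧸ Z → ℂ) x) := by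
      rw [← hsum]
      exact Finset.sum_congr rfl fun g _ => by rw [hFbg, infl_apply]
    rw [e, Subgroup.card_eq_card_quotient_mul_card_subgroup Z, Nat.cast_mul, mul_inv]
    have : (Nat.card Z : ℂ) ≠ 0 := Nat.cast_ne_zero.2 Nat.card_pos.ne'
    field_simp
  choose n hn using hint
  have hall : ∀ g : C, regInd p g * (θ : C → ℂ) g =
      ∑ η, (n η : ℂ) * (regInd p g * (infl Z η : C → ℂ) g) := by
    intro g
    by_cases hg : p ∣ orderOf g
    · simp [regInd, hg]
    · have h1 : (θ : C → ℂ) g = Fb (g : C ⧸ Z) := by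
        rw [hFbg, hF]
        simp only [hkr g hg]
      rw [h1, CfsgLib.Char.classFunction_apply_eq_sum hcl, Finset.mul_sum]
      refine Finset.sum_congr rfl fun η _ => ?_
      rw [hn, infl_apply]
      ring
  refine ⟨fun η => if infl Z η ∈ b then n η else 0, fun η h => if_neg h, fun g => ?_⟩
  rw [regInd_mul_eq_sum hM hb hθ g, finsum_mem_eq_finite_toFinset_sum _ b.toFinite]
  have h2 : ∀ ξ ∈ b.toFinite.toFinset,
      classInner (fun x => regInd p x * (θ : C → ℂ) x) (ξ : C → ℂ) =
        ∑ η, ((if infl Z η ∈ b then n η else 0 : ℤ) : ℂ) *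
          classInner (fun x => regInd p x * (infl Z η : C → ℂ) x) (ξ : C → ℂ) := by
    intro ξ hξ
    rw [show (fun x => regInd p x * (θ : C → ℂ) x) =
      ∑ η, (n η : ℂ) • (fun x => regInd p x * (infl Z η : C → ℂ) x) from funext fun x => by
        rw [hall x, Finset.sum_apply]; rfl, CfsgLib.Char.classInner_sum_left]
    refine Finset.sum_congr rfl fun η _ => ?_
    rw [CfsgLib.Char.classInner_smul_left]
    split_ifs with h
    · rfl
    · rw [Int.cast_zero, zero_mul, mul_eq_zero]
      right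
      have h0 := regPair_eq_zero hM hb (b.toFinite.mem_toFinset.1 hξ) h
      rw [CfsgLib.Char.classInner_def]
      rw [regPair_symm] at h0
      refine mul_eq_zero_of_right _ (Eq.trans ?_ h0)
      exact Finset.sum_congr rfl fun x _ => by rw [irr_conj_eq ξ.2 x]
  rw [Finset.sum_congr rfl fun (ξ : IrrCharacter C) hξ =>
    congrArg (fun t : ℂ => t * (ξ : C → ℂ) g) (h2 ξ hξ)]
  simp only [Finset.sum_mul]
  rw [Finset.sum_comm]
  refine Finset.sum_congr rfl fun η _ => ?_
  split_ifs with h
  · rw [regInd_mul_eq_sum hM hb h g, finsum_mem_eq_finite_toFinset_sum _ b.toFinite, Finset.mul_sum]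
    exact Finset.sum_congr rfl fun ξ _ => by ring
  · simp

/-- **The dominated block.** -/
theorem exists_dominated {b : Set (IrrCharacter C)} (hb : IsPBlock M b) :
    ∃ c : Set (IrrCharacter (C ⧸ Z)), IsPBlock M c ∧ (∀ η, η ∈ c ↔ infl Z η ∈ b) ∧
      blockRank p b = blockRank p c ∧
      blockDefect p c + (Nat.card Z).factorization p = blockDefect p b ∧
      sInf ((fun χ : IrrCharacter C => (charDegree (χ : C → ℂ)).factorization p) '' b) =
        sInf ((fun χ : IrrCharacter (C ⧸ Z) =>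
          (charDegree (χ : C ⧸ Z → ℂ)).factorization p) '' c) := by
  classical
  have := Fintype.ofFinite (IrrCharacter (C ⧸ Z))
  have hpp := hp.out
  obtain ⟨θ, hθ, hθ0⟩ := exists_height_zero hM hb
  obtain ⟨n, hn0, hn⟩ := exists_comb hZc hZp hM hb hθ
  have hex : ∃ η, infl Z η ∈ b := by
    by_contra h
    push Not at h
    have h1 := hn 1
    rw [Finset.sum_eq_zero (fun η _ => by rw [hn0 η (h η), Int.cast_zero, zero_mul]),
      regInd, if_neg (by simp [hpp.ne_one]), one_mul] at h1
    exact CfsgLib.Char.irr_apply_one_ne_zero θ.2 h1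
  obtain ⟨η₀, hη₀⟩ := hex
  -- the block of `η₀` is the whole preimage
  have hback : ∀ η, η ∈ blockOf M (η₀ : C ⧸ Z → ℂ) → infl Z η ∈ b := by
    intro η hη
    by_contra hne
    have hB := isPBlock_blockOf (M := M) η₀
    -- the members inflated into `b` are separated from the rest of the block
    have horth : ∀ φ ∈ {φ : IrrCharacter (C ⧸ Z) | infl Z φ ∈ b}, ∀ ψ ∉
        {φ : IrrCharacter (C ⧸ Z) | infl Z φ ∈ b},
        ∑ x : C ⧸ Z, (if p ∣ orderOf x then 0 else
          (φ : C ⧸ Z → ℂ) x * conj ((ψ : C ⧸ Z → ℂ) x)) = 0 := by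
      intro φ hφ ψ hψ
      have h0 := regPair_eq_zero hM hb hφ hψ
      rw [regPair] at h0
      refine Eq.trans ?_ h0
      rw [show ∑ x : C ⧸ Z, (if p ∣ orderOf x then 0 else
          (φ : C ⧸ Z → ℂ) x * conj ((ψ : C ⧸ Z → ℂ) x)) =
        ∑ x : C ⧸ Z, regInd p x * ((φ : C ⧸ Z → ℂ) x * conj ((ψ : C ⧸ Z → ℂ) x)) from
          Finset.sum_congr rfl fun x _ => by unfold regInd; split_ifs <;> simp,
        ← sum_regular hZc hZp]
      refine Finset.sum_congr rfl fun g _ => ?_
      rw [← irr_conj_eq (infl Z ψ).2 g, infl_apply, infl_apply]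
      ring
    exact hne (mem_of_integral_blockSum (blockCoeff_memLocalRing_of_orth hM horth)
      (χ := η₀) hη₀ hη)
  have hiff : ∀ η, η ∈ blockOf M (η₀ : C ⧸ Z → ℂ) ↔ infl Z η ∈ b := fun η =>
    ⟨hback η, fun h => sameBlock_of_infl hZc hZp hM (sameBlock_of_mem hb hη₀ h)⟩
  refine ⟨blockOf M (η₀ : C ⧸ Z → ℂ), isPBlock_blockOf η₀, hiff, ?_, ?_⟩
  · set c := blockOf M (η₀ : C ⧸ Z → ℂ) with hc
    -- the rank
    let L : (C ⧸ Z → ℂ) →ₗ[ℂ] (C → ℂ) :=
      { toFun := fun f g => regInd p g * f (g : C ⧸ Z)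
        map_add' := fun f f' => funext fun g => by simp [mul_add]
        map_smul' := fun a f => funext fun g => by simp [mul_left_comm] }
    have hLi : ∀ η : IrrCharacter (C ⧸ Z),
        L (pRegularPart p (η : C ⧸ Z → ℂ)) = pRegularPart p (infl Z η : C → ℂ) := fun η => by
      rw [CfsgLib.BlockB.pRegularPart_eq_regInd_mul, CfsgLib.BlockB.pRegularPart_eq_regInd_mul]
      funext g
      show regInd p g * (regInd p (g : C ⧸ Z) * _) = _
      unfold regInd
      by_cases hg : p ∣ orderOf g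
      · simp [hg]
      · simp [hg, regular_mk (Z := Z) hg, infl_apply]
    set V := Submodule.span ℂ
      ((fun χ : IrrCharacter (C ⧸ Z) => pRegularPart p (χ : C ⧸ Z → ℂ)) '' c) with hV
    have hmap : V.map L =
        Submodule.span ℂ ((fun χ : IrrCharacter C => pRegularPart p (χ : C → ℂ)) '' b) := by
      rw [hV, Submodule.map_span]
      refine le_antisymm (Submodule.span_le.2 ?_) (Submodule.span_le.2 ?_)
      · rintro _ ⟨_, ⟨η, hη, rfl⟩, rfl⟩
        rw [hLi]
        exact Submodule.subset_span ⟨infl Z η, (hiff η).1 hη, rfl⟩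
      · rintro _ ⟨φ, hφ, rfl⟩
        obtain ⟨n', hn0', hn'⟩ := exists_comb hZc hZp hM hb hφ
        have e : pRegularPart p (φ : C → ℂ) =
            ∑ η : IrrCharacter (C ⧸ Z), (n' η : ℂ) • L (pRegularPart p (η : C ⧸ Z → ℂ)) := by
          rw [CfsgLib.BlockB.pRegularPart_eq_regInd_mul]
          funext g
          rw [hn' g, Finset.sum_apply]
          refine Finset.sum_congr rfl fun η _ => ?_
          rw [hLi, CfsgLib.BlockB.pRegularPart_eq_regInd_mul]
          rfl
        show pRegularPart p (φ : C → ℂ) ∈ _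
        rw [e]
        refine Submodule.sum_mem _ fun η _ => ?_
        by_cases hη : infl Z η ∈ b
        · exact Submodule.smul_mem _ _
            (Submodule.subset_span ⟨_, ⟨η, (hiff η).2 hη, rfl⟩, rfl⟩)
        · simp [hn0' η hη]
    have hsupp : ∀ v ∈ V, ∀ x : C ⧸ Z, p ∣ orderOf x → v x = 0 := by
      intro v hv
      induction hv using Submodule.span_induction with
      | mem w hw =>
        obtain ⟨η, -, rfl⟩ := hw
        intro x hx
        simp only [CfsgLib.BlockB.pRegularPart_eq_regInd_mul, regInd, if_pos hx, zero_mul]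
      | zero => exact fun _ _ => rfl
      | add a a' _ _ ha ha' => exact fun x hx => by simp [ha x hx, ha' x hx]
      | smul r a _ ha => exact fun x hx => by simp [ha x hx]
    have hinj : ∀ v ∈ V, L v = 0 → v = 0 := by
      intro v hv hLv
      funext x
      by_cases hx : p ∣ orderOf x
      · exact hsupp v hv x hx
      · obtain ⟨g, hg, rfl⟩ := regular_lift hZc hZp hx
        have := congrFun hLv g
        simpa [L, regInd, hg] using this
    unfold blockRank
    rw [← hmap, ← LinearMap.range_domRestrict]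
    exact LinearMap.finrank_range_of_inj ((injective_iff_map_eq_zero _).2 fun v hv =>
      Subtype.ext (hinj v v.2 hv))
  · set c := blockOf M (η₀ : C ⧸ Z → ℂ) with hc
    have hcB : IsPBlock M c := isPBlock_blockOf η₀
    set s := sInf ((fun χ : IrrCharacter C => (charDegree (χ : C → ℂ)).factorization p) '' b)
    set t := sInf ((fun χ : IrrCharacter (C ⧸ Z) =>
      (charDegree (χ : C ⧸ Z → ℂ)).factorization p) '' c)
    have hst : s = t := by
      refine le_antisymm (le_csInf ⟨_, η₀, (hiff η₀).2 hη₀, rfl⟩ ?_) ?_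
      · rintro _ ⟨η, hη, rfl⟩
        exact Nat.sInf_le ⟨infl Z η, (hiff η).1 hη, rfl⟩
      · have hsθ : (charDegree (θ : C → ℂ)).factorization p = s :=
          le_antisymm (Nat.sub_eq_zero_iff_le.1 hθ0) (Nat.sInf_le ⟨θ, hθ, rfl⟩)
        have h1 := hn 1
        simp only [regInd, orderOf_one, Nat.dvd_one, hpp.ne_one, if_false, one_mul] at h1
        have h2 : (charDegree (θ : C → ℂ) : ℤ) =
            ∑ η : IrrCharacter (C ⧸ Z), n η * (charDegree (η : C ⧸ Z → ℂ) : ℤ) := by
          have e : ∀ {H : Type u} [Group H] (φ : IrrCharacter H) [Finite H],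
              (φ : H → ℂ) 1 = (charDegree (φ : H → ℂ) : ℂ) := fun φ =>
            (charDegree_cast (CfsgLib.Char.irr_isCharacter φ.2)).symm
          rw [e θ] at h1
          simp only [e, infl_apply, QuotientGroup.mk_one] at h1
          exact_mod_cast h1
        have hdvd : ((p ^ t : ℕ) : ℤ) ∣ (charDegree (θ : C → ℂ) : ℤ) := by
          rw [h2]
          refine Finset.dvd_sum fun η _ => ?_
          by_cases hη : infl Z η ∈ b
          · refine Dvd.dvd.mul_left (Int.natCast_dvd_natCast.2 ?_) _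
            exact (hpp.pow_dvd_iff_le_factorization (charDegree_ne_zero η.2)).2
              (Nat.sInf_le ⟨η, (hiff η).2 hη, rfl⟩)
          · simp [hn0 η hη]
        rw [← hsθ]
        exact (hpp.pow_dvd_iff_le_factorization (charDegree_ne_zero θ.2)).1
          (Int.natCast_dvd_natCast.1 hdvd)
    have h3 : s + blockDefect p b = (Nat.card C).factorization p :=
      sInf_degree_add_blockDefect hM hb
    have h4 : t + blockDefect p c = (Nat.card (C ⧸ Z)).factorization p :=
      sInf_degree_add_blockDefect hM hcB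
    have h5 := factorization_card (p := p) (Z := Z) hZp
    exact ⟨by omega, hst⟩

end CfsgLib.BlockA.Dominated
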