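import Mathlib

/-!
A local symmetric algebra with centre of dimension at most four is commutative.
-/

set_option autoImplicit false
set_option linter.unusedSectionVars false
set_option maxHeartbeats 1000000

namespace CfsgLib.BlockA.LocalCentre

open Module Submodule

variable {k A : Type*} [Field k] [Ring A] [Algebra k A] [FiniteDimensional k A]
  (ε : A →ₐ[k] k) (hnil : ∀ x, ε x = 0 → IsNilpotent x)

/-- The augmentation ideal. -/
def aug : Submodule k A := LinearMap.ker ε.toLinearMap

theorem mem_aug {x : A} : x ∈ aug ε ↔ ε x = 0 := LinearMap.mem_ker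

theorem sub_mem_aug (x : A) : x - algebraMap k A (ε x) ∈ aug ε := by
  rw [mem_aug, map_sub, AlgHom.commutes, Algebra.algebraMap_self, RingHom.id_apply, sub_self]

theorem pow_succ_le (n : ℕ) : aug ε ^ (n + 2) ≤ aug ε ^ (n + 1) := by
  have h1 : aug ε * aug ε ≤ aug ε := Submodule.mul_le.2 fun a ha b _ => by
    rw [mem_aug] at ha ⊢
    rw [map_mul, ha, zero_mul]
  calc aug ε ^ (n + 2) = aug ε ^ n * (aug ε * aug ε) := by rw [pow_add, pow_two]
    _ ≤ aug ε ^ n * aug ε := mul_le_mul' le_rfl h1
    _ = _ := (pow_succ _ _).symm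

theorem pow_le_pow {m n : ℕ} (hm : 1 ≤ m) (h : m ≤ n) : aug ε ^ n ≤ aug ε ^ m := by
  induction n, h using Nat.le_induction with
  | base => exact le_rfl
  | succ n hn ih =>
    obtain ⟨j, rfl⟩ := Nat.exists_eq_add_of_le (hm.trans hn)
    rw [add_comm 1 j] at ih ⊢
    exact (pow_succ_le ε j).trans ih

include hnil

theorem exists_pow_eq_bot : ∃ N : ℕ, aug ε ^ N = ⊥ := by
  have : IsArtinianRing A := IsArtinianRing.of_finite k A
  have hle : aug ε ≤ (Ring.jacobson A).restrictScalars k := by
    intro x hx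
    rw [Submodule.restrictScalars_mem]
    rw [← Ideal.jacobson_bot, Ideal.mem_jacobson_iff]
    intro y
    have h1 : IsNilpotent (y * x) := hnil _ (by
      rw [map_mul, (mem_aug ε).1 hx, mul_zero])
    obtain ⟨u, hu⟩ := h1.isUnit_one_add
    refine ⟨(↑u⁻¹ : A), ?_⟩
    rw [mul_assoc, ← mul_add_one, add_comm (y * x), ← hu, Units.inv_mul, sub_self]
    exact Submodule.zero_mem _
  obtain ⟨N, hN⟩ := IsSemiprimaryRing.isNilpotent (R := A)
  refine ⟨N + 1, le_bot_iff.1 ?_⟩
  have key : ∀ n : ℕ, aug ε ^ (n + 1) ≤ (Ring.jacobson A ^ (n + 1)).restrictScalars k := by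
    intro n
    induction n with
    | zero => simpa [Submodule.pow_one] using hle
    | succ n ih =>
      rw [pow_succ, Submodule.mul_le]
      intro a ha b hb
      rw [Submodule.restrictScalars_mem]
      show a * b ∈ Ring.jacobson A ^ (n + 1 + 1)
      rw [Submodule.pow_succ]
      exact Submodule.mul_mem_mul (ih ha) (hle hb)
  refine (key N).trans ?_
  intro x hx
  rw [Submodule.restrictScalars_mem, Submodule.pow_succ, hN] at hx
  simpa using hx

variable (t : A →ₗ[k] k) (hsymm : ∀ x y, t (x * y) = t (y * x))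
  (hnd : ∀ x, (∀ y, t (x * y) = 0) → x = 0)
include hsymm hnd

/-- **Centre of dimension at most four.** -/
theorem comm_of_center_le_four (hZ : finrank k (Subalgebra.center k A).toSubmodule ≤ 4) :
    ∀ x y : A, x * y = y * x := by
  classical
  obtain ⟨N, hN⟩ := exists_pow_eq_bot ε hnil
  set J := aug ε with hJ
  set W : Submodule k A := span k (Set.range fun q : A × A => q.1 * q.2 - q.2 * q.1) with hW
  have hWmem : ∀ a b : A, a * b - b * a ∈ W := fun a b => subset_span ⟨(a, b), rfl⟩
  have hWJ : W ≤ J ^ 2 := by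
    rw [hW, span_le]
    rintro _ ⟨⟨a, b⟩, rfl⟩
    have h : a * b - b * a = (a - algebraMap k A (ε a)) * (b - algebraMap k A (ε b)) -
        (b - algebraMap k A (ε b)) * (a - algebraMap k A (ε a)) := by
      simp only [mul_sub, sub_mul, Algebra.algebraMap_eq_smul_one, smul_mul_assoc, mul_smul_comm,
        one_mul, mul_one, smul_smul]
      module
    show a * b - b * a ∈ _
    rw [h, pow_two]
    exact sub_mem (mul_mem_mul (sub_mem_aug ε a) (sub_mem_aug ε b))
      (mul_mem_mul (sub_mem_aug ε b) (sub_mem_aug ε a))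
  by_cases hJ2 : J ^ 2 = ⊥
  · intro x y
    have h := hWJ (hWmem x y)
    rw [hJ2, mem_bot, sub_eq_zero] at h
    exact h
  have htW : ∀ w ∈ W, t w = 0 := by
    intro w hw
    induction hw using Submodule.span_induction with
    | mem w hw => obtain ⟨⟨a, b⟩, rfl⟩ := hw; rw [map_sub, hsymm a b, sub_self]
    | zero => simp
    | add a b _ _ ha hb => rw [map_add, ha, hb, add_zero]
    | smul r a _ ha => rw [map_smul, ha, smul_zero]
  -- the dimension count
  have hdim : finrank k A ≤ finrank k W + 4 := by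
    let Φ : A →ₗ[k] Module.Dual k W := ((LinearMap.mul k A).compr₂ t).compl₂ W.subtype
    have h1 := LinearMap.finrank_range_add_finrank_ker Φ
    have h2 : finrank k (LinearMap.range Φ) ≤ finrank k W :=
      ((LinearMap.range Φ).finrank_le).trans Subspace.dual_finrank_eq.le
    have h3 : LinearMap.ker Φ ≤ (Subalgebra.center k A).toSubmodule := by
      intro a ha
      rw [Subalgebra.mem_toSubmodule, Subalgebra.mem_center_iff]
      intro b
      refine (sub_eq_zero.1 (hnd _ fun y => ?_)).symm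
      have h : t (a * (b * y - y * b)) = 0 :=
        LinearMap.congr_fun (LinearMap.mem_ker.1 ha) ⟨_, hWmem b y⟩
      rw [sub_mul, map_sub, mul_assoc b, hsymm b, ← h]
      simp only [mul_sub, map_sub, mul_assoc]
    have h4 := Submodule.finrank_mono h3
    omega
  have hJA : finrank k A ≤ finrank k J + 1 := by
    have h1 := LinearMap.finrank_range_add_finrank_ker ε.toLinearMap
    have h2 := (LinearMap.range ε.toLinearMap).finrank_le
    rw [finrank_self] at h2
    show _ ≤ finrank k (LinearMap.ker ε.toLinearMap) + 1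
    omega
  have hone : finrank k J + 1 ≤ finrank k A := by
    refine Submodule.finrank_lt (fun h => ?_)
    have h1 : (1 : A) ∈ J := h ▸ Submodule.mem_top
    rw [hJ, mem_aug, map_one] at h1
    exact one_ne_zero h1
  -- the symmetrizing form does not vanish on the square
  have hWlt : W < J ^ 2 := by
    refine lt_of_le_of_ne hWJ fun h => hJ2 ?_
    rw [eq_bot_iff]
    intro x hx
    rw [mem_bot]
    refine hnd x fun y => htW _ (h ▸ ?_)
    rw [pow_two] at hx ⊢
    induction hx using Submodule.mul_induction_on' with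
    | mem_mul_mem a ha b hb =>
      rw [mul_assoc]
      refine mul_mem_mul ha ?_
      rw [mem_aug] at hb ⊢
      rw [map_mul, hb, zero_mul]
    | add a _ b _ ha hb => rw [add_mul]; exact add_mem ha hb
  have hW1 := Submodule.finrank_lt_finrank_of_lt hWlt
  by_cases hJ3 : J ^ 3 = ⊥
  · -- the commutators annihilate the augmentation ideal
    intro x y
    have hw : x * y - y * x = 0 := hnd _ fun z => by
      have h0 : (x * y - y * x) * (z - algebraMap k A (ε z)) = 0 := by
        have := mul_mem_mul (hWJ (hWmem x y)) (sub_mem_aug ε z)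
        rw [← hJ, ← pow_succ, hJ3, mem_bot] at this
        exact this
      rw [mul_sub, sub_eq_zero] at h0
      rw [h0, Algebra.algebraMap_eq_smul_one, mul_smul_comm, mul_one, map_smul,
        htW _ (hWmem x y), smul_zero]
    exact sub_eq_zero.1 hw
  -- the last power
  obtain ⟨n, hn, hn', hn3⟩ : ∃ n, J ^ n ≠ ⊥ ∧ J ^ (n + 1) = ⊥ ∧ 3 ≤ n := by
    have hex : ∃ n, J ^ (n + 1) = ⊥ := ⟨N, by rw [pow_succ, hN, Submodule.bot_mul]⟩
    refine ⟨Nat.find hex, ?_, Nat.find_spec hex, ?_⟩
    · intro h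
      rcases Nat.eq_zero_or_pos (Nat.find hex) with h0 | h0
      · have := Nat.find_spec hex
        rw [h0, zero_add, pow_one] at this
        exact hJ2 (by rw [pow_two, this, Submodule.bot_mul])
      · exact Nat.find_min hex (Nat.sub_lt h0 one_pos) (by rwa [Nat.sub_add_cancel (show 1 ≤ Nat.find hex from h0)])
    · by_contra h
      push Not at h
      refine hJ3 (le_bot_iff.1 ?_)
      rw [← Nat.find_spec hex]
      exact pow_le_pow ε (by omega) (by omega)
  have hlast : ¬ J ^ n ≤ W := by
    intro hle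
    refine hn (eq_bot_iff.2 fun x hx => (mem_bot k).2 (hnd x fun y => ?_))
    have h0 : x * (y - algebraMap k A (ε y)) = 0 := by
      have := mul_mem_mul hx (sub_mem_aug ε y)
      rw [← hJ, ← pow_succ, hn', mem_bot] at this
      exact this
    rw [mul_sub, sub_eq_zero] at h0
    rw [h0, Algebra.algebraMap_eq_smul_one, mul_smul_comm, mul_one, map_smul, htW _ (hle hx),
      smul_zero]
  have h23 : J ^ 3 ≤ J ^ 2 := pow_succ_le ε 1
  have hn23 : J ^ n ≤ J ^ 3 := pow_le_pow ε (by omega) hn3
  have hJ12 : J ^ 2 ≤ J := by simpa using pow_succ_le ε 0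
  have hJJ : finrank k (J ^ 2 : Submodule k A) ≤ finrank k J := Submodule.finrank_mono hJ12
  -- two generators
  obtain ⟨x, hx, y, hy, hgen⟩ : ∃ x ∈ J, ∃ y ∈ J, J ≤ span k {x, y} ⊔ J ^ 2 := by
    by_contra hno
    push Not at hno
    obtain ⟨x, hx, hx2⟩ := SetLike.not_le_iff_exists.1 fun h : J ≤ J ^ 2 =>
      hno 0 (zero_mem _) 0 (zero_mem _) (h.trans le_sup_right)
    obtain ⟨y, hy, hy2⟩ := SetLike.not_le_iff_exists.1 fun h : J ≤ span k {x} ⊔ J ^ 2 =>
      hno x hx 0 (zero_mem _) (h.trans (sup_le_sup_right (span_mono (by simp)) _))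
    obtain ⟨z, hz, hz2⟩ := SetLike.not_le_iff_exists.1 (hno x hx y hy)
    have e1 : J ^ 2 < span k {x} ⊔ J ^ 2 := lt_of_le_of_ne le_sup_right fun h => hx2 (by
      rw [h]; exact mem_sup_left (subset_span rfl))
    have e2 : span k {x} ⊔ J ^ 2 < span k {x, y} ⊔ J ^ 2 :=
      lt_of_le_of_ne (sup_le_sup_right (span_mono (by simp)) _) fun h => hy2 (by
        rw [h]; exact mem_sup_left (subset_span (by simp)))
    have e3 : span k {x, y} ⊔ J ^ 2 < J := lt_of_le_of_ne (sup_le (span_le.2 (by
        simp [Set.insert_subset_iff, hx, hy])) hJ12) fun h => hz2 (by rw [h]; exact hz)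
    have := Submodule.finrank_lt_finrank_of_lt e1
    have := Submodule.finrank_lt_finrank_of_lt e2
    have := Submodule.finrank_lt_finrank_of_lt e3
    omega
  by_cases hgen1 : ∃ x ∈ J, J ≤ span k {x} ⊔ J ^ 2
  · -- one generator
    obtain ⟨x, hx, hgen1⟩ := hgen1
    set P := (Algebra.adjoin k {x}).toSubmodule with hP
    have hxP : x ∈ P := Algebra.subset_adjoin rfl
    have hstep : ∀ i, J ≤ P ⊔ J ^ (i + 2) := by
      intro i
      induction i with
      | zero => exact hgen1.trans (sup_le_sup_right (span_le.2 (by simpa using hxP)) _)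
      | succ i ih =>
        refine hgen1.trans (sup_le ((span_le.2 (by simpa using hxP)).trans le_sup_left) ?_)
        rw [pow_two, Submodule.mul_le]
        intro a ha b hb
        obtain ⟨a₁, ha₁, a₂, ha₂, rfl⟩ := mem_sup.1 (ih ha)
        obtain ⟨b₁, hb₁, b₂, hb₂, rfl⟩ := mem_sup.1 (ih hb)
        rw [add_mul, mul_add a₁, add_assoc (a₁ * b₁)]
        refine Submodule.add_mem_sup (show a₁ * b₁ ∈ P from (Algebra.adjoin k {x}).mul_mem ha₁ hb₁) (add_mem ?_ ?_)
        · have ha₁J : a₁ ∈ J := by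
            have h2 : a₂ ∈ J := by
              have h := pow_le_pow ε le_rfl (show 1 ≤ i + 2 by omega) ha₂
              rwa [pow_one] at h
            have h := sub_mem ha h2
            simpa using h
          rw [show i + 1 + 2 = 1 + (i + 2) by omega, pow_add, pow_one]
          exact mul_mem_mul ha₁J hb₂
        · rw [show i + 1 + 2 = (i + 2) + 1 by omega, pow_succ]
          exact mul_mem_mul ha₂ hb
    have hJP : J ≤ P := by
      refine (hstep N).trans (sup_le le_rfl ?_)
      rw [pow_add, hN, Submodule.bot_mul]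
      exact bot_le
    have hall : ∀ a : A, a ∈ Algebra.adjoin k {x} := fun a => by
      rw [show a = (a - algebraMap k A (ε a)) + algebraMap k A (ε a) by abel]
      exact add_mem (hJP (sub_mem_aug ε a)) (Subalgebra.algebraMap_mem _ _)
    intro a b
    exact (Algebra.commute_of_mem_adjoin_singleton_of_commute (hall b)
      (Algebra.commute_of_mem_adjoin_self (hall a)).symm).eq
  -- two generators are impossible
  exfalso
  push Not at hgen1
  have hdimJ : finrank k (J ^ 2 : Submodule k A) + 2 ≤ finrank k J := by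
    obtain ⟨a, ha, ha2⟩ := SetLike.not_le_iff_exists.1 fun h : J ≤ J ^ 2 =>
      hgen1 0 (zero_mem _) (h.trans le_sup_right)
    obtain ⟨b, hb, hb2⟩ := SetLike.not_le_iff_exists.1 (hgen1 a ha)
    have e1 : J ^ 2 < span k {a} ⊔ J ^ 2 := lt_of_le_of_ne le_sup_right fun h => ha2 (by
      rw [h]; exact mem_sup_left (subset_span rfl))
    have e2 : span k {a} ⊔ J ^ 2 < J := lt_of_le_of_ne (sup_le (span_le.2 (by simpa using ha)) hJ12)
      fun h => hb2 (by rw [h]; exact hb)
    have := Submodule.finrank_lt_finrank_of_lt e1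
    have := Submodule.finrank_lt_finrank_of_lt e2
    omega
  have hsq : J ^ 2 = W ⊔ J ^ 3 := by
    refine (Submodule.eq_of_le_of_finrank_le (sup_le hWJ h23) ?_).symm
    have h1 : W < W ⊔ J ^ 3 := lt_of_le_of_ne le_sup_left fun h =>
      hlast (hn23.trans (le_sup_right.trans h.ge))
    have := Submodule.finrank_lt_finrank_of_lt h1
    omega
  set c := x * y - y * x with hc
  have hcJ : c ∈ J ^ 2 := hWJ (hWmem x y)
  -- the commutators
  have hWc : W ≤ span k {c} ⊔ J ^ 3 := by
    have hdec : ∀ a : A, ∃ α β : k, ∃ u ∈ J ^ 2,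
        a = algebraMap k A (ε a) + (α • x + β • y) + u := by
      intro a
      obtain ⟨v, hv, u, hu, h⟩ := mem_sup.1 (hgen (sub_mem_aug ε a))
      obtain ⟨α, β, rfl⟩ := mem_span_pair.1 hv
      exact ⟨α, β, u, hu, by rw [add_assoc, h]; abel⟩
    rw [hW, span_le]
    rintro _ ⟨⟨a, b⟩, rfl⟩
    obtain ⟨α, β, u, hu, ha⟩ := hdec a
    obtain ⟨α', β', u', hu', hb⟩ := hdec b
    have hL : α • x + β • y ∈ J := add_mem (smul_mem _ _ hx) (smul_mem _ _ hy)
    have hL' : α' • x + β' • y ∈ J := add_mem (smul_mem _ _ hx) (smul_mem _ _ hy)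
    have e : a * b - b * a = (α * β' - β * α') • c +
        (((α • x + β • y) * u' - u' * (α • x + β • y)) + (u * (α' • x + β' • y) -
          (α' • x + β' • y) * u) + (u * u' - u' * u)) := by
      conv_lhs => rw [ha, hb]
      simp only [hc, Algebra.algebraMap_eq_smul_one, mul_add, add_mul, smul_mul_assoc,
        mul_smul_comm, one_mul, mul_one, smul_smul, smul_sub, sub_smul]
      module
    show a * b - b * a ∈ _
    rw [e]
    refine add_mem_sup (smul_mem _ _ (subset_span rfl)) (add_mem (add_mem ?_ ?_) ?_)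
    · rw [show (3 : ℕ) = 1 + 2 from rfl]
      refine sub_mem ?_ ?_
      · rw [pow_add, pow_one]; exact mul_mem_mul hL hu'
      · rw [add_comm 1 2, pow_add, pow_one]; exact mul_mem_mul hu' hL
    · rw [show (3 : ℕ) = 2 + 1 from rfl]
      refine sub_mem ?_ ?_
      · rw [pow_add, pow_one]; exact mul_mem_mul hu hL'
      · rw [add_comm 2 1, pow_add, pow_one]; exact mul_mem_mul hL' hu
    · refine pow_le_pow ε (by norm_num) (show 3 ≤ 4 by norm_num) ?_
      rw [show (4 : ℕ) = 2 + 2 from rfl, pow_add]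
      exact sub_mem (mul_mem_mul hu hu') (mul_mem_mul hu' hu)
  have h2c : J ^ 2 ≤ span k {c} ⊔ J ^ 3 := hsq.le.trans (sup_le hWc le_sup_right)
  have hsc : ∀ a ∈ J, ∀ b ∈ J, ∃ μ : k, a * b - μ • c ∈ J ^ 3 := by
    intro a ha b hb
    obtain ⟨v, hv, u, hu, h⟩ := mem_sup.1 (h2c (by rw [pow_two]; exact mul_mem_mul ha hb))
    obtain ⟨μ, rfl⟩ := mem_span_singleton.1 hv
    exact ⟨μ, by rw [← h, add_sub_cancel_left]; exact hu⟩
  obtain ⟨α, hα⟩ := hsc x hx x hx
  obtain ⟨γ, hγ⟩ := hsc y hy x hx
  obtain ⟨δ, hδ⟩ := hsc y hy y hy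
  have hβ : x * y - (γ + 1) • c ∈ J ^ 3 := by
    rw [show x * y - (γ + 1) • c = y * x - γ • c by rw [hc, add_smul, one_smul]; abel]
    exact hγ
  set q := (J ^ 4).mkQ with hq
  have hzero : ∀ a, a ∈ J ^ 4 → q a = 0 := fun a ha => (Submodule.Quotient.mk_eq_zero _).2 ha
  have key : ∀ {a b w : A} {μ ν : k}, a ∈ J → w ∈ J → a * b - μ • c ∈ J ^ 3 → b * w - ν • c ∈ J ^ 3 →
      μ • q (c * w) = ν • q (a * c) := by
    intro a b w μ ν ha hw h1 h2
    rw [← map_smul, ← map_smul, ← sub_eq_zero, ← map_sub]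
    refine hzero _ ?_
    rw [show μ • (c * w) - ν • (a * c) = a * (b * w - ν • c) - (a * b - μ • c) * w by
      simp only [mul_sub, sub_mul, smul_mul_assoc, mul_smul_comm, mul_assoc]; abel]
    refine sub_mem ?_ ?_
    · rw [show (4 : ℕ) = 1 + 3 from rfl, pow_add, pow_one]; exact mul_mem_mul ha h2
    · rw [show (4 : ℕ) = 3 + 1 from rfl, pow_add, pow_one]; exact mul_mem_mul h1 hw
  set l₁ := q (x * c) with hl₁
  set l₂ := q (y * c) with hl₂
  set r₁ := q (c * x) with hr₁
  set r₂ := q (c * y) with hr₂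
  have e111 : α • r₁ = α • l₁ := key hx hx hα hα
  have e112 : α • r₂ = (γ + 1) • l₁ := key hx hy hα hβ
  have e121 : (γ + 1) • r₁ = γ • l₁ := key hx hx hβ hγ
  have e122 : (γ + 1) • r₂ = δ • l₁ := key hx hy hβ hδ
  have e211 : γ • r₁ = α • l₂ := key hy hx hγ hα
  have e212 : γ • r₂ = (γ + 1) • l₂ := key hy hy hγ hβ
  have e221 : δ • r₁ = γ • l₂ := key hy hx hδ hγ
  have e222 : δ • r₂ = δ • l₂ := key hy hy hδ hδ
  have hl : l₁ = 0 ∧ l₂ = 0 := by
    by_cases hα0 : α = 0
    · by_cases hδ0 : δ = 0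
      · subst hα0 hδ0
        simp only [zero_smul] at e112 e221
        by_cases hg : γ = 0
        · subst hg
          simp only [zero_add, one_smul, zero_smul] at e112 e212
          exact ⟨e112.symm, e212.symm⟩
        · have h2 : l₂ = 0 := (smul_eq_zero.1 e221.symm).resolve_left hg
          refine ⟨?_, h2⟩
          by_cases hg1 : γ + 1 = 0
          · rw [hg1, zero_smul] at e121
            exact (smul_eq_zero.1 e121.symm).resolve_left hg
          · exact (smul_eq_zero.1 e112.symm).resolve_left hg1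
      · have h1 : r₂ = l₂ := smul_right_injective _ hδ0 e222
        rw [h1, add_smul, one_smul] at e212
        have h2 : l₂ = 0 := by simpa using e212.symm
        rw [h1, h2, smul_zero] at e122
        exact ⟨(smul_eq_zero.1 e122.symm).resolve_left hδ0, h2⟩
    · have h1 : r₁ = l₁ := smul_right_injective _ hα0 e111
      rw [h1, add_smul, one_smul] at e121
      have h2 : l₁ = 0 := by simpa using e121
      rw [h1, h2, smul_zero] at e211
      exact ⟨h2, (smul_eq_zero.1 e211.symm).resolve_left hα0⟩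
  -- the cube collapses
  have hcube : J ^ 3 ≤ J ^ 4 := by
    rw [show J ^ 3 = J * J ^ 2 from by rw [← pow_succ'], Submodule.mul_le]
    intro a ha b hb
    obtain ⟨v, hv, u, hu, rfl⟩ := mem_sup.1 (h2c hb)
    obtain ⟨μ, rfl⟩ := mem_span_singleton.1 hv
    obtain ⟨w, hw, u', hu', rfl⟩ := mem_sup.1 (hgen ha)
    obtain ⟨a₁, a₂, rfl⟩ := mem_span_pair.1 hw
    have hxc : x * c ∈ J ^ 4 := (Submodule.Quotient.mk_eq_zero _).1 hl.1
    have hyc : y * c ∈ J ^ 4 := (Submodule.Quotient.mk_eq_zero _).1 hl.2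
    rw [mul_add]
    refine add_mem ?_ ?_
    · rw [mul_smul_comm, add_mul, add_mul, smul_mul_assoc, smul_mul_assoc]
      refine smul_mem _ _ (add_mem (add_mem (smul_mem _ _ hxc) (smul_mem _ _ hyc)) ?_)
      rw [show (4 : ℕ) = 2 + 2 from rfl, pow_add]
      exact mul_mem_mul hu' hcJ
    · rw [show (4 : ℕ) = 1 + 3 from rfl, pow_add, pow_one]
      exact mul_mem_mul (add_mem (add_mem (smul_mem _ _ hx) (smul_mem _ _ hy)) (hJ12 hu')) hu
  refine hJ3 (le_bot_iff.1 ?_)
  have hiter : ∀ i, J ^ 3 ≤ J ^ (3 + i) := by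
    intro i
    induction i with
    | zero => exact le_rfl
    | succ i ih =>
      refine hcube.trans ?_
      rw [show (4 : ℕ) = 1 + 3 from rfl, show 3 + (i + 1) = 1 + (3 + i) by omega, pow_add, pow_add,
        pow_one]
      exact mul_le_mul' le_rfl ih
  refine (hiter N).trans ?_
  rw [pow_add, hN, Submodule.mul_bot]

end CfsgLib.BlockA.LocalCentre
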