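import Mathlib.RingTheory.SimpleModule.IsAlgClosed
import Mathlib.RingTheory.Artinian.Ring
import Mathlib.RingTheory.Idempotents
import Mathlib.LinearAlgebra.Matrix.Transvection
import Mathlib.Tactic

/-! A symmetric algebra corner with two-dimensional centre has twice the dimension of a matrix
algebra. -/

set_option autoImplicit false
set_option linter.unusedSectionVars false

namespace CfsgLib.BlockA

open Module

variable {k R : Type*} [Field k] [IsAlgClosed k] [Ring R] [Algebra k R] [FiniteDimensional k R]

theorem matrix_eq_entry_single {m : Type*} [Fintype m] [DecidableEq m] (o : m) (P : Matrix m m k) :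
    Matrix.single o o (1 : k) * P * Matrix.single o o (1 : k) =
      P o o • Matrix.single o o (1 : k) := by
  rw [Matrix.single_mul_mul_single, Matrix.smul_single, smul_eq_mul]
  simp

/-- **Two-dimensional centre.** If the corner at a primitive central idempotent `e` of a symmetric
algebra has centre spanned by `e` and a non-zero nilpotent `z`, its dimension is twice a square. -/
theorem finrank_eq_two_mul_sq (t : R →ₗ[k] k) (hsymm : ∀ x y, t (x * y) = t (y * x))
    (hnd : ∀ x, (∀ y, t (x * y) = 0) → x = 0) (e : R) (he : e * e = e)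
    (hec : ∀ x, e * x = x * e) (he0 : e ≠ 0)
    (hprim : ∀ c : R, c * c = c → (∀ x, c * x = x * c) → c * e = c → c = 0 ∨ c = e)
    (z : R) (hzc : ∀ x, z * x = x * z) (hze : z * e = z) (hz0 : z ≠ 0) (hznil : IsNilpotent z)
    (hspan : ∀ c : R, (∀ x, c * x = x * c) → ∃ a b : k, c * e = a • e + b • z) :
    ∃ n : ℕ, finrank k (LinearMap.range (LinearMap.mulLeft k e)) = 2 * n ^ 2 := by
  classical
  have : IsArtinianRing R := IsArtinianRing.of_finite k R
  set J := Ring.jacobson R with hJ
  obtain ⟨N, hN⟩ : IsNilpotent J := IsSemiprimaryRing.isNilpotent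
  have hJN : J ^ (N + 1) = ⊥ := by rw [Submodule.pow_succ, hN]; simp
  have hnilJ : ∀ x ∈ J, IsNilpotent x := fun x hx => ⟨N + 1, by
    have h := Ideal.pow_mem_pow hx (N + 1)
    rwa [hJN, Submodule.mem_bot] at h⟩
  have : Module.Finite k (R ⧸ J) :=
    Module.Finite.of_surjective (Ideal.Quotient.mkₐ k J).toLinearMap Ideal.Quotient.mk_surjective
  obtain ⟨q, d, hd, ⟨φ⟩⟩ :=
    IsSemisimpleRing.exists_algEquiv_pi_matrix_of_isAlgClosed k (R ⧸ J)
  let π : R →ₐ[k] Π i, Matrix (Fin (d i)) (Fin (d i)) k :=
    φ.toAlgHom.comp (Ideal.Quotient.mkₐ k J)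
  have hπ : Function.Surjective π := φ.surjective.comp Ideal.Quotient.mk_surjective
  have hker : ∀ x, π x = 0 ↔ x ∈ J := fun x =>
    ((map_eq_zero_iff φ φ.injective).trans Ideal.Quotient.eq_zero_iff_mem)
  have hscalar : ∀ c : R, (∀ x, c * x = x * c) → ∀ i, ∃ r : k, π c i = r • 1 := by
    intro c hc i
    obtain ⟨r, hr⟩ := Matrix.mem_range_scalar_of_commute_single (M := π c i) fun a b _ => by
      obtain ⟨x, hx⟩ := hπ (Pi.single i (Matrix.single a b (1 : k)))
      have h := congrArg (fun P => P i) (congrArg π (hc x))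
      simp only [map_mul, Pi.mul_apply, hx, Pi.single_eq_same] at h
      exact h.symm
    exact ⟨r, by rw [← hr]; simp [Matrix.scalar_apply, Matrix.smul_one_eq_diagonal]⟩
  have hε : ∀ i, π e i = 0 ∨ π e i = 1 := by
    intro i
    obtain ⟨r, hr⟩ := hscalar e hec i
    have h := congrArg (fun P => P i) (congrArg π he)
    simp only [map_mul, Pi.mul_apply, hr, smul_mul_smul_comm, one_mul] at h
    have hi := hd i
    have h00 := congrFun (congrFun h 0) 0
    simp only [Matrix.smul_apply, Matrix.one_apply_eq, smul_eq_mul, mul_one] at h00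
    rcases eq_or_ne r 0 with h0 | h0
    · exact Or.inl (by rw [hr, h0, zero_smul])
    · exact Or.inr (by rw [hr, mul_left_eq_self₀.1 h00 |>.resolve_right h0, one_smul])
  let S : Finset (Fin q) := Finset.univ.filter fun i => π e i ≠ 0
  have hS : ∀ i, i ∈ S → π e i = 1 := fun i hi =>
    (hε i).resolve_left (Finset.mem_filter.1 hi).2
  have hS' : ∀ i, i ∉ S → π e i = 0 := fun i hi => by simpa [S] using hi
  let E : ∀ i, Matrix (Fin (d i)) (Fin (d i)) k := fun i => haveI := hd i; Matrix.single 0 0 1
  have hEE : ∀ i, E i * E i = E i := fun i => by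
    simp only [E]; rw [Matrix.single_mul_single_same, mul_one]
  let F : Π i, Matrix (Fin (d i)) (Fin (d i)) k := fun i => if i ∈ S then E i else 0
  obtain ⟨f₀, hf₀, hπf₀⟩ := exists_isIdempotentElem_eq_of_ker_isNilpotent π.toRingHom
    (fun x hx => hnilJ x ((hker x).1 hx)) F (RingHom.mem_range.2 (hπ F))
    (funext fun i => by by_cases h : i ∈ S <;> simp [F, h, hEE])
  set f := e * f₀ with hf
  have hff : f * f = f := by
    rw [hf]
    calc e * f₀ * (e * f₀) = e * (f₀ * e) * f₀ := by simp only [mul_assoc]
      _ = e * e * (f₀ * f₀) := by rw [← hec f₀]; simp only [mul_assoc]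
      _ = e * f₀ := by rw [he, hf₀.eq]
  have hef : e * f = f := by rw [hf, ← mul_assoc, he]
  have hfe : f * e = f := by rw [← hec, hef]
  have hπf : π f = F := by
    funext i
    rw [hf, map_mul, Pi.mul_apply, show π f₀ = F from hπf₀]
    by_cases h : i ∈ S
    · rw [hS i h, one_mul]
    · simp [F, h]
  clear_value f
  -- the ideal generated by the idempotent contains `e`
  set I := Submodule.span k (Set.range fun p : R × R => p.1 * f * p.2) with hI
  have hIgen : ∀ a b : R, a * f * b ∈ I := fun a b => Submodule.subset_span ⟨(a, b), rfl⟩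
  have hIl : ∀ r, ∀ y ∈ I, r * y ∈ I := by
    intro r y hy
    induction hy using Submodule.span_induction with
    | mem w hw => obtain ⟨⟨a, b⟩, rfl⟩ := hw; simpa [mul_assoc] using hIgen (r * a) b
    | zero => simp
    | add a b _ _ ha hb => rw [mul_add]; exact add_mem ha hb
    | smul c a _ ha => rw [mul_smul_comm]; exact Submodule.smul_mem _ c ha
  have hIr : ∀ r, ∀ y ∈ I, y * r ∈ I := by
    intro r y hy
    induction hy using Submodule.span_induction with
    | mem w hw => obtain ⟨⟨a, b⟩, rfl⟩ := hw; simpa [mul_assoc] using hIgen a (b * r)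
    | zero => simp
    | add a b _ _ ha hb => rw [add_mul]; exact add_mem ha hb
    | smul c a _ ha => rw [smul_mul_assoc]; exact Submodule.smul_mem _ c ha
  have hy : ∃ y ∈ I, π y = π e := by
    have h1 : ∀ i ∈ S, ∃ y ∈ I, π y = Pi.single i 1 := by
      intro i hi
      have := hd i
      choose l hl using fun a => hπ (Pi.single i (Matrix.single a 0 (1 : k)))
      choose r hr using fun a => hπ (Pi.single i (Matrix.single (0 : Fin (d i)) a (1 : k)))
      refine ⟨∑ a, l a * f * r a, Submodule.sum_mem _ fun a _ => hIgen _ _, funext fun j => ?_⟩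
      simp only [map_sum, map_mul, hl, hr, hπf, Finset.sum_apply, Pi.mul_apply]
      by_cases hji : j = i
      · subst hji
        simp only [Pi.single_eq_same, F, if_pos hi, E, Matrix.single_mul_single_same, mul_one]
        exact Matrix.sum_single_one
      · simp [Pi.single_eq_of_ne hji]
    choose! y hyI hyπ using h1
    refine ⟨∑ i ∈ S, y i, Submodule.sum_mem _ fun i hi => hyI i hi, funext fun j => ?_⟩
    rw [map_sum, Finset.sum_congr rfl hyπ, Finset.sum_apply, Finset.sum_pi_single]
    split_ifs with h
    · exact (hS j h).symm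
    · exact (hS' j h).symm
  have heI : e ∈ I := by
    obtain ⟨y, hyI, hyπ⟩ := hy
    set j := e - e * y with hj
    have hjJ : j ∈ J := (hker j).1 (by
      rw [hj, map_sub, map_mul, hyπ, ← map_mul, he, sub_self])
    obtain ⟨u, hu⟩ := (hnilJ j hjJ).isUnit_one_sub
    have hej : e * (1 - j) = e * y := by
      rw [hj]; simp only [mul_sub, mul_one, ← mul_assoc, he, sub_sub_cancel]
    have : e = e * y * (↑u⁻¹ : R) := by rw [← hej, ← hu, Units.mul_inv_cancel_right]
    rw [this]
    exact hIr _ _ (hIl e y hyI)
  obtain ⟨co, hco⟩ := Finsupp.mem_span_range_iff_exists_finsupp.1 heI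
  let s := co.support
  let b : R × R → R := fun p => co p • p.1
  let c : R × R → R := fun p => p.2 * e
  have hdec : e = ∑ p ∈ s, b p * f * c p := by
    have e1 : e = (co.sum fun p a => a • (p.1 * f * p.2)) * e := by rw [hco, he]
    refine e1.trans ?_
    rw [Finsupp.sum, Finset.sum_mul]
    exact Finset.sum_congr rfl fun p _ => by simp [b, c, mul_assoc]
  have hce : ∀ p, c p * e = c p := fun p => by simp [c, mul_assoc, he]
  have hexpand : ∀ y : R, e * y = y → y * e = y →
      y = ∑ p ∈ s, ∑ r ∈ s, b p * (f * c p * y * b r * f) * c r := by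
    intro y h1 h2
    calc y = e * y * e := by rw [h1, h2]
      _ = _ := by
        rw [hdec, Finset.sum_mul, Finset.sum_mul]
        refine Finset.sum_congr rfl fun p _ => ?_
        rw [Finset.mul_sum]
        exact Finset.sum_congr rfl fun r _ => by simp only [mul_assoc]
  -- the corner algebra
  let A : Submodule k R := LinearMap.range (LinearMap.mulLeft k f ∘ₗ LinearMap.mulRight k f)
  have hA : ∀ a : R, a ∈ A ↔ f * a = a ∧ a * f = a := by
    intro a
    constructor
    · rintro ⟨r, rfl⟩
      simp only [LinearMap.comp_apply, LinearMap.mulLeft_apply, LinearMap.mulRight_apply]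
      exact ⟨by rw [← mul_assoc, hff], by simp only [mul_assoc, hff]⟩
    · rintro ⟨h1, h2⟩
      exact ⟨a, by simp [h1, h2]⟩
  have hAmem : ∀ r, f * r * f ∈ A := fun r => (hA _).2
    ⟨by simp only [← mul_assoc, hff], by simp only [mul_assoc, hff]⟩
  have hAf : f ∈ A := (hA f).2 ⟨hff, hff⟩
  have hAz : z * f ∈ A := (hA _).2 ⟨by rw [← mul_assoc, ← hzc, mul_assoc, hff],
    by rw [mul_assoc, hff]⟩
  have hAval : ∀ a ∈ A, ∀ i, π a i = if i ∈ S then
      (haveI := hd i; π a i 0 0) • E i else 0 := by
    intro a ha i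
    obtain ⟨h1, h2⟩ := (hA a).1 ha
    conv_lhs => rw [← h1, ← h2, ← mul_assoc, map_mul, map_mul, Pi.mul_apply, Pi.mul_apply, hπf]
    by_cases h : i ∈ S
    · simp only [F, if_pos h, E, matrix_eq_entry_single]
    · simp [F, h]
  let W : Submodule k R := Submodule.span k {w | ∃ x ∈ A, ∃ y ∈ A, w = x * y - y * x}
  let JA : Submodule k R := A ⊓ J.restrictScalars k
  have hWJ : W ≤ JA := by
    refine Submodule.span_le.2 ?_
    rintro w ⟨x, hx, y, hy, rfl⟩
    refine ⟨Submodule.sub_mem A ?_ ?_, (hker _).1 (funext fun i => ?_)⟩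
    · exact (hA _).2 ⟨by rw [← mul_assoc, ((hA x).1 hx).1], by rw [mul_assoc, ((hA y).1 hy).2]⟩
    · exact (hA _).2 ⟨by rw [← mul_assoc, ((hA y).1 hy).1], by rw [mul_assoc, ((hA x).1 hx).2]⟩
    · rw [map_sub, map_mul, map_mul, Pi.sub_apply, Pi.mul_apply, Pi.mul_apply, hAval x hx i,
        hAval y hy i]
      split_ifs
      · rw [smul_mul_smul_comm, smul_mul_smul_comm, mul_comm, sub_self]; rfl
      · simp
  -- central elements of the corner
  have hcentral : ∀ a ∈ A, (∀ x ∈ A, a * x = x * a) →
      a ∈ Submodule.span k (Set.range ![f, z * f]) := by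
    intro a ha hcomm
    obtain ⟨ha1, ha2⟩ := (hA a).1 ha
    set C := ∑ p ∈ s, b p * a * c p with hC
    have hCc : ∀ x, C * x = x * C := by
      intro x
      have h1 : ∀ p, x * (b p * a * c p) * e = x * (b p * a * c p) := fun p => by
        simp only [mul_assoc, hce]
      have h2 : x * C = ∑ p ∈ s, ∑ r ∈ s, b r * a * c r * x * (b p * f * c p) := by
        rw [hC, Finset.mul_sum]
        refine Finset.sum_congr rfl fun p _ => ?_
        calc x * (b p * a * c p) = e * (x * (b p * a * c p)) := by
              rw [hec, h1]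
          _ = ∑ r ∈ s, b r * f * c r * (x * (b p * a * c p)) := by rw [hdec, Finset.sum_mul]
          _ = _ := Finset.sum_congr rfl fun r _ => by
              have hcr := hcomm _ (hAmem (c r * x * b p))
              calc b r * f * c r * (x * (b p * a * c p))
                  = b r * f * c r * x * b p * (f * a) * c p := by
                    rw [ha1]; simp only [mul_assoc]
                _ = b r * ((f * (c r * x * b p) * f) * a) * c p := by simp only [mul_assoc]
                _ = b r * (a * (f * (c r * x * b p) * f)) * c p := by rw [hcr]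
                _ = b r * (a * f) * c r * x * b p * f * c p := by simp only [mul_assoc]
                _ = _ := by rw [ha2]; simp only [mul_assoc]
      rw [h2, Finset.sum_comm]
      simp only [← Finset.mul_sum, ← hdec]
      rw [hC, Finset.sum_mul]
      refine Finset.sum_congr rfl fun p _ => ?_
      calc b p * a * c p * x = b p * a * (c p * e) * x := by rw [hce]
        _ = b p * a * c p * (e * x) := by simp only [mul_assoc]
        _ = _ := by rw [hec x]; simp only [mul_assoc]
    have hfC : f * C = a := by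
      calc f * C = f * C * f := by
            rw [mul_assoc, hCc f, ← mul_assoc, hff]
        _ = ∑ p ∈ s, f * (b p * a * c p) * f := by rw [hC, Finset.mul_sum, Finset.sum_mul]
        _ = ∑ p ∈ s, a * f * (b p * f * c p) * f := Finset.sum_congr rfl fun p _ => by
            calc f * (b p * a * c p) * f = (f * b p * f) * a * (c p * f) := by
                  conv_lhs => rw [← ha1]
                  simp only [mul_assoc]
              _ = a * (f * b p * f) * (c p * f) := by rw [hcomm _ (hAmem (b p))]
              _ = _ := by simp only [mul_assoc]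
        _ = a := by
            rw [← Finset.sum_mul, ← Finset.mul_sum, ← hdec, ha2]
            calc a * e * f = a * (e * f) := mul_assoc _ _ _
              _ = a := by rw [hef, ha2]
    obtain ⟨α, β, hab⟩ := hspan C hCc
    have : a = α • f + β • (z * f) := by
      calc a = f * (C * e) := by rw [← hec, hec C, ← mul_assoc, hfC, ← ha2, mul_assoc, hfe]
        _ = _ := by rw [hab, mul_add, mul_smul_comm, mul_smul_comm, hfe, hzc f]
    rw [this]
    exact add_mem (Submodule.smul_mem _ _ (Submodule.subset_span ⟨0, rfl⟩))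
      (Submodule.smul_mem _ _ (Submodule.subset_span ⟨1, rfl⟩))
  have hdim : finrank k A ≤ finrank k W + 2 := by
    let Φ : A →ₗ[k] Dual k W := ((LinearMap.mul k R).compr₂ t).compl₁₂ A.subtype W.subtype
    have hΦ : (LinearMap.ker Φ).map A.subtype ≤ Submodule.span k (Set.range ![f, z * f]) := by
      rintro _ ⟨a, ha, rfl⟩
      refine hcentral a.1 a.2 fun x hx => sub_eq_zero.1 (hnd _ fun r => ?_)
      obtain ⟨ha1, ha2⟩ := (hA a.1).1 a.2
      obtain ⟨hx1, hx2⟩ := (hA x).1 hx
      have key : ∀ y ∈ A, t ((a.1 * x - x * a.1) * y) = 0 := by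
        intro y hy
        have h := LinearMap.congr_fun (LinearMap.mem_ker.1 ha)
          (⟨x * y - y * x, Submodule.subset_span ⟨x, hx, y, hy, rfl⟩⟩ : W)
        have h' : t (a.1 * (x * y - y * x)) = 0 := h
        rw [sub_mul, map_sub, mul_assoc x, hsymm x, ← h']
        simp only [mul_sub, map_sub, mul_assoc]
      have e1 : a.1 * x - x * a.1 = f * (a.1 * x - x * a.1) * f := by
        simp only [mul_sub, sub_mul, ← mul_assoc, ha1, hx1]
        simp only [mul_assoc, ha2, hx2]
      rw [e1, hsymm, ← mul_assoc, ← mul_assoc, hsymm, ← mul_assoc, ← mul_assoc, hsymm]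
      exact key _ (hAmem r)
    have h1 := LinearMap.finrank_range_add_finrank_ker Φ
    have h2 : finrank k (LinearMap.range Φ) ≤ finrank k W :=
      ((LinearMap.range Φ).finrank_le).trans Subspace.dual_finrank_eq.le
    have h3 : finrank k (LinearMap.ker Φ) ≤ 2 := by
      rw [← Submodule.finrank_map_subtype_eq A (LinearMap.ker Φ)]
      exact (Submodule.finrank_mono hΦ).trans
        ((finrank_range_le_card _).trans (by simp))
    omega
  let L : A →ₗ[k] (S → k) := LinearMap.pi fun i : S =>
    { toFun := fun a : A => (haveI := hd i.1; π a.1 i.1 0 0)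
      map_add' := fun a b => by simp
      map_smul' := fun r a => by simp }
  have hLapp : ∀ (a : A) (i : S), L a i = (haveI := hd i.1; π a.1 i.1 0 0) := fun _ _ => rfl
  have hLker : (LinearMap.ker L).map A.subtype = JA := by
    ext a
    constructor
    · rintro ⟨a, ha, rfl⟩
      refine ⟨a.2, (hker _).1 (funext fun i => ?_)⟩
      show π a.1 i = 0
      rw [hAval a.1 a.2 i]
      split_ifs with h
      · have := congrFun (LinearMap.mem_ker.1 ha) ⟨i, h⟩
        rw [hLapp] at this
        simp only [this, Pi.zero_apply, zero_smul]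
      · rfl
    · rintro ⟨ha, haJ⟩
      refine ⟨⟨a, ha⟩, LinearMap.mem_ker.2 (funext fun i => ?_), rfl⟩
      rw [hLapp]
      simp [(hker a).2 haJ]
  have hLsurj : Function.Surjective L := by
    intro v
    choose r hr using fun i : S => hπ (Pi.single i.1 (v i • E i.1))
    refine ⟨⟨f * (∑ i, r i) * f, hAmem _⟩, funext fun i => ?_⟩
    rw [hLapp]
    simp only [map_mul, map_sum, hπf, hr, Pi.mul_apply, Finset.sum_apply]
    rw [Finset.sum_eq_single i (fun j _ hji => Pi.single_eq_of_ne (fun h => hji
      (Subtype.ext h.symm)) _) (by simp), Pi.single_eq_same]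
    simp only [F, if_pos i.2, mul_smul_comm, smul_mul_assoc, hEE]
    simp [E]
  have hAdim : finrank k A = S.card + finrank k JA := by
    rw [← LinearMap.finrank_range_add_finrank_ker L, LinearMap.range_eq_top.2 hLsurj, finrank_top,
      finrank_fintype_fun_eq_card, Fintype.card_coe, ← hLker, Submodule.finrank_map_subtype_eq]
  have hWle := Submodule.finrank_mono hWJ
  have hSne : S.card ≠ 0 := by
    intro h
    rw [Finset.card_eq_zero] at h
    obtain ⟨m, hm⟩ := hnilJ e ((hker e).1 (funext fun i => hS' i (by simp [h])))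
    have hpe : ∀ j : ℕ, e ^ (j + 1) = e := by
      intro j
      induction j with
      | zero => exact pow_one e
      | succ j ih => rw [pow_succ, ih, he]
    exact he0 (by rw [← hpe m, pow_succ, hm, zero_mul])
  rcases eq_or_ne S.card 1 with hS1 | hS1
  swap
  · exfalso
    have hWeq : W = JA := Submodule.eq_of_le_of_finrank_le hWJ (by omega)
    have htW : ∀ w ∈ W, t w = 0 := by
      intro w hw
      induction hw using Submodule.span_induction with
      | mem w hw =>
        obtain ⟨x, -, y, -, rfl⟩ := hw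
        rw [map_sub, hsymm x y, sub_self]
      | zero => simp
      | add a b _ _ ha hb => rw [map_add, ha, hb, add_zero]
      | smul r a _ ha => rw [map_smul, ha, smul_zero]
    have hJA0 : ∀ j ∈ JA, j = 0 := by
      intro j hj
      refine hnd j fun r => ?_
      obtain ⟨h1, h2⟩ := (hA j).1 hj.1
      rw [← h1, mul_assoc, hsymm]
      refine htW _ (hWeq ▸ ⟨(hA _).2 ⟨?_, by rw [mul_assoc, hff]⟩, ?_⟩)
      · rw [← mul_assoc, ← mul_assoc, h1]
      · exact Ideal.mul_mem_right _ _ (Ideal.mul_mem_right _ _ hj.2)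
    have hPJ : ∀ y, e * y = y → y ∈ J → y = 0 := by
      intro y h1 hyJ
      rw [hexpand y h1 (by rw [← hec, h1])]
      refine Finset.sum_eq_zero fun p _ => Finset.sum_eq_zero fun r _ => ?_
      rw [hJA0 (f * c p * y * b r * f) ⟨?_, ?_⟩, mul_zero, zero_mul]
      · simpa [mul_assoc] using hAmem (c p * y * b r)
      · exact Ideal.mul_mem_right _ _ (Ideal.mul_mem_right _ _ (J.mul_mem_left _ hyJ))
    obtain ⟨i₁, hi₁⟩ := Finset.card_ne_zero.1 hSne
    obtain ⟨i₂, hi₂, hne⟩ := Finset.exists_mem_ne (by omega : 1 < S.card) i₁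
    obtain ⟨r, hr⟩ := hπ (Pi.single i₁ 1)
    set u := e * r with hu
    have hπu : π u = Pi.single i₁ 1 := funext fun i => by
      rw [hu, map_mul, hr, Pi.mul_apply]
      by_cases h : i = i₁
      · subst h; rw [hS i hi₁, one_mul]
      · simp [Pi.single_eq_of_ne h]
    have heu : e * u = u := by rw [hu, ← mul_assoc, he]
    clear_value u
    have hcu : ∀ x, u * x = x * u := fun x => sub_eq_zero.1 (hPJ _ (by
        rw [mul_sub, ← mul_assoc, heu, ← mul_assoc, hec x, mul_assoc, heu])
      ((hker _).1 (funext fun i => by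
        rw [map_sub, map_mul, map_mul, hπu, Pi.sub_apply, Pi.mul_apply, Pi.mul_apply]
        by_cases h : i = i₁
        · subst h; simp
        · simp [Pi.single_eq_of_ne h])))
    have huu : u * u = u := sub_eq_zero.1 (hPJ _ (by rw [mul_sub, ← mul_assoc, heu])
      ((hker _).1 (funext fun i => by
        rw [map_sub, map_mul, hπu, Pi.sub_apply, Pi.mul_apply]
        by_cases h : i = i₁
        · subst h; simp
        · simp [Pi.single_eq_of_ne h])))
    have hue : u * e = u := by rw [← hec, heu]
    rcases hprim u huu hcu hue with h | h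
    · have h0 := congrFun hπu i₁
      rw [h, map_zero, Pi.single_eq_same] at h0
      have := hd i₁
      exact zero_ne_one h0
    · have h0 := congrFun hπu i₂
      rw [h, hS i₂ hi₂, Pi.single_eq_of_ne hne] at h0
      have := hd i₂
      exact one_ne_zero h0
  -- a single simple quotient
  obtain ⟨i₀, hi₀⟩ := Finset.card_eq_one.1 hS1
  have := hd i₀
  have hmemS : i₀ ∈ S := by rw [hi₀]; exact Finset.mem_singleton_self _
  have hzJ : z ∈ J := by
    refine (hker z).1 (funext fun i => ?_)
    obtain ⟨r, hr⟩ := hscalar z hzc i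
    obtain ⟨m, hm⟩ := hznil
    have h := congrArg (fun P => P i) (congrArg π hm)
    simp only [map_pow, Pi.pow_apply, map_zero, Pi.zero_apply, hr, smul_pow, one_pow] at h
    have := hd i
    have h00 := congrFun (congrFun h 0) 0
    simp only [Matrix.smul_apply, Matrix.one_apply_eq, smul_eq_mul, mul_one,
      Matrix.zero_apply] at h00
    rw [hr, (pow_eq_zero_iff'.1 h00).1, zero_smul]
    rfl
  -- the corner is commutative
  let coef : R → k := fun a => π a i₀ 0 0
  have hsub : ∀ a ∈ A, a - coef a • f ∈ JA := by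
    intro a ha
    refine ⟨A.sub_mem ha (A.smul_mem _ hAf), (hker _).1 (funext fun i => ?_)⟩
    rw [map_sub, map_smul, Pi.sub_apply, Pi.smul_apply, hπf, hAval a ha i]
    by_cases h : i ∈ S
    · have : i = i₀ := by rw [hi₀, Finset.mem_singleton] at h; exact h
      subst this
      simp [F, h, coef]
    · simp [F, h]
  have hWJJ : W ≤ JA * JA := by
    refine Submodule.span_le.2 ?_
    rintro w ⟨a, ha, a', ha', rfl⟩
    obtain ⟨h1, h2⟩ := (hA a).1 ha
    obtain ⟨h1', h2'⟩ := (hA a').1 ha'
    have : a * a' - a' * a = (a - coef a • f) * (a' - coef a' • f) -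
        (a' - coef a' • f) * (a - coef a • f) := by
      simp only [mul_sub, sub_mul, smul_mul_assoc, mul_smul_comm, h1, h2, h1', h2', hff, smul_smul,
        mul_comm (coef a) (coef a'), smul_sub, smul_add]
      abel
    rw [this]
    exact sub_mem (Submodule.mul_mem_mul (hsub a ha) (hsub a' ha'))
      (Submodule.mul_mem_mul (hsub a' ha') (hsub a ha))
  have hJJle : JA * JA ≤ JA := Submodule.mul_le.2 fun a ha a' ha' =>
    ⟨(hA _).2 ⟨by rw [← mul_assoc, ((hA a).1 ha.1).1], by rw [mul_assoc, ((hA a').1 ha'.1).2]⟩,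
      Ideal.mul_mem_left _ _ ha'.2⟩
  obtain ⟨x, hxJA, hgen⟩ : ∃ x ∈ JA, JA ≤ Submodule.span k {x} ⊔ JA * JA := by
    by_cases h : ∃ x ∈ JA, x ∉ JA * JA
    · obtain ⟨x, hx, hxn⟩ := h
      refine ⟨x, hx, (Submodule.eq_of_le_of_finrank_le
        (sup_le ((Submodule.span_singleton_le_iff_mem _ _).2 hx) hJJle) ?_).ge⟩
      have h1 := Submodule.finrank_mono hWJJ
      have h2 : finrank k (JA * JA : Submodule k R) <
          finrank k (Submodule.span k {x} ⊔ JA * JA : Submodule k R) :=
        Submodule.finrank_lt_finrank_of_lt (lt_of_le_of_ne le_sup_right fun heq => hxn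
          (heq ▸ Submodule.mem_sup_left (Submodule.mem_span_singleton_self x)))
      omega
    · push Not at h
      exact ⟨0, JA.zero_mem, fun y hy => Submodule.mem_sup_right (h y hy)⟩
  let Cx : Submodule k R := (Algebra.adjoin k {x, f}).toSubmodule
  have hpowK : ∀ m : ℕ, (Submodule.span k {x}) ^ (m + 1) ≤ Cx := by
    intro m
    induction m with
    | zero =>
      rw [zero_add, pow_one, Submodule.span_singleton_le_iff_mem]
      exact Algebra.subset_adjoin (Set.mem_insert _ _)
    | succ m ih =>
      rw [pow_succ]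
      refine Submodule.mul_le.2 fun a ha a' ha' => ?_
      obtain ⟨r, rfl⟩ := Submodule.mem_span_singleton.1 ha'
      exact (Algebra.adjoin k {x, f}).mul_mem (ih ha) ((Algebra.adjoin k {x, f}).smul_mem
        (Algebra.subset_adjoin (Set.mem_insert _ _)) r)
  have hfilt : ∀ m : ℕ,
      JA ^ (m + 1) ≤ (Submodule.span k {x}) ^ (m + 1) ⊔ JA ^ (m + 2) := by
    intro m
    induction m with
    | zero => simpa [pow_succ] using hgen
    | succ m ih =>
      calc JA ^ (m + 2) = JA ^ (m + 1) * JA := pow_succ _ _
        _ ≤ JA ^ (m + 1) * (Submodule.span k {x} ⊔ JA * JA) := mul_le_mul' le_rfl hgen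
        _ = JA ^ (m + 1) * Submodule.span k {x} ⊔ JA ^ (m + 1) * (JA * JA) := Submodule.mul_sup _ _ _
        _ ≤ ((Submodule.span k {x}) ^ (m + 1) ⊔ JA ^ (m + 2)) * Submodule.span k {x} ⊔
              JA ^ (m + 3) := by
            refine sup_le_sup (mul_le_mul' ih le_rfl) (le_of_eq ?_)
            rw [← mul_assoc, ← pow_succ, ← pow_succ]
        _ ≤ _ := by
            rw [Submodule.sup_mul, ← pow_succ]
            refine sup_le (sup_le le_sup_left (le_sup_of_le_right ?_)) le_sup_right
            rw [pow_succ JA (m + 2)]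
            exact mul_le_mul' le_rfl ((Submodule.span_singleton_le_iff_mem _ _).2 hxJA)
  have hJAC : ∀ m : ℕ, JA ≤ Cx ⊔ JA ^ (m + 1) := by
    intro m
    induction m with
    | zero => simp
    | succ m ih =>
      exact ih.trans (sup_le le_sup_left ((hfilt m).trans (sup_le_sup_right (hpowK m) _)))
  have hJApow : ∀ m : ℕ, JA ^ (m + 1) ≤ (J ^ (m + 1)).restrictScalars k := by
    intro m
    induction m with
    | zero => rw [zero_add, pow_one, Submodule.pow_one]; exact inf_le_right
    | succ m ih =>
      rw [pow_succ]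
      refine Submodule.mul_le.2 fun a ha a' ha' => ?_
      rw [Submodule.restrictScalars_mem, Submodule.pow_succ]
      exact Ideal.mul_mem_mul (ih ha) ha'.2
  have hAC : A ≤ Cx := by
    intro a ha
    have h1 : a - coef a • f ∈ Cx := by
      have hle := (hJAC N).trans (sup_le le_rfl ((hJApow N).trans (fun y hy => by
        rw [Submodule.restrictScalars_mem, hJN, Submodule.mem_bot] at hy
        simp [hy])))
      exact hle (hsub a ha)
    have h2 : coef a • f ∈ Cx := (Algebra.adjoin k {x, f}).smul_mem
      (Algebra.subset_adjoin (Set.mem_insert_of_mem _ rfl)) _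
    simpa using Cx.add_mem h1 h2
  have hxf : Commute x f := by
    obtain ⟨h1, h2⟩ := (hA x).1 hxJA.1
    exact h2.trans h1.symm
  have hgencomm : ∀ u ∈ ({x, f} : Set R), ∀ w ∈ ({x, f} : Set R), Commute u w := by
    rintro u (rfl | rfl) w (rfl | rfl)
    exacts [Commute.refl _, hxf, hxf.symm, Commute.refl _]
  have hAcomm : ∀ a ∈ A, ∀ a' ∈ A, a * a' = a' * a := fun a ha a' ha' =>
    Algebra.commute_of_mem_adjoin_of_forall_mem_commute (hAC ha') fun w hw =>
      (Algebra.commute_of_mem_adjoin_of_forall_mem_commute (hAC ha) fun u hu =>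
        (hgencomm w hw u hu)).symm
  have hA2 : ∀ a ∈ A, ∃ α β : k, a = α • f + β • (z * f) ∧ (a ∈ J → α = 0) := by
    intro a ha
    obtain ⟨v, hv⟩ := (Submodule.mem_span_range_iff_exists_fun k).1
      (hcentral a ha (hAcomm a ha))
    rw [Fin.sum_univ_two] at hv
    refine ⟨v 0, v 1, hv.symm, fun haJ => ?_⟩
    have h := congrFun (congrArg π hv.symm) i₀
    simp only [(hker a).2 haJ, map_add, map_smul, map_mul, (hker z).2 hzJ, Matrix.cons_val_zero,
      Matrix.cons_val_one, hπf, F, E, Pi.zero_apply, Pi.add_apply, Pi.smul_apply, Pi.mul_apply,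
      if_pos hmemS, zero_mul, smul_zero, add_zero] at h
    simpa using (congrFun (congrFun h 0) 0).symm
  have hzsum : ∀ y : R, e * y = y → (∀ p r, y * (b p * f * c r) = b p * (y * f) * c r) →
      y = ∑ p ∈ s, b p * (y * f) * c p := by
    intro y h1 h2
    conv_lhs => rw [← h1, hec, hdec, Finset.mul_sum]
    exact Finset.sum_congr rfl fun p _ => h2 p p
  have hez : e * z = z := by rw [hec, hze]
  have hzf : z * f ≠ 0 := by
    intro h
    apply hz0
    rw [hzsum z hez fun p r => by simp only [← mul_assoc, hzc (b p)]]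
    simp [h]
  have hzz : z * z = 0 := by
    have h1 : z * z * f = 0 := by
      obtain ⟨α, β, hab, hα⟩ := hA2 (z * z * f) ((hA _).2
        ⟨by rw [← mul_assoc, ← mul_assoc, ← hzc f, mul_assoc z f z, ← hzc f, ← mul_assoc,
          mul_assoc (z * z), hff], by rw [mul_assoc, hff]⟩)
      rw [hα (J.mul_mem_left _ hzJ |> fun h => Ideal.mul_mem_right _ _ h), zero_smul, zero_add,
        mul_assoc] at hab
      rcases eq_or_ne β 0 with hβ | hβ
      · rw [mul_assoc, hab, hβ, zero_smul]
      · exfalso
        obtain ⟨m, hm⟩ := hznil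
        have hit : ∀ j : ℕ, z ^ j * (z * f) = β ^ j • (z * f) := by
          intro j
          induction j with
          | zero => simp
          | succ j ih => rw [pow_succ, mul_assoc, hab, mul_smul_comm, ih, smul_smul, ← pow_succ']
        have h := hit m
        rw [hm, zero_mul] at h
        exact hzf ((smul_eq_zero.1 h.symm).resolve_left (pow_ne_zero m hβ))
    have h2 := hzsum (z * z) (by rw [← mul_assoc, hez]) fun p r => by
      simp only [← mul_assoc]
      rw [mul_assoc z z (b p), hzc (b p), ← mul_assoc z (b p) z, hzc (b p), mul_assoc (b p) z z]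
    simp only [h1, mul_zero, zero_mul, Finset.sum_const_zero] at h2
    exact h2
  set P := LinearMap.range (LinearMap.mulLeft k e) with hP
  have hPe : ∀ y, y ∈ P ↔ e * y = y := by
    intro y
    constructor
    · rintro ⟨r, rfl⟩; simp [← mul_assoc, he]
    · exact fun h => ⟨y, h⟩
  let Mz : P →ₗ[k] R := LinearMap.mulLeft k z ∘ₗ P.subtype
  let Pr : P →ₗ[k] Matrix (Fin (d i₀)) (Fin (d i₀)) k :=
    (LinearMap.proj i₀).comp (π.toLinearMap ∘ₗ P.subtype)
  have hPrker : ∀ y : P, Pr y = 0 ↔ (y : R) ∈ J := by
    intro y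
    rw [← hker]
    refine ⟨fun h => funext fun i => ?_, fun h => congrFun h i₀⟩
    by_cases hi : i ∈ S
    · rw [hi₀, Finset.mem_singleton] at hi; subst hi; exact h
    · rw [← (hPe y).1 y.2, map_mul, Pi.mul_apply, hS' i hi, zero_mul]
      rfl
  have hMzrange : LinearMap.range Mz = (LinearMap.ker Pr).map P.subtype := by
    ext y
    constructor
    · rintro ⟨w, rfl⟩
      refine ⟨⟨z * w.1, (hPe _).2 (by rw [← mul_assoc, hez])⟩, ?_, rfl⟩
      exact (hPrker _).2 (Ideal.mul_mem_right _ _ hzJ)
    · rintro ⟨w, hw, rfl⟩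
      have hwJ := (hPrker w).1 hw
      have hew := (hPe w).1 w.2
      have hmid : ∀ p r, ∃ β : k, f * c p * w.1 * b r * f = β • (z * f) := by
        intro p r
        obtain ⟨α, β, hab, hα⟩ := hA2 (f * c p * w.1 * b r * f)
          (by simpa [mul_assoc] using hAmem (c p * w.1 * b r))
        rw [hα (Ideal.mul_mem_right _ _ (Ideal.mul_mem_right _ _ (J.mul_mem_left _ hwJ))),
          zero_smul, zero_add] at hab
        exact ⟨β, hab⟩
      choose β hβ using hmid
      refine ⟨⟨e * ∑ p ∈ s, ∑ r ∈ s, β p r • (b p * f * c r),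
        (hPe _).2 (by rw [← mul_assoc, he])⟩, ?_⟩
      show z * (e * _) = (w : R)
      rw [← mul_assoc, hze]
      conv_rhs => rw [hexpand w.1 hew (by rw [← hec, hew])]
      simp only [Finset.mul_sum, hβ, mul_smul_comm, smul_mul_assoc, ← mul_assoc, hzc (b _)]
  have hMzker : LinearMap.ker Mz = LinearMap.ker Pr := by
    ext y
    rw [LinearMap.mem_ker, LinearMap.mem_ker, hPrker]
    constructor
    · intro h0
      have h0' : z * (y : R) = 0 := h0
      have hey := (hPe y).1 y.2
      rw [← hker, hexpand y.1 hey (by rw [← hec, hey])]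
      simp only [map_sum]
      refine Finset.sum_eq_zero fun p _ => Finset.sum_eq_zero fun r _ => ?_
      obtain ⟨α, β, hab, -⟩ := hA2 (f * c p * y.1 * b r * f)
        (by simpa [mul_assoc] using hAmem (c p * y.1 * b r))
      have hα : α = 0 := by
        have h1 : z * (f * c p * y.1 * b r * f) = 0 := by
          rw [show z * (f * c p * y.1 * b r * f) = (z * (f * c p)) * y.1 * b r * f by
            simp only [mul_assoc], hzc, mul_assoc (f * c p) z y.1, h0']
          simp
        rw [hab, mul_add, mul_smul_comm, mul_smul_comm, ← mul_assoc, hzz, zero_mul, smul_zero,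
          add_zero, smul_eq_zero] at h1
        exact h1.resolve_right hzf
      rw [hab, hα, zero_smul, zero_add]
      simp [(hker z).2 hzJ]
    · intro hyJ
      have h1 : (y : R) ∈ LinearMap.range Mz := by
        rw [hMzrange]; exact ⟨y, (hPrker y).2 hyJ, rfl⟩
      obtain ⟨w, hw⟩ := h1
      show z * (y : R) = 0
      rw [← hw]
      show z * (z * (w : R)) = 0
      rw [← mul_assoc, hzz, zero_mul]
  have hPrsurj : Function.Surjective Pr := by
    intro X
    obtain ⟨r, hr⟩ := hπ (Pi.single i₀ X)
    refine ⟨⟨e * r, (hPe _).2 (by rw [← mul_assoc, he])⟩, ?_⟩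
    show π (e * r) i₀ = X
    rw [map_mul, hr, Pi.mul_apply, hS i₀ hmemS, one_mul, Pi.single_eq_same]
  refine ⟨d i₀, ?_⟩
  have e1 := LinearMap.finrank_range_add_finrank_ker Mz
  have e2 := LinearMap.finrank_range_add_finrank_ker Pr
  rw [hMzrange, Submodule.finrank_map_subtype_eq, hMzker] at e1
  rw [LinearMap.range_eq_top.2 hPrsurj, finrank_top, Module.finrank_matrix, Fintype.card_fin,
    Module.finrank_self, mul_one] at e2
  rw [pow_two]
  omega

end CfsgLib.BlockA
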