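import Cfsg.Agent.Lib.BlockA.RankOne
import Cfsg.Agent.Lib.BlockA.BlockDim
import Cfsg.Agent.Lib.BlockA.LocalSymmetric
import Cfsg.Agent.Lib.Block.ResidueSpan

/-! Blocks with exactly two characters have defect group of order two (Brandt). -/

set_option autoImplicit false
set_option linter.unusedSectionVars false

namespace CfsgLib.BlockA

open Cfsg CfsgLib.Block Module MonoidAlgebra

universe u

variable {G : Type u} [Group G] [Fintype G] {p : ℕ} [Fact p.Prime] {M : Ideal AlgInt} [M.IsPrime]
  (hM : IsPModular p M) {B : Set (IrrCharacter G)} (hB : IsPBlock M B)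

/-- The coefficient at the identity. -/
noncomputable def traceForm (k : Type*) [CommRing k] (G : Type u) [Group G] :
    MonoidAlgebra k G →ₗ[k] k where
  toFun a := a.coeff 1
  map_add' a b := by simp
  map_smul' c a := by simp

theorem traceForm_symm (k : Type*) [CommRing k] (x y : MonoidAlgebra k G) :
    traceForm k G (x * y) = traceForm k G (y * x) := by
  show (x * y).coeff 1 = (y * x).coeff 1
  simp only [coeff_mul_eq, mul_one]
  refine Fintype.sum_equiv (Equiv.inv G) _ _ fun g => ?_
  simp [mul_comm]

theorem traceForm_nondeg (k : Type*) [CommRing k] (x : MonoidAlgebra k G)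
    (h : ∀ y, traceForm k G (x * y) = 0) : x = 0 := by
  classical
  ext g
  have hg : (x * single g⁻¹ (1 : k)).coeff 1 = 0 := h _
  simpa [coeff_mul_single_apply] using hg

include hM hB

/-- A block with exactly two characters has dimension twice a square. -/
theorem sum_sq_degrees_of_card_two (hk : Nat.card B = 2) :
    ∃ n : ℕ, ∑ χ ∈ B.toFinite.toFinset, charDegree (χ : G → ℂ) ^ 2 = 2 * n ^ 2 := by
  classical
  have := isAlgClosed_kres (M := M)
  set k := kres M with hkdef
  set E : MonoidAlgebra k G := (blkIdem M B : MonoidAlgebra k G) with hE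
  obtain ⟨χ, hχ⟩ := isPBlock_nonempty hB
  have hEE : E * E = E := congrArg Subtype.val (blkIdem_idem hM hB)
  have hEc : ∀ x, E * x = x * E := fun x =>
    (Subalgebra.mem_center_iff.1 (blkIdem M B).2 x).symm
  have hE0 : E ≠ 0 := fun h => by
    have h1 := (algHom_blkIdem_eq_one_iff hM hB χ).2 hχ
    rw [show blkIdem M B = 0 from Subtype.ext h, map_zero] at h1
    exact zero_ne_one h1
  set V := LinearMap.range (LinearMap.mulLeft k E ∘ₗ classEmb k G) with hV
  have hVdim : finrank k V = 2 := hk ▸ finrank_block_center hM hB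
  have hsurj : ∀ c : MonoidAlgebra k G, (∀ x, c * x = x * c) →
      ∃ v, classEmb k G v = c := by
    intro c hc
    have hcc : IsClassCoeff c :=
      isClassCoeff_iff_mem_center.2 (Subalgebra.mem_center_iff.2 fun x => (hc x).symm)
    refine ⟨fun C => c.coeff C.out, ?_⟩
    ext g
    simp only [classEmb, LinearMap.coe_mk, AddHom.coe_mk, coeff_mkGA]
    exact coeff_eq_of_isConj hcc (ConjClasses.mk_eq_mk_iff_isConj.1 (Quotient.out_eq _))
  have hemb : ∀ v, classEmb k G v ∈ Subalgebra.center k (MonoidAlgebra k G) := by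
    intro v
    refine isClassCoeff_iff_mem_center.1 fun g h => ?_
    simp only [classEmb, LinearMap.coe_mk, AddHom.coe_mk, coeff_mkGA]
    exact congrArg v (ConjClasses.mk_eq_mk_iff_isConj.2 (isConj_iff.2 ⟨h, rfl⟩).symm)
  have hVmem : ∀ c : MonoidAlgebra k G, (∀ x, c * x = x * c) → c * E ∈ V := by
    intro c hc
    obtain ⟨v, rfl⟩ := hsurj c hc
    exact ⟨v, by show E * _ = _; rw [hEc]⟩
  have hEV : E ∈ V := by simpa [hEE] using hVmem E hEc
  obtain ⟨v, hvV, hvn⟩ : ∃ v ∈ V, v ∉ Submodule.span k {E} := by
    by_contra h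
    push Not at h
    have h1 := Submodule.finrank_mono (show V ≤ Submodule.span k {E} from h)
    rw [hVdim, finrank_span_singleton hE0] at h1
    omega
  obtain ⟨w, rfl⟩ := hvV
  set Z : Subalgebra.center k (MonoidAlgebra k G) := blkIdem M B * ⟨_, hemb w⟩ with hZ
  set r := lam M χ Z with hr
  set z : Subalgebra.center k (MonoidAlgebra k G) :=
    (Z - algebraMap k _ r) * blkIdem M B with hz
  have hzval : (z : MonoidAlgebra k G) = E * classEmb k G w - r • E := by
    show ((Z : MonoidAlgebra k G) - algebraMap k _ r) * E = _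
    rw [sub_mul, show (Z : MonoidAlgebra k G) = E * classEmb k G w from rfl,
      Algebra.algebraMap_eq_smul_one, smul_mul_assoc, one_mul, mul_assoc, ← hEc, ← mul_assoc, hEE]
  have hzc : ∀ x, (z : MonoidAlgebra k G) * x = x * z := fun x =>
    (Subalgebra.mem_center_iff.1 z.2 x).symm
  have hze : (z : MonoidAlgebra k G) * E = z := by
    show ((Z - algebraMap k _ r : Subalgebra.center k (MonoidAlgebra k G)) : MonoidAlgebra k G) *
      E * E = _
    rw [mul_assoc, hEE]
    rfl
  have hz0 : (z : MonoidAlgebra k G) ≠ 0 := fun h => hvn (by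
    rw [hzval, sub_eq_zero] at h
    show E * classEmb k G w ∈ _
    rw [h]
    exact Submodule.smul_mem _ _ (Submodule.mem_span_singleton_self E))
  have hnil : IsNilpotent (z : MonoidAlgebra k G) := by
    obtain ⟨j, hj⟩ := isNilpotent_sub_lam_mul_blkIdem hM hB hχ Z
    exact ⟨j, by rw [← hr, ← hz] at hj; simpa using congrArg Subtype.val hj⟩
  have hzV : (z : MonoidAlgebra k G) ∈ V := by
    rw [hzval]; exact V.sub_mem ⟨w, rfl⟩ (V.smul_mem r hEV)
  have hspan : ∀ c : MonoidAlgebra k G, (∀ x, c * x = x * c) →
      ∃ a b : k, c * E = a • E + b • (z : MonoidAlgebra k G) := by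
    intro c hc
    have hle : Submodule.span k {E, (z : MonoidAlgebra k G)} ≤ V := by
      rw [Submodule.span_le]
      rintro x (rfl | rfl)
      exacts [hEV, hzV]
    have hlt : Submodule.span k {E} < Submodule.span k {E, (z : MonoidAlgebra k G)} := by
      refine lt_of_le_of_ne (Submodule.span_mono (by simp)) fun heq => hvn ?_
      have h1 : (z : MonoidAlgebra k G) ∈ Submodule.span k {E} :=
        heq ▸ Submodule.subset_span (Set.mem_insert_of_mem _ rfl)
      rw [hzval] at h1
      have := Submodule.add_mem _ h1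
        (Submodule.smul_mem _ r (Submodule.mem_span_singleton_self E))
      rwa [sub_add_cancel] at this
    have h1 := Submodule.finrank_lt_finrank_of_lt hlt
    rw [finrank_span_singleton hE0] at h1
    have heq := Submodule.eq_of_le_of_finrank_le hle (by omega)
    have h2 := hVmem c hc
    rw [← heq, Submodule.mem_span_pair] at h2
    obtain ⟨a, b, h⟩ := h2
    exact ⟨a, b, h.symm⟩
  have hprim : ∀ c : MonoidAlgebra k G, c * c = c → (∀ x, c * x = x * c) → c * E = c →
      c = 0 ∨ c = E := by
    intro c hcc hc hcE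
    set c' : Subalgebra.center k (MonoidAlgebra k G) :=
      ⟨c, Subalgebra.mem_center_iff.2 fun x => (hc x).symm⟩ with hc'
    rcases blkIdem_primitive hM hB c' (Subtype.ext hcc) (Subtype.ext hcE) with h | h
    · exact Or.inl (congrArg Subtype.val h)
    · exact Or.inr (congrArg Subtype.val h)
  obtain ⟨n, hn⟩ := finrank_eq_two_mul_sq (traceForm k G) (traceForm_symm k)
    (traceForm_nondeg k) E hEE hEc hE0 hprim z hzc hze hz0 hnil hspan
  exact ⟨n, (finrank_block hM hB).symm.trans hn⟩

/-- **A block has two characters exactly when its defect is one at the prime two.** -/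
theorem card_two_iff : Nat.card B = 2 ↔ p ^ blockDefect p B = 2 := by
  classical
  have hp : p.Prime := Fact.out
  set D := blockDefect p B with hD
  constructor
  · intro hk
    have hl : blockRank p B = 1 := by
      have h1 := one_le_blockRank hM hB
      have h2 := blockRank_lt_card hM hB hk.ge
      omega
    obtain ⟨g, d, hg, hdeg, hsum, n', hn'⟩ := rank_one_degrees hM hB hl
    obtain ⟨n, hn⟩ := sum_sq_degrees_of_card_two hM hB hk
    rw [finsum_mem_eq_finite_toFinset_sum _ B.toFinite, ← hD] at hsum
    set F := B.toFinite.toFinset with hF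
    have h2 : ∑ χ ∈ F, charDegree (χ : G → ℂ) ^ 2 = g ^ 2 * p ^ D := by
      rw [← hsum, Finset.mul_sum]
      exact Finset.sum_congr rfl fun χ hχ => by
        rw [hdeg χ (B.toFinite.mem_toFinset.1 hχ), mul_pow]
    rw [h2] at hn
    have hn0 : n ≠ 0 := fun h => by
      rw [h] at hn; simp [hg.ne', hp.ne_zero] at hn
    have hf := congrArg Nat.factorization hn
    rw [Nat.factorization_mul (pow_ne_zero _ hg.ne') (pow_ne_zero _ hp.ne_zero),
      Nat.factorization_mul two_ne_zero (pow_ne_zero _ hn0), Nat.factorization_pow,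
      Nat.factorization_pow, Nat.factorization_pow] at hf
    have h3 := DFunLike.congr_fun hf 2
    simp only [Finsupp.coe_add, Pi.add_apply, Finsupp.coe_smul, Pi.smul_apply, smul_eq_mul,
      Nat.prime_two.factorization_self] at h3
    have hp2 : p = 2 := by
      by_contra hne
      rw [hp.factorization, Finsupp.single_eq_of_ne (Ne.symm hne)] at h3
      omega
    subst hp2
    rw [Nat.prime_two.factorization_self] at h3
    -- two odd squares
    have hcard : F.card = 2 := by rw [hF, ← Nat.card_eq_card_finite_toFinset, hk]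
    obtain ⟨α, β, hαβ, hFe⟩ := Finset.card_eq_two.1 hcard
    rw [hFe, Finset.sum_pair hαβ] at hn' hsum
    rcases Nat.even_or_odd (d α) with ha | ha
    · exfalso
      have hb : Even (d β) := by
        have : Even (d α ^ 2 + d β ^ 2) := by
          rw [hsum, Nat.even_pow]; exact ⟨even_two, by omega⟩
        simpa [Nat.even_add, Nat.even_pow, ha] using this
      have he : Even (n' α * (d α : ℤ) + n' β * (d β : ℤ)) :=
        ((Int.even_coe_nat _).2 ha).mul_left _ |>.add (((Int.even_coe_nat _).2 hb).mul_left _)
      rw [hn'] at he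
      exact Int.not_even_one he
    · have hb : Odd (d β) := by
        have h5 : Even (d α ^ 2 + d β ^ 2) := by
          rw [hsum, Nat.even_pow]; exact ⟨even_two, by omega⟩
        simpa [Nat.even_add, Nat.even_pow, Nat.not_even_iff_odd.2 ha] using h5
      obtain ⟨s, hs⟩ := ha
      obtain ⟨t, ht⟩ := hb
      have e : (2 * s + 1) ^ 2 + (2 * t + 1) ^ 2 = 4 * (s * s + s + t * t + t) + 2 := by ring
      rw [hs, ht, e] at hsum
      obtain h | h | ⟨j, hj⟩ : D = 0 ∨ D = 1 ∨ ∃ j, D = j + 2 := by
        rcases Nat.lt_or_ge D 2 with h | h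
        · omega
        · exact Or.inr (Or.inr ⟨D - 2, by omega⟩)
      · rw [h, pow_zero] at hsum; omega
      · rw [h, pow_one]
      · rw [hj, pow_add] at hsum; omega
  · intro hpd
    have h2 : p = 2 := by
      have : p ∣ 2 := hpd ▸ dvd_pow_self p (fun h => by rw [h, pow_zero] at hpd; omega)
      exact (Nat.prime_dvd_prime_iff_eq hp Nat.prime_two).1 this
    have hle : Nat.card B ≤ 2 := by
      have h := sum_pow_height_le hM hB
      rw [← hD, hpd, finsum_mem_eq_finite_toFinset_sum _ B.toFinite] at h
      refine le_trans ?_ (le_trans h (by norm_num))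
      rw [Nat.card_eq_card_finite_toFinset B.toFinite, Finset.card_eq_sum_ones]
      exact Finset.sum_le_sum fun χ _ => Nat.one_le_pow _ _ hp.pos
    have hne : (B.toFinite.toFinset).Nonempty := by
      obtain ⟨χ, hχ⟩ := isPBlock_nonempty hB
      exact ⟨χ, B.toFinite.mem_toFinset.2 hχ⟩
    by_contra hne2
    have h1 : Nat.card B = 1 := by
      have := Finset.card_pos.2 hne
      rw [← Nat.card_eq_card_finite_toFinset B.toFinite] at this
      omega
    have hl : blockRank p B = 1 := le_antisymm
      (h1 ▸ CfsgLib.BlockB.blockRank_le_card) (one_le_blockRank hM hB)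
    obtain ⟨g, d, -, -, hsum, n', hn'⟩ := rank_one_degrees hM hB hl
    rw [Nat.card_eq_card_finite_toFinset B.toFinite] at h1
    obtain ⟨α, hα⟩ := Finset.card_eq_one.1 h1
    rw [finsum_mem_eq_finite_toFinset_sum _ B.toFinite, hα, Finset.sum_singleton, ← hD, hpd] at hsum
    have hd : d α ≤ 1 := by nlinarith
    interval_cases h : d α <;> omega

end CfsgLib.BlockA
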