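import Cfsg.Agent.Lib.BlockA.CornerDim
import Cfsg.Agent.Lib.BlockA.LocalCentre
import Cfsg.Agent.Lib.BlockA.BlockSquares
import Cfsg.Agent.Lib.BlockA.RankOne
import Cfsg.Agent.Lib.BlockA.TwoChars
import Cfsg.Agent.Lib.Block.TraceRank

/-!
A block of rank one with at most four characters has as many characters as the order of its
defect group.
-/

set_option autoImplicit false
set_option linter.unusedSectionVars false
set_option maxHeartbeats 1000000

namespace CfsgLib.BlockA.RankOneSmall

open Cfsg CfsgLib.Block CfsgLib.BlockA CfsgLib.BlockB CfsgLib.BlockB.IdemCount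
  CfsgLib.BlockA.ProjLattice CfsgLib.BlockA.BlockSquares MonoidAlgebra Module

universe u

section Simples

variable {G : Type u} [Group G] [Fintype G] {p : ℕ} [hp : Fact p.Prime] {M : Ideal AlgInt}
  [M.IsPrime] (hM : IsPModular p M) {B : Set (IrrCharacter G)} (hB : IsPBlock M B)
  [IsAlgClosed (kres M)] (S : SplitData (k := kres M) (MonoidAlgebra (kres M) G))
include hM hB

theorem pi_blk_eq_one (i : Fin S.n)
    (hi : rk S i (blkIdem M B : MonoidAlgebra (kres M) G) ≠ 0) :
    S.π (blkIdem M B : MonoidAlgebra (kres M) G) i = 1 := by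
  set a := S.π (blkIdem M B : MonoidAlgebra (kres M) G) i with ha
  have hidem : a * a = a := apply_idem S (blk_idem hM hB) i
  have hc : ∀ v, a v = φ0 S i (a (v0 S i)) • v := by
    intro v
    obtain ⟨x, hx⟩ := S.surj (Pi.single i (one' v (φ0 S i)))
    have h : a * one' v (φ0 S i) = one' v (φ0 S i) * a := by
      have h1 := congrArg (fun y => S.π y i)
        (Subalgebra.mem_center_iff.1 (blkIdem M B).2 x).symm
      simpa [map_mul, hx, ← ha] using h1
    have h2 := LinearMap.congr_fun h (v0 S i)
    simp only [Module.End.mul_apply, one'_apply, φ0_v0, one_smul] at h2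
    exact h2
  set r := φ0 S i (a (v0 S i)) with hr
  have hr2 : r * r = r := by
    have h := LinearMap.congr_fun hidem (v0 S i)
    rw [Module.End.mul_apply, hc (v0 S i), map_smul, hc (v0 S i), smul_smul] at h
    have h2 := congrArg (φ0 S i) h
    simpa [φ0_v0] using h2
  rcases mul_left_eq_self₀.1 hr2 with h | h
  · exact LinearMap.ext fun v => by rw [hc, h, one_smul, Module.End.one_apply]
  · exfalso
    refine hi ?_
    rw [rk, ← ha, show a = 0 from LinearMap.ext fun v => by rw [hc, h, zero_smul]; rfl,
      LinearMap.range_zero]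
    exact finrank_bot _ _

open Classical in
/-- The simple modules of a block are at most as many as its rank. -/
theorem filter_le_blockRank :
    (Finset.univ.filter fun i => rk S i (blkIdem M B : MonoidAlgebra (kres M) G) ≠ 0).card ≤
      blockRank p B := by
  have := charP_kres hM
  set I := Finset.univ.filter fun i => rk S i (blkIdem M B : MonoidAlgebra (kres M) G) ≠ 0 with hI
  rw [← Fintype.card_coe, ← Nat.card_eq_fintype_card]
  let τ : I → (MonoidAlgebra (kres M) G →ₗ[kres M] kres M) := fun i =>
    ((LinearMap.trace (kres M) (Fin (S.d i) → kres M)).comp (LinearMap.proj (i : Fin S.n))).comp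
      S.π.toLinearMap
  have hτ : ∀ i a, τ i a = LinearMap.trace (kres M) _ (S.π a i) := fun i a => rfl
  refine natCard_le_blockRank hM hB τ (fun i => prim S i) (fun i => ?_) (fun i j hij => ?_)
    (fun i a => ?_) (fun i y z hyz hy => ?_) fun i a c => ?_
  · rw [hτ, pi_prim, Pi.single_eq_same, one', LinearMap.trace_smulRight, φ0_v0]
  · rw [hτ, pi_prim, Pi.single_eq_of_ne (fun h => hij (Subtype.ext h)), map_zero]
  · rw [hτ, hτ, map_mul, Pi.mul_apply, pi_blk_eq_one hM hB S i (Finset.mem_filter.1 i.2).2, one_mul]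
  · obtain ⟨m, hm⟩ := hy
    haveI : CharP (MonoidAlgebra (kres M) G) p :=
      charP_of_injective_algebraMap (algebraMap (kres M) (MonoidAlgebra (kres M) G)).injective p
    haveI : ExpChar (MonoidAlgebra (kres M) G) p := ExpChar.prime hp.out
    have hn : (of (kres M) G y - 1) ^ p ^ m = 0 := by
      rw [sub_pow_expChar_pow_of_commute _ _ (Commute.one_right _), ← map_pow, hm, map_one, one_pow,
        sub_self]
    have hc : Commute (of (kres M) G y - 1) (of (kres M) G z) :=
      Commute.sub_left (hyz.map (of (kres M) G)) (Commute.one_left _)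
    have hnil : IsNilpotent ((of (kres M) G y - 1) * of (kres M) G z) :=
      hc.isNilpotent_mul_right ⟨_, hn⟩
    have e1 : of (kres M) G (y * z) =
        (of (kres M) G y - 1) * of (kres M) G z + of (kres M) G z := by
      rw [sub_mul, one_mul, map_mul, sub_add_cancel]
    have h0 : τ i ((of (kres M) G y - 1) * of (kres M) G z) = 0 := by
      rw [hτ]
      refine (LinearMap.isNilpotent_trace_of_isNilpotent ?_).eq_zero
      exact hnil.map ((Pi.evalRingHom _ (i : Fin S.n)).comp S.π.toRingHom)
    rw [e1, map_add, h0, zero_add]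
  · rw [hτ, hτ, map_mul, map_mul, Pi.mul_apply, Pi.mul_apply, LinearMap.trace_mul_comm]

end Simples

variable {G : Type u} [Group G] [Fintype G] {p : ℕ} [hp : Fact p.Prime] {M : Ideal AlgInt}
  [M.IsPrime] (hM : IsPModular p M) {B : Set (IrrCharacter G)} (hB : IsPBlock M B)
include hM hB

/-- **Rank one and at most four characters.** -/
theorem card_eq_pow_defect (hl : blockRank p B = 1) (hk : Nat.card B ≤ 4) :
    Nat.card B = p ^ blockDefect p B := by
  classical
  have := isAlgClosed_kres (M := M)
  set k := kres M with hkdef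
  obtain ⟨S⟩ := exists_splitData (k := k) (Λ := MonoidAlgebra k G)
  set b : MonoidAlgebra k G := (blkIdem M B : MonoidAlgebra k G) with hb
  have hbb : b * b = b := blk_idem hM hB
  have hbc : ∀ x, b * x = x * b := fun x => (Subalgebra.mem_center_iff.1 (blkIdem M B).2 x).symm
  have := Fintype.ofFinite (IrrCharacter G)
  obtain ⟨i₀, hi₀⟩ : ∃ i₀, (Finset.univ.filter fun i => rk S i b ≠ 0) = {i₀} := by
    refine Finset.card_eq_one.1 (le_antisymm (hl ▸ filter_le_blockRank hM hB S) ?_)
    exact hl ▸ blockRank_le_filter hM hB S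
  have hπb : S.π b = Pi.single i₀ 1 := by
    funext i
    rcases eq_or_ne i i₀ with rfl | hne
    · rw [Pi.single_eq_same]
      refine pi_blk_eq_one hM hB S i ?_
      exact (Finset.mem_filter.1 (hi₀.symm ▸ Finset.mem_singleton_self i :
        i ∈ Finset.univ.filter fun i => rk S i b ≠ 0)).2
    · rw [Pi.single_eq_of_ne hne]
      have h : rk S i b = 0 := by
        by_contra h
        exact hne (Finset.mem_singleton.1 (hi₀ ▸ Finset.mem_filter.2 ⟨Finset.mem_univ i, h⟩))
      rw [rk, Submodule.finrank_eq_zero] at h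
      exact LinearMap.range_eq_bot.1 h
  set j := prim S i₀ with hjdef
  have hjj : j * j = j := prim_idem S i₀
  have hπj : S.π j = Pi.single i₀ (one' (v0 S i₀) (φ0 S i₀)) := pi_prim S i₀
  have hbj : b * j = j := by
    refine (sub_eq_zero.1 (eq_zero_of_pi S (e := j - b * j) ?_ ?_)).symm
    · have h1 : b * j * (b * j) = b * j := blk_mul_idem hM hB hjj
      have h2 : b * j * j = b * j := by rw [mul_assoc, hjj]
      have h3 : j * (b * j) = b * j := by rw [← mul_assoc, ← hbc, mul_assoc, hjj]
      rw [sub_mul, mul_sub, mul_sub, h1, h2, h3, hjj, sub_self, sub_zero]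
    · rw [map_sub, map_mul, hπb, hπj, ← Pi.single_mul, one_mul, sub_self]
  -- the multiplicities
  choose m hm using fun χ => exists_nat_mult hM hjj χ
  have hsingle : ∀ i, i ≠ i₀ → rk S i b = 0 := fun i hne => by
    by_contra h
    exact hne (Finset.mem_singleton.1 (hi₀ ▸ Finset.mem_filter.2 ⟨Finset.mem_univ i, h⟩))
  have hdeg : ∀ χ : IrrCharacter G,
      (if χ ∈ B then charDegree (χ : G → ℂ) else 0) = rk S i₀ b * m χ := by
    intro χ
    have h := congrFun (mult_expansion hM S hbb) χ
    rw [hb, mult_block hM hB χ, ← hb, Finset.sum_eq_single i₀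
      (fun i _ hne => by rw [hsingle i hne, zero_smul]) (by simp)] at h
    simp only [Pi.smul_apply, nsmul_eq_mul, Pi.mul_apply, Pi.natCast_apply, ← hjdef, hm] at h
    apply Nat.cast_injective (R := ℂ)
    push_cast
    rw [← h]
    split_ifs
    · exact CfsgLib.Block.charDegree_cast (CfsgLib.Char.irr_isCharacter χ.2)
    · rfl
  have hm0 : ∀ χ ∈ B, 1 ≤ m χ := fun χ hχ => by
    have h := hdeg χ
    rw [if_pos hχ] at h
    exact Nat.one_le_iff_ne_zero.2 fun h0 => charDegree_ne_zero χ.2 (by rw [h, h0, mul_zero])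
  -- the ideal generated by `j` contains the block idempotent
  set I := Submodule.span k (Set.range fun q : MonoidAlgebra k G × MonoidAlgebra k G =>
    q.1 * j * q.2) with hI
  have hIgen : ∀ a c, a * j * c ∈ I := fun a c => Submodule.subset_span ⟨(a, c), rfl⟩
  have hIl : ∀ r, ∀ y ∈ I, r * y ∈ I := by
    intro r y hy
    induction hy using Submodule.span_induction with
    | mem w hw => obtain ⟨⟨a, c⟩, rfl⟩ := hw; simpa [mul_assoc] using hIgen (r * a) c
    | zero => simp
    | add a c _ _ ha hc => rw [mul_add]; exact add_mem ha hc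
    | smul r' a _ ha => rw [mul_smul_comm]; exact Submodule.smul_mem _ r' ha
  have hIr : ∀ r, ∀ y ∈ I, y * r ∈ I := by
    intro r y hy
    induction hy using Submodule.span_induction with
    | mem w hw => obtain ⟨⟨a, c⟩, rfl⟩ := hw; simpa [mul_assoc] using hIgen a (c * r)
    | zero => simp
    | add a c _ _ ha hc => rw [add_mul]; exact add_mem ha hc
    | smul r' a _ ha => rw [smul_mul_assoc]; exact Submodule.smul_mem _ r' ha
  obtain ⟨y, hyI, hyπ⟩ : ∃ y ∈ I, S.π y = S.π b := by
    let e := Pi.basisFun k (Fin (S.d i₀))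
    choose l hl using fun a => S.surj (Pi.single i₀ (one' (e a) (φ0 S i₀)))
    choose r hr using fun a => S.surj (Pi.single i₀ (one' (v0 S i₀) (e.coord a)))
    refine ⟨∑ a, l a * j * r a, Submodule.sum_mem _ fun a _ => hIgen _ _, ?_⟩
    simp only [map_sum, map_mul, hl, hr, hπj, ← Pi.single_mul, one'_mul, φ0_v0, one_smul,
      hπb]
    funext i
    rcases eq_or_ne i i₀ with rfl | hne
    swap
    · simp [Finset.sum_apply, Pi.single_eq_of_ne hne]
    rw [Finset.sum_apply, Pi.single_eq_same]
    simp only [Pi.single_eq_same]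
    refine LinearMap.ext fun v => ?_
    simp only [LinearMap.sum_apply, one'_apply, Module.End.one_apply, Basis.coord_apply]
    exact e.sum_repr v
  have hbI : b ∈ I := by
    set u := b - b * y with hu
    have hπu : S.π u = 0 := by
      rw [hu, map_sub, map_mul, hyπ, ← map_mul, hbb, sub_self]
    obtain ⟨v, hv⟩ := (S.nil u hπu).isUnit_one_sub
    have hbu : b * (1 - u) = b * y := by
      rw [hu]; simp only [mul_sub, mul_one, ← mul_assoc, hbb, sub_sub_cancel]
    have : b = b * y * (↑v⁻¹ : MonoidAlgebra k G) := by rw [← hbu, ← hv, Units.mul_inv_cancel_right]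
    rw [this]
    exact hIr _ _ (hIl b y hyI)
  obtain ⟨co, hco⟩ := Finsupp.mem_span_range_iff_exists_finsupp.1 hbI
  let R' := MonoidAlgebra k G × MonoidAlgebra k G
  let s : Finset R' := co.support
  let l : R' → MonoidAlgebra k G := fun q => co q • q.1
  let r : R' → MonoidAlgebra k G := fun q => q.2 * b
  have hdec : b = ∑ q ∈ s, l q * j * r q := by
    have e1 : b = (co.sum fun q a => a • (q.1 * j * q.2)) * b := by rw [hco, hbb]
    refine e1.trans ?_
    rw [Finsupp.sum, Finset.sum_mul]
    exact Finset.sum_congr rfl fun q _ => by simp [l, r, mul_assoc]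
  -- the corner algebra
  have hje : IsIdempotentElem j := hjj
  let f : k →+* hje.Corner :=
    { toFun := fun a => ⟨a • j, ⟨a • (1 : MonoidAlgebra k G), by simp [hjj]⟩⟩
      map_one' := Subtype.ext (one_smul k j)
      map_mul' := fun a a' => Subtype.ext (by
        show (a * a') • j = a • j * a' • j
        rw [smul_mul_smul_comm, hjj])
      map_zero' := Subtype.ext (zero_smul k j)
      map_add' := fun a a' => Subtype.ext (add_smul a a' j) }
  letI : Algebra k hje.Corner := RingHom.toAlgebra' f fun a x => Subtype.ext (by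
    obtain ⟨h1, h2⟩ := (Subsemigroup.mem_corner_iff hje).1 x.2
    show a • j * x.1 = x.1 * a • j
    rw [smul_mul_assoc, mul_smul_comm]
    exact congrArg (a • ·) (h1.trans h2.symm))
  have hval : ∀ x : hje.Corner,
      j * x.1 = x.1 ∧ x.1 * j = x.1 := fun x =>
    (Subsemigroup.mem_corner_iff hje).1 x.2
  let incl : hje.Corner →ₗ[k] MonoidAlgebra k G :=
    { toFun := fun x => x.1
      map_add' := fun _ _ => rfl
      map_smul' := fun a x => by
        show a • j * x.1 = a • x.1
        rw [smul_mul_assoc, (hval x).1] }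
  have hinj : Function.Injective incl := fun x y h => Subtype.ext h
  have : FiniteDimensional k hje.Corner := Module.Finite.of_injective incl hinj
  have hdim : finrank k hje.Corner = ∑ χ : IrrCharacter G, m χ ^ 2 := by
    have hr : LinearMap.range incl =
        LinearMap.range (LinearMap.mulLeft k j ∘ₗ LinearMap.mulRight k j) := by
      ext x
      constructor
      · rintro ⟨x, rfl⟩
        refine ⟨x.1, ?_⟩
        show j * (x.1 * j) = x.1
        rw [(hval x).2, (hval x).1]
      · rintro ⟨w, rfl⟩
        exact ⟨⟨_, ⟨w, by simp [mul_assoc]⟩⟩, rfl⟩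
    have h := CornerDim.finrank_corner hM hjj
    rw [← hr, LinearMap.finrank_range_of_inj hinj] at h
    simp only [hm] at h
    exact_mod_cast h
  -- the augmentation
  have hpi : ∀ x : hje.Corner, S.π x.1 =
      Pi.single i₀ (φ0 S i₀ (S.π x.1 i₀ (v0 S i₀)) • one' (v0 S i₀) (φ0 S i₀)) := by
    intro x
    have h : S.π x.1 = S.π j * S.π x.1 * S.π j := by
      rw [← map_mul, ← map_mul, (hval x).1, (hval x).2]
    funext i
    conv_lhs => rw [h, hπj]
    rcases eq_or_ne i i₀ with rfl | hne
    · refine LinearMap.ext fun v => ?_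
      simp [smul_smul, mul_comm]
    · simp [Pi.single_eq_of_ne hne]
  let εf : hje.Corner → k := fun x => φ0 S i₀ (S.π x.1 i₀ (v0 S i₀))
  let ε : hje.Corner →ₐ[k] k :=
    { toFun := εf
      map_one' := by
        show φ0 S i₀ (S.π j i₀ (v0 S i₀)) = 1
        rw [hπj, Pi.single_eq_same, one'_apply, φ0_v0, one_smul, φ0_v0]
      map_mul' := fun x y => by
        show φ0 S i₀ (S.π (x.1 * y.1) i₀ (v0 S i₀)) = εf x * εf y
        rw [map_mul, Pi.mul_apply, Module.End.mul_apply, hpi y, Pi.single_eq_same,
          LinearMap.smul_apply, one'_apply, φ0_v0, one_smul, map_smul, map_smul, smul_eq_mul,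
          mul_comm]
      map_zero' := by
        show φ0 S i₀ (S.π (0 : MonoidAlgebra k G) i₀ (v0 S i₀)) = 0
        simp
      map_add' := fun x y => by
        show φ0 S i₀ (S.π (x.1 + y.1) i₀ (v0 S i₀)) = εf x + εf y
        simp [εf]
      commutes' := fun a => by
        show φ0 S i₀ (S.π (a • j) i₀ (v0 S i₀)) = a
        rw [map_smul, Pi.smul_apply, LinearMap.smul_apply, map_smul, hπj,
          Pi.single_eq_same, one'_apply, φ0_v0, one_smul, φ0_v0, smul_eq_mul, mul_one] }
  have hnil : ∀ x, ε x = 0 → IsNilpotent x := by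
    intro x hx
    have h0 : S.π x.1 = 0 := by
      rw [hpi x, show φ0 S i₀ (S.π x.1 i₀ (v0 S i₀)) = 0 from hx, zero_smul, Pi.single_zero]
    obtain ⟨N, hN⟩ := S.nil _ h0
    refine ⟨N + 1, Subtype.ext ?_⟩
    have hpow : ∀ n : ℕ, ((x ^ (n + 1)) : hje.Corner).1 = x.1 ^ (n + 1) := by
      intro n
      induction n with
      | zero => rw [pow_one, pow_one]
      | succ n ih =>
        rw [pow_succ x (n + 1), pow_succ x.1 (n + 1), ← ih]
        rfl
    rw [hpow, pow_succ, hN, zero_mul]
    rfl
  let t : hje.Corner →ₗ[k] k := (traceForm k G).comp incl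
  have hsymm : ∀ x y, t (x * y) = t (y * x) := fun x y => traceForm_symm k x.1 y.1
  have hnd : ∀ x, (∀ y, t (x * y) = 0) → x = 0 := by
    intro x hx
    refine Subtype.ext (traceForm_nondeg k x.1 fun y => ?_)
    have h := hx ⟨_, ⟨y, rfl⟩⟩
    show traceForm k G (x.1 * y) = 0
    rw [← h]
    show _ = traceForm k G (x.1 * (j * y * j))
    conv_lhs => rw [← (hval x).1, ← (hval x).2]
    simp only [← mul_assoc, traceForm_symm k _ j]
  -- the centre
  have hcen : finrank k (Subalgebra.center k hje.Corner).toSubmodule ≤ Nat.card B := by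
    rw [← finrank_block_center hM hB]
    set V := LinearMap.range (LinearMap.mulLeft k b ∘ₗ classEmb k G) with hV
    refine le_trans (le_of_eq (Submodule.equivMapOfInjective incl hinj _).finrank_eq) ?_
    refine le_trans (Submodule.finrank_mono ?_) (Submodule.finrank_map_le (LinearMap.mulLeft k j) V)
    rintro _ ⟨z, hz, rfl⟩
    obtain ⟨hz1, hz2⟩ := hval z
    have hcomm : ∀ w : MonoidAlgebra k G, z.1 * (j * w * j) = j * w * j * z.1 := fun w =>
      congrArg Subtype.val ((Subalgebra.mem_center_iff (R := k) (A := hje.Corner)).1 hz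
        ⟨_, ⟨w, rfl⟩⟩).symm
    set C := ∑ q ∈ s, l q * z.1 * r q with hC
    have hrb : ∀ q, r q * b = r q := fun q => by simp [r, mul_assoc, hbb]
    have hCb : C * b = C := by
      rw [hC, Finset.sum_mul]
      exact Finset.sum_congr rfl fun q _ => by rw [mul_assoc, hrb]
    have hCc : ∀ x, x * C = C * x := by
      intro x
      calc x * C = x * C * b := by rw [mul_assoc, hCb]
        _ = b * (x * C) := (hbc _).symm
        _ = ∑ q ∈ s, ∑ q' ∈ s, l q' * z.1 * r q' * x * (l q * j * r q) := by
            rw [hdec, hC, Finset.mul_sum, Finset.mul_sum]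
            refine Finset.sum_congr rfl fun q _ => ?_
            rw [Finset.sum_mul]
            refine Finset.sum_congr rfl fun q' _ => ?_
            calc l q' * j * r q' * (x * (l q * z.1 * r q))
                = l q' * ((j * (r q' * x * l q) * j) * z.1) * r q := by
                  conv_lhs => rw [← hz1]
                  simp only [mul_assoc]
              _ = l q' * (z.1 * (j * (r q' * x * l q) * j)) * r q := by rw [hcomm]
              _ = l q' * (z.1 * j) * r q' * x * (l q * j * r q) := by simp only [mul_assoc]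
              _ = _ := by rw [hz2]
        _ = C * x := by
            rw [Finset.sum_comm]
            simp only [← Finset.mul_sum, ← hdec, hC, Finset.sum_mul]
            refine Finset.sum_congr rfl fun q _ => ?_
            calc l q * z.1 * r q * x * b = l q * z.1 * r q * (x * b) := by simp only [mul_assoc]
              _ = l q * z.1 * (r q * b) * x := by rw [← hbc]; simp only [mul_assoc]
              _ = _ := by rw [hrb]
    have hjC : j * C = z.1 := by
      calc j * C = j * C * j := by rw [mul_assoc, ← hCc, ← mul_assoc, hjj]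
        _ = ∑ q ∈ s, (j * l q * j) * z.1 * (r q * j) := by
            rw [hC, Finset.mul_sum, Finset.sum_mul]
            refine Finset.sum_congr rfl fun q _ => ?_
            conv_lhs => rw [← hz1]
            simp only [mul_assoc]
        _ = ∑ q ∈ s, z.1 * (l q * j * r q) * j := by
            refine Finset.sum_congr rfl fun q _ => ?_
            rw [← hcomm]
            calc z.1 * (j * l q * j) * (r q * j) = (z.1 * j) * (l q * j * r q) * j := by
                  simp only [mul_assoc]
              _ = _ := by rw [hz2]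
        _ = z.1 := by
            rw [← Finset.sum_mul, ← Finset.mul_sum, ← hdec, mul_assoc, hbj, hz2]
    refine ⟨C, ⟨fun K => C.coeff K.out, ?_⟩, hjC⟩
    have hcc : IsClassCoeff C :=
      isClassCoeff_iff_mem_center.2 (Subalgebra.mem_center_iff.2 fun x => hCc x)
    have he : classEmb k G (fun K => C.coeff K.out) = C := by
      ext g
      simp only [classEmb, LinearMap.coe_mk, AddHom.coe_mk, coeff_mkGA]
      exact coeff_eq_of_isConj hcc (ConjClasses.mk_eq_mk_iff_isConj.1 (Quotient.out_eq _))
    show b * classEmb k G _ = C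
    rw [he, hbc, hCb]
  have hcomm := LocalCentre.comm_of_center_le_four ε hnil t hsymm hnd (hcen.trans hk)
  have htop : (Subalgebra.center k hje.Corner).toSubmodule = ⊤ := eq_top_iff.2 fun x _ =>
    (Subalgebra.mem_center_iff (R := k) (A := hje.Corner)).2 fun y => hcomm y x
  rw [htop, finrank_top, hdim] at hcen
  -- all multiplicities are one
  set F := B.toFinite.toFinset with hF
  have hmF : ∀ {χ}, χ ∈ F ↔ χ ∈ B := B.toFinite.mem_toFinset
  have hsq : ∑ χ ∈ F, m χ ^ 2 ≤ F.card := by
    rw [hF, ← Nat.card_eq_card_finite_toFinset]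
    exact le_trans (Finset.sum_le_sum_of_subset_of_nonneg (Finset.subset_univ _)
      fun _ _ _ => Nat.zero_le _) hcen
  have hm1 : ∀ χ ∈ F, m χ = 1 := by
    by_contra h
    push Not at h
    obtain ⟨χ, hχ, hne⟩ := h
    have hlt : ∑ χ ∈ F, 1 < ∑ χ ∈ F, m χ ^ 2 :=
      Finset.sum_lt_sum (fun χ hχ => Nat.one_le_pow _ _ (hm0 χ (hmF.1 hχ)))
        ⟨χ, hχ, Nat.one_lt_pow two_ne_zero (by have := hm0 χ (hmF.1 hχ); omega)⟩
    rw [← Finset.card_eq_sum_ones] at hlt
    omega
  obtain ⟨g, d, hg, hgd, hsum, n, hn⟩ := rank_one_degrees hM hB hl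
  obtain ⟨χ₀, hχ₀⟩ := isPBlock_nonempty hB
  have hconst : ∀ χ ∈ F, d χ = d χ₀ := by
    intro χ hχ
    have h1 := hdeg χ
    have h2 := hdeg χ₀
    rw [if_pos (hmF.1 hχ), hgd χ (hmF.1 hχ), hm1 χ hχ] at h1
    rw [if_pos hχ₀, hgd χ₀ hχ₀, hm1 χ₀ (hmF.2 hχ₀)] at h2
    exact Nat.eq_of_mul_eq_mul_left hg (h1.trans h2.symm)
  have hd1 : d χ₀ = 1 := by
    rw [← hF] at hn
    rw [Finset.sum_congr rfl fun χ hχ => by rw [hconst χ hχ], ← Finset.sum_mul] at hn
    exact_mod_cast Int.eq_one_of_mul_eq_one_left (Int.natCast_nonneg _) hn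
  rw [← hsum, finsum_mem_eq_finite_toFinset_sum _ B.toFinite, ← hF,
    Nat.card_eq_card_finite_toFinset B.toFinite, ← hF, Finset.card_eq_sum_ones]
  exact Finset.sum_congr rfl fun χ hχ => by rw [hconst χ hχ, hd1, one_pow]

end CfsgLib.BlockA.RankOneSmall
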