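import Cfsg.Agent.Lib.BlockA.CornerDim
import Cfsg.Agent.Lib.BlockA.BlockSquares
import Cfsg.Agent.Lib.BlockA.RankOne
import Cfsg.Agent.Lib.BlockA.TwoChars
import Cfsg.Agent.Lib.BlockA.RankOneSmall
import Cfsg.Agent.Lib.Char.Orthogonality

/-!
Blocks all of whose members have one degree: a single projective indecomposable with all
multiplicities one, as many members as the order of the defect group, and a commutative corner.
-/

set_option autoImplicit false
set_option linter.unusedSectionVars false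
set_option maxHeartbeats 1000000

namespace CfsgLib.BlockA.EqualDegree

open Cfsg CfsgLib.Block CfsgLib.BlockA CfsgLib.BlockB CfsgLib.BlockB.IdemCount
  CfsgLib.BlockB.StarTrace CfsgLib.BlockB.StarLift CfsgLib.BlockA.ProjLattice
  CfsgLib.BlockA.BlockSquares MonoidAlgebra Module
open scoped ComplexConjugate

universe u

variable {G : Type u} [Group G] [Fintype G] {p : ℕ} [hp : Fact p.Prime] {M : Ideal AlgInt}
  [M.IsPrime]

/-- The class function of an idempotent: it vanishes off the regular elements, and its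
coordinates are the multiplicities. -/
theorem exists_vanishing (hM : IsPModular p M) {j : MonoidAlgebra (kres M) G} (hj : j * j = j) :
    ∃ φ : G → ℂ, IsClassFunction G φ ∧ (∀ g, p ∣ orderOf g → φ g = 0) ∧
      ∀ χ : IrrCharacter G, classInner φ (χ : G → ℂ) = mult j χ := by
  classical
  obtain ⟨e, he, hre⟩ := exists_idem_lift hM hj
  set Z : MonoidAlgebra ℂ G := toC e with hZ
  refine ⟨fun h => ∑ a : G, Z.coeff (a * h⁻¹ * a⁻¹), ?_, ?_, ?_⟩
  · intro g h
    refine Fintype.sum_equiv (Equiv.mulRight h) _ _ fun a => ?_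
    congr 1
    simp only [Equiv.coe_mulRight]
    group
  · intro g hg
    have h := sum_coeff_conj_eq_zero hM (M := M) (Z := Z) (by rw [hZ, ← map_mul, he])
      (fun x => by rw [hZ, coeff_toC]; exact (e.coeff x).2) (g := (1 : G)) (by simp) g⁻¹ ?_
    · simpa using h
    · intro u w hu hw hc
      exfalso
      obtain ⟨v, hv, -, ⟨m, hm⟩, hvr⟩ := hu
      obtain ⟨z, hz, -, ⟨l, hl⟩, hzr⟩ := hw
      have hu1 : u = 1 := by
        have hu' : u = v⁻¹ := eq_inv_of_mul_eq_one_left hv
        have h1 : orderOf u = orderOf v := by rw [hu', orderOf_inv]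
        rcases Nat.eq_zero_or_pos m with rfl | hm0
        · exact orderOf_eq_one_iff.1 (by simpa using hm)
        · exact absurd (h1 ▸ hm ▸ dvd_pow_self p hm0.ne') hvr
      subst hu1
      obtain ⟨c, hc⟩ := isConj_iff.1 hc
      have hw1 : w = 1 := by rw [← hc]; group
      subst hw1
      rw [one_mul] at hz
      exact hzr (by rw [hz, orderOf_inv]; exact hg)
  · intro χ
    rw [mult_eq hM he hre χ, tval_eq_sum, CfsgLib.Char.classInner_def]
    have h1 : ∀ h : G, (∑ a : G, Z.coeff (a * h⁻¹ * a⁻¹)) * conj ((χ : G → ℂ) h) =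
        ∑ a : G, Z.coeff (a * h⁻¹ * a⁻¹) * (χ : G → ℂ) (a * h⁻¹ * a⁻¹) := fun h => by
      rw [Finset.sum_mul]
      refine Finset.sum_congr rfl fun a _ => ?_
      rw [irr_conj_eq χ.2, CfsgLib.Char.irr_isClassFunction χ.2]
    simp only [h1]
    rw [Finset.sum_comm]
    have h2 : ∀ a : G, ∑ h : G, Z.coeff (a * h⁻¹ * a⁻¹) * (χ : G → ℂ) (a * h⁻¹ * a⁻¹) =
        ∑ x : G, Z.coeff x * (χ : G → ℂ) x := fun a =>
      Fintype.sum_equiv ((Equiv.inv G).trans (MulAut.conj a).toEquiv) _ _ fun h => by simp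
    simp only [h2, Finset.sum_const, Finset.card_univ, nsmul_eq_mul, ← Nat.card_eq_fintype_card]
    rw [← mul_assoc, inv_mul_cancel₀ CfsgLib.Char.natCard_ne_zero, one_mul]

section Span

variable (hM : IsPModular p M) [IsAlgClosed (kres M)]
  (S : SplitData (k := kres M) (MonoidAlgebra (kres M) G))
include hM

/-- The multiplicity lattice is spanned by the primitive vectors. -/
theorem exists_coeffs {v : IrrCharacter G → ℂ} (hv : v ∈ multSpan M G) :
    ∃ c : Fin S.n → ℤ, ∀ χ, v χ = ∑ i, (c i : ℂ) * mult (prim S i) χ := by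
  induction hv using AddSubgroup.closure_induction with
  | zero => exact ⟨0, fun χ => by simp⟩
  | add a b _ _ ha hb =>
    obtain ⟨c, hc⟩ := ha
    obtain ⟨d, hd⟩ := hb
    exact ⟨c + d, fun χ => by simp [hc, hd, add_mul, Finset.sum_add_distrib]⟩
  | neg a _ ha =>
    obtain ⟨c, hc⟩ := ha
    exact ⟨-c, fun χ => by simp [hc]⟩
  | mem x hx =>
    obtain ⟨j, hj, rfl⟩ := hx
    refine ⟨fun i => (rk S i j : ℤ), fun χ => ?_⟩
    rw [congrFun (mult_expansion hM S hj) χ, Finset.sum_apply]
    simp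

end Span

variable (hM : IsPModular p M) {B : Set (IrrCharacter G)} (hB : IsPBlock M B)
include hM hB

omit [Fintype G] [M.IsPrime] hM hB hp in
theorem height_eq_zero {d : ℕ} (hd : ∀ χ ∈ B, charDegree (χ : G → ℂ) = d) {χ : IrrCharacter G}
    (hχ : χ ∈ B) : blockHeight p B (χ : G → ℂ) = 0 := by
  have h : (fun ψ : IrrCharacter G => (charDegree (ψ : G → ℂ)).factorization p) '' B =
      {d.factorization p} := by
    ext x
    constructor
    · rintro ⟨ψ, hψ, rfl⟩
      show _ = _
      simp only [hd ψ hψ]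
    · rintro rfl
      exact ⟨χ, hχ, by simp only [hd χ hχ]⟩
  rw [blockHeight, h, csInf_singleton, hd χ hχ, Nat.sub_self]

/-- **A single projective indecomposable.** -/
theorem exists_projective {d : ℕ} (hd : ∀ χ ∈ B, charDegree (χ : G → ℂ) = d) :
    blockRank p B = 1 ∧ ∃ j : MonoidAlgebra (kres M) G, j * j = j ∧
      (blkIdem M B : MonoidAlgebra (kres M) G) * j = j ∧
      (blkIdem M B : MonoidAlgebra (kres M) G) ∈ Submodule.span (kres M)
        (Set.range fun q : MonoidAlgebra (kres M) G × MonoidAlgebra (kres M) G =>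
          q.1 * j * q.2) ∧
      (∀ χ ∈ B, mult j χ = 1) ∧ ∀ χ ∉ B, mult j χ = 0 := by
  classical
  have := isAlgClosed_kres (M := M)
  have := Fintype.ofFinite (IrrCharacter G)
  obtain ⟨S⟩ := exists_splitData (k := kres M) (Λ := MonoidAlgebra (kres M) G)
  set b : MonoidAlgebra (kres M) G := (blkIdem M B : MonoidAlgebra (kres M) G) with hb
  have hbb : b * b = b := blk_idem hM hB
  have hbc : ∀ x, b * x = x * b := fun x => (Subalgebra.mem_center_iff.1 (blkIdem M B).2 x).symm
  choose m hm using fun (i : Fin S.n) (χ : IrrCharacter G) =>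
    exists_nat_mult hM (prim_idem S i) χ
  obtain ⟨χ₁, hχ₁⟩ := isPBlock_nonempty hB
  have hd0 : 0 < d := hd χ₁ hχ₁ ▸ Nat.pos_of_ne_zero (charDegree_ne_zero χ₁.2)
  set r := fun i => rk S i b with hr
  -- the expansion
  have hexp : ∀ χ, (if χ ∈ B then d else 0) = ∑ i, r i * m i χ := by
    intro χ
    apply Nat.cast_injective (R := ℂ)
    have h := congrFun (mult_expansion hM S hbb) χ
    rw [hb, mult_block hM hB χ, ← hb, Finset.sum_apply] at h
    simp only [Pi.smul_apply, nsmul_eq_mul, hm] at h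
    push_cast
    rw [← h]
    split_ifs with hχ
    · rw [← hd χ hχ]; exact CfsgLib.Block.charDegree_cast (CfsgLib.Char.irr_isCharacter χ.2)
    · rfl
  have hout : ∀ i χ, r i ≠ 0 → χ ∉ B → m i χ = 0 := fun i χ hi hχ => by
    have h := hexp χ
    rw [if_neg hχ, eq_comm, Finset.sum_eq_zero_iff] at h
    exact (mul_eq_zero.1 (h i (Finset.mem_univ i))).resolve_left hi
  have hin : ∀ i χ, r i = 0 → χ ∈ B → m i χ = 0 := fun i χ hi hχ => by
    have hz : b * prim S i = 0 := by
      refine eq_zero_of_pi S (blk_mul_idem hM hB (prim_idem S i)) (funext fun l => ?_)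
      rw [map_mul, Pi.mul_apply, pi_prim]
      rcases eq_or_ne l i with rfl | hne
      · have h0 : S.π b l = 0 := by
          simp only [hr, rk, Submodule.finrank_eq_zero] at hi
          exact LinearMap.range_eq_bot.1 hi
        rw [h0, zero_mul]; rfl
      · rw [Pi.single_eq_of_ne hne, mul_zero]; rfl
    have h := mult_block_mul hM hB (prim_idem S i) χ
    rw [← hb, hz, mult_zero hM, Pi.zero_apply, if_pos hχ, hm] at h
    exact_mod_cast h.symm
  have hne : ∀ i, r i ≠ 0 → ∃ χ ∈ B, m i χ ≠ 0 := by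
    intro i hi
    by_contra h
    push Not at h
    have h1 := coeff_eq_zero hM S (Pi.single i 1) fun χ => by
      rw [Finset.sum_eq_single i (fun l _ hl => by simp [Pi.single_eq_of_ne hl]) (by simp),
        Pi.single_eq_same, hm]
      by_cases hχ : χ ∈ B
      · simp [h χ hχ]
      · simp [hout i χ hi hχ]
    simpa using congrFun h1 i
  -- the indicator lies in the lattice
  set F := B.toFinite.toFinset with hF
  have hmF : ∀ {χ}, χ ∈ F ↔ χ ∈ B := B.toFinite.mem_toFinset
  set f : G → ℂ := ∑ χ ∈ F, (χ : G → ℂ) with hf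
  have hfgen : IsGeneralizedCharacter G f := by
    refine Finset.sum_induction _ (IsGeneralizedCharacter G)
      (fun a c ha hc => CfsgLib.Char.isGeneralized_add ha hc) ?_
      fun χ _ => CfsgLib.Char.isGeneralized_of_isCharacter (CfsgLib.Char.irr_isCharacter χ.2)
    exact CfsgLib.Char.isGeneralized_zero
  have hfsing : ∀ g, p ∣ orderOf g → f g = 0 := by
    intro g hg
    have h := blockCoeff_eq_zero_of_singular hM hB hg
    rw [blockCoeff, finsum_mem_eq_finite_toFinset_sum _ B.toFinite, ← hF] at h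
    have h1 : ∑ χ ∈ F, (χ : G → ℂ) 1 * conj ((χ : G → ℂ) g) = (d : ℂ) * conj (f g) := by
      rw [hf, Finset.sum_apply, map_sum, Finset.mul_sum]
      refine Finset.sum_congr rfl fun χ hχ => ?_
      rw [← hd χ (hmF.1 hχ), CfsgLib.Block.charDegree_cast (CfsgLib.Char.irr_isCharacter χ.2)]
    rw [h1, ← mul_assoc] at h
    have h2 := (mul_eq_zero.1 h).resolve_left (mul_ne_zero
      (inv_ne_zero CfsgLib.Char.natCard_ne_zero) (Nat.cast_ne_zero.2 hd0.ne'))
    simpa using h2
  obtain ⟨c, hc⟩ := exists_coeffs hM S (mem_multSpan_of_singular hM hfgen hfsing)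
  have hind : ∀ χ : IrrCharacter G, classInner f (χ : G → ℂ) = if χ ∈ B then 1 else 0 := by
    intro χ
    rw [hf, CfsgLib.Char.classInner_def]
    simp only [Finset.sum_apply, Finset.sum_mul]
    rw [Finset.sum_comm, Finset.mul_sum]
    rw [Finset.sum_congr rfl (g := fun ψ : IrrCharacter G => if ψ = χ then (1 : ℂ) else 0)
      fun ψ _ => by
        rw [← CfsgLib.Char.classInner_def, CfsgLib.Char.irr_classInner ψ.2 χ.2]
        exact if_congr Subtype.coe_inj rfl rfl]
    simp only [Finset.sum_ite_eq', hmF]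
  have hdc : ∀ i, (r i : ℤ) = d * c i := by
    intro i
    have h := congrFun (coeff_eq_zero hM S (fun i => (d : ℤ) * c i - r i) fun χ => ?_) i
    · simp only [Pi.zero_apply, sub_eq_zero] at h
      exact h.symm
    push_cast
    simp only [sub_mul, Finset.sum_sub_distrib, mul_assoc, ← Finset.mul_sum, ← hc χ, hind]
    simp only [hm]
    have h1 := congrArg (Nat.cast : ℕ → ℂ) (hexp χ)
    push_cast at h1
    rw [← h1]
    split_ifs <;> simp
  have hrd : ∀ i, d ∣ r i := fun i => Int.natCast_dvd_natCast.1 ⟨c i, hdc i⟩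
  have hone : ∀ i χ, m i χ ≠ 0 → χ ∈ B → r i = d ∧ m i χ = 1 ∧ ∀ l, l ≠ i → m l χ = 0 := by
    intro i χ hmi hχ
    have hri : r i ≠ 0 := fun h => hmi (hin i χ h hχ)
    have hge : d ≤ r i := Nat.le_of_dvd (Nat.pos_of_ne_zero hri) (hrd i)
    have h := hexp χ
    rw [if_pos hχ, ← Finset.add_sum_erase _ _ (Finset.mem_univ i)] at h
    have h1 : d * 1 ≤ r i * m i χ := Nat.mul_le_mul hge (Nat.one_le_iff_ne_zero.2 hmi)
    have h2 : ∑ l ∈ Finset.univ.erase i, r l * m l χ = 0 := by omega
    have h3 : r i * m i χ = d := by omega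
    have hm1 : m i χ = 1 := by
      by_contra hne'
      have : d * 2 ≤ r i * m i χ := Nat.mul_le_mul hge (by omega)
      omega
    refine ⟨by rw [hm1, mul_one] at h3; exact h3, hm1, fun l hl => ?_⟩
    by_contra hml
    have hrl : r l ≠ 0 := fun h => hml (hin l χ h hχ)
    exact mul_ne_zero hrl hml
      (Finset.sum_eq_zero_iff.1 h2 l (Finset.mem_erase.2 ⟨hl, Finset.mem_univ l⟩))
  -- equal regular values inside one part
  have hval : ∀ i χ χ', χ ∈ B → χ' ∈ B → m i χ ≠ 0 → m i χ' ≠ 0 → ∀ y : G, ¬ p ∣ orderOf y →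
      (χ : G → ℂ) y = (χ' : G → ℂ) y := by
    intro i χ χ' hχ hχ' hi hi' y hy
    have hv : ∀ v ∈ multSpan M G, v χ = v χ' := by
      intro v hv
      obtain ⟨a, ha⟩ := exists_coeffs hM S hv
      obtain ⟨-, h1, h2⟩ := hone i χ hi hχ
      obtain ⟨-, h1', h2'⟩ := hone i χ' hi' hχ'
      rw [ha, ha]
      refine Finset.sum_congr rfl fun l _ => ?_
      rcases eq_or_ne l i with rfl | hl
      · simp [hm, h1, h1']
      · simp [hm, h2 l hl, h2' l hl]
    let K := Subgroup.zpowers y
    have := Fintype.ofFinite K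
    have hK : Cfsg.IsElementary p K := by
      refine ⟨⟨y, Subgroup.mem_zpowers y⟩, ?_, ?_, 0, ?_⟩
      · rw [Subgroup.mem_center_iff]
        intro g
        exact mul_comm' g _
      · rw [← Subgroup.orderOf_coe]
        exact (hp.out.coprime_iff_not_dvd.2 hy).symm
      · rw [pow_zero, Subgroup.index_eq_one, eq_top_iff]
        rintro ⟨x, hx⟩ -
        obtain ⟨i, rfl⟩ := Subgroup.mem_zpowers_iff.1 hx
        exact ⟨i, Subtype.ext (by simp)⟩
    have hKp : ¬ p ∣ Nat.card K := by rwa [Nat.card_zpowers]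
    let h : K → ℂ := fun k => (χ : G → ℂ) k - (χ' : G → ℂ) k
    have hh : h = 0 := by
      refine CfsgLib.Char.classFunction_eq_zero (fun g k => ?_) fun lam hlam => ?_
      · simp only [h, Subgroup.coe_mul, Subgroup.coe_inv]
        rw [CfsgLib.Char.irr_isClassFunction χ.2 (g : G) k,
          CfsgLib.Char.irr_isClassFunction χ'.2 (g : G) k]
      · have h0 := hv _ (mem_multSpan_elementary hM hp.out hK hKp K.subtype
          (CfsgLib.Char.isGeneralized_of_isCharacter (CfsgLib.Char.irr_isCharacter hlam)))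
        have hsym : ∀ ξ : IrrCharacter G, classInner lam (fun k : K => (ξ : G → ℂ) k) =
            classInner (fun k : K => (ξ : G → ℂ) k) lam := fun ξ => by
          obtain ⟨n, hn⟩ := CfsgLib.Char.classInner_isCharacter_nat
            (CfsgLib.Char.isCharacter_restrict (CfsgLib.Char.irr_isCharacter ξ.2) K)
            (CfsgLib.Char.irr_isCharacter hlam)
          rw [← CfsgLib.Char.classInner_conj_symm, hn, Complex.conj_natCast]
        change classInner lam (fun k : K => (χ : G → ℂ) k) =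
          classInner lam (fun k : K => (χ' : G → ℂ) k) at h0
        rw [hsym, hsym] at h0
        rw [← sub_eq_zero] at h0
        rw [← h0, CfsgLib.Char.classInner_def, CfsgLib.Char.classInner_def,
          CfsgLib.Char.classInner_def, ← mul_sub, ← Finset.sum_sub_distrib]
        exact congrArg _ (Finset.sum_congr rfl fun k _ => sub_mul _ _ _)
    exact sub_eq_zero.1 (congrFun hh ⟨y, Subgroup.mem_zpowers y⟩)
  -- one part only
  obtain ⟨i₀, hi₀⟩ : ∃ i, m i χ₁ ≠ 0 := by
    by_contra h
    push Not at h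
    have := hexp χ₁
    simp [if_pos hχ₁, h] at this
    omega
  have hall : ∀ ξ ∈ B, m i₀ ξ ≠ 0 := by
    intro ξ hξ hz
    obtain ⟨φ, hφc, hφs, hφm⟩ := exists_vanishing hM (prim_idem S i₀)
    set T := F.filter fun χ => m i₀ χ ≠ 0 with hT
    have hmT : ∀ {χ}, χ ∈ T ↔ χ ∈ B ∧ m i₀ χ ≠ 0 := fun {χ} => by
      rw [hT, Finset.mem_filter, hmF]
    have hri₀ : r i₀ ≠ 0 := fun h => hi₀ (hin i₀ χ₁ h hχ₁)
    have hφe : ∀ g, φ g = ∑ χ ∈ T, (χ : G → ℂ) g := by
      intro g
      rw [CfsgLib.Char.classFunction_apply_eq_sum hφc g,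
        ← Finset.sum_subset (Finset.subset_univ T) ?_]
      · refine Finset.sum_congr rfl fun χ hχ => ?_
        rw [hφm, hm, (hone i₀ χ (hmT.1 hχ).2 (hmT.1 hχ).1).2.1, Nat.cast_one, one_mul]
      · intro χ _ hχ
        have h0 : m i₀ χ = 0 := by
          by_cases hχB : χ ∈ B
          · by_contra h; exact hχ (hmT.2 ⟨hχB, h⟩)
          · exact hout i₀ χ hri₀ hχB
        rw [hφm, hm, h0, Nat.cast_zero, zero_mul]
    have hzero : regPair p φ (ξ : G → ℂ) = 0 := by
      have h := hφm ξ
      rw [hm, hz, Nat.cast_zero, CfsgLib.Char.classInner_def] at h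
      refine Eq.trans ?_ ((mul_eq_zero.1 h).resolve_left
        (inv_ne_zero CfsgLib.Char.natCard_ne_zero))
      refine Finset.sum_congr rfl fun g _ => ?_
      rw [irr_conj_eq ξ.2, regInd]
      split_ifs with hg
      · simp [hφs g hg]
      · rw [one_mul]
    have hT1 : χ₁ ∈ T := hmT.2 ⟨hχ₁, hi₀⟩
    have hmul : regPair p φ (ξ : G → ℂ) =
        (T.card : ℂ) * regPair p (χ₁ : G → ℂ) (ξ : G → ℂ) := by
      unfold regPair
      rw [Finset.mul_sum]
      refine Finset.sum_congr rfl fun g _ => ?_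
      rw [regInd]
      split_ifs with hg
      · simp
      · rw [hφe, Finset.sum_congr rfl fun χ hχ =>
          hval i₀ χ χ₁ (hmT.1 hχ).1 hχ₁ (hmT.1 hχ).2 hi₀ g hg, Finset.sum_const, nsmul_eq_mul]
        ring
    rw [hzero, eq_comm, ← ordCompl_mul_regEntry] at hmul
    have hR : (regEntry p χ₁ ξ : ℂ) = 0 := by
      rcases mul_eq_zero.1 hmul with h | h
      · exact absurd h (Nat.cast_ne_zero.2 (Finset.card_ne_zero.2 ⟨χ₁, hT1⟩))
      · exact (mul_eq_zero.1 h).resolve_left
          (Nat.cast_ne_zero.2 (Nat.ordCompl_pos p Nat.card_pos.ne').ne')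
    exact regEntry_ne_zero hM hB hχ₁ hξ (height_eq_zero hd hχ₁) (by exact_mod_cast hR)
  have hothers : ∀ i, i ≠ i₀ → r i = 0 := fun i hi => by
    by_contra h
    obtain ⟨χ, hχ, hmi⟩ := hne i h
    exact hmi ((hone i₀ χ (hall χ hχ) hχ).2.2 i hi)
  have hri₀ : r i₀ ≠ 0 := fun h => hi₀ (hin i₀ χ₁ h hχ₁)
  have hrank : blockRank p B = 1 := by
    refine le_antisymm ?_ (one_le_blockRank hM hB)
    refine (blockRank_le_filter hM hB S).trans (Finset.card_le_one.2 fun a ha c hc => ?_)
    rw [← hb, Finset.mem_filter] at ha hc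
    rw [show a = i₀ by by_contra h; exact ha.2 (hothers a h),
      show c = i₀ by by_contra h; exact hc.2 (hothers c h)]
  refine ⟨hrank, prim S i₀, prim_idem S i₀, ?_, ?_, fun χ hχ => ?_, fun χ hχ => ?_⟩
  · have hπb : S.π b i₀ = 1 := RankOneSmall.pi_blk_eq_one hM hB S i₀ hri₀
    have hjj := prim_idem S i₀
    refine (sub_eq_zero.1 (eq_zero_of_pi S (e := prim S i₀ - b * prim S i₀) ?_ ?_)).symm
    · have h1 := blk_mul_idem hM hB hjj
      have h2 : b * prim S i₀ * prim S i₀ = b * prim S i₀ := by rw [mul_assoc, hjj]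
      have h3 : prim S i₀ * (b * prim S i₀) = b * prim S i₀ := by
        rw [← mul_assoc, ← hbc, mul_assoc, hjj]
      rw [← hb] at h1
      rw [sub_mul, mul_sub, mul_sub, h1, h2, h3, hjj, sub_self, sub_zero]
    · rw [map_sub, map_mul, pi_prim]
      funext i
      rcases eq_or_ne i i₀ with rfl | hne'
      · simp [hπb]
      · simp [Pi.single_eq_of_ne hne']
  · set j := prim S i₀ with hj
    have hπj : S.π j = Pi.single i₀ (one' (v0 S i₀) (φ0 S i₀)) := pi_prim S i₀
    have hπb : S.π b = Pi.single i₀ 1 := by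
      funext i
      rcases eq_or_ne i i₀ with rfl | hne'
      · rw [Pi.single_eq_same]
        exact RankOneSmall.pi_blk_eq_one hM hB S i hri₀
      · rw [Pi.single_eq_of_ne hne']
        have h := hothers i hne'
        simp only [hr, rk, Submodule.finrank_eq_zero] at h
        exact LinearMap.range_eq_bot.1 h
    set k := kres M
    set I := Submodule.span k (Set.range fun q : MonoidAlgebra k G × MonoidAlgebra k G =>
      q.1 * j * q.2) with hI
    have hIgen : ∀ a c, a * j * c ∈ I := fun a c => Submodule.subset_span ⟨(a, c), rfl⟩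
    have hIl : ∀ r', ∀ y ∈ I, r' * y ∈ I := by
      intro r' y hy
      induction hy using Submodule.span_induction with
      | mem w hw => obtain ⟨⟨a, c⟩, rfl⟩ := hw; simpa [mul_assoc] using hIgen (r' * a) c
      | zero => simp
      | add a c _ _ ha hc => rw [mul_add]; exact add_mem ha hc
      | smul s a _ ha => rw [mul_smul_comm]; exact Submodule.smul_mem _ s ha
    have hIr : ∀ r', ∀ y ∈ I, y * r' ∈ I := by
      intro r' y hy
      induction hy using Submodule.span_induction with
      | mem w hw => obtain ⟨⟨a, c⟩, rfl⟩ := hw; simpa [mul_assoc] using hIgen a (c * r')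
      | zero => simp
      | add a c _ _ ha hc => rw [add_mul]; exact add_mem ha hc
      | smul s a _ ha => rw [smul_mul_assoc]; exact Submodule.smul_mem _ s ha
    obtain ⟨y, hyI, hyπ⟩ : ∃ y ∈ I, S.π y = S.π b := by
      let e := Pi.basisFun k (Fin (S.d i₀))
      choose l hl using fun a => S.surj (Pi.single i₀ (one' (e a) (φ0 S i₀)))
      choose w hw using fun a => S.surj (Pi.single i₀ (one' (v0 S i₀) (e.coord a)))
      refine ⟨∑ a, l a * j * w a, Submodule.sum_mem _ fun a _ => hIgen _ _, ?_⟩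
      simp only [map_sum, map_mul, hl, hw, hπj, ← Pi.single_mul, one'_mul, φ0_v0, one_smul,
        hπb]
      funext i
      rcases eq_or_ne i i₀ with rfl | hne'
      swap
      · simp [Finset.sum_apply, Pi.single_eq_of_ne hne']
      rw [Finset.sum_apply, Pi.single_eq_same]
      simp only [Pi.single_eq_same]
      refine LinearMap.ext fun v => ?_
      simp only [LinearMap.sum_apply, one'_apply, Module.End.one_apply, Basis.coord_apply]
      exact e.sum_repr v
    set u := b - b * y with hu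
    have hπu : S.π u = 0 := by
      rw [hu, map_sub, map_mul, hyπ, ← map_mul, hbb, sub_self]
    obtain ⟨v, hv⟩ := (S.nil u hπu).isUnit_one_sub
    have hbu : b * (1 - u) = b * y := by
      rw [hu]; simp only [mul_sub, mul_one, ← mul_assoc, hbb, sub_sub_cancel]
    have : b = b * y * (↑v⁻¹ : MonoidAlgebra k G) := by
      rw [← hbu, ← hv, Units.mul_inv_cancel_right]
    rw [this]
    exact hIr _ _ (hIl b y hyI)
  · rw [hm, (hone i₀ χ (hall χ hχ) hχ).2.1, Nat.cast_one]
  · rw [hm, hout i₀ χ hri₀ hχ, Nat.cast_zero]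

/-- **As many members as the order of the defect group.** -/
theorem natCard_eq_pow {d : ℕ} (hd : ∀ χ ∈ B, charDegree (χ : G → ℂ) = d) :
    Nat.card B = p ^ blockDefect p B := by
  classical
  obtain ⟨hl, -⟩ := exists_projective hM hB hd
  obtain ⟨g, m, hg, hgd, hsum, n, hn⟩ := rank_one_degrees hM hB hl
  obtain ⟨χ₁, hχ₁⟩ := isPBlock_nonempty hB
  have heq : ∀ χ ∈ B, m χ = m χ₁ := fun χ hχ => Nat.eq_of_mul_eq_mul_left hg
    (by rw [← hgd χ hχ, ← hgd χ₁ hχ₁, hd χ hχ, hd χ₁ hχ₁])
  have hone : m χ₁ = 1 := by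
    rw [Finset.sum_congr rfl fun χ hχ => by rw [heq χ (B.toFinite.mem_toFinset.1 hχ)],
      ← Finset.sum_mul] at hn
    exact_mod_cast (Int.eq_one_of_mul_eq_one_left (by positivity) hn)
  rw [← hsum, finsum_mem_eq_finite_toFinset_sum _ B.toFinite,
    Finset.sum_congr rfl fun χ hχ => by rw [heq χ (B.toFinite.mem_toFinset.1 hχ), hone, one_pow],
    Finset.sum_const, smul_eq_mul, mul_one, Nat.card_eq_card_finite_toFinset B.toFinite]

end CfsgLib.BlockA.EqualDegree
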