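import Cfsg.Agent.Lib.BlockA.CentreSocle
import Cfsg.Agent.Lib.BlockA.DefectOneStar
import Cfsg.Agent.Lib.BlockA.BlockNilp
import Cfsg.Agent.Lib.BlockA.CentralDefect
import Cfsg.Agent.Lib.BlockA.SectionNorms
import Cfsg.Agent.Lib.Block.FirstMain

/-!
**Okuyama and Tsushima.** A block with abelian defect group whose members all have one degree is
nilpotent: the Brauer map embeds the centre of the block in the invariant part of the centre of a
block of the centralizer, and both have dimension the order of the defect group.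
-/

set_option autoImplicit false
set_option linter.unusedSectionVars false
set_option maxHeartbeats 1000000

namespace CfsgLib.BlockA.EqualDegreeNilp

open Cfsg CfsgLib.Block CfsgLib.BlockA CfsgLib.BlockA.CentreSocle CfsgLib.BlockB MonoidAlgebra
  Module

universe u

variable {G : Type u} [Group G] [Finite G] {p : ℕ} [hp : Fact p.Prime] {M : Ideal AlgInt}
  [M.IsPrime] (hM : IsPModular p M) {B : Set (IrrCharacter G)} (hB : IsPBlock M B)

local notation "cen" Q => Subgroup.centralizer ((Q : Subgroup G) : Set G)

include hM hB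

/-- The block of the centralizer has the defect group in its centre, and as many members. -/
theorem natCard_local {D : Subgroup G} (hD : IsDefectGroup p M B D)
    (hab : ∀ x ∈ D, ∀ y ∈ D, x * y = y * x) {c : Set (IrrCharacter (cen D))}
    (hc : IsBrauerPairOf p M B D c) : Nat.card c = Nat.card D := by
  classical
  have := Fintype.ofFinite G
  have := Fintype.ofFinite (cen D)
  have hDC : D ≤ cen D := fun x hx => Subgroup.mem_centralizer_iff.2 fun y hy => hab y hy x hx
  set P := D.subgroupOf (cen D) with hP
  have hPZ : P ≤ Subgroup.center (cen D) := by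
    intro x hx
    rw [Subgroup.mem_center_iff]
    exact fun y => Subtype.ext (Subgroup.mem_centralizer_iff.1 y.2 x hx).symm
  have : P.Normal := ⟨fun n hn g => by
    rw [Subgroup.mem_center_iff.1 (hPZ hn) g, mul_inv_cancel_right]
    exact hn⟩
  have hPp : IsPGroup p P := (isPGroup_defectGroup hM hB hD).comap_subtype
  obtain ⟨E, hE⟩ := exists_isDefectGroup (p := p) hM hc.1.2
  obtain ⟨F, hF, hEF⟩ := exists_map_subtype_le_defect hM (isInducedBlock_of_isBrauerPairOf hM hc) hE
  have hcardP : Nat.card P = Nat.card D := Nat.card_congr (Subgroup.subgroupOfEquivOfLe hDC).toEquiv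
  have hPE : P = E := by
    refine Subgroup.eq_of_le_of_card_ge (normal_le_defectGroup hM hPp hc.1.2 hE) ?_
    rw [hcardP, natCard_defectGroup hM hB hD, ← natCard_defectGroup hM hB hF,
      ← Subgroup.card_map_of_injective (Subgroup.subtype_injective (cen D))]
    exact Subgroup.card_le_of_le hEF
  rw [← hcardP]
  exact natCard_block_of_central_defect hM hc.1.2 (hPE ▸ hE) hPZ

/-- **The inertial index is one.** -/
theorem nilpotent_of_equal_degree {d : ℕ} (hd : ∀ χ ∈ B, charDegree (χ : G → ℂ) = d)
    {D : Subgroup G} (hD : IsDefectGroup p M B D) (hab : ∀ x ∈ D, ∀ y ∈ D, x * y = y * x) :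
    IsNilpotentBlock p M B := by
  classical
  have := Fintype.ofFinite G
  have := Fintype.ofFinite (cen D)
  have hDp := isPGroup_defectGroup hM hB hD
  obtain ⟨c, hmax⟩ := DefectOneStar.exists_maximal_pair hM hB hD
  have hcB := hmax.1.1.2
  refine (nilpotent_iff_abelian hM hmax hab).2 fun t ht => ?_
  set b : MonoidAlgebra (kres M) G := (blkIdem M B : MonoidAlgebra (kres M) G) with hb
  set bc : MonoidAlgebra (kres M) (cen D) := (blkIdem M c : MonoidAlgebra (kres M) (cen D)) with hbc
  have hres : ∀ z ∈ blockCentre M B, bc * resSub (cen D) z ∈ blockCentre M c := fun z hz =>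
    (mem_blockCentre hM hcB).2 ⟨isClassCoeff_iff_mem_center.2 (Subalgebra.mul_mem _ (blkIdem M c).2
      (isClassCoeff_iff_mem_center.1 (resSub_isClassCoeff _ ((mem_blockCentre hM hB).1 hz).1))),
      by rw [hbc, ← mul_assoc, BlockSquares.blk_idem hM hcB]⟩
  let Φ : blockCentre M B →ₗ[kres M] blockCentre M c :=
    { toFun := fun z => ⟨bc * resSub (cen D) (z : MonoidAlgebra (kres M) G), hres _ z.2⟩
      map_add' := fun z w => Subtype.ext (by
        show bc * resSub (cen D) ((z : MonoidAlgebra (kres M) G) + (w : MonoidAlgebra (kres M) G)) = bc * resSub (cen D) (z : MonoidAlgebra (kres M) G) + bc * resSub (cen D) (w : MonoidAlgebra (kres M) G)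
        rw [← mul_add]
        congr 1
        ext y; simp)
      map_smul' := fun r z => Subtype.ext (by
        show bc * resSub (cen D) (r • (z : MonoidAlgebra (kres M) G)) = r • (bc * resSub (cen D) (z : MonoidAlgebra (kres M) G))
        rw [← mul_smul_comm]
        congr 1
        ext y; simp) }
  have hinv : ∀ z ∈ blockCentre M B, ∀ x ∈ Subgroup.normalizer (D : Set G),
      conjGA x (inclSub (cen D) (resSub (cen D) z)) = inclSub (cen D) (resSub (cen D) z) := by
    intro z hz x hx
    ext g
    rw [coeff_conjGA]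
    have hiff : x⁻¹ * g * x ∈ (cen D) ↔ g ∈ (cen D) := by
      have h := Subgroup.mem_normalizer_iff.1
        (inv_mem (normalizer_le_normalizer_centralizer hM D hx)) g
      rw [inv_inv] at h
      exact h.symm
    by_cases hg : g ∈ cen D
    · rw [show g = ((⟨g, hg⟩ : (cen D)) : G) from rfl, coeff_inclSub_of_mem, coeff_resSub,
        show x⁻¹ * ((⟨g, hg⟩ : (cen D)) : G) * x = ((⟨_, hiff.2 hg⟩ : (cen D)) : G) from rfl,
        coeff_inclSub_of_mem, coeff_resSub]
      show z.coeff (x⁻¹ * g * x) = z.coeff g
      have := ((mem_blockCentre hM hB).1 hz).1 g x⁻¹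
      rwa [inv_inv] at this
    · rw [coeff_inclSub_of_not_mem _ _ hg, coeff_inclSub_of_not_mem _ _ fun h => hg (hiff.1 h)]
  have hinj : Function.Injective Φ := by
    rw [← LinearMap.ker_eq_bot, eq_bot_iff]
    rintro ⟨z, hz⟩ hzk
    rw [LinearMap.mem_ker] at hzk
    have h0 : bc * resSub (cen D) z = 0 := congrArg Subtype.val hzk
    obtain ⟨hzc, hbz⟩ := (mem_blockCentre hM hB).1 hz
    refine (Submodule.mem_bot _).2 (Subtype.ext (eq_zero_of_resSub hM hB hd hD hz ?_))
    have hbi := isPInv_of_isClassCoeff (isClassCoeff_center (blkIdem M B)) D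
    set w : Subalgebra.center (kres M) (MonoidAlgebra (kres M) (cen D)) :=
      resZ (cen D) (blkIdem M B) with hw
    have hwz : resSub (cen D) z = (w : MonoidAlgebra (kres M) (cen D)) * resSub (cen D) z := by
      rw [hw, coe_resZ, ← resSub_mul hM hDp hbi (isPInv_of_isClassCoeff hzc D), hbz]
    have hww : w * w = w := Subtype.ext (by
      rw [MulMemClass.coe_mul, hw, coe_resZ, ← resSub_mul hM hDp hbi hbi,
        BlockSquares.blk_idem hM hB])
    have hkey : ∀ e ∈ allBlocks M (cen D),
        (blkIdem M e : MonoidAlgebra (kres M) (cen D)) * resSub (cen D) z = 0 := by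
      intro e he
      have heB := mem_allBlocks.1 he
      rw [hwz, ← mul_assoc, ← MulMemClass.coe_mul]
      rcases blkIdem_primitive hM heB (blkIdem M e * w) (by
          rw [mul_mul_mul_comm, blkIdem_idem hM heB, hww])
          (by rw [mul_right_comm, blkIdem_idem hM heB]) with h | h
      · rw [h, ZeroMemClass.coe_zero, zero_mul]
      rw [h]
      have hep : IsBrauerPairOf p M B D e :=
        (isBrauerPairOf_iff_mul hM ⟨hDp, heB⟩ hB).2 (by
          rw [sIdem, ← map_mul]
          exact congrArg (inclSub (cen D)) (congrArg Subtype.val h))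
      obtain ⟨x, hx, hxe⟩ := (maximal_core hM hmax).2 e hep
      have hs : sIdem M (cen D) e = conjGA x (sIdem M (cen D) c) := by
        have h1 := congrArg (fun a : BrauerPairIdx G => sIdem M (cen a.1) a.2) hxe
        simp only at h1
        rw [← h1]
        ext g
        rw [coeff_sIdem_conjBlock hM, coeff_conjGA]
      refine inclSub_injective (cen D) ?_
      rw [map_mul, map_zero]
      show sIdem M (cen D) e * _ = 0
      rw [hs, ← hinv z hz x hx, ← conjGA_mul, sIdem, ← map_mul, h0, map_zero, conjGA_zero]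
    rw [← one_mul (resSub (cen D) z), ← OneMemClass.coe_one (Subalgebra.center (kres M)
      (MonoidAlgebra (kres M) (cen D))), ← sum_blkIdem hM, AddSubmonoidClass.coe_finsetSum,
      Finset.sum_mul]
    exact Finset.sum_eq_zero hkey
  have hsurj : Function.Surjective Φ := by
    refine (LinearMap.injective_iff_surjective_of_finrank_eq_finrank ?_).1 hinj
    rw [finrank_blockCentre hM hB, finrank_blockCentre hM hcB, natCard_local hM hB hD hab hmax.1,
      EqualDegree.natCard_eq_pow hM hB hd, natCard_defectGroup hM hB hD]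
  -- the stabilizer fixes the image
  rw [Subgroup.mem_centralizer_iff]
  intro u hu
  have hDC : ∀ y ∈ D, y ∈ cen D := fun y hy =>
    Subgroup.mem_centralizer_iff.2 fun q hq => hab q hq y hy
  set v : (cen D) := ⟨u, hDC u hu⟩ with hv
  have hvc : IsClassCoeff (single v (1 : kres M)) := by
    refine isClassCoeff_iff_mem_center.2 (Subalgebra.mem_center_iff.2 fun a => ?_)
    induction a using MonoidAlgebra.induction_linear with
    | zero => simp
    | add a e ha he => rw [add_mul, mul_add, ha, he]
    | single g r =>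
      rw [single_mul_single, single_mul_single, mul_one, one_mul]
      congr 1
      exact Subtype.ext (Subgroup.mem_centralizer_iff.1 g.2 u hu).symm
  obtain ⟨⟨z, hz⟩, hzv⟩ := hsurj ⟨bc * single v 1, (mem_blockCentre hM hcB).2
    ⟨isClassCoeff_iff_mem_center.2 (Subalgebra.mul_mem _ (blkIdem M c).2
      (isClassCoeff_iff_mem_center.1 hvc)), by rw [hbc, ← mul_assoc, BlockSquares.blk_idem hM hcB]⟩⟩
  have heq : sIdem M (cen D) c * inclSub (cen D) (resSub (cen D) z) =
      sIdem M (cen D) c * single u 1 := by
    have h1 := congrArg (inclSub (cen D)) (congrArg Subtype.val hzv)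
    change inclSub (cen D) (bc * resSub (cen D) z) = inclSub (cen D) (bc * single v 1) at h1
    rw [map_mul, map_mul] at h1
    refine h1.trans ?_
    congr 1
    simp [inclSub, MonoidAlgebra.mapDomainRingHom, hv]
  have htN := ht.1
  have hst : conjGA t (sIdem M (cen D) c) = sIdem M (cen D) c := by
    ext g
    rw [coeff_conjGA]
    exact ht.2 g
  have hconj : conjGA t (single u (1 : kres M)) = single (t * u * t⁻¹) 1 := by
    ext g
    rw [coeff_conjGA]
    simp only [coeff_single, Finsupp.single_apply]
    refine if_congr ⟨fun h => ?_, fun h => ?_⟩ rfl rfl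
    · rw [h]; group
    · rw [← h]; group
  have hfix := congrArg (conjGA t) heq
  rw [conjGA_mul, conjGA_mul, hst, hinv z hz t htN, hconj, heq] at hfix
  by_contra hne
  set w := (t * u * t⁻¹) * u⁻¹ with hw
  have hwD : w ∈ D := mul_mem ((Subgroup.mem_normalizer_iff.1 htN u).1 hu) (inv_mem hu)
  have hw1 : w ≠ 1 := by
    intro h
    refine hne ?_
    have h2 : t * u * t⁻¹ = u := mul_inv_eq_one.1 h
    calc u * t = t * u * t⁻¹ * t := by rw [h2]
      _ = t * u := by group
  have hshift : ∀ h : G, (sIdem M (cen D) c).coeff h = (sIdem M (cen D) c).coeff (h * w) := by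
    intro h
    have h1 := congrArg (fun a : MonoidAlgebra (kres M) G => a.coeff (h * (t * u * t⁻¹))) hfix
    simp only [coeff_mul_single_apply, mul_one, mul_inv_cancel_right] at h1
    rw [← h1, hw]
    congr 1
    group
  have hzero : ∀ g : G, (sIdem M (cen D) c).coeff g ≠ 0 → g ∈ (cen D) ∧ ¬ p ∣ orderOf g := by
    intro g hg
    by_cases hgC : g ∈ cen D
    · refine ⟨hgC, fun hdvd => hg ?_⟩
      rw [show g = ((⟨g, hgC⟩ : (cen D)) : G) from rfl, sIdem, coeff_inclSub_of_mem, coeff_blkIdem,
        blockCoeff_eq_zero_of_singular hM hcB (by rwa [← Subgroup.orderOf_coe]), redC_zero]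
    · exact absurd (coeff_sIdem_of_not_mem c hgC) hg
  obtain ⟨h, hh⟩ : ∃ h, (sIdem M (cen D) c).coeff h ≠ 0 := by
    by_contra hall
    push Not at hall
    exact sIdem_ne_zero hM hcB (by ext g; simpa using hall g)
  obtain ⟨hhC, hhr⟩ := hzero h hh
  refine (hzero (h * w) (hshift h ▸ hh)).2 ?_
  have hcomm : Commute h w := (Subgroup.mem_centralizer_iff.1 hhC w hwD).symm
  obtain ⟨k, hk⟩ := IsPGroup.iff_orderOf.1 hDp ⟨w, hwD⟩
  rw [Subgroup.orderOf_mk] at hk
  rw [hcomm.orderOf_mul_eq_mul_orderOf_of_coprime
    (by rw [hk]; exact ((hp.out.coprime_iff_not_dvd.2 hhr).symm.pow_right k)), hk]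
  refine dvd_mul_of_dvd_right (dvd_pow_self p fun hk0 => hw1 ?_) _
  rw [hk0, pow_zero, orderOf_eq_one_iff] at hk
  exact hk

end CfsgLib.BlockA.EqualDegreeNilp
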