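import Cfsg.Agent.Lib.BlockA.BlockNilp
import Cfsg.Agent.Lib.Fusion.NormalCriteria

/-! A block with normal defect group is nilpotent as soon as the stabilizer of its maximal pair
induces only inner automorphisms. -/

set_option autoImplicit false
set_option linter.unusedSectionVars false
set_option maxHeartbeats 1000000

namespace CfsgLib.BlockA.NilpNormal

open Cfsg CfsgLib.Block CfsgLib.BlockA CfsgLib.Fusion

universe u

variable {G : Type u} [Group G] [Finite G] {p : ℕ} [Fact p.Prime] {M : Ideal AlgInt} [M.IsPrime]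

local notation "cen" Q => Subgroup.centralizer ((Q : Subgroup G) : Set G)

/-- **Normal defect group with trivial inertial quotient.** -/
theorem nilpotent_of_normal (hM : IsPModular p M) {B : Set (IrrCharacter G)} {P : Subgroup G}
    {e : Set (IrrCharacter (Subgroup.centralizer (P : Set G)))} [P.Normal]
    (hmax : IsMaximalBrauerPair p M B P e) (hst : pairStab M P e ≤ P ⊔ cen P) :
    IsNilpotentBlock p M B := by
  classical
  have hF := isBlockFusionSystemOn_blockFusion hM hmax
  set F := blockFusion hM hmax.1.1 with hFdef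
  have hPp : IsPGroup p P := hmax.1.1.1
  have hsat := isSaturated_block hM hF
  refine nilpotent_of_inner hM hF fun Q => ?_
  have hinner : F = innerFusionSystem P := by
    refine eq_inner_of_pGroup hPp hsat fun Q hQ => ?_
    rcases hQ with rfl | hQ
    · rintro ⟨α, hα⟩
      obtain ⟨-, g, hg, hfus⟩ := (isMap_iff hM hF).1 (isMap_of_autGroup le_rfl hα)
      have hgx : ∀ x : Q, ((α x : Q) : G) = g * (x : G) * g⁻¹ := fun x => by
        rw [← hg x x.2, toFun_aut_apply α x.2]
      obtain ⟨f, hf, hle⟩ := exists_subpair hM hmax.1.1 _ Q le_rfl rfl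
      obtain rfl : f = e := subpair_unique hM hmax.1.1 _ Q rfl _ _ hle Relation.ReflTransGen.refl
      have hgT := hst (mem_pairStab_of_fus hM hmax.1.1 hle hfus (mem_normalizer_of_aut hgx))
      have h1 : g ∈ ((Q ⊔ cen Q : Subgroup G) : Set G) := hgT
      rw [Subgroup.coe_mul_of_right_le_normalizer_left Q _
        (Subgroup.centralizer_le_normalizer _)] at h1
      obtain ⟨w, hw, k, hk, rfl⟩ := Set.mem_mul.1 h1
      have hαw : α = MulAut.conj (⟨w, hw⟩ : Q) := MulEquiv.ext fun x => Subtype.ext (by
        rw [hgx]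
        show w * k * (x : G) * (w * k)⁻¹ = w * (x : G) * w⁻¹
        calc w * k * (x : G) * (w * k)⁻¹ = w * (k * (x : G) * k⁻¹) * w⁻¹ := by group
          _ = _ := by
            rw [← Subgroup.mem_centralizer_iff.1 hk x x.2, mul_inv_cancel_right])
      obtain ⟨n, hn⟩ := hPp ⟨w, hw⟩
      refine ⟨n, Subtype.ext ?_⟩
      rw [SubmonoidClass.coe_pow]
      show α ^ p ^ n = 1
      rw [hαw, ← map_pow, hn, map_one]
    · exfalso
      have hQS := lt_of_essential hPp hsat hQ
      have hrad := essential_isRadical hPp hsat hQ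
      set K := (autInducedBy P Q).subgroupOf (F.autGroup Q) with hK
      have hKn : K.Normal := by
        constructor
        rintro ⟨β, hβ⟩ hβK ⟨α, hα⟩
        obtain ⟨a, ha, hax⟩ := mem_autInducedBy_iff.1 (Subgroup.mem_subgroupOf.1 hβK)
        obtain ⟨-, g, hg, -⟩ := (isMap_iff hM hF).1 (isMap_of_autGroup hQ.1.1 hα)
        have hgx : ∀ x : Q, ((α x : Q) : G) = g * (x : G) * g⁻¹ := fun x => by
          rw [← hg x x.2, toFun_aut_apply α x.2]
        refine Subgroup.mem_subgroupOf.2 (mem_autInducedBy_iff.2
          ⟨g * a * g⁻¹, (inferInstance : P.Normal).conj_mem a ha g, fun x => ?_⟩)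
        show ((α (β (α⁻¹ x)) : Q) : G) = _
        have h := hgx (α⁻¹ x)
        rw [MulAut.apply_inv_self] at h
        rw [hgx, hax, h]
        group
      have hKp : IsPGroup p K := by
        rintro ⟨⟨β, hβ⟩, hβK⟩
        obtain ⟨a, ha, hax⟩ := mem_autInducedBy_iff.1 (Subgroup.mem_subgroupOf.1 hβK)
        obtain ⟨n, hn⟩ := hPp ⟨a, ha⟩
        have hn' : a ^ p ^ n = 1 := congrArg Subtype.val hn
        refine ⟨n, Subtype.ext (Subtype.ext ?_)⟩
        rw [SubmonoidClass.coe_pow, SubmonoidClass.coe_pow]
        refine MulEquiv.ext fun x => Subtype.ext ?_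
        have hpow : ∀ (m : ℕ) (y : Q), (((β ^ m) y : Q) : G) = a ^ m * (y : G) * (a ^ m)⁻¹ := by
          intro m
          induction m with
          | zero => intro y; simp
          | succ m ih =>
            intro y
            rw [pow_succ', MulAut.mul_apply, hax, ih, pow_succ']
            group
        rw [hpow, hn']
        simp
      refine hQS.not_ge (le_of_normalizer_inf_le hPp hQ.1.1 le_rfl
        (fun a _ => by rw [Subgroup.normalizer_eq_top]; exact Subgroup.mem_top a) fun a ha han => ?_)
      exact mem_of_aut_mem_pGroup hQ.1 hrad K hKp ⟨ha, han⟩ fun β hβ =>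
        Subgroup.mem_subgroupOf.2 (mem_autInducedBy_iff.2
          ⟨a, ha, fun x => by rw [hβ]; rfl⟩)
  rw [hinner]

end CfsgLib.BlockA.NilpNormal
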