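import Cfsg.Agent.Lib.BlockA.QuotientDefect
import Cfsg.Agent.Lib.BlockA.BlockMap

/-! Blocks under a surjection whose kernel is a `p`-group centralized by the regular elements. -/

set_option autoImplicit false
set_option linter.unusedSectionVars false
set_option maxHeartbeats 1000000

namespace CfsgLib.BlockA.SurjBlock

open Cfsg CfsgLib.Block MonoidAlgebra

universe u

variable {K K' : Type u} [Group K] [Finite K] [Group K'] [Finite K'] {p : ℕ} [hp : Fact p.Prime]
  {M : Ideal AlgInt} [M.IsPrime] (f : K →* K')

/-- Composition with the surjection. -/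
noncomputable def inflHom (hf : Function.Surjective f) (ξ : IrrCharacter K') : IrrCharacter K :=
  ⟨_, CfsgLib.Char.isIrrCharacter_comp_surjective ξ.2 f hf⟩

theorem inflHom_apply (hf : Function.Surjective f) (ξ : IrrCharacter K') (k : K) :
    (inflHom f hf ξ : K → ℂ) k = (ξ : K' → ℂ) (f k) := rfl

/-- A regular element of the image has a regular preimage. -/
theorem exists_regular_lift (hf : Function.Surjective f) {y : K'}
    (hy : ¬ p ∣ orderOf y) : ∃ x : K, ¬ p ∣ orderOf x ∧ f x = y := by
  obtain ⟨x, rfl⟩ := hf y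
  obtain ⟨u, z, huz, hc, ⟨j, hj⟩, hz⟩ := exists_isPPart (p := p) hp.out x
  refine ⟨z, hz, ?_⟩
  have hcop : Nat.Coprime (orderOf (f u)) (orderOf (f z)) :=
    ((hp.out.coprime_iff_not_dvd.2 hz).pow_left j).coprime_dvd_left (hj ▸ orderOf_map_dvd f u)
      |>.coprime_dvd_right (orderOf_map_dvd f z)
  have h1 := (hc.map f).orderOf_mul_eq_mul_orderOf_of_coprime hcop
  rw [← map_mul, huz] at h1
  obtain ⟨i, -, hi⟩ := (Nat.dvd_prime_pow hp.out).1 (hj ▸ orderOf_map_dvd f u)
  have hu : f u = 1 := by
    rcases Nat.eq_zero_or_pos i with rfl | hi0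
    · rwa [pow_zero, orderOf_eq_one_iff] at hi
    · exact absurd (h1 ▸ hi ▸ Dvd.dvd.mul_right (dvd_pow_self p hi0.ne') _) hy
  rw [← huz, map_mul, hu, one_mul]

/-- The class of a regular element is mapped bijectively. -/
theorem index_centralizer_map (hf : Function.Surjective f) (hker : IsPGroup p f.ker)
    (hcen : ∀ x : K, ¬ p ∣ orderOf x → ∀ n ∈ f.ker, Commute x n) {x : K} (hx : ¬ p ∣ orderOf x) :
    (Subgroup.centralizer ({f x} : Set K')).index =
      (Subgroup.centralizer ({x} : Set K)).index := by
  have h : (Subgroup.centralizer ({f x} : Set K')).comap f = Subgroup.centralizer ({x} : Set K) := by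
    ext h
    rw [Subgroup.mem_comap, Subgroup.mem_centralizer_singleton_iff,
      Subgroup.mem_centralizer_singleton_iff]
    constructor
    · intro hh
      have ho : ¬ p ∣ orderOf (h * x * h⁻¹) := by
        rwa [show orderOf (h * x * h⁻¹) = orderOf x from
          orderOf_injective (MulAut.conj h).toMonoidHom (MulAut.conj h).injective x]
      have hn : x⁻¹ * (h * x * h⁻¹) ∈ f.ker := by
        rw [MonoidHom.mem_ker, map_mul, map_inv, map_mul, map_mul, map_inv, hh]
        group
      have h1 := QuotientDefect.eq_one_of_regular_mul f.ker hker hn (hcen x hx _ hn) hx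
        (by rwa [mul_inv_cancel_left]) hp.out
      exact mul_inv_eq_iff_eq_mul.1 (inv_mul_eq_one.1 h1).symm
    · intro hh
      rw [← map_mul, ← map_mul, hh]
  rw [← h, Subgroup.index_comap_of_surjective _ hf]

variable (hM : IsPModular p M)
include hM

/-- **Characters inflated into one block lie in one block.** -/
theorem sameBlock_of_surj (hf : Function.Surjective f) (hker : IsPGroup p f.ker)
    (hcen : ∀ x : K, ¬ p ∣ orderOf x → ∀ n ∈ f.ker, Commute x n) {ξ η : IrrCharacter K'}
    (h : SameBlock M (inflHom f hf ξ : K → ℂ) (inflHom f hf η : K → ℂ)) :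
    SameBlock M (ξ : K' → ℂ) (η : K' → ℂ) := by
  classical
  have : Finite (ConjClasses K') := Finite.of_surjective ConjClasses.mk ConjClasses.mk_surjective
  have := Fintype.ofFinite (ConjClasses K')
  set B₁ := blockOf M (ξ : K' → ℂ)
  have hB := isPBlock_blockOf (M := M) ξ
  have hl : lam M ξ (blkIdem M B₁) = lam M η (blkIdem M B₁) := by
    rw [algHom_eq_sum_classes (lam M ξ), algHom_eq_sum_classes (lam M η)]
    refine Finset.sum_congr rfl fun C _ => ?_
    by_cases hC : p ∣ orderOf C.out
    · rw [blkIdem_coeff_eq_zero_of_singular hM hB hC, zero_mul, zero_mul]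
    · obtain ⟨x, hx, hxC⟩ := exists_regular_lift f hf hC
      congr 1
      have e : ∀ φ : IrrCharacter K', centralChar (φ : K' → ℂ) C.out =
          centralChar (inflHom f hf φ : K → ℂ) x := fun φ => by
        simp only [centralChar, inflHom_apply, map_one, ← hxC,
          index_centralizer_map f hf hker hcen hx]
      rw [lam_classSumZ, lam_classSumZ, e, e, ← lam_classSumZ, ← lam_classSumZ,
        lam_eq_of_sameBlock h]
  rw [lam_blkIdem hM hB, lam_blkIdem hM hB, if_pos (mem_blockOf_self ξ)] at hl
  split_ifs at hl with hmem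
  · exact hmem
  · exact absurd hl one_ne_zero

end CfsgLib.BlockA.SurjBlock
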