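import Cfsg.Agent.Lib.BlockA.EqualDegreeNilp
import Cfsg.Agent.Lib.BlockA.NilpNormal
import Cfsg.Agent.Lib.BlockA.SurjBlock
import Cfsg.Agent.Lib.BlockA.CoverSub
import Cfsg.Agent.Lib.Fusion.Tate
import Cfsg.Agent.Lib.PLocal.Section
import Cfsg.Agent.Lib.Char.CliffordApps

/-!
A block with normal defect group whose members of height zero have one degree is nilpotent: the
quotient by the derived subgroup of the defect group has a block with abelian defect group and one
degree, and a coprime stabilizer of the root has to centralize the abelianized defect group.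
-/

set_option autoImplicit false
set_option linter.unusedSectionVars false
set_option maxHeartbeats 2000000

namespace CfsgLib.BlockA.EqualHeightZeroNormal

open Cfsg CfsgLib.Block CfsgLib.BlockA MonoidAlgebra
open CfsgLib.BlockA.Dominated (infl infl_apply charDegree_infl)
open CfsgLib.BlockA.QuotientDefect (pushGA)
open scoped commutatorElement

universe u

variable {G : Type u} [Group G] [Finite G] {p : ℕ} [hp : Fact p.Prime] {M : Ideal AlgInt}
  [M.IsPrime] (hM : IsPModular p M) {B : Set (IrrCharacter G)} (hB : IsPBlock M B)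
  {D : Subgroup G}

local notation "cen" Q => Subgroup.centralizer ((Q : Subgroup G) : Set G)

include hM hB

/-- The members over a block of the quotient by the derived subgroup all have one degree. -/
theorem degree_quotient [D.Normal] (hD : IsDefectGroup p M B D) (N : Subgroup G) [N.Normal]
    (hND : N ≤ D) (hab : ∀ a ∈ D.map (QuotientGroup.mk' N), ∀ b ∈ D.map (QuotientGroup.mk' N),
      a * b = b * a) {d : ℕ}
    (hd : ∀ χ ∈ B, blockHeight p B (χ : G → ℂ) = 0 → charDegree (χ : G → ℂ) = d)
    {η : IrrCharacter (G ⧸ N)} (hη : infl N η ∈ B) : charDegree (η : G ⧸ N → ℂ) = d := by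
  rw [← charDegree_infl N η]
  refine hd _ hη ((blockHeight_eq_zero_iff hM hB hη).2 (le_antisymm ?_ (Nat.sInf_le ⟨_, hη, rfl⟩)))
  have hidx : (D.map (QuotientGroup.mk' N)).index = D.index :=
    Subgroup.index_map_eq _ (QuotientGroup.mk'_surjective N) (by rwa [QuotientGroup.ker_mk'])
  have hdvd : charDegree (η : G ⧸ N → ℂ) ∣ D.index := by
    obtain ⟨n, ρ, hρ, hηρ⟩ := η.2
    rw [← hidx]
    have := Subgroup.Normal.map (H := D) inferInstance (QuotientGroup.mk' N)
      (QuotientGroup.mk'_surjective N)
    have h := CfsgLib.Char.ito_degree_dvd_index ρ (D.map (QuotientGroup.mk' N)) hab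
    have e : charDegree (η : G ⧸ N → ℂ) = Module.finrank ℂ (Fin n → ℂ) := by
      apply Nat.cast_injective (R := ℂ)
      rw [CfsgLib.Block.charDegree_cast (CfsgLib.Char.irr_isCharacter η.2), ← hηρ,
        Representation.char_one]
    rwa [e]
  show (charDegree (η : G ⧸ N → ℂ)).factorization p ≤ _
  have h1 : (charDegree (η : G ⧸ N → ℂ)).factorization p ≤ D.index.factorization p :=
    (Nat.factorization_le_iff_dvd (charDegree_ne_zero η.2) Subgroup.index_ne_zero_of_finite).2
      hdvd p
  have h2 : D.index.factorization p + (Nat.card D).factorization p =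
      (Nat.card G).factorization p := by
    rw [← Subgroup.index_mul_card D, Nat.factorization_mul Subgroup.index_ne_zero_of_finite
      Nat.card_pos.ne', Finsupp.add_apply]
  rw [natCard_defectGroup hM hB hD, hp.out.factorization_pow, Finsupp.single_eq_same] at h2
  have h3 := sInf_degree_add_blockDefect hM hB
  omega

/-- **The main step.** -/
theorem nilpotent_of_equal_height_zero [D.Normal] (hD : IsDefectGroup p M B D) {d : ℕ}
    (hd : ∀ χ ∈ B, blockHeight p B (χ : G → ℂ) = 0 → charDegree (χ : G → ℂ) = d) :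
    IsNilpotentBlock p M B := by
  classical
  have := Fintype.ofFinite G
  have hDp := isPGroup_defectGroup hM hB hD
  set N : Subgroup G := ⁅D, D⁆ with hN
  have hND : N ≤ D := Subgroup.commutator_le_self D
  have hNn : N.Normal := Subgroup.commutator_normal D D
  have := Fintype.ofFinite (G ⧸ N)
  have := Fintype.ofFinite (IrrCharacter (G ⧸ N))
  set mk := QuotientGroup.mk' N with hmk
  set Db := D.map mk with hDb
  have hab : ∀ a ∈ Db, ∀ b ∈ Db, a * b = b * a := by
    rintro _ ⟨a, ha, rfl⟩ _ ⟨b, hb, rfl⟩
    rw [← map_mul, ← map_mul]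
    exact QuotientGroup.eq.2 (by
      rw [show (a * b)⁻¹ * (b * a) = ⁅b⁻¹, a⁻¹⁆ by rw [commutatorElement_def]; group]
      exact Subgroup.commutator_mem_commutator (inv_mem hb) (inv_mem ha))
  obtain ⟨Bb, hBb, hsub, hdef⟩ :=
    QuotientDefect.exists_block_images N hM (hDp.to_le hND) hB
  have hDbar : IsDefectGroup p M Bb Db := (hdef Db).2 ⟨D, hD, rfl⟩
  have hDbn : Db.Normal := Subgroup.Normal.map inferInstance mk (QuotientGroup.mk'_surjective N)
  have hnil : IsNilpotentBlock p M Bb :=
    EqualDegreeNilp.nilpotent_of_equal_degree hM hBb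
      (fun η hη => degree_quotient hM hB hD N hND hab hd (hsub η hη)) hDbar hab
  obtain ⟨eb, hmaxb⟩ := DefectOneStar.exists_maximal_pair hM hBb hDbar
  -- the preimage of the centralizer
  set K := (Subgroup.centralizer (Db : Set (G ⧸ N))).comap mk with hK
  let f : K →* Subgroup.centralizer (Db : Set (G ⧸ N)) :=
    (mk.comp K.subtype).codRestrict _ fun k => k.2
  have hf : Function.Surjective f := by
    rintro ⟨x, hx⟩
    obtain ⟨g, rfl⟩ := QuotientGroup.mk'_surjective N x
    exact ⟨⟨g, hx⟩, rfl⟩
  have hker : IsPGroup p f.ker := by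
    refine ((hDp.to_le hND).comap_of_injective K.subtype K.subtype_injective).to_le ?_
    intro k hk
    have h1 : mk (k : G) = 1 := congrArg Subtype.val (MonoidHom.mem_ker.1 hk)
    exact (QuotientGroup.eq_one_iff (k : G)).1 h1
  have hcent : ∀ x : K, ¬ p ∣ orderOf x → (x : G) ∈ cen D := by
    intro x hx
    refine PLocal.centralizes_of_trivial_on_frattini_quotient hDp
      (by rw [Subgroup.normalizer_eq_top]; exact Subgroup.mem_top _)
      (by rw [Subgroup.orderOf_coe]; exact (hp.out.coprime_iff_not_dvd.2 hx).symm) fun k hk => ?_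
    refine CfsgLib.Fusion.commutator_le_frattini_map hDp ?_
    refine (QuotientGroup.eq_one_iff _).1 ?_
    show mk (k⁻¹ * (x : G)⁻¹ * k * (x : G)) = 1
    have h1 : mk k * mk (x : G) = mk (x : G) * mk k :=
      Subgroup.mem_centralizer_iff.1 x.2 (mk k) ⟨k, hk, rfl⟩
    rw [map_mul, map_mul, map_mul, map_inv, map_inv, mul_assoc _ (mk k) (mk (x : G)), h1]
    group
  have hker' : ∀ x : K, ¬ p ∣ orderOf x → ∀ n ∈ f.ker, Commute x n := by
    intro x hx n hn
    have h1 : (n : G) ∈ D := hND ((QuotientGroup.eq_one_iff _).1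
      (congrArg Subtype.val (MonoidHom.mem_ker.1 hn) : mk (n : G) = 1))
    exact Subtype.ext (Subgroup.mem_centralizer_iff.1 (hcent x hx) _ h1).symm
  have hCK : (cen D) ≤ K := by
    intro c hc
    refine Subgroup.mem_centralizer_iff.2 ?_
    rintro _ ⟨q, hq, rfl⟩
    rw [← map_mul, ← map_mul, Subgroup.mem_centralizer_iff.1 hc q hq]
  have hKN : K ≤ Subgroup.normalizer ((cen D : Subgroup G) : Set G) := fun x _ =>
    normalizer_le_normalizer_centralizer hM D (by
      rw [Subgroup.normalizer_eq_top]; exact Subgroup.mem_top x)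
  have hsupp : ∀ g' : Set (IrrCharacter K), IsPBlock M g' → ∀ x ∉ cen D,
      (sIdem M K g').coeff x = 0 := by
    intro g' hg' x hx
    by_cases hxK : x ∈ K
    · rw [show x = ((⟨x, hxK⟩ : K) : G) from rfl, sIdem, coeff_inclSub_of_mem]
      exact blkIdem_coeff_eq_zero_of_singular hM hg' (by
        by_contra h
        exact hx (hcent ⟨x, hxK⟩ h))
    · exact coeff_sIdem_of_not_mem g' hxK
  -- the block of the preimage and a root below it
  obtain ⟨ξ, hξ⟩ := isPBlock_nonempty hmaxb.1.1.2
  set θ : IrrCharacter K := SurjBlock.inflHom f hf ξ with hθ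
  set g' := blockOf M (θ : K → ℂ) with hg'def
  have hg' : IsPBlock M g' := isPBlock_blockOf θ
  obtain ⟨e, he, hcov⟩ := exists_covered hM hCK hsupp hg'
  -- it is a pair of `B`
  set b : MonoidAlgebra (kres M) G := (blkIdem M B : MonoidAlgebra (kres M) G) with hb
  have hbC : ∀ x ∉ cen D, b.coeff x = 0 := fun x hx => by
    by_contra h
    exact hx (mem_centralizer_of_coeff_blkIdem_ne_zero hM hDp hB h)
  have hep : IsBrauerPairOf p M B D e := by
    refine (isBrauerPairOf_iff_mul hM ⟨hDp, he⟩ hB).2 ?_
    rw [inclSub_resSub _ hbC]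
    refine (covers_mul_iff hM hCK hsupp he hg' hcov hbC (BlockSquares.blk_idem hM hB)
      (isPInv_of_isClassCoeff (isClassCoeff_center (blkIdem M B)) K)).2 ?_
    have hbK : inclSub K (resSub K b) = b := inclSub_resSub _ fun x hx => hbC x fun h => hx (hCK h)
    rw [← hbK, sIdem, ← map_mul]
    refine congrArg (inclSub K) ?_
    set w := resZ K (blkIdem M B) with hw
    have hww : w * w = w := Subtype.ext (inclSub_injective K (by
      rw [MulMemClass.coe_mul, map_mul, hw, coe_resZ, ← hb, hbK]
      exact BlockSquares.blk_idem hM hB))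
    have hlam : lam M θ w = 1 := by
      have hloc := isLocalCentral_blockSum hM hB
      have hred : redA M (blockSum B) = b := by
        ext x
        rw [hb, coeff_blkIdem]
        simp [redA, blockSum]
      rw [lam_apply θ (isLocalCentral_resSub K hloc) w
        (by rw [redA_resSub, hred, hw, coe_resZ])]
      -- the image in the quotient
      set S : Set (IrrCharacter (G ⧸ N)) := {η | infl N η ∈ B} with hS
      set P := pushGA N (blockSum B) with hP
      have hPS : P = blockSum S := by
        refine eq_of_omegaC_eq (QuotientDefect.isClassCoeff_push N (blockSum_isClassCoeff B))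
          (blockSum_isClassCoeff S) fun η => ?_
        rw [hP, QuotientDefect.omegaC_push, omegaC_blockSum, omegaC_blockSum]
        rfl
      have hPloc : IsLocalCentral M P := by
        refine ⟨QuotientDefect.isClassCoeff_push N (blockSum_isClassCoeff B), fun x => ?_⟩
        rw [hP, QuotientDefect.coeff_push]
        refine memLocalRing_sum _ _ fun h _ => ?_
        split
        · exact hloc.2 h
        · exact (lring M).zero_mem
      have := Fintype.ofFinite (Subgroup.centralizer (Db : Set (G ⧸ N)))
      have := Fintype.ofFinite K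
      have homega : omegaC (θ : K → ℂ) (resSub K (blockSum B)) =
          omegaC (ξ : (Subgroup.centralizer (Db : Set (G ⧸ N))) → ℂ) (resSub (Subgroup.centralizer (Db : Set (G ⧸ N))) P) := by
        rw [omegaC_eq, omegaC_eq, hθ]
        simp only [SurjBlock.inflHom_apply, map_one]
        congr 1
        simp only [coeff_resSub, hP, QuotientDefect.coeff_push, Finset.sum_mul, ite_mul, zero_mul]
        rw [Finset.sum_comm, ← Finset.sum_subset (Finset.subset_univ
          (Finset.univ.map (Function.Embedding.subtype (· ∈ K))))]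
        · rw [Finset.sum_map]
          refine Finset.sum_congr rfl fun k _ => ?_
          rw [Finset.sum_eq_single (f k)]
          · exact (if_pos rfl).symm
          · intro x _ hx
            rw [if_neg fun h => hx (Subtype.ext h.symm)]
          · simp
        · intro h _ hh
          refine Finset.sum_eq_zero fun x _ => if_neg fun hx => hh ?_
          exact Finset.mem_map.2 ⟨⟨h, by
              rw [hK, Subgroup.mem_comap]
              show (h : G ⧸ N) ∈ _
              rw [hx]
              exact x.2⟩,
            Finset.mem_univ _, rfl⟩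
      rw [homega]
      have hBbc : IsClassCoeff (blkIdem M Bb : MonoidAlgebra (kres M) (G ⧸ N)) :=
        isClassCoeff_center (blkIdem M Bb)
      have hwSc : IsClassCoeff (redA M P) := redA_isClassCoeff hPloc.1
      have hmul : redA M P * (blkIdem M Bb : MonoidAlgebra (kres M) (G ⧸ N)) = blkIdem M Bb := by
        have hlB := isLocalCentral_blockSum hM hBb
        have hredB : redA M (blockSum Bb) = (blkIdem M Bb : MonoidAlgebra (kres M) (G ⧸ N)) := by
          ext x
          rw [coeff_blkIdem]
          simp [redA, blockSum]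
        rw [← hredB, ← redA_mul hPloc hlB, hPS, blockSum_mul,
          Set.inter_eq_right.2 (show Bb ⊆ S from fun η hη => hsub η hη)]
      have hprod := congrArg (resSub (Subgroup.centralizer (Db : Set (G ⧸ N)))) hmul
      rw [resSub_mul hM hmaxb.1.1.1 (isPInv_of_isClassCoeff hwSc Db)
        (isPInv_of_isClassCoeff hBbc Db)] at hprod
      have h1 : lam M ξ (⟨resSub (Subgroup.centralizer (Db : Set (G ⧸ N))) (redA M P), isClassCoeff_iff_mem_center.1
          (resSub_isClassCoeff _ hwSc)⟩ * resZ (Subgroup.centralizer (Db : Set (G ⧸ N))) (blkIdem M Bb)) =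
            lam M ξ (resZ (Subgroup.centralizer (Db : Set (G ⧸ N))) (blkIdem M Bb)) := by
        congr 1
        exact Subtype.ext hprod
      have h2 : lam M ξ (resZ (Subgroup.centralizer (Db : Set (G ⧸ N))) (blkIdem M Bb)) = 1 := by
        have := (isBrauerPairOf_iff hM hmaxb.1.1 hBb hξ).1 hmaxb.1
        rw [pairVal_eq ξ (isCInv_of_isClassCoeff hBbc)] at this
        exact this
      rw [map_mul, h2, mul_one] at h1
      rw [← h1]
      exact (lam_apply ξ (isLocalCentral_resSub (Subgroup.centralizer (Db : Set (G ⧸ N))) hPloc) _ (redA_resSub (Subgroup.centralizer (Db : Set (G ⧸ N))) P)).symm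
    have h3 := congrArg Subtype.val (mul_blkIdem_of_lam_eq_one hM hww hg' (mem_blockOf_self θ) hlam)
    rw [MulMemClass.coe_mul, hw, coe_resZ, ← hb] at h3
    conv_rhs => rw [← h3]
    exact Subalgebra.mem_center_iff.1 (isClassCoeff_iff_mem_center.1
      (resSub_isClassCoeff K (isClassCoeff_center (blkIdem M B)))) _
  have hmax : IsMaximalBrauerPair p M B D e := isMaximal_of_card hM hep hD le_rfl
  refine NilpNormal.nilpotent_of_normal hM hmax fun t ht => ?_
  -- regular stabilizing elements
  have hregular : ∀ y : G, y ∈ pairStab M D e → ¬ p ∣ orderOf y → y ∈ cen D := by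
    intro y hy hyr
    have hyN : y ∈ Subgroup.normalizer (K : Set G) := by
      have : K.Normal := by
        have : (Subgroup.centralizer (Db : Set (G ⧸ N))).Normal := inferInstance
        exact Subgroup.Normal.comap this mk
      rw [Subgroup.normalizer_eq_top]
      exact Subgroup.mem_top y
    have hstab : conjSet ⟨y, hyN⟩ g' = g' := by
      refine covers_unique hM he (isPBlock_blockMap _ hg') hg' ?_ hcov
      show sIdem M (cen D) e * sIdem M K (conjSet ⟨y, hyN⟩ g') = sIdem M (cen D) e
      have e1 : sIdem M K (conjSet ⟨y, hyN⟩ g') = conjGA y (sIdem M K g') := by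
        ext z
        rw [coeff_sIdem_conjSet hM, coeff_conjGA]
      have e2 : conjGA y (sIdem M (cen D) e) = sIdem M (cen D) e := by
        ext z
        rw [coeff_conjGA]
        exact hy.2 z
      rw [e1]
      conv_lhs => rw [← e2]
      rw [← conjGA_mul, hcov, e2]
    have hyb : mk y ∈ Subgroup.normalizer
        ((Subgroup.centralizer (Db : Set (G ⧸ N))) : Set (G ⧸ N)) := by
      rw [Subgroup.normalizer_eq_top]
      exact Subgroup.mem_top _
    set ξ' := irrMap (conjAut (⟨mk y, hyb⟩ : Subgroup.normalizer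
      ((Subgroup.centralizer (Db : Set (G ⧸ N))) : Set (G ⧸ N)))⁻¹) ξ with hξ'
    have hθ' : SurjBlock.inflHom f hf ξ' =
        irrMap (conjAut (⟨y, hyN⟩ : Subgroup.normalizer (K : Set G))⁻¹) θ := by
      refine Subtype.ext (funext fun k => ?_)
      rw [hξ', hθ, SurjBlock.inflHom_apply, irrMap_apply, irrMap_apply, SurjBlock.inflHom_apply]
      refine congrArg (ξ : Subgroup.centralizer (Db : Set (G ⧸ N)) → ℂ) (Subtype.ext ?_)
      simp [f, hmk]
    have hsame : SameBlock M (θ : K → ℂ) (SurjBlock.inflHom f hf ξ' : K → ℂ) :=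
      sameBlock_of_mem hg' (mem_blockOf_self θ) (by
        rw [hθ']
        exact hstab ▸ ⟨θ, mem_blockOf_self θ, rfl⟩)
    have hmem : ξ' ∈ eb := mem_of_sameBlock hmaxb.1.1.2 hξ
      (SurjBlock.sameBlock_of_surj f hM hf hker hker' hsame)
    have hst : StabilizesBlock (Subgroup.centralizer (Db : Set (G ⧸ N))) eb (mk y) :=
      (stabilizesBlock_iff hmaxb.1.1.2 (mk y)).2 ⟨hyb,
        isPBlock_eq_of_mem (isPBlock_blockMap _ hmaxb.1.1.2) hmaxb.1.1.2 ⟨ξ, hξ, rfl⟩ hmem⟩
    have hcy : mk y ∈ Subgroup.centralizer (Db : Set (G ⧸ N)) :=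
      hnil.2 Db eb hmaxb.1 (mk y) (by rw [Subgroup.normalizer_eq_top]; exact Subgroup.mem_top _)
        hst (fun h => hyr (h.trans (orderOf_map_dvd mk y)))
    exact hcent ⟨y, hcy⟩ (by rwa [← Subgroup.orderOf_coe])
  -- the index in the stabilizer
  set T := pairStab M D e with hT
  have hDT : D ≤ T := le_pairStab D e
  obtain ⟨F, hF⟩ := exists_isBlockOver hM ⟨hDp, he⟩ hDT (centralizer_le_pairStab D e) le_rfl
  have := Fintype.ofFinite T
  obtain ⟨E, hE⟩ := exists_isDefectGroup (p := p) hM hF.1
  have hidx := not_dvd_index_over hM hF ⟨hDp, he⟩ hDT (centralizer_le_pairStab D e) le_rfl hE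
  have hEle : E.map T.subtype ≤ D := by
    obtain ⟨g, hg⟩ := exists_pair_of_le_defect hM hF ⟨hDp, he⟩ le_rfl (Subgroup.map_subtype_le E)
      hE (le_of_eq (Subgroup.comap_map_eq_self_of_injective (Subgroup.subtype_injective T) E))
    have hgB := (isBrauerPairOf_iff_of_le hM hg.2.1 (Relation.ReflTransGen.single hg) hB).2 hep
    have h := hmax.2 _ g hgB (Relation.ReflTransGen.single hg)
    exact le_sup_right.trans h.le
  obtain ⟨u, hu⟩ := exists_isPPart (p := p) hp.out t
  obtain ⟨s, hs⟩ := exists_isPPart_eq_pow (p := p) hp.out t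
  have huT : u ∈ T := hs u hu ▸ pow_mem ht s
  obtain ⟨y, huy, -, ⟨j, hj⟩, hyr⟩ := hu
  have hyT : y ∈ T := by
    rw [show y = u⁻¹ * t by rw [← huy, inv_mul_cancel_left]]
    exact mul_mem (inv_mem huT) ht
  rw [← huy]
  refine mul_mem ?_ (Subgroup.mem_sup_right (hregular y hyT hyr))
  set H := ((cen D).subgroupOf T ⊔ D.subgroupOf T) with hH
  have hHn : H.Normal := by
    have : (cen D).Normal := inferInstance
    have h1 : ((cen D).subgroupOf T).Normal := Subgroup.Normal.subgroupOf this T
    have h2 : (D.subgroupOf T).Normal := Subgroup.Normal.subgroupOf inferInstance T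
    exact Subgroup.sup_normal _ _
  have hle : (cen D).subgroupOf T ⊔ E ≤ H := by
    refine sup_le le_sup_left ?_
    intro x hx
    exact Subgroup.mem_sup_right (show (x : G) ∈ D from hEle ⟨x, hx, rfl⟩)
  have hnd : ¬ p ∣ H.index := fun h => hidx (h.trans (Subgroup.index_dvd_of_le hle))
  have huH : (⟨u, huT⟩ : T) ∈ H := by
    rw [← QuotientGroup.eq_one_iff]
    rw [← orderOf_eq_one_iff]
    have hd1 : orderOf ((⟨u, huT⟩ : T) : T ⧸ H) ∣ p ^ j := by
      have := orderOf_map_dvd (QuotientGroup.mk' H) (⟨u, huT⟩ : T)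
      rwa [Subgroup.orderOf_mk, hj] at this
    have hd2 : orderOf ((⟨u, huT⟩ : T) : T ⧸ H) ∣ H.index := orderOf_dvd_natCard _
    exact Nat.eq_one_of_dvd_coprimes
      ((hp.out.coprime_iff_not_dvd.2 hnd).pow_left j) hd1 hd2
  have hmap := Subgroup.mem_map_of_mem T.subtype huH
  rw [hH, Subgroup.map_sup] at hmap
  exact (sup_le ((Subgroup.map_comap_le _ _).trans le_sup_right)
    ((Subgroup.map_comap_le _ _).trans le_sup_left) :
      _ ≤ D ⊔ cen D) hmap

end CfsgLib.BlockA.EqualHeightZeroNormal
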