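import Cfsg.Agent.Lib.BlockA.BlockNilp
import Cfsg.Agent.Lib.Block.KerNormal
import Cfsg.Agent.Lib.Transfer.Frobenius
import Cfsg.Prelude.Def_BlockRank

/-! The principal block is nilpotent exactly when its `p`-regular rank is one. -/

set_option autoImplicit false
set_option linter.unusedSectionVars false
set_option maxHeartbeats 1000000

namespace CfsgLib.BlockA

open Cfsg CfsgLib.Block MonoidAlgebra
open scoped ComplexConjugate

universe u

variable {G : Type u} [Group G] [Finite G] {p : ℕ} {M : Ideal AlgInt} [M.IsPrime]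

variable (hM : IsPModular p M)
include hM

theorem nilpotent_principal_iff [Fact p.Prime] :
    IsNilpotentBlock p M (principalBlock M G) ↔ HasNormalPComplement p G := by
  rw [CfsgLib.Transfer.hasNormalPComplement_iff_frobenius]
  constructor
  · intro h D hD g hg hgp
    have hgN := normalizer_le_normalizer_centralizer hM D hg
    refine h.2 D _ (isBrauerPairOf_principal hM hD) g hg
      ((stabilizesBlock_iff isPBlock_principalBlock g).2
        ⟨hgN, blockMap_principalBlock _⟩) (hM.1.coprime_iff_not_dvd.1 hgp.symm)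
  · exact fun h => ⟨isPBlock_principalBlock, fun Q e hQe x hx _ hreg =>
      h Q hQe.1.1 x hx (hM.1.coprime_iff_not_dvd.2 hreg).symm⟩

theorem blockRank_principal_of_complement [Fact p.Prime] (h : HasNormalPComplement p G) :
    blockRank p (principalBlock M G) = 1 := by
  classical
  have := Fintype.ofFinite G
  obtain ⟨N, hN, hc, hq⟩ := CfsgLib.Transfer.hasNormalPComplement_iff_exists.1 h
  have := Fintype.ofFinite N
  have hidx : ∃ k : ℕ, N.index = p ^ k := by
    obtain ⟨k, hk⟩ := hq.exists_card_eq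
    exact ⟨k, by rw [Subgroup.index_eq_card, hk]⟩
  have hNp : ¬ p ∣ Nat.card N := hM.1.coprime_iff_not_dvd.1 hc.symm
  set v : G → ℂ := pRegularPart p (fun _ : G => (1 : ℂ)) with hv
  have hone : pRegularPart p ((trivIrr (G := G)) : G → ℂ) = v := rfl
  have hv0 : v ≠ 0 := fun h => by
    have := congrFun h 1
    simp [hv, pRegularPart, IsPRegular, hM.1.ne_one] at this
  have hspan : Submodule.span ℂ
      ((fun χ : IrrCharacter G => pRegularPart p (χ : G → ℂ)) '' principalBlock M G) =
      Submodule.span ℂ {v} := by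
    refine le_antisymm (Submodule.span_le.2 ?_) (Submodule.span_mono ?_)
    · rintro _ ⟨χ, hχ, rfl⟩
      refine Submodule.mem_span_singleton.2 ⟨(χ : G → ℂ) 1, funext fun g => ?_⟩
      simp only [hv, pRegularPart, Pi.smul_apply, smul_eq_mul]
      split_ifs with hg
      · rw [mul_one, ← le_kerIrr_of_mem_principalBlock hM hNp hχ
          (mem_of_regular_of_index hM hidx hg)]
      · rw [mul_zero]
    · rintro _ rfl
      exact ⟨trivIrr, one_mem_principalBlock, hone⟩
  rw [blockRank, hspan, finrank_span_singleton hv0]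

theorem complement_of_blockRank_principal [Fact p.Prime]
    (h : blockRank p (principalBlock M G) = 1) : HasNormalPComplement p G := by
  classical
  have := Fintype.ofFinite G
  set S := Submodule.span ℂ
    ((fun χ : IrrCharacter G => pRegularPart p (χ : G → ℂ)) '' principalBlock M G) with hS
  have hmem : ∀ χ ∈ principalBlock M G, pRegularPart p ((χ : IrrCharacter G) : G → ℂ) ∈ S :=
    fun χ hχ => Submodule.subset_span ⟨χ, hχ, rfl⟩
  obtain ⟨w, hw0, hw⟩ := finrank_eq_one_iff'.1 (show Module.finrank ℂ S = 1 from h)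
  have hreg : ∀ χ ∈ principalBlock M G, ∀ g : G, ¬ p ∣ orderOf g →
      ((χ : IrrCharacter G) : G → ℂ) g = (χ : G → ℂ) 1 := by
    intro χ hχ g hg
    obtain ⟨a, ha⟩ := hw ⟨_, hmem _ (one_mem_principalBlock (G := G))⟩
    obtain ⟨b, hb⟩ := hw ⟨_, hmem χ hχ⟩
    have ha' := fun t : G => congrFun (congrArg Subtype.val ha) t
    have hb' := fun t : G => congrFun (congrArg Subtype.val hb) t
    have h1 : IsPRegular p (1 : G) := by simp [IsPRegular, hM.1.ne_one]
    have a1 := ha' 1
    have ag := ha' g
    have b1 := hb' 1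
    have bg := hb' g
    simp only [Submodule.coe_smul, Pi.smul_apply, smul_eq_mul, pRegularPart, if_pos h1,
      if_pos (show IsPRegular p g from hg), trivIrr] at a1 ag b1 bg
    have ha0 : a ≠ 0 := fun h0 => by rw [h0, zero_mul] at a1; exact zero_ne_one a1
    rw [← bg, ← b1, mul_left_cancel₀ ha0 (ag.trans a1.symm)]
  set K : Subgroup G := ⨅ χ : principalBlock M G, kerIrr (χ : IrrCharacter G) with hK
  have hKn : K.Normal := Subgroup.normal_iInf_normal fun χ => inferInstance
  have hKmem : ∀ g : G, ¬ p ∣ orderOf g → g ∈ K := fun g hg =>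
    Subgroup.mem_iInf.2 fun χ => hreg χ.1 χ.2 g hg
  have hKp : ¬ p ∣ Nat.card K := by
    intro hd
    obtain ⟨x, hx⟩ := exists_prime_orderOf_dvd_card' p hd
    have hx' : p ∣ orderOf (x : G) := by rw [Subgroup.orderOf_coe, hx]
    have h0 := blockCoeff_eq_zero_of_singular hM
      (isPBlock_principalBlock (M := M) (G := G)) hx'
    rw [blockCoeff, mul_eq_zero,
      or_iff_right (inv_ne_zero CfsgLib.Char.natCard_ne_zero),
      finsum_mem_eq_finite_toFinset_sum _ (principalBlock M G).toFinite] at h0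
    have e : ∀ χ ∈ (principalBlock M G).toFinite.toFinset,
        ((χ : IrrCharacter G) : G → ℂ) 1 * conj ((χ : G → ℂ) x) =
          ((charDegree (χ : G → ℂ) ^ 2 : ℕ) : ℂ) := by
      intro χ hχ
      have hk : (χ : G → ℂ) x = (χ : G → ℂ) 1 :=
        Subgroup.mem_iInf.1 x.2 ⟨χ, by simpa using hχ⟩
      rw [hk, ← charDegree_cast (CfsgLib.Char.irr_isCharacter χ.2), Complex.conj_natCast]
      push_cast
      ring
    rw [Finset.sum_congr rfl e, ← Nat.cast_sum, Nat.cast_eq_zero, Finset.sum_eq_zero_iff] at h0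
    exact charDegree_ne_zero (trivIrr (G := G)).2 (pow_eq_zero_iff two_ne_zero |>.1
      (h0 trivIrr ((Set.Finite.mem_toFinset _).2 one_mem_principalBlock)))
  refine CfsgLib.Transfer.hasNormalPComplement_iff_exists.2
    ⟨K, hKn, (hM.1.coprime_iff_not_dvd.2 hKp).symm, fun q => ?_⟩
  obtain ⟨g, rfl⟩ := QuotientGroup.mk_surjective q
  obtain ⟨k, m, hm, hord⟩ := Nat.exists_eq_pow_mul_and_not_dvd (orderOf_pos g).ne' p hM.1.ne_one
  refine ⟨k, ?_⟩
  rw [← QuotientGroup.mk_pow, QuotientGroup.eq_one_iff]
  refine hKmem _ ?_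
  rw [orderOf_pow' g (pow_ne_zero k hM.1.ne_zero), hord, Nat.gcd_mul_right_left,
    Nat.mul_div_cancel_left _ (pow_pos hM.1.pos k)]
  exact hm

end CfsgLib.BlockA
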