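import Cfsg.Agent.Lib.Block.DefectOrder
import Cfsg.Agent.Lib.Char.Inner
import Cfsg.Agent.Lib.BlockA.CliffordBasic
import Cfsg.Agent.Lib.Block.Induced
import Mathlib.GroupTheory.Perm.Cycle.Type

/-! Real 2-blocks: a block of full defect with a member real on the regular classes is principal. -/

set_option autoImplicit false
set_option linter.unusedSectionVars false

namespace CfsgLib.BlockA

open Cfsg CfsgLib.Block
open scoped ComplexConjugate

universe u

variable {G : Type u} [Group G] [Finite G] {M : Ideal AlgInt}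

/-- The central character is real modulo `M` on the elements of odd order. -/
def RealOnRegular (M : Ideal AlgInt) (χ : G → ℂ) : Prop :=
  ∀ g : G, ¬ 2 ∣ orderOf g → MemLocalIdeal M (centralChar χ g⁻¹ - centralChar χ g)

theorem centralizer_inv_eq (g : G) :
    Subgroup.centralizer ({g⁻¹} : Set G) = Subgroup.centralizer ({g} : Set G) := by
  ext x
  simp only [Subgroup.mem_centralizer_singleton_iff]
  exact ⟨fun h => (Commute.inv_left_iff.1 h.symm).symm,
    fun h => (Commute.inv_left_iff.2 h.symm).symm⟩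

theorem centralChar_trivIrr (g : G) :
    centralChar ((trivIrr : IrrCharacter G) : G → ℂ) g =
      ((Subgroup.centralizer ({g} : Set G)).index : ℂ) := by
  simp [centralChar, trivIrr]

theorem realOnRegular_trivIrr [M.IsPrime] :
    RealOnRegular M ((trivIrr : IrrCharacter G) : G → ℂ) := fun g _ => by
  rw [centralChar_trivIrr, centralChar_trivIrr, centralizer_inv_eq, sub_self]
  exact memLocalIdeal_zero

theorem realOnRegular_of_real [M.IsPrime] {χ : IrrCharacter G}
    (h : ∀ g : G, ((χ : G → ℂ) g).im = 0) : RealOnRegular M (χ : G → ℂ) := fun g _ => by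
  have h1 : (χ : G → ℂ) g⁻¹ = (χ : G → ℂ) g := by
    rw [← irr_conj_eq χ.2]
    exact Complex.conj_eq_iff_im.2 (h g)
  simp only [centralChar, centralizer_inv_eq, h1, sub_self]
  exact memLocalIdeal_zero

variable [M.IsPrime] (hM : IsPModular 2 M)
include hM

/-- Block membership is decided on the regular classes. -/
theorem mem_of_regular_congr {B : Set (IrrCharacter G)} (hB : IsPBlock M B)
    {χ ψ : IrrCharacter G} (hχ : χ ∈ B)
    (h : ∀ g : G, ¬ 2 ∣ orderOf g →
      MemLocalIdeal M (centralChar (ψ : G → ℂ) g - centralChar (χ : G → ℂ) g)) :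
    ψ ∈ B := by
  have : Finite (ConjClasses G) := Finite.of_surjective ConjClasses.mk ConjClasses.mk_surjective
  have := Fintype.ofFinite (ConjClasses G)
  rw [← algHom_blkIdem_eq_one_iff hM hB] at hχ ⊢
  rw [← hχ, algHom_eq_sum_classes (lam M ψ), algHom_eq_sum_classes (lam M χ)]
  refine Finset.sum_congr rfl fun C _ => ?_
  by_cases hC : 2 ∣ orderOf C.out
  · rw [blkIdem_coeff_eq_zero_of_singular hM hB hC, zero_mul, zero_mul]
  · rw [lam_classSumZ, lam_classSumZ, (redC_eq_iff (memLocalRing_centralChar ψ.2 _)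
      (memLocalRing_centralChar χ.2 _)).2 (h _ hC)]

omit hM in
theorem realOnRegular_congr {χ ψ : IrrCharacter G}
    (h : SameBlock M (χ : G → ℂ) (ψ : G → ℂ)) (hχ : RealOnRegular M (χ : G → ℂ)) :
    RealOnRegular M (ψ : G → ℂ) := fun g hg => by
  have h1 := memLocalIdeal_sub (memLocalIdeal_add (hχ g hg) (h g)) (h g⁻¹)
  convert h1 using 1
  ring

/-- The coefficients of the idempotent of a block real on regular classes are symmetrical. -/
theorem blockCoeff_inv {B : Set (IrrCharacter G)} (hB : IsPBlock M B) {χ : IrrCharacter G}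
    (hχ : χ ∈ B) (hreal : RealOnRegular M (χ : G → ℂ)) (g : G) :
    blockCoeff B g⁻¹ = blockCoeff B g := by
  classical
  let τ : IrrCharacter G → IrrCharacter G := fun ψ =>
    ⟨fun x => conj ((ψ : G → ℂ) x), CfsgLib.Char.isIrrCharacter_conj ψ.2⟩
  have hτ : ∀ ψ, τ (τ ψ) = ψ := fun ψ => Subtype.ext (funext fun x => Complex.conj_conj _)
  have hval : ∀ (ψ : IrrCharacter G) (x : G),
      (τ ψ : G → ℂ) x = (ψ : G → ℂ) x⁻¹ := fun ψ x => irr_conj_eq ψ.2 x
  have hmem : ∀ ψ ∈ B, τ ψ ∈ B := by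
    intro ψ hψ
    refine mem_of_regular_congr hM hB hψ fun x hx => ?_
    have h1 : centralChar (τ ψ : G → ℂ) x = centralChar (ψ : G → ℂ) x⁻¹ := by
      simp only [centralChar, hval, centralizer_inv_eq, inv_one]
    rw [h1]
    exact realOnRegular_congr (sameBlock_of_mem hB hχ hψ) hreal x hx
  rw [blockCoeff, blockCoeff, finsum_mem_eq_finite_toFinset_sum _ B.toFinite,
    finsum_mem_eq_finite_toFinset_sum _ B.toFinite]
  congr 1
  refine Finset.sum_bij' (fun ψ _ => τ ψ) (fun ψ _ => τ ψ)
    (fun ψ hψ => B.toFinite.mem_toFinset.2 (hmem ψ (B.toFinite.mem_toFinset.1 hψ)))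
    (fun ψ hψ => B.toFinite.mem_toFinset.2 (hmem ψ (B.toFinite.mem_toFinset.1 hψ)))
    (fun ψ _ => hτ ψ) (fun ψ _ => hτ ψ) fun ψ _ => ?_
  rw [hval, hval, inv_one]

/-- Two central characters real on regular classes and congruent on the real regular classes agree
on symmetrical central elements supported on regular elements. -/
theorem lam_eq_lam_of_real {ψ ψ' : IrrCharacter G} (hψ : RealOnRegular M (ψ : G → ℂ))
    (hψ' : RealOnRegular M (ψ' : G → ℂ))
    {z : Subalgebra.center (kres M) (MonoidAlgebra (kres M) G)}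
    (hsing : ∀ g : G, 2 ∣ orderOf g → (z : MonoidAlgebra (kres M) G).coeff g = 0)
    (hsym : ∀ g : G, (z : MonoidAlgebra (kres M) G).coeff g⁻¹ =
      (z : MonoidAlgebra (kres M) G).coeff g)
    (h : ∀ g : G, ¬ 2 ∣ orderOf g → IsConj g g⁻¹ →
      MemLocalIdeal M (centralChar (ψ : G → ℂ) g - centralChar (ψ' : G → ℂ) g)) :
    lam M ψ z = lam M ψ' z := by
  classical
  have : Finite (ConjClasses G) := Finite.of_surjective ConjClasses.mk ConjClasses.mk_surjective
  have := Fintype.ofFinite (ConjClasses G)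
  have := charP_kres hM
  rw [← sub_eq_zero, algHom_eq_sum_classes (lam M ψ), algHom_eq_sum_classes (lam M ψ'),
    ← Finset.sum_sub_distrib]
  set F : G → kres M := fun g => (z : MonoidAlgebra (kres M) G).coeff g *
    lam M ψ (classSumZ (kres M) g) - (z : MonoidAlgebra (kres M) G).coeff g *
      lam M ψ' (classSumZ (kres M) g) with hF
  have hFclass : ∀ a b : G, IsConj a b → F a = F b := by
    intro a b hab
    have e : classSumZ (kres M) a = classSumZ (kres M) b :=
      Subtype.ext (classSum_eq_of_isConj hab)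
    simp only [hF, e, coeff_eq_of_isConj (isClassCoeff_center z) hab]
  have hFinv : ∀ a : G, F a⁻¹ = F a := by
    intro a
    by_cases ha : 2 ∣ orderOf a
    · simp only [hF]
      rw [hsing a ha, hsing a⁻¹ (by rwa [orderOf_inv])]
      simp
    · simp only [hF, hsym, lam_classSumZ]
      rw [(redC_eq_iff (memLocalRing_centralChar ψ.2 _) (memLocalRing_centralChar ψ.2 _)).2
        (hψ a ha), (redC_eq_iff (memLocalRing_centralChar ψ'.2 _)
          (memLocalRing_centralChar ψ'.2 _)).2 (hψ' a ha)]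
  change ∑ C : ConjClasses G, F C.out = 0
  refine Finset.sum_involution (fun C _ => ConjClasses.mk (C.out)⁻¹) (fun C _ => ?_)
    (fun C _ hne => ?_) (fun C _ => Finset.mem_univ _) (fun C _ => ?_)
  · have h1 : IsConj (ConjClasses.mk (C.out)⁻¹).out (C.out)⁻¹ :=
      ConjClasses.mk_eq_mk_iff_isConj.1 (Quotient.out_eq _)
    rw [hFclass _ _ h1, hFinv]
    exact CharTwo.add_self_eq_zero (R := kres M) _
  · intro heq
    apply hne
    have hreal : IsConj C.out (C.out)⁻¹ :=
      ConjClasses.mk_eq_mk_iff_isConj.1 ((Quotient.out_eq C).trans heq.symm)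
    simp only [hF]
    by_cases hC : 2 ∣ orderOf C.out
    · rw [hsing _ hC]; simp
    · rw [lam_classSumZ, lam_classSumZ, (redC_eq_iff (memLocalRing_centralChar ψ.2 _)
        (memLocalRing_centralChar ψ'.2 _)).2 (h _ hC hreal), sub_self]
  · have h1 : IsConj (ConjClasses.mk (C.out)⁻¹).out (C.out)⁻¹ :=
      ConjClasses.mk_eq_mk_iff_isConj.1 (Quotient.out_eq _)
    obtain ⟨c, hc⟩ := isConj_iff.1 h1
    refine Eq.trans (ConjClasses.mk_eq_mk_iff_isConj.2 (isConj_iff.2 ⟨c, ?_⟩)) (Quotient.out_eq C)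
    rw [← inv_inj]
    simpa [mul_assoc] using hc

omit hM in
/-- A real class of odd size of an element of odd order is trivial. -/
theorem eq_one_of_real_of_odd_index {g : G} (hg : ¬ 2 ∣ orderOf g) (hreal : IsConj g g⁻¹)
    (hodd : ¬ 2 ∣ (Subgroup.centralizer ({g} : Set G)).index) : g = 1 := by
  classical
  have := Fintype.ofFinite G
  let X := (ConjClasses.mk g).carrier
  have hinv : ∀ x : X, (x : G)⁻¹ ∈ X := by
    intro x
    rw [ConjClasses.mem_carrier_iff_mk_eq]
    have hx := ConjClasses.mk_eq_mk_iff_isConj.1 (ConjClasses.mem_carrier_iff_mk_eq.1 x.2)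
    obtain ⟨c, hc⟩ := isConj_iff.1 hx
    have h2 : IsConj (x : G)⁻¹ g⁻¹ := isConj_iff.2 ⟨c, by rw [← hc]; group⟩
    exact ConjClasses.mk_eq_mk_iff_isConj.2 (h2.trans hreal.symm)
  let σ : Equiv.Perm X := Function.Involutive.toPerm (fun x => ⟨(x : G)⁻¹, hinv x⟩)
    fun x => Subtype.ext (inv_inv _)
  have := Fintype.ofFinite X
  obtain ⟨a, ha⟩ := Equiv.Perm.exists_fixed_point_of_prime (p := 2) (n := 1) (σ := σ)
    (by rw [← Nat.card_eq_fintype_card, CfsgLib.Char.natCard_carrier_eq_index]; exact hodd)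
    (Equiv.ext fun x => by
      rw [pow_one, sq, Equiv.Perm.mul_apply, Equiv.Perm.one_apply]
      exact Subtype.ext (inv_inv _))
  have h1 : (a : G)⁻¹ = a := congrArg Subtype.val ha
  have hconj : IsConj g (a : G) := (ConjClasses.mk_eq_mk_iff_isConj.1
    (ConjClasses.mem_carrier_iff_mk_eq.1 a.2)).symm
  have ho : ¬ 2 ∣ orderOf (a : G) := by
    obtain ⟨c, hc⟩ := isConj_iff.1 hconj
    rw [← hc, show orderOf (c * g * c⁻¹) = orderOf g from
      orderOf_injective (MulAut.conj c).toMonoidHom (MulAut.conj c).injective g]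
    exact hg
  have h2 : (a : G) ^ 2 = 1 := by
    rw [sq]; conv_lhs => enter [1]; rw [← h1]
    exact inv_mul_cancel _
  rcases (Nat.dvd_prime Nat.prime_two).1 (orderOf_dvd_of_pow_eq_one h2) with h3 | h3
  · rw [orderOf_eq_one_iff] at h3
    obtain ⟨c, hc⟩ := isConj_iff.1 hconj
    rw [h3] at hc
    exact mul_inv_eq_one.1 hc |> fun h => by simpa using h
  · exact absurd (h3 ▸ dvd_rfl) ho

/-- **A 2-block of full defect with a member real on the regular classes is principal.** -/
theorem eq_principalBlock_of_real {B : Set (IrrCharacter G)} (hB : IsPBlock M B)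
    (hdef : blockDefect 2 B = (Nat.card G).factorization 2) {χ : IrrCharacter G} (hχ : χ ∈ B)
    (hreal : RealOnRegular M (χ : G → ℂ)) : B = principalBlock M G := by
  obtain ⟨χ₀, hχ₀, h0⟩ := exists_height_zero hM hB
  have hd0 : (charDegree (χ₀ : G → ℂ)).factorization 2 = 0 := by
    rw [(blockHeight_eq_zero_iff hM hB hχ₀).1 h0]
    have := sInf_degree_add_blockDefect hM hB
    omega
  have hkey : lam M χ₀ (blkIdem M B) = lam M (trivIrr : IrrCharacter G) (blkIdem M B) := by
    refine lam_eq_lam_of_real hM (realOnRegular_congr (sameBlock_of_mem hB hχ hχ₀) hreal)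
      realOnRegular_trivIrr (fun g => blkIdem_coeff_eq_zero_of_singular hM hB)
      (fun g => by rw [coeff_blkIdem, coeff_blkIdem, blockCoeff_inv hM hB hχ hreal])
      fun g hg hconj => ?_
    rcases eq_or_ne g 1 with rfl | hg1
    · rw [centralChar_trivIrr, centralChar, mul_div_assoc,
        div_self (CfsgLib.Char.irr_apply_one_ne_zero χ₀.2), mul_one, sub_self]
      exact memLocalIdeal_zero
    have h2 : 2 ∣ (Subgroup.centralizer ({g} : Set G)).index := by
      by_contra h2
      exact hg1 (eq_one_of_real_of_odd_index hg hconj h2)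
    refine memLocalIdeal_sub ?_ ?_
    · by_contra h3
      have h4 := index_le_degree hM hB hχ₀ h3
      rw [hd0, Nat.le_zero] at h4
      exact absurd h4 (Nat.Prime.factorization_pos_of_dvd Nat.prime_two
        Subgroup.index_ne_zero_of_finite h2).ne'
    · rw [centralChar_trivIrr]
      exact (memLocalIdeal_natCast_iff hM _).2 h2
  rw [(algHom_blkIdem_eq_one_iff hM hB χ₀).2 hχ₀, eq_comm,
    algHom_blkIdem_eq_one_iff hM hB] at hkey
  exact isPBlock_eq_of_mem hB isPBlock_principalBlock hkey one_mem_principalBlock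

omit hM in
/-- A regular element conjugate to its inverse lies in every normal subgroup of odd index. -/
theorem mem_of_real_of_odd_index (N : Subgroup G) [N.Normal] (hN : Odd N.index) {g : G}
    (hg : ¬ 2 ∣ orderOf g) (hreal : IsConj g g⁻¹) : g ∈ N := by
  obtain ⟨x, hx⟩ := isConj_iff.1 hreal
  obtain ⟨k, hk⟩ : ∃ k, g ^ (2 * k) = g := by
    obtain ⟨j, hj⟩ : ∃ j, orderOf g = 2 * j + 1 := ⟨orderOf g / 2, by omega⟩
    refine ⟨j + 1, ?_⟩
    rw [show 2 * (j + 1) = orderOf g + 1 by omega, pow_add, pow_orderOf_eq_one, one_mul, pow_one]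
  -- some 2-power order element inverts `g`
  obtain ⟨e, m, hm, hord⟩ := Nat.exists_eq_pow_mul_and_not_dvd (orderOf_pos x).ne' 2 (by norm_num)
  have hpow : ∀ i : ℕ, x ^ (2 * i + 1) * g * (x ^ (2 * i + 1))⁻¹ = g⁻¹ := by
    intro i
    induction i with
    | zero => simpa using hx
    | succ i ih =>
      rw [show 2 * (i + 1) + 1 = 1 + (1 + (2 * i + 1)) by ring, pow_add, pow_add, pow_one]
      calc x * (x * x ^ (2 * i + 1)) * g * (x * (x * x ^ (2 * i + 1)))⁻¹
          = x * (x * (x ^ (2 * i + 1) * g * (x ^ (2 * i + 1))⁻¹) * x⁻¹) * x⁻¹ := by group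
        _ = x * (x * g * x⁻¹)⁻¹ * x⁻¹ := by rw [ih]; group
        _ = g⁻¹ := by rw [hx, inv_inv, hx]
  obtain ⟨i, rfl⟩ : ∃ i, m = 2 * i + 1 := ⟨m / 2, by omega⟩
  set y := x ^ (2 * i + 1)
  have hy : y ∈ N := by
    have h1 : y ^ 2 ^ e = 1 := by
      rw [← pow_mul, mul_comm, ← hord]
      exact pow_orderOf_eq_one x
    have h2 : orderOf (y : G ⧸ N) ∣ 2 ^ e := orderOf_dvd_of_pow_eq_one (by
      rw [← QuotientGroup.mk_pow, h1, QuotientGroup.mk_one])
    have h3 : orderOf (y : G ⧸ N) ∣ N.index := by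
      rw [Subgroup.index_eq_card]; exact orderOf_dvd_natCard _
    have h4 := Nat.dvd_gcd h2 h3
    rw [(Nat.Coprime.pow_left e (Nat.coprime_two_left.2 hN)).gcd_eq_one, Nat.dvd_one,
      orderOf_eq_one_iff, QuotientGroup.eq_one_iff] at h4
    exact h4
  have h5 : g * y * g⁻¹ * y⁻¹ = g ^ 2 := by
    rw [show g * y * g⁻¹ * y⁻¹ = g * (y * g * y⁻¹)⁻¹ by group, hpow i, inv_inv, sq]
  have h6 : g ^ 2 ∈ N := by
    rw [← h5]
    exact N.mul_mem (Subgroup.Normal.conj_mem inferInstance y hy g) (N.inv_mem hy)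
  rw [← hk, pow_mul]
  exact N.pow_mem h6 k

omit hM in
/-- The central character of a character at a normal subgroup, through a constituent. -/
theorem centralChar_eq_inducedCentralChar [Fintype G] (N : Subgroup G) [N.Normal] [Fintype N]
    (χ : IrrCharacter G) (θ : IrrCharacter N)
    (hover : Cfsg.classInner (fun n : N => (χ : G → ℂ) n) (θ : N → ℂ) ≠ 0) {g : G} (hg : g ∈ N) :
    centralChar (χ : G → ℂ) g = inducedCentralChar N (θ : N → ℂ) g := by
  classical
  have := Fintype.ofFinite (IrrCharacter N)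
  set S : Finset N := Finset.univ.filter fun h : N => IsConj g (h : G) with hS
  have hIC : ∀ η : IrrCharacter N, inducedCentralChar N (η : N → ℂ) g =
      (∑ h ∈ S, (η : N → ℂ) h) / (η : N → ℂ) 1 := by
    intro η
    rw [inducedCentralChar, finsum_mem_eq_toFinset_sum _, Finset.sum_div]
    refine Finset.sum_congr ?_ fun _ _ => rfl
    ext h
    simp [hS]
  have hcard : (S.card : ℂ) = ((Subgroup.centralizer ({g} : Set G)).index : ℂ) := by
    rw [← CfsgLib.Char.natCard_carrier_eq_index, Nat.card_eq_card_toFinset]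
    congr 1
    refine Finset.card_bij (fun h _ => (h : G)) (fun h hh => ?_)
      (fun a _ b _ hab => Subtype.ext hab) (fun y hy => ?_)
    · rw [Set.mem_toFinset, ConjClasses.mem_carrier_iff_mk_eq]
      exact ConjClasses.mk_eq_mk_iff_isConj.2 (Finset.mem_filter.1 hh).2.symm
    · rw [Set.mem_toFinset, ConjClasses.mem_carrier_iff_mk_eq,
        ConjClasses.mk_eq_mk_iff_isConj] at hy
      obtain ⟨c, hc⟩ := isConj_iff.1 hy.symm
      exact ⟨⟨y, hc ▸ Subgroup.Normal.conj_mem inferInstance g hg c⟩,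
        Finset.mem_filter.2 ⟨Finset.mem_univ _, hy.symm⟩, rfl⟩
  have hinv : ∀ η : IrrCharacter N, Cfsg.classInner (fun n : N => (χ : G → ℂ) n) (η : N → ℂ) ≠ 0 →
      (∑ h ∈ S, (η : N → ℂ) h) = inducedCentralChar N (θ : N → ℂ) g * (η : N → ℂ) 1 := by
    intro η hη
    obtain ⟨c, hc⟩ := exists_conj_of_constituents N χ.2 η.2 θ.2 hη hover
    have hsum : (∑ h ∈ S, (η : N → ℂ) h) = ∑ h ∈ S, (θ : N → ℂ) h := by
      rw [Finset.sum_congr rfl fun h _ => congrFun hc h]
      refine Finset.sum_equiv (MulAut.conjNormal c).toEquiv (fun h => ?_) fun h _ => rfl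
      simp only [hS, Finset.mem_filter, Finset.mem_univ, true_and]
      change IsConj g (h : G) ↔ IsConj g ((MulAut.conjNormal c h : N) : G)
      rw [MulAut.conjNormal_apply]
      exact ⟨fun h1 => h1.trans (isConj_iff.2 ⟨c, rfl⟩),
        fun h1 => h1.trans (isConj_iff.2 ⟨c, rfl⟩).symm⟩
    have h1 : (η : N → ℂ) 1 = (θ : N → ℂ) 1 := by
      simpa using congrFun hc 1
    rw [hsum, hIC θ, h1, div_mul_cancel₀ _ (CfsgLib.Char.irr_apply_one_ne_zero θ.2)]
  have hcl : IsClassFunction N (fun n : N => (χ : G → ℂ) n) :=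
    CfsgLib.Char.isCharacter_isClassFunction
      (CfsgLib.Char.isCharacter_restrict (CfsgLib.Char.irr_isCharacter χ.2) N)
  have hsum : ∑ h ∈ S, (χ : G → ℂ) (h : G) =
      inducedCentralChar N (θ : N → ℂ) g * (χ : G → ℂ) 1 := by
    have h2 : (χ : G → ℂ) 1 = ∑ η : IrrCharacter N,
        Cfsg.classInner (fun n : N => (χ : G → ℂ) n) (η : N → ℂ) * (η : N → ℂ) 1 := by
      have := CfsgLib.Char.classFunction_apply_eq_sum hcl (1 : N)
      simpa using this
    rw [Finset.sum_congr rfl fun h _ => CfsgLib.Char.classFunction_apply_eq_sum hcl h,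
      Finset.sum_comm, h2, Finset.mul_sum]
    refine Finset.sum_congr rfl fun η _ => ?_
    rw [← Finset.mul_sum]
    rcases eq_or_ne (Cfsg.classInner (fun n : N => (χ : G → ℂ) n) (η : N → ℂ)) 0 with h0 | h0
    · rw [h0]; ring
    · rw [hinv η h0]; ring
  rw [centralChar, ← hcard]
  rw [Finset.sum_congr rfl (g := fun _ => (χ : G → ℂ) g) fun h hh =>
    (CfsgLib.Char.isClassFunction_isConj (CfsgLib.Char.irr_isClassFunction χ.2)
      (Finset.mem_filter.1 hh).2).symm, Finset.sum_const, nsmul_eq_mul] at hsum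
  rw [hsum, mul_div_assoc, div_self (CfsgLib.Char.irr_apply_one_ne_zero χ.2), mul_one]

end CfsgLib.BlockA
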