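import Cfsg.Agent.Lib.BlockA.SubsectionCount
import Cfsg.Agent.Lib.BlockA.TrivialSubsection
import Cfsg.Agent.Lib.BlockA.PrincipalNilp
import Cfsg.Agent.Lib.BlockA.RankOne
import Cfsg.Agent.Lib.BlockA.RealBlock
import Cfsg.Agent.Lib.BlockB.PEltValue
import Cfsg.Agent.Lib.BlockB.SqrtCount
import Cfsg.Agent.Lib.BlockA.InvolutionFS
import Cfsg.Agent.Lib.Invol.PrincipalBlock
import Cfsg.Agent.Lib.Block.DefectOneParam
import Cfsg.Agent.Lib.Char.Galois
import Cfsg.Agent.Lib.Solvable.PCore
import Cfsg.Agent.S0936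
import Cfsg.Agent.S0947

/-!
Principal blocks with few characters: the count over the classes of `p`-elements, and the column of
a `p`-element that represents the only nontrivial class with a `p`-nilpotent centralizer.
-/

set_option autoImplicit false
set_option linter.unusedSectionVars false
set_option maxHeartbeats 1000000

namespace CfsgLib.BlockA.FewPrincipal

open Cfsg CfsgLib.Block CfsgLib.BlockA CfsgLib.BlockB
open CfsgLib.Char (irr_isCharacter)
open scoped ComplexConjugate

universe u

variable {G : Type u} [Group G] [Fintype G] {p : ℕ} {M : Ideal AlgInt} [M.IsPrime]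

/-- The dual of an irreducible character. -/
noncomputable def dual (χ : IrrCharacter G) : IrrCharacter G :=
  ⟨fun g => conj ((χ : G → ℂ) g), CfsgLib.Char.isIrrCharacter_conj χ.2⟩

theorem dual_apply (χ : IrrCharacter G) (g : G) :
    (dual χ : G → ℂ) g = conj ((χ : G → ℂ) g) := rfl

theorem dual_eq_self_iff (χ : IrrCharacter G) :
    dual χ = χ ↔ ∀ g : G, ((χ : G → ℂ) g).im = 0 := by
  constructor
  · intro h g
    exact Complex.conj_eq_iff_im.1 (congrFun (congrArg Subtype.val h) g)
  · exact fun h => Subtype.ext (funext fun g => Complex.conj_eq_iff_im.2 (h g))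

theorem dual_eq_triv_iff (χ : IrrCharacter G) : dual χ = trivIrr ↔ χ = trivIrr := by
  constructor
  · intro h
    refine Subtype.ext (funext fun g => ?_)
    have h1 := congrFun (congrArg Subtype.val h) g
    rw [dual_apply] at h1
    have h2 := congrArg conj h1
    rw [Complex.conj_conj] at h2
    rw [h2]
    simp [trivIrr]
  · rintro rfl
    exact Subtype.ext (funext fun g => by simp [dual, trivIrr])

/-- The principal block is closed under duality. -/
theorem dual_mem (hM : IsPModular p M) {χ : IrrCharacter G} (hχ : χ ∈ principalBlock M G) :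
    dual χ ∈ principalBlock M G := by
  intro g
  have e1 : centralChar (dual χ : G → ℂ) g = centralChar (χ : G → ℂ) g⁻¹ := by
    simp only [centralChar, dual_apply, irr_conj_eq χ.2, centralizer_inv_eq, inv_one]
  have e2 : centralChar (fun _ : G => (1 : ℂ)) g⁻¹ = centralChar (fun _ : G => (1 : ℂ)) g := by
    simp only [centralChar, centralizer_inv_eq]
  have h := hχ g⁻¹
  rwa [e2, ← e1] at h

/-- Only the principal block of the centralizer of a `p`-element induces the principal block. -/
theorem filter_principal (hM : IsPModular p M) {u : G} (hu : ∃ k : ℕ, orderOf u = p ^ k)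
    [Fintype (Subgroup.centralizer ({u} : Set G))] [DecidablePred fun
      b : Set (IrrCharacter (Subgroup.centralizer ({u} : Set G))) =>
        IsInducedBlock M (Subgroup.centralizer ({u} : Set G)) b (principalBlock M G)] :
    (allBlocks M (Subgroup.centralizer ({u} : Set G))).filter
      (fun b => IsInducedBlock M (Subgroup.centralizer ({u} : Set G)) b (principalBlock M G)) =
        {principalBlock M (Subgroup.centralizer ({u} : Set G))} := by
  classical
  have := Fact.mk hM.1
  ext b
  rw [Finset.mem_filter, Finset.mem_singleton]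
  constructor
  · rintro ⟨-, hb⟩
    exact (Cfsg.Agent.S0936.result p M hM _ b ⟨_, hb⟩).1 hb
  · rintro rfl
    exact ⟨mem_allBlocks.2 isPBlock_principalBlock, (Cfsg.Agent.S0936.result p M hM _ _
      (exists_isInducedBlock_centralizer hM hu isPBlock_principalBlock)).2 rfl⟩

theorem exists_reps (p : ℕ) :
    ∃ X : Finset G, (∀ u ∈ X, ∃ k : ℕ, orderOf u = p ^ k) ∧
      ∀ g : G, (∃ k : ℕ, orderOf g = p ^ k) → ∃! u, u ∈ X ∧ IsConj g u := by
  classical
  let r : ConjClasses G → G := fun c => (ConjClasses.exists_rep c).choose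
  have hr : ∀ c, ConjClasses.mk (r c) = c := fun c => (ConjClasses.exists_rep c).choose_spec
  refine ⟨((Finset.univ : Finset G).filter fun g => ∃ k : ℕ, orderOf g = p ^ k).image
    fun g => r (ConjClasses.mk g), fun u hu => ?_, fun g hg => ?_⟩
  · obtain ⟨g, hg, rfl⟩ := Finset.mem_image.1 hu
    obtain ⟨k, hk⟩ := (Finset.mem_filter.1 hg).2
    refine ⟨k, ?_⟩
    obtain ⟨c, hc⟩ := isConj_iff.1
      (ConjClasses.mk_eq_mk_iff_isConj.1 (hr (ConjClasses.mk g)).symm)
    rw [← hc, CfsgLib.Invol.orderOf_conj_eq, hk]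
  · refine ⟨r (ConjClasses.mk g), ⟨Finset.mem_image_of_mem _ (by simpa using hg),
      ConjClasses.mk_eq_mk_iff_isConj.1 (hr _).symm⟩, ?_⟩
    rintro u ⟨hu, hgu⟩
    obtain ⟨g', -, rfl⟩ := Finset.mem_image.1 hu
    rw [ConjClasses.mk_eq_mk_iff_isConj.2 hgu, hr]

/-- **The characters of the principal block counted over the classes of `p`-elements.** -/
theorem exists_count (hM : IsPModular p M) :
    ∃ X : Finset G, (∀ u ∈ X, u ≠ 1 ∧ ∃ k : ℕ, orderOf u = p ^ k) ∧
      (∀ g : G, g ≠ 1 → (∃ k : ℕ, orderOf g = p ^ k) → ∃ u ∈ X, IsConj g u) ∧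
      (∀ u ∈ X, ∀ v ∈ X, IsConj u v → u = v) ∧
      Nat.card (principalBlock M G) = blockRank p (principalBlock M G) +
        ∑ u ∈ X, blockRank p (principalBlock M (Subgroup.centralizer ({u} : Set G))) := by
  classical
  obtain ⟨X, hX, hrep⟩ := exists_reps (G := G) p
  obtain ⟨u₁, ⟨hu₁, hu₁c⟩, -⟩ := hrep 1 ⟨0, by rw [orderOf_one, pow_zero]⟩
  obtain rfl : (1 : G) = u₁ := (isConj_one_right.1 hu₁c).symm
  refine ⟨X.erase 1, fun u hu => ⟨(Finset.mem_erase.1 hu).1, hX u (Finset.mem_of_mem_erase hu)⟩,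
    fun g hg hgp => ?_, fun u hu v hv huv => ?_, ?_⟩
  · obtain ⟨u, ⟨hu, huc⟩, -⟩ := hrep g hgp
    refine ⟨u, Finset.mem_erase.2 ⟨fun e => hg ?_, hu⟩, huc⟩
    subst e
    exact isConj_one_left.1 huc
  · obtain ⟨w, -, huniq⟩ := hrep u (hX u (Finset.mem_of_mem_erase hu))
    exact (huniq u ⟨Finset.mem_of_mem_erase hu, IsConj.refl u⟩).trans
      (huniq v ⟨Finset.mem_of_mem_erase hv, huv⟩).symm
  · rw [natCard_block_eq_sum_rank hM isPBlock_principalBlock X hX hrep,
      ← Finset.add_sum_erase X _ hu₁]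
    congr 1
    · have := Fintype.ofFinite (Subgroup.centralizer ({1} : Set G))
      obtain ⟨b₁, hb₁, hr₁⟩ := exists_top_induced hM (isPBlock_principalBlock (M := M) (G := G))
        (H := Subgroup.centralizer ({1} : Set G))
        (eq_top_iff.2 fun g _ => Subgroup.mem_centralizer_singleton_iff.2 (by simp))
      have := Fact.mk hM.1
      rw [filter_principal hM (hX 1 hu₁), Finset.sum_singleton,
        ← (Cfsg.Agent.S0936.result p M hM _ b₁ ⟨_, hb₁⟩).1 hb₁, hr₁]
    · refine Finset.sum_congr rfl fun u hu => ?_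
      rw [filter_principal hM (hX u (Finset.mem_of_mem_erase hu)), Finset.sum_singleton]

/-- A `p`-nilpotent group has its regular elements in the `p'`-core, of `p`-power index. -/
theorem core_of_complement {H : Type u} [Group H] [Finite H] [Fact p.Prime]
    (h : HasNormalPComplement p H) :
    (∃ k : ℕ, (pPrimeCore p H).index = p ^ k) ∧
      ∀ g : H, ¬ p ∣ orderOf g → g ∈ pPrimeCore p H := by
  obtain ⟨N, hN, hc, hq⟩ := CfsgLib.Transfer.hasNormalPComplement_iff_exists.1 h
  have hle := CfsgLib.Solvable.le_pPrimeCore hN hc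
  obtain ⟨m, hm⟩ := IsPGroup.iff_card.1 hq
  rw [← Subgroup.index_eq_card] at hm
  obtain ⟨k, -, hk⟩ := (Nat.dvd_prime_pow (Fact.out : p.Prime)).1
    (hm ▸ Subgroup.index_dvd_of_le hle)
  refine ⟨⟨k, hk⟩, fun g hg => ?_⟩
  have := CfsgLib.Solvable.pPrimeCore_normal p H
  refine (QuotientGroup.eq_one_iff g).1 (orderOf_eq_one_iff.1 ?_)
  have h1 : orderOf (QuotientGroup.mk' (pPrimeCore p H) g) ∣ orderOf g :=
    orderOf_map_dvd _ g
  have h2 : orderOf (QuotientGroup.mk' (pPrimeCore p H) g) ∣ p ^ k := by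
    rw [← hk, Subgroup.index_eq_card]; exact orderOf_dvd_natCard _
  exact Nat.eq_one_of_dvd_coprimes
    (Nat.Coprime.pow_right _ ((Nat.coprime_comm).1 ((Fact.out : p.Prime).coprime_iff_not_dvd.2 hg)))
    h1 h2

/-- A `p`-nilpotent group whose principal block has three characters has Sylow subgroups of order
three. -/
theorem card_three_of_complement [Fact p.Prime] (hM : IsPModular p M)
    (h : HasNormalPComplement p G) (hk : Nat.card (principalBlock M G) = 3) (D : Sylow p G) :
    Nat.card (D : Subgroup G) = 3 := by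
  classical
  obtain ⟨⟨k, hidx⟩, -⟩ := core_of_complement h
  set K := pPrimeCore p G with hK
  have hKn : K.Normal := CfsgLib.Solvable.pPrimeCore_normal p G
  have hKp : ¬ p ∣ Nat.card K :=
    hM.1.coprime_iff_not_dvd.1 (CfsgLib.Solvable.pPrimeCore_coprime p).symm
  have hQ : IsPGroup p (G ⧸ K) := IsPGroup.of_card (n := k) (by
    rw [← Subgroup.index_eq_card, hidx])
  have hcl : Nat.card (ConjClasses (G ⧸ K)) = 3 := by
    rw [← CfsgLib.Char.irr_card_eq, Nat.card_congr (quotIrrEquiv K), ← hk]
    refine Nat.card_congr (Equiv.subtypeEquivRight fun χ => ?_)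
    exact ⟨fun hχ => mem_principalBlock_of_le_kerIrr hM ⟨k, hidx⟩ hχ,
      fun hχ => le_kerIrr_of_mem_principalBlock hM hKp hχ⟩
  have hD : Nat.card (D : Subgroup G) = Nat.card (G ⧸ K) := by
    rw [D.card_eq_multiplicity, ← Subgroup.index_eq_card, hidx]
    congr 1
    rw [← K.card_mul_index, hidx, Nat.factorization_mul Nat.card_pos.ne' (pow_ne_zero k hM.1.ne_zero),
      Finsupp.add_apply, Nat.factorization_eq_zero_of_not_dvd hKp, hM.1.factorization_pow,
      Finsupp.single_eq_same, zero_add]
  rw [hD]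
  -- a group of prime power order with three classes
  have := Fintype.ofFinite (G ⧸ K)
  have hce := Group.nat_card_center_add_sum_card_noncenter_eq_card (G ⧸ K)
  have hZ : Nontrivial (G ⧸ K) := by
    rw [← Finite.one_lt_card_iff_nontrivial]
    by_contra hlt
    have : Subsingleton (G ⧸ K) := Finite.card_le_one_iff_subsingleton.1 (by omega)
    have h1 : Nat.card (ConjClasses (G ⧸ K)) ≤ 1 := Finite.card_le_one_iff_subsingleton.2
      (ConjClasses.mk_surjective.subsingleton)
    omega
  by_cases hcomm : IsMulCommutative (G ⧸ K)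
  · rw [← hcl]
    refine Nat.card_congr (Equiv.ofBijective ConjClasses.mk ⟨fun a b hab => ?_, ConjClasses.mk_surjective⟩)
    obtain ⟨c, hc⟩ := isConj_iff.1 (ConjClasses.mk_eq_mk_iff_isConj.1 hab)
    rwa [hcomm.is_comm.comm, inv_mul_cancel_left] at hc
  · exfalso
    have := hQ.center_nontrivial
    set Z := Subgroup.center (G ⧸ K)
    have hcarr : ∀ z : G ⧸ K, z ∈ Z → (ConjClasses.mk z).carrier = {z} := fun z hz => by
      ext w
      rw [ConjClasses.mem_carrier_iff_mk_eq, ConjClasses.mk_eq_mk_iff_isConj, Set.mem_singleton_iff]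
      refine ⟨fun hw => ?_, fun hw => hw ▸ IsConj.refl z⟩
      obtain ⟨c, hc⟩ := isConj_iff.1 hw.symm
      rw [← hc, Subgroup.mem_center_iff.1 hz c, mul_inv_cancel_right]
    -- the noncentral classes
    have hZinj : Function.Injective fun z : Z => ConjClasses.mk (z : G ⧸ K) := fun a b hab => by
      have h1 : (a : G ⧸ K) ∈ (ConjClasses.mk (b : G ⧸ K)).carrier :=
        ConjClasses.mem_carrier_iff_mk_eq.2 hab
      rw [hcarr _ b.2] at h1
      exact Subtype.ext h1
    obtain ⟨g, hg⟩ : ∃ g : G ⧸ K, g ∉ Z := by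
      by_contra hn
      push Not at hn
      exact hcomm ⟨⟨fun a b => (Subgroup.mem_center_iff.1 (hn b) a)⟩⟩
    have hgne : ∀ z : Z, ConjClasses.mk (z : G ⧸ K) ≠ ConjClasses.mk g := fun z e => hg (by
      have h1 : g ∈ (ConjClasses.mk (z : G ⧸ K)).carrier :=
        ConjClasses.mem_carrier_iff_mk_eq.2 e.symm
      rw [hcarr _ z.2] at h1
      rw [h1]; exact z.2)
    -- the center has two elements
    have hcount : Nat.card Z + 1 ≤ 3 := by
      rw [← hcl, ← Finite.card_option]
      refine Nat.card_le_card_of_injective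
        (fun o => o.elim (ConjClasses.mk g) fun z => ConjClasses.mk (z : G ⧸ K)) ?_
      rintro (_ | a) (_ | b) e
      · rfl
      · exact absurd e.symm (hgne b)
      · exact absurd e (hgne a)
      · exact congrArg some (hZinj e)
    have hZ2 : Nat.card Z = 2 := by
      have : 1 < Nat.card Z := Finite.one_lt_card
      omega
    have hother : ∀ w : G ⧸ K, w ∉ Z → IsConj g w := fun w hw => by
      by_contra hn
      have hwne : ∀ z : Z, ConjClasses.mk (z : G ⧸ K) ≠ ConjClasses.mk w := fun z e => hw (by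
        have h1 : w ∈ (ConjClasses.mk (z : G ⧸ K)).carrier :=
          ConjClasses.mem_carrier_iff_mk_eq.2 e.symm
        rw [hcarr _ z.2] at h1
        rw [h1]; exact z.2)
      have h4 : Nat.card (Option (Option Z)) ≤ 3 := by
        rw [← hcl]
        refine Nat.card_le_card_of_injective (fun o => o.elim (ConjClasses.mk g)
          fun o' => o'.elim (ConjClasses.mk w) fun z => ConjClasses.mk (z : G ⧸ K)) ?_
        rintro (_ | _ | a) (_ | _ | b) e
        · rfl
        · exact absurd (ConjClasses.mk_eq_mk_iff_isConj.1 e) hn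
        · exact absurd e.symm (hgne b)
        · exact absurd (ConjClasses.mk_eq_mk_iff_isConj.1 e.symm) hn
        · rfl
        · exact absurd e.symm (hwne b)
        · exact absurd e (hgne a)
        · exact absurd e (hwne a)
        · exact congrArg (some ∘ some) (hZinj e)
      rw [Finite.card_option, Finite.card_option, hZ2] at h4
      omega
    have hcl2 : Nat.card (ConjClasses.mk g).carrier + 2 = Nat.card (G ⧸ K) := by
      have e : (ConjClasses.mk g).carrier = (Z : Set (G ⧸ K))ᶜ := by
        ext w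
        rw [ConjClasses.mem_carrier_iff_mk_eq, ConjClasses.mk_eq_mk_iff_isConj, Set.mem_compl_iff,
          SetLike.mem_coe]
        refine ⟨fun hw hwZ => ?_, fun hw => (hother w hw).symm⟩
        have h1 : g ∈ (ConjClasses.mk w).carrier :=
          ConjClasses.mem_carrier_iff_mk_eq.2 (ConjClasses.mk_eq_mk_iff_isConj.2 hw.symm)
        rw [hcarr _ hwZ] at h1
        exact hg (h1 ▸ hwZ)
      rw [e, ← hZ2, Nat.card_coe_set_eq, show Nat.card Z = (Z : Set (G ⧸ K)).ncard from Nat.card_coe_set_eq _, add_comm]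
      exact Set.ncard_add_ncard_compl _
    have hmul := CfsgLib.Char.natCard_carrier_mul_centralizer g
    set c := Nat.card (ConjClasses.mk g).carrier
    set d := Nat.card (Subgroup.centralizer ({g} : Set (G ⧸ K)))
    have hd : 3 ≤ d := by
      have hle : Z ≤ Subgroup.centralizer ({g} : Set (G ⧸ K)) := Subgroup.center_le_centralizer _
      have hlt : Z < Subgroup.centralizer ({g} : Set (G ⧸ K)) := lt_of_le_of_ne hle fun e => hg
        (e ▸ Subgroup.mem_centralizer_singleton_iff.2 rfl)
      have := Set.ncard_lt_ncard (show (Z : Set (G ⧸ K)) ⊂ _ from hlt) (Set.toFinite _)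
      rw [← Nat.card_coe_set_eq, ← Nat.card_coe_set_eq] at this
      have e : Nat.card (Z : Set (G ⧸ K)) = Nat.card Z := rfl
      rw [e, hZ2] at this
      exact this
    rw [← hmul] at hcl2
    have : c * 3 ≤ c * d := Nat.mul_le_mul_left c hd
    have hcpos : 0 < c := by
      have : Nonempty (ConjClasses.mk g).carrier := ⟨⟨g, ConjClasses.mem_carrier_mk⟩⟩
      exact Nat.card_pos
    have hc1 : c = 1 := by omega
    have h1 : (ConjClasses.mk g).carrier = {g} := by
      have := Set.ncard_eq_one.1 ((Nat.card_coe_set_eq _).symm.trans hc1)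
      obtain ⟨a, ha⟩ := this
      rw [ha, Set.singleton_eq_singleton_iff]
      have := (ha ▸ ConjClasses.mem_carrier_mk : g ∈ ({a} : Set (G ⧸ K)))
      exact this.symm
    refine hg (Subgroup.mem_center_iff.2 fun w => ?_)
    have h2 : w * g * w⁻¹ ∈ (ConjClasses.mk g).carrier :=
      ConjClasses.mem_carrier_iff_mk_eq.2
        (ConjClasses.mk_eq_mk_iff_isConj.2 (isConj_iff.2 ⟨w, rfl⟩).symm)
    rw [h1, Set.mem_singleton_iff] at h2
    conv_rhs => rw [← h2]
    group

/-- The data of a group with one class of nontrivial `p`-elements and a `p`-nilpotent centralizer: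
integral values, their norm, and the orthogonality to the degrees. -/
theorem column_data [Fact p.Prime] (hM : IsPModular p M) {x : G} (hx1 : x ≠ 1)
    (hxp : ∃ k : ℕ, orderOf x = p ^ k)
    (hone : ∀ g : G, g ≠ 1 → (∃ k : ℕ, orderOf g = p ^ k) → IsConj g x)
    (hl : blockRank p (principalBlock M (Subgroup.centralizer ({x} : Set G))) = 1)
    (D : Sylow p G) :
    ∃ a : IrrCharacter G → ℤ, (∀ χ ∈ principalBlock M G, (χ : G → ℂ) x = (a χ : ℂ)) ∧
      a trivIrr = 1 ∧
      ∑ χ ∈ (principalBlock M G).toFinite.toFinset, a χ * a χ = (Nat.card (D : Subgroup G) : ℤ) ∧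
      ∑ χ ∈ (principalBlock M G).toFinite.toFinset,
        a χ * (charDegree (χ : G → ℂ) : ℤ) = 0 ∧
      (Nat.card (Subgroup.centralizer ({x} : Set G))).factorization p =
        (Nat.card G).factorization p := by
  classical
  have hB : IsPBlock M (principalBlock M G) := isPBlock_principalBlock
  -- rationality
  have hrat : ∀ χ : IrrCharacter G, ∃ n : ℤ, (χ : G → ℂ) x = (n : ℂ) := by
    intro χ
    obtain ⟨q, hq⟩ := CfsgLib.Char.exists_rat_of_emb_fixed
      (CfsgLib.Char.charVal (irr_isCharacter χ.2) x) fun ψ => by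
        obtain ⟨m, hm, hψ⟩ := CfsgLib.Char.exists_pow_of_emb (Nat.card_pos (α := G)) ψ
        rw [CfsgLib.Char.emb_charVal (irr_isCharacter χ.2) ψ hψ x]
        refine CfsgLib.Char.isClassFunction_isConj (CfsgLib.Char.irr_isClassFunction χ.2) ?_
        have ho : orderOf (x ^ m) = orderOf x :=
          Nat.Coprime.orderOf_pow (Nat.Coprime.coprime_dvd_left (orderOf_dvd_natCard x) hm.symm)
        exact hone _ (fun e => hx1 (orderOf_eq_one_iff.1 (by rw [← ho, e, orderOf_one])))
          (ho ▸ hxp)
    have hq' : (χ : G → ℂ) x = (q : ℂ) := hq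
    obtain ⟨n, rfl⟩ := CfsgLib.Char.exists_int_of_isIntegral_rat (q := q) (by
      rw [← hq']
      obtain ⟨χ, n, ρ, -, rfl⟩ := χ
      exact CfsgLib.Char.char_isIntegral ρ x)
    exact ⟨n, by rw [hq', Rat.cast_intCast]⟩
  choose a ha using hrat
  -- a central conjugate
  have hfact : (Nat.card (Subgroup.centralizer ({x} : Set G))).factorization p =
      (Nat.card G).factorization p := by
    refine le_antisymm ((Nat.factorization_le_iff_dvd Nat.card_pos.ne' Nat.card_pos.ne').2
      (Subgroup.card_subgroup_dvd_card _) p) ?_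
    have hD1 : Nontrivial (D : Subgroup G) := by
      rw [← Finite.one_lt_card_iff_nontrivial, D.card_eq_multiplicity]
      refine Nat.one_lt_pow ?_ hM.1.one_lt
      intro e
      obtain ⟨k, hk⟩ := hxp
      rcases k with _ | k
      · exact hx1 (orderOf_eq_one_iff.1 (by rwa [pow_zero] at hk))
      · have h1 : p ∣ Nat.card G := (Dvd.intro_left _ (pow_succ p k).symm).trans
          (hk ▸ orderOf_dvd_natCard x)
        exact ((Nat.Prime.factorization_pos_of_dvd hM.1 Nat.card_pos.ne' h1).ne') e
    have := D.isPGroup'.center_nontrivial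
    obtain ⟨⟨z, hzZ⟩, hz1⟩ := exists_ne (1 : Subgroup.center (D : Subgroup G))
    have hz1' : (z : G) ≠ 1 := fun e => hz1 (Subtype.ext (Subtype.ext e))
    have hzp : ∃ k : ℕ, orderOf (z : G) = p ^ k := by
      obtain ⟨k, hk⟩ := IsPGroup.iff_orderOf.1 D.isPGroup' z
      exact ⟨k, by rw [Subgroup.orderOf_coe, hk]⟩
    obtain ⟨c, hc⟩ := isConj_iff.1 (hone _ hz1' hzp)
    have hle : (D : Subgroup G) ≤ Subgroup.centralizer ({(z : G)} : Set G) := fun w hw =>
      Subgroup.mem_centralizer_singleton_iff.2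
        (congrArg Subtype.val (Subgroup.mem_center_iff.1 hzZ ⟨w, hw⟩) :)
    have hcard : Nat.card (Subgroup.centralizer ({(z : G)} : Set G)) =
        Nat.card (Subgroup.centralizer ({x} : Set G)) := by
      refine Nat.card_congr ((MulAut.conj c).toEquiv.subtypeEquiv fun w => ?_)
      change w ∈ Subgroup.centralizer ({(z : G)} : Set G) ↔
        c * w * c⁻¹ ∈ Subgroup.centralizer ({x} : Set G)
      rw [Subgroup.mem_centralizer_singleton_iff, Subgroup.mem_centralizer_singleton_iff, ← hc,
        show c * w * c⁻¹ * (c * (z : G) * c⁻¹) = c * (w * z) * c⁻¹ by group,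
        show c * (z : G) * c⁻¹ * (c * w * c⁻¹) = c * (z * w) * c⁻¹ by group]
      exact ⟨fun h => by rw [h], fun h => mul_left_cancel (mul_right_cancel h)⟩
    rw [← hcard]
    refine (hM.1.pow_dvd_iff_le_factorization Nat.card_pos.ne').1 ?_
    rw [← D.card_eq_multiplicity]
    exact Subgroup.card_dvd_of_le hle
  refine ⟨a, fun χ _ => ha χ, Int.cast_injective (α := ℂ) ?_, ?_, ?_, hfact⟩
  · rw [← ha]; simp [trivIrr]
  · obtain ⟨hidx, -⟩ := core_of_complement (complement_of_blockRank_principal hM hl)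
    have h := (Cfsg.Agent.S0947.result p M hM x hxp hx1 1
      (by rw [orderOf_one]; exact hM.1.not_dvd_one)).2 hidx
    rw [finsum_mem_eq_finite_toFinset_sum _ (principalBlock M G).toFinite, hfact,
      ← D.card_eq_multiplicity] at h
    simp only [OneMemClass.coe_one, mul_one, ha, Complex.norm_intCast, sq_abs] at h
    refine Int.cast_injective (α := ℝ) ?_
    push_cast
    rw [← h]
    simp only [sq]
  · have h0 := sum_block_eq_zero_of_regular_singular hM hB (g := (1 : G)) (h := x)
      (by rw [orderOf_one]; exact hM.1.not_dvd_one) (by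
        obtain ⟨k, hk⟩ := hxp
        rcases k with _ | k
        · exact absurd (orderOf_eq_one_iff.1 (by rwa [pow_zero] at hk)) hx1
        · exact Dvd.intro_left _ ((pow_succ p k).symm.trans hk.symm))
    rw [finsum_mem_eq_finite_toFinset_sum _ (principalBlock M G).toFinite] at h0
    refine Int.cast_injective (α := ℂ) ?_
    push_cast
    rw [← h0]
    refine Finset.sum_congr rfl fun χ _ => ?_
    rw [ha, map_intCast, CfsgLib.BlockB.irr_degree_cast, mul_comm]

/-- **The Frobenius-Schur equation of the column, for odd `p`.** -/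
theorem fs_column [Fact p.Prime] (hM : IsPModular p M) (hp : p ≠ 2) {x : G}
    (hxp : ∃ k : ℕ, orderOf x = p ^ k)
    (hl : blockRank p (principalBlock M (Subgroup.centralizer ({x} : Set G))) = 1)
    (hfact : (Nat.card (Subgroup.centralizer ({x} : Set G))).factorization p =
        (Nat.card G).factorization p)
    (D : Sylow p G) (a : IrrCharacter G → ℤ)
    (ha : ∀ χ ∈ principalBlock M G, (χ : G → ℂ) x = (a χ : ℂ))
    (hnorm : ∑ χ ∈ (principalBlock M G).toFinite.toFinset, a χ * a χ =
        (Nat.card (D : Subgroup G) : ℤ)) :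
    ∑ χ ∈ (principalBlock M G).toFinite.toFinset, fsInd χ * (a χ : ℂ) = 1 := by
  classical
  have := Fintype.ofFinite (IrrCharacter G)
  have hmain := core_of_complement (complement_of_blockRank_principal hM hl)
  obtain ⟨⟨k, hidx⟩, hreg⟩ := hmain
  set C := Subgroup.centralizer ({x} : Set G) with hCdef
  have := Fintype.ofFinite (IrrCharacter C)
  set K := pPrimeCore p C with hKdef
  have hKn : K.Normal := CfsgLib.Solvable.pPrimeCore_normal p C
  have hKp : ¬ p ∣ Nat.card K :=
    hM.1.coprime_iff_not_dvd.1 (CfsgLib.Solvable.pPrimeCore_coprime p).symm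
  have hyreg : ∀ y : K, ¬ p ∣ orderOf (y : C) := fun y h =>
    hKp (h.trans (Subgroup.orderOf_dvd_natCard K y.2))
  set W : IrrCharacter G → ℂ := fun χ => ∑ y : K, (χ : G → ℂ) (x * ((y : C) : G)) with hW
  have hWB : ∀ χ ∈ principalBlock M G, W χ = (Nat.card K : ℂ) * (a χ : ℂ) := by
    intro χ hχ
    simp only [hW]
    rw [Finset.sum_congr rfl (g := fun _ => (a χ : ℂ)) fun y _ => ?_, Finset.sum_const,
      Finset.card_univ, nsmul_eq_mul, Nat.card_eq_fintype_card]
    rw [← ha χ hχ]
    exact CfsgLib.Invol.principal_const_on_core hM hxp ⟨(y : C), y.2, rfl⟩ hχ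
  -- the total norm
  have hCK : (Nat.card C : ℤ) = (Nat.card K : ℤ) * (Nat.card (D : Subgroup G) : ℤ) := by
    have hf : (Nat.card C).factorization p = k := by
      rw [← K.card_mul_index, hidx, Nat.factorization_mul Nat.card_pos.ne' (pow_ne_zero k hM.1.ne_zero),
        Finsupp.add_apply, Nat.factorization_eq_zero_of_not_dvd hKp, hM.1.factorization_pow,
        Finsupp.single_eq_same, zero_add]
    rw [← Nat.cast_mul, Nat.cast_inj, D.card_eq_multiplicity, ← hfact, hf, ← hidx,
      K.card_mul_index]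
  have hall : ∑ χ : IrrCharacter G, W χ * conj (W χ) =
      (Nat.card K : ℂ) * (Nat.card C : ℂ) := by
    calc ∑ χ : IrrCharacter G, W χ * conj (W χ)
        = ∑ z : K, ∑ y : K, ∑ χ : IrrCharacter G,
            (χ : G → ℂ) (x * ((z : C) : G)) * conj ((χ : G → ℂ) (x * ((y : C) : G))) := by
          simp only [hW, map_sum, Finset.sum_mul_sum]
          rw [Finset.sum_comm]
          exact Finset.sum_congr rfl fun _ _ => Finset.sum_comm
      _ = ∑ z : K, ∑ y : K, if IsConj (z : C) (y : C) then
            (Nat.card (Subgroup.centralizer ({(z : C)} : Set C)) : ℂ) else 0 := by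
          refine Finset.sum_congr rfl fun z _ => Finset.sum_congr rfl fun y _ => ?_
          rw [column_section_of_eq hM hxp rfl (hyreg y) (hyreg z),
            CfsgLib.Char.column_orthogonality]
          congr
      _ = ∑ z : K, (Nat.card C : ℂ) := by
          refine Finset.sum_congr rfl fun z _ => ?_
          rw [← Finset.sum_filter, Finset.sum_const, nsmul_eq_mul, ← Nat.cast_mul]
          congr 1
          rw [← CfsgLib.Char.natCard_carrier_mul_centralizer (z : C)]
          congr 1
          rw [← Fintype.card_subtype, ← Nat.card_eq_fintype_card]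
          refine Nat.card_congr
            { toFun := fun y => ⟨(y.1 : C), ConjClasses.mem_carrier_iff_mk_eq.2
                (ConjClasses.mk_eq_mk_iff_isConj.2 y.2.symm)⟩
              invFun := fun w => ⟨⟨w.1, ?_⟩, ?_⟩
              left_inv := fun y => rfl
              right_inv := fun w => rfl }
          · obtain ⟨c, hc⟩ := isConj_iff.1
              (ConjClasses.mk_eq_mk_iff_isConj.1 (ConjClasses.mem_carrier_iff_mk_eq.1 w.2)).symm
            rw [← hc]
            exact hKn.conj_mem _ z.2 c
          · exact (ConjClasses.mk_eq_mk_iff_isConj.1 (ConjClasses.mem_carrier_iff_mk_eq.1 w.2)).symm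
      _ = _ := by simp only [Finset.sum_const, Finset.card_univ, nsmul_eq_mul,
            Nat.card_eq_fintype_card]
  have hblk : ∑ χ ∈ (principalBlock M G).toFinite.toFinset, W χ * conj (W χ) =
      (Nat.card K : ℂ) * (Nat.card C : ℂ) := by
    rw [Finset.sum_congr rfl (g := fun χ => (Nat.card K : ℂ) * (Nat.card K : ℂ) *
      ((a χ * a χ : ℤ) : ℂ)) fun χ hχ => ?_, ← Finset.mul_sum, ← Int.cast_sum, hnorm]
    · have h1 : ((Nat.card C : ℤ) : ℂ) = ((Nat.card K : ℤ) : ℂ) * ((Nat.card (D : Subgroup G) : ℤ) : ℂ) := by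
        rw [← Int.cast_mul, ← hCK]
      push_cast at h1 ⊢
      rw [h1]; ring
    · rw [hWB χ ((principalBlock M G).toFinite.mem_toFinset.1 hχ), map_mul, Complex.conj_natCast,
        map_intCast]
      push_cast; ring
  have hzero : ∀ χ, χ ∉ (principalBlock M G).toFinite.toFinset → W χ = 0 := by
    intro χ hχ
    have h0 := hall
    rw [← Finset.sum_add_sum_compl (principalBlock M G).toFinite.toFinset, hblk] at h0
    have h1 : ∑ χ ∈ ((principalBlock M G).toFinite.toFinset)ᶜ, (Complex.normSq (W χ) : ℂ) = 0 := by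
      simp only [← Complex.mul_conj]
      exact add_left_cancel (h0.trans (add_zero _).symm)
    rw [← Complex.ofReal_sum, Complex.ofReal_eq_zero,
      Finset.sum_eq_zero_iff_of_nonneg fun _ _ => Complex.normSq_nonneg _] at h1
    exact Complex.normSq_eq_zero.1 (h1 χ (Finset.mem_compl.2 hχ))
  -- the square roots
  have hodd : Odd (Nat.card (C ⧸ K)) := by
    rw [← Subgroup.index_eq_card, hidx]
    exact (hM.1.odd_of_ne_two hp).pow
  have hsum : ∑ y : K, sqrtCount (x * ((y : C) : G)) = (Nat.card K : ℂ) := by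
    have hxC : x ∈ C := Subgroup.mem_centralizer_singleton_iff.2 rfl
    obtain ⟨n, hn⟩ : ∃ n : ℕ, x ^ (2 * n) = x := by
      obtain ⟨j, hj⟩ := hxp
      obtain ⟨m, hm⟩ : Odd (orderOf x) := hj ▸ (hM.1.odd_of_ne_two hp).pow
      exact ⟨m + 1, by rw [show 2 * (m + 1) = orderOf x + 1 by omega, pow_succ, pow_orderOf_eq_one, one_mul]⟩
    let s₀ : C := ⟨x, hxC⟩ ^ n
    have hs₀ : s₀ * s₀ = ⟨x, hxC⟩ := Subtype.ext (by
      show x ^ n * x ^ n = x
      rw [← pow_add, ← two_mul, hn])
    have hsolve : ∀ (y : K) (s : G), s * s = x * ((y : C) : G) →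
        ∃ w : K, s = ((s₀ * (w : C) : C) : G) := by
      intro y s hs
      have hcomm : Commute s (x * ((y : C) : G)) := hs ▸ (Commute.refl s).mul_right (Commute.refl s)
      have hxy : Commute x ((y : C) : G) :=
        (Subgroup.mem_centralizer_singleton_iff.1 (y : C).2).symm
      obtain ⟨j, hj⟩ := hxp
      have hcop : (orderOf x).Coprime (orderOf ((y : C) : G)) := by
        rw [hj]
        exact Nat.Coprime.pow_left _ (hM.1.coprime_iff_not_dvd.2 (by
          rw [Subgroup.orderOf_coe]; exact hyreg y))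
      obtain ⟨e, he⟩ : ∃ e : ℕ, (x * ((y : C) : G)) ^ e = x := by
        obtain ⟨e, he1, he2⟩ := Nat.chineseRemainder hcop 1 0
        refine ⟨e, ?_⟩
        rw [hxy.mul_pow, pow_eq_pow_iff_modEq.2 he1, pow_one,
          pow_eq_pow_iff_modEq.2 he2, pow_zero, mul_one]
      have hsC : s ∈ C := Subgroup.mem_centralizer_singleton_iff.2 (by
        have := (hcomm.pow_right e).eq
        rwa [he] at this)
      refine ⟨⟨s₀⁻¹ * ⟨s, hsC⟩, ?_⟩, by simp⟩
      refine QuotientGroup.eq.1 ((powCoprime (G := C ⧸ K) (n := 2) ?_).injective ?_)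
      · exact (Nat.coprime_two_right.2 hodd)
      · simp only [powCoprime_apply, pow_two, ← QuotientGroup.mk_mul, hs₀]
        rw [QuotientGroup.eq, show (⟨x, hxC⟩ : C)⁻¹ * (⟨s, hsC⟩ * ⟨s, hsC⟩) = (y : C) from
          Subtype.ext (by push_cast; rw [hs, inv_mul_cancel_left])]
        exact y.2
    simp only [sqrtCount]
    rw [← Nat.cast_sum, Nat.cast_inj, ← Finset.card_sigma]
    refine (Finset.card_bij (s := (Finset.univ : Finset K)) (fun w _ =>
      (⟨⟨(⟨x, hxC⟩ : C)⁻¹ * (s₀ * (w : C) * (s₀ * (w : C))), ?_⟩,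
        ((s₀ * (w : C) : C) : G)⟩ : Σ _ : K, G)) ?_ ?_ ?_).symm.trans ?_
    · refine QuotientGroup.eq.1 ?_
      simp only [QuotientGroup.mk_mul, (QuotientGroup.eq_one_iff (N := K) _).2 w.2, mul_one]
      rw [← QuotientGroup.mk_mul, hs₀]
    · intro w _
      refine Finset.mem_sigma.2 ⟨Finset.mem_univ _, Finset.mem_filter.2 ⟨Finset.mem_univ _, ?_⟩⟩
      push_cast
      group
    · intro w₁ _ w₂ _ e
      have e2 : ((s₀ * (w₁ : C) : C) : G) = ((s₀ * (w₂ : C) : C) : G) := congrArg Sigma.snd e
      exact Subtype.ext (mul_left_cancel (Subtype.ext e2))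
    · rintro ⟨y, s⟩ hs
      obtain ⟨w, rfl⟩ := hsolve y s (Finset.mem_filter.1 (Finset.mem_sigma.1 hs).2).2
      refine ⟨w, Finset.mem_univ _, Sigma.ext (Subtype.ext ?_) HEq.rfl⟩
      have h2 := (Finset.mem_filter.1 (Finset.mem_sigma.1 hs).2).2
      refine Subtype.ext ?_
      push_cast at h2 ⊢
      rw [h2, inv_mul_cancel_left]
    · rw [Finset.card_univ, Nat.card_eq_fintype_card]
  have hfs : ∑ y : K, sqrtCount (x * ((y : C) : G)) =
      ∑ χ : IrrCharacter G, fsInd χ * W χ := by
    simp only [sqrtCount_eq_sum, hW, Finset.mul_sum]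
    exact Finset.sum_comm
  rw [hsum, ← Finset.sum_subset (Finset.subset_univ (principalBlock M G).toFinite.toFinset)
    fun χ _ hχ => by rw [hzero χ hχ, mul_zero]] at hfs
  have hK0 : (Nat.card K : ℂ) ≠ 0 := Nat.cast_ne_zero.2 Nat.card_pos.ne'
  refine mul_left_cancel₀ hK0 ?_
  rw [mul_one, Finset.mul_sum]
  conv_rhs => rw [hfs]
  refine Finset.sum_congr rfl fun χ hχ => ?_
  rw [hWB χ ((principalBlock M G).toFinite.mem_toFinset.1 hχ)]
  ring

end CfsgLib.BlockA.FewPrincipal
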