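import Cfsg.Agent.Lib.Clifford.JordanBound
import Cfsg.Agent.Lib.Block.DefectOneGalois
import Cfsg.Agent.Lib.Char.Linear
import Cfsg.Agent.Lib.Char.Monomial
import Mathlib.FieldTheory.PrimitiveElement
import Mathlib.NumberTheory.Padics.PadicVal.Basic

/-! The order of a `p`-group with a faithful character of given degree and field of values. -/

set_option autoImplicit false

namespace CfsgLib.BlockA.FieldBound

open Cfsg CfsgLib.Char

universe u

variable {P : Type u} [Group P] [Finite P] {p : ℕ}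

/-- The unit group of `ZMod N`, modulo the stabilizer of the values, embeds into the set of
embeddings of the field of values. -/
theorem exists_stabilizer {χ : P → ℂ} (hχ : IsCharacter P χ)
    {d : ℕ} (hd : Module.finrank ℚ (IntermediateField.adjoin ℚ (Set.range χ)) = d) (hd0 : d ≠ 0) :
    ∃ S : Subgroup (ZMod (Nat.card P))ˣ, S.index ≤ d ∧
      ∀ u ∈ S, ∀ x : P, χ (x ^ (u : ZMod (Nat.card P)).val) = χ x := by
  classical
  set N := Nat.card P with hN
  haveI : NeZero N := ⟨Nat.card_pos.ne'⟩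
  set K := IntermediateField.adjoin ℚ (Set.range χ) with hK
  haveI : FiniteDimensional ℚ K := Module.finite_of_finrank_pos (hd ▸ Nat.pos_of_ne_zero hd0)
  have hmod : ∀ (x : P) (a b : ℕ), a ≡ b [MOD N] → x ^ a = x ^ b := fun x a b h =>
    pow_eq_pow_iff_modEq.2 (h.of_dvd (orderOf_dvd_natCard x))
  have hmul : ∀ (u v : (ZMod N)ˣ) (x : P),
      x ^ ((u * v : (ZMod N)ˣ) : ZMod N).val = (x ^ (u : ZMod N).val) ^ (v : ZMod N).val := by
    intro u v x
    rw [← pow_mul]
    refine hmod x _ _ ?_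
    rw [Units.val_mul, ZMod.val_mul]
    exact Nat.mod_modEq _ _
  let S : Subgroup (ZMod N)ˣ :=
    { carrier := {u | ∀ x : P, χ (x ^ (u : ZMod N).val) = χ x}
      one_mem' := fun x => by
        congr 1
        conv_rhs => rw [← pow_one x]
        refine hmod x _ _ ?_
        rw [Units.val_one, ← Nat.cast_one, ZMod.val_natCast]
        exact Nat.mod_modEq _ _
      mul_mem' := fun {u v} hu hv x => by rw [hmul, hv, hu]
      inv_mem' := fun {u} hu x => by
        have h := hu (x ^ ((u⁻¹ : (ZMod N)ˣ) : ZMod N).val)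
        rw [← hmul, inv_mul_cancel] at h
        rw [← h]
        congr 1
        conv_rhs => rw [← pow_one x]
        refine hmod x _ _ ?_
        rw [Units.val_one, ← Nat.cast_one, ZMod.val_natCast]
        exact Nat.mod_modEq _ _ }
  refine ⟨S, ?_, fun u hu => hu⟩
  have hσ : ∀ u : (ZMod N)ˣ, ∃ σ : ℂ ≃+* ℂ, ∀ x : P, σ (χ x) = χ (x ^ (u : ZMod N).val) := by
    intro u
    obtain ⟨σ, hσ⟩ := CfsgLib.Block.exists_ringEquiv_pow N Nat.card_pos
      (ZMod.val_coe_unit_coprime u)
    obtain ⟨m, -, hm, hχσ⟩ := CfsgLib.Block.exists_pow_of_ringEquiv (G := P) σ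
    refine ⟨σ, fun x => ?_⟩
    rw [hχσ χ hχ x]
    congr 1
    refine hmod x _ _ ?_
    have hz := Complex.isPrimitiveRoot_exp N (NeZero.ne N)
    have h1 := hm _ hz.pow_eq_one
    rw [hσ _ hz.pow_eq_one, pow_eq_pow_mod m hz.pow_eq_one,
      pow_eq_pow_mod (u : ZMod N).val hz.pow_eq_one] at h1
    exact (hz.pow_inj (Nat.mod_lt _ (Nat.pos_of_ne_zero (NeZero.ne N)))
      (Nat.mod_lt _ (Nat.pos_of_ne_zero (NeZero.ne N))) h1).symm
  choose σ hσ using hσ
  let emb : (ZMod N)ˣ → (K →ₐ[ℚ] ℂ) := fun u => ((σ u).toRingHom.toRatAlgHom).comp K.val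
  have hemb : ∀ u v : (ZMod N)ˣ, emb u = emb v → u⁻¹ * v ∈ S := by
    intro u v h x
    have h1 : ∀ y : P, χ (y ^ (u : ZMod N).val) = χ (y ^ (v : ZMod N).val) := fun y => by
      have h2 := DFunLike.congr_fun h (⟨χ y, IntermediateField.subset_adjoin ℚ _ ⟨y, rfl⟩⟩ : K)
      rw [← hσ u y, ← hσ v y]
      exact h2
    rw [hmul, ← h1, ← hmul, inv_mul_cancel]
    congr 1
    conv_rhs => rw [← pow_one x]
    refine hmod x _ _ ?_
    rw [Units.val_one, ← Nat.cast_one, ZMod.val_natCast]
    exact Nat.mod_modEq _ _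
  rw [← hd, ← AlgHom.card ℚ K ℂ, Subgroup.index_eq_card, ← Nat.card_eq_fintype_card]
  refine Nat.card_le_card_of_injective (fun q => emb q.out) fun q r h => ?_
  rw [← QuotientGroup.out_eq' q, ← QuotientGroup.out_eq' r, QuotientGroup.eq]
  exact hemb _ _ h

variable [Fact p.Prime]

theorem arith {j s t : ℕ} (hp : 2 ≤ p) (hs : 1 ≤ s) (h : j ≠ 0 → p ^ (j - 1) ≤ p ^ t * s) :
    j ≤ (t + 1) * s := by
  by_contra hlt
  rw [Nat.not_le] at hlt
  have hj : j ≠ 0 := by omega
  have h1 := h hj
  have h2 : p ^ t * p ^ (t * (s - 1) + (s - 1) + 1) ≤ p ^ t * s := by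
    refine le_trans ?_ h1
    rw [← pow_add]
    refine Nat.pow_le_pow_right (by omega) ?_
    obtain ⟨s, rfl⟩ : ∃ k, s = k + 1 := ⟨s - 1, by omega⟩
    simp only [Nat.add_sub_cancel]
    have : (t + 1) * (s + 1) = t + (t * s + s + 1) := by ring
    omega
  have h3 := Nat.le_of_mul_le_mul_left h2 (pow_pos (by omega) t)
  have h4 : t * (s - 1) + (s - 1) + 1 < p ^ (t * (s - 1) + (s - 1) + 1) := Nat.lt_pow_self hp
  omega

/-- The joint kernel of a stable family of linear characters has bounded index. -/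
theorem index_ker_le {B : Type u} [Group B] [Finite B] {N t : ℕ} [NeZero N]
    (hN : ∀ b : B, b ^ N = 1) (hpow : ∀ b : B, ∃ k, orderOf b = p ^ k)
    (S : Subgroup (ZMod N)ˣ) (hS : S.index ≤ (p - 1) * p ^ t) :
    ∀ C : Finset (B →* ℂˣ),
      (∀ u ∈ S, ∀ l ∈ C, (powMonoidHom (u : ZMod N).val).comp l ∈ C) →
      ∃ K : Subgroup B, (∀ x, x ∈ K ↔ ∀ l ∈ C, l x = 1) ∧ K.index ≤ p ^ ((t + 1) * C.card) := by
  classical
  have hp : p.Prime := Fact.out
  intro C
  induction C using Finset.strongInduction with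
  | H C ih =>
    intro hC
    rcases C.eq_empty_or_nonempty with rfl | ⟨μ, hμ⟩
    · exact ⟨⊤, fun x => by simp, by simp⟩
    have hmul : ∀ (l : B →* ℂˣ) (u v : (ZMod N)ˣ),
        (powMonoidHom ((u * v : (ZMod N)ˣ) : ZMod N).val).comp l =
          (powMonoidHom (v : ZMod N).val).comp ((powMonoidHom (u : ZMod N).val).comp l) := by
      intro l u v
      refine MonoidHom.ext fun b => ?_
      simp only [MonoidHom.coe_comp, Function.comp_apply, powMonoidHom_apply]
      rw [← pow_mul, ← map_pow, ← map_pow]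
      congr 1
      refine pow_eq_pow_iff_modEq.2 (Nat.ModEq.of_dvd (orderOf_dvd_of_pow_eq_one (hN b)) ?_)
      rw [Units.val_mul, ZMod.val_mul]
      exact Nat.mod_modEq _ _
    have hone : ∀ l : B →* ℂˣ, (powMonoidHom ((1 : (ZMod N)ˣ) : ZMod N).val).comp l = l := by
      intro l
      refine MonoidHom.ext fun b => ?_
      simp only [MonoidHom.coe_comp, Function.comp_apply, powMonoidHom_apply]
      conv_rhs => rw [← pow_one (l b)]
      rw [← map_pow, ← map_pow]
      congr 1
      refine pow_eq_pow_iff_modEq.2 (Nat.ModEq.of_dvd (orderOf_dvd_of_pow_eq_one (hN b)) ?_)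
      rw [Units.val_one, ← Nat.cast_one, ZMod.val_natCast]
      exact Nat.mod_modEq _ _
    set O := C.filter fun l => ∃ u ∈ S, (powMonoidHom (u : ZMod N).val).comp μ = l with hO
    have hμO : μ ∈ O := Finset.mem_filter.2 ⟨hμ, 1, S.one_mem, hone μ⟩
    have hlt : C \ O ⊂ C := Finset.sdiff_ssubset (Finset.filter_subset _ _) ⟨μ, hμO⟩
    obtain ⟨K, hK, hKi⟩ := ih _ hlt (fun u hu l hl => by
      rw [Finset.mem_sdiff] at hl ⊢
      refine ⟨hC u hu l hl.1, fun h => hl.2 ?_⟩
      obtain ⟨-, v, hv, hvl⟩ := Finset.mem_filter.1 h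
      refine Finset.mem_filter.2 ⟨hl.1, v * u⁻¹, S.mul_mem hv (S.inv_mem hu), ?_⟩
      rw [hmul, hvl, ← hmul, mul_inv_cancel, hone])
    refine ⟨K ⊓ μ.ker, fun x => ?_, ?_⟩
    · rw [Subgroup.mem_inf, hK, MonoidHom.mem_ker]
      refine ⟨fun h l hl => ?_, fun h => ⟨fun l hl => h l (Finset.mem_sdiff.1 hl).1, h μ hμ⟩⟩
      by_cases hlO : l ∈ O
      · obtain ⟨-, v, -, rfl⟩ := Finset.mem_filter.1 hlO
        simp [h.2]
      · exact h.1 l (Finset.mem_sdiff.2 ⟨hl, hlO⟩)
    have hcard : (C \ O).card + O.card = C.card :=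
      Finset.card_sdiff_add_card_eq_card (Finset.filter_subset _ _)
    refine (Subgroup.index_inf_le).trans ?_
    rw [← hcard, mul_add, pow_add]
    refine Nat.mul_le_mul hKi ?_
    rw [Subgroup.index_ker]
    haveI : Finite μ.range := Finite.of_surjective _ μ.rangeRestrict_surjective
    haveI : IsCyclic μ.range := by
      exact isCyclic_of_subgroup_isDomain ((Units.coeHom ℂ).comp μ.range.subtype)
        (Units.val_injective.comp Subtype.val_injective)
    obtain ⟨z, hz⟩ := IsCyclic.exists_ofOrder_eq_natCard (α := μ.range)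
    obtain ⟨b, hb⟩ := z.2
    obtain ⟨k, hk⟩ := hpow b
    obtain ⟨j, -, hj⟩ := (Nat.dvd_prime_pow hp).1 (hk ▸ orderOf_map_dvd μ b)
    rw [hb, Subgroup.orderOf_coe, hz] at hj
    rw [hj]
    refine Nat.pow_le_pow_right hp.pos (arith (p := p) hp.two_le (Finset.card_pos.2 ⟨μ, hμO⟩) ?_)
    intro hj0
    have hdvd : p ^ j ∣ N := by
      rw [← hj, ← hz, ← Subgroup.orderOf_coe, ← hb]
      exact (orderOf_map_dvd μ b).trans (orderOf_dvd_of_pow_eq_one (hN b))
    haveI : NeZero (p ^ j) := ⟨pow_ne_zero _ hp.ne_zero⟩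
    set π := ZMod.unitsMap hdvd with hπ
    have hi : (S.map π).index ≤ (p - 1) * p ^ t :=
      (Nat.le_of_dvd (Nat.pos_of_ne_zero Subgroup.index_ne_zero_of_finite)
        (S.index_map_dvd (ZMod.unitsMap_surjective hdvd))).trans hS
    have hs : Nat.card (S.map π) ≤ O.card := by
      have hex : ∀ w : S.map π, ∃ u ∈ S, π u = (w : (ZMod (p ^ j))ˣ) := fun w => w.2
      choose u hu hπu using hex
      rw [← Nat.card_eq_finsetCard]
      refine Nat.card_le_card_of_injective (fun w => (⟨(powMonoidHom (u w : ZMod N).val).comp μ,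
        Finset.mem_filter.2 ⟨hC _ (hu w) μ hμ, u w, hu w, rfl⟩⟩ : O)) fun w w' h => ?_
      have h1 := DFunLike.congr_fun (congrArg Subtype.val h) b
      simp only [MonoidHom.coe_comp, Function.comp_apply, powMonoidHom_apply] at h1
      rw [pow_eq_pow_iff_modEq, show orderOf (μ b) = p ^ j by
        rw [hb, Subgroup.orderOf_coe, hz, hj]] at h1
      refine Subtype.ext ?_
      rw [← hπu w, ← hπu w']
      refine Units.ext ?_
      simp only [hπ, ZMod.unitsMap_def, Units.coe_map, MonoidHom.coe_coe, ZMod.castHom_apply]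
      rw [← ZMod.natCast_val, ← ZMod.natCast_val, ZMod.natCast_eq_natCast_iff]
      exact h1
    have h2 := (S.map π).index_mul_card
    rw [Nat.card_eq_fintype_card (α := (ZMod (p ^ j))ˣ), ZMod.card_units_eq_totient,
      Nat.totient_prime_pow hp (Nat.pos_of_ne_zero hj0)] at h2
    have h3 : (p - 1) * p ^ (j - 1) ≤ (p - 1) * (p ^ t * O.card) := by
      rw [← mul_assoc, mul_comm (p - 1) (p ^ (j - 1)), ← h2]
      exact Nat.mul_le_mul hi hs
    exact Nat.le_of_mul_le_mul_left h3 (Nat.sub_pos_of_lt hp.one_lt)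

theorem card_bound {a f t : ℕ} (hP : Nat.card P = p ^ a) {χ : P → ℂ} (hχ : IsCharacter P χ)
    (hfaith : ∀ g : P, χ g = χ 1 → g = 1) (hf : χ 1 = (f : ℂ)) (hf0 : 0 < f)
    (hfield : Module.finrank ℚ (IntermediateField.adjoin ℚ (Set.range χ)) = (p - 1) * p ^ t) :
    (p - 1) * a ≤ (f - 1) + (p - 1) * (t + 1) * f := by
  classical
  have hp : p.Prime := Fact.out
  have := Fintype.ofFinite P
  haveI : NeZero (Nat.card P) := ⟨Nat.card_pos.ne'⟩
  have hPp : IsPGroup p P := IsPGroup.of_card hP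
  haveI : Group.IsNilpotent P := hPp.isNilpotent
  obtain ⟨B, hBn, hBc, hBi⟩ := CfsgLib.Clifford.JordanBound.exists_abelian_of_monomial
    (monomial_of_isCyclicByNilpotent P isCyclicByNilpotent_of_isNilpotent) hχ hfaith hf
  obtain ⟨S, hSi, hS⟩ := exists_stabilizer hχ hfield
    (mul_ne_zero (Nat.sub_pos_of_lt hp.one_lt).ne' (pow_ne_zero _ hp.ne_zero))
  have := Fintype.ofFinite B
  set ψ : B → ℂ := χ ∘ B.subtype with hψ
  have hψc : IsCharacter B ψ := isCharacter_comp hχ _
  obtain ⟨l, hl, hsum⟩ := isCharacter_exists_multiset hψc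
  have hdeg : ∀ φ ∈ l, φ 1 = 1 := fun φ hφ =>
    irr_degree_one_of_comm (fun a b => Subtype.ext (hBc a a.2 b b.2)) (hl φ hφ)
  have hcard : (l.card : ℂ) = (f : ℂ) := by
    have h : ∀ m : Multiset (B → ℂ), (∀ φ ∈ m, φ 1 = 1) → (m.card : ℂ) = m.sum 1 := by
      intro m
      induction m using Multiset.induction with
      | empty => intro _; simp
      | cons φ m ih =>
        intro hm
        rw [Multiset.card_cons, Multiset.sum_cons, Pi.add_apply, hm φ (Multiset.mem_cons_self _ _),
          ← ih fun x hx => hm x (Multiset.mem_cons_of_mem hx)]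
        push_cast
        ring
    rw [h l hdeg, ← hsum, ← hf]
    simp [hψ]
  have hinner : ∀ φ : B → ℂ, IsIrrCharacter B φ → classInner ψ φ = (l.count φ : ℂ) := by
    intro φ hφ
    rw [hsum]
    have h : ∀ m : Multiset (B → ℂ), (∀ θ ∈ m, IsIrrCharacter B θ) →
        classInner m.sum φ = (m.count φ : ℂ) := by
      intro m
      induction m using Multiset.induction with
      | empty => intro _; simp [classInner_zero_left]
      | cons θ m ih =>
        intro hm
        rw [Multiset.sum_cons, classInner_add_left, ih fun x hx => hm x (Multiset.mem_cons_of_mem hx),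
          irr_classInner (hm θ (Multiset.mem_cons_self _ _)) hφ]
        by_cases h : θ = φ
        · rw [if_pos h, h, Multiset.count_cons_self]; push_cast; ring
        · rw [if_neg h, Multiset.count_cons_of_ne (Ne.symm h), zero_add]
    exact h l hl
  haveI : Finite (B →* ℂˣ) := Finite.of_injective _ (linearIrrEquiv (G := B)).injective
  have := Fintype.ofFinite (B →* ℂˣ)
  set C := Finset.univ.filter fun m : B →* ℂˣ => (fun b => (m b : ℂ)) ∈ l with hC
  have hCcard : C.card ≤ f := by
    have h1 : C.card ≤ l.toFinset.card := Finset.card_le_card_of_injOn (fun m b => (m b : ℂ))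
      (fun m hm => Multiset.mem_toFinset.2 (Finset.mem_filter.1 hm).2)
      (fun m _ m' _ h => MonoidHom.ext fun b => Units.ext (congrFun h b))
    exact h1.trans ((Multiset.toFinset_card_le l).trans_eq (Nat.cast_injective hcard))
  have hord : ∀ b : B, b ^ Nat.card P = 1 := fun b => Subtype.ext (pow_card_eq_one' (x := (b : P)))
  obtain ⟨K, hK, hKi⟩ := index_ker_le (p := p) (B := B) hord
    (fun b => IsPGroup.iff_orderOf.1 (hPp.to_subgroup B) b) S hSi C (fun u hu m hm => by
      refine Finset.mem_filter.2 ⟨Finset.mem_univ _, ?_⟩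
      rw [← Multiset.one_le_count_iff_mem, Nat.one_le_iff_ne_zero]
      intro h0
      have hm' : l.count (fun b => (m b : ℂ)) ≠ 0 :=
        Multiset.count_ne_zero.2 (Finset.mem_filter.1 hm).2
      apply hm'
      have e := hinner _ (isIrrCharacter_linear ((powMonoidHom (u : ZMod (Nat.card P)).val).comp m))
      rw [h0, Nat.cast_zero] at e
      refine Nat.cast_eq_zero (R := ℂ) |>.1 ?_
      rw [← hinner _ (isIrrCharacter_linear m), ← e, classInner_def, classInner_def]
      congr 1
      have hbij : Function.Bijective fun b : B => b ^ (u : ZMod (Nat.card P)).val :=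
        (powCoprime (Nat.Coprime.coprime_dvd_left (B.card_subgroup_dvd_card)
          (ZMod.val_coe_unit_coprime u).symm)).bijective
      refine (Fintype.sum_bijective _ hbij _ _ fun b => ?_).symm
      simp only [hψ, Function.comp_apply, Subgroup.coe_subtype, SubgroupClass.coe_pow,
        hS u hu, map_pow, MonoidHom.coe_comp, powMonoidHom_apply])
  have hKbot : K = ⊥ := by
    rw [eq_bot_iff]
    intro x hx
    rw [hK] at hx
    refine Subgroup.mem_bot.2 (Subtype.ext (hfaith _ ?_))
    have h : ∀ φ ∈ l, φ x = φ 1 := fun φ hφ => by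
      obtain ⟨m, rfl⟩ := exists_hom_of_degree_one (irr_isCharacter (hl φ hφ)) (hdeg φ hφ)
      simp [hx m (Finset.mem_filter.2 ⟨Finset.mem_univ _, hφ⟩)]
    have h2 : l.sum x = l.sum 1 := by
      rw [Pi.multiset_sum_apply, Pi.multiset_sum_apply, Multiset.map_congr rfl h]
    rw [← hsum] at h2
    simpa [hψ] using h2
  rw [hKbot, Subgroup.index_bot] at hKi
  obtain ⟨i, -, hi⟩ := (Nat.dvd_prime_pow hp).1 (hP ▸ B.index_dvd_card)
  obtain ⟨k, -, hk⟩ := (Nat.dvd_prime_pow hp).1 (hP ▸ B.card_subgroup_dvd_card)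
  have haik : a = k + i := by
    have := B.card_mul_index
    rw [hP, hi, hk, ← pow_add] at this
    exact (Nat.pow_right_injective hp.two_le this).symm
  have hk' : k ≤ (t + 1) * f := by
    rw [hk] at hKi
    exact (Nat.pow_le_pow_iff_right hp.one_lt).1
      (hKi.trans (Nat.pow_le_pow_right hp.pos (Nat.mul_le_mul_left _ hCcard)))
  have hi' : (p - 1) * i ≤ f - 1 := by
    rw [hi] at hBi
    have h1 := (hp.pow_dvd_iff_le_factorization f.factorial_ne_zero).1 hBi
    rw [Nat.factorization_def _ hp] at h1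
    have h2 := sub_one_mul_padicValNat_factorial_lt_of_ne_zero (p := p) (n := f) hf0.ne'
    have h3 := Nat.mul_le_mul_left (p - 1) h1
    omega
  rw [haik, mul_add, mul_assoc, add_comm]
  exact add_le_add hi' (Nat.mul_le_mul_left _ hk')

end CfsgLib.BlockA.FieldBound
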