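import Cfsg.Agent.Lib.BlockA.BlockFusion
import Cfsg.Agent.Lib.BlockA.CoverSub

/-! The extended first main theorem: blocks of `P C(P)` and maximal pairs. -/

set_option autoImplicit false
set_option linter.unusedSectionVars false
set_option maxHeartbeats 1000000

namespace CfsgLib.BlockA

open Cfsg CfsgLib.Block MonoidAlgebra

universe u

variable {G : Type u} [Group G] [Finite G] {p : ℕ} {M : Ideal AlgInt} [M.IsPrime]

local notation "cen" Q => Subgroup.centralizer ((Q : Subgroup G) : Set G)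

theorem sup_cen_le_pairStab (P : Subgroup G) (e : Set (IrrCharacter (cen P))) :
    (P ⊔ (cen P)) ≤ pairStab M P e :=
  sup_le (le_pairStab P e) (centralizer_le_pairStab P e)

variable (hM : IsPModular p M) {P : Subgroup G} (hP : IsPGroup p P)
include hM hP

/-- Every block of `P C(P)` lies over a block of `C(P)`. -/
theorem exists_cen_block {H : Subgroup G} (hH : H = P ⊔ (cen P)) {b : Set (IrrCharacter H)}
    (hb : IsPBlock M b) :
    ∃ e : Set (IrrCharacter (cen P)), IsBrauerPair p M P e ∧ IsBlockOver M H P e b := by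
  classical
  subst hH
  have := Fintype.ofFinite ↥(P ⊔ (cen P))
  have := Fintype.ofFinite ↥(Subgroup.centralizer (P : Set G))
  obtain ⟨ψ, hψ⟩ := isPBlock_nonempty hb
  by_contra hne
  push Not at hne
  have hex : ∀ e : Set (IrrCharacter (cen P)), IsPBlock M e →
      ∃ F : Set (IrrCharacter ↥(P ⊔ (cen P))), IsBlockOver M (P ⊔ (cen P)) P e F := fun e he =>
    exists_isBlockOver hM ⟨hP, he⟩ le_sup_left le_sup_right (sup_cen_le_pairStab P e)
  choose F hF using hex
  have hsum : ∑ e ∈ (allBlocks M (cen P)).attach, blkIdem M (F e.1 (mem_allBlocks.1 e.2)) =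
      (1 : Subalgebra.center (kres M) (MonoidAlgebra (kres M) ↥(P ⊔ (cen P)))) := by
    apply Subtype.ext
    ext t
    rw [AddSubmonoidClass.coe_finsetSum, coeff_sum, Finsupp.finsetSum_apply, OneMemClass.coe_one]
    simp only [fun (e : {x // x ∈ allBlocks M (cen P)}) =>
      coeff_blkIdem_over hM (hF e.1 (mem_allBlocks.1 e.2)) t]
    rw [Finset.sum_attach (f := fun e => (sIdem M (cen P) e).coeff (t : G))]
    have h1 := congrArg (fun a : MonoidAlgebra (kres M) G => a.coeff (t : G))
      (sum_sIdem hM (M := M) (cen P))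
    rw [coeff_sum, Finsupp.finsetSum_apply] at h1
    rw [h1]
    simp only [MonoidAlgebra.one_def, coeff_single, Finsupp.single_apply]
    exact if_congr (by rw [← Subgroup.coe_one, Subtype.coe_inj]) rfl rfl
  have h := congrArg (lam M ψ) hsum
  rw [map_sum, map_one, Finset.sum_eq_zero fun e _ => ?_] at h
  · exact zero_ne_one h
  · rw [lam_blkIdem hM (hF e.1 (mem_allBlocks.1 e.2)).1, if_neg]
    intro hm
    have he := hF e.1 (mem_allBlocks.1 e.2)
    rw [isPBlock_eq_of_mem he.1 hb hm hψ] at he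
    exact hne e.1 ⟨hP, mem_allBlocks.1 e.2⟩ he

omit hP in
theorem sIdem_over {T Q : Subgroup G} {f : Set (IrrCharacter (cen Q))}
    {F : Set (IrrCharacter T)} (hF : IsBlockOver M T Q f F) (hC : (cen Q) ≤ T) :
    sIdem M T F = sIdem M (cen Q) f := by
  ext g
  by_cases hg : g ∈ T
  · rw [show g = ((⟨g, hg⟩ : T) : G) from rfl]
    conv_lhs => rw [sIdem, coeff_inclSub_of_mem]
    exact coeff_blkIdem_over hM hF _
  · rw [coeff_sIdem_of_not_mem _ hg, coeff_sIdem_of_not_mem _ fun h => hg (hC h)]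

/-- A block of `T ≥ C(P)` over `e` inducing `B` makes `(P, e)` a pair of `B`. -/
theorem isBrauerPairOf_of_induced {T : Subgroup G} (hPT : P ≤ T) (hC : (cen P) ≤ T)
    (hTN : T ≤ Subgroup.normalizer (P : Set G)) {e : Set (IrrCharacter (cen P))}
    (he : IsBrauerPair p M P e) {b : Set (IrrCharacter T)} (hbe : IsBlockOver M T P e b)
    {B : Set (IrrCharacter G)} (hind : IsInducedBlock M T b B) :
    IsBrauerPairOf p M B P e := by
  classical
  have := Fact.mk hM.1
  have := charP_kres hM
  obtain ⟨ξ, hξ⟩ := isPBlock_nonempty hind.1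
  obtain ⟨χ, hχ⟩ := isPBlock_nonempty hind.2.1
  have h1 := (isInducedBlock_iff T hind.1 hind.2.1 hξ hχ).1 hind (blkIdem M B)
  rw [lam_resZ_eq_brHom hM hP hPT hC hTN, lam_blkIdem hM hind.2.1, if_pos hχ] at h1
  set w := brHom hP hC hTN (blkIdem M B) with hw
  have hww : w * w = w := by rw [hw, ← map_mul, blkIdem_idem hM hind.2.1]
  have h2 := congrArg (fun a : Subalgebra.center (kres M) (MonoidAlgebra (kres M) T) =>
    inclSub T (a : MonoidAlgebra (kres M) T)) ((mul_comm _ w).trans (mul_blkIdem_of_lam_eq_one hM hww hind.1 hξ h1))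
  simp only [MulMemClass.coe_mul, map_mul] at h2
  have hwi : inclSub T (w : MonoidAlgebra (kres M) T) =
      inclSub (cen P) (resSub (cen P) (blkIdem M B : MonoidAlgebra (kres M) G)) := by
    ext g
    rw [hw, coe_brHom]
    by_cases hg : g ∈ cen P
    · rw [show g = ((⟨g, hC hg⟩ : T) : G) from rfl, coeff_inclSub_of_mem,
        coeff_brRes_of_mem _ hg, show ((⟨g, hC hg⟩ : T) : G) = ((⟨g, hg⟩ : cen P) : G) from rfl,
        coeff_inclSub_of_mem, coeff_resSub]
    · rw [coeff_inclSub_of_not_mem _ _ hg]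
      by_cases hgT : g ∈ T
      · rw [show g = ((⟨g, hgT⟩ : T) : G) from rfl, coeff_inclSub_of_mem,
          coeff_brRes_of_not_mem _ hg]
      · rw [coeff_inclSub_of_not_mem _ _ hgT]
  rw [hwi, ← sIdem, sIdem_over hM hbe hC] at h2
  rw [isBrauerPairOf_iff_mul hM he hind.2.1]
  exact h2

omit hP in
/-- Stabilisers of `b` and of `e`. -/
theorem eq_pairStab_of_over {H T : Subgroup G} (hH : H = P ⊔ (cen P))
    {e : Set (IrrCharacter (cen P))} {b : Set (IrrCharacter H)}
    (hbe : IsBlockOver M H P e b)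
    (hT : ∀ g : G, g ∈ T ↔ (g ∈ Subgroup.normalizer (P : Set G) ∧ ∀ θ ∈ b,
      ∀ θ' : IrrCharacter H, (∀ h h' : H, (h' : G) = g * h * g⁻¹ →
        (θ' : H → ℂ) h' = (θ : H → ℂ) h) → θ' ∈ b)) :
    T = pairStab M P e := by
  have hHN : ∀ g ∈ Subgroup.normalizer (P : Set G), g ∈ Subgroup.normalizer (H : Set G) := by
    intro g hg
    rw [Subgroup.mem_normalizer_iff]
    have hP' : P.map (MulAut.conj g).toMonoidHom = P := by
      ext q
      rw [mem_map_conj_iff]
      exact (Subgroup.mem_normalizer_iff''.1 hg q).symm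
    have hmap : H.map (MulAut.conj g).toMonoidHom = H := by
      rw [hH, Subgroup.map_sup, map_conj_centralizer, hP']
    intro h
    conv_rhs => rw [← hmap]
    rw [mem_map_conj_iff]
    simp [mul_assoc]
  have hcoef : ∀ g, g ∈ Subgroup.normalizer (P : Set G) → (StabilizesBlock H b g ↔
      ∀ x, (sIdem M (cen P) e).coeff (g⁻¹ * x * g) = (sIdem M (cen P) e).coeff x) := by
    intro g hg
    rw [← sIdem_over hM hbe (hH ▸ le_sup_right), stabilizesBlock_iff hbe.1]
    constructor
    · rintro ⟨hx, he⟩ x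
      have := coeff_sIdem_conjSet hM (⟨g, hx⟩ : Subgroup.normalizer (H : Set G)) b x
      rw [he] at this
      exact this.symm
    · intro h
      refine ⟨hHN g hg, sIdem_injective hM (isPBlock_blockMap _ hbe.1) hbe.1 ?_⟩
      ext x
      rw [coeff_sIdem_conjSet hM]
      exact h x
  ext g
  rw [hT]
  constructor
  · rintro ⟨hg, h⟩
    refine ⟨hg, (hcoef g hg).1 ⟨hHN g hg, fun θ hθ => ?_⟩⟩
    let θ' : IrrCharacter H := irrMap (conjAut (⟨g, hHN g hg⟩ : Subgroup.normalizer (H : Set G))⁻¹) θ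
    have hc : ∀ h h' : H, (h' : G) = g * h * g⁻¹ → (θ' : H → ℂ) h' = (θ : H → ℂ) h := by
      intro k k' hk
      simp only [θ', irrMap_apply]
      refine congrArg (θ : H → ℂ) (Subtype.ext ?_)
      simp [hk, mul_assoc]
    exact ⟨θ', h θ hθ θ' hc, hc⟩
  · intro hg
    refine ⟨hg.1, fun θ hθ θ' hc => ?_⟩
    obtain ⟨θ'', hθ'', hc'⟩ := ((hcoef g hg.1).2 hg.2).2 θ hθ
    have : θ' = θ'' := Subtype.ext (funext fun k' => by
      have hk : g⁻¹ * (k' : G) * g ∈ H := by
        simpa [mul_assoc] using (Subgroup.mem_normalizer_iff.1 (inv_mem (hHN g hg.1)) _).1 k'.2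
      rw [hc ⟨_, hk⟩ k' (by simp [mul_assoc]), hc' ⟨_, hk⟩ k' (by simp [mul_assoc])])
    exact this ▸ hθ''

/-- **The extended first main theorem.** -/
theorem induced_defectGroup_iff {H T : Subgroup G} (hH : H = P ⊔ (cen P))
    {b : Set (IrrCharacter H)} (hb : IsPBlock M b) (hbP : IsDefectGroup p M b (P.subgroupOf H))
    {B : Set (IrrCharacter G)} (hind : IsInducedBlock M H b B)
    (hT : ∀ g : G, g ∈ T ↔ (g ∈ Subgroup.normalizer (P : Set G) ∧ ∀ θ ∈ b,
      ∀ θ' : IrrCharacter H, (∀ h h' : H, (h' : G) = g * h * g⁻¹ →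
        (θ' : H → ℂ) h' = (θ : H → ℂ) h) → θ' ∈ b)) :
    IsDefectGroup p M B P ↔ ¬ p ∣ H.relIndex T := by
  classical
  have := Fact.mk hM.1
  obtain ⟨e, he, hbe⟩ := exists_cen_block hM hP hH hb
  have hPH : P ≤ H := hH ▸ le_sup_left
  have hCH : (cen P) ≤ H := hH ▸ le_sup_right
  have hHs : H ≤ pairStab M P e := hH ▸ sup_cen_le_pairStab P e
  have hpair := isBrauerPairOf_of_induced hM hP hPH hCH (hHs.trans (pairStab_le P e)) he hbe hind
  rw [eq_pairStab_of_over hM hH hbe hT]
  constructor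
  · intro hD
    have hmax := isMaximal_of_card hM hpair hD le_rfl
    obtain ⟨F', hF'⟩ := exists_isBlockOver hM he (le_pairStab P e) (centralizer_le_pairStab P e)
      le_rfl
    obtain ⟨D, hD'⟩ := exists_isDefectGroup hM hF'.1
    have hR : D.map (pairStab M P e).subtype ≤ pairStab M P e := Subgroup.map_subtype_le D
    have hRD : (D.map (pairStab M P e).subtype).subgroupOf (pairStab M P e) ≤ D :=
      (Subgroup.comap_map_eq_self_of_injective (Subgroup.subtype_injective _) D).le
    obtain ⟨g, hg⟩ := exists_pair_of_le_defect hM hF' he le_rfl hR hD' hRD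
    have hle : SubpairLE p M P e _ g := Relation.ReflTransGen.single hg
    have hgB := (isBrauerPairOf_iff_of_le hM hg.2.1 hle hpair.2.1).2 hpair
    have heq := hmax.2 _ g hgB hle
    have hDP : D ≤ H.subgroupOf (pairStab M P e) := fun d hd => by
      rw [Subgroup.mem_subgroupOf]
      refine hPH ?_
      exact heq.le (Subgroup.mem_sup_right ⟨d, hd, rfl⟩)
    intro hdvd
    refine not_dvd_index_over hM hF' he (le_pairStab P e) (centralizer_le_pairStab P e) le_rfl hD'
      (hdvd.trans (Subgroup.index_dvd_of_le (sup_le ?_ hDP)))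
    exact fun c hc => hCH hc
  · intro hdvd
    obtain ⟨R, g₀, hmax, hle⟩ := exists_maximal_ge hM _ P e hpair rfl
    by_cases hRP : P = R
    · subst hRP
      exact (maximal_core hM hmax).1
    exfalso
    have hPR := subpairLE_le hle
    have hRp := hmax.1.1.1
    have hlt := lt_normalizer_inf hM hRp hPR hRP
    have hSs : R ⊓ Subgroup.normalizer (P : Set G) ≤ pairStab M P e :=
      inf_le_pairStab hM hmax.1.1 hle
    have hn : (H.subgroupOf (pairStab M P e)).Normal := by
      refine ⟨fun h hh t => ?_⟩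
      rw [Subgroup.mem_subgroupOf] at hh ⊢
      have ht : (t : G) ∈ Subgroup.normalizer (P : Set G) := pairStab_le P e t.2
      rw [hH] at hh ⊢
      have hP' : P.map (MulAut.conj (t : G)).toMonoidHom = P := by
        ext q
        rw [mem_map_conj_iff]
        exact (Subgroup.mem_normalizer_iff''.1 ht q).symm
      have hmap : (P ⊔ (cen P)).map (MulAut.conj (t : G)).toMonoidHom = P ⊔ (cen P) := by
        rw [Subgroup.map_sup, map_conj_centralizer, hP']
      rw [← hmap, mem_map_conj_iff]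
      simpa [mul_assoc] using hh
    set S := R ⊓ Subgroup.normalizer (P : Set G) with hS
    have h1 : H.relIndex S ∣ H.relIndex (pairStab M P e) := by
      have h := Subgroup.relIndex_dvd_index_of_normal (H.subgroupOf (pairStab M P e))
        (K := S.subgroupOf (pairStab M P e))
      rwa [Subgroup.relIndex_subgroupOf hSs] at h
    obtain ⟨k, hk⟩ := (IsPGroup.iff_card (p := p)).1 (hRp.to_le (inf_le_left : S ≤ R))
    obtain ⟨i, -, hi⟩ := (Nat.dvd_prime_pow hM.1).1 (hk ▸ Subgroup.relIndex_dvd_card H S)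
    have hSH : S ≤ H := by
      rw [← Subgroup.relIndex_eq_one, hi]
      rcases Nat.eq_zero_or_pos i with rfl | hi0
      · rfl
      · exact absurd ((dvd_pow_self p hi0.ne').trans (hi ▸ h1)) hdvd
    obtain ⟨D, hD, hleD⟩ := inf_le_defect hM hbe hCH hHs hmax.1.1 hle
    have h2 := Subgroup.card_le_of_le hleD
    rw [natCard_defectGroup hM hb hD, ← natCard_defectGroup hM hb hbP,
      Nat.card_congr (Subgroup.subgroupOfEquivOfLe (inf_le_right : R ⊓ H ≤ H)).toEquiv,
      Nat.card_congr (Subgroup.subgroupOfEquivOfLe hPH).toEquiv] at h2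
    have h3 : Nat.card S ≤ Nat.card P :=
      (Subgroup.card_le_of_le (le_inf inf_le_left hSH)).trans h2
    exact hlt.ne (Subgroup.eq_of_le_of_card_ge hlt.le h3)

end CfsgLib.BlockA
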