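import Cfsg.Agent.Lib.Block.Covering
import Cfsg.Agent.Lib.BlockA.Galois
import Cfsg.Agent.Lib.Char.Column
import Cfsg.Agent.Lib.Char.Linear
import Cfsg.Agent.Lib.Clifford.CosetAvg
import Cfsg.Agent.Lib.Clifford.Extension
import Cfsg.Agent.Lib.BlockB.McKayBasic
import Mathlib.GroupTheory.Sylow
import Mathlib.GroupTheory.IndexNormal
import Mathlib.FieldTheory.Finite.Basic

/-! Characters fixed by a power map over a fixed character of a normal subgroup of odd index. -/

set_option autoImplicit false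
set_option linter.unusedSectionVars false
set_option maxHeartbeats 1000000

namespace CfsgLib.BlockA.FixedOverOdd

open Cfsg CfsgLib.Block
open scoped ComplexConjugate

universe u

section Count

variable {G : Type u} [Group G] [Fintype G] {N : Subgroup G} [hN : N.Normal] [Fintype N]

theorem resClass (χ : IrrCharacter G) : IsClassFunction N (fun n : N => (χ : G → ℂ) n) := fun n h => by
  push_cast
  exact CfsgLib.Char.irr_isClassFunction χ.2 (n : G) (h : G)

/-- Restrictions of two characters over the same constituent are proportional. -/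
theorem proportional {θ : IrrCharacter N} {χ χ₀ : IrrCharacter G}
    (hχ : classInner (fun n : N => (χ : G → ℂ) n) (θ : N → ℂ) ≠ 0)
    (hχ₀ : classInner (fun n : N => (χ₀ : G → ℂ) n) (θ : N → ℂ) ≠ 0) (n : N) :
    (χ : G → ℂ) n * (χ₀ : G → ℂ) 1 = (χ₀ : G → ℂ) n * (χ : G → ℂ) 1 := by
  have := Fintype.ofFinite (IrrCharacter N)
  set a := fun (φ : IrrCharacter G) (ψ : IrrCharacter N) =>
    classInner (fun m : N => (φ : G → ℂ) m) (ψ : N → ℂ) with ha
  have h : ∀ ψ, a χ ψ * a χ₀ θ = a χ₀ ψ * a χ θ := fun ψ => by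
    by_cases h1 : a χ ψ = 0
    · by_cases h2 : a χ₀ ψ = 0
      · rw [h1, h2, zero_mul, zero_mul]
      · obtain ⟨g, rfl⟩ := exists_conjIrr_eq hχ₀ h2
        exact absurd ((classInner_res_conjIrr χ θ g).symm.trans h1) hχ
    · obtain ⟨g, rfl⟩ := exists_conjIrr_eq hχ h1
      simp only [ha, classInner_res_conjIrr]
      ring
  have key : ∀ m : N, (χ : G → ℂ) m * a χ₀ θ = (χ₀ : G → ℂ) m * a χ θ := fun m => by
    rw [CfsgLib.Char.classFunction_apply_eq_sum (resClass χ) m,
      CfsgLib.Char.classFunction_apply_eq_sum (resClass χ₀) m, Finset.sum_mul, Finset.sum_mul]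
    refine Finset.sum_congr rfl fun ψ _ => ?_
    linear_combination ((ψ : N → ℂ) m) * h ψ
  have h1 := key 1
  simp only [OneMemClass.coe_one] at h1
  refine mul_left_cancel₀ hχ₀ ?_
  linear_combination (χ₀ : G → ℂ) 1 * key n - (χ₀ : G → ℂ) n * h1

theorem scalar (χ₀ χ : IrrCharacter G) (x : G) :
    (∑ n : N, (χ₀ : G → ℂ) n * (χ : G → ℂ) (x * (n : G)⁻¹)) * (χ : G → ℂ) 1 =
      (χ : G → ℂ) x * ∑ n : N, (χ₀ : G → ℂ) n * conj ((χ : G → ℂ) n) := by
  classical
  obtain ⟨m, ρ, hρ, hχ⟩ := χ.2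
  let f : G → ℂ := fun g => if g ∈ N then (χ₀ : G → ℂ) g else 0
  have hf : IsClassFunction G f := fun g h => by
    have hmem : h * g * h⁻¹ ∈ N ↔ g ∈ N :=
      ⟨fun hg => by simpa [mul_assoc] using hN.conj_mem _ hg h⁻¹, fun hg => hN.conj_mem g hg h⟩
    simp only [f, hmem, CfsgLib.Char.irr_isClassFunction χ₀.2 g h]
  have hsum : ∀ F : G → ℂ, ∑ g, f g * F g = ∑ n : N, (χ₀ : G → ℂ) n * F n := fun F => by
    rw [← Finset.sum_subset (Finset.subset_univ (Finset.univ.filter (· ∈ N)))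
      (fun g _ hg => by simp only [f, if_neg (show g ∉ N by simpa using hg), zero_mul])]
    rw [Finset.sum_subtype (Finset.univ.filter (· ∈ N)) (p := (· ∈ N)) (by simp)]
    exact Finset.sum_congr rfl fun n _ => by simp only [f, if_pos n.2]
  have hop := congrArg (fun T => LinearMap.trace ℂ _ (ρ x ∘ₗ T))
    (CfsgLib.Char.classOp_eq_scalar hf ρ)
  simp only [CfsgLib.Char.classOp, LinearMap.comp_smul, LinearMap.comp_id, map_smul,
    smul_eq_mul, ← Module.End.mul_eq_comp, Finset.mul_sum, Algebra.mul_smul_comm, map_sum,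
    ← map_mul] at hop
  have hd : (Module.finrank ℂ (Fin m → ℂ) : ℂ) = (χ : G → ℂ) 1 := by
    rw [← hχ, Representation.char_one]
  have h1 := CfsgLib.Char.irr_apply_one_ne_zero χ.2
  rw [hd, CfsgLib.Char.classInner_def, ← mul_assoc, mul_inv_cancel₀ CfsgLib.Char.natCard_ne_zero,
    one_mul] at hop
  change ∑ g, f g * ρ.character (x * g⁻¹) = _ * ρ.character x at hop
  rw [hχ, hsum, hsum, div_mul_eq_mul_div, eq_div_iff h1] at hop
  rw [hop, mul_comm]

/-- The restriction norm. -/
noncomputable def resNorm (N : Subgroup G) [Fintype N] (χ₀ : IrrCharacter G) : ℂ :=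
  ∑ n : N, (χ₀ : G → ℂ) n * conj ((χ₀ : G → ℂ) n)

theorem resNorm_ne_zero (χ₀ : IrrCharacter G) : resNorm N χ₀ ≠ 0 := fun h => by
  have h1 : classInner (fun n : N => (χ₀ : G → ℂ) n) (fun n : N => (χ₀ : G → ℂ) n) = 0 := by
    rw [CfsgLib.Char.classInner_def]
    exact mul_eq_zero_of_right _ h
  have h2 := congrFun (CfsgLib.Char.classInner_self_eq_zero h1) 1
  exact CfsgLib.Char.irr_apply_one_ne_zero χ₀.2 (by simpa using h2)

/-- The characters over `θ`. -/
noncomputable def charsOver (N : Subgroup G) [Fintype N] (θ : IrrCharacter N) :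
    Finset (IrrCharacter G) :=
  (Set.toFinite {χ : IrrCharacter G |
    classInner (fun n : N => (χ : G → ℂ) n) (θ : N → ℂ) ≠ 0}).toFinset

theorem mem_charsOver {θ : IrrCharacter N} {χ : IrrCharacter G} :
    χ ∈ charsOver N θ ↔ classInner (fun n : N => (χ : G → ℂ) n) (θ : N → ℂ) ≠ 0 :=
  Set.Finite.mem_toFinset _

/-- The kernel of the projection to the characters over `θ`. -/
theorem kernel_eq {θ : IrrCharacter N} {χ₀ : IrrCharacter G}
    (hχ₀ : classInner (fun n : N => (χ₀ : G → ℂ) n) (θ : N → ℂ) ≠ 0) (x y : G) :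
    resNorm N χ₀ * ∑ χ ∈ charsOver N θ, (χ : G → ℂ) x * conj ((χ : G → ℂ) y) =
      (χ₀ : G → ℂ) 1 * ∑ n : N, (χ₀ : G → ℂ) n *
        (haveI := Classical.dec (IsConj (x * (n : G)⁻¹) y)
         if IsConj (x * (n : G)⁻¹) y then
          (Nat.card (Subgroup.centralizer ({x * (n : G)⁻¹} : Set G)) : ℂ) else 0) := by
  classical
  have := Fintype.ofFinite (IrrCharacter G)
  have := Fintype.ofFinite (IrrCharacter N)
  have h : ∀ χ : IrrCharacter G,
      (χ₀ : G → ℂ) 1 * ∑ n : N, (χ₀ : G → ℂ) n * (χ : G → ℂ) (x * (n : G)⁻¹) =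
        if χ ∈ charsOver N θ then resNorm N χ₀ * (χ : G → ℂ) x else 0 := fun χ => by
    have hs := scalar (N := N) χ₀ χ x
    have h1 := CfsgLib.Char.irr_apply_one_ne_zero χ.2
    split_ifs with hm
    · rw [mem_charsOver] at hm
      have hA : (∑ n : N, (χ₀ : G → ℂ) n * conj ((χ : G → ℂ) n)) * conj ((χ₀ : G → ℂ) 1) =
          resNorm N χ₀ * conj ((χ : G → ℂ) 1) := by
        rw [resNorm, Finset.sum_mul, Finset.sum_mul]
        refine Finset.sum_congr rfl fun n _ => ?_
        have := congrArg conj (proportional hm hχ₀ n)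
        rw [map_mul, map_mul] at this
        linear_combination (χ₀ : G → ℂ) n * this
      obtain ⟨d, hd⟩ := CfsgLib.Char.char_apply_one_eq_nat (CfsgLib.Char.irr_isCharacter χ.2)
      obtain ⟨e, he⟩ := CfsgLib.Char.char_apply_one_eq_nat (CfsgLib.Char.irr_isCharacter χ₀.2)
      rw [hd, he, Complex.conj_natCast, Complex.conj_natCast] at hA
      rw [hd] at hs h1
      rw [he]
      refine mul_left_cancel₀ h1 ?_
      linear_combination (e : ℂ) * hs + (χ : G → ℂ) x * hA
    · rw [mem_charsOver, not_not] at hm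
      have h0 : ∑ n : N, (χ₀ : G → ℂ) n * conj ((χ : G → ℂ) n) = 0 := by
        have h2 := CfsgLib.Char.classInner_eq_sum_mul (resClass (N := N) χ₀)
          (fun n : N => (χ : G → ℂ) n)
        rw [CfsgLib.Char.classInner_def] at h2
        have hz : ∀ ψ : IrrCharacter N,
            classInner (fun n : N => (χ₀ : G → ℂ) n) (ψ : N → ℂ) ≠ 0 →
              classInner (fun n : N => (χ : G → ℂ) n) (ψ : N → ℂ) = 0 := fun ψ hψ => by
          obtain ⟨g, rfl⟩ := exists_conjIrr_eq hχ₀ hψ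
          rw [classInner_res_conjIrr, hm]
        rw [Finset.sum_eq_zero (s := (Finset.univ : Finset (IrrCharacter N))) (fun ψ _ => ?_)] at h2
        · exact (mul_eq_zero.1 h2).resolve_left (inv_ne_zero CfsgLib.Char.natCard_ne_zero)
        · by_cases hψ : classInner (fun n : N => (χ₀ : G → ℂ) n) (ψ : N → ℂ) = 0
          · rw [hψ, zero_mul]
          · rw [hz ψ hψ, map_zero, mul_zero]
      rw [h0, mul_zero] at hs
      rw [(mul_eq_zero.1 hs).resolve_right h1, mul_zero]
  have hl : resNorm N χ₀ * ∑ χ ∈ charsOver N θ, (χ : G → ℂ) x * conj ((χ : G → ℂ) y) =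
      ∑ χ : IrrCharacter G, ((χ₀ : G → ℂ) 1 *
        ∑ n : N, (χ₀ : G → ℂ) n * (χ : G → ℂ) (x * (n : G)⁻¹)) * conj ((χ : G → ℂ) y) := by
    rw [Finset.mul_sum, ← Finset.sum_filter_add_sum_filter_not Finset.univ (· ∈ charsOver N θ),
      Finset.sum_eq_zero (s := Finset.univ.filter (fun χ => χ ∉ charsOver N θ)) (fun χ hχ => ?_), add_zero,
      show Finset.univ.filter (· ∈ charsOver N θ) = charsOver N θ by ext; simp]
    · exact Finset.sum_congr rfl fun χ hχ => by rw [h χ, if_pos hχ, mul_assoc]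
    · rw [h χ, if_neg (Finset.mem_filter.1 hχ).2, zero_mul]
  rw [hl]
  simp only [mul_assoc, Finset.sum_mul, ← Finset.mul_sum]
  congr 1
  rw [Finset.sum_comm]
  refine Finset.sum_congr rfl fun n _ => ?_
  simp only [mul_assoc, ← Finset.mul_sum]
  congr 1
  convert CfsgLib.Char.column_orthogonality (x * (n : G)⁻¹) y

/-- In a group of odd order only the identity is conjugate to its inverse. -/
theorem eq_one_of_isConj_inv {Q : Type u} [Group Q] [Finite Q] (ho : Odd (Nat.card Q)) {x : Q}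
    (h : IsConj x⁻¹ x) : x = 1 := by
  obtain ⟨c, hc⟩ := isConj_iff.1 h
  obtain ⟨t, ht⟩ := ho.of_dvd_nat (orderOf_dvd_natCard c)
  obtain ⟨s, hs⟩ := ho.of_dvd_nat (orderOf_dvd_natCard x)
  have hc' : c * x * c⁻¹ = x⁻¹ := by
    have := congrArg (fun y : Q => y⁻¹) hc
    simpa [mul_assoc] using this
  have h2 : Commute (c ^ 2) x := by
    have : c ^ 2 * x * (c ^ 2)⁻¹ = x := by
      calc c ^ 2 * x * (c ^ 2)⁻¹ = c * (c * x * c⁻¹) * c⁻¹ := by
            rw [pow_two]; simp [mul_assoc]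
        _ = x := by rw [hc', hc]
    exact mul_inv_eq_iff_eq_mul.1 this
  have h3 : Commute c x := by
    have h4 := h2.pow_left (t + 1)
    rwa [← pow_mul, show 2 * (t + 1) = orderOf c + 1 by omega, pow_succ, pow_orderOf_eq_one,
      one_mul] at h4
  have hx : x⁻¹ = x := by rw [← hc', h3.eq, mul_inv_cancel_right]
  have hx2 : x ^ 2 = 1 := by
    rw [pow_two]
    nth_rewrite 1 [← hx]
    exact inv_mul_cancel x
  rw [← pow_orderOf_eq_one x, hs, pow_succ, pow_mul, hx2, one_pow, one_mul]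

variable {k : ℕ} (hidx : Odd N.index) (hk : Nat.Coprime k (Nat.card G))
  (hk₂ : ∀ g : G, Odd (orderOf g) → g ^ k = g⁻¹)
include hidx hk hk₂

/-- The power map inverts the quotient. -/
theorem mk_pow_eq_inv (g : G) : (g : G ⧸ N) ^ k = (g : G ⧸ N)⁻¹ := by
  obtain ⟨v, m, hm, hv⟩ := Nat.exists_eq_two_pow_mul_odd (orderOf_pos g).ne'
  have hoQ : Odd (orderOf (g : G ⧸ N)) :=
    hidx.of_dvd_nat (Subgroup.index_eq_card N ▸ orderOf_dvd_natCard _)
  have hd : orderOf (g : G ⧸ N) ∣ m := by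
    have : orderOf (g : G ⧸ N) ∣ 2 ^ v * m :=
      hv ▸ orderOf_map_dvd (QuotientGroup.mk' N) g
    exact (Nat.Coprime.pow_right v hoQ.coprime_two_right).dvd_of_dvd_mul_left this
  obtain ⟨u, hu⟩ := hd
  -- an element of odd order in the same coset
  obtain ⟨s, hs⟩ : ∃ s : ℕ, 2 ^ v * s ≡ 1 [MOD m] := by
    have hcop : Nat.Coprime (2 ^ v) m := Nat.Coprime.pow_left v hm.coprime_two_left
    have hφ : 0 < Nat.totient m := Nat.totient_pos.2 hm.pos
    refine ⟨(2 ^ v) ^ (Nat.totient m - 1), ?_⟩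
    rw [← pow_succ', Nat.sub_add_cancel hφ]
    exact Nat.ModEq.pow_totient hcop
  set g' := g ^ (2 ^ v * s) with hg'
  have hodd : Odd (orderOf g') := by
    refine hm.of_dvd_nat (orderOf_dvd_of_pow_eq_one ?_)
    rw [hg', ← pow_mul, show 2 ^ v * s * m = orderOf g * s by rw [hv]; ring, pow_mul,
      pow_orderOf_eq_one, one_pow]
  have hmk : ((g' : G) : G ⧸ N) = (g : G ⧸ N) := by
    rw [hg', QuotientGroup.mk_pow]
    conv_rhs => rw [← pow_one (g : G ⧸ N)]
    exact pow_eq_pow_iff_modEq.2 (hs.of_dvd ⟨u, hu⟩)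
  rw [← hmk, ← QuotientGroup.mk_pow, hk₂ g' hodd, QuotientGroup.mk_inv]

variable (θ : IrrCharacter N) (hθ : ∀ n : N, (θ : N → ℂ) (n ^ k) = (θ : N → ℂ) n)
include hθ

theorem res_fixed (χ : IrrCharacter G)
    (hχ : classInner (fun n : N => (χ : G → ℂ) n) (θ : N → ℂ) ≠ 0) (n : N) :
    (χ : G → ℂ) ((n : G) ^ k) = (χ : G → ℂ) n := by
  have := Fintype.ofFinite (IrrCharacter N)
  rw [show (n : G) ^ k = ((n ^ k : N) : G) from (SubgroupClass.coe_pow n k).symm,
    CfsgLib.Char.classFunction_apply_eq_sum (resClass χ) (n ^ k),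
    CfsgLib.Char.classFunction_apply_eq_sum (resClass χ) n]
  refine Finset.sum_congr rfl fun ψ _ => ?_
  by_cases h : classInner (fun n : N => (χ : G → ℂ) n) (ψ : N → ℂ) = 0
  · rw [h, zero_mul, zero_mul]
  · obtain ⟨g, rfl⟩ := exists_conjIrr_eq hχ h
    congr 1
    rw [conjIrr_apply, conjIrr_apply]
    refine (congrArg (θ : N → ℂ) (Subtype.ext ?_)).trans (hθ _)
    push_cast
    rw [conj_pow]

/-- **Exactly one fixed character over a fixed character.** -/
theorem existsUnique_fixed : ∃! χ : IrrCharacter G,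
    classInner (fun n : N => (χ : G → ℂ) n) (θ : N → ℂ) ≠ 0 ∧
      ∀ g : G, (χ : G → ℂ) (g ^ k) = (χ : G → ℂ) g := by
  classical
  obtain ⟨χ₀, hχ₀⟩ := exists_over_constituent (G := G) θ
  set A := resNorm N χ₀ with hA
  have hA0 : A ≠ 0 := resNorm_ne_zero χ₀
  set F := fun χ : IrrCharacter G => fun g : G => (χ : G → ℂ) (g ^ k) * conj ((χ : G → ℂ) g)
  have hout : ∀ g : G, g ∉ N → ∑ χ ∈ charsOver N θ, F χ g = 0 := fun g hg => by
    refine (mul_eq_zero.1 ?_).resolve_left hA0
    rw [kernel_eq hχ₀]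
    refine mul_eq_zero_of_right _ (Finset.sum_eq_zero fun n _ => ?_)
    rw [if_neg, mul_zero]
    intro hc
    refine hg ((QuotientGroup.eq_one_iff g).1 (eq_one_of_isConj_inv ?_ ?_))
    · exact Subgroup.index_eq_card N ▸ hidx
    · have h := MonoidHom.map_isConj (QuotientGroup.mk' N) hc
      simpa [QuotientGroup.mk'_apply, (QuotientGroup.eq_one_iff (n : G)).2 n.2,
        mk_pow_eq_inv hidx hk hk₂] using h
  have hK1 : A * ∑ χ ∈ charsOver N θ, (χ : G → ℂ) 1 * conj ((χ : G → ℂ) 1) =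
      (χ₀ : G → ℂ) 1 * (χ₀ : G → ℂ) 1 * (Nat.card G : ℂ) := by
    rw [kernel_eq hχ₀, Finset.sum_eq_single (1 : N)]
    · rw [if_pos (by simp [isConj_iff]), mul_assoc]
      congr 2
      simp only [OneMemClass.coe_one, inv_one, mul_one]
      rw [Subgroup.centralizer_eq_top_iff_subset.2 (by simp), Subgroup.card_top]
    · intro n _ hn
      rw [if_neg, mul_zero]
      intro hc
      rw [one_mul, isConj_one_left, inv_eq_one] at hc
      exact hn (Subtype.ext hc)
    · exact fun h => absurd (Finset.mem_univ _) h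
  have htot : ∑ χ ∈ charsOver N θ, ∑ g : G, F χ g = (Nat.card G : ℂ) := by
    rw [Finset.sum_comm, ← Finset.sum_filter_add_sum_filter_not Finset.univ (· ∈ N),
      Finset.sum_eq_zero (s := Finset.univ.filter (fun g => g ∉ N))
        (fun g hg => hout g (Finset.mem_filter.1 hg).2),
      add_zero, Finset.sum_subtype (Finset.univ.filter (· ∈ N)) (p := (· ∈ N)) (by simp),
      Finset.sum_comm]
    have h0 := CfsgLib.Char.irr_apply_one_ne_zero χ₀.2
    obtain ⟨e, he⟩ := CfsgLib.Char.char_apply_one_eq_nat (CfsgLib.Char.irr_isCharacter χ₀.2)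
    refine mul_left_cancel₀ (mul_ne_zero h0 h0) ?_
    rw [← hK1, Finset.mul_sum, Finset.mul_sum]
    refine Finset.sum_congr rfl fun χ hχ => ?_
    rw [Finset.mul_sum, hA, resNorm, Finset.sum_mul]
    refine Finset.sum_congr rfl fun n _ => ?_
    rw [mem_charsOver] at hχ
    simp only [F, res_fixed hidx hk hk₂ θ hθ χ hχ n]
    have h1 := proportional hχ hχ₀ n
    have h2 := congrArg conj h1
    rw [map_mul, map_mul, he, Complex.conj_natCast] at h2
    rw [he] at h1 ⊢
    linear_combination (e : ℂ) * conj ((χ : G → ℂ) n) * h1 +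
      (χ₀ : G → ℂ) n * (χ : G → ℂ) 1 * h2
  have hinner : ∀ χ : IrrCharacter G, (Nat.card G : ℂ)⁻¹ * ∑ g : G, F χ g =
      if (∀ g : G, (χ : G → ℂ) (g ^ k) = (χ : G → ℂ) g) then 1 else 0 := fun χ => by
    have e : (Nat.card G : ℂ)⁻¹ * ∑ g : G, F χ g =
        classInner (fun g : G => (χ : G → ℂ) (g ^ k)) (χ : G → ℂ) := by
      rw [CfsgLib.Char.classInner_def]
    rw [e, CfsgLib.Char.irr_classInner (CfsgLib.BlockA.isIrrCharacter_comp_pow hk χ.2) χ.2]
    refine if_congr ?_ rfl rfl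
    exact funext_iff
  have hcount : ((charsOver N θ).filter fun χ : IrrCharacter G =>
      ∀ g : G, (χ : G → ℂ) (g ^ k) = (χ : G → ℂ) g).card = 1 := by
    have h := congrArg (fun z : ℂ => (Nat.card G : ℂ)⁻¹ * z) htot
    rw [Finset.mul_sum, inv_mul_cancel₀ CfsgLib.Char.natCard_ne_zero] at h
    simp only [hinner, Finset.sum_boole] at h
    exact_mod_cast h
  obtain ⟨χ, hχ⟩ := Finset.card_eq_one.1 hcount
  refine ⟨χ, ?_, fun χ' hχ' => ?_⟩
  · have := hχ ▸ Finset.mem_singleton_self χ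
    rw [Finset.mem_filter, mem_charsOver] at this
    exact this
  · have : χ' ∈ ({χ} : Finset (IrrCharacter G)) := hχ ▸ Finset.mem_filter.2 ⟨mem_charsOver.2 hχ'.1, hχ'.2⟩
    exact Finset.mem_singleton.1 this

/-- An extendible fixed character has a fixed extension. -/
theorem exists_fixed_extension {Θ : G → ℂ} (hΘ : IsIrrCharacter G Θ)
    (hres : ∀ n : N, Θ n = (θ : N → ℂ) n) :
    ∃ χ : IrrCharacter G, (∀ g : G, (χ : G → ℂ) (g ^ k) = (χ : G → ℂ) g) ∧
      ∀ n : N, (χ : G → ℂ) n = (θ : N → ℂ) n := by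
  classical
  set ψ : G → ℂ := fun g => Θ (g ^ k) with hψ
  have hψi : IsIrrCharacter G ψ := CfsgLib.BlockA.isIrrCharacter_comp_pow hk hΘ
  have hψn : (fun n : N => ψ n) = (θ : N → ℂ) := funext fun n => by
    rw [hψ]
    show Θ ((n : G) ^ k) = _
    rw [← SubgroupClass.coe_pow, hres, hθ]
  have hΘn : (fun n : N => Θ n) = (θ : N → ℂ) := funext hres
  have hinner : classInner (fun n : N => ψ n) (fun n : N => Θ n) = 1 := by
    rw [hψn, hΘn, CfsgLib.Char.irr_classInner_self θ.2]
  obtain ⟨hν, he⟩ := CfsgLib.Clifford.gallagher_factor N hψi (CfsgLib.Char.irr_isCharacter hΘ)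
    (hΘn ▸ θ.2) (hinner ▸ one_ne_zero)
  obtain ⟨lam, hlam⟩ := CfsgLib.Char.exists_hom_of_degree_one (CfsgLib.Char.irr_isCharacter hν)
    (by rw [CfsgLib.Clifford.gallagherQuot_apply_one, hinner])
  have hlamN : ∀ n : N, lam n = 1 := fun n => Units.ext (by
    have h := CfsgLib.Clifford.cosetAvg_mul_left N (fun g => ψ g * conj (Θ g)) n 1
    rw [mul_one] at h
    have h2 : (lam (n : G) : ℂ) = (lam (1 : G) : ℂ) := by
      rw [← congrFun hlam, ← congrFun hlam]
      exact h
    rw [h2, map_one])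
  have hmk : ∀ g : G, lam (g ^ k) = (lam g)⁻¹ := fun g => by
    have h : (g ^ k * g : G) ∈ N := by
      rw [← QuotientGroup.eq_one_iff, QuotientGroup.mk_mul, QuotientGroup.mk_pow,
        mk_pow_eq_inv hidx hk hk₂, inv_mul_cancel]
    have h1 := hlamN ⟨_, h⟩
    rw [map_mul] at h1
    exact eq_inv_of_mul_eq_one_left h1
  obtain ⟨t, ht⟩ := hidx
  set μ : G →* ℂˣ := lam ^ (t + 1) with hμ
  have hμ2 : ∀ g : G, μ g * μ g = lam g := fun g => by
    have h1 : lam g ^ N.index = 1 := by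
      rw [← map_pow]
      exact hlamN ⟨_, N.pow_index_mem g⟩
    rw [hμ, MonoidHom.pow_apply, ← pow_add, show t + 1 + (t + 1) = N.index + 1 by omega,
      pow_succ, h1, one_mul]
  have hirr : IsIrrCharacter G (Θ * fun g => (μ g : ℂ)) := by
    refine CfsgLib.Clifford.isIrrCharacter_mul_of_invariant N (CfsgLib.Char.irr_isCharacter hΘ)
      (hΘn ▸ θ.2) (CfsgLib.Char.isIrrCharacter_linear μ) fun n g => ?_
    simp [hμ, hlamN n]
  refine ⟨⟨_, hirr⟩, fun g => ?_, fun n => ?_⟩
  · show Θ (g ^ k) * (μ (g ^ k) : ℂ) = Θ g * (μ g : ℂ)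
    have h1 : Θ (g ^ k) = Θ g * (lam g : ℂ) := by
      have := congrFun he g
      rw [Pi.mul_apply, congrFun hlam g] at this
      exact this
    have h2 : μ (g ^ k) = (μ g)⁻¹ := by
      simp only [hμ, MonoidHom.pow_apply, hmk, inv_pow]
    rw [h1, h2, mul_assoc, ← Units.val_mul, ← hμ2, mul_assoc, mul_inv_cancel, mul_one]
  · show Θ n * (μ (n : G) : ℂ) = _
    simp [hμ, hlamN n, hres]

end Count

/-- Fixed extension over a quotient of prime power order. -/
theorem exists_extension_pgroup (p : ℕ) [Fact p.Prime] : ∀ (j : ℕ) (G : Type u) [Group G] [Fintype G]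
    (N : Subgroup G) [hN : N.Normal] [Fintype N], N.index = p ^ j → Odd N.index →
    ∀ (k : ℕ), Nat.Coprime k (Nat.card G) → (∀ g : G, Odd (orderOf g) → g ^ k = g⁻¹) →
    ∀ (θ : IrrCharacter N), (∀ n : N, (θ : N → ℂ) (n ^ k) = (θ : N → ℂ) n) →
    (∀ g : G, conjIrr N θ g = θ) →
    ∃ χ : IrrCharacter G, (∀ g : G, (χ : G → ℂ) (g ^ k) = (χ : G → ℂ) g) ∧
      ∀ n : N, (χ : G → ℂ) n = (θ : N → ℂ) n := by
  intro j
  induction j with
  | zero =>
    intro G _ _ N _ _ hi _ k _ _ θ hθ _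
    have hT : N = ⊤ := Subgroup.index_eq_one.1 (by simpa using hi)
    subst hT
    refine ⟨⟨_, CfsgLib.Char.isIrrCharacter_comp_surjective θ.2
      (Subgroup.topEquiv (G := G)).symm.toMonoidHom (Subgroup.topEquiv (G := G)).symm.surjective⟩,
      fun g => ?_, fun n => ?_⟩
    · show (θ : (⊤ : Subgroup G) → ℂ) ((Subgroup.topEquiv (G := G)).symm (g ^ k)) = _
      rw [map_pow, hθ]
      rfl
    · rfl
  | succ j ih =>
    intro G _ _ N hN _ hi ho k hk hk₂ θ hθ hinv
    classical
    have hp : p.Prime := Fact.out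
    have hc : Nat.card (G ⧸ N) = p ^ (j + 1) := by rw [← Subgroup.index_eq_card, hi]
    obtain ⟨L', hL'⟩ := Sylow.exists_subgroup_card_pow_prime p (G := G ⧸ N) (n := j)
      (hc ▸ pow_dvd_pow p (Nat.le_succ j))
    have hL'i : L'.index = p := by
      have h := L'.card_mul_index
      rw [hL', hc, pow_succ] at h
      exact Nat.eq_of_mul_eq_mul_left (pow_pos hp.pos j) h
    have hL'n : L'.Normal := Subgroup.normal_of_index_eq_minFac_card (by
      rw [hL'i, hc, hp.pow_minFac (Nat.succ_ne_zero j)])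
    set L := L'.comap (QuotientGroup.mk' N) with hL
    have hNL : N ≤ L := fun x hx => by
      rw [hL, Subgroup.mem_comap, QuotientGroup.mk'_apply, (QuotientGroup.eq_one_iff x).2 hx]
      exact one_mem _
    have hLi : L.index = p := by
      rw [hL, Subgroup.index_comap_of_surjective _ (QuotientGroup.mk'_surjective N), hL'i]
    have hLn : L.Normal := Subgroup.Normal.comap hL'n _
    have := Fintype.ofFinite L
    have := Fintype.ofFinite (N.subgroupOf L)
    have hrel : (N.subgroupOf L).index = p ^ j := by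
      have h := Subgroup.relIndex_mul_index hNL
      rw [hi, hLi, pow_succ] at h
      exact Nat.eq_of_mul_eq_mul_right hp.pos h
    let e := Subgroup.subgroupOfEquivOfLe hNL
    let θ' : IrrCharacter (N.subgroupOf L) := ⟨(θ : N → ℂ) ∘ e.toMonoidHom,
      CfsgLib.Char.isIrrCharacter_comp_surjective θ.2 _ e.surjective⟩
    have hk₂L : ∀ g : L, Odd (orderOf g) → g ^ k = g⁻¹ := fun g hg => Subtype.ext (by
      push_cast
      exact hk₂ g (by rwa [Subgroup.orderOf_coe]))
    have hkL : Nat.Coprime k (Nat.card L) := hk.coprime_dvd_right L.card_subgroup_dvd_card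
    have hoL : Odd (N.subgroupOf L).index := hrel ▸ (hi ▸ ho).of_dvd_nat (pow_dvd_pow p j.le_succ)
    have hinv' : ∀ g : L, conjIrr (N.subgroupOf L) θ' g = θ' := fun g => by
      refine Subtype.ext (funext fun n => ?_)
      have h := congrArg (fun φ : IrrCharacter N => (φ : N → ℂ) (e n)) (hinv (g : G))
      simp only [conjIrr_apply] at h
      exact h
    have hθ' : ∀ n : N.subgroupOf L, (θ' : N.subgroupOf L → ℂ) (n ^ k) =
        (θ' : N.subgroupOf L → ℂ) n := fun n => by
      show (θ : N → ℂ) (e (n ^ k)) = _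
      rw [map_pow, hθ]
      rfl
    obtain ⟨η, hη, hηres⟩ := ih L (N.subgroupOf L) hrel hoL k hkL hk₂L θ' hθ' hinv'
    have huniq := existsUnique_fixed hoL hkL hk₂L θ' hθ'
    have hover : ∀ φ : IrrCharacter L, (∀ n : N.subgroupOf L, (φ : L → ℂ) n = (θ' : N.subgroupOf L → ℂ) n) →
        classInner (fun n : N.subgroupOf L => (φ : L → ℂ) n) (θ' : N.subgroupOf L → ℂ) ≠ 0 :=
      fun φ hφ => by
        rw [funext hφ, CfsgLib.Char.irr_classInner_self θ'.2]
        exact one_ne_zero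
    have hηinv : ∀ g : G, conjIrr L η g = η := fun g => by
      refine huniq.unique ⟨hover _ fun n => ?_, fun x => ?_⟩ ⟨hover _ hηres, hη⟩
      · rw [conjIrr_apply]
        have h1 := hηres ⟨⟨g * ((n : L) : G) * g⁻¹, hLn.conj_mem _ (n : L).2 g⟩,
          Subgroup.mem_subgroupOf.2 (hN.conj_mem _ n.2 g)⟩
        rw [h1]
        have h := congrArg (fun φ : IrrCharacter N => (φ : N → ℂ) (e n)) (hinv g)
        simp only [conjIrr_apply] at h
        exact h
      · rw [conjIrr_apply, conjIrr_apply]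
        refine (congrArg (η : L → ℂ) (Subtype.ext ?_)).trans (hη _)
        push_cast
        exact conj_pow.symm
    have hcyc : IsCyclic (G ⧸ L) := isCyclic_of_prime_card (p := p) (by
      rw [← Subgroup.index_eq_card, hLi])
    obtain ⟨Θ, hΘ, hΘres⟩ := CfsgLib.BlockB.McKay.exists_extension_cyclic L η.2
      (fun t => congrArg Subtype.val (hηinv t))
    refine exists_fixed_extension ho hk hk₂ θ hθ hΘ fun n => ?_
    have h1 := hΘres ⟨(n : G), hNL n.2⟩
    exact h1.trans (hηres ⟨⟨(n : G), hNL n.2⟩, Subgroup.mem_subgroupOf.2 n.2⟩)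

/-- **A fixed invariant character extends to a fixed character.** -/
theorem exists_extension {G : Type u} [Group G] [Fintype G] {N : Subgroup G} [hN : N.Normal]
    [Fintype N] {k : ℕ} (hidx : Odd N.index) (hk : Nat.Coprime k (Nat.card G))
    (hk₂ : ∀ g : G, Odd (orderOf g) → g ^ k = g⁻¹) (θ : IrrCharacter N)
    (hθ : ∀ n : N, (θ : N → ℂ) (n ^ k) = (θ : N → ℂ) n) (hinv : ∀ g : G, conjIrr N θ g = θ) :
    ∃ χ : IrrCharacter G, (∀ g : G, (χ : G → ℂ) (g ^ k) = (χ : G → ℂ) g) ∧
      ∀ n : N, (χ : G → ℂ) n = (θ : N → ℂ) n := by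
  classical
  obtain ⟨m, ρ, hρ, hρθ⟩ := θ.2
  have hinv' : ∀ (g : G) (n : N), ρ.character ⟨g * n * g⁻¹, hN.conj_mem (n : G) n.2 g⟩ =
      ρ.character n := fun g n => by
    rw [hρθ]
    exact congrArg (fun φ : IrrCharacter N => (φ : N → ℂ) n) (hinv g)
  have hs := CfsgLib.Clifford.proj_surjective ρ hinv'
  obtain ⟨Θ, hΘ, hΘres⟩ := CfsgLib.Clifford.exists_irr_extension ρ hinv'
    (CfsgLib.Clifford.one_mem_of_forall_prime fun p hp => by
    haveI := Fact.mk hp
    obtain ⟨S⟩ := (inferInstance : Nonempty (Sylow p (G ⧸ N)))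
    set P := (S : Subgroup (G ⧸ N)).comap (QuotientGroup.mk' N) with hP
    have hNP : N ≤ P := fun x hx => by
      rw [hP, Subgroup.mem_comap, QuotientGroup.mk'_apply, (QuotientGroup.eq_one_iff x).2 hx]
      exact one_mem _
    have hPi : P.index = (S : Subgroup (G ⧸ N)).index :=
      Subgroup.index_comap_of_surjective _ (QuotientGroup.mk'_surjective N)
    have hrel : (N.subgroupOf P).index = p ^ (Nat.card (G ⧸ N)).factorization p := by
      have h := Subgroup.relIndex_mul_index hNP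
      rw [hPi, show N.index = Nat.card (G ⧸ N) from Subgroup.index_eq_card N,
        ← (S : Subgroup (G ⧸ N)).card_mul_index, S.card_eq_multiplicity] at h
      exact Nat.eq_of_mul_eq_mul_right (Nat.pos_of_ne_zero Subgroup.index_ne_zero_of_finite) h
    have := Fintype.ofFinite P
    have := Fintype.ofFinite (N.subgroupOf P)
    let e := Subgroup.subgroupOfEquivOfLe hNP
    let θ' : IrrCharacter (N.subgroupOf P) := ⟨(θ : N → ℂ) ∘ e.toMonoidHom,
      CfsgLib.Char.isIrrCharacter_comp_surjective θ.2 _ e.surjective⟩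
    obtain ⟨η, -, hη⟩ := exists_extension_pgroup p _ P (N.subgroupOf P) hrel
      (hidx.of_dvd_nat (Subgroup.relIndex_dvd_index_of_normal N P)) k
      (hk.coprime_dvd_right P.card_subgroup_dvd_card)
      (fun g hg => Subtype.ext (by
        push_cast
        exact hk₂ g (by rwa [Subgroup.orderOf_coe])))
      θ' (fun n => by
        show (θ : N → ℂ) (e (n ^ k)) = _
        rw [map_pow, hθ]
        rfl)
      (fun g => by
        refine Subtype.ext (funext fun n => ?_)
        have h := congrArg (fun φ : IrrCharacter N => (φ : N → ℂ) (e n)) (hinv (g : G))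
        simp only [conjIrr_apply] at h
        exact h)
    obtain ⟨σ, hσ⟩ := CfsgLib.Clifford.exists_rep_extension ρ hNP
      (CfsgLib.Char.irr_isCharacter η.2) (fun n => by
        rw [hρθ]
        exact hη ⟨⟨(n : G), hNP n.2⟩, Subgroup.mem_subgroupOf.2 n.2⟩)
    refine ⟨_, CfsgLib.Clifford.index_mem_splitExps ρ hs P hNP σ hσ, fun h => ?_⟩
    exact S.not_dvd_index (hPi ▸ Int.natCast_dvd_natCast.mp h))
  exact exists_fixed_extension hidx hk hk₂ θ hθ hΘ fun n => by rw [hΘres, hρθ]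

end CfsgLib.BlockA.FixedOverOdd
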