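import Cfsg.Agent.Lib.BlockA.StabBlockChar
import Cfsg.Agent.Lib.BlockA.CoverDefectGroup
import Cfsg.Agent.Lib.BlockB.InduceConstituent

/-! The Fong–Reynolds correspondence. -/

set_option autoImplicit false
set_option linter.unusedSectionVars false
set_option maxHeartbeats 1000000

namespace CfsgLib.BlockA

open Cfsg CfsgLib.Block MonoidAlgebra

universe u

variable {G : Type u} [Group G] [Fintype G] {p : ℕ} {M : Ideal AlgInt} [M.IsPrime]
  {N : Subgroup G} [hN : N.Normal] [Fintype N] {T : Subgroup G} [Fintype T] (hNT : N ≤ T)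
  {b : Set (IrrCharacter N)}

omit [N.Normal] [Fintype N] in
/-- Restriction to a subgroup is linear for right multiples supported there. -/
theorem resSub_mul_of_supported (H : Subgroup G) [Fintype H] (z : MonoidAlgebra (kres M) G)
    {a : MonoidAlgebra (kres M) G} (ha : ∀ x ∉ H, a.coeff x = 0) :
    resSub H (z * a) = resSub H z * resSub H a := by
  classical
  ext t
  rw [coeff_resSub, coeff_mul_eq, coeff_mul_eq]
  simp only [coeff_resSub]
  rw [← Finset.sum_subset (Finset.subset_univ (Finset.univ.filter (· ∈ H)))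
    (fun x _ hx => by
      rw [ha, mul_zero]
      intro h
      refine hx (Finset.mem_filter.2 ⟨Finset.mem_univ _, ?_⟩)
      have := H.mul_mem t.2 (H.inv_mem h)
      simpa [mul_assoc] using this)]
  exact Finset.sum_subtype _ (by simp) _

theorem conjSet_normal_eq {x : G} (hx : x ∈ Subgroup.normalizer (N : Set G))
    (θ : IrrCharacter N) :
    irrMap (conjAut (⟨x, hx⟩ : Subgroup.normalizer (N : Set G))⁻¹) θ = conjIrr N θ x⁻¹ :=
  Subtype.ext (funext fun n => by
    rw [irrMap_apply, conjIrr_apply]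
    exact congrArg (θ : N → ℂ) (Subtype.ext rfl))

variable (hM : IsPModular p M) (hb : IsPBlock M b)
  (hT : ∀ g : G, g ∈ T ↔ ∀ θ ∈ b, conjIrr N θ g ∈ b)
include hM hb hT

theorem conjGA_sIdem_stab {x : G} (hx : x ∈ T) :
    conjGA x (sIdem M N b) = sIdem M N b := by
  have hxN := mem_normalizer_of_normal (N := N) x
  rw [conjGA_sIdem hM b hxN]
  obtain ⟨θ, hθ⟩ := isPBlock_nonempty hb
  have h1 : irrMap (conjAut (⟨x, hxN⟩ : Subgroup.normalizer (N : Set G))⁻¹) θ ∈ b := by
    rw [conjSet_normal_eq]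
    exact conjIrr_mem hT hθ (T.inv_mem hx)
  rw [show conjSet (⟨x, hxN⟩ : Subgroup.normalizer (N : Set G)) b = b from
    isPBlock_eq_of_mem (isPBlock_blockMap _ hb) hb ⟨θ, hθ, rfl⟩ h1]

theorem conjGA_sIdem_mul {x : G} (hx : x ∉ T) :
    conjGA x (sIdem M N b) * sIdem M N b = 0 := by
  have hxN := mem_normalizer_of_normal (N := N) x
  rw [conjGA_sIdem hM b hxN]
  refine sIdem_mul_ne hM (isPBlock_blockMap _ hb) hb fun e => hx ?_
  obtain ⟨θ, hθ⟩ := isPBlock_nonempty hb
  have h1 : irrMap (conjAut (⟨x, hxN⟩ : Subgroup.normalizer (N : Set G))⁻¹) θ ∈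
      conjSet (⟨x, hxN⟩ : Subgroup.normalizer (N : Set G)) b := ⟨θ, hθ, rfl⟩
  rw [e, conjSet_normal_eq] at h1
  rw [← inv_inv x]
  exact T.inv_mem (mem_of_conjIrr_mem hb hT hθ h1)

include hNT

theorem isClassCoeff_eT : IsClassCoeff (resSub T (sIdem M N b)) := by
  intro x t
  simp only [coeff_resSub]
  have e := conjGA_sIdem_stab hM hb hT (x := (t : G)⁻¹) (T.inv_mem t.2)
  conv_rhs => rw [← e]
  rw [coeff_conjGA, inv_inv]
  rfl

/-- The idempotent of `b` in the centre of the group algebra of `T`. -/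
noncomputable def eT : Subalgebra.center (kres M) (MonoidAlgebra (kres M) T) :=
  ⟨resSub T (sIdem M N b), isClassCoeff_iff_mem_center.1 (isClassCoeff_eT hNT hM hb hT)⟩

theorem supp_eb : ∀ x ∉ T, (sIdem M N b).coeff x = 0 := fun _ hx =>
  coeff_sIdem_of_not_mem b fun h => hx (hNT h)

theorem lam_eT {ψ : IrrCharacter T} (h : OverBlock hNT b (ψ : T → ℂ)) :
    lam M ψ (eT hNT hM hb hT) = 1 := by
  classical
  have := Fintype.ofFinite (N.subgroupOf T)
  set e := Subgroup.subgroupOfEquivOfLe hNT with he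
  obtain ⟨θ, hθ, hne⟩ := h
  rw [lam_apply ψ (a := inclSub (N.subgroupOf T) (blockSum (blockMap e b)))
    (isLocalCentral_inclSub_blockSum (blockMap_invariant hNT hT)
      (fun n => blockCoeff_memLocalRing hM (isPBlock_blockMap _ hb) n)),
    omegaC_inclSub_blockSum (blockMap_invariant hNT hT) (θ := irrMap e θ)
      (by rwa [classInner_subgroupOf hNT]),
    if_pos ((irrMap_mem_blockMap_iff _ _ _).2 hθ), redC_one]
  show redA M _ = resSub T (sIdem M N b)
  ext t
  simp only [redA, coeff_mkGA, coeff_resSub]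
  by_cases ht : (t : G) ∈ N
  · rw [show t = ((⟨t, ht⟩ : N.subgroupOf T) : T) from rfl, coeff_inclSub_of_mem,
      show (((⟨t, ht⟩ : N.subgroupOf T) : T) : G) = ((⟨(t : G), ht⟩ : N) : G) from rfl,
      sIdem, coeff_inclSub_of_mem, coeff_blkIdem]
    simp only [blockSum, coeff_mkGA, blockCoeff_blockMap]
    rfl
  · rw [coeff_inclSub_of_not_mem _ _ (show t ∉ N.subgroupOf T from ht),
      coeff_sIdem_of_not_mem _ ht, redC_zero]

/-- The characters with a constituent in the orbit of `b`. -/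
theorem exists_cover_idem :
    ∃ s : Subalgebra.center (kres M) (MonoidAlgebra (kres M) G),
      (s : MonoidAlgebra (kres M) G) * sIdem M N b = sIdem M N b ∧
      ∀ (χ : IrrCharacter G) (η : IrrCharacter N),
        classInner (fun n : N => (χ : G → ℂ) n) (η : N → ℂ) ≠ 0 → η ∉ coverSet N b →
          lam M χ s = 0 := by
  classical
  set w : MonoidAlgebra ℂ G := inclSub N (blockSum (coverSet N b)) with hw
  have hwl : IsLocalCentral M w := isLocalCentral_inclSub_blockSum (covering_invariant b)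
    (memLocalRing_coverSet hM hb)
  have hsupp : ∀ x ∉ N, (redA M w).coeff x = 0 := fun x hx => by
    simp only [redA, coeff_mkGA, hw, coeff_inclSub_of_not_mem _ _ hx, redC_zero]
  set s : Subalgebra.center (kres M) (MonoidAlgebra (kres M) G) :=
    ⟨redA M w, isClassCoeff_iff_mem_center.1 (redA_isClassCoeff hwl.1)⟩ with hs
  have hss : redA M w * redA M w = redA M w := by
    rw [← redA_mul hwl hwl, hw, inclSub_blockSum_idem]
  refine ⟨s, ?_, fun χ η hη hno => ?_⟩
  · have hr : resZ N s * resZ N s = resZ N s := Subtype.ext (inclSub_injective N (by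
      rw [MulMemClass.coe_mul, map_mul, coe_resZ, inclSub_resSub N hsupp, hss]))
    obtain ⟨θ, hθ⟩ := isPBlock_nonempty hb
    have h1 : lam M θ (resZ N s) = 1 := by
      rw [lam_apply θ (isLocalCentral_resSub N hwl) (resZ N s) (by
        rw [redA_resSub, coe_resZ]), hw, resSub_inclSub, omegaC_blockSum,
        if_pos (subset_coverSet b hθ), redC_one]
    have h2 := congrArg (fun a : Subalgebra.center (kres M) (MonoidAlgebra (kres M) N) =>
      inclSub N (a : MonoidAlgebra (kres M) N)) (mul_blkIdem_of_lam_eq_one hM hr hb hθ h1)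
    simp only [MulMemClass.coe_mul, map_mul, coe_resZ] at h2
    rw [show inclSub N (resSub N (s : MonoidAlgebra (kres M) G)) =
      (s : MonoidAlgebra (kres M) G) from inclSub_resSub N hsupp] at h2
    exact h2
  · rw [lam_apply χ hwl s rfl, hw, omegaC_inclSub_blockSum (O := coverSet N b) (covering_invariant b) hη, if_neg hno,
      redC_zero]

/-- Lifting central elements of the stabiliser to the centre of `G`. -/
theorem exists_center_lift (y : Subalgebra.center (kres M) (MonoidAlgebra (kres M) T)) :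
    ∃ z : Subalgebra.center (kres M) (MonoidAlgebra (kres M) G),
      (z : MonoidAlgebra (kres M) G) * sIdem M N b =
        inclSub T (y : MonoidAlgebra (kres M) T) * sIdem M N b ∧
      (∀ ψ : IrrCharacter T, OverBlock hNT b (ψ : T → ℂ) →
        lam M ψ (resZ T z) = lam M ψ y) ∧
      (∀ (χ : IrrCharacter G) (η : IrrCharacter N),
        classInner (fun n : N => (χ : G → ℂ) n) (η : N → ℂ) ≠ 0 → η ∉ coverSet N b →
          lam M χ z = 0) ∧
      (y * y = y → z * z = z) := by
  classical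
  have := Fintype.ofFinite (G ⧸ T)
  obtain ⟨s, hse, hsl⟩ := exists_cover_idem hNT hM hb hT
  set eb := sIdem M N b with heb
  set Y := inclSub T (y : MonoidAlgebra (kres M) T) with hY
  set w := Y * eb with hw
  have hYeb : Y * eb = eb * Y := by
    rw [hY, heb, ← inclSub_resSub T (supp_eb hNT hM hb hT), ← map_mul, ← map_mul]
    exact congrArg _ (Subalgebra.mem_center_iff.1 y.2 _).symm
  have hebeb : eb * eb = eb := sIdem_idem hM hb
  have hwe : w * eb = w := by rw [hw, mul_assoc, hebeb]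
  have hwt : ∀ t ∈ T, conjGA t w = w := by
    intro t ht
    rw [hw, conjGA_mul, conjGA_sIdem_stab hM hb hT ht]
    congr 1
    ext g
    rw [coeff_conjGA]
    have := inclSub_conj_invariant T (isClassCoeff_center y) (T.inv_mem ht) g
    rwa [inv_inv] at this
  have hcongr : ∀ a c : G, a⁻¹ * c ∈ T → conjGA a w = conjGA c w := by
    intro a c h
    rw [show c = a * (a⁻¹ * c) from (mul_inv_cancel_left a c).symm, ← conjGA_conjGA, hwt _ h]
  set Z := ∑ q : G ⧸ T, conjGA q.out w with hZ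
  have hZinv : ∀ g : G, conjGA g Z = Z := by
    intro g
    rw [hZ, conjGA_sum]
    refine Fintype.sum_equiv (MulAction.toPerm g) _ _ fun q => ?_
    rw [conjGA_conjGA, MulAction.toPerm_apply]
    refine hcongr _ _ (QuotientGroup.eq.1 ?_)
    rw [QuotientGroup.out_eq']
    conv_rhs => rw [← QuotientGroup.out_eq' q, MulAction.Quotient.smul_mk]
    rfl
  have hcl : IsClassCoeff Z := by
    intro x g
    conv_rhs => rw [← hZinv g⁻¹]
    rw [coeff_conjGA, inv_inv]
  set z : Subalgebra.center (kres M) (MonoidAlgebra (kres M) G) :=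
    ⟨Z, isClassCoeff_iff_mem_center.1 hcl⟩ with hz
  have hZe : Z * eb = w := by
    rw [hZ, Finset.sum_mul, Finset.sum_eq_single ((1 : G) : G ⧸ T)]
    · have h1 : ((1 : G) : G ⧸ T).out ∈ T := by
        have := QuotientGroup.eq.1 (QuotientGroup.out_eq' ((1 : G) : G ⧸ T))
        simpa using this
      rw [hwt _ h1, hwe]
    · intro q _ hq
      have hqT : q.out ∉ T := by
        intro h
        apply hq
        rw [← QuotientGroup.out_eq' q]
        exact QuotientGroup.eq.2 (by simpa using T.inv_mem h)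
      rw [hw, conjGA_mul, mul_assoc, conjGA_sIdem_mul hM hb hT hqT, mul_zero]
    · exact fun h => absurd (Finset.mem_univ _) h
  have hsw : ∀ a : G, conjGA a w * (s : MonoidAlgebra (kres M) G) = conjGA a w := by
    intro a
    have hsa : conjGA a (s : MonoidAlgebra (kres M) G) = s := by
      ext g
      rw [coeff_conjGA]
      have := isClassCoeff_center s g a⁻¹
      simpa [mul_assoc] using this
    conv_lhs => rw [← hsa, ← conjGA_mul]
    congr 1
    rw [hw, mul_assoc, Subalgebra.mem_center_iff.1 s.2 eb, hse]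
  refine ⟨z, hZe, fun ψ hψ => ?_, fun χ η hη hno => ?_, fun hy => ?_⟩
  · have h1 : resZ T z * eT hNT hM hb hT = y * eT hNT hM hb hT := Subtype.ext (by
      rw [MulMemClass.coe_mul, MulMemClass.coe_mul, coe_resZ]
      show resSub T Z * resSub T eb = _ * resSub T eb
      rw [← resSub_mul_of_supported T Z (supp_eb hNT hM hb hT), hZe, hw,
        resSub_mul_of_supported T Y (supp_eb hNT hM hb hT), hY, resSub_inclSub])
    have h2 := congrArg (lam M ψ) h1
    rwa [map_mul, map_mul, lam_eT hNT hM hb hT hψ, mul_one, mul_one] at h2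
  · have h1 : z * s = z := Subtype.ext (by
      rw [MulMemClass.coe_mul]
      show Z * _ = Z
      rw [hZ, Finset.sum_mul]
      exact Finset.sum_congr rfl fun q _ => hsw _)
    rw [← h1, map_mul, hsl χ η hη hno, mul_zero]
  · apply Subtype.ext
    rw [MulMemClass.coe_mul]
    show Z * Z = Z
    have hYY : Y * Y = Y := by
      rw [hY, ← map_mul, ← MulMemClass.coe_mul, hy]
    have hZw : Z * w = w := by
      calc Z * w = Z * eb * Y := by rw [hw, hYeb, mul_assoc]
        _ = Y * eb * Y := by rw [hZe, hw]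
        _ = Y * (eb * Y) := mul_assoc _ _ _
        _ = w := by rw [← hYeb, ← mul_assoc, hYY, ← hw]
    conv_rhs => rw [hZ]
    conv_lhs => arg 2; rw [hZ]
    rw [Finset.mul_sum]
    refine Finset.sum_congr rfl fun q _ => ?_
    conv_lhs => rw [← hZinv q.out, ← conjGA_mul, hZw]

/-- The block of `G` containing the induced characters. -/
theorem exists_induced_stab {B' : Set (IrrCharacter T)} (hB' : IsPBlock M B')
    {ψ₀ : IrrCharacter T} (hψ₀ : ψ₀ ∈ B') (h₀ : OverBlock hNT b (ψ₀ : T → ℂ)) :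
    ∃ B : Set (IrrCharacter G), IsInducedBlock M T B' B ∧
      (∀ ψ ∈ B', OverBlock hNT b (ψ : T → ℂ)) ∧
      (∀ ψ ∈ B', IsIrrCharacter G (indFun T (ψ : T → ℂ))) ∧
      (∃ χ ∈ B, ∃ θ ∈ b, classInner (fun n : N => (χ : G → ℂ) n) (θ : N → ℂ) ≠ 0) ∧
      ∀ χ : IrrCharacter G, χ ∈ B ↔ ∃ ψ ∈ B', (χ : G → ℂ) = indFun T (ψ : T → ℂ) := by
  classical
  have hov : ∀ ψ ∈ B', OverBlock hNT b (ψ : T → ℂ) := fun ψ hψ =>
    over_of_sameBlock hNT hb hT hM h₀ (sameBlock_of_mem hB' hψ₀ hψ)
  have hirr : ∀ ψ ∈ B', IsIrrCharacter G (indFun T (ψ : T → ℂ)) := fun ψ hψ =>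
    (indFun_stab hNT hb hT (hov ψ hψ)).1
  let χ₀ : IrrCharacter G := ⟨_, hirr ψ₀ hψ₀⟩
  have hmem : ∀ ψ ∈ B', ∀ χ : IrrCharacter G, (χ : G → ℂ) = indFun T (ψ : T → ℂ) →
      χ ∈ blockOf M (χ₀ : G → ℂ) := by
    intro ψ hψ χ hχ g
    show MemLocalIdeal M (centralChar (indFun T (ψ₀ : T → ℂ)) g - centralChar (χ : G → ℂ) g)
    rw [hχ, centralChar_indFun, centralChar_indFun, ← redC_eq_iff
      (memLocalRing_inducedCentralChar T ψ₀.2 g) (memLocalRing_inducedCentralChar T ψ.2 g),
      ← lam_resZ_classSumZ, ← lam_resZ_classSumZ,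
      lam_eq_of_sameBlock (sameBlock_of_mem hB' hψ₀ hψ)]
  have hind : IsInducedBlock M T B' (blockOf M (χ₀ : G → ℂ)) := by
    refine ⟨hB', isPBlock_blockOf χ₀, fun ξ hξ χ hχ g => ?_⟩
    rw [← centralChar_indFun ξ g]
    exact sameBlock_of_mem (isPBlock_blockOf χ₀) (hmem ξ hξ ⟨_, hirr ξ hξ⟩ rfl) hχ g
  refine ⟨_, hind, hov, hirr, ?_, fun χ => ⟨fun hχ => ?_, fun ⟨ψ, hψ, h⟩ => hmem ψ hψ χ h⟩⟩
  · obtain ⟨θ, hθ, hne⟩ := h₀
    refine ⟨χ₀, mem_blockOf_self χ₀, θ, hθ, ?_⟩
    show classInner (fun n : N => indFun T (ψ₀ : T → ℂ) n) (θ : N → ℂ) ≠ 0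
    rw [classInner_indFun_stab hNT hb hT ⟨θ, hθ, hne⟩ hθ]
    exact hne
  · obtain ⟨θ, hθ, hne⟩ := h₀
    obtain ⟨η, hη⟩ := exists_constituent_res (N := N) χ
    have h1 : classInner (fun n : N => indFun T (ψ₀ : T → ℂ) n) (θ : N → ℂ) ≠ 0 := by
      rw [classInner_indFun_stab hNT hb hT ⟨θ, hθ, hne⟩ hθ]
      exact hne
    obtain ⟨g, hg⟩ := (mem_iff_mem_of_sameBlock (covering_invariant b) (memLocalRing_coverSet hM hb)
      (sameBlock_of_mem (isPBlock_blockOf χ₀) (mem_blockOf_self χ₀) hχ) (θ := θ) h1 hη).1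
      (subset_coverSet b hθ)
    obtain ⟨ψ, hψov, hψ⟩ := exists_indFun_stab hNT hb hT (χ := χ) hg
      (by rwa [classInner_res_conjIrr])
    refine ⟨ψ, mem_of_sameBlock hB' hψ₀ (sameBlock_of_lam_eq (AlgHom.ext fun y => ?_)), hψ.symm⟩
    obtain ⟨z, -, hz, -, -⟩ := exists_center_lift hNT hM hb hT y
    rw [← hz ψ₀ ⟨θ, hθ, hne⟩, ← hz ψ hψov]
    have hlin : (lam M ψ₀).toLinearMap.comp (resZ T) = (lam M ψ).toLinearMap.comp (resZ T) := by
      refine center_linearMap_ext fun c => ?_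
      change lam M ψ₀ (resZ T (classSumZ (kres M) c)) = lam M ψ (resZ T (classSumZ (kres M) c))
      rw [lam_resZ_classSumZ, lam_resZ_classSumZ, redC_eq_iff
        (memLocalRing_inducedCentralChar T ψ₀.2 c) (memLocalRing_inducedCentralChar T ψ.2 c),
        ← centralChar_indFun, ← centralChar_indFun, hψ]
      exact sameBlock_of_mem (isPBlock_blockOf χ₀) (mem_blockOf_self χ₀) hχ c
    exact LinearMap.congr_fun hlin z

theorem stab_injective {B'₁ B'₂ : Set (IrrCharacter T)} (h1 : IsPBlock M B'₁)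
    (h2 : IsPBlock M B'₂) {ψ₁ ψ₂ : IrrCharacter T} (m1 : ψ₁ ∈ B'₁) (m2 : ψ₂ ∈ B'₂)
    (o1 : OverBlock hNT b (ψ₁ : T → ℂ)) (o2 : OverBlock hNT b (ψ₂ : T → ℂ))
    {B : Set (IrrCharacter G)} (i1 : IsInducedBlock M T B'₁ B) (i2 : IsInducedBlock M T B'₂ B) :
    B'₁ = B'₂ := by
  obtain ⟨A, hA, -, hirr, -, hAmem⟩ := exists_induced_stab hNT hM hb hT h1 m1 o1
  obtain ⟨A', hA', hov', -, -, hAmem'⟩ := exists_induced_stab hNT hM hb hT h2 m2 o2
  have hχ : (⟨_, hirr ψ₁ m1⟩ : IrrCharacter G) ∈ A := (hAmem _).2 ⟨ψ₁, m1, rfl⟩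
  rw [isInducedBlock_unique T hA i1, isInducedBlock_unique T i2 hA'] at hχ
  obtain ⟨ψ, hψ, e⟩ := (hAmem' _).1 hχ
  exact isPBlock_eq_of_mem h1 h2 m1 (eq_of_indFun_eq hNT hb hT o1 (hov' ψ hψ) e ▸ hψ)

theorem stab_surjective {B : Set (IrrCharacter G)} (hB : IsPBlock M B) {χ : IrrCharacter G}
    (hχ : χ ∈ B) {θ : IrrCharacter N} (hθ : θ ∈ b)
    (hne : classInner (fun n : N => (χ : G → ℂ) n) (θ : N → ℂ) ≠ 0) :
    ∃ B' : Set (IrrCharacter T), IsPBlock M B' ∧ (∃ ψ ∈ B', OverBlock hNT b (ψ : T → ℂ)) ∧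
      IsInducedBlock M T B' B := by
  obtain ⟨ψ, hov, hψ⟩ := exists_indFun_stab hNT hb hT hθ hne
  obtain ⟨A, hA, -, -, -, hAmem⟩ :=
    exists_induced_stab hNT hM hb hT (isPBlock_blockOf ψ) (mem_blockOf_self ψ) hov
  have hχA : χ ∈ A := (hAmem χ).2 ⟨ψ, mem_blockOf_self ψ, hψ.symm⟩
  exact ⟨_, isPBlock_blockOf ψ, ⟨ψ, mem_blockOf_self ψ, hov⟩,
    isPBlock_eq_of_mem hA.2.1 hB hχA hχ ▸ hA⟩

section Defect

variable {B' : Set (IrrCharacter T)} (hB' : IsPBlock M B') {B : Set (IrrCharacter G)}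
  (hind : IsInducedBlock M T B' B) {ψ₀ : IrrCharacter T} (hψ₀ : ψ₀ ∈ B')
  (h₀ : OverBlock hNT b (ψ₀ : T → ℂ))
include hB' hind hψ₀ h₀

theorem exists_mem_indFun {ψ : IrrCharacter T} (hψ : ψ ∈ B') :
    ∃ χ ∈ B, (χ : G → ℂ) = indFun T (ψ : T → ℂ) ∧
      (charDegree (χ : G → ℂ)).factorization p =
        T.index.factorization p + (charDegree (ψ : T → ℂ)).factorization p := by
  obtain ⟨A, hA, hov, hirr, -, hAmem⟩ := exists_induced_stab hNT hM hb hT hB' hψ₀ h₀
  rw [isInducedBlock_unique T hind hA]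
  refine ⟨⟨_, hirr ψ hψ⟩, (hAmem _).2 ⟨ψ, hψ, rfl⟩, rfl, ?_⟩
  have h1 : charDegree (indFun T (ψ : T → ℂ)) = T.index * charDegree (ψ : T → ℂ) := by
    have e := charDegree_cast (Char.isCharacter_indFun T (Char.irr_isCharacter ψ.2))
    rw [Char.indFun_apply_one, ← charDegree_cast (Char.irr_isCharacter ψ.2), ← Nat.cast_mul] at e
    exact Nat.cast_injective e
  show (charDegree (indFun T (ψ : T → ℂ))).factorization p = _
  rw [h1, Nat.factorization_mul Subgroup.index_ne_zero_of_finite (charDegree_ne_zero ψ.2),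
    Finsupp.add_apply]

theorem sInf_stab :
    sInf ((fun χ : IrrCharacter G => (charDegree (χ : G → ℂ)).factorization p) '' B) =
      T.index.factorization p +
        sInf ((fun ψ : IrrCharacter T => (charDegree (ψ : T → ℂ)).factorization p) '' B') := by
  obtain ⟨ψ₁, hψ₁, h1⟩ := Nat.sInf_mem (Set.Nonempty.image
    (fun ψ : IrrCharacter T => (charDegree (ψ : T → ℂ)).factorization p) (⟨ψ₀, hψ₀⟩ : B'.Nonempty))
  obtain ⟨χ₁, hχ₁, -, e₁⟩ := exists_mem_indFun hNT hM hb hT hB' hind hψ₀ h₀ hψ₁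
  refine le_antisymm ?_ (le_csInf ⟨_, χ₁, hχ₁, rfl⟩ ?_)
  · rw [← h1, ← e₁]
    exact Nat.sInf_le ⟨χ₁, hχ₁, rfl⟩
  · rintro _ ⟨χ, hχ, rfl⟩
    obtain ⟨A, hA, -, -, -, hAmem⟩ := exists_induced_stab hNT hM hb hT hB' hψ₀ h₀
    have hχA : χ ∈ A := by rwa [isInducedBlock_unique T hA hind]
    obtain ⟨ψ, hψ, e⟩ := (hAmem χ).1 hχA
    obtain ⟨χ', -, e', h'⟩ := exists_mem_indFun hNT hM hb hT hB' hind hψ₀ h₀ hψ
    show _ ≤ (charDegree (χ : G → ℂ)).factorization p
    rw [show (χ : G → ℂ) = χ' from e.trans e'.symm, h']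
    exact Nat.add_le_add_left (Nat.sInf_le (Set.mem_image_of_mem
      (fun φ : IrrCharacter T => (charDegree (φ : T → ℂ)).factorization p) hψ)) _

theorem height_stab {ψ : IrrCharacter T} (hψ : ψ ∈ B') :
    ∃ χ ∈ B, (χ : G → ℂ) = indFun T (ψ : T → ℂ) ∧
      blockHeight p B (χ : G → ℂ) = blockHeight p B' (ψ : T → ℂ) := by
  obtain ⟨χ, hχ, e, h⟩ := exists_mem_indFun hNT hM hb hT hB' hind hψ₀ h₀ hψ
  refine ⟨χ, hχ, e, ?_⟩
  rw [blockHeight, blockHeight, sInf_stab hNT hM hb hT hB' hind hψ₀ h₀, h, Nat.add_sub_add_left]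

theorem blockDefect_stab : blockDefect p B = blockDefect p B' := by
  rw [blockDefect, blockDefect, sInf_stab hNT hM hb hT hB' hind hψ₀ h₀,
    ← Subgroup.index_mul_card T, Nat.factorization_mul Subgroup.index_ne_zero_of_finite
      Nat.card_pos.ne', Finsupp.add_apply, Nat.add_sub_add_left]

theorem sIdem_mul_blkIdem_stab :
    sIdem M T B' * (blkIdem M B : MonoidAlgebra (kres M) G) = sIdem M T B' := by
  classical
  obtain ⟨A, hA, hov, -, hAcov, hAmem⟩ := exists_induced_stab hNT hM hb hT hB' hψ₀ h₀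
  rw [isInducedBlock_unique T hind hA]
  obtain ⟨z, hze, hzlam, hz0, hzid⟩ := exists_center_lift hNT hM hb hT (blkIdem M B')
  have hzz := hzid (blkIdem_idem hM hB')
  have he : sIdem M T B' * sIdem M N b = sIdem M T B' := by
    have h2 := congrArg (fun a : Subalgebra.center (kres M) (MonoidAlgebra (kres M) T) =>
      inclSub T (a : MonoidAlgebra (kres M) T))
      ((mul_comm _ _).trans (mul_blkIdem_of_lam_eq_one hM
        (Subtype.ext (inclSub_injective T (by
          rw [MulMemClass.coe_mul, map_mul]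
          show inclSub T (resSub T _) * inclSub T (resSub T _) = inclSub T (resSub T _)
          rw [inclSub_resSub T (supp_eb hNT hM hb hT), sIdem_idem hM hb])) :
          eT hNT hM hb hT * eT hNT hM hb hT = eT hNT hM hb hT)
        hB' hψ₀ (lam_eT hNT hM hb hT h₀)))
    simp only [MulMemClass.coe_mul, map_mul] at h2
    rw [show inclSub T (eT hNT hM hb hT : MonoidAlgebra (kres M) T) = sIdem M N b from
      inclSub_resSub T (supp_eb hNT hM hb hT)] at h2
    exact h2
  have hze' : (z : MonoidAlgebra (kres M) G) * sIdem M T B' = sIdem M T B' := by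
    have hc : sIdem M N b * sIdem M T B' = sIdem M T B' :=
      (sIdem_mul_comm B' (supp_eb hNT hM hb hT)).symm.trans he
    conv_lhs => rw [← hc, ← mul_assoc, hze]
    rw [mul_assoc, hc]
    show inclSub T _ * inclSub T _ = inclSub T _
    rw [← map_mul, ← MulMemClass.coe_mul, blkIdem_idem hM hB']
  have hzA : ∀ χ : IrrCharacter G, χ ∉ A → lam M χ z = 0 := by
    intro χ hχ
    obtain ⟨η, hη⟩ := exists_constituent_res (N := N) χ
    by_cases hno : η ∈ coverSet N b
    swap
    · exact hz0 χ η hη hno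
    obtain ⟨g, hg⟩ := hno
    obtain ⟨ψ, hψov, hψ⟩ := exists_indFun_stab hNT hb hT (χ := χ) hg
      (by rwa [classInner_res_conjIrr])
    have hψB : ψ ∉ B' := fun h => hχ ((hAmem χ).2 ⟨ψ, h, hψ.symm⟩)
    have hl : (lam M χ).toLinearMap = (lam M ψ).toLinearMap.comp (resZ T) := by
      refine center_linearMap_ext fun c => ?_
      change lam M χ (classSumZ (kres M) c) = lam M ψ (resZ T (classSumZ (kres M) c))
      rw [lam_resZ_classSumZ, lam_classSumZ, ← hψ, centralChar_indFun]
    rw [show lam M χ z = lam M ψ (resZ T z) from LinearMap.congr_fun hl z, hzlam ψ hψov,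
      lam_blkIdem hM hB', if_neg hψB]
  have hnil : IsNilpotent (z - z * blkIdem M A) := by
    refine isNilpotent_of_lam_eq_zero hM fun χ => ?_
    rw [map_sub, map_mul, lam_blkIdem hM hA.2.1]
    split_ifs with h
    · rw [mul_one, sub_self]
    · rw [hzA χ h, mul_zero, sub_self]
  have hd : (z - z * blkIdem M A) * (z - z * blkIdem M A) = z - z * blkIdem M A := by
    have ha := blkIdem_idem hM hA.2.1
    have h1 : (1 - blkIdem M A) * (1 - blkIdem M A) = 1 - blkIdem M A := by
      apply Subtype.ext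
      have ha' := congrArg Subtype.val ha
      simp only [MulMemClass.coe_mul] at ha'
      simp [sub_mul, mul_sub, ha']
    have h2 : z - z * blkIdem M A = z * (1 - blkIdem M A) := by
      apply Subtype.ext
      simp [mul_sub]
    rw [h2, mul_mul_mul_comm, hzz, h1]
  obtain ⟨n, hn⟩ := hnil
  have h0 : z - z * blkIdem M A = 0 := by
    rcases Nat.eq_zero_or_pos n with rfl | hn0
    · rw [← mul_one (z - z * blkIdem M A), ← pow_zero (z - z * blkIdem M A), hn, mul_zero]
    · rw [← hn]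
      exact (IsIdempotentElem.pow_eq (show IsIdempotentElem _ from hd) hn0.ne').symm
  have h3 := congrArg Subtype.val (sub_eq_zero.1 h0)
  rw [MulMemClass.coe_mul] at h3
  conv_lhs => rw [← hze', mul_assoc, show sIdem M T B' * (blkIdem M A : MonoidAlgebra (kres M) G) =
    (blkIdem M A : MonoidAlgebra (kres M) G) * sIdem M T B' from
    Subalgebra.mem_center_iff.1 (blkIdem M A).2 _, ← mul_assoc, ← h3]
  exact hze'

theorem defect_stab {D : Subgroup T} (hD : IsDefectGroup p M B' D) :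
    IsDefectGroup p M B (D.map T.subtype) := by
  classical
  have := Fact.mk hM.1
  have hDp : IsPGroup p (D.map T.subtype) := (isPGroup_defectGroup hM hB' hD).map _
  obtain ⟨c, hc, hne⟩ := (exists_le_conj_iff_coeff hM hB' hD (isPGroup_defectGroup hM hB' hD)).2
    ⟨1, by rw [map_conj_one]⟩
  set D' := D.map T.subtype with hD'
  have hcD : (c : G) ∈ Subgroup.centralizer (D' : Set G) := by
    refine Subgroup.mem_centralizer_iff.2 ?_
    rintro _ ⟨d, hd, rfl⟩
    exact congrArg Subtype.val (Subgroup.mem_centralizer_iff.1 hc d hd)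
  have hBi : IsPInv D' (blkIdem M B : MonoidAlgebra (kres M) G) :=
    isPInv_of_isClassCoeff (isClassCoeff_center _) D'
  have hei : IsPInv D' (sIdem M T B') := by
    rintro _ ⟨d, hd, rfl⟩ x
    exact inclSub_conj_invariant T (isClassCoeff_center (blkIdem M B')) d.2 x
  obtain ⟨E, hE⟩ := exists_isDefectGroup hM hind.2.1
  obtain ⟨x, hx⟩ := (exists_le_conj_iff_coeff hM hind.2.1 hE hDp).1 (by
    by_contra hall
    push Not at hall
    apply hne
    have h1 := congrArg
      (fun a : MonoidAlgebra (kres M) (Subgroup.centralizer (D' : Set G)) => a.coeff ⟨(c : G), hcD⟩)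
      (resSub_mul hM hDp hei hBi)
    rw [sIdem_mul_blkIdem_stab hNT hM hb hT hB' hind hψ₀ h₀,
      show resSub (Subgroup.centralizer (D' : Set G)) (blkIdem M B : MonoidAlgebra (kres M) G) = 0
        from by ext y; rw [coeff_resSub, hall y y.2]; simp, mul_zero] at h1
    simp only [coeff_resSub, sIdem, coeff_inclSub_of_mem] at h1
    simpa using h1)
  have he : D' = E.map (MulAut.conj x).toMonoidHom := by
    refine Subgroup.eq_of_le_of_card_ge hx ?_
    rw [natCard_map_conj, hD', Subgroup.card_map_of_injective (Subgroup.subtype_injective _),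
      natCard_defectGroup hM hind.2.1 hE, natCard_defectGroup hM hB' hD,
      blockDefect_stab hNT hM hb hT hB' hind hψ₀ h₀]
  rw [he]
  exact defectGroup_conj hM hind.2.1 hE x

end Defect

end CfsgLib.BlockA
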