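import Cfsg.Agent.Lib.BlockA.Contribution
import Cfsg.Agent.Lib.BlockA.AbelianRankCount
import Cfsg.Agent.Lib.Char.Linear

/-!
Expansion of the contributions above an element with free stabilizer in linear characters of the
defect group, with integer coefficients.
-/

set_option autoImplicit false
set_option linter.unusedSectionVars false
set_option maxHeartbeats 1000000

namespace CfsgLib.BlockA.FreeExpansion

open Cfsg CfsgLib.Block CfsgLib.BlockA CfsgLib.BlockB CfsgLib.BlockB.SubSum
  CfsgLib.BlockB.HeightBound CfsgLib.BlockB.Star AbelianSub AbelianTrace Watanabe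
open scoped ComplexConjugate

universe u

variable {G : Type u} [Group G] [Fintype G] {p : ℕ} {M : Ideal AlgInt} [M.IsPrime]
  {B : Set (IrrCharacter G)} {P : Subgroup G}
  {c : Set (IrrCharacter (Subgroup.centralizer (P : Set G)))}
variable (hM : IsPModular p M) (hmax : IsMaximalBrauerPair p M B P c)
  (hab : ∀ v ∈ P, ∀ w ∈ P, v * w = w * v)
include hM hmax hab

/-- **The expansion.** -/
theorem exists_expansion [Fintype (IrrCharacter P)] {z : P}
    (hfix : ∀ t ∈ pairStab M P c, t * (z : G) * t⁻¹ = z → t ∈ Subgroup.centralizer (P : Set G)) :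
    ∃ n : IrrCharacter G → IrrCharacter P → ℤ, ∀ v : P, (z : G) ∈ Subgroup.zpowers (v : G) →
      ∀ χ ξ : IrrCharacter G, Contribution.con hM hmax hab v χ ξ =
        (Nat.card P : ℂ)⁻¹ * ((∑ ζ : IrrCharacter P, (n χ ζ : ℂ) * (ζ : P → ℂ) v) *
          conj (∑ ζ : IrrCharacter P, (n ξ ζ : ℂ) * (ζ : P → ℂ) v)) := by
  classical
  have := Fact.mk hM.1
  let H := Subgroup.centralizer ({(z : G)} : Set G)
  have := Fintype.ofFinite H
  have := Fintype.ofFinite (IrrCharacter H)
  obtain ⟨hHc, -, hmaxH, -, hTH⟩ := blk_in hM hmax hab z.2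
  set bH := blk hM hmax hab z.2 with hbH
  have hPH : P ≤ H := fun w hw =>
    Subgroup.mem_centralizer_singleton_iff.2 (hab w hw z z.2)
  have habH : ∀ a ∈ P.subgroupOf H, ∀ b ∈ P.subgroupOf H, a * b = b * a := fun a ha b hb =>
    Subtype.ext (hab _ ha _ hb)
  let e : P.subgroupOf H ≃* P := Subgroup.subgroupOfEquivOfLe hPH
  have hst : pairStab M (P.subgroupOf H) (subBlock hHc c) ≤
      Subgroup.centralizer ((P.subgroupOf H : Subgroup H) : Set H) := fun t ht =>
    (((cenEq_iff _ P).1 hHc).2 t).2 (hfix _ ((hTH t).1 ht)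
      (mul_inv_eq_iff_eq_mul.2 (Subgroup.mem_centralizer_singleton_iff.1 t.2)))
  have hnil := (nilpotent_iff_abelian hM hmaxH habH).2 hst
  obtain ⟨ψ, hψ, h0⟩ := exists_height_zero hM hmaxH.1.2.1
  obtain ⟨Φ, hΦ⟩ := exists_star_equiv hM hmaxH hnil hψ h0
  let η : IrrCharacter P → IrrCharacter H := fun ζ => (Φ (irrMap e ζ) : bH)
  have hres : ∀ (χ : IrrCharacter G) (θ : IrrCharacter H),
      ∃ k : ℕ, classInner (fun h : H => (χ : G → ℂ) h) (θ : H → ℂ) = k := fun χ θ =>
    CfsgLib.Char.classInner_isCharacter_nat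
      (CfsgLib.Char.isCharacter_restrict (CfsgLib.Char.irr_isCharacter χ.2) H)
      (CfsgLib.Char.irr_isCharacter θ.2)
  choose k hk using hres
  refine ⟨fun χ ζ => (k χ (η ζ) : ℤ), fun v hzv => ?_⟩
  -- the centralizer of `v` lies in `H`
  set K := Subgroup.centralizer ({(v : G)} : Set G) with hK
  have := Fintype.ofFinite K
  have hKH : K ≤ H := fun g hg => by
    obtain ⟨i, hi⟩ := Subgroup.mem_zpowers_iff.1 hzv
    have h1 : Commute g (v : G) := Subgroup.mem_centralizer_singleton_iff.1 hg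
    rw [Subgroup.mem_centralizer_singleton_iff, ← hi]
    exact (h1.zpow_right i).eq
  set v' : P.subgroupOf H := e.symm v with hv'
  have hv'G : ((v' : H) : G) = v := rfl
  let L := Subgroup.centralizer ({(v' : H)} : Set H)
  have := Fintype.ofFinite L
  let σ : K ≃* L :=
    { toFun := fun g => ⟨⟨g, hKH g.2⟩, Subgroup.mem_centralizer_singleton_iff.2
        (Subtype.ext (Subgroup.mem_centralizer_singleton_iff.1 g.2))⟩
      invFun := fun l => ⟨((l : H) : G), Subgroup.mem_centralizer_singleton_iff.2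
        (congrArg Subtype.val (Subgroup.mem_centralizer_singleton_iff.1 l.2))⟩
      left_inv := fun _ => rfl
      right_inv := fun _ => rfl
      map_mul' := fun _ _ => rfl }
  set β := blk hM hmaxH habH v'.2 with hβdef
  -- the block below the pair is the transported one
  have hblk : blk hM hmax hab v.2 = blockMap σ β := by
    obtain ⟨hLc, hLin, -, -, -⟩ := blk_in hM hmaxH habH v'.2
    obtain ⟨-, -, -, huniq, -⟩ := blk_in hM hmax hab v.2
    refine (huniq _ ((inVia_subtype M _ _ c _).2 ?_)).symm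
    have h1 := inVia_map σ (cenIso hHc).symm
      ((inVia_comp M H.subtype (Subgroup.subtype_injective H)).2
        ((inVia_subtype M _ _ (subBlock hHc c) β).1 hLin))
    have e1 : (H.subtype.comp L.subtype).comp σ.toMonoidHom = K.subtype := rfl
    have e2 : (H.subtype.comp
        (Subgroup.centralizer ((P.subgroupOf H : Subgroup H) : Set H)).subtype).comp
          (cenIso hHc).symm.toMonoidHom =
        (Subgroup.centralizer (P : Set G)).subtype := by
      refine MonoidHom.ext fun x => ?_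
      have hx := coe_cenIso hHc ((cenIso hHc).symm x)
      rw [MulEquiv.apply_symm_apply] at hx
      exact hx.symm
    have e3 : blockMap (cenIso hHc).symm (subBlock hHc c) = c := by
      refine Set.ext fun ξ => ⟨?_, fun h => ⟨irrMap (cenIso hHc) ξ, ⟨ξ, h, rfl⟩,
        irrMap_symm_irrMap _ ξ⟩⟩
      rintro ⟨_, ⟨θ, hθ, rfl⟩, rfl⟩
      rwa [irrMap_symm_irrMap]
    rw [e1, e2, e3] at h1
    exact h1
  -- the orders
  obtain ⟨i, hi⟩ := IsPGroup.iff_orderOf.1 hmax.1.1.1 v
  rw [← Subgroup.orderOf_coe] at hi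
  have hv'p : ∃ i : ℕ, orderOf (v' : H) = p ^ i := ⟨i, by rw [← Subgroup.orderOf_coe, hv'G, hi]⟩
  have hβB : IsInducedBlock M L β bH := (blk_spec hM hmaxH habH v'.2).1
  obtain ⟨fb, -, hfb⟩ := exists_below hM hmaxH v'.2
  have hrep : Rep p M (P.subgroupOf H) (subBlock hHc c) (v' : H)
      (subgroupBlockCoeff L β) v' := ⟨1, fb, by simp, hfb, by
    rw [beta_eq_of_below hM hmaxH v'.2 rfl hfb, conjFun_one, (blk_spec hM hmaxH habH v'.2).2]⟩
  set Ψ : L → ℂ := fun y =>
    blockPart β (fun l : L => (ψ : H → ℂ) ((v' : H) * (l : H))) y with hΨ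
  have hη : ∀ ζ : IrrCharacter P, ∀ y : L, ¬ p ∣ orderOf y →
      blockPart β (fun l : L => (η ζ : H → ℂ) ((v' : H) * (l : H))) y = (ζ : P → ℂ) v * Ψ y := by
    intro ζ y hy
    have hstab := isStable_of_nilpotent hM hmaxH hnil
      (CfsgLib.Char.irr_isClassFunction (irrMap e ζ).2)
    rw [blockPart_star hM hmaxH (χ := ψ) hstab (hΦ (irrMap e ζ)) hv'p hβB.1 hy,
      L_eq hM hmaxH.1.1 hstab hrep, irrMap_apply, show e v' = v from e.apply_symm_apply v]
  -- the values
  set f : IrrCharacter G → ℂ := fun χ =>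
    ∑ ζ : IrrCharacter P, ((k χ (η ζ) : ℤ) : ℂ) * (ζ : P → ℂ) v with hf
  have hbp : ∀ χ : IrrCharacter G, ∀ y : K, ¬ p ∣ orderOf y →
      blockPart (blockMap σ β) (fun g : K => (χ : G → ℂ) ((v : G) * (g : G))) y =
        f χ * Ψ (σ y) := by
    intro χ y hy
    have hy' : ¬ p ∣ orderOf (σ y) := by rwa [MulEquiv.orderOf_eq]
    have hexp : (fun l : L => (χ : G → ℂ) (((v' : H) * (l : H) : H) : G)) =
        fun l : L => ∑ θ : IrrCharacter H, (k χ θ : ℂ) * (θ : H → ℂ) ((v' : H) * (l : H)) := by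
      funext l
      rw [CfsgLib.Char.classFunction_apply_eq_sum
        (ψ := fun h : H => (χ : G → ℂ) h) (fun a b => by
          simp only [Subgroup.coe_mul, Subgroup.coe_inv]
          exact CfsgLib.Char.irr_isClassFunction χ.2 _ _) ((v' : H) * (l : H))]
      exact Finset.sum_congr rfl fun θ _ => by rw [hk]
    have hcl : IsClassFunction L (fun l : L => (χ : G → ℂ) (((v' : H) * (l : H) : H) : G)) := by
      intro a b
      rw [hexp]
      exact Finset.sum_congr rfl fun θ _ =>
        congrArg (fun z : ℂ => (k χ θ : ℂ) * z)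
          ((Contribution.isClassFunction_shift θ (v' : H)) a b)
    rw [show (fun g : K => (χ : G → ℂ) ((v : G) * (g : G))) =
        fun g => (fun l : L => (χ : G → ℂ) (((v' : H) * (l : H) : H) : G)) (σ g) from rfl,
      Contribution.blockPart_blockMap σ hcl, hexp, blockPart_sum_smul]
    rw [← Finset.sum_subset (Finset.subset_univ bH.toFinite.toFinset) fun θ _ hθ => ?_]
    · rw [hf, Finset.sum_mul]
      refine (Finset.sum_bij (fun ζ _ => η ζ) (fun ζ _ => bH.toFinite.mem_toFinset.2
        (Φ (irrMap e ζ)).2) (fun ζ _ ζ' _ h => irrMap_injective e (Φ.injective (Subtype.ext h)))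
        (fun θ hθ => ?_) fun ζ _ => ?_).symm
      · refine ⟨irrMap e.symm (Φ.symm ⟨θ, bH.toFinite.mem_toFinset.1 hθ⟩), Finset.mem_univ _, ?_⟩
        show ((Φ (irrMap e _) : bH) : IrrCharacter H) = θ
        rw [irrMap_irrMap_symm, Equiv.apply_symm_apply]
      · rw [hη ζ (σ y) hy']
        push_cast
        ring
    · rw [blockPart_centralizer_eq_zero hM hv'p (isPBlock_blockOf θ) (mem_blockOf_self θ)
        hβB.1 (fun h => hθ ?_) hy', mul_zero]
      rw [Set.Finite.mem_toFinset, isInducedBlock_unique _ hβB h]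
      exact mem_blockOf_self θ
  -- the norm of the common factor
  set S := ∑ y : L with ¬ p ∣ orderOf y, Ψ y * conj (Ψ y) with hS
  have hconH : ∀ ζ ζ' : IrrCharacter P, Contribution.con hM hmaxH habH v' (η ζ) (η ζ') =
      ((Nat.card L : ℂ)⁻¹ * S) * ((ζ : P → ℂ) v * conj ((ζ' : P → ℂ) v)) := by
    intro ζ ζ'
    rw [Contribution.con, Contribution.secPair, hS, mul_assoc, Finset.sum_mul]
    refine congrArg _ (Finset.sum_congr (by ext; simp) fun y hy => ?_)
    have hy' : ¬ p ∣ orderOf y := by simpa using hy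
    rw [hη ζ y hy', hη ζ' y hy', map_mul]
    ring
  have hone : ∀ ζ : IrrCharacter P, (ζ : P → ℂ) v * conj ((ζ : P → ℂ) v) = 1 := by
    intro ζ
    obtain ⟨μ, hμ⟩ := CfsgLib.Char.exists_hom_of_degree_one (CfsgLib.Char.irr_isCharacter ζ.2)
      (CfsgLib.Char.irr_degree_one_of_comm (fun a b => Subtype.ext (hab a a.2 b b.2)) ζ.2)
    rw [irr_conj_eq ζ.2, hμ]
    simp
  have hN : (Nat.card L : ℂ)⁻¹ * S = (Nat.card P : ℂ)⁻¹ := by
    have ζ₀ : IrrCharacter P := trivIrr
    have h := Contribution.sum_con_mul hM hmaxH habH (χ := η ζ₀) (χ' := η ζ₀)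
      (Φ (irrMap e ζ₀)).2 v' v'
    rw [if_pos (self_mem_orb _), hconH, hone, mul_one,
      Finset.sum_congr rfl (g := fun _ => ((Nat.card L : ℂ)⁻¹ * S) * ((Nat.card L : ℂ)⁻¹ * S))
        (fun θ hθ => ?_), Finset.sum_const, nsmul_eq_mul,
      ← Nat.card_eq_card_finite_toFinset bH.toFinite,
      (Contribution.nilpotent_counts hM hmaxH habH hst).1, Nat.card_congr e.toEquiv] at h
    · have hne : (Nat.card L : ℂ)⁻¹ * S ≠ 0 := by
        intro h0'
        have hd : blockDefect p β = blockDefect p bH := (exists_blk hM hmaxH habH v'.2).choose_spec.2.2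
        refine AbelianRankCount.subEntry_self_ne_zero hM hv'p hβB hd
          (Φ (irrMap e ζ₀)).2 ?_
        rw [Contribution.subEntry_eq_con hM hmaxH habH v']
        show _ * Contribution.con hM hmaxH habH v' (η ζ₀) (η ζ₀) = 0
        rw [hconH, h0', zero_mul, mul_zero]
      rw [← mul_assoc] at h
      exact eq_inv_of_mul_eq_one_right (mul_right_cancel₀ hne (h.trans (one_mul _).symm))
    · rw [Set.Finite.mem_toFinset] at hθ
      obtain ⟨ζ, hζ⟩ : ∃ ζ, η ζ = θ := ⟨irrMap e.symm (Φ.symm ⟨θ, hθ⟩), by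
        show ((Φ (irrMap e _) : bH) : IrrCharacter H) = θ
        rw [irrMap_irrMap_symm, Equiv.apply_symm_apply]⟩
      rw [← hζ, hconH, hconH]
      linear_combination ((Nat.card L : ℂ)⁻¹ * S) ^ 2 *
        ((ζ : P → ℂ) v * conj ((ζ : P → ℂ) v)) * hone ζ₀ +
        ((Nat.card L : ℂ)⁻¹ * S) ^ 2 * hone ζ
  intro χ ξ
  rw [Contribution.con, Contribution.secPair, hblk]
  have e1 : ∑ y : K with ¬ p ∣ orderOf y,
      blockPart (blockMap σ β) (fun g : K => (χ : G → ℂ) ((v : G) * (g : G))) y *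
        conj (blockPart (blockMap σ β) (fun g : K => (ξ : G → ℂ) ((v : G) * (g : G))) y) =
      (f χ * conj (f ξ)) * S := by
    rw [hS, Finset.mul_sum, Finset.sum_filter, Finset.sum_filter]
    refine Fintype.sum_equiv σ.toEquiv _ _ fun y => ?_
    rw [MulEquiv.toEquiv_eq_coe, MulEquiv.coe_toEquiv, MulEquiv.orderOf_eq]
    split_ifs with hy
    · rfl
    · rw [hbp χ y hy, hbp ξ y hy, map_mul]
      ring
  refine (congrArg _ ((Finset.sum_congr (by ext; simp) fun _ _ => rfl).trans e1)).trans ?_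
  rw [← hN, ← Nat.card_congr σ.toEquiv]
  show _ = _ * _ * (f χ * conj (f ξ))
  ring

end CfsgLib.BlockA.FreeExpansion
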