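import Cfsg.Agent.Lib.BlockA.SubsectionRow

/-!
Height-zero characters of a `2`-block and the rank of a subsection.
-/

set_option autoImplicit false
set_option linter.unusedSectionVars false

namespace CfsgLib.BlockA

open Cfsg CfsgLib.Block CfsgLib.BlockB CfsgLib.BlockA.BrauerFeit
open scoped ComplexConjugate

universe u

variable {G : Type u} [Group G] [Fintype G] {M : Ideal AlgInt} [M.IsPrime]
variable (hM : IsPModular 2 M) {x : G} (hx : ∃ k : ℕ, orderOf x = 2 ^ k)
variable [Fintype (Subgroup.centralizer ({x} : Set G))]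
variable [Fintype (IrrCharacter G)]
variable {B : Set (IrrCharacter G)}
variable {b : Set (IrrCharacter (Subgroup.centralizer ({x} : Set G)))}
variable (hind : IsInducedBlock M (Subgroup.centralizer ({x} : Set G)) b B)
include hM hx hind

/-- **Odd averages.** Each height-zero member has an odd positive average `A` with
`k₀ + A ^ 2 ≤ 2 ^ q * A + 1`, and the averages sum to at most `2 ^ q * l`. -/
theorem exists_odd_averages (S : Finset (IrrCharacter G))
    (hS : ∀ χ, χ ∈ S ↔ χ ∈ B ∧ blockHeight 2 B (χ : G → ℂ) = 0) :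
    ∃ A : IrrCharacter G → ℕ,
      (∀ χ ∈ S, Odd (A χ) ∧ S.card + A χ ^ 2 ≤ 2 ^ blockDefect 2 b * A χ + 1) ∧
      ∑ χ ∈ S, A χ ≤ 2 ^ blockDefect 2 b * blockRank 2 b := by
  classical
  set n := Nat.card G with hn
  have hn0 : n ≠ 0 := Nat.card_pos.ne'
  have : NeZero (Nat.card G) := ⟨hn0⟩
  have : NeZero n := ⟨hn0⟩
  set U := Fintype.card (ZMod n)ˣ with hU
  have hUpos : (0 : ℝ) < U := Nat.cast_pos.2 Fintype.card_pos
  choose r hr0 hre using fun χ : IrrCharacter G => subEntry_self_nonneg (b := b) hM χ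
  choose A₀ hA₀ hA₁ using fun χ : IrrCharacter G => exists_int_average hM hx (b := b) rfl χ
  have hAr : ∀ χ, ∑ u : (ZMod n)ˣ, r χ (u : ZMod n).val = U * (A₀ χ : ℝ) := by
    intro χ
    have h := hA₀ χ
    rw [Finset.sum_congr rfl fun u _ => hre χ _, ← Complex.ofReal_sum] at h
    exact Complex.ofReal_injective (h.trans (by push_cast; rfl))
  have hnn : ∀ χ, 0 ≤ A₀ χ := fun χ => by
    have h : (0 : ℝ) ≤ U * (A₀ χ : ℝ) := hAr χ ▸ Finset.sum_nonneg fun u _ => hr0 χ _
    have := (mul_nonneg_iff_of_pos_left hUpos).1 h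
    exact_mod_cast this
  refine ⟨fun χ => (A₀ χ).toNat, fun χ hχS => ⟨?_, ?_⟩, ?_⟩
  · -- parity
    obtain ⟨hχ, hχ0⟩ := (hS χ).1 hχS
    rw [← Nat.not_even_iff_odd]
    rintro ⟨t, ht⟩
    apply not_memLocalIdeal_subEntry hM hx hind hχ hχ hχ0 hχ0
    have e : (A₀ χ : ℂ) = ((2 * t : ℕ) : ℂ) := by
      have e' : A₀ χ = ((2 * t : ℕ) : ℤ) := by
        rw [two_mul, ← ht, Int.toNat_of_nonneg (hnn χ)]
      rw [e', Int.cast_natCast]
    have h2 : MemLocalIdeal M (A₀ χ : ℂ) := by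
      rw [e]
      exact (memLocalIdeal_natCast_iff hM _).2 (dvd_mul_right _ _)
    simpa using memLocalIdeal_add (hA₁ χ) h2
  · -- the row
    obtain ⟨hχ, hχ0⟩ := (hS χ).1 hχS
    set q := 2 ^ blockDefect 2 b with hq
    have hrow : ∀ u : (ZMod n)ˣ, ∑ ξ ∈ B.toFinite.toFinset,
        ‖subEntry 2 b χ ξ (u : ZMod n).val‖ ^ 2 = (q : ℝ) * r χ (u : ZMod n).val := by
      intro u
      apply Complex.ofReal_injective
      rw [Complex.ofReal_sum, Complex.ofReal_mul, Complex.ofReal_natCast, ← hre]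
      refine Eq.trans (Finset.sum_congr rfl fun ξ _ => ?_)
        (sum_subEntry_row hM hx hind χ (ZMod.val_coe_unit_coprime u))
      rw [Complex.ofReal_pow, ← Complex.mul_conj', subEntry_conj hM hx χ ξ]
    have hsub : S ⊆ B.toFinite.toFinset := fun ξ hξ =>
      B.toFinite.mem_toFinset.2 ((hS ξ).1 hξ).1
    have hlow : (U : ℝ) * ((S.card : ℝ) - 1 + (A₀ χ : ℝ) ^ 2) ≤ q * ((U : ℝ) * A₀ χ) := by
      rw [← hAr χ, Finset.mul_sum, ← Finset.sum_congr rfl fun u _ => hrow u]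
      calc (U : ℝ) * ((S.card : ℝ) - 1 + (A₀ χ : ℝ) ^ 2)
          = (∑ _ξ ∈ S.erase χ, (U : ℝ)) + (U : ℝ) * (A₀ χ : ℝ) ^ 2 := by
            rw [Finset.sum_const, nsmul_eq_mul, Finset.card_erase_of_mem hχS,
              Nat.cast_sub (Finset.card_pos.2 ⟨χ, hχS⟩), Nat.cast_one]
            ring
        _ ≤ (∑ ξ ∈ S.erase χ, ∑ u : (ZMod n)ˣ, ‖subEntry 2 b χ ξ (u : ZMod n).val‖ ^ 2) +
              ∑ u : (ZMod n)ˣ, ‖subEntry 2 b χ χ (u : ZMod n).val‖ ^ 2 := by
            refine add_le_add (Finset.sum_le_sum fun ξ hξ => ?_) ?_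
            · obtain ⟨hξB, hξ0⟩ := (hS ξ).1 (Finset.mem_of_mem_erase hξ)
              refine card_units_le_sum_sq (subEntry_isCyclo hM hx χ ξ) fun h0 => ?_
              exact not_memLocalIdeal_subEntry hM hx hind hχ hξB hχ0 hξ0 (h0 ▸ memLocalIdeal_zero)
            · have hcs := sq_sum_le_card_mul_sum_sq (s := (Finset.univ : Finset (ZMod n)ˣ))
                (f := fun u => r χ (u : ZMod n).val)
              rw [hAr χ, Finset.card_univ, ← hU, mul_pow, sq (U : ℝ), mul_assoc] at hcs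
              refine (le_of_mul_le_mul_left hcs hUpos).trans (le_of_eq ?_)
              refine Finset.sum_congr rfl fun u _ => ?_
              rw [hre, Complex.norm_real, Real.norm_eq_abs, sq_abs]
        _ = ∑ u : (ZMod n)ˣ, ∑ ξ ∈ S, ‖subEntry 2 b χ ξ (u : ZMod n).val‖ ^ 2 := by
            rw [Finset.sum_erase_add _ _ hχS, Finset.sum_comm]
        _ ≤ _ := Finset.sum_le_sum fun u _ =>
            Finset.sum_le_sum_of_subset_of_nonneg hsub fun _ _ _ => by positivity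
    have hlow' : (S.card : ℝ) - 1 + (A₀ χ : ℝ) ^ 2 ≤ q * (A₀ χ : ℝ) :=
      le_of_mul_le_mul_left (hlow.trans_eq (by ring)) hUpos
    have hcast : ((A₀ χ).toNat : ℝ) = (A₀ χ : ℝ) := by
      exact_mod_cast Int.toNat_of_nonneg (hnn χ)
    have : ((S.card + (A₀ χ).toNat ^ 2 : ℕ) : ℝ) ≤ ((q * (A₀ χ).toNat + 1 : ℕ) : ℝ) := by
      push_cast
      rw [hcast]
      linarith
    exact_mod_cast this
  · -- the trace
    set N := 2 ^ blockDefect 2 b * blockRank 2 b with hN
    have htr : IsCyclo n fun k => ∑ χ ∈ B.toFinite.toFinset, subEntry 2 b χ χ k :=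
      IsCyclo.sum _ fun χ _ => subEntry_isCyclo hM hx χ χ
    have htot : ∀ u : (ZMod n)ˣ, ∑ χ ∈ B.toFinite.toFinset, r χ (u : ZMod n).val = (N : ℝ) := by
      intro u
      have h1 := htr.eq_int_of_coprime hn0 (m := (N : ℤ))
        (by rw [sum_subEntry_self hM hx hind, Int.cast_natCast]) (ZMod.val_coe_unit_coprime u)
      rw [Finset.sum_congr rfl fun χ _ => hre χ _, ← Complex.ofReal_sum, Int.cast_natCast,
        ← Complex.ofReal_natCast] at h1
      exact Complex.ofReal_injective h1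
    have hle : (U : ℝ) * ∑ χ ∈ S, (A₀ χ : ℝ) ≤ (U : ℝ) * N := by
      rw [Finset.mul_sum, ← Finset.sum_congr rfl fun χ _ => hAr χ, Finset.sum_comm, hU,
        ← Finset.card_univ, ← nsmul_eq_mul, ← Finset.sum_const]
      refine Finset.sum_le_sum fun u _ => ?_
      refine le_trans ?_ (htot u).le
      exact Finset.sum_le_sum_of_subset_of_nonneg
        (fun ξ hξ => B.toFinite.mem_toFinset.2 ((hS ξ).1 hξ).1) fun ξ _ _ => hr0 ξ _
    have hcast : ∀ χ, ((A₀ χ).toNat : ℝ) = (A₀ χ : ℝ) := fun χ => by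
      exact_mod_cast Int.toNat_of_nonneg (hnn χ)
    have : ((∑ χ ∈ S, (A₀ χ).toNat : ℕ) : ℝ) ≤ (N : ℝ) := by
      rw [Nat.cast_sum, Finset.sum_congr rfl fun χ _ => hcast χ]
      exact le_of_mul_le_mul_left hle hUpos
    exact_mod_cast this

end CfsgLib.BlockA
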