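import Cfsg.Agent.Lib.BlockA.CyclotomicDiv
import Cfsg.Agent.Lib.BlockA.MajorValuation
import Cfsg.Agent.Lib.BlockA.TwoSubsectionCount

/-!
The averaged diagonal contributions at a major subsection of a `2`-block.
-/

set_option autoImplicit false
set_option linter.unusedSectionVars false

namespace CfsgLib.BlockA

open Cfsg CfsgLib.Block CfsgLib.BlockB CfsgLib.BlockA.BrauerFeit Polynomial
open scoped ComplexConjugate

universe u

variable {G : Type u} [Group G] [Fintype G] {M : Ideal AlgInt} [M.IsPrime]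
variable (hM : IsPModular 2 M) {x : G} (hx : ∃ k : ℕ, orderOf x = 2 ^ k)
variable [Fintype (Subgroup.centralizer ({x} : Set G))]
variable [Fintype (IrrCharacter G)]
variable {B : Set (IrrCharacter G)}
variable {b : Set (IrrCharacter (Subgroup.centralizer ({x} : Set G)))}
variable (hind : IsInducedBlock M (Subgroup.centralizer ({x} : Set G)) b B)
variable (hd : blockDefect 2 b = blockDefect 2 B)
include hM hx

local notation "CC" => Subgroup.centralizer (Singleton.singleton x : Set G)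

/-- A contribution as a polynomial in one root of unity of `2`-power order. -/
theorem exists_subEntry_poly {i : ℕ} (hi : orderOf x = 2 ^ i) {ζ : ℂ}
    (hζ : IsPrimitiveRoot ζ (2 ^ (i + 1))) (χ ξ : IrrCharacter G) :
    ∃ P : ℤ[X], ∀ k : ℕ, subEntry 2 b χ ξ k = aeval (ζ ^ k) P := by
  classical
  have hexp : ∀ θ η : IrrCharacter CC,
      ∃ j, ζ ^ j = centralRoot x θ * conj (centralRoot x η) := by
    intro θ η
    obtain ⟨j, -, hj⟩ := hζ.eq_pow_of_pow_eq_one
      (show (centralRoot x θ * conj (centralRoot x η)) ^ (2 ^ (i + 1)) = 1 by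
        rw [pow_succ, pow_mul, mul_pow, ← map_pow, ← hi, (centralRoot_spec hM hx θ).2.1,
          (centralRoot_spec hM hx η).2.1, map_one, mul_one, one_pow])
    exact ⟨j, hj⟩
  choose e he using hexp
  refine ⟨∑ θ ∈ b.toFinite.toFinset, ∑ η ∈ b.toFinite.toFinset,
    C ((resMult x χ θ : ℤ) * (resMult x ξ η : ℤ) *
      (regEntry 2 θ η / (2 ^ sInf ((fun φ : IrrCharacter CC =>
        (charDegree (φ : CC → ℂ)).factorization 2) '' b) : ℕ))) * X ^ e θ η, fun k => ?_⟩
  simp only [subEntry, map_sum]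
  refine Finset.sum_congr rfl fun θ _ => Finset.sum_congr rfl fun η _ => ?_
  rw [map_mul, aeval_C, map_pow (aeval (ζ ^ k)), aeval_X, ← pow_mul, mul_comm k, pow_mul, he θ η, mul_pow,
    ← map_pow, algebraMap_int_eq, eq_intCast]

include hind hd

/-- A nonzero contribution against a character of height zero has large norms on average. -/
theorem mul_card_le_sum_sq_entry {n : ℕ} [NeZero n] {i : ℕ} (hi : orderOf x = 2 ^ i)
    (hn : 2 ^ (i + 1) ∣ n) {ξ ζ : IrrCharacter G} (hξ : ξ ∈ B) (hζB : ζ ∈ B)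
    (hζ0 : blockHeight 2 B (ζ : G → ℂ) = 0) :
    (4 : ℝ) ^ blockHeight 2 B (ξ : G → ℂ) * Fintype.card (ZMod n)ˣ ≤
      ∑ u : (ZMod n)ˣ, ‖subEntry 2 b ξ ζ (u : ZMod n).val‖ ^ 2 := by
  classical
  set h := blockHeight 2 B (ξ : G → ℂ) with hh
  obtain ⟨c, hc⟩ := hn
  set z := zetaN n ^ c with hz
  have hzr : IsPrimitiveRoot z (2 ^ (i + 1)) :=
    (zetaN_isPrimitiveRoot (NeZero.ne n)).pow (NeZero.pos n) (by rw [hc, mul_comm])
  obtain ⟨P, hP⟩ := exists_subEntry_poly hM hx (b := b) hi hzr ξ ζ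
  have hP1 : subEntry 2 b ξ ζ 1 = aeval z P := by rw [hP 1, pow_one]
  obtain ⟨Q, hQ⟩ := exists_div_pow hM hzr P h (hP1 ▸ memLocalRing_subEntry_div hM hx hind hd hξ ζ)
  let g : ℕ → ℂ := fun k => aeval (z ^ k) Q
  have hg : IsCyclo n g := ⟨Q.comp (X ^ c), fun k => by
    simp only [g, aeval_comp, map_pow, aeval_X, hz, ← pow_mul, mul_comm k c]⟩
  have hdiff : IsCyclo n fun k => aeval (z ^ k) (P - C ((2 ^ h : ℕ) : ℤ) * Q) :=
    ⟨(P - C ((2 ^ h : ℕ) : ℤ) * Q).comp (X ^ c), fun k => by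
      simp only [aeval_comp, map_pow, aeval_X, hz, ← pow_mul, mul_comm k c]⟩
  have hval : ∀ k : ℕ, k.Coprime n → subEntry 2 b ξ ζ k = ((2 ^ h : ℕ) : ℂ) * g k := by
    intro k hk
    have h1 := hdiff.eq_int_of_coprime (NeZero.ne n) (m := 0) (by
      simp only [pow_one, map_sub, map_mul, hQ]
      simp [map_ofNat]) hk
    simp only [map_sub, map_mul, aeval_C, Int.cast_zero, sub_eq_zero] at h1
    rw [hP k, h1]
    simp [g]
  have hne : g 1 ≠ 0 := by
    intro h0
    refine (memLocalIdeal_subEntry_div_iff hM hx hind hd hξ hζB).1 ?_ hζ0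
    rw [hval 1 (Nat.coprime_one_left n), h0, mul_zero, zero_div]
    exact memLocalIdeal_zero
  have h1 := mul_le_mul_of_nonneg_left (card_units_le_sum_sq hg hne)
    (pow_nonneg (by norm_num : (0 : ℝ) ≤ 4) h)
  refine h1.trans (le_of_eq ?_)
  rw [Finset.mul_sum]
  refine Finset.sum_congr rfl fun u _ => ?_
  rw [hval _ (ZMod.val_coe_unit_coprime u), norm_mul, mul_pow, Complex.norm_natCast]
  congr 1
  push_cast
  rw [← pow_mul, mul_comm, pow_mul]
  norm_num

/-- **Averages at a major subsection.** -/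
theorem exists_major_averages :
    ∃ A : IrrCharacter G → ℕ,
      ∑ χ ∈ B.toFinite.toFinset, A χ = 2 ^ blockDefect 2 b * blockRank 2 b ∧
      (∀ χ ∈ B, 1 ≤ blockHeight 2 B (χ : G → ℂ) →
        2 ^ (blockHeight 2 B (χ : G → ℂ) + 1) ∣ A χ ∧ 0 < A χ ∧ A χ < 2 ^ blockDefect 2 b) ∧
      (∀ χ ∈ B, blockHeight 2 B (χ : G → ℂ) = 0 → Odd (A χ) ∧
        ∑ ξ ∈ B.toFinite.toFinset, 4 ^ blockHeight 2 B (ξ : G → ℂ) + A χ ^ 2 ≤
          2 ^ blockDefect 2 b * A χ + 1) := by
  classical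
  have := Fact.mk hM.1
  obtain ⟨i, hi⟩ := id hx
  set n := Nat.card G * 2 ^ (i + 1) with hn
  have hn0 : n ≠ 0 := mul_ne_zero Nat.card_pos.ne' (pow_ne_zero _ two_ne_zero)
  have : NeZero n := ⟨hn0⟩
  have hni : 2 ^ (i + 1) ∣ n := dvd_mul_left _ _
  have hcopG : ∀ u : (ZMod n)ˣ, (u : ZMod n).val.Coprime (Nat.card G) := fun u =>
    (ZMod.val_coe_unit_coprime u).coprime_dvd_right (dvd_mul_right _ _)
  set z := zetaN n ^ Nat.card G with hz
  have hzr : IsPrimitiveRoot z (2 ^ (i + 1)) :=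
    (zetaN_isPrimitiveRoot hn0).pow (NeZero.pos n) hn
  set U := Fintype.card (ZMod n)ˣ with hU
  have hUpos : (0 : ℝ) < U := Nat.cast_pos.2 Fintype.card_pos
  set q := 2 ^ blockDefect 2 b with hq
  set F := B.toFinite.toFinset with hF
  have hmemF : ∀ {χ}, χ ∈ F ↔ χ ∈ B := B.toFinite.mem_toFinset
  set hgt := fun χ : IrrCharacter G => blockHeight 2 B (χ : G → ℂ) with hhgt
  choose r hr0 hre using fun χ : IrrCharacter G => subEntry_self_nonneg (b := b) hM χ
  choose P hP using fun χ : IrrCharacter G => exists_subEntry_poly hM hx (b := b) hi hzr χ χ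
  -- the average of each diagonal entry
  have hdiag : ∀ χ : IrrCharacter G, ∃ A : ℤ,
      ∑ u : (ZMod n)ˣ, r χ (u : ZMod n).val = U * (A : ℝ) ∧
      (χ ∈ B → ((2 ^ (hgt χ + 1) : ℕ) : ℤ) ∣ A ↔ χ ∈ B → hgt χ ≠ 0) := by
    intro χ
    by_cases hχ : χ ∈ B
    · have hP1 : subEntry 2 b χ χ 1 = aeval z (P χ) := by rw [hP χ 1, pow_one]
      obtain ⟨Q, hQ⟩ := exists_div_pow hM hzr (P χ) (hgt χ)
        (hP1 ▸ memLocalRing_subEntry_div hM hx hind hd hχ χ)
      have h2 : ((2 ^ hgt χ : ℕ) : ℂ) ≠ 0 := Nat.cast_ne_zero.2 (pow_ne_zero _ two_ne_zero)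
      have hreal : conj (aeval z Q) = aeval z Q := by
        have h := hre χ 1
        rw [hP1, hQ] at h
        refine mul_left_cancel₀ h2 ?_
        rw [h, ← Complex.conj_natCast, ← map_mul, h, Complex.conj_ofReal]
      obtain ⟨A, hA, hAm⟩ := exists_average_real hM hzr hni Q hreal
      have hval : ∀ k : ℕ, k.Coprime n →
          subEntry 2 b χ χ k = ((2 ^ hgt χ : ℕ) : ℂ) * aeval (z ^ k) Q := by
        intro k hk
        have hdiff : IsCyclo n fun k => aeval (z ^ k) (P χ - C ((2 ^ hgt χ : ℕ) : ℤ) * Q) :=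
          ⟨(P χ - C ((2 ^ hgt χ : ℕ) : ℤ) * Q).comp (X ^ Nat.card G), fun k => by
            simp only [aeval_comp, map_pow, aeval_X, hz, ← pow_mul, mul_comm k (Nat.card G)]⟩
        have h1 := hdiff.eq_int_of_coprime hn0 (m := 0) (by
          simp only [pow_one, map_sub, map_mul, hQ]
          simp [map_ofNat]) hk
        simp only [map_sub, map_mul, aeval_C, Int.cast_zero, sub_eq_zero] at h1
        rw [hP χ k, h1]
        simp
      refine ⟨((2 ^ hgt χ : ℕ) : ℤ) * A, ?_, ?_⟩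
      · apply Complex.ofReal_injective
        rw [Complex.ofReal_sum, Finset.sum_congr rfl fun u _ => (hre χ _).symm.trans
          (hval _ (ZMod.val_coe_unit_coprime u)), ← Finset.mul_sum, hA, ← hU]
        push_cast
        ring
      · have hdvd : ((2 ^ (hgt χ + 1) : ℕ) : ℤ) ∣ ((2 ^ hgt χ : ℕ) : ℤ) * A ↔ (2 : ℤ) ∣ A := by
          rw [pow_succ, Nat.cast_mul, Nat.cast_ofNat]
          exact mul_dvd_mul_iff_left (by positivity)
        have hiff := memLocalIdeal_subEntry_div_iff hM hx hind hd hχ hχ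
        rw [hP1, hQ, mul_div_cancel_left₀ _ h2] at hiff
        have hQA : MemLocalIdeal M (aeval z Q) ↔ MemLocalIdeal M (A : ℂ) := by
          constructor <;> intro h
          · simpa using memLocalIdeal_sub h hAm
          · simpa using memLocalIdeal_add hAm h
        have hA2 : MemLocalIdeal M (A : ℂ) ↔ (2 : ℤ) ∣ A := by
          rcases Int.natAbs_eq A with e | e
          · rw [e, Int.cast_natCast, memLocalIdeal_natCast_iff hM]
            exact Int.natCast_dvd_natCast.symm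
          · rw [e, Int.cast_neg, Int.cast_natCast, dvd_neg]
            constructor <;> intro h
            · exact Int.natCast_dvd_natCast.2
                ((memLocalIdeal_natCast_iff hM _).1 (by simpa using memLocalIdeal_neg h))
            · exact memLocalIdeal_neg
                ((memLocalIdeal_natCast_iff hM _).2 (Int.natCast_dvd_natCast.1 h))
        simp only [hχ, forall_const, hdvd]
        rw [← hA2, ← hQA, hiff]
    · obtain ⟨A, hA⟩ : ∃ A : ℤ, ∑ u : (ZMod n)ˣ, r χ (u : ZMod n).val = U * (A : ℝ) := by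
        refine ⟨0, ?_⟩
        simp only [Int.cast_zero, mul_zero]
        refine Finset.sum_eq_zero fun u _ => Complex.ofReal_injective ?_
        rw [← hre, Complex.ofReal_zero]
        have hz0 : subEntry 2 b χ χ 1 = ((0 : ℤ) : ℂ) := by
          rw [subEntry_one hM hx hind, sectionFun_eq_zero hM hx hind hχ]
          simp [CfsgLib.Char.classInner_def]
        simpa using (subEntry_isCyclo hM hx χ χ).eq_int_of_coprime Nat.card_pos.ne' hz0 (hcopG u)
      exact ⟨A, hA, by simp [hχ]⟩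
  choose A₀ hA₀ hA₁ using hdiag
  have hnn : ∀ χ, 0 ≤ A₀ χ := fun χ => by
    have h : (0 : ℝ) ≤ U * (A₀ χ : ℝ) := hA₀ χ ▸ Finset.sum_nonneg fun u _ => hr0 χ _
    exact_mod_cast (mul_nonneg_iff_of_pos_left hUpos).1 h
  have hcast : ∀ χ, ((A₀ χ).toNat : ℝ) = (A₀ χ : ℝ) := fun χ => by
    exact_mod_cast Int.toNat_of_nonneg (hnn χ)
  -- the rows
  have hrow : ∀ χ ∈ B, ∀ T : Finset (IrrCharacter G), T ⊆ F.erase χ →
      ∑ ξ ∈ T, ∑ u : (ZMod n)ˣ, ‖subEntry 2 b χ ξ (u : ZMod n).val‖ ^ 2 +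
        U * (A₀ χ : ℝ) ^ 2 ≤ U * ((q : ℝ) * A₀ χ) := by
    intro χ hχ T hT
    have hid : ∀ u : (ZMod n)ˣ, ∑ ξ ∈ F, ‖subEntry 2 b χ ξ (u : ZMod n).val‖ ^ 2 =
        (q : ℝ) * r χ (u : ZMod n).val := by
      intro u
      apply Complex.ofReal_injective
      rw [Complex.ofReal_sum, Complex.ofReal_mul, Complex.ofReal_natCast, ← hre]
      refine Eq.trans (Finset.sum_congr rfl fun ξ _ => ?_)
        (sum_subEntry_row hM hx hind χ (hcopG u))
      rw [Complex.ofReal_pow, ← Complex.mul_conj', subEntry_conj hM hx χ ξ]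
    calc _ ≤ ∑ ξ ∈ F.erase χ, ∑ u : (ZMod n)ˣ, ‖subEntry 2 b χ ξ (u : ZMod n).val‖ ^ 2 +
          ∑ u : (ZMod n)ˣ, ‖subEntry 2 b χ χ (u : ZMod n).val‖ ^ 2 := by
          refine add_le_add (Finset.sum_le_sum_of_subset_of_nonneg hT fun _ _ _ =>
            Finset.sum_nonneg fun _ _ => by positivity) ?_
          have hcs := sq_sum_le_card_mul_sum_sq (s := (Finset.univ : Finset (ZMod n)ˣ))
            (f := fun u => r χ (u : ZMod n).val)
          rw [hA₀ χ, Finset.card_univ, ← hU, mul_pow, sq (U : ℝ), mul_assoc] at hcs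
          refine (le_of_mul_le_mul_left hcs hUpos).trans (le_of_eq ?_)
          refine Finset.sum_congr rfl fun u _ => ?_
          rw [hre, Complex.norm_real, Real.norm_eq_abs, sq_abs]
      _ = ∑ u : (ZMod n)ˣ, ∑ ξ ∈ F, ‖subEntry 2 b χ ξ (u : ZMod n).val‖ ^ 2 := by
          rw [Finset.sum_erase_add _ _ (hmemF.2 hχ), Finset.sum_comm]
      _ = _ := by
          rw [Finset.sum_congr rfl fun u _ => hid u, ← Finset.mul_sum, hA₀ χ]
          ring
  have hswap : ∀ χ ξ : IrrCharacter G, ∀ k, ‖subEntry 2 b χ ξ k‖ = ‖subEntry 2 b ξ χ k‖ :=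
    fun χ ξ k => by rw [← subEntry_conj hM hx χ ξ k, Complex.norm_conj]
  refine ⟨fun χ => (A₀ χ).toNat, ?_, fun χ hχ hpos => ?_, fun χ hχ h0 => ?_⟩
  · -- the trace
    have htr : IsCyclo (Nat.card G) fun k => ∑ χ ∈ F, subEntry 2 b χ χ k :=
      IsCyclo.sum _ fun χ _ => subEntry_isCyclo hM hx χ χ
    have htot : ∀ u : (ZMod n)ˣ, ∑ χ ∈ F, r χ (u : ZMod n).val =
        ((q * blockRank 2 b : ℕ) : ℝ) := by
      intro u
      have h1 := htr.eq_int_of_coprime Nat.card_pos.ne' (m := ((q * blockRank 2 b : ℕ) : ℤ))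
        (by rw [hF, sum_subEntry_self hM hx hind, Int.cast_natCast]) (hcopG u)
      rw [Finset.sum_congr rfl fun χ _ => hre χ _, ← Complex.ofReal_sum, Int.cast_natCast,
        ← Complex.ofReal_natCast] at h1
      exact Complex.ofReal_injective h1
    have hsum : (U : ℝ) * ∑ χ ∈ F, (A₀ χ : ℝ) = U * ((q * blockRank 2 b : ℕ) : ℝ) := by
      rw [Finset.mul_sum, ← Finset.sum_congr rfl fun χ _ => hA₀ χ, Finset.sum_comm,
        Finset.sum_congr rfl fun u _ => htot u, Finset.sum_const, Finset.card_univ, nsmul_eq_mul]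
    have h' : ((∑ χ ∈ F, (A₀ χ).toNat : ℕ) : ℝ) = ((q * blockRank 2 b : ℕ) : ℝ) := by
      rw [Nat.cast_sum, Finset.sum_congr rfl fun χ _ => hcast χ]
      exact mul_left_cancel₀ hUpos.ne' hsum
    exact_mod_cast h'
  · -- positive height
    have hdvd := (hA₁ χ).2 (fun _ => by simp only [hhgt]; omega) hχ
    obtain ⟨ζ, hζ, hζ0⟩ := exists_height_zero hM hind.2.1
    have hne : ζ ≠ χ := fun e => by subst e; omega
    have h := hrow χ hχ {ζ}
      (Finset.singleton_subset_iff.2 (Finset.mem_erase.2 ⟨hne, hmemF.2 hζ⟩))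
    rw [Finset.sum_singleton] at h
    have hlow := mul_card_le_sum_sq_entry hM hx hind hd hi hni hχ hζ hζ0
    have h4 : (1 : ℝ) ≤ 4 ^ blockHeight 2 B (χ : G → ℂ) := one_le_pow₀ (by norm_num)
    have hkey : 1 + (A₀ χ : ℝ) ^ 2 ≤ (q : ℝ) * A₀ χ := by
      refine le_of_mul_le_mul_left ?_ hUpos
      rw [← hU] at hlow
      nlinarith
    have hkey' : 1 + A₀ χ ^ 2 ≤ (q : ℤ) * A₀ χ := by exact_mod_cast hkey
    have hA0 := hnn χ
    refine ⟨?_, ?_, ?_⟩
    · have e := Int.toNat_of_nonneg (hnn χ)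
      rw [← e] at hdvd
      exact Int.natCast_dvd_natCast.1 hdvd
    · rw [Nat.pos_iff_ne_zero, ne_eq, Int.toNat_eq_zero]
      nlinarith
    · rw [Int.toNat_lt hA0]
      nlinarith
  · -- height zero
    refine ⟨?_, ?_⟩
    · rw [← Nat.not_even_iff_odd]
      intro he
      have h : ((2 ^ (hgt χ + 1) : ℕ) : ℤ) ∣ A₀ χ := by
        rw [← Int.toNat_of_nonneg (hnn χ)]
        refine Int.natCast_dvd_natCast.2 ?_
        simp only [hhgt, h0, zero_add, pow_one]
        exact even_iff_two_dvd.1 he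
      exact (hA₁ χ).1 (fun _ => h) hχ h0
    · have h := hrow χ hχ (F.erase χ) subset_rfl
      have hlow : ∀ ξ ∈ F.erase χ, (4 : ℝ) ^ hgt ξ * U ≤
          ∑ u : (ZMod n)ˣ, ‖subEntry 2 b χ ξ (u : ZMod n).val‖ ^ 2 := fun ξ hξ => by
        rw [Finset.sum_congr rfl fun u _ => by rw [hswap χ ξ]]
        exact mul_card_le_sum_sq_entry hM hx hind hd hi hni
          (hmemF.1 (Finset.mem_of_mem_erase hξ)) hχ h0
      have h2 := (add_le_add_left (Finset.sum_le_sum hlow) _).trans h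
      rw [← Finset.sum_mul, mul_comm _ (U : ℝ), ← mul_add] at h2
      have h3 := le_of_mul_le_mul_left h2 hUpos
      have hsplit : ∑ ξ ∈ F, (4 : ℝ) ^ hgt ξ = ∑ ξ ∈ F.erase χ, (4 : ℝ) ^ hgt ξ + 1 := by
        rw [← Finset.sum_erase_add _ _ (hmemF.2 hχ), show hgt χ = 0 from h0, pow_zero]
      have hfin : ((∑ ξ ∈ F, 4 ^ hgt ξ + (A₀ χ).toNat ^ 2 : ℕ) : ℝ) ≤
          ((q * (A₀ χ).toNat + 1 : ℕ) : ℝ) := by
        push_cast
        rw [hcast χ, hsplit]
        linarith
      exact_mod_cast hfin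

end CfsgLib.BlockA
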