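import Cfsg.Agent.Lib.BlockA.FreeExpansion
import Cfsg.Agent.Lib.BlockA.MajorTwoCount

/-!
An abelian defect group of a `2`-block on which the stabilizer acts freely with short orbits:
all heights are zero, and the expansions have odd coefficient sums.
-/

set_option autoImplicit false
set_option linter.unusedSectionVars false
set_option maxHeartbeats 1000000

namespace CfsgLib.BlockA.FreeHeights

open Cfsg CfsgLib.Block CfsgLib.BlockA CfsgLib.BlockB CfsgLib.BlockB.HeightBound AbelianSub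
  AbelianTrace CfsgLib.BlockA.BrauerFeit Polynomial
open scoped ComplexConjugate

universe u

variable {G : Type u} [Group G] [Fintype G] {M : Ideal AlgInt} [M.IsPrime]
  {B : Set (IrrCharacter G)} {P : Subgroup G}
  {c : Set (IrrCharacter (Subgroup.centralizer (P : Set G)))}
omit [Group G] [Fintype G] in
/-- Division by a local unit. -/
theorem memLocalRing_of_mul_unit {z g : ℂ} (hg : MemLocalRing M g) (hu : ¬ MemLocalIdeal M g)
    (h : MemLocalRing M (z * g)) : MemLocalRing M z := by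
  obtain ⟨a, b, hb, rfl⟩ := hg
  obtain ⟨a', b', hb', he⟩ := h
  have ha : a ∉ M := fun ha => hu ⟨a, b, ha, hb, rfl⟩
  have hb0 := coe_ne_zero_of_not_mem hb
  have ha0 := coe_ne_zero_of_not_mem ha
  have hb'0 := coe_ne_zero_of_not_mem hb'
  refine ⟨a' * b, b' * a, fun h => (Ideal.IsPrime.mem_or_mem inferInstance h).elim hb' ha, ?_⟩
  push_cast
  field_simp at he ⊢
  linear_combination he

variable (hM : IsPModular 2 M) (hmax : IsMaximalBrauerPair 2 M B P c)
  (hab : ∀ v ∈ P, ∀ w ∈ P, v * w = w * v) (hcard : Nat.card P = 2 ^ blockDefect 2 B)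
include hM hmax hab hcard

/-- The linear combination with coefficients given by an expansion, at a fixed element. -/
noncomputable def val [Fintype (IrrCharacter P)] (n : IrrCharacter G → IrrCharacter P → ℤ)
    (χ : IrrCharacter G) (v : P) : ℂ :=
  ∑ ζ : IrrCharacter P, (n χ ζ : ℂ) * (ζ : P → ℂ) v

omit hM hmax hcard in
theorem irr_one (ζ : IrrCharacter P) : (ζ : P → ℂ) 1 = 1 := by
  obtain ⟨μ, hμ⟩ := CfsgLib.Char.exists_hom_of_degree_one (CfsgLib.Char.irr_isCharacter ζ.2)
    (CfsgLib.Char.irr_degree_one_of_comm (fun a b => Subtype.ext (hab a a.2 b b.2)) ζ.2)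
  simp [hμ]

theorem irr_pow (ζ : IrrCharacter P) (v : P) (k : ℕ) :
    (ζ : P → ℂ) (v ^ k) = (ζ : P → ℂ) v ^ k := by
  obtain ⟨μ, hμ⟩ := CfsgLib.Char.exists_hom_of_degree_one (CfsgLib.Char.irr_isCharacter ζ.2)
    (CfsgLib.Char.irr_degree_one_of_comm (fun a b => Subtype.ext (hab a a.2 b b.2)) ζ.2)
  simp [hμ]

theorem val_local [Fintype (IrrCharacter P)] (n : IrrCharacter G → IrrCharacter P → ℤ)
    (χ : IrrCharacter G) (v : P) : MemLocalRing M (val n χ v) :=
  memLocalRing_sum _ _ fun ζ _ =>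
    memLocalRing_mul (memLocalRing_intCast _) (memLocalRing_irr_apply ζ v)

/-- The product of the values is the entry at the subsection. -/
theorem val_mul [Fintype (IrrCharacter G)] [Fintype (IrrCharacter P)] {v : P}
    [Fintype (Subgroup.centralizer ({(v : G)} : Set G))]
    {n : IrrCharacter G → IrrCharacter P → ℤ}
    (hn : ∀ χ ξ : IrrCharacter G, Contribution.con hM hmax hab v χ ξ =
      (Nat.card P : ℂ)⁻¹ * (val n χ v * conj (val n ξ v))) (χ ξ : IrrCharacter G) :
    val n χ v * conj (val n ξ v) = subEntry 2 (blk hM hmax hab v.2) χ ξ 1 := by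
  rw [Contribution.subEntry_eq_con hM hmax hab v, hn, ← hcard, ← mul_assoc,
    mul_inv_cancel₀ (Nat.cast_ne_zero.2 Nat.card_pos.ne'), one_mul]

/-- At positive height the values are twice nonzero cyclotomic integers. -/
theorem four_mul_card_le [Fintype (IrrCharacter G)] [Fintype (IrrCharacter P)] {v : P}
    [Fintype (Subgroup.centralizer ({(v : G)} : Set G))]
    {n : IrrCharacter G → IrrCharacter P → ℤ}
    (hn : ∀ χ ξ : IrrCharacter G, Contribution.con hM hmax hab v χ ξ =
      (Nat.card P : ℂ)⁻¹ * (val n χ v * conj (val n ξ v)))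
    {i : ℕ} (hd : blockDefect 2 B = i + 1) {χ : IrrCharacter G} (hχ : χ ∈ B)
    (hpos : blockHeight 2 B (χ : G → ℂ) ≠ 0) :
    (4 : ℝ) * Fintype.card (ZMod (2 ^ (i + 1)))ˣ ≤
      ∑ u : (ZMod (2 ^ (i + 1)))ˣ, ‖val n χ (v ^ (u : ZMod (2 ^ (i + 1))).val)‖ ^ 2 := by
  classical
  have := Fact.mk hM.1
  obtain ⟨j, hj⟩ := IsPGroup.iff_orderOf.1 hmax.1.1.1 v
  rw [← Subgroup.orderOf_coe] at hj
  have hx : ∃ k : ℕ, orderOf (v : G) = 2 ^ k := ⟨j, hj⟩
  have hind := (blk_spec hM hmax hab v.2).1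
  have hdb : blockDefect 2 (blk hM hmax hab v.2) = blockDefect 2 B :=
    (exists_blk hM hmax hab v.2).choose_spec.2.2
  have hmul := val_mul hM hmax hab hcard hn
  set N := 2 ^ (i + 1) with hN
  have hN0 : N ≠ 0 := pow_ne_zero _ two_ne_zero
  have : NeZero N := ⟨hN0⟩
  set z := zetaN N with hz
  have hzr : IsPrimitiveRoot z (2 ^ (i + 1)) := zetaN_isPrimitiveRoot hN0
  have hroot : ∀ ζ : IrrCharacter P, ∃ e, z ^ e = (ζ : P → ℂ) v := by
    intro ζ
    have h1 : (ζ : P → ℂ) v ^ N = 1 := by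
      rw [← irr_pow hM hmax hab hcard, hN, ← hd, ← hcard, pow_card_eq_one']
      exact irr_one hab ζ
    obtain ⟨e, -, he⟩ := hzr.eq_pow_of_pow_eq_one h1
    exact ⟨e, he⟩
  choose e he using hroot
  let Q₀ : ℤ[X] := ∑ ζ : IrrCharacter P, C (n χ ζ) * X ^ e ζ
  have hQ₀ : ∀ k : ℕ, aeval (z ^ k) Q₀ = val n χ (v ^ k) := by
    intro k
    simp only [Q₀, map_sum, map_mul, map_pow, aeval_X, eq_intCast, val]
    refine Finset.sum_congr rfl fun ζ _ => ?_
    rw [irr_pow hM hmax hab hcard, ← he ζ, ← pow_mul, ← pow_mul, mul_comm k]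
    simp
  -- a character of height zero gives a unit
  obtain ⟨ξ, hξ, hξ0⟩ := exists_height_zero hM hind.2.1
  set g := conj (val n ξ v) with hg
  have hgring : MemLocalRing M g := by
    rw [hg, val, map_sum]
    refine memLocalRing_sum _ _ fun ζ _ => ?_
    rw [map_mul, map_intCast, irr_conj_eq ζ.2]
    exact memLocalRing_mul (memLocalRing_intCast _) (memLocalRing_irr_apply ζ _)
  have hgunit : ¬ MemLocalIdeal M g := fun h => by
    have h1 := memLocalIdeal_mul_left (val_local hM hmax hab hcard n ξ v) h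
    rw [hg, hmul] at h1
    exact not_memLocalIdeal_subEntry hM hx hind hξ hξ hξ0 hξ0 h1
  have hloc : MemLocalRing M (subEntry 2 (blk hM hmax hab v.2) χ ξ 1 / (2 : ℂ)) := by
    have h1 := memLocalRing_subEntry_div hM hx hind hdb hχ ξ
    obtain ⟨h', hh'⟩ := Nat.exists_eq_add_of_le (Nat.one_le_iff_ne_zero.2 hpos)
    have h2 := memLocalRing_mul h1 (memLocalRing_natCast (M := M) (2 ^ h'))
    convert h2 using 1
    rw [hh', pow_add, pow_one]
    push_cast
    field_simp
  have hdiv : MemLocalRing M (aeval z Q₀ / ((2 ^ 1 : ℕ) : ℂ)) := by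
    have e1 := hQ₀ 1
    rw [pow_one, pow_one] at e1
    rw [e1, pow_one, Nat.cast_ofNat]
    refine memLocalRing_of_mul_unit hgring hgunit ?_
    rw [div_mul_eq_mul_div, hg, hmul]
    exact hloc
  obtain ⟨Q, hQ⟩ := exists_div_pow hM hzr Q₀ 1 hdiv
  let q : ℕ → ℂ := fun k => aeval (z ^ k) Q
  have hq : IsCyclo N q := ⟨Q, fun k => rfl⟩
  have hdiff : IsCyclo N fun k => aeval (z ^ k) (Q₀ - C (2 : ℤ) * Q) := ⟨_, fun k => rfl⟩
  have hval : ∀ k : ℕ, k.Coprime N → val n χ (v ^ k) = 2 * q k := by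
    intro k hk
    have h1 := hdiff.eq_int_of_coprime hN0 (m := 0) (by
      simp only [pow_one, map_sub, map_mul, hQ]
      simp [map_ofNat]) hk
    simp only [map_sub, map_mul, aeval_C, Int.cast_zero, sub_eq_zero] at h1
    rw [← hQ₀ k, h1]
    simp [q, map_ofNat]
  have hne : q 1 ≠ 0 := by
    intro h0
    refine AbelianRankCount.subEntry_self_ne_zero hM hx hind hdb hχ ?_
    have h1 := hval 1 (Nat.coprime_one_left N)
    rw [pow_one, h0, mul_zero] at h1
    rw [← hmul, h1, zero_mul]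
  calc (4 : ℝ) * Fintype.card (ZMod N)ˣ
      ≤ 4 * ∑ u : (ZMod N)ˣ, ‖q (u : ZMod N).val‖ ^ 2 :=
        mul_le_mul_of_nonneg_left (card_units_le_sum_sq hq hne) (by norm_num)
    _ = _ := by
        rw [Finset.mul_sum]
        refine Finset.sum_congr rfl fun u _ => ?_
        rw [hval _ (ZMod.val_coe_unit_coprime u), norm_mul, Complex.norm_ofNat]
        ring

theorem con_nonneg (v : P) (χ : IrrCharacter G) :
    0 ≤ (Contribution.con hM hmax hab v χ χ).re := by
  classical
  have : ∃ r : ℝ, 0 ≤ r ∧ Contribution.con hM hmax hab v χ χ = (r : ℂ) := by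
    rw [Contribution.con, Contribution.secPair]
    refine ⟨(Nat.card (Subgroup.centralizer ({(v : G)} : Set G)) : ℝ)⁻¹ *
      ∑ y : Subgroup.centralizer ({(v : G)} : Set G) with ¬ 2 ∣ orderOf y,
        ‖blockPart (blk hM hmax hab v.2)
          (fun c : Subgroup.centralizer ({(v : G)} : Set G) => (χ : G → ℂ) ((v : G) * (c : G))) y‖ ^ 2,
      by positivity, ?_⟩
    push_cast
    congr 1
    exact Finset.sum_congr rfl fun y _ => Complex.mul_conj' _
  obtain ⟨r, hr, he⟩ := this
  rw [he, Complex.ofReal_re]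
  exact hr

/-- **All heights are zero.** -/
theorem height_zero (hfree : ∀ t ∈ pairStab M P c, ∀ v : P, v ≠ 1 →
      t * (v : G) * t⁻¹ = v → t ∈ Subgroup.centralizer (P : Set G))
    {e : ℕ} (he : ∀ v : P, (orb M P c (v : G)).card ≤ e)
    (hbound : e * Nat.card P < 4 * (Nat.card P - 1)) {χ : IrrCharacter G} (hχ : χ ∈ B) :
    blockHeight 2 B (χ : G → ℂ) = 0 := by
  classical
  have := Fact.mk hM.1
  by_contra hpos
  have := Fintype.ofFinite (IrrCharacter G)
  have := Fintype.ofFinite (IrrCharacter P)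
  have := Fintype.ofFinite P
  rcases hi : blockDefect 2 B with _ | i
  · rw [hcard, hi] at hbound
    simp at hbound
  set N := 2 ^ (i + 1) with hN
  have hN0 : N ≠ 0 := pow_ne_zero _ two_ne_zero
  have : NeZero N := ⟨hN0⟩
  have hPN : Nat.card P = N := by rw [hcard, hi]
  let q : P → ℝ := fun v => ((Nat.card P : ℂ) * Contribution.con hM hmax hab v χ χ).re
  have hqnn : ∀ v, 0 ≤ q v := fun v => by
    have := con_nonneg hM hmax hab hcard v χ
    simp only [q, Complex.mul_re, Complex.natCast_re, Complex.natCast_im, zero_mul, sub_zero]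
    positivity
  have hlow : ∀ v : P, v ≠ 1 →
      (4 : ℝ) * Fintype.card (ZMod N)ˣ ≤ ∑ u : (ZMod N)ˣ, q (v ^ (u : ZMod N).val) := by
    intro v hv
    have := Fintype.ofFinite (Subgroup.centralizer ({(v : G)} : Set G))
    obtain ⟨n, hn⟩ := FreeExpansion.exists_expansion hM hmax hab (z := v)
      (fun t ht h => hfree t ht v hv h)
    refine (four_mul_card_le hM hmax hab hcard (n := n)
      (hn v (Subgroup.mem_zpowers _)) hi hχ hpos).trans (le_of_eq ?_)
    refine Finset.sum_congr rfl fun u _ => ?_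
    have hz : (v : G) ∈ Subgroup.zpowers ((v ^ (u : ZMod N).val : P) : G) := by
      rw [Subgroup.coe_pow]
      refine mem_zpowers_pow_iff.2 ?_
      rw [Subgroup.orderOf_coe]
      exact (ZMod.val_coe_unit_coprime u).coprime_dvd_right ((orderOf_dvd_natCard v).trans (dvd_of_eq hPN))
    simp only [q, hn _ hz χ χ]
    rw [← mul_assoc, mul_inv_cancel₀ (Nat.cast_ne_zero.2 Nat.card_pos.ne'), one_mul,
      Complex.mul_conj', ← Complex.ofReal_pow, Complex.ofReal_re]
    rfl
  have h1 : (4 : ℝ) * Fintype.card (ZMod N)ˣ * (Nat.card P - 1 : ℕ) ≤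
      Fintype.card (ZMod N)ˣ * ∑ v ∈ (Finset.univ : Finset P).erase 1, q v := by
    calc (4 : ℝ) * Fintype.card (ZMod N)ˣ * (Nat.card P - 1 : ℕ)
        = ∑ v ∈ (Finset.univ : Finset P).erase 1, (4 : ℝ) * Fintype.card (ZMod N)ˣ := by
          rw [Finset.sum_const, Finset.card_erase_of_mem (Finset.mem_univ _), Finset.card_univ,
            Nat.card_eq_fintype_card, nsmul_eq_mul]
          ring
      _ ≤ ∑ v ∈ (Finset.univ : Finset P).erase 1, ∑ u : (ZMod N)ˣ, q (v ^ (u : ZMod N).val) :=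
          Finset.sum_le_sum fun v hv => hlow v (Finset.mem_erase.1 hv).1
      _ = ∑ u : (ZMod N)ˣ, ∑ v ∈ (Finset.univ : Finset P).erase 1, q v := by
          rw [Finset.sum_comm]
          refine Finset.sum_congr rfl fun u _ => ?_
          have hco : (Nat.card P).Coprime (u : ZMod N).val := by
            rw [hPN]
            exact (ZMod.val_coe_unit_coprime u).symm
          refine Finset.sum_equiv (powCoprime hco) (fun v => ?_) fun v _ => rfl
          simp only [Finset.mem_erase, Finset.mem_univ, and_true]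
          exact not_congr ⟨fun h => by rw [h, powCoprime_apply, one_pow], fun h =>
            (powCoprime hco).injective (h.trans (by rw [powCoprime_apply, one_pow]))⟩
      _ = _ := by rw [Finset.sum_const, Finset.card_univ, nsmul_eq_mul]
  have hU : (0 : ℝ) < Fintype.card (ZMod N)ˣ := Nat.cast_pos.2 Fintype.card_pos
  have h2 : (4 : ℝ) * (Nat.card P - 1 : ℕ) ≤ ∑ v ∈ (Finset.univ : Finset P).erase 1, q v :=
    le_of_mul_le_mul_left (by linarith) hU
  have hsum := congrArg (fun r : ℂ => ((Nat.card P : ℂ) * r).re)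
    (Contribution.sum_con hM hmax hab hχ)
  simp only [mul_one, Complex.natCast_re, Finset.mul_sum, Complex.re_sum] at hsum
  have h3 : ∑ v : P, q v / (e : ℝ) ≤ (Nat.card P : ℝ) := by
    rw [← hsum]
    refine Finset.sum_le_sum fun v _ => ?_
    have ho : (0 : ℝ) < ((orb M P c (v : G)).card : ℝ) :=
      Nat.cast_pos.2 (Finset.card_pos.2 ⟨_, self_mem_orb _⟩)
    rw [← mul_div_assoc, Complex.div_natCast_re]
    exact div_le_div_of_nonneg_left (hqnn v) ho (Nat.cast_le.2 (he v))
  have he0 : (0 : ℝ) < (e : ℝ) :=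
    Nat.cast_pos.2 (lt_of_lt_of_le (Finset.card_pos.2 ⟨_, self_mem_orb _⟩) (he 1))
  rw [← Finset.sum_div, div_le_iff₀ he0] at h3
  have h4 : (4 : ℝ) * (Nat.card P - 1 : ℕ) ≤ (Nat.card P : ℝ) * e :=
    h2.trans ((Finset.sum_le_sum_of_subset_of_nonneg (Finset.erase_subset _ _)
      fun v _ _ => hqnn v).trans h3)
  have h5 : (((4 * (Nat.card P - 1)) : ℕ) : ℝ) ≤ ((e * Nat.card P : ℕ) : ℝ) := by
    push_cast
    linarith
  exact absurd (Nat.cast_le.1 h5) (not_le.2 hbound)

/-- **The values at an involution and the coefficient sums are odd.** -/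
theorem odd_value [Fintype (IrrCharacter P)] {z : P} (hz : z ^ 2 = 1)
    {n : IrrCharacter G → IrrCharacter P → ℤ}
    (hn : ∀ χ ξ : IrrCharacter G, Contribution.con hM hmax hab z χ ξ =
      (Nat.card P : ℂ)⁻¹ * (val n χ z * conj (val n ξ z))) {χ : IrrCharacter G} (hχ : χ ∈ B)
    (h0 : blockHeight 2 B (χ : G → ℂ) = 0) :
    ∃ a : ℤ, val n χ z = (a : ℂ) ∧ Odd a ∧ Odd (∑ ζ : IrrCharacter P, n χ ζ) := by
  classical
  have := Fact.mk hM.1
  have := Fintype.ofFinite (IrrCharacter G)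
  have := Fintype.ofFinite (Subgroup.centralizer ({(z : G)} : Set G))
  have hs : ∀ ζ : IrrCharacter P, ∃ s : ℤ, (ζ : P → ℂ) z = (s : ℂ) ∧ Odd s := by
    intro ζ
    have h : (ζ : P → ℂ) z ^ 2 = 1 := by
      rw [← irr_pow hM hmax hab hcard, hz]
      exact irr_one hab ζ
    rcases sq_eq_one_iff.1 h with h | h
    · exact ⟨1, by simpa using h, odd_one⟩
    · exact ⟨-1, by simpa using h, odd_one.neg⟩
  choose s hs hso using hs
  have hval : val n χ z = ((∑ ζ : IrrCharacter P, n χ ζ * s ζ : ℤ) : ℂ) := by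
    simp [val, hs]
  obtain ⟨j, hj⟩ := IsPGroup.iff_orderOf.1 hmax.1.1.1 z
  rw [← Subgroup.orderOf_coe] at hj
  have hu := not_memLocalIdeal_subEntry hM ⟨j, hj⟩ (blk_spec hM hmax hab z.2).1 hχ hχ h0 h0
  rw [← val_mul hM hmax hab hcard hn, hval, map_intCast, ← Int.cast_mul,
    ← div_one ((Int.cast _ : ℂ)), ← Nat.cast_one, memLocalIdeal_intCast_div_iff hM one_ne_zero] at hu
  rw [Nat.factorization_one, Finsupp.coe_zero, Pi.zero_apply, zero_add, pow_one, Nat.cast_ofNat, ← even_iff_two_dvd, Int.even_mul, or_self, Int.not_even_iff_odd] at hu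
  have hdiff : Even (∑ ζ : IrrCharacter P, n χ ζ * s ζ - ∑ ζ : IrrCharacter P, n χ ζ) := by
    rw [← Finset.sum_sub_distrib]
    refine Finset.even_sum _ fun ζ _ => ?_
    rw [← mul_sub_one, Int.even_mul]
    exact Or.inr ((hso ζ).sub_odd odd_one)
  exact ⟨_, hval, hu, (Int.even_sub'.1 hdiff).1 hu⟩

end CfsgLib.BlockA.FreeHeights
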