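import Cfsg.Agent.Lib.Char.Integral
import Cfsg.Agent.Lib.Char.LinearSum

/-!
Virtual characters with `p`-integral coefficients of a finite abelian group, and the signs that
turn a family of multiplicities on the subgroups into such a function.
-/

set_option autoImplicit false
set_option linter.unusedSectionVars false
set_option maxHeartbeats 1000000

namespace CfsgLib.BlockA.FreeSignAlg

open scoped ComplexConjugate

universe u

/-- The rationals with denominators prime to `p`. -/
def zp (p : ℕ) [hp : Fact p.Prime] : Subring ℚ where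
  carrier := {r | ¬ p ∣ r.den}
  zero_mem' := by simpa using hp.out.ne_one
  one_mem' := by simpa using hp.out.ne_one
  neg_mem' h := by simpa using h
  add_mem' {r s} hr hs h :=
    (hp.out.dvd_mul.1 (h.trans (Rat.add_den_dvd r s))).elim hr hs
  mul_mem' {r s} hr hs h :=
    (hp.out.dvd_mul.1 (h.trans (Rat.mul_den_dvd r s))).elim hr hs

variable {p : ℕ} [hp : Fact p.Prime]

theorem mem_zp {r : ℚ} : r ∈ zp p ↔ ¬ p ∣ r.den := Iff.rfl

theorem inv_mem_zp {r : ℚ} (h : ¬ (p : ℤ) ∣ r.num) : r⁻¹ ∈ zp p := by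
  rw [mem_zp, Rat.den_inv_of_ne_zero fun h0 => h (by simp [h0])]
  exact fun hd => h (Int.natCast_dvd.2 hd)

theorem not_dvd_num {r : ℚ} (hr : r ∈ zp p) (hr' : r⁻¹ ∈ zp p) (h0 : r ≠ 0) :
    ¬ (p : ℤ) ∣ r.num := by
  rw [mem_zp, Rat.den_inv_of_ne_zero h0] at hr'
  exact fun hd => hr' (Int.natCast_dvd.1 hd)

/-- A `p`-integral rational with a power of `p` clearing it is an integer. -/
theorem exists_int_of_mul_pow {r : ℚ} (hr : r ∈ zp p) {d : ℕ}
    (h : IsIntegral ℤ (((r * (p ^ d : ℕ) : ℚ)) : ℂ)) : ∃ z : ℤ, r = z := by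
  obtain ⟨z, hz⟩ := CfsgLib.Char.exists_int_of_isIntegral_rat h
  have h1 : r.den ∣ p ^ d := by
    have h2 : (r.num : ℤ) * (p ^ d : ℕ) = z * r.den := by
      have h3 := hz
      rw [← r.num_div_den, div_mul_eq_mul_div, div_eq_iff (by exact_mod_cast r.den_ne_zero)] at h3
      exact_mod_cast h3
    have h4 : (r.den : ℤ) ∣ (p ^ d : ℕ) := by
      refine Int.dvd_of_dvd_mul_right_of_gcd_one (b := r.num) ⟨z, by rw [h2]; ring⟩ ?_
      rw [Int.gcd_comm]
      exact r.reduced
    exact_mod_cast h4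
  obtain ⟨i, -, hi⟩ := (Nat.dvd_prime_pow hp.out).1 h1
  refine ⟨r.num, (Rat.den_eq_one_iff r).1 ?_ |>.symm⟩
  rcases Nat.eq_zero_or_pos i with rfl | hpos
  · simpa using hi
  · exact absurd (hi ▸ dvd_pow_self p hpos.ne') hr

variable {A : Type u} [CommGroup A] [Fintype A]

/-- The coefficient of a function at a linear character. -/
noncomputable def coef (f : A → ℂ) (η : A →* ℂˣ) : ℂ :=
  (Nat.card A : ℂ)⁻¹ * ∑ x : A, f x * ((η x)⁻¹ : ℂˣ)

variable [Fintype (A →* ℂˣ)]

theorem card_ne : (Nat.card A : ℂ) ≠ 0 := Nat.cast_ne_zero.2 Nat.card_pos.ne'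

open Classical in
theorem sum_apply (x : A) :
    ∑ η : A →* ℂˣ, (η x : ℂ) = if x = 1 then (Nat.card A : ℂ) else 0 := by
  rw [CfsgLib.Char.sum_linear_apply]
  have h1 : commutator A = ⊥ := by
    rw [commutator_eq_bot_iff_center_eq_top]
    exact CommGroup.center_eq_top
  simp [h1]

/-- **Inversion.** -/
theorem sum_coef (f : A → ℂ) (x : A) : ∑ η : A →* ℂˣ, coef f η * (η x : ℂ) = f x := by
  classical
  simp only [coef, mul_assoc, Finset.sum_mul]
  rw [← Finset.mul_sum, Finset.sum_comm,
    Finset.sum_congr rfl (g := fun y => f y * if y⁻¹ * x = 1 then (Nat.card A : ℂ) else 0)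
      fun y _ => by
        rw [← sum_apply, Finset.mul_sum]
        exact Finset.sum_congr rfl fun η _ => by rw [map_mul, map_inv, Units.val_mul],
    Finset.sum_eq_single x]
  · rw [inv_mul_cancel, if_pos rfl, mul_left_comm, inv_mul_cancel₀ card_ne, mul_one]
  · intro y _ hy
    rw [if_neg fun h => hy (inv_mul_eq_one.1 h), mul_zero]
  · exact fun h => absurd (Finset.mem_univ x) h

theorem sum_coef_one (f : A → ℂ) : ∑ η : A →* ℂˣ, coef f η = f 1 := by
  simpa using sum_coef f 1

open Classical in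
theorem coef_linear (μ η : A →* ℂˣ) :
    coef (fun x => (μ x : ℂ)) η = if μ = η then 1 else 0 := by
  have h : ∀ x : A, (μ x : ℂ) * ((η x)⁻¹ : ℂˣ) = ((μ * η⁻¹) x : ℂˣ) := fun x => by simp
  rw [coef, Finset.sum_congr rfl fun x _ => h x]
  have h2 := sum_hom_units ((Units.coeHom ℂ).comp (μ * η⁻¹))
  simp only [MonoidHom.comp_apply, Units.coeHom_apply] at h2
  rw [h2]
  by_cases he : μ = η
  · rw [if_pos he, if_pos (by subst he; ext x; simp)]
    rw [← Nat.card_eq_fintype_card, inv_mul_cancel₀ card_ne]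
  · rw [if_neg he, if_neg fun h3 => he ?_]
    · simp
    · refine MonoidHom.ext fun x => Units.ext ?_
      have h4 := DFunLike.congr_fun h3 x
      simp only [MonoidHom.comp_apply, Units.coeHom_apply, MonoidHom.mul_apply,
        MonoidHom.inv_apply, MonoidHom.one_apply, Units.val_mul] at h4
      rwa [Units.val_inv_eq_inv_val, mul_inv_eq_one₀ (Units.ne_zero _)] at h4

theorem coef_add (f g : A → ℂ) (η : A →* ℂˣ) :
    coef (fun x => f x + g x) η = coef f η + coef g η := by
  simp [coef, add_mul, Finset.sum_add_distrib, mul_add]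

theorem coef_smul (c : ℂ) (f : A → ℂ) (η : A →* ℂˣ) :
    coef (fun x => c * f x) η = c * coef f η := by
  simp only [coef, Finset.mul_sum]
  exact Finset.sum_congr rfl fun x _ => by ring

/-- **Products are convolutions.** -/
theorem coef_mul (f g : A → ℂ) (η : A →* ℂˣ) :
    coef (fun x => f x * g x) η = ∑ μ : A →* ℂˣ, coef f μ * coef g (η * μ⁻¹) := by
  conv_lhs => rw [coef]; simp only [← sum_coef f, Finset.sum_mul]
  rw [Finset.sum_comm, Finset.mul_sum]
  refine Finset.sum_congr rfl fun μ _ => ?_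
  rw [show coef g (η * μ⁻¹) = (Nat.card A : ℂ)⁻¹ *
    ∑ x : A, g x * (((η * μ⁻¹) x)⁻¹ : ℂˣ) from rfl, Finset.mul_sum, Finset.mul_sum, Finset.mul_sum]
  refine Finset.sum_congr rfl fun x _ => ?_
  simp only [MonoidHom.mul_apply, MonoidHom.inv_apply, mul_inv_rev, inv_inv, Units.val_mul]
  ring

open Classical in
/-- The functions with `p`-integral coefficients. -/
def InS (p : ℕ) [Fact p.Prime] (f : A → ℂ) : Prop :=
  ∀ η : A →* ℂˣ, ∃ r ∈ zp p, coef f η = ((r : ℚ) : ℂ)

theorem inS_const {r : ℚ} (hr : r ∈ zp p) : InS (A := A) p fun _ => (r : ℂ) := by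
  classical
  intro η
  have h : coef (fun _ : A => (r : ℂ)) η = (r : ℂ) * coef (fun x => ((1 : A →* ℂˣ) x : ℂ)) η := by
    rw [← coef_smul]
    simp
  rw [h, coef_linear]
  split_ifs
  · exact ⟨r, hr, by rw [mul_one]⟩
  · exact ⟨0, (zp p).zero_mem, by simp⟩

theorem InS.add {f g : A → ℂ} (hf : InS p f) (hg : InS p g) : InS p fun x => f x + g x :=
  fun η => by
    obtain ⟨r, hr, hr'⟩ := hf η
    obtain ⟨s, hs, hs'⟩ := hg η
    exact ⟨r + s, (zp p).add_mem hr hs, by rw [coef_add, hr', hs', Rat.cast_add]⟩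

theorem InS.mul {f g : A → ℂ} (hf : InS p f) (hg : InS p g) : InS p fun x => f x * g x := by
  intro η
  choose r hr hr' using hf
  choose s hs hs' using hg
  refine ⟨∑ μ, r μ * s (η * μ⁻¹), (zp p).sum_mem fun μ _ => (zp p).mul_mem (hr _) (hs _), ?_⟩
  rw [coef_mul, Rat.cast_sum]
  exact Finset.sum_congr rfl fun μ _ => by rw [hr', hs', Rat.cast_mul]

theorem inS_prod {ι : Type*} (s : Finset ι) (f : ι → A → ℂ) (h : ∀ i ∈ s, InS p (f i)) :
    InS p fun x => ∏ i ∈ s, f i x := by
  classical
  induction s using Finset.induction_on with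
  | empty =>
    simp only [Finset.prod_empty]
    simpa using inS_const (A := A) (zp p).one_mem
  | insert i s hi ih =>
    simp only [Finset.prod_insert hi]
    exact (h i (Finset.mem_insert_self i s)).mul
      (ih fun j hj => h j (Finset.mem_insert_of_mem hj))

open Classical in
theorem coef_ind (Q : Subgroup A) (η : A →* ℂˣ) :
    coef (fun x => if x ∈ Q then 1 else 0) η =
      if ∀ x ∈ Q, η x = 1 then (Q.index : ℂ)⁻¹ else 0 := by
  have hq : (Nat.card A : ℂ) = (Nat.card Q : ℂ) * Q.index := by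
    exact_mod_cast (Subgroup.card_mul_index _).symm
  have h1 : ∑ x : A, (if x ∈ Q then (1 : ℂ) else 0) * ((η x)⁻¹ : ℂˣ) =
      ∑ x : Q, ((η⁻¹).comp Q.subtype x : ℂ) := by
    simp only [ite_mul, one_mul, zero_mul, Finset.sum_ite, Finset.sum_const_zero, add_zero]
    exact Finset.sum_subtype _ (by simp) _
  have h2 := sum_hom_units ((Units.coeHom ℂ).comp ((η⁻¹).comp Q.subtype))
  rw [coef, h1]
  refine (congrArg _ h2).trans ?_
  by_cases h : ∀ x ∈ Q, η x = 1
  · rw [if_pos h, if_pos (MonoidHom.ext fun x => by simp [h _ x.2]), ← Nat.card_eq_fintype_card,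
      hq, mul_inv, mul_comm (Nat.card Q : ℂ)⁻¹, mul_assoc,
      inv_mul_cancel₀ (Nat.cast_ne_zero.2 Nat.card_pos.ne'), mul_one]
  · rw [if_neg h, if_neg fun h3 => h fun x hx => ?_]
    · simp
    · have h4 := DFunLike.congr_fun h3 ⟨x, hx⟩
      simpa using h4

/-- A multiple of the indicator of a subgroup. -/
theorem coef_mul_ind (f : A → ℂ) (hf : InS p f) (Q : Subgroup A) [DecidablePred (· ∈ Q)]
    (η : A →* ℂˣ) : ∃ r ∈ zp p,
      coef (fun x => f x * if x ∈ Q then 1 else 0) η = ((r / Q.index : ℚ) : ℂ) := by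
  classical
  choose c hc hc' using hf
  refine ⟨∑ μ : A →* ℂˣ, if ∀ x ∈ Q, (η * μ⁻¹) x = 1 then c μ else 0,
    (zp p).sum_mem fun μ _ => by split_ifs <;> [exact hc μ; exact (zp p).zero_mem], ?_⟩
  rw [coef_mul, Rat.cast_div, Rat.cast_sum, Finset.sum_div, Rat.cast_natCast]
  refine Finset.sum_congr rfl fun μ _ => ?_
  rw [show coef (fun x => if x ∈ Q then (1 : ℂ) else 0) (η * μ⁻¹) =
    if ∀ x ∈ Q, (η * μ⁻¹) x = 1 then (Q.index : ℂ)⁻¹ else 0 by convert coef_ind Q (η * μ⁻¹), hc']
  split_ifs <;> simp [div_eq_mul_inv]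

/-- A step function on a subgroup and its complement. -/
theorem inS_step (Q : Subgroup A) [DecidablePred (· ∈ Q)] {a s : ℚ} (hs : s ∈ zp p)
    (h : (a - s) / Q.index ∈ zp p) : InS p fun x => if x ∈ Q then (a : ℂ) else (s : ℂ) := by
  classical
  have he : (fun x : A => if x ∈ Q then (a : ℂ) else (s : ℂ)) =
      fun x => (s : ℂ) + ((a - s : ℚ) : ℂ) * if x ∈ Q then 1 else 0 := by
    funext x
    split_ifs <;> simp
  rw [he]
  refine (inS_const hs).add fun η => ?_
  rw [coef_smul, show coef (fun x => if x ∈ Q then (1 : ℂ) else 0) η =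
    if ∀ x ∈ Q, η x = 1 then (Q.index : ℂ)⁻¹ else 0 by convert coef_ind Q η]
  split_ifs
  · exact ⟨_, h, by simp [div_eq_mul_inv]⟩
  · exact ⟨0, (zp p).zero_mem, by simp⟩

/-- **Parseval** for rational coefficients. -/
theorem sum_sq_coef (f : A → ℂ) (c : (A →* ℂˣ) → ℚ) (hc : ∀ η, coef f η = (c η : ℂ)) :
    ∑ η, (c η : ℂ) * (c η : ℂ) = (Nat.card A : ℂ)⁻¹ * ∑ x, f x * conj (f x) := by
  calc ∑ η, (c η : ℂ) * (c η : ℂ) = ∑ η, coef f η * conj (coef f η) :=
        Finset.sum_congr rfl fun η _ => by rw [hc, map_ratCast]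
    _ = (Nat.card A : ℂ)⁻¹ * ∑ x, conj (f x) * ∑ η, coef f η * (η x : ℂ) := by
        simp only [Finset.mul_sum]
        rw [Finset.sum_comm]
        refine Finset.sum_congr rfl fun η _ => ?_
        conv_lhs => arg 2; rw [coef, map_mul, map_sum, map_inv₀, Complex.conj_natCast]
        simp only [Finset.mul_sum]
        refine Finset.sum_congr rfl fun x _ => ?_
        rw [map_mul, ← MonoidHom.inv_apply, CfsgLib.Char.conj_linear_apply η⁻¹ x]
        simp only [inv_inv, MonoidHom.inv_apply]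
        ring
    _ = _ := by simp only [sum_coef, mul_comm]

/-- **The sign of a step.** -/
theorem exists_sign_of_step (hA : IsPGroup p A) (Q : Subgroup A) [DecidablePred (· ∈ Q)]
    {g : A → ℂ} (hgi : ∀ x, IsIntegral ℤ (g x)) (hg : ∀ x, g x * conj (g x) = 1) {h : ℚ}
    (hh : h ∈ zp p) (hf : InS p fun x => g x * if x ∈ Q then (h : ℂ) else 1)
    (hn : Q.index ≠ 1) :
    h ≠ 0 ∧ h⁻¹ ∈ zp p ∧ ((h - 1) / Q.index ∈ zp p ∨ (h + 1) / Q.index ∈ zp p) := by
  set n := Q.index
  obtain ⟨k, hk⟩ : ∃ k, n = p ^ k := hA.index Q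
  have hpn : p ∣ n := by
    rcases Nat.eq_zero_or_pos k with rfl | hk0
    · exact absurd (by simpa using hk) hn
    · exact hk ▸ dvd_pow_self p hk0.ne'
  have hn0 : (n : ℚ) ≠ 0 := Nat.cast_ne_zero.2 Subgroup.index_ne_zero_of_finite
  have hq : (Nat.card A : ℂ) = (Nat.card Q : ℂ) * n := by
    exact_mod_cast (Subgroup.card_mul_index _).symm
  have key : ∀ r : ℚ, (Nat.card A : ℂ)⁻¹ * ∑ x : A, (g x * if x ∈ Q then (r : ℂ) else 1) *
      conj (g x * if x ∈ Q then (r : ℂ) else 1) = ((1 + (r * r - 1) / n : ℚ) : ℂ) := by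
    intro r
    have h1 : ∀ x : A, (g x * if x ∈ Q then (r : ℂ) else 1) *
        conj (g x * if x ∈ Q then (r : ℂ) else 1) =
          1 + if x ∈ Q then ((r * r - 1 : ℚ) : ℂ) else 0 := by
      intro x
      rw [map_mul, mul_mul_mul_comm, hg, one_mul]
      split_ifs <;> simp
    rw [Finset.sum_congr rfl fun x _ => h1 x, Finset.sum_add_distrib, ← Finset.sum_filter,
      Finset.sum_const, Finset.sum_const, nsmul_eq_mul, nsmul_eq_mul, mul_one,
      Finset.card_univ, ← Nat.card_eq_fintype_card,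
      show (Finset.univ.filter (· ∈ Q)).card = Nat.card Q by
        rw [Nat.card_eq_fintype_card, Fintype.card_subtype], hq]
    have hQ0 : (Nat.card Q : ℂ) ≠ 0 := Nat.cast_ne_zero.2 Nat.card_pos.ne'
    have hn' : (n : ℂ) ≠ 0 := by exact_mod_cast hn0
    push_cast
    field_simp
  choose c hc hc' using hf
  have hsq : ∑ η, c η * c η = 1 + (h * h - 1) / n :=
    Rat.cast_injective (α := ℂ) (by push_cast; rw [sum_sq_coef _ c hc', key]; push_cast; ring)
  have hdiv : (h * h - 1) / n ∈ zp p := by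
    rw [show (h * h - 1) / n = (∑ η, c η * c η) - 1 by rw [hsq]; ring]
    exact (zp p).sub_mem ((zp p).sum_mem fun η _ => (zp p).mul_mem (hc η) (hc η)) (zp p).one_mem
  -- the unit
  have hnum : ¬ (p : ℤ) ∣ h.num := by
    intro hd
    have h1 : ((h.num : ℚ) * h.num - h.den * h.den) / n ∈ zp p := by
      have h2 := (zp p).mul_mem hdiv ((zp p).mul_mem (natCast_mem (zp p) h.den)
        (natCast_mem (zp p) h.den))
      convert h2 using 1
      rw [← Rat.mul_den_eq_num h]
      field_simp
    obtain ⟨z, hz⟩ := exists_int_of_mul_pow h1 (d := k) (by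
      rw [← hk, div_mul_cancel₀ _ hn0]
      simpa using (isIntegral_algebraMap (R := ℤ) (A := ℂ)
        (x := h.num * h.num - h.den * h.den)))
    have h3 : h.num * h.num - (h.den * h.den : ℤ) = z * n := by
      rw [div_eq_iff hn0] at hz
      exact_mod_cast hz
    have h4 : (p : ℤ) ∣ (h.den * h.den : ℤ) := by
      rw [show (h.den * h.den : ℤ) = h.num * h.num - z * n by rw [← h3]; ring]
      exact dvd_sub (dvd_mul_of_dvd_left hd _) (dvd_mul_of_dvd_right (Int.natCast_dvd_natCast.2 hpn) _)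
    rcases Int.Prime.dvd_mul' hp.out h4 with h5 | h5 <;>
      exact hh (Int.natCast_dvd_natCast.1 h5)
  have hh0 : h ≠ 0 := fun h0 => hnum (by simp [h0])
  have hinv := inv_mem_zp hnum
  refine ⟨hh0, hinv, ?_⟩
  -- an integer close to `h`
  obtain ⟨t, ht, htn⟩ : ∃ t : ℤ, ((t : ℚ) - h) / n ∈ zp p ∧ 2 * |t| ≤ n := by
    have hcop : IsCoprime (h.den : ℤ) (n : ℤ) := by
      rw [hk, Nat.cast_pow]
      exact (Int.isCoprime_iff_nat_coprime.2 (by
        simpa using (hp.out.coprime_iff_not_dvd.2 hh).symm)).pow_right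
    obtain ⟨x, y, hxy⟩ := hcop
    refine ⟨Int.bmod (h.num * x) n, ?_, ?_⟩
    · obtain ⟨z, hz⟩ : ∃ z : ℤ, Int.bmod (h.num * x) n = h.num * x + z * n := by
        obtain ⟨z, hz⟩ := Int.dvd_bmod_sub_self (x := h.num * x) (m := n)
        exact ⟨z, by rw [mul_comm z]; linarith⟩
      rw [hz]
      have : ((((h.num * x + z * n : ℤ) : ℚ)) - h) / n = z - h * y := by
        have hxy' : (x : ℚ) * h.den + (y : ℚ) * n = 1 := by exact_mod_cast hxy
        conv_lhs => arg 1; arg 2; rw [← mul_one h, ← hxy']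
        push_cast
        rw [show h * ((x : ℚ) * h.den + y * n) = x * (h * h.den) + h * y * n by ring,
          Rat.mul_den_eq_num]
        field_simp
        ring
      rw [this]
      exact (zp p).sub_mem (intCast_mem _ z) ((zp p).mul_mem hh (intCast_mem _ y))
    · have hnpos : 0 < n := Nat.pos_of_ne_zero Subgroup.index_ne_zero_of_finite
      have := Int.bmod_lt (x := h.num * x) hnpos
      have := Int.le_bmod (x := h.num * x) hnpos
      rcases abs_cases (Int.bmod (h.num * x) n) with ⟨e, -⟩ | ⟨e, -⟩ <;> rw [e] <;> omega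
  -- the integral coefficients
  set f' : A → ℂ := fun x => g x * if x ∈ Q then ((t : ℚ) : ℂ) else 1 with hf'
  have hc'' : ∀ η, ∃ z : ℤ, coef f' η = ((z : ℚ) : ℂ) := by
    intro η
    obtain ⟨r, hr, hr'⟩ := coef_mul_ind _ (fun η => ⟨c η, hc η, hc' η⟩) Q η
    have he : f' = fun x => (g x * if x ∈ Q then (h : ℂ) else 1) +
        ((((t : ℚ) - h) / h : ℚ) : ℂ) *
          ((g x * if x ∈ Q then (h : ℂ) else 1) * if x ∈ Q then 1 else 0) := by
      funext x
      have hC : (h : ℂ) ≠ 0 := by exact_mod_cast hh0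
      rw [hf']
      simp only
      split_ifs
      · push_cast
        field_simp
        ring
      · simp
    have hco : coef f' η = ((c η + ((t : ℚ) - h) / n * r * h⁻¹ : ℚ) : ℂ) := by
      rw [he, coef_add, coef_smul, hc', hr']
      push_cast
      ring
    obtain ⟨z, hz⟩ := exists_int_of_mul_pow (r := c η + ((t : ℚ) - h) / n * r * h⁻¹)
      ((zp p).add_mem (hc η) ((zp p).mul_mem ((zp p).mul_mem ht hr) hinv))
      (d := (IsPGroup.iff_card.1 hA).choose) (by
        rw [Rat.cast_mul, ← hco, Rat.cast_natCast, ← (IsPGroup.iff_card.1 hA).choose_spec,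
          coef, mul_comm, ← mul_assoc, mul_inv_cancel₀ card_ne, one_mul]
        refine IsIntegral.sum _ fun x _ => (IsIntegral.mul ?_ ?_).mul ?_
        · exact hgi x
        · split_ifs
          · simpa using (isIntegral_algebraMap (R := ℤ) (A := ℂ) (x := t))
          · exact isIntegral_one
        · refine IsIntegral.of_pow (orderOf_pos x) ?_
          rw [← Units.val_pow_eq_pow_val, inv_pow, ← map_pow, pow_orderOf_eq_one, map_one,
            inv_one, Units.val_one]
          exact isIntegral_one)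
    exact ⟨z, by rw [hco, hz]⟩
  choose z hz using hc''
  have hN : ∑ η, (z η : ℚ) * z η = 1 + ((t : ℚ) * t - 1) / n :=
    Rat.cast_injective (α := ℂ) (by
      rw [Rat.cast_sum]
      simp only [Rat.cast_mul]
      rw [sum_sq_coef f' (fun η => (z η : ℚ)) hz]
      exact key t)
  have hNn : (∑ η, z η * z η) * (n : ℤ) = (n : ℤ) + (t * t - 1) := by
    have h2 : ((∑ η, (z η : ℚ) * z η) * n) = n + ((t : ℚ) * t - 1) := by
      rw [hN]; field_simp
    exact_mod_cast h2
  have hle : |t| ≤ ∑ η, z η * z η := by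
    have h1 : g 1 * ((t : ℚ) : ℂ) = ((∑ η, (z η : ℚ) : ℚ) : ℂ) := by
      have h := sum_coef_one f'
      simp only [hf', one_mem, if_true] at h
      rw [← h, Rat.cast_sum]
      exact Finset.sum_congr rfl fun η _ => hz η
    have h2 : ((t * t : ℤ) : ℂ) = (((∑ η, z η) * ∑ η, z η : ℤ) : ℂ) := by
      have h3 := congrArg (fun w => w * conj w) h1
      simp only [map_mul, map_ratCast] at h3
      rw [mul_mul_mul_comm, hg, one_mul] at h3
      exact_mod_cast h3
    have h4 : t * t = (∑ η, z η) * ∑ η, z η := by exact_mod_cast h2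
    rw [abs_eq_iff_mul_self_eq.2 h4]
    refine (Finset.abs_sum_le_sum_abs _ _).trans (Finset.sum_le_sum fun η _ => ?_)
    rw [← abs_mul_abs_self (z η)]
    rcases (abs_nonneg (z η)).eq_or_lt with e | e
    · rw [← e]; simp
    · exact le_mul_of_one_le_left e.le e
  have hn2 : (2 : ℤ) ≤ n := by
    exact_mod_cast hp.out.two_le.trans (Nat.le_of_dvd
      (Nat.pos_of_ne_zero Subgroup.index_ne_zero_of_finite) hpn)
  have habs : |t| = 1 := by
    have ht2 : t * t = |t| * |t| := (abs_mul_abs_self t).symm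
    rw [ht2] at hNn
    have hpos := abs_nonneg t
    have hmul := mul_le_mul_of_nonneg_right hle (le_of_lt (lt_of_lt_of_le two_pos hn2))
    rw [hNn] at hmul
    by_contra hne
    rcases lt_or_gt_of_ne hne with hlt | hgt
    · have h0 : |t| = 0 := by omega
      rw [h0] at hNn
      have h5 : (∑ η, z η * z η - 1) * (n : ℤ) = -1 := by linarith
      have h6 : (n : ℤ) ∣ 1 := ⟨-(∑ η, z η * z η - 1), by linarith⟩
      have := Int.le_of_dvd one_pos h6
      omega
    · nlinarith
  rcases (abs_eq zero_le_one).1 habs with rfl | rfl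
  · left
    have := (zp p).neg_mem ht
    convert this using 1
    push_cast
    ring
  · right
    have := (zp p).neg_mem ht
    convert this using 1
    push_cast
    ring

/-- The multiplicities with their witnesses. -/
def IsLevel (m : Subgroup A → ℕ) (p : ℕ) [Fact p.Prime] (Q : Subgroup A) : Prop :=
  ∃ U g : A → ℂ, InS p U ∧ (∀ x, IsIntegral ℤ (g x)) ∧ (∀ x, g x * conj (g x) = 1) ∧
    ∀ x, U x = g x * (m (Q ⊔ Subgroup.zpowers x) : ℂ)

section Inversion

variable (m : Subgroup A → ℕ)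

open Classical in
/-- The factors of the inverse of `m`. -/
noncomputable def fac : Subgroup A → ℚ :=
  (wellFounded_gt (α := Subgroup A)).fix fun Q ih =>
    ((m Q : ℚ) * ∏ R ∈ (Finset.univ.filter (Q < ·)).attach,
      ih R.1 (Finset.mem_filter.1 R.2).2)⁻¹

open Classical in
theorem fac_eq (Q : Subgroup A) :
    fac m Q = ((m Q : ℚ) * ∏ R ∈ Finset.univ.filter (Q < ·), fac m R)⁻¹ := by
  conv_lhs => rw [fac, WellFounded.fix_eq]
  rw [← Finset.prod_attach _ (fac m)]
  rfl

open Classical in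
theorem fac_equiv (φ : A ≃* A) (hφ : ∀ Q : Subgroup A, m (Q.map φ.toMonoidHom) = m Q)
    (Q : Subgroup A) : fac m (Q.map φ.toMonoidHom) = fac m Q := by
  induction Q using (wellFounded_gt (α := Subgroup A)).induction with
  | _ Q ih =>
    rw [fac_eq, fac_eq m Q, hφ]
    congr 2
    let e : Subgroup A ≃o Subgroup A := φ.mapSubgroup
    refine (Finset.prod_equiv e.toEquiv (fun R => ?_) fun R hR => (ih R ?_).symm).symm
    · simp only [Finset.mem_filter, Finset.mem_univ, true_and]
      exact e.lt_iff_lt.symm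
    · exact (Finset.mem_filter.1 hR).2

open Classical in
/-- The sign next to a factor. -/
noncomputable def sgn (p : ℕ) [Fact p.Prime] (Q : Subgroup A) : ℚ :=
  if (fac m Q - 1) / Q.index ∈ zp p then 1 else -1

open Classical in
/-- The step function at a subgroup. -/
noncomputable def step (p : ℕ) [Fact p.Prime] (Q : Subgroup A) (x : A) : ℂ :=
  if x ∈ Q then (fac m Q : ℂ) else (sgn m p Q : ℂ)

open Classical in
theorem prod_step (S : Finset (Subgroup A)) (x : A) :
    ∏ Q ∈ S, step m p Q x = (∏ Q ∈ S.filter (x ∈ ·), (fac m Q : ℂ)) *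
      ∏ Q ∈ S.filter (¬ x ∈ ·), (sgn m p Q : ℂ) := by
  rw [← Finset.prod_filter_mul_prod_filter_not S (x ∈ ·)]
  congr 1
  · exact Finset.prod_congr rfl fun Q hQ => if_pos (Finset.mem_filter.1 hQ).2
  · exact Finset.prod_congr rfl fun Q hQ => if_neg (Finset.mem_filter.1 hQ).2

open Classical in
theorem prod_ge (R : Subgroup A) (h : fac m R ≠ 0) :
    (m R : ℚ) * ∏ Q ∈ Finset.univ.filter (R ≤ ·), fac m Q = 1 := by
  have hs : Finset.univ.filter (R ≤ ·) = insert R (Finset.univ.filter (R < ·)) := by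
    ext Q
    simp [le_iff_eq_or_lt, eq_comm]
  rw [hs, Finset.prod_insert (by simp), mul_left_comm, fac_eq m R]
  rw [fac_eq m R] at h
  exact inv_mul_cancel₀ fun e => h (by rw [e, inv_zero])

theorem sgn_cases (Q : Subgroup A) : sgn m p Q = 1 ∨ sgn m p Q = -1 := by
  unfold sgn
  split_ifs <;> simp

/-- What the induction establishes at one subgroup. -/
def Good (p : ℕ) [Fact p.Prime] (Q : Subgroup A) : Prop :=
  fac m Q ≠ 0 ∧ fac m Q ∈ zp p ∧ (fac m Q)⁻¹ ∈ zp p ∧ (fac m Q - sgn m p Q) / Q.index ∈ zp p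

variable {m}

theorem good_inS {Q : Subgroup A} (h : Good m p Q) : InS p (step m p Q) := by
  classical
  refine inS_step Q ?_ h.2.2.2
  rcases sgn_cases (p := p) m Q with e | e <;> rw [e] <;> simp [(zp p).one_mem]

open Classical in
theorem good_of_levels (hA : IsPGroup p A) (htop : ¬ p ∣ m ⊤)
    (hlev : ∀ Q : Subgroup A, Q ≠ ⊥ → Q ≠ ⊤ → IsLevel m p Q) :
    ∀ Q : Subgroup A, Q ≠ ⊥ ∨ Q = ⊤ → Good m p Q := by
  intro Q
  induction Q using (wellFounded_gt (α := Subgroup A)).induction with
  | _ Q ih =>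
    intro hQ
    by_cases hQt : Q = ⊤
    · have he : fac m Q = ((m ⊤ : ℚ))⁻¹ := by
        rw [fac_eq, hQt, Finset.filter_false_of_mem (fun R _ => not_lt_of_ge le_top),
          Finset.prod_empty, mul_one]
      have h0 : (m ⊤ : ℚ) ≠ 0 := Nat.cast_ne_zero.2 fun h => htop (h ▸ dvd_zero p)
      have h1 : fac m Q ∈ zp p := he ▸ inv_mem_zp (by simpa [Int.natCast_dvd_natCast] using htop)
      refine ⟨he ▸ inv_ne_zero h0, h1, by rw [he, inv_inv]; exact natCast_mem _ _, ?_⟩
      rw [hQt, Subgroup.index_top, Nat.cast_one, div_one]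
      rw [hQt] at h1
      rcases sgn_cases (p := p) m ⊤ with e | e <;> rw [e]
      · exact (zp p).sub_mem h1 (zp p).one_mem
      · exact (zp p).sub_mem h1 ((zp p).neg_mem (zp p).one_mem)
    · have hQb := hQ.resolve_right hQt
      set S := Finset.univ.filter (Q < ·) with hS
      have hgood : ∀ R ∈ S, Good m p R := fun R hR => by
        have hlt := (Finset.mem_filter.1 hR).2
        exact ih R hlt (Or.inl (ne_bot_of_gt hlt))
      obtain ⟨U, g, hU, hgi, hg, hUg⟩ := hlev Q hQb hQt
      set h : ℚ := (m Q : ℚ) * ∏ R ∈ S, fac m R with hh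
      set sg : A → ℚ := fun x => if x ∈ Q then 1 else ∏ R ∈ S.filter (¬ x ∈ ·), sgn m p R
        with hsg
      have hsg1 : ∀ x, sg x * sg x = 1 := fun x => by
        simp only [hsg]
        split_ifs
        · norm_num
        · rw [← Finset.prod_mul_distrib]
          refine Finset.prod_eq_one fun R _ => ?_
          rcases sgn_cases (p := p) m R with e | e <;> rw [e] <;> norm_num
      have hf : InS p fun x => g x * (sg x : ℂ) * if x ∈ Q then (h : ℂ) else 1 := by
        have h1 := hU.mul (inS_prod S (step m p) fun R hR => good_inS (hgood R hR))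
        convert h1 using 1
        funext x
        rw [hUg, prod_step]
        by_cases hx : x ∈ Q
        · have e1 : Q ⊔ Subgroup.zpowers x = Q := sup_eq_left.2 (Subgroup.zpowers_le.2 hx)
          have e2 : S.filter (x ∈ ·) = S := Finset.filter_true_of_mem fun R hR =>
            (Finset.mem_filter.1 hR).2.le hx
          have e3 : S.filter (¬ x ∈ ·) = ∅ := Finset.filter_false_of_mem fun R hR h =>
            h ((Finset.mem_filter.1 hR).2.le hx)
          rw [e1, e2, e3, if_pos hx, Finset.prod_empty, hh, hsg]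
          simp only [if_pos hx]
          push_cast
          ring
        · set R := Q ⊔ Subgroup.zpowers x
          have hxR : x ∈ R := Subgroup.mem_sup_right (Subgroup.mem_zpowers x)
          have hQR : Q < R := lt_of_le_of_ne le_sup_left fun e => hx (e ▸ hxR)
          have e2 : S.filter (x ∈ ·) = Finset.univ.filter (R ≤ ·) := by
            ext T
            simp only [hS, Finset.mem_filter, Finset.mem_univ, true_and]
            exact ⟨fun hT => sup_le hT.1.le (Subgroup.zpowers_le.2 hT.2),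
              fun hT => ⟨hQR.trans_le hT, hT hxR⟩⟩
          have hR := hgood R (Finset.mem_filter.2 ⟨Finset.mem_univ _, hQR⟩)
          have e4 : (m R : ℂ) * ∏ T ∈ Finset.univ.filter (R ≤ ·), (fac m T : ℂ) = 1 := by
            exact_mod_cast prod_ge m R hR.1
          rw [e2, if_neg hx, hsg]
          simp only [if_neg hx]
          push_cast
          linear_combination -(g x * ∏ T ∈ S.filter (¬ x ∈ ·), (sgn m p T : ℂ)) * e4
      have hgi' : ∀ x, IsIntegral ℤ (g x * (sg x : ℂ)) := fun x => by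
        refine (hgi x).mul ?_
        rcases mul_self_eq_one_iff.1 (hsg1 x) with e | e <;> rw [e] <;> simp [isIntegral_one]
      have hg' : ∀ x, g x * (sg x : ℂ) * conj (g x * (sg x : ℂ)) = 1 := fun x => by
        rw [map_mul, map_ratCast, mul_mul_mul_comm, hg, one_mul]
        exact_mod_cast hsg1 x
      have hhp : h ∈ zp p := (zp p).mul_mem (natCast_mem _ _)
        ((zp p).prod_mem fun R hR => (hgood R hR).2.1)
      obtain ⟨h0, hinv, hcase⟩ := exists_sign_of_step hA Q hgi' hg' hhp hf
        (fun e => hQt (Subgroup.index_eq_one.1 e))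
      have he : fac m Q = h⁻¹ := fac_eq m Q
      refine ⟨he ▸ inv_ne_zero h0, he ▸ hinv, by rw [he, inv_inv]; exact hhp, ?_⟩
      unfold sgn
      split_ifs with h1
      · exact h1
      · rw [he] at h1 ⊢
        rcases hcase with h2 | h2
        · refine absurd ?_ h1
          have h3 := (zp p).neg_mem ((zp p).mul_mem hinv h2)
          convert h3 using 1
          field_simp
          ring
        · have h3 := (zp p).mul_mem hinv h2
          convert h3 using 1
          field_simp
          ring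

open Classical in
/-- **The inverse of the multiplicities up to signs.** -/
theorem exists_signs (hA : IsPGroup p A) (htop : ¬ p ∣ m ⊤)
    (hlev : ∀ Q : Subgroup A, Q ≠ ⊥ → Q ≠ ⊤ → IsLevel m p Q) :
    ∃ F : A → ℂ, InS p F ∧
      (∀ x : A, x ≠ 1 → F x * (m (Subgroup.zpowers x) : ℂ) = 1 ∨
        F x * (m (Subgroup.zpowers x) : ℂ) = -1) ∧
      ∀ φ : A ≃* A, (∀ Q : Subgroup A, m (Q.map φ.toMonoidHom) = m Q) → ∀ x, F (φ x) = F x := by
  set S := (Finset.univ : Finset (Subgroup A)).filter (· ≠ ⊥) with hS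
  have hgood : ∀ Q ∈ S, Good m p Q := fun Q hQ =>
    good_of_levels hA htop hlev Q (Or.inl (Finset.mem_filter.1 hQ).2)
  refine ⟨fun x => ∏ Q ∈ S, step m p Q x, inS_prod S _ fun Q hQ => good_inS (hgood Q hQ),
    fun x hx => ?_, fun φ hφ x => ?_⟩
  · simp only [prod_step]
    have e1 : S.filter (x ∈ ·) = Finset.univ.filter (Subgroup.zpowers x ≤ ·) := by
      ext T
      simp only [hS, Finset.mem_filter, Finset.mem_univ, true_and, Subgroup.zpowers_le]
      refine ⟨fun h => h.2, fun h => ⟨fun e => hx ?_, h⟩⟩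
      rw [e, Subgroup.mem_bot] at h
      exact h
    have hR : fac m (Subgroup.zpowers x) ≠ 0 := (hgood _ (Finset.mem_filter.2
      ⟨Finset.mem_univ _, by simpa using hx⟩)).1
    have e4 : (m (Subgroup.zpowers x) : ℂ) *
        ∏ T ∈ Finset.univ.filter (Subgroup.zpowers x ≤ ·), (fac m T : ℂ) = 1 := by
      exact_mod_cast prod_ge m _ hR
    rw [e1, mul_right_comm, mul_comm (∏ T ∈ _, (fac m T : ℂ)), e4, one_mul]
    refine mul_self_eq_one_iff.1 ?_
    rw [← Finset.prod_mul_distrib]
    refine Finset.prod_eq_one fun R _ => ?_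
    rcases sgn_cases (p := p) m R with e | e <;> rw [e] <;> simp
  · let e : Subgroup A ≃o Subgroup A := φ.mapSubgroup
    refine (Finset.prod_equiv e.toEquiv (fun R => ?_) fun R _ => ?_).symm
    · simp only [hS, Finset.mem_filter, Finset.mem_univ, true_and, ne_eq]
      exact not_congr ((map_eq_bot_iff e).symm)
    · have h1 : fac m (e R) = fac m R := fac_equiv m φ hφ R
      have h2 : sgn m p (e R) = sgn m p R := by
        unfold sgn
        rw [h1, show (e R).index = R.index from Subgroup.index_map_equiv R φ]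
      have h3 : φ x ∈ e R ↔ x ∈ R := Subgroup.mem_map_iff_mem φ.injective
      unfold step
      simp only [RelIso.coe_fn_toEquiv, h1, h2, h3]

end Inversion

end CfsgLib.BlockA.FreeSignAlg
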