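import Mathlib

/-!
Integral rows whose columns have norm `e + 1` and mutual products `e`.
-/

set_option autoImplicit false

namespace CfsgLib.BlockA.FreeSignCount

open Finset

variable {ι ρ : Type*} [Fintype ι] [Fintype ρ] [DecidableEq ι]

/-- The form with minimum `|ι|` on nonzero integral vectors. -/
theorem card_le_form (z : ι → ℤ) (hz : ∃ i, z i ≠ 0) :
    (Fintype.card ι : ℤ) ≤ ((Fintype.card ι : ℤ) + 1) * (∑ i, z i * z i) -
      (∑ i, z i) * ∑ i, z i := by
  classical
  obtain ⟨i₀, h₀⟩ := hz
  have hexp : ∑ i, ∑ j, (z i - z j) * (z i - z j) =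
      2 * ((Fintype.card ι : ℤ) * (∑ i, z i * z i) - (∑ i, z i) * ∑ i, z i) := by
    have h : ∀ i j, (z i - z j) * (z i - z j) = z i * z i + z j * z j - 2 * (z i * z j) :=
      fun i j => by ring
    simp only [h, sum_sub_distrib, sum_add_distrib, sum_const, card_univ, nsmul_eq_mul,
      ← mul_sum, ← sum_mul]
    ring
  have hlow : 2 * ∑ j, (z i₀ - z j) * (z i₀ - z j) ≤ ∑ i, ∑ j, (z i - z j) * (z i - z j) := by
    rw [← add_sum_erase univ (fun i => ∑ j, (z i - z j) * (z i - z j)) (mem_univ i₀), two_mul]
    refine add_le_add le_rfl ?_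
    rw [← add_sum_erase univ (fun j => (z i₀ - z j) * (z i₀ - z j)) (mem_univ i₀)]
    simp only [sub_self, mul_zero, zero_add]
    refine sum_le_sum fun i _ => ?_
    have h := single_le_sum (f := fun j => (z i - z j) * (z i - z j))
      (fun j _ => mul_self_nonneg (z i - z j)) (mem_univ i₀)
    linarith [show (z i₀ - z i) * (z i₀ - z i) = (z i - z i₀) * (z i - z i₀) by ring]
  have hone : (Fintype.card ι : ℤ) ≤ ∑ j, (z j * z j + (z i₀ - z j) * (z i₀ - z j)) := by
    refine le_trans (le_of_eq (by simp)) (sum_le_sum (f := fun _ => (1 : ℤ)) fun j _ => ?_)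
    by_cases hj : z j = 0
    · rw [hj]
      have := Int.one_le_abs h₀
      nlinarith [abs_mul_abs_self (z i₀)]
    · have := Int.one_le_abs hj
      nlinarith [abs_mul_abs_self (z j), mul_self_nonneg (z i₀ - z j)]
  rw [sum_add_distrib] at hone
  nlinarith

variable (x : ι → ρ → ℤ) (e : ℕ)
  (hgram : ∀ i j, ∑ r, x i r * x j r = (e : ℤ) + if i = j then 1 else 0)
  (hrow : ∀ r, ∃ i, x i r ≠ 0)
include hgram hrow

/-- **The bound on the number of rows.** -/
theorem card_rows_le (hι : 0 < Fintype.card ι) :
    Fintype.card ρ ≤ Fintype.card ι + e := by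
  set m : ℤ := (Fintype.card ι : ℤ) with hm
  have h1 : ∑ r, ((m + 1) * (∑ i, x i r * x i r) - (∑ i, x i r) * ∑ i, x i r) =
      m * (m + e) := by
    have h2 : ∑ r, (∑ i, x i r) * ∑ i, x i r = m * m * e + m := by
      simp only [Finset.sum_mul_sum]
      rw [sum_comm, sum_congr rfl fun i _ => sum_comm, sum_congr rfl fun i _ =>
        sum_congr rfl fun j _ => hgram i j]
      simp [sum_add_distrib, hm]
      ring
    have h3 : ∑ r, ∑ i, x i r * x i r = m * ((e : ℤ) + 1) := by
      rw [sum_comm, sum_congr rfl fun i _ => hgram i i]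
      simp [hm]
    rw [sum_sub_distrib, ← mul_sum, h2, h3]
    ring
  have h4 : (Fintype.card ρ : ℤ) * m ≤ m * (m + e) := by
    rw [← h1]
    calc (Fintype.card ρ : ℤ) * m = ∑ _r : ρ, m := by simp
      _ ≤ _ := sum_le_sum fun r _ => card_le_form (fun i => x i r) (hrow r)
  have h5 : (Fintype.card ρ : ℤ) ≤ m + e := by
    have : (0 : ℤ) < m := by rw [hm]; exact_mod_cast hι
    nlinarith
  rw [hm] at h5
  exact_mod_cast h5

/-- **Few inertial elements.** -/
theorem card_rows_eq (hι : 0 < Fintype.card ι) (he : e ≤ 3)
    (hk : Fintype.card ι + 1 ≤ Fintype.card ρ) :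
    Fintype.card ρ = Fintype.card ι + e ∨
      (Fintype.card ρ = e + 2 ∧ Fintype.card ι ≤ e + 1 ∧ 3 ≤ Fintype.card ι) := by
  classical
  set S : ι → Finset ρ := fun i => univ.filter (fun r => x i r ≠ 0) with hS
  have hnorm : ∀ i, ∑ r ∈ S i, x i r * x i r = (e : ℤ) + 1 := fun i => by
    rw [sum_filter_of_ne fun r _ h => left_ne_zero_of_mul h, hgram, if_pos rfl]
  have hunion : ∀ r, ∃ i, r ∈ S i := fun r => by
    obtain ⟨i, hi⟩ := hrow r
    exact ⟨i, mem_filter.2 ⟨mem_univ _, hi⟩⟩
  -- no large entries
  have hsmall : ∀ i r, r ∈ S i → x i r * x i r = 1 := by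
    intro i r hr
    by_contra hne
    have h0 : x i r ≠ 0 := (mem_filter.1 hr).2
    have h4 : 4 ≤ x i r * x i r := by
      have h1 := Int.one_le_abs h0
      have h2 : |x i r| ≠ 1 := fun h => hne (by rw [← abs_mul_abs_self, h, one_mul])
      have h3 : 2 ≤ |x i r| := by omega
      rw [← abs_mul_abs_self (x i r)]
      nlinarith
    have hle : ∀ r' ∈ S i, r' = r := by
      intro r' hr'
      by_contra hne'
      have h1 : x i r * x i r + x i r' * x i r' ≤ (e : ℤ) + 1 := by
        rw [← hnorm i, ← sum_pair (Ne.symm hne') (f := fun r => x i r * x i r)]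
        refine sum_le_sum_of_subset_of_nonneg ?_ fun _ _ _ => mul_self_nonneg _
        simp [insert_subset_iff, hr, hr']
      have h2 : 0 < x i r' * x i r' := mul_self_pos.2 (mem_filter.1 hr').2
      omega
    have hSi : S i = {r} := eq_singleton_iff_unique_mem.2 ⟨hr, hle⟩
    have h5 : x i r * x i r = (e : ℤ) + 1 := by rw [← hnorm i, hSi, sum_singleton]
    by_cases hj : ∃ j, j ≠ i
    · obtain ⟨j, hj⟩ := hj
      have h6 := hgram i j
      rw [if_neg (Ne.symm hj), add_zero, ← sum_filter_add_sum_filter_not univ (fun r => x i r ≠ 0),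
        show univ.filter (fun r => x i r ≠ 0) = {r} from hSi, sum_singleton,
        sum_eq_zero fun r' hr' => by rw [not_not.1 (mem_filter.1 hr').2, zero_mul], add_zero] at h6
      have he3 : e = 3 := by omega
      subst he3
      have h7 : x i r = 2 ∨ x i r = -2 := mul_self_eq_mul_self_iff.1 (by rw [h5]; norm_num)
      rcases h7 with h7 | h7 <;> rw [h7] at h6 <;> push_cast at h6 <;> omega
    · push Not at hj
      have : Fintype.card ρ ≤ 1 := Fintype.card_le_one_iff.2 fun a b => by
        obtain ⟨i', hi'⟩ := hunion a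
        obtain ⟨i'', hi''⟩ := hunion b
        rw [hj i'] at hi'
        rw [hj i''] at hi''
        rw [hle a hi', hle b hi'']
      omega
  have hcard : ∀ i, (S i).card = e + 1 := fun i => by
    have h := hnorm i
    rw [sum_congr rfl fun r hr => hsmall i r hr] at h
    simp at h
    exact_mod_cast h
  -- intersections
  have hinter : ∀ i j, i ≠ j → (S i ∩ S j).card = e := by
    intro i j hij
    have h := hgram i j
    rw [if_neg hij, add_zero,
      ← sum_subset (subset_univ (S i ∩ S j)) fun r _ hr => by
        by_contra h0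
        exact hr (mem_inter.2 ⟨mem_filter.2 ⟨mem_univ _, left_ne_zero_of_mul h0⟩,
          mem_filter.2 ⟨mem_univ _, right_ne_zero_of_mul h0⟩⟩)] at h
    have hpm : ∀ r ∈ S i ∩ S j, x i r * x j r = 1 ∨ x i r * x j r = -1 := by
      intro r hr
      refine mul_self_eq_one_iff.1 ?_
      rw [mul_mul_mul_comm, hsmall i r (mem_inter.1 hr).1, hsmall j r (mem_inter.1 hr).2,
        one_mul]
    have hle : ((e : ℤ)) ≤ (S i ∩ S j).card := by
      rw [← h, card_eq_sum_ones]
      push_cast
      exact sum_le_sum fun r hr => by rcases hpm r hr with h' | h' <;> omega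
    have hle' : (S i ∩ S j).card ≤ e + 1 := hcard i ▸ card_le_card inter_subset_left
    by_contra hne
    have heq : (S i ∩ S j).card = e + 1 := by omega
    -- parity
    have hev : Even (∑ r ∈ S i ∩ S j, (1 - x i r * x j r)) :=
      even_sum _ fun r hr => by rcases hpm r hr with h' | h' <;> rw [h'] <;> decide
    rw [sum_sub_distrib, h, sum_const, nsmul_eq_mul, mul_one, heq] at hev
    simp at hev
  -- the two shapes
  obtain ⟨a⟩ : Nonempty ι := Fintype.card_pos_iff.1 hι
  by_cases hb : ∃ b, b ≠ a
  · obtain ⟨b, hb⟩ := hb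
    set I := S a ∩ S b
    set U := S a ∪ S b
    have hU : U.card = e + 2 := by
      have := card_union_add_card_inter (S a) (S b)
      rw [hcard, hcard, hinter a b hb.symm] at this
      simp only [U]
      omega
    have hor : (∀ i, I ⊆ S i) ∨ ∀ i, S i ⊆ U := by
      by_contra hne
      push Not at hne
      obtain ⟨⟨c, hc⟩, d, hd⟩ := hne
      obtain ⟨u, huI, huc⟩ := not_subset.1 hc
      obtain ⟨z, hzd, hzU⟩ := not_subset.1 hd
      have hda : d ≠ a := fun h => hd (h ▸ subset_union_left)
      have hdb : d ≠ b := fun h => hd (h ▸ subset_union_right)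
      have hca : c ≠ a := fun h => hc (h ▸ inter_subset_left)
      have hcb : c ≠ b := fun h => hc (h ▸ inter_subset_right)
      -- the first set lies in the union
      have hS1 : ∀ w, ∀ v, (S v).card = e + 1 → ∀ A : Finset ρ, A ⊆ S v → w ∈ S v → w ∉ A →
          A.card = e → S v = insert w A := by
        intro w v hv A hA hw hwA hAc
        refine (eq_of_subset_of_card_le (insert_subset hw hA) ?_).symm
        rw [hv, card_insert_of_notMem hwA, hAc]
      have hda' : S d ∩ S a = (S d).erase z := by
        refine eq_of_subset_of_card_le (fun w hw => mem_erase.2 ⟨?_, (mem_inter.1 hw).1⟩) ?_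
        · rintro rfl
          exact hzU (mem_union_left _ (mem_inter.1 hw).2)
        · rw [card_erase_of_mem hzd, hcard, hinter d a hda]
          omega
      have hdb' : S d ∩ S b = (S d).erase z := by
        refine eq_of_subset_of_card_le (fun w hw => mem_erase.2 ⟨?_, (mem_inter.1 hw).1⟩) ?_
        · rintro rfl
          exact hzU (mem_union_right _ (mem_inter.1 hw).2)
        · rw [card_erase_of_mem hzd, hcard, hinter d b hdb]
          omega
      have hdI : (S d).erase z = I := by
        refine eq_of_subset_of_card_le (fun w hw => ?_) ?_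
        · have h1 := hda'.symm ▸ hw
          have h2 := hdb'.symm ▸ hw
          exact mem_inter.2 ⟨(mem_inter.1 h1).2, (mem_inter.1 h2).2⟩
        · rw [card_erase_of_mem hzd, hcard, hinter a b hb.symm]
          omega
      have hSd : S d = insert z I := by rw [← hdI, insert_erase hzd]
      -- `c` meets `a` outside `u`
      have hsub : ∀ v, v ≠ c → u ∈ S v → ∀ w ∈ S v, w ≠ u → w ∈ S c := by
        intro v hv huv w hw hwu
        have h1 : S c ∩ S v = (S v).erase u := by
          refine eq_of_subset_of_card_le (fun y hy => mem_erase.2 ⟨?_, (mem_inter.1 hy).2⟩) ?_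
          · rintro rfl
            exact huc (mem_inter.1 hy).1
          · rw [card_erase_of_mem huv, hcard, hinter c v hv.symm]
            omega
        exact (mem_inter.1 (h1.symm ▸ mem_erase.2 ⟨hwu, hw⟩)).1
      have hua := (mem_inter.1 huI).1
      have hub := (mem_inter.1 huI).2
      have hUc : U.erase u ⊆ S c := by
        intro w hw
        obtain ⟨hwu, hwU⟩ := mem_erase.1 hw
        rcases mem_union.1 hwU with h | h
        · exact hsub a hca.symm hua w h hwu
        · exact hsub b hcb.symm hub w h hwu
      have hSc : U.erase u = S c := eq_of_subset_of_card_le hUc (by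
        rw [hcard, card_erase_of_mem (mem_union_left _ hua), hU]; omega)
      have hdu : u ∈ S d := by rw [hSd]; exact mem_insert_of_mem huI
      have hzc : z ∈ S c := hsub d (fun h => huc (h ▸ hdu)) hdu z hzd
        fun h => hzU (h ▸ mem_union_left _ hua)
      rw [← hSc] at hzc
      exact hzU (mem_of_mem_erase hzc)
    rcases hor with hI | hUall
    · left
      have hinj : ∀ i, ∃ w, S i \ I = {w} := fun i => card_eq_one.1 (by
        rw [card_sdiff_of_subset (hI i), hcard, hinter a b hb.symm]; omega)
      choose w hw using hinj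
      have hwS : ∀ i, w i ∈ S i \ I := fun i => by rw [hw i]; exact mem_singleton_self _
      have hwi : Function.Injective w := by
        intro i j hij
        by_contra hne
        have h1 : insert (w i) I ⊆ S i ∩ S j := insert_subset
          (mem_inter.2 ⟨(mem_sdiff.1 (hwS i)).1, hij ▸ (mem_sdiff.1 (hwS j)).1⟩)
          (subset_inter (hI i) (hI j))
        have h2 := card_le_card h1
        rw [hinter i j hne, card_insert_of_notMem (mem_sdiff.1 (hwS i)).2,
          hinter a b hb.symm] at h2
        omega
      have hall : (univ : Finset ρ) = I ∪ univ.image w := by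
        refine (eq_univ_iff_forall.2 fun r => ?_).symm
        obtain ⟨i, hi⟩ := hunion r
        by_cases hr : r ∈ I
        · exact mem_union_left _ hr
        · refine mem_union_right _ (mem_image.2 ⟨i, mem_univ _, ?_⟩)
          have : r ∈ S i \ I := mem_sdiff.2 ⟨hi, hr⟩
          rw [hw i, mem_singleton] at this
          exact this.symm
      have hd : Disjoint I (univ.image w) := disjoint_left.2 fun r hr h => by
        obtain ⟨i, -, rfl⟩ := mem_image.1 h
        exact (mem_sdiff.1 (hwS i)).2 hr
      rw [← card_univ, hall, card_union_of_disjoint hd, card_image_of_injective _ hwi, card_univ,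
        hinter a b hb.symm]
      omega
    · have hk2 : Fintype.card ρ = e + 2 := by
        rw [← hU, ← card_univ]
        congr 1
        refine (eq_univ_iff_forall.2 fun r => ?_).symm
        obtain ⟨i, hi⟩ := hunion r
        exact hUall i hi
      by_cases h3 : 3 ≤ Fintype.card ι
      · exact Or.inr ⟨hk2, by omega, h3⟩
      · left
        have : 2 ≤ Fintype.card ι := Fintype.one_lt_card_iff.2 ⟨a, b, hb.symm⟩
        omega
  · push Not at hb
    left
    have h1 : Fintype.card ι = 1 := le_antisymm
      (Fintype.card_le_one_iff.2 fun i j => (hb i).trans (hb j).symm) hι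
    rw [h1, ← card_univ, show (univ : Finset ρ) = S a from
      (eq_univ_iff_forall.2 fun r => by obtain ⟨i, hi⟩ := hunion r; rwa [hb i] at hi).symm,
      hcard]
    omega

end CfsgLib.BlockA.FreeSignCount
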