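import Cfsg.Agent.Lib.BlockB.StarPurity
import Cfsg.Agent.Lib.BlockA.RankOneSmall

/-!
Primitive fixed idempotents with a nonzero image in a block of rank one of the centralizer: they
exist, they are equivalent, and their images in the centralizers of subgroups are primitive.
-/

set_option autoImplicit false
set_option linter.unusedSectionVars false
set_option maxHeartbeats 1000000

namespace CfsgLib.BlockA.FreeSignPrim

open Cfsg CfsgLib.Block CfsgLib.BlockA CfsgLib.BlockB CfsgLib.BlockB.StarBr
  CfsgLib.BlockB.StarPurity CfsgLib.BlockB.IdemCount MonoidAlgebra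

universe u

instance {M : Ideal AlgInt} [M.IsPrime] : IsAlgClosed (kres M) := isAlgClosed_kres

variable {G : Type u} [Group G] [Fintype G] {p : ℕ} {M : Ideal AlgInt} [M.IsPrime]

local notation "cen" Q => Subgroup.centralizer ((Q : Subgroup G) : Set G)

/-- Idempotents in a block of rank one see each other. -/
theorem exists_not_nilpotent [Fact p.Prime] (hM : IsPModular p M) {H : Type u} [Group H]
    [Fintype H] {b : Set (IrrCharacter H)} (hb : IsPBlock M b) (hl : blockRank p b = 1)
    {f f' : MonoidAlgebra (kres M) H} (hf : f * f = f) (hf' : f' * f' = f') (h0 : f ≠ 0)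
    (h0' : f' ≠ 0) (hef : (blkIdem M b : MonoidAlgebra (kres M) H) * f = f)
    (hef' : (blkIdem M b : MonoidAlgebra (kres M) H) * f' = f') :
    ∃ y y', ¬ IsNilpotent (f * y * f' * y' * f) := by
  classical
  obtain ⟨S⟩ := exists_splitData (k := kres M) (Λ := MonoidAlgebra (kres M) H)
  have hne : ∀ {z : MonoidAlgebra (kres M) H}, z * z = z → z ≠ 0 →
      (blkIdem M b : MonoidAlgebra (kres M) H) * z = z → ∃ i, S.π z i ≠ 0 ∧
        i ∈ Finset.univ.filter
          (fun i => IdemCount.rk S i (blkIdem M b : MonoidAlgebra (kres M) H) ≠ 0) := by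
    intro z hz hz0 hez
    obtain ⟨i, hi⟩ : ∃ i, S.π z i ≠ 0 := by
      by_contra h
      push Not at h
      exact hz0 (eq_zero_of_pi S hz (funext h))
    refine ⟨i, hi, Finset.mem_filter.2 ⟨Finset.mem_univ _, fun h => hi ?_⟩⟩
    rw [IdemCount.rk, Submodule.finrank_eq_zero] at h
    rw [← hez, map_mul, Pi.mul_apply, LinearMap.range_eq_bot.1 h, zero_mul]
  obtain ⟨i, hi, him⟩ := hne hf h0 hef
  obtain ⟨i', hi', him'⟩ := hne hf' h0' hef'
  have hii : i' = i := Finset.card_le_one.1
    ((RankOneSmall.filter_le_blockRank hM hb S).trans hl.le) i' him' i him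
  subst hii
  obtain ⟨w, hw⟩ : ∃ w, S.π f i' w ≠ 0 := by
    by_contra h
    push Not at h
    exact hi (LinearMap.ext h)
  obtain ⟨w', hw'⟩ : ∃ w, S.π f' i' w ≠ 0 := by
    by_contra h
    push Not at h
    exact hi' (LinearMap.ext h)
  set A := S.π f i' with hA
  set A' := S.π f' i' with hA'
  have hdual : ∀ v : Fin (S.d i') → kres M, v ≠ 0 → ∃ φ : Module.Dual (kres M) _, φ v = 1 := by
    intro v hv
    obtain ⟨φ, hφ⟩ := Module.Projective.exists_dual_ne_zero (kres M) hv
    exact ⟨(φ v)⁻¹ • φ, by rw [LinearMap.smul_apply, smul_eq_mul, inv_mul_cancel₀ hφ]⟩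
  set v := A w
  set v' := A' w'
  have hv : A v = v := LinearMap.congr_fun (apply_idem S hf i') w
  have hv' : A' v' = v' := LinearMap.congr_fun (apply_idem S hf' i') w'
  obtain ⟨φ, hφ⟩ := hdual v hw
  obtain ⟨φ', hφ'⟩ := hdual v' hw'
  obtain ⟨y, hy⟩ := S.surj (Pi.single i' (one' v φ'))
  obtain ⟨y', hy'⟩ := S.surj (Pi.single i' (one' v' φ))
  refine ⟨y, y', fun ⟨n, hn⟩ => hw ?_⟩
  have hfix : ((S.π (f * y * f' * y' * f) i') ^ n) v = v := by
    have h1 : S.π (f * y * f' * y' * f) i' v = v := by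
      simp only [map_mul, Pi.mul_apply, hy, hy', Pi.single_eq_same, Module.End.mul_apply,
        ← hA, ← hA', hv, one'_apply, hφ, one_smul, hv', hφ']
    clear hn
    induction n with
    | zero => simp
    | succ n ih => rw [pow_succ, Module.End.mul_apply, h1, ih]
  rw [← hfix, ← Pi.pow_apply, ← map_pow, hn, map_zero]
  rfl

section Res

variable (hM : IsPModular p M) {P : Subgroup G} (hP : IsPGroup p P)
include hM hP

theorem isPInv_mem {R : Subgroup G} (hR : R ≤ P)
    (x : fixAlg (kres M) (P ⊔ ⊥) ⊤) : IsPInv R (x : MonoidAlgebra (kres M) G) :=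
  isPInv_mono (hR.trans le_sup_left) x.2.1

/-- The Brauer map at a subgroup of `P`, onto the group algebra of its centralizer. -/
noncomputable def res {R : Subgroup G} (hR : R ≤ P) :
    fixAlg (kres M) (P ⊔ ⊥) ⊤ →+* MonoidAlgebra (kres M) (cen R) where
  toFun x := resSub (cen R) (x : MonoidAlgebra (kres M) G)
  map_one' := by
    rw [show ((1 : fixAlg (kres M) (P ⊔ ⊥) ⊤) : MonoidAlgebra (kres M) G) = 1 from rfl,
      ← map_one (inclSub (k := kres M) (cen R)), resSub_inclSub]
  map_mul' x y := by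
    rw [MulMemClass.coe_mul]
    exact CfsgLib.BlockA.resSub_mul hM (hP.to_le hR) (isPInv_mem hM hP hR x)
      (isPInv_mem hM hP hR y)
  map_zero' := by ext h; simp
  map_add' x y := by ext h; simp

theorem res_apply {R : Subgroup G} (hR : R ≤ P) (x : fixAlg (kres M) (P ⊔ ⊥) ⊤) :
    res hM hP hR x = resSub (cen R) (x : MonoidAlgebra (kres M) G) := rfl

/-- Invariant elements of the centralizer come from invariant elements. -/
theorem exists_res {R : Subgroup G} (hR : R ≤ P) (hPR : P ≤ cen R)
    {y : MonoidAlgebra (kres M) (cen R)} (hy : IsPInv (P.subgroupOf (cen R)) y) :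
    ∃ x : fixAlg (kres M) (P ⊔ ⊥) ⊤, res hM hP hR x = y := by
  refine ⟨⟨inclSub (cen R) y, mem_fixAlg_top.2 ?_⟩, resSub_inclSub _ y⟩
  rw [sup_bot_eq]
  intro v hv g
  by_cases hg : g ∈ cen R
  · have h := hy ⟨v, hPR hv⟩ hv ⟨g, hg⟩
    rw [← coeff_inclSub_of_mem (cen R), ← coeff_inclSub_of_mem (cen R)] at h
    simpa using h
  · rw [coeff_inclSub_of_not_mem _ _ hg, coeff_inclSub_of_not_mem]
    exact fun h => hg (by
      simpa [mul_assoc] using mul_mem (mul_mem (inv_mem (hPR hv)) h) (hPR hv))

/-- **Primitive images.** -/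
theorem isPrim_res {R : Subgroup G} [Fintype (Subgroup.centralizer (R : Set G))] (hR : R ≤ P)
    (hPR : P ≤ cen R)
    {j : fixAlg (kres M) (P ⊔ ⊥) ⊤} (hj : IsPrim j)
    {jH : fixAlg (kres M) (P.subgroupOf (cen R) ⊔ ⊥) ⊤}
    (hjH : (jH : MonoidAlgebra (kres M) (cen R)) = res hM hP hR j) (h0 : res hM hP hR j ≠ 0) :
    IsPrim jH := by
  refine ⟨Subtype.ext ?_, fun h => h0 ?_, fun e he hje hej => ?_⟩
  · rw [MulMemClass.coe_mul, hjH, ← map_mul, hj.1]
  · rw [← hjH, h]; rfl
  · obtain ⟨z, hz⟩ := exists_res hM hP hR hPR (y := (e : MonoidAlgebra (kres M) (cen R)))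
      (isPInv_mono le_sup_left e.2.1)
    set f := res hM hP hR j with hf
    have hje' : f * (e : MonoidAlgebra (kres M) (cen R)) = e := by
      rw [← hjH, ← MulMemClass.coe_mul, hje]
    have hej' : (e : MonoidAlgebra (kres M) (cen R)) * f = e := by
      rw [← hjH, ← MulMemClass.coe_mul, hej]
    have hc : res hM hP hR (j * z * j) = e := by
      rw [map_mul, map_mul, ← hf, hz, hje', hej']
    rcases unit_or_nilpotent (k := kres M) hj (c := j * z * j)
      (by rw [← mul_assoc, ← mul_assoc, hj.1]) (by rw [mul_assoc, hj.1])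
      with ⟨y, -, -, hyc, -⟩ | hn
    · refine Or.inr (Subtype.ext ?_)
      have hye : res hM hP hR y * (e : MonoidAlgebra (kres M) (cen R)) = f := by
        rw [← hc, ← map_mul, hyc]
      calc (e : MonoidAlgebra (kres M) (cen R)) = f * e := hje'.symm
        _ = res hM hP hR y * ((e : MonoidAlgebra (kres M) (cen R)) * e) := by
            rw [← hye, mul_assoc]
        _ = f := by rw [← MulMemClass.coe_mul, he, hye]
        _ = jH := hjH.symm
    · refine Or.inl (Subtype.ext ?_)
      have hn' : IsNilpotent (e : MonoidAlgebra (kres M) (cen R)) := hc ▸ hn.map (res hM hP hR)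
      obtain ⟨n, hn'⟩ := hn'
      rcases Nat.eq_zero_or_pos n with rfl | hpos
      · rw [pow_zero] at hn'
        rw [← mul_one (e : MonoidAlgebra (kres M) (cen R)), hn', mul_zero]
        rfl
      · obtain ⟨m, rfl⟩ := Nat.exists_eq_succ_of_ne_zero hpos.ne'
        rw [(show IsIdempotentElem (e : MonoidAlgebra (kres M) (cen R)) from
          congrArg Subtype.val he).pow_succ_eq m] at hn'
        exact hn'

variable {c : Set (IrrCharacter (Subgroup.centralizer (P : Set G)))} (hc : IsPBlock M c)
  (hab : ∀ v ∈ P, ∀ w ∈ P, v * w = w * v)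

/-- The block meets the image at `P`. -/
def Crit (c : Set (IrrCharacter (cen P))) (j : fixAlg (kres M) (P ⊔ ⊥) ⊤) : Prop :=
  (blkIdem M c : MonoidAlgebra (kres M) (cen P)) *
    resSub (cen P) (j : MonoidAlgebra (kres M) G) ≠ 0

include hc

/-- **Existence.** -/
theorem exists_prim : ∃ j : fixAlg (kres M) (P ⊔ ⊥) ⊤, IsPrim j ∧ Crit c j := by
  classical
  by_contra h
  push Not at h
  have key : ∀ j : fixAlg (kres M) (P ⊔ ⊥) ⊤, j * j = j →
      (blkIdem M c : MonoidAlgebra (kres M) (cen P)) * res hM hP le_rfl j = 0 := by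
    refine idem_induction (k := kres M) _ (by rw [map_zero, mul_zero]) ?_ ?_
    · intro e f _ _ _ _ he hf
      rw [map_add, mul_add, he, hf, add_zero]
    · intro j hj
      by_contra h0
      exact h j hj h0
  have h1 := key 1 (one_mul 1)
  rw [map_one, mul_one] at h1
  obtain ⟨ξ, hξ⟩ := isPBlock_nonempty hc
  have := lam_blkIdem hM hc ξ
  rw [if_pos hξ] at this
  rw [show blkIdem M c = 0 from Subtype.ext h1, map_zero] at this
  exact zero_ne_one this

include hab

/-- **Equivalence.** -/
theorem exists_equiv_prim [Fact p.Prime] (hl : blockRank p c = 1)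
    {j j' : fixAlg (kres M) (P ⊔ ⊥) ⊤} (hj : IsPrim j) (hj' : IsPrim j') (hcj : Crit c j)
    (hcj' : Crit c j') : ∃ a b, a * b = j ∧ b * a = j' := by
  have := Fintype.ofFinite (Subgroup.centralizer (P : Set G))
  set e : MonoidAlgebra (kres M) (cen P) :=
    (blkIdem M c : MonoidAlgebra (kres M) (cen P)) with he
  have hee : e * e = e := by rw [he, ← MulMemClass.coe_mul, blkIdem_idem hM hc]
  have hcomm : ∀ z, z * e = e * z := fun z => Subalgebra.mem_center_iff.1 (blkIdem M c).2 z
  set f := res hM hP le_rfl j with hf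
  set f' := res hM hP le_rfl j' with hf'
  have hff : f * f = f := by rw [hf, ← map_mul, hj.1]
  have hff' : f' * f' = f' := by rw [hf', ← map_mul, hj'.1]
  have hidem : ∀ z, z * z = z → e * z * (e * z) = e * z := fun z hz => by
    rw [mul_assoc, ← mul_assoc z, hcomm, mul_assoc e z z, hz, ← mul_assoc, hee]
  obtain ⟨y, y', hyy⟩ := exists_not_nilpotent hM hc hl (hidem f hff) (hidem f' hff') hcj hcj'
    (by rw [← mul_assoc, hee]) (by rw [← mul_assoc, hee])
  have hinv : ∀ z : MonoidAlgebra (kres M) (cen P),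
      IsPInv (P.subgroupOf (cen P)) z := by
    intro z v hv x
    congr 1
    refine Subtype.ext ?_
    show (v : G) * x * (v : G)⁻¹ = x
    rw [Subgroup.mem_centralizer_iff.1 x.2 v (Subgroup.mem_subgroupOf.1 hv),
      mul_inv_cancel_right]
  have hPC : P ≤ cen P := fun v hv => Subgroup.mem_centralizer_iff.2 fun w hw => hab w hw v hv
  obtain ⟨Y, hY⟩ := exists_res hM hP le_rfl hPC (hinv (e * y))
  obtain ⟨Y', hY'⟩ := exists_res hM hP le_rfl hPC (hinv (e * y'))
  set cc := j * Y * j' * Y' * j with hcc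
  have hres : e * f * y * (e * f') * y' * (e * f) = res hM hP le_rfl cc := by
    rw [hcc, map_mul, map_mul, map_mul, map_mul, hY, hY', ← hf, ← hf']
    have h1 : e * f * y * (e * f') * y' * (e * f) =
        (f * e) * y * f' * (e * y') * f := by
      simp only [← mul_assoc, ← hcomm]
      simp only [mul_assoc, hcomm]
      simp only [← mul_assoc, hee]
    rw [h1]
    simp only [mul_assoc]
  rcases unit_or_nilpotent (k := kres M) hj (c := cc)
    (by rw [hcc]; simp only [← mul_assoc, hj.1])
    (by rw [hcc]; simp only [mul_assoc, hj.1]) with ⟨z, hjz, hzj, hzc, hcz⟩ | hn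
  · set a := j * Y * j' with ha
    set b := j' * Y' * j * z with hb
    have hab' : a * b = j := by
      calc a * b = j * Y * (j' * j') * Y' * j * z := by rw [ha, hb]; simp only [mul_assoc]
        _ = cc * z := by rw [hj'.1, hcc]
        _ = j := hcz
    have hja : j * a = a := by rw [ha, ← mul_assoc, ← mul_assoc, hj.1]
    have hbj : b * j = b := by rw [hb, mul_assoc, hzj]
    have hid : b * a * (b * a) = b * a := by
      calc b * a * (b * a) = b * (a * b) * a := by simp only [mul_assoc]
        _ = b * a := by rw [hab', hbj]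
    refine ⟨a, b, hab', (hj'.2.2 (b * a) hid ?_ ?_).resolve_left fun h => hj.2.1 ?_⟩
    · rw [hb]
      simp only [← mul_assoc, hj'.1]
    · rw [ha]
      simp only [mul_assoc, hj'.1]
    · calc j = j * j := hj.1.symm
        _ = a * (b * a) * b := by rw [← hab']; simp only [mul_assoc]
        _ = 0 := by rw [h, mul_zero, zero_mul]
  · exact absurd (hres ▸ hn.map (res hM hP le_rfl)) hyy

end Res

end CfsgLib.BlockA.FreeSignPrim
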