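import Cfsg.Agent.Lib.BlockA.FreeSignVal
import Cfsg.Agent.Lib.BlockA.FreeSignPrim
import Cfsg.Agent.Lib.BlockA.Contribution
import Cfsg.Agent.Lib.Block.CentralDefect
import Cfsg.Agent.Lib.Char.LinearSum

/-!
A block with abelian defect group and a primitive fixed idempotent meeting the maximal pair: its
traces at the elements with free stabilizer are the multiplicity times the subsection coordinates.
-/

set_option autoImplicit false
set_option linter.unusedSectionVars false
set_option maxHeartbeats 1000000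

namespace CfsgLib.BlockA.FreeSignDatum

open Cfsg CfsgLib.Block CfsgLib.BlockA CfsgLib.BlockB CfsgLib.BlockB.SubSum
  CfsgLib.BlockB.HeightBound CfsgLib.BlockB.Star CfsgLib.BlockB.StarBr CfsgLib.BlockB.StarPurity
  CfsgLib.BlockB.StarLift CfsgLib.BlockB.StarTrace CfsgLib.BlockB.StarVal
  AbelianSub AbelianTrace FreeSignVal MonoidAlgebra
open scoped ComplexConjugate

universe u

variable {G : Type u} [Group G] [Fintype G] {p : ℕ} {M : Ideal AlgInt} [M.IsPrime]

local notation "cs" z => Subgroup.centralizer (Singleton.singleton z : Set G)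
local notation "cen" Q => Subgroup.centralizer ((Q : Subgroup G) : Set G)

/-- The largest value at an idempotent. -/
noncomputable def top {H : Type u} [Group H] [Fintype H] (x : MonoidAlgebra (kres M) H) : ℕ :=
  sSup (Set.range fun κ : IrrCharacter H => ⌊(val (κ : H → ℂ) x).re⌋₊)

theorem top_eq {H : Type u} [Group H] [Fintype H] {x : MonoidAlgebra (kres M) H} {m : ℕ}
    (hall : ∀ κ : IrrCharacter H, val (κ : H → ℂ) x = 0 ∨ val (κ : H → ℂ) x = (m : ℂ))
    (hex : ∃ κ : IrrCharacter H, val (κ : H → ℂ) x = (m : ℂ)) : top x = m := by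
  refine le_antisymm (csSup_le' ?_) ?_
  · rintro _ ⟨κ, rfl⟩
    show ⌊(val (κ : H → ℂ) x).re⌋₊ ≤ m
    rcases hall κ with h | h <;> rw [h] <;> simp
  · obtain ⟨κ, hκ⟩ := hex
    refine le_csSup (Set.finite_range _).bddAbove ⟨κ, ?_⟩
    show ⌊(val (κ : H → ℂ) x).re⌋₊ = m
    rw [hκ, Complex.natCast_re, Nat.floor_natCast]

/-- The scalar of a central element. -/
theorem apply_central_mul {H : Type u} [Group H] [Finite H] (κ : IrrCharacter H) {z : H}
    (hz : ∀ w, z * w = w * z) (v : H) :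
    (κ : H → ℂ) (z * v) = (κ : H → ℂ) z / (κ : H → ℂ) 1 * (κ : H → ℂ) v := by
  obtain ⟨w, -, hw⟩ := exists_isIntegral_apply_central_mul κ hz
  have h1 := hw 1
  rw [mul_one] at h1
  rw [hw, h1, mul_div_cancel_right₀ _ (CfsgLib.Char.irr_apply_one_ne_zero κ.2)]

theorem isIntegral_central_scalar {H : Type u} [Group H] [Finite H] (κ : IrrCharacter H) {z : H}
    (hz : ∀ w, z * w = w * z) : IsIntegral ℤ ((κ : H → ℂ) z / (κ : H → ℂ) 1) := by
  obtain ⟨w, hwi, hw⟩ := exists_isIntegral_apply_central_mul κ hz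
  have h1 := hw 1
  rw [mul_one] at h1
  rwa [h1, mul_div_cancel_right₀ _ (CfsgLib.Char.irr_apply_one_ne_zero κ.2)]

/-- The coordinate of a character at a subsection. -/
noncomputable def aSec (z : G) [Fintype (Subgroup.centralizer ({z} : Set G))]
    (b : Set (IrrCharacter (Subgroup.centralizer ({z} : Set G)))) (χ : G → ℂ) : ℂ :=
  ∑ κ ∈ b.toFinite.toFinset,
    classInner (fun k : Subgroup.centralizer ({z} : Set G) => χ k)
      (κ : Subgroup.centralizer ({z} : Set G) → ℂ) *
    ((κ : Subgroup.centralizer ({z} : Set G) → ℂ)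
        ⟨z, Subgroup.mem_centralizer_singleton_iff.2 rfl⟩ /
      (κ : Subgroup.centralizer ({z} : Set G) → ℂ) 1)

theorem central_self (z : G) (w : Subgroup.centralizer ({z} : Set G)) :
    (⟨z, Subgroup.mem_centralizer_singleton_iff.2 rfl⟩ :
        Subgroup.centralizer ({z} : Set G)) * w =
      w * ⟨z, Subgroup.mem_centralizer_singleton_iff.2 rfl⟩ :=
  Subtype.ext (Subgroup.mem_centralizer_singleton_iff.1 w.2).symm

theorem aSec_isIntegral (z : G) [Fintype (Subgroup.centralizer ({z} : Set G))]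
    (b : Set (IrrCharacter (Subgroup.centralizer ({z} : Set G)))) (χ : IrrCharacter G) :
    IsIntegral ℤ (aSec z b (χ : G → ℂ)) := by
  refine IsIntegral.sum _ fun κ _ => IsIntegral.mul ?_ (isIntegral_central_scalar κ (central_self z))
  obtain ⟨k, hk⟩ := CfsgLib.Char.classInner_isCharacter_nat
    (CfsgLib.Char.isCharacter_restrict (CfsgLib.Char.irr_isCharacter χ.2) _)
    (CfsgLib.Char.irr_isCharacter κ.2)
  rw [hk]
  simpa using (isIntegral_algebraMap (R := ℤ) (A := ℂ) (x := (k : ℤ)))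

/-- The expansion of a shifted restriction. -/
theorem shift_eq_sum (z : G) [Fintype (Subgroup.centralizer ({z} : Set G))]
    [Fintype (IrrCharacter (Subgroup.centralizer ({z} : Set G)))] (χ : IrrCharacter G)
    (k : Subgroup.centralizer ({z} : Set G)) :
    (χ : G → ℂ) (z * (k : G)) = ∑ κ : IrrCharacter (Subgroup.centralizer ({z} : Set G)),
      (classInner (fun k : Subgroup.centralizer ({z} : Set G) => (χ : G → ℂ) k)
          (κ : Subgroup.centralizer ({z} : Set G) → ℂ) *
        ((κ : Subgroup.centralizer ({z} : Set G) → ℂ)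
            ⟨z, Subgroup.mem_centralizer_singleton_iff.2 rfl⟩ /
          (κ : Subgroup.centralizer ({z} : Set G) → ℂ) 1)) *
        (κ : Subgroup.centralizer ({z} : Set G) → ℂ) k := by
  have h := CfsgLib.Char.classFunction_apply_eq_sum
    (ψ := fun k : Subgroup.centralizer ({z} : Set G) => (χ : G → ℂ) k) (fun a b => by
      simp only [Subgroup.coe_mul, Subgroup.coe_inv]
      exact CfsgLib.Char.irr_isClassFunction χ.2 _ _)
    (⟨z, Subgroup.mem_centralizer_singleton_iff.2 rfl⟩ * k)
  refine h.trans (Finset.sum_congr rfl fun κ _ => ?_)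
  rw [apply_central_mul κ (central_self z) k]
  ring

/-- **Transport of the coordinate.** -/
theorem aSec_conj (t z : G) [Fintype (Subgroup.centralizer ({z} : Set G))]
    [Fintype (Subgroup.centralizer ({t * z * t⁻¹} : Set G))]
    (b : Set (IrrCharacter (Subgroup.centralizer ({z} : Set G)))) (χ : IrrCharacter G) :
    aSec (t * z * t⁻¹) (blockMap (cenConj t z) b) (χ : G → ℂ) = aSec z b (χ : G → ℂ) := by
  classical
  have hval : ∀ w : Subgroup.centralizer ({t * z * t⁻¹} : Set G),
      (χ : G → ℂ) ((cenConj t z w : Subgroup.centralizer ({z} : Set G)) : G) =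
        (χ : G → ℂ) (w : G) := fun w => by
    show (χ : G → ℂ) (t⁻¹ * (w : G) * t) = _
    rw [← CfsgLib.Char.irr_isClassFunction χ.2 (t⁻¹ * (w : G) * t) t]
    group
  have hzz : cenConj t z ⟨t * z * t⁻¹, Subgroup.mem_centralizer_singleton_iff.2 rfl⟩ =
      ⟨z, Subgroup.mem_centralizer_singleton_iff.2 rfl⟩ := by
    refine Subtype.ext ?_
    show t⁻¹ * (t * z * t⁻¹) * t = z
    group
  unfold aSec
  rw [show (blockMap (cenConj t z) b).toFinite.toFinset =
      b.toFinite.toFinset.image (irrMap (cenConj t z)) by ext ξ; simp [blockMap],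
    Finset.sum_image fun κ _ κ' _ h => irrMap_injective _ h]
  refine Finset.sum_congr rfl fun κ _ => ?_
  rw [irrMap_apply, irrMap_apply, hzz, map_one]
  congr 1
  rw [CfsgLib.Char.classInner_def, CfsgLib.Char.classInner_def,
    Nat.card_congr (cenConj t z).toEquiv]
  congr 1
  exact Fintype.sum_equiv (cenConj t z).toEquiv _ _ fun w => by
    simp [irrMap_apply, hval w]

/-- A nilpotent block with abelian defect group: all members agree on the regular elements. -/
theorem equal_regular {H : Type u} [Group H] [Fintype H] (hM : IsPModular p M)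
    {b : Set (IrrCharacter H)} {Q : Subgroup H}
    {e : Set (IrrCharacter (Subgroup.centralizer (Q : Set H)))}
    (hmaxH : IsMaximalBrauerPair p M b Q e) (habH : ∀ a ∈ Q, ∀ b ∈ Q, a * b = b * a)
    (hst : pairStab M Q e ≤ Subgroup.centralizer (Q : Set H)) :
    ∀ κ ∈ b, ∀ κ' ∈ b, ∀ y : H, ¬ p ∣ orderOf y → (κ : H → ℂ) y = (κ' : H → ℂ) y := by
  classical
  have := Fact.mk hM.1
  obtain ⟨hcard, hrk⟩ := Contribution.nilpotent_counts hM hmaxH habH hst
  have hb := hmaxH.1.2.1
  obtain ⟨g, d, hg, hdeg, hsq, -⟩ := rank_one_degrees hM hb hrk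
  have hdef : p ^ blockDefect p b = Nat.card Q :=
    (natCard_defectGroup hM hb (maximal_core hM hmaxH).1).symm
  have hd1 : ∀ κ ∈ b, d κ = 1 := by
    intro κ hκ
    have hpos : ∀ η ∈ b.toFinite.toFinset, 1 ≤ d η ^ 2 := fun η hη =>
      Nat.one_le_pow _ _ (Nat.pos_of_ne_zero fun h0 => charDegree_ne_zero η.2
        (by rw [hdeg η (b.toFinite.mem_toFinset.1 hη), h0, mul_zero]))
    rw [finsum_mem_eq_finite_toFinset_sum _ b.toFinite, hdef, ← hcard,
      Nat.card_eq_card_finite_toFinset b.toFinite, Finset.card_eq_sum_ones] at hsq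
    have h := (Finset.sum_eq_sum_iff_of_le hpos).1 hsq.symm κ (b.toFinite.mem_toFinset.2 hκ)
    exact (Nat.pow_eq_one.1 h.symm).resolve_right two_ne_zero
  intro κ hκ κ' hκ' y hy
  have h1 : (κ : H → ℂ) 1 = (κ' : H → ℂ) 1 := by
    rw [← CfsgLib.Block.charDegree_cast (CfsgLib.Char.irr_isCharacter κ.2),
      ← CfsgLib.Block.charDegree_cast (CfsgLib.Char.irr_isCharacter κ'.2), hdeg κ hκ, hdeg κ' hκ',
      hd1 κ hκ, hd1 κ' hκ']
  have h := proportional_of_rank_one hrk hκ hκ' hy
  rw [← h1, mul_comm ((κ : H → ℂ) 1)] at h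
  exact mul_right_cancel₀ (CfsgLib.Char.irr_apply_one_ne_zero κ.2) h

variable {B : Set (IrrCharacter G)} {P : Subgroup G}
  {c : Set (IrrCharacter (Subgroup.centralizer (P : Set G)))}
variable (hM : IsPModular p M) (hmax : IsMaximalBrauerPair p M B P c)
  (hab : ∀ v ∈ P, ∀ w ∈ P, v * w = w * v)
  {j : fixAlg (kres M) (P ⊔ ⊥) ⊤} (hj : IsPrim j) (hcrit : FreeSignPrim.Crit c j)
include hM hmax hab hj hcrit

/-- **Purity.** -/
theorem pure {z : G} (hz : z ∈ P)
    {b : Set (IrrCharacter (Subgroup.centralizer ({z} : Set G)))} (hb : IsPBlock M b)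
    (hne : (blkIdem M b : MonoidAlgebra (kres M) (Subgroup.centralizer ({z} : Set G))) *
      resSub (Subgroup.centralizer ({z} : Set G)) (j : MonoidAlgebra (kres M) G) ≠ 0) :
    b = blk hM hmax hab hz := by
  have := Fact.mk hM.1
  have := Fintype.ofFinite (⊥ : Subgroup G)
  have hP := hmax.1.1.1
  have hcP : sIdem M (cen P) c * br P (j : MonoidAlgebra (kres M) G) ≠ 0 := by
    intro h
    refine hcrit (CfsgLib.BlockA.inclSub_injective _ ?_)
    rw [map_mul, map_zero]
    exact h
  obtain ⟨g, hg, hpure⟩ := exists_pure hM (W := P) (Z := ⊥) hP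
    (fun w hw v _ => by rw [Subgroup.mem_bot.1 hw]; exact Commute.one_left v) (by simp [hM.1.ne_one])
    hj (right_ne_zero_of_mul hcP)
  have hgc : g = c := by
    have h1 := idx_eq_of_below hM hg rfl (hpure P le_rfl c hmax.1.1.2 hcP) Relation.ReflTransGen.refl
    exact (eq_of_heq (Sigma.mk.inj_iff.1 h1).2).symm
  subst hgc
  have key : ∀ H : Subgroup G, H = (cen (Subgroup.zpowers z)) →
      ∀ b' : Set (IrrCharacter H), IsPBlock M b' →
        sIdem M H b' * inclSub H (resSub H (j : MonoidAlgebra (kres M) G)) ≠ 0 →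
          subgroupBlockCoeff H b' = beta hM hmax z := by
    rintro _ rfl b' hb' hne'
    exact beta_eq_of_below hM hmax hz rfl
      (hpure _ (Subgroup.zpowers_le.2 hz) b' hb' hne')
  have h := key _ (cen_zpowers z).symm b hb fun h0 => hne
    (CfsgLib.BlockA.inclSub_injective _ (by rw [map_mul, map_zero]; exact h0))
  exact subgroupBlockCoeff_injective hM hb (blk_spec hM hmax hab hz).1.1
    (h.trans (blk_spec hM hmax hab hz).2.symm)

omit hj hcrit in
/-- The image at an element is idempotent. -/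
theorem res_idem (hjj : j * j = j) {z : G} (hz : z ∈ P) :
    resSub (Subgroup.centralizer ({z} : Set G)) (j : MonoidAlgebra (kres M) G) *
      resSub (Subgroup.centralizer ({z} : Set G)) (j : MonoidAlgebra (kres M) G) =
      resSub (Subgroup.centralizer ({z} : Set G)) (j : MonoidAlgebra (kres M) G) := by
  rw [← cen_zpowers, ← FreeSignPrim.res_apply hM hmax.1.1.1 (Subgroup.zpowers_le.2 hz), ← map_mul,
    hjj]

section Free

variable {z : G} (hz : z ∈ P)
  (hfix : ∀ t ∈ pairStab M P c, t * z * t⁻¹ = z → t ∈ Subgroup.centralizer (P : Set G))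
include hz hfix

omit hj hcrit in
/-- The block at an element with free stabilizer. -/
theorem blk_shape [Fintype (Subgroup.centralizer ({z} : Set G))] :
    blockRank p (blk hM hmax hab hz) = 1 ∧ Nat.card (blk hM hmax hab hz) = Nat.card P ∧
      ∀ κ ∈ blk hM hmax hab hz, ∀ κ' ∈ blk hM hmax hab hz,
        ∀ y : Subgroup.centralizer ({z} : Set G), ¬ p ∣ orderOf y →
          (κ : Subgroup.centralizer ({z} : Set G) → ℂ) y =
            (κ' : Subgroup.centralizer ({z} : Set G) → ℂ) y := by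
  classical
  have := Fact.mk hM.1
  obtain ⟨hHc, -, hmaxH, -, hTH⟩ := Watanabe.blk_in hM hmax hab hz
  set H := Subgroup.centralizer ({z} : Set G) with hH
  set b := blk hM hmax hab hz with hb'
  have hPH : P ≤ H := fun w hw => Subgroup.mem_centralizer_singleton_iff.2 (hab w hw z hz)
  have habH : ∀ a ∈ P.subgroupOf H, ∀ b ∈ P.subgroupOf H, a * b = b * a := fun a ha b hb =>
    Subtype.ext (hab _ ha _ hb)
  have hst : pairStab M (P.subgroupOf H) (subBlock hHc c) ≤
      Subgroup.centralizer ((P.subgroupOf H : Subgroup H) : Set H) := fun t ht =>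
    (((cenEq_iff _ P).1 hHc).2 t).2 (hfix _ ((hTH t).1 ht)
      (mul_inv_eq_iff_eq_mul.2 (Subgroup.mem_centralizer_singleton_iff.1 t.2)))
  obtain ⟨hcard, hrk⟩ := Contribution.nilpotent_counts hM hmaxH habH hst
  have hcard' : Nat.card b = Nat.card P := by
    rw [hcard]
    exact Nat.card_congr (Subgroup.subgroupOfEquivOfLe hPH).toEquiv
  refine ⟨hrk, hcard', ?_⟩
  exact equal_regular hM hmaxH habH hst

/-- **The values at the image.** -/
theorem values [Fintype (Subgroup.centralizer ({z} : Set G))] :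
    (∀ κ ∉ blk hM hmax hab hz, val ((κ : IrrCharacter (Subgroup.centralizer ({z} : Set G))) :
        Subgroup.centralizer ({z} : Set G) → ℂ)
        (resSub (Subgroup.centralizer ({z} : Set G)) (j : MonoidAlgebra (kres M) G)) = 0) ∧
      ∀ κ ∈ blk hM hmax hab hz, val ((κ : IrrCharacter (Subgroup.centralizer ({z} : Set G))) :
          Subgroup.centralizer ({z} : Set G) → ℂ)
          (resSub (Subgroup.centralizer ({z} : Set G)) (j : MonoidAlgebra (kres M) G)) =
        (top (resSub (Subgroup.centralizer ({z} : Set G)) (j : MonoidAlgebra (kres M) G)) : ℂ) := by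
  classical
  set x := resSub (cs z) (j : MonoidAlgebra (kres M) G) with hx
  have hxx := res_idem hM hmax hab hj.1 hz (j := j)
  have hout : ∀ κ : IrrCharacter (cs z), κ ∉ blk hM hmax hab hz → val (κ : (cs z) → ℂ) x = 0 := by
    intro κ hκ
    rw [val_blk hM (isPBlock_blockOf κ) κ hxx (mem_blockOf_self κ)]
    have h0 : (blkIdem M (blockOf M (κ : (cs z) → ℂ)) : MonoidAlgebra (kres M) (cs z)) * x = 0 := by
      by_contra h
      exact hκ (pure hM hmax hab hj hcrit hz (isPBlock_blockOf κ) h ▸ mem_blockOf_self κ)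
    rw [h0, val_zero hM (CfsgLib.Char.irr_isClassFunction κ.2)]
  refine ⟨hout, ?_⟩
  obtain ⟨-, -, hreg⟩ := blk_shape hM hmax hab hz hfix
  obtain ⟨κ₀, hκ₀⟩ := isPBlock_nonempty (blk_spec hM hmax hab hz).1.1
  obtain ⟨m, hm⟩ := exists_nat_val hM (CfsgLib.Char.irr_isCharacter κ₀.2) hxx
  have hin : ∀ κ ∈ blk hM hmax hab hz, val (κ : (cs z) → ℂ) x = (m : ℂ) := fun κ hκ => by
    rw [← hm]
    exact val_congr_regular hM (CfsgLib.Char.irr_isClassFunction κ.2)
      (CfsgLib.Char.irr_isClassFunction κ₀.2) hxx (hreg κ hκ κ₀ hκ₀)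
  intro κ hκ
  rw [hin κ hκ, top_eq (m := m) (fun η => ?_) ⟨κ₀, hm⟩]
  by_cases hη : η ∈ blk hM hmax hab hz
  · exact Or.inr (hin η hη)
  · exact Or.inl (hout η hη)

/-- **The trace is the multiplicity times the coordinate.** -/
theorem tval_eq [Fintype (Subgroup.centralizer ({z} : Set G))]
    {J : MonoidAlgebra (lring M) G} (hJ : J ∈ fixAlg (lring M) (P ⊔ ⊥) ⊤) (hJJ : J * J = J)
    (hJred : redG J = (j : MonoidAlgebra (kres M) G)) (χ : IrrCharacter G) :
    tval (χ : G → ℂ) z J = aSec z (blk hM hmax hab hz) (χ : G → ℂ) *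
      (top (resSub (Subgroup.centralizer ({z} : Set G)) (j : MonoidAlgebra (kres M) G)) : ℂ) := by
  classical
  have := Fact.mk hM.1
  have := Fintype.ofFinite (IrrCharacter (Subgroup.centralizer ({z} : Set G)))
  obtain ⟨i, hi⟩ := IsPGroup.iff_orderOf.1 hmax.1.1.1 ⟨z, hz⟩
  rw [Subgroup.orderOf_mk] at hi
  have hu : ∃ k : ℕ, orderOf z = p ^ k := ⟨i, hi⟩
  have hzP : Subgroup.zpowers z ≤ P := Subgroup.zpowers_le.2 hz
  have hp1 : ¬ p ∣ orderOf (1 : G) := by rw [orderOf_one]; exact hM.1.not_dvd_one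
  -- a lift supported in the centralizer
  have hbr : ∀ g ∉ (cen (Subgroup.zpowers z)),
      (br (Subgroup.zpowers z) (j : MonoidAlgebra (kres M) G)).coeff g = 0 := br_supp _ _
  have hbri : br (Subgroup.zpowers z) (j : MonoidAlgebra (kres M) G) *
      br (Subgroup.zpowers z) (j : MonoidAlgebra (kres M) G) =
      br (Subgroup.zpowers z) (j : MonoidAlgebra (kres M) G) := by
    rw [← br_mul hM (hmax.1.1.1.to_le hzP) (isPInv_mono (hzP.trans le_sup_left) j.2.1)
      (isPInv_mono (hzP.trans le_sup_left) j.2.1), ← MulMemClass.coe_mul, hj.1]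
  obtain ⟨e, he, hee, hred⟩ := exists_lift hM (isPInv_bot _) hbr hbri
  have hY : Subgroup.zpowers z ⊔ Subgroup.zpowers (1 : G) = Subgroup.zpowers z := by simp
  have h1 := tval_congr hM (CfsgLib.Char.irr_isClassFunction χ.2) hu hp1 (Commute.one_right z)
    (e := J) (f := e) (mem_fixAlg_top.2 (by rw [hY]; exact isPInv_mono' (hzP.trans le_sup_left) hJ.1))
    (mem_fixAlg_top.2 (by rw [hY]; exact isPInv_of_supp he.2)) hJJ hee
    (by rw [hJred, hred, br_br le_rfl])
  simp only [mul_one] at h1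
  rw [h1]
  -- inside the centralizer
  have hsupp : ∀ g ∉ (cs z), e.coeff g = 0 := fun g hg =>
    he.2 g (by rwa [cen_zpowers])
  set eH : MonoidAlgebra (lring M) (cs z) := resSub (cs z) e with heH
  have hincl : inclSub (cs z) eH = e := by
    ext g
    by_cases hg : g ∈ (cs z)
    · rw [show g = ((⟨g, hg⟩ : (cs z)) : G) from rfl, coeff_inclSub_of_mem, heH, coeff_resSub]
    · rw [coeff_inclSub_of_not_mem _ _ hg, hsupp g hg]
  have heHH : eH * eH = eH := by
    have h := congrArg (resSub (cs z)) (show inclSub (cs z) (eH * eH) = inclSub (cs z) eH by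
      rw [map_mul, hincl, hee])
    rwa [resSub_inclSub, resSub_inclSub] at h
  have hredH : redG eH = resSub (cs z) (j : MonoidAlgebra (kres M) G) := by
    ext h
    rw [coeff_redG, heH, coeff_resSub, coeff_resSub, ← coeff_redG, hred, coeff_br,
      if_pos (by rw [cen_zpowers]; exact h.2)]
  obtain ⟨hout, hin⟩ := values hM hmax hab hj hcrit hz hfix
  calc tval (χ : G → ℂ) z e
      = ∑ k : (cs z), ((eH.coeff k : lring M) : ℂ) * (χ : G → ℂ) (z * (k : G)) := by
        rw [tval, ← Finset.sum_subset (Finset.subset_univ (Finset.univ.filter (· ∈ (cs z))))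
          (fun g _ hg => by rw [hsupp g (by simpa using hg)]; simp),
          Finset.sum_subtype _ (p := (· ∈ (cs z))) (by simp)]
        refine Finset.sum_congr rfl fun k _ => ?_
        rw [heH, coeff_resSub, Subgroup.mem_centralizer_singleton_iff.1 k.2]
    _ = ∑ κ : IrrCharacter (cs z), (classInner (fun k : (cs z) => (χ : G → ℂ) k) (κ : (cs z) → ℂ) *
          ((κ : (cs z) → ℂ) ⟨z, Subgroup.mem_centralizer_singleton_iff.2 rfl⟩ / (κ : (cs z) → ℂ) 1)) *
          val (κ : (cs z) → ℂ) (resSub (cs z) (j : MonoidAlgebra (kres M) G)) := by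
        simp only [shift_eq_sum z χ, Finset.mul_sum]
        rw [Finset.sum_comm]
        refine Finset.sum_congr rfl fun κ _ => ?_
        rw [val_eq hM (CfsgLib.Char.irr_isClassFunction κ.2) heHH hredH, tval, Finset.mul_sum]
        refine Finset.sum_congr rfl fun k _ => ?_
        rw [mul_one]
        ring
    _ = _ := by
        rw [aSec, Finset.sum_mul, ← Finset.sum_subset
          (Finset.subset_univ (blk hM hmax hab hz).toFinite.toFinset) fun κ _ hκ => by
            rw [hout κ (by simpa using hκ), mul_zero]]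
        exact Finset.sum_congr rfl fun κ hκ => by
          rw [hin κ ((Set.Finite.mem_toFinset _).1 hκ)]

omit hj hcrit in
/-- The block part at regular elements. -/
theorem blockPart_eq [Fintype (Subgroup.centralizer ({z} : Set G))] (χ : IrrCharacter G)
    {κ₀ : IrrCharacter (Subgroup.centralizer ({z} : Set G))} (hκ₀ : κ₀ ∈ blk hM hmax hab hz)
    {y : Subgroup.centralizer ({z} : Set G)} (hy : ¬ p ∣ orderOf y) :
    blockPart (blk hM hmax hab hz)
        (fun k : Subgroup.centralizer ({z} : Set G) => (χ : G → ℂ) (z * (k : G))) y =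
      aSec z (blk hM hmax hab hz) (χ : G → ℂ) *
        (κ₀ : Subgroup.centralizer ({z} : Set G) → ℂ) y := by
  classical
  have := Fintype.ofFinite (IrrCharacter (Subgroup.centralizer ({z} : Set G)))
  obtain ⟨-, -, hreg⟩ := blk_shape hM hmax hab hz hfix
  rw [funext fun k => shift_eq_sum z χ k, blockPart_sum_smul, aSec, Finset.sum_mul,
    ← Finset.sum_subset (Finset.subset_univ (blk hM hmax hab hz).toFinite.toFinset) fun κ _ hκ => by
      rw [blockPart_irr, if_neg (by simpa using hκ), mul_zero]]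
  refine Finset.sum_congr rfl fun κ hκ => ?_
  rw [Set.Finite.mem_toFinset] at hκ
  rw [blockPart_irr, if_pos hκ, hreg κ hκ κ₀ hκ₀ y hy]

omit hj hcrit in
/-- **The contributions.** -/
theorem con_eq [Fintype (Subgroup.centralizer ({z} : Set G))] (χ ξ : IrrCharacter G) :
    Contribution.con hM hmax hab ⟨z, hz⟩ χ ξ = (Nat.card P : ℂ)⁻¹ *
      (aSec z (blk hM hmax hab hz) (χ : G → ℂ) *
        conj (aSec z (blk hM hmax hab hz) (ξ : G → ℂ))) := by
  classical
  have := Fact.mk hM.1
  obtain ⟨hrk, hcard, hreg⟩ := blk_shape hM hmax hab hz hfix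
  have hb := (blk_spec hM hmax hab hz).1.1
  obtain ⟨κ₀, hκ₀⟩ := isPBlock_nonempty hb
  set X := (Nat.card (cs z) : ℂ)⁻¹ *
    ∑ y : (cs z) with ¬ p ∣ orderOf y, (κ₀ : (cs z) → ℂ) y * conj ((κ₀ : (cs z) → ℂ) y) with hXdef
  have hX : (Nat.card P : ℂ) * X = 1 := by
    have h := blockRank_eq_sum hM hb
    rw [hrk, Nat.cast_one, Finset.sum_congr rfl (g := fun _ => X) (fun κ hκ => ?_),
      Finset.sum_const, nsmul_eq_mul, ← Nat.card_eq_card_finite_toFinset, hcard] at h
    · exact h.symm
    · rw [Set.Finite.mem_toFinset] at hκ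
      rw [CfsgLib.Char.classInner_def, hXdef, Finset.sum_filter]
      refine congrArg _ (Finset.sum_congr (by ext; simp) fun y _ => ?_)
      simp only [regInd]
      by_cases hy : p ∣ orderOf y
      · rw [if_pos hy, if_neg (not_not.2 hy), zero_mul, zero_mul]
      · rw [if_neg hy, if_pos hy, one_mul, hreg κ hκ κ₀ hκ₀ y hy]
  have hP0 : (Nat.card P : ℂ) ≠ 0 := Nat.cast_ne_zero.2 Nat.card_pos.ne'
  rw [show (Nat.card P : ℂ)⁻¹ = X by rw [inv_eq_iff_eq_inv, ← eq_inv_of_mul_eq_one_left hX],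
    Contribution.con, Contribution.secPair, hXdef, mul_assoc, Finset.sum_mul]
  refine congrArg _ (Finset.sum_congr (by ext; simp) fun y hy => ?_)
  have hy' : ¬ p ∣ orderOf y := by simpa using hy
  rw [blockPart_eq hM hmax hab hz hfix χ hκ₀ hy', blockPart_eq hM hmax hab hz hfix ξ hκ₀ hy',
    map_mul]
  ring

end Free

omit hj hcrit in
/-- **Nilpotent blocks: the coordinates have absolute value one.** -/
theorem aSec_unimodular (hst : pairStab M P c ≤ Subgroup.centralizer (P : Set G)) {z : G}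
    (hz : z ∈ P) [Fintype (Subgroup.centralizer ({z} : Set G))] {χ : IrrCharacter G} (hχ : χ ∈ B) :
    aSec z (blk hM hmax hab hz) (χ : G → ℂ) *
      conj (aSec z (blk hM hmax hab hz) (χ : G → ℂ)) = 1 := by
  classical
  have := Fact.mk hM.1
  have := Fintype.ofFinite (IrrCharacter P)
  have hfix : ∀ t ∈ pairStab M P c, t * z * t⁻¹ = z → t ∈ Subgroup.centralizer (P : Set G) :=
    fun t ht _ => hst ht
  have hnil := (nilpotent_iff_abelian hM hmax hab).2 hst
  obtain ⟨ψ, hψ, h0⟩ := exists_height_zero hM hmax.1.2.1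
  obtain ⟨Φ, hΦ⟩ := exists_star_equiv hM hmax hnil hψ h0
  obtain ⟨i, hi⟩ := IsPGroup.iff_orderOf.1 hmax.1.1.1 ⟨z, hz⟩
  rw [Subgroup.orderOf_mk] at hi
  obtain ⟨fb, -, hfb⟩ := exists_below hM hmax hz
  have hrep : Rep p M P c z
      (subgroupBlockCoeff (Subgroup.centralizer ({z} : Set G)) (blk hM hmax hab hz)) ⟨z, hz⟩ :=
    ⟨1, fb, by simp, hfb, by
      rw [beta_eq_of_below hM hmax hz rfl hfb, conjFun_one, (blk_spec hM hmax hab hz).2]⟩
  obtain ⟨κ₀, hκ₀⟩ := isPBlock_nonempty (blk_spec hM hmax hab hz).1.1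
  have hp1 : ¬ p ∣ orderOf (1 : Subgroup.centralizer ({z} : Set G)) := by
    rw [orderOf_one]; exact hM.1.not_dvd_one
  set a := fun χ : IrrCharacter G => aSec z (blk hM hmax hab hz) (χ : G → ℂ) with ha
  have hmul : ∀ ζ : IrrCharacter P, a (Φ ζ : B) = (ζ : P → ℂ) ⟨z, hz⟩ * a ψ := by
    intro ζ
    have hstab := isStable_of_nilpotent hM hmax hnil (CfsgLib.Char.irr_isClassFunction ζ.2)
    have h := blockPart_star hM hmax (χ := ψ) hstab (hΦ ζ) ⟨i, hi⟩
      (blk_spec hM hmax hab hz).1.1 hp1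
    rw [L_eq hM hmax.1.1 hstab hrep, blockPart_eq hM hmax hab hz hfix _ hκ₀ hp1,
      blockPart_eq hM hmax hab hz hfix _ hκ₀ hp1, ← mul_assoc] at h
    exact mul_right_cancel₀ (CfsgLib.Char.irr_apply_one_ne_zero κ₀.2) h
  have hone : ∀ ζ : IrrCharacter P, (ζ : P → ℂ) ⟨z, hz⟩ * conj ((ζ : P → ℂ) ⟨z, hz⟩) = 1 := by
    intro ζ
    obtain ⟨μ, hμ⟩ := CfsgLib.Char.exists_hom_of_degree_one (CfsgLib.Char.irr_isCharacter ζ.2)
      (CfsgLib.Char.irr_degree_one_of_comm (fun a b => Subtype.ext (hab a a.2 b b.2)) ζ.2)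
    rw [hμ]
    simp only
    rw [CfsgLib.Char.conj_linear_apply, MonoidHom.inv_apply, Units.mul_inv]
  have hall : ∀ χ ∈ B, a χ * conj (a χ) = a ψ * conj (a ψ) := by
    intro χ hχ
    obtain ⟨ζ, hζ⟩ := Φ.surjective ⟨χ, hχ⟩
    rw [show χ = ((Φ ζ : B) : IrrCharacter G) from (congrArg Subtype.val hζ).symm, hmul, map_mul,
      mul_mul_mul_comm, hone, one_mul]
  have hsum := Contribution.sum_con_self hM hmax hab ⟨z, hz⟩
  rw [Finset.sum_congr rfl (g := fun _ => (Nat.card P : ℂ)⁻¹ * (a ψ * conj (a ψ)))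
      (fun χ hχ => by
        rw [con_eq hM hmax hab hz hfix χ χ, ← hall χ (B.toFinite.mem_toFinset.1 hχ)]),
    Finset.sum_const, nsmul_eq_mul, ← Nat.card_eq_card_finite_toFinset,
    (Contribution.nilpotent_counts hM hmax hab hst).1, ← mul_assoc,
    mul_inv_cancel₀ (Nat.cast_ne_zero.2 Nat.card_pos.ne'), one_mul,
    show AbelianTrace.rk hM hmax hab ⟨z, hz⟩ = 1 by
      show ((blockRank p (blk hM hmax hab hz) : ℕ) : ℂ) = 1
      rw [(blk_shape hM hmax hab hz hfix).1, Nat.cast_one]] at hsum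
  exact (hall χ hχ).trans hsum

end CfsgLib.BlockA.FreeSignDatum
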