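import Cfsg.Agent.Lib.BlockA.FreeSignDatum
import Cfsg.Agent.Lib.BlockA.FreeSignAlg

/-!
The multiplicities of a primitive fixed idempotent at the subgroups of an abelian defect group with
free stabilizer: they are `p`-units at the top, invariant under the stabilizer, and each gives a
level in the sense of the sign lemma.
-/

set_option autoImplicit false
set_option linter.unusedSectionVars false
set_option maxHeartbeats 1000000

namespace CfsgLib.BlockA.FreeSignLevels

open Cfsg CfsgLib.Block CfsgLib.BlockA CfsgLib.BlockB CfsgLib.BlockB.StarBr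
  CfsgLib.BlockB.StarPurity CfsgLib.BlockB.StarLift CfsgLib.BlockB.StarTrace AbelianSub AbelianTrace
  FreeSignVal FreeSignDatum MonoidAlgebra
open scoped ComplexConjugate

universe u

variable {p : ℕ} {M : Ideal AlgInt} [M.IsPrime]

theorem coeff_mapDom {R : Type*} [CommRing R] {H K : Type u} [Group H] [Group K] (σ : H ≃* K)
    (z : MonoidAlgebra R H) (h : H) :
    (mapDomainRingHom R σ.toMonoidHom z).coeff (σ h) = z.coeff h := by
  simp [MonoidAlgebra.mapDomainRingHom, Finsupp.mapDomain_apply σ.injective]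

/-- The largest value under isomorphisms. -/
theorem top_equiv (hM : IsPModular p M) {H K : Type u} [Group H] [Group K] [Fintype H] [Fintype K]
    (σ : H ≃* K) {x : MonoidAlgebra (kres M) H} (hxx : x * x = x) :
    top (mapDomainRingHom (kres M) σ.toMonoidHom x) = top x := by
  unfold top
  congr 1
  conv_rhs => rw [← Function.Surjective.range_comp
    (fun ξ => ⟨irrMap σ.symm ξ, irrMap_irrMap_symm σ ξ⟩ : Function.Surjective (irrMap σ))]
  congr 1
  funext κ
  simp only [Function.comp_apply]
  rw [← val_map hM σ (CfsgLib.Char.irr_isClassFunction κ.2) hxx]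
  rfl

variable {G : Type u} [Group G] [Fintype G]

local notation "cen" Q => Subgroup.centralizer ((Q : Subgroup G) : Set G)

/-- The multiplicity at a subgroup. -/
noncomputable def mult (j : MonoidAlgebra (kres M) G) (R : Subgroup G) : ℕ :=
  haveI := Fintype.ofFinite (Subgroup.centralizer (R : Set G))
  top (resSub (cen R) j)

theorem mult_eq (j : MonoidAlgebra (kres M) G) (R : Subgroup G)
    [Fintype (Subgroup.centralizer (R : Set G))] : mult j R = top (resSub (cen R) j) := by
  unfold mult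
  congr!

theorem mult_eq_of_eq (j : MonoidAlgebra (kres M) G) {R : Subgroup G} {H : Subgroup G} [Fintype H]
    (h : H = cen R) : mult j R = top (resSub H j) := by
  subst h
  exact mult_eq j R

theorem mem_cen_iff {S : Subgroup G} {g : G} : g ∈ (cen S) ↔ S ≤ Subgroup.centralizer {g} := by
  rw [Subgroup.mem_centralizer_iff]
  exact ⟨fun h s hs => Subgroup.mem_centralizer_singleton_iff.2 (h s hs),
    fun h s hs => Subgroup.mem_centralizer_singleton_iff.1 (h hs)⟩

variable {B : Set (IrrCharacter G)} {P : Subgroup G}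
  {c : Set (IrrCharacter (Subgroup.centralizer (P : Set G)))}
variable (hM : IsPModular p M) (hmax : IsMaximalBrauerPair p M B P c)
  (hab : ∀ v ∈ P, ∀ w ∈ P, v * w = w * v)
include hM hmax hab

theorem le_cen {R : Subgroup G} (hR : R ≤ P) : P ≤ cen R := fun v hv =>
  Subgroup.mem_centralizer_iff.2 fun w hw => hab w (hR hw) v hv

/-- **The block of the centralizer of the defect group.** -/
theorem top_shape [Fintype (Subgroup.centralizer (P : Set G))] :
    blockRank p c = 1 ∧ Nat.card c = Nat.card P ∧ p ^ blockDefect p c = Nat.card P ∧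
      ∀ κ ∈ c, ∀ κ' ∈ c, ∀ y : Subgroup.centralizer (P : Set G), ¬ p ∣ orderOf y →
        (κ : Subgroup.centralizer (P : Set G) → ℂ) y =
          (κ' : Subgroup.centralizer (P : Set G) → ℂ) y := by
  classical
  have := Fact.mk hM.1
  obtain ⟨h, -, hmaxH, -, hTH⟩ := Watanabe.below_in hM hmax hab (rfl : (cen P) = cen P) le_rfl
    Relation.ReflTransGen.refl hmax.1.1.2 rfl
  have hPH := le_cen hM hmax hab (le_refl P)
  have habH : ∀ a ∈ P.subgroupOf (cen P), ∀ b ∈ P.subgroupOf (cen P), a * b = b * a :=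
    fun a ha b hb => Subtype.ext (hab _ ha _ hb)
  have hst : pairStab M (P.subgroupOf (cen P)) (subBlock h c) ≤
      Subgroup.centralizer ((P.subgroupOf (cen P) : Subgroup (cen P)) : Set (cen P)) := fun t _ =>
    (((cenEq_iff _ P).1 h).2 t).2 t.2
  obtain ⟨hcard, hrk⟩ := Contribution.nilpotent_counts hM hmaxH habH hst
  have hQ : Nat.card (P.subgroupOf (cen P)) = Nat.card P :=
    Nat.card_congr (Subgroup.subgroupOfEquivOfLe hPH).toEquiv
  refine ⟨hrk, hcard.trans hQ, ?_, equal_regular hM hmaxH habH hst⟩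
  rw [← hQ, natCard_defectGroup hM hmaxH.1.2.1 (maximal_core hM hmaxH).1]

/-- **The datum at a subgroup.** -/
theorem exists_level {R : Subgroup G} [Fintype (Subgroup.centralizer (R : Set G))] (hR : R ≤ P)
    (hfix : ∀ t ∈ pairStab M P c, t ∈ (cen R) → t ∈ Subgroup.centralizer (P : Set G))
    {j : fixAlg (kres M) (P ⊔ ⊥) ⊤} (hj : IsPrim j) (hcrit : FreeSignPrim.Crit c j) :
    ∃ (b : Set (IrrCharacter (Subgroup.centralizer (R : Set G))))
      (hcenEq : CenEq (P.subgroupOf (cen R)) P)
      (jH : fixAlg (kres M) (P.subgroupOf (cen R) ⊔ ⊥) ⊤),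
      IsMaximalBrauerPair p M b (P.subgroupOf (cen R)) (subBlock hcenEq c) ∧
      (jH : MonoidAlgebra (kres M) (cen R)) = resSub (cen R) (j : MonoidAlgebra (kres M) G) ∧
      IsPrim jH ∧ FreeSignPrim.Crit (subBlock hcenEq c) jH ∧
      pairStab M (P.subgroupOf (cen R)) (subBlock hcenEq c) ≤
        Subgroup.centralizer ((P.subgroupOf (cen R) : Subgroup (cen R)) : Set (cen R)) := by
  classical
  obtain ⟨g, hg, hgle⟩ := exists_subpair hM hmax.1.1 _ R hR rfl
  obtain ⟨h, -, hmaxH, -, hTH⟩ := Watanabe.below_in hM hmax hab (rfl : (cen R) = cen R) hR hgle hg rfl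
  have hPR := le_cen hM hmax hab hR
  have hinv : IsPInv (P.subgroupOf (cen R) ⊔ ⊥)
      (resSub (cen R) (j : MonoidAlgebra (kres M) G)) := by
    rw [sup_bot_eq]
    intro v hv x
    rw [coeff_resSub, coeff_resSub]
    exact j.2.1 (v : G) (Subgroup.mem_sup_left (Subgroup.mem_subgroupOf.1 hv)) (x : G)
  refine ⟨g, h, ⟨_, mem_fixAlg_top.2 hinv⟩, hmaxH, rfl, ?_, ?_, fun t ht => ?_⟩
  rotate_left 2
  · exact (((cenEq_iff _ P).1 h).2 t).2 (hfix _ ((hTH t).1 ht) t.2)
  · -- primitive
    refine FreeSignPrim.isPrim_res hM hmax.1.1.1 hR hPR hj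
      (jH := ⟨_, mem_fixAlg_top.2 hinv⟩) rfl ?_
    intro h0
    refine hcrit ?_
    have hz : resSub (cen P) (j : MonoidAlgebra (kres M) G) = 0 := by
      ext x
      rw [coeff_resSub]
      have hx : (x : G) ∈ cen R := Subgroup.centralizer_le (by exact_mod_cast hR) x.2
      have := congrArg (fun z : MonoidAlgebra (kres M) (cen R) => z.coeff ⟨x, hx⟩) h0
      simpa [FreeSignPrim.res_apply] using this
    rw [hz, mul_zero]
  · -- criterion
    intro h0
    refine hcrit ?_
    have h1 := congrArg (mapDomainRingHom (kres M) (cenIso h).toMonoidHom) h0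
    rw [map_mul, map_zero] at h1
    convert h1 using 2
    · ext x
      obtain ⟨y, rfl⟩ := (cenIso h).surjective x
      rw [coeff_mapDom, coeff_blkIdem, coeff_blkIdem, subBlock, blockCoeff_blockMap]
    · ext x
      obtain ⟨y, rfl⟩ := (cenIso h).surjective x
      rw [coeff_mapDom, coeff_resSub, coeff_resSub, coeff_resSub, coe_cenIso]

section Free

variable (hfree : ∀ t ∈ pairStab M P c, ∀ v ∈ P, v ≠ 1 → t * v * t⁻¹ = v →
    t ∈ Subgroup.centralizer (P : Set G))
  {j : fixAlg (kres M) (P ⊔ ⊥) ⊤} (hj : IsPrim j) (hcrit : FreeSignPrim.Crit c j)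
include hfree hj hcrit

omit hj hcrit in
theorem fix_of_ne_bot {R : Subgroup G} (hR : R ≤ P) (h : R ≠ ⊥ ∨ R = P) :
    ∀ t ∈ pairStab M P c, t ∈ (cen R) → t ∈ Subgroup.centralizer (P : Set G) := by
  intro t ht htR
  rcases h with h | h
  · obtain ⟨v, hv, hv1⟩ := R.nontrivial_iff_exists_ne_one.1 ((Subgroup.nontrivial_iff_ne_bot R).2 h)
    exact hfree t ht v (hR hv) hv1 (by
      rw [Subgroup.mem_centralizer_iff.1 htR v hv |>.symm, mul_inv_cancel_right])
  · exact h ▸ htR

/-- The image in the centralizer is idempotent. -/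
theorem res_idem {R : Subgroup G} (hR : R ≤ P) :
    resSub (cen R) (j : MonoidAlgebra (kres M) G) * resSub (cen R) (j : MonoidAlgebra (kres M) G) =
      resSub (cen R) (j : MonoidAlgebra (kres M) G) := by
  rw [← FreeSignPrim.res_apply hM hmax.1.1.1 hR, ← map_mul, hj.1]

/-- **The levels.** -/
theorem exists_level_char {R : Subgroup G} (hR : R ≤ P) (hRb : R ≠ ⊥) :
    ∃ U g : P → ℂ, IsCharacter P U ∧ (∀ v, IsIntegral ℤ (g v)) ∧
      (∀ v, g v * conj (g v) = 1) ∧
      ∀ v : P, U v = g v * (mult (j : MonoidAlgebra (kres M) G) (R ⊔ Subgroup.zpowers (v : G)) : ℂ) := by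
  classical
  have := Fintype.ofFinite (Subgroup.centralizer (R : Set G))
  obtain ⟨b, hcE, jH, hmaxH, hjH, hprim, hcritH, hst⟩ :=
    exists_level hM hmax hab hR (fix_of_ne_bot hM hmax hab hfree hR (Or.inl hRb)) hj hcrit
  have hPH : P ≤ (cen R) := le_cen hM hmax hab hR
  have habH : ∀ a ∈ P.subgroupOf (cen R), ∀ b ∈ P.subgroupOf (cen R), a * b = b * a := fun a ha b hb =>
    Subtype.ext (hab _ ha _ hb)
  let ι : P ≃* P.subgroupOf (cen R) := (Subgroup.subgroupOfEquivOfLe hPH).symm
  obtain ⟨J, hJ, hJJ, hJred⟩ := exists_lift hM (Y := P.subgroupOf (cen R) ⊔ ⊥) (H := ⊤)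
    (mem_fixAlg_top.1 jH.2) (fun x hx => absurd (Subgroup.mem_top x) hx)
    (congrArg Subtype.val hprim.1)
  obtain ⟨ψ, hψ⟩ := isPBlock_nonempty hmaxH.1.2.1
  have hU := exists_char_tval (CfsgLib.Char.irr_isCharacter ψ.2) (P := P.subgroupOf (cen R))
    (isPInv_mono' le_sup_left hJ.1) hJJ
  refine ⟨fun v => tval (ψ : (cen R) → ℂ) ((ι v : P.subgroupOf (cen R)) : (cen R)) J,
    fun v => aSec (((ι v : P.subgroupOf (cen R)) : (cen R))) (blk hM hmaxH habH (ι v).2) (ψ : (cen R) → ℂ),
    CfsgLib.Char.isCharacter_comp hU ι.toMonoidHom, fun v => aSec_isIntegral _ _ ψ,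
    fun v => aSec_unimodular hM hmaxH habH hst (ι v).2 hψ, fun v => ?_⟩
  show tval (ψ : (cen R) → ℂ) ((ι v : P.subgroupOf (cen R)) : (cen R)) J = _
  rw [tval_eq hM hmaxH habH hprim hcritH (ι v).2 (fun t ht _ => hst ht) hJ hJJ hJred ψ]
  congr 2
  -- the multiplicity
  set w : (cen R) := ((ι v : P.subgroupOf (cen R)) : (cen R)) with hw
  have hwv : (w : G) = v := rfl
  set R' := R ⊔ Subgroup.zpowers (v : G) with hR'
  have hR'P : R' ≤ P := sup_le hR (Subgroup.zpowers_le.2 v.2)
  have := Fintype.ofFinite (Subgroup.centralizer (R' : Set G))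
  have hmem : ∀ k : (cen R), k ∈ Subgroup.centralizer ({w} : Set (cen R)) ↔ (k : G) ∈ cen R' := fun k => by
    rw [mem_cen_iff, hR', sup_le_iff, ← mem_cen_iff, Subgroup.zpowers_le,
      Subgroup.mem_centralizer_singleton_iff, Subgroup.mem_centralizer_singleton_iff,
      Subtype.ext_iff, Subgroup.coe_mul, Subgroup.coe_mul, hwv]
    exact ⟨fun h => ⟨k.2, h.symm⟩, fun h => h.2.symm⟩
  let σ : Subgroup.centralizer ({w} : Set (cen R)) ≃* (cen R') :=
    { toFun := fun k => ⟨((k : (cen R)) : G), (hmem k).1 k.2⟩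
      invFun := fun g => ⟨⟨(g : G), Subgroup.centralizer_le
          (show (R : Set G) ⊆ (R' : Set G) from SetLike.coe_subset_coe.2 le_sup_left) g.2⟩,
        (hmem _).2 g.2⟩
      left_inv := fun _ => rfl
      right_inv := fun _ => rfl
      map_mul' := fun _ _ => rfl }
  rw [mult_eq, ← top_equiv hM σ (FreeSignDatum.res_idem hM hmaxH habH hprim.1 (ι v).2)]
  congr 1
  ext x
  obtain ⟨y, rfl⟩ := σ.surjective x
  rw [coeff_mapDom, coeff_resSub, hjH, coeff_resSub, coeff_resSub]
  rfl

/-- **Invariance.** -/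
theorem mult_conj {t : G} (ht : t ∈ pairStab M P c) {R : Subgroup G} (hR : R ≤ P) :
    mult (j : MonoidAlgebra (kres M) G) (R.map (MulAut.conj t).toMonoidHom) =
      mult (j : MonoidAlgebra (kres M) G) R := by
  classical
  have := Fact.mk hM.1
  set R' := R.map (MulAut.conj t).toMonoidHom with hR'
  have := Fintype.ofFinite (Subgroup.centralizer (R : Set G))
  have := Fintype.ofFinite (Subgroup.centralizer (R' : Set G))
  have := Fintype.ofFinite (Subgroup.centralizer (P : Set G))
  have hnorm := pairStab_le P c ht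
  have hR'P : R' ≤ P := by
    rintro _ ⟨x, hx, rfl⟩
    exact (Subgroup.mem_normalizer_iff.1 hnorm x).1 (hR hx)
  -- the conjugate idempotent
  have hinv : IsPInv (P ⊔ ⊥) (conjGA t (j : MonoidAlgebra (kres M) G)) := by
    intro v hv x
    replace hv : v ∈ P := by rwa [sup_bot_eq] at hv
    have hv' : t⁻¹ * v * t ∈ P := by
      have := (Subgroup.mem_normalizer_iff.1 (inv_mem hnorm) v).1 hv
      simpa using this
    rw [coeff_conjGA, coeff_conjGA,
      ← j.2.1 (t⁻¹ * v * t) (Subgroup.mem_sup_left hv') (t⁻¹ * x * t)]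
    congr 1
    group
  set j' : fixAlg (kres M) (P ⊔ ⊥) ⊤ := ⟨_, mem_fixAlg_top.2 hinv⟩ with hj'
  have hback : ∀ z : MonoidAlgebra (kres M) G, conjGA t⁻¹ (conjGA t z) = z := fun z => by
    rw [conjGA_conjGA, inv_mul_cancel]; ext g; simp
  have hforth : ∀ z : MonoidAlgebra (kres M) G, conjGA t (conjGA t⁻¹ z) = z := fun z => by
    rw [conjGA_conjGA, mul_inv_cancel]; ext g; simp
  have hinv' : ∀ e : fixAlg (kres M) (P ⊔ ⊥) ⊤,
      IsPInv (P ⊔ ⊥) (conjGA t⁻¹ (e : MonoidAlgebra (kres M) G)) := by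
    intro e v hv x
    replace hv : v ∈ P := by rwa [sup_bot_eq] at hv
    rw [coeff_conjGA, coeff_conjGA, inv_inv,
      ← e.2.1 (t * v * t⁻¹) (Subgroup.mem_sup_left ((Subgroup.mem_normalizer_iff.1 hnorm v).1 hv))
        (t * x * t⁻¹)]
    congr 1
    group
  have hprim' : IsPrim j' := by
    refine ⟨Subtype.ext ?_, fun h => hj.2.1 ?_, fun e he hje hej => ?_⟩
    · show conjGA t _ * conjGA t _ = conjGA t _
      rw [← conjGA_mul, ← MulMemClass.coe_mul, hj.1]
    · refine Subtype.ext ?_
      have h1 := congrArg (fun z : fixAlg (kres M) (P ⊔ ⊥) ⊤ =>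
        conjGA t⁻¹ (z : MonoidAlgebra (kres M) G)) h
      simpa [hj', hback, conjGA_zero] using h1
    · set e' : fixAlg (kres M) (P ⊔ ⊥) ⊤ := ⟨_, mem_fixAlg_top.2 (hinv' e)⟩ with he'
      have h1 : e' * e' = e' := Subtype.ext (by
        show conjGA t⁻¹ _ * conjGA t⁻¹ _ = _
        rw [← conjGA_mul, ← MulMemClass.coe_mul, he])
      have h2 : j * e' = e' := Subtype.ext (by
        show (j : MonoidAlgebra (kres M) G) * conjGA t⁻¹ _ = conjGA t⁻¹ _
        conv_lhs => arg 1; rw [← hback (j : MonoidAlgebra (kres M) G)]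
        rw [← conjGA_mul]
        exact congrArg (conjGA t⁻¹) (congrArg Subtype.val hje))
      have h3 : e' * j = e' := Subtype.ext (by
        show conjGA t⁻¹ _ * (j : MonoidAlgebra (kres M) G) = conjGA t⁻¹ _
        conv_lhs => arg 2; rw [← hback (j : MonoidAlgebra (kres M) G)]
        rw [← conjGA_mul]
        exact congrArg (conjGA t⁻¹) (congrArg Subtype.val hej))
      rcases hj.2.2 e' h1 h2 h3 with h | h
      · refine Or.inl (Subtype.ext ?_)
        have h4 := congrArg (fun z : fixAlg (kres M) (P ⊔ ⊥) ⊤ =>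
          conjGA t (z : MonoidAlgebra (kres M) G)) h
        simpa [he', hforth, conjGA_zero] using h4
      · refine Or.inr (Subtype.ext ?_)
        have h4 := congrArg (fun z : fixAlg (kres M) (P ⊔ ⊥) ⊤ =>
          conjGA t (z : MonoidAlgebra (kres M) G)) h
        simpa [he', hj', hforth] using h4
  have hcenP : ∀ x : G, x ∈ (cen P) ↔ t⁻¹ * x * t ∈ cen P := by
    intro x
    have h := Subgroup.mem_normalizer_iff.1 hnorm
    rw [Subgroup.mem_centralizer_iff, Subgroup.mem_centralizer_iff]
    refine ⟨fun hx v hv => ?_, fun hx v hv => ?_⟩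
    · have := hx _ ((h v).1 hv)
      calc v * (t⁻¹ * x * t) = t⁻¹ * (t * v * t⁻¹ * x) * t := by group
        _ = t⁻¹ * (x * (t * v * t⁻¹)) * t := by rw [this]
        _ = t⁻¹ * x * t * v := by group
    · have hv' : t⁻¹ * v * t ∈ P := (h _).2 (by simpa [mul_assoc] using hv)
      have := hx _ hv'
      calc v * x = t * (t⁻¹ * v * t * (t⁻¹ * x * t)) * t⁻¹ := by group
        _ = t * (t⁻¹ * x * t * (t⁻¹ * v * t)) * t⁻¹ := by rw [this]
        _ = x * v := by group
  have hcrit' : FreeSignPrim.Crit c j' := by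
    intro h0
    refine hcrit (CfsgLib.BlockA.inclSub_injective _ ?_)
    have h1 := congrArg (inclSub (cen P)) h0
    rw [map_mul, map_zero] at h1 ⊢
    have h2 := congrArg (conjGA t⁻¹) h1
    rw [conjGA_mul, conjGA_zero] at h2
    convert h2 using 2
    · ext g
      rw [coeff_conjGA, inv_inv]
      exact (isPInv_sIdem_pairStab P c t ht g).symm
    · ext g
      rw [coeff_conjGA, inv_inv]
      by_cases hg : g ∈ cen P
      · have hg' : t * g * t⁻¹ ∈ cen P := (hcenP _).2 (by simpa [mul_assoc] using hg)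
        rw [show g = ((⟨g, hg⟩ : cen P) : G) from rfl, coeff_inclSub_of_mem]
        conv_rhs => rw [show t * g * t⁻¹ = ((⟨_, hg'⟩ : cen P) : G) from rfl, coeff_inclSub_of_mem,
          coeff_resSub]
        rw [coeff_resSub, hj', coeff_conjGA]
        congr 1
        simp [mul_assoc]
      · rw [coeff_inclSub_of_not_mem _ _ hg, coeff_inclSub_of_not_mem]
        exact fun h => hg (by simpa [mul_assoc] using (hcenP _).1 h)
  -- the equivalence
  have hrkc : blockRank p c = 1 := (top_shape hM hmax hab).1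
  obtain ⟨a, b, hab', hba'⟩ := FreeSignPrim.exists_equiv_prim hM hmax.1.1.1 hmax.1.1.2 hab hrkc
    hj hprim' hcrit hcrit'
  -- swap
  set φ := FreeSignPrim.res hM hmax.1.1.1 hR'P with hφ
  have hswap : top (resSub (cen R') (j : MonoidAlgebra (kres M) G)) =
      top (resSub (cen R') (j' : MonoidAlgebra (kres M) G)) := by
    rw [← FreeSignPrim.res_apply hM hmax.1.1.1 hR'P, ← FreeSignPrim.res_apply hM hmax.1.1.1 hR'P,
      ← hab', ← hba', map_mul, map_mul]
    unfold top
    congr 1
    refine congrArg Set.range (funext fun κ => ?_)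
    rw [val_swap hM (CfsgLib.Char.irr_isClassFunction κ.2)
      (by rw [← map_mul, ← map_mul, hab', hj.1])
      (by rw [← map_mul, ← map_mul, hba', hprim'.1])]
  -- transport
  have hmemR : ∀ x : G, x ∈ (cen R') ↔ t⁻¹ * x * t ∈ cen R := by
    intro x
    rw [Subgroup.mem_centralizer_iff, Subgroup.mem_centralizer_iff]
    refine ⟨fun hx v hv => ?_, fun hx => ?_⟩
    · have := hx _ ⟨v, hv, rfl⟩
      simp only [MulEquiv.toMonoidHom_eq_coe, MonoidHom.coe_coe, MulAut.conj_apply] at this
      calc v * (t⁻¹ * x * t) = t⁻¹ * (t * v * t⁻¹ * x) * t := by group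
        _ = t⁻¹ * (x * (t * v * t⁻¹)) * t := by rw [this]
        _ = t⁻¹ * x * t * v := by group
    · rintro _ ⟨v, hv, rfl⟩
      simp only [MulEquiv.toMonoidHom_eq_coe, MonoidHom.coe_coe, MulAut.conj_apply]
      have := hx v hv
      calc t * v * t⁻¹ * x = t * (v * (t⁻¹ * x * t)) * t⁻¹ := by group
        _ = t * (t⁻¹ * x * t * v) * t⁻¹ := by rw [this]
        _ = x * (t * v * t⁻¹) := by group
  let σ : (cen R) ≃* (cen R') :=
    { toFun := fun k => ⟨t * (k : G) * t⁻¹, (hmemR _).2 (by simpa [mul_assoc] using k.2)⟩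
      invFun := fun g => ⟨t⁻¹ * (g : G) * t, (hmemR _).1 g.2⟩
      left_inv := fun k => Subtype.ext (by simp [mul_assoc])
      right_inv := fun g => Subtype.ext (by simp [mul_assoc])
      map_mul' := fun a b => Subtype.ext (by simp [mul_assoc]) }
  rw [mult_eq, mult_eq, hswap, ← top_equiv hM σ (res_idem hM hmax hab hfree hj hcrit hR)]
  congr 1
  ext x
  obtain ⟨y, rfl⟩ := σ.surjective x
  rw [coeff_mapDom, coeff_resSub, coeff_resSub, hj', coeff_conjGA]
  congr 1
  show t⁻¹ * (t * (y : G) * t⁻¹) * t = y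
  group

end Free

section Unit

variable {j : fixAlg (kres M) (P ⊔ ⊥) ⊤} (hj : IsPrim j) (hcrit : FreeSignPrim.Crit c j)
include hj hcrit

/-- **The multiplicity at the top is a unit.** -/
theorem not_dvd_mult_top [Fintype (Subgroup.centralizer (P : Set G))] :
    ¬ p ∣ mult (j : MonoidAlgebra (kres M) G) P := by
  classical
  have := Fact.mk hM.1
  obtain ⟨hrk, hcard, hdef, hreg⟩ := top_shape hM hmax hab
  have hP := hmax.1.1.1
  have hc := hmax.1.1.2
  set x := resSub (cen P) (j : MonoidAlgebra (kres M) G) with hx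
  set e : MonoidAlgebra (kres M) (cen P) := (blkIdem M c : MonoidAlgebra (kres M) (cen P)) with he
  have hxx : x * x = x := by
    rw [hx, ← FreeSignPrim.res_apply hM hP le_rfl, ← map_mul, hj.1]
  have hex0 : e * x ≠ 0 := hcrit
  have hcomm : ∀ z, z * e = e * z := fun z => Subalgebra.mem_center_iff.1 (blkIdem M c).2 z
  have hee : e * e = e := by rw [he, ← MulMemClass.coe_mul, blkIdem_idem hM hc]
  -- primitivity of the image
  have hprim : IsPrim x := by
    refine ⟨hxx, right_ne_zero_of_mul hex0, fun f hf hxf hfx => ?_⟩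
    have hinv : IsPInv (P.subgroupOf (cen P)) f := fun v hv y => by
      congr 1
      refine Subtype.ext ?_
      show (v : G) * y * (v : G)⁻¹ = y
      rw [Subgroup.mem_centralizer_iff.1 y.2 v (Subgroup.mem_subgroupOf.1 hv),
        mul_inv_cancel_right]
    obtain ⟨z, hz⟩ := FreeSignPrim.exists_res hM hP le_rfl (le_cen hM hmax hab le_rfl) hinv
    have hjz : FreeSignPrim.res hM hP le_rfl (j * z * j) = f := by
      rw [map_mul, map_mul, hz, FreeSignPrim.res_apply, ← hx, hxf, hfx]
    rcases unit_or_nilpotent (k := kres M) hj (c := j * z * j)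
      (by rw [← mul_assoc, ← mul_assoc, hj.1]) (by rw [mul_assoc, hj.1])
      with ⟨y, -, -, hyc, -⟩ | ⟨n, hn⟩
    · right
      have hyf : FreeSignPrim.res hM hP le_rfl y * f = x := by
        rw [← hjz, ← map_mul, hyc, FreeSignPrim.res_apply]
      calc f = x * f := hxf.symm
        _ = FreeSignPrim.res hM hP le_rfl y * (f * f) := by rw [← hyf, mul_assoc]
        _ = x := by rw [hf, hyf]
    · left
      have h := congrArg (FreeSignPrim.res hM hP (le_refl P)) hn
      rw [map_pow, hjz, map_zero] at h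
      rcases Nat.eq_zero_or_pos n with rfl | hpos
      · rw [pow_zero] at h
        rw [← mul_one f, h, mul_zero]
      · obtain ⟨k, rfl⟩ := Nat.exists_eq_succ_of_ne_zero hpos.ne'
        rwa [(show IsIdempotentElem f from hf).pow_succ_eq k] at h
  have hidem : ∀ {d f : MonoidAlgebra (kres M) (cen P)}, d * d = d → f * f = f →
      (∀ z, z * d = d * z) → d * f * (d * f) = d * f := fun {d f} hd hf hdc => by
    rw [mul_assoc, ← mul_assoc f, hdc, mul_assoc d f f, hf, ← mul_assoc, hd]
  have hblock : ∀ {d f : MonoidAlgebra (kres M) (cen P)}, IsPrim f → d * d = d →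
      (∀ z, z * d = d * z) → d * f = 0 ∨ d * f = f := fun {d f} hf hd hdc =>
    hf.2.2 _ (hidem hd hf.1 hdc) (by rw [← mul_assoc, hdc, mul_assoc, hf.1])
      (by rw [mul_assoc, hf.1])
  have hex : e * x = x := (hblock hprim hee hcomm).resolve_left hex0
  obtain ⟨κ₀, hκ₀⟩ := isPBlock_nonempty hc
  obtain ⟨m, hm⟩ := exists_nat_val hM (CfsgLib.Char.irr_isCharacter κ₀.2) hxx
  have hmult : mult (j : MonoidAlgebra (kres M) G) P = m := by
    rw [mult_eq]
    refine top_eq (fun κ => ?_) ⟨κ₀, hm⟩
    by_cases hκ : κ ∈ c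
    · right
      rw [← hm]
      exact val_congr_regular hM (CfsgLib.Char.irr_isClassFunction κ.2)
        (CfsgLib.Char.irr_isClassFunction κ₀.2) hxx (hreg κ hκ κ₀ hκ₀)
    · left
      have hb := isPBlock_blockOf (M := M) κ
      have hne : blockOf M (κ : (cen P) → ℂ) ≠ c := fun h => hκ (h ▸ mem_blockOf_self κ)
      rw [val_blk hM hb κ hxx (mem_blockOf_self κ), ← hex, ← mul_assoc, he,
        ← MulMemClass.coe_mul, blkIdem_mul_ne hM hb hc hne, ZeroMemClass.coe_zero, zero_mul,
        val_zero hM (CfsgLib.Char.irr_isClassFunction κ.2)]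
  rw [hmult]
  intro hdvd
  have hcl := CfsgLib.Char.irr_isClassFunction κ₀.2
  -- every idempotent value is a multiple
  have hall : ∀ f : MonoidAlgebra (kres M) (cen P), f * f = f →
      ∃ k : ℕ, val (κ₀ : (cen P) → ℂ) f = ((m * k : ℕ) : ℂ) := by
    intro f hf
    refine (idem_induction (k := kres M) (Λ := MonoidAlgebra (kres M) (cen P))
      (fun f => f * f = f → ∃ k : ℕ, val (κ₀ : (cen P) → ℂ) f = ((m * k : ℕ) : ℂ))
      (fun _ => ⟨0, by rw [val_zero hM hcl]; simp⟩) ?_ ?_ f hf) hf
    · intro a b ha hb hab' hba' iha ihb _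
      obtain ⟨k, hk⟩ := iha ha
      obtain ⟨l, hl⟩ := ihb hb
      exact ⟨k + l, by rw [val_add hM hcl ha hb hab' hba', hk, hl, mul_add, Nat.cast_add]⟩
    · intro f hfp _
      rcases hblock hfp hee hcomm with h | h
      · exact ⟨0, by rw [val_blk hM hc κ₀ hfp.1 hκ₀, ← he, h, val_zero hM hcl]; simp⟩
      · refine ⟨1, ?_⟩
        obtain ⟨y, y', hyy⟩ := FreeSignPrim.exists_not_nilpotent hM hc hrk hxx hfp.1
          hprim.2.1 hfp.2.1 hex h
        rcases unit_or_nilpotent (k := kres M) hprim (c := x * y * f * y' * x)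
          (by simp only [← mul_assoc, hxx]) (by simp only [mul_assoc, hxx])
          with ⟨z, hxz, hzx, -, hcz⟩ | hn
        · set a := x * y * f with ha
          set b := f * y' * x * z with hb
          have hab2 : a * b = x := by
            calc a * b = x * y * (f * f) * y' * x * z := by rw [ha, hb]; simp only [mul_assoc]
              _ = x := by rw [hfp.1]; exact hcz
          have hbx : b * x = b := by rw [hb, mul_assoc, hzx]
          have hid : b * a * (b * a) = b * a := by
            calc b * a * (b * a) = b * (a * b) * a := by simp only [mul_assoc]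
              _ = b * a := by rw [hab2, hbx]
          have hba2 : b * a = f := by
            refine (hfp.2.2 (b * a) hid (by rw [hb]; simp only [← mul_assoc, hfp.1])
              (by rw [ha]; simp only [mul_assoc, hfp.1])).resolve_left fun h0 => hprim.2.1 ?_
            calc x = x * x := hxx.symm
              _ = a * (b * a) * b := by rw [← hab2]; simp only [mul_assoc]
              _ = 0 := by rw [h0, mul_zero, zero_mul]
          rw [← hba2, ← val_swap hM hcl (by rw [hab2, hxx]) hid, hab2, hm, mul_one]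
        · exact absurd hn hyy
  -- the regular values lie in the ideal
  have hmI : MemLocalIdeal M (m : ℂ) := (memLocalIdeal_natCast_iff hM m).2 hdvd
  have hvals : ∀ s : (cen P), ¬ p ∣ orderOf s → MemLocalIdeal M ((κ₀ : (cen P) → ℂ) s) := by
    intro s hs
    set T := Subgroup.zpowers s
    letI : CommGroup T := { (inferInstance : Group T) with
      mul_comm := fun a b => Std.Commutative.comm a b }
    have := Fintype.ofFinite (T →* ℂˣ)
    have hT : ¬ p ∣ Nat.card T := by rwa [Nat.card_zpowers]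
    have hint : ∀ (η : T →* ℂˣ) (t : T), IsIntegral ℤ ((η t : ℂˣ) : ℂ) := fun η t => by
      refine IsIntegral.of_pow (orderOf_pos t) ?_
      rw [← Units.val_pow_eq_pow_val, ← map_pow, pow_orderOf_eq_one, map_one, Units.val_one]
      exact isIntegral_one
    let coe : (T →* ℂˣ) → T → lring M := fun η t =>
      ⟨(Nat.card T : ℂ)⁻¹ * ((η⁻¹ t : ℂˣ) : ℂ), (lring M).mul_mem
        (memLocalRing_inv_natCast hM hT) (memLocalRing_of_isIntegral (hint η⁻¹ t))⟩
    let E : (T →* ℂˣ) → MonoidAlgebra (lring M) (cen P) := fun η =>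
      ∑ t : T, MonoidAlgebra.single (t : (cen P)) (coe η t)
    have hEE : ∀ η, E η * E η = E η := by
      intro η
      simp only [E]
      rw [Finset.sum_mul]
      simp only [Finset.mul_sum, MonoidAlgebra.single_mul_single]
      rw [Finset.sum_congr rfl fun t _ => Fintype.sum_equiv (Equiv.mulLeft t) _
        (fun w : T => MonoidAlgebra.single (w : (cen P)) (coe η t * coe η (t⁻¹ * w)))
        (fun u => by simp only [Equiv.coe_mulLeft, inv_mul_cancel_left, Subgroup.coe_mul]),
        Finset.sum_comm]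
      refine Finset.sum_congr rfl fun w _ => ?_
      refine ((map_sum (MonoidAlgebra.singleAddHom (R := lring M) (w : (cen P))) _ _).symm).trans ?_
      show MonoidAlgebra.single _ _ = MonoidAlgebra.single _ _
      congr 1
      refine Subtype.ext ?_
      simp only [coe, AddSubmonoidClass.coe_finsetSum, MulMemClass.coe_mul]
      rw [Finset.sum_congr rfl (g := fun _ => (Nat.card T : ℂ)⁻¹ *
        ((Nat.card T : ℂ)⁻¹ * ((η⁻¹ w : ℂˣ) : ℂ))) (fun t _ => by
          rw [show (η⁻¹ w) = η⁻¹ t * η⁻¹ (t⁻¹ * w) by rw [← map_mul, mul_inv_cancel_left],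
            Units.val_mul]
          ring), Finset.sum_const, Finset.card_univ, nsmul_eq_mul, ← Nat.card_eq_fintype_card,
        ← mul_assoc, mul_inv_cancel₀ (Nat.cast_ne_zero.2 Nat.card_pos.ne'), one_mul]
    have hval : (κ₀ : (cen P) → ℂ) s = ∑ η : T →* ℂˣ,
        ((η ⟨s, Subgroup.mem_zpowers s⟩ : ℂˣ) : ℂ) * tval (κ₀ : (cen P) → ℂ) 1 (E η) := by
      have h1 : ∀ η : T →* ℂˣ, tval (κ₀ : (cen P) → ℂ) 1 (E η) =
          FreeSignAlg.coef (fun t : T => (κ₀ : (cen P) → ℂ) (t : (cen P))) η := by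
        intro η
        simp only [E]
        rw [tval_sum, FreeSignAlg.coef, Finset.mul_sum]
        refine Finset.sum_congr rfl fun t _ => ?_
        rw [tval, Finset.sum_eq_single (t : (cen P))]
        · simp [coe]
          ring
        · intro k _ hk
          simp [Ne.symm hk]
        · exact fun h => absurd (Finset.mem_univ _) h
      rw [Finset.sum_congr rfl fun η _ => by rw [h1 η, mul_comm]]
      exact (FreeSignAlg.sum_coef (fun t : T => (κ₀ : (cen P) → ℂ) (t : (cen P)))
        ⟨s, Subgroup.mem_zpowers s⟩).symm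
    rw [hval]
    refine memLocalIdeal_sum _ _ fun η _ =>
      memLocalIdeal_mul_left (memLocalRing_of_isIntegral (hint η _)) ?_
    have hred : redG (E η) * redG (E η) = redG (E η) := by rw [← map_mul, hEE]
    obtain ⟨k, hk⟩ := hall _ hred
    rw [val_eq hM hcl (hEE η) rfl] at hk
    rw [hk, Nat.cast_mul]
    exact memLocalIdeal_mul_right (memLocalRing_natCast k) hmI
  -- the idempotent of the block would vanish
  have hzero : e = 0 := by
    ext y
    rw [he, coeff_blkIdem, MonoidAlgebra.coeff_zero, Finsupp.zero_apply]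
    by_cases hy : p ∣ orderOf y
    · rw [blockCoeff_eq_zero_of_singular hM hc hy, redC_zero]
    rw [redC_eq_zero_iff (blockCoeff_memLocalRing hM hc _)]
    have hyi : ¬ p ∣ orderOf y⁻¹ := by rwa [orderOf_inv]
    set d := charDegree (κ₀ : (cen P) → ℂ) with hd
    have hdeg : ∀ κ ∈ c, (κ : (cen P) → ℂ) 1 = (d : ℂ) := fun κ hκ => by
      rw [hd, CfsgLib.Block.charDegree_cast (CfsgLib.Char.irr_isCharacter κ₀.2)]
      exact hreg κ hκ κ₀ hκ₀ 1 (by rw [orderOf_one]; exact hM.1.not_dvd_one)
    have hcoef : blockCoeff c y = (((Nat.card (cen P) : ℂ))⁻¹ * (Nat.card P * d : ℕ)) *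
        (κ₀ : (cen P) → ℂ) y⁻¹ := by
      rw [blockCoeff, finsum_mem_eq_finite_toFinset_sum _ c.toFinite,
        Finset.sum_congr rfl (g := fun _ => (d : ℂ) * (κ₀ : (cen P) → ℂ) y⁻¹) (fun κ hκ => ?_),
        Finset.sum_const, nsmul_eq_mul, ← Nat.card_eq_card_finite_toFinset, hcard, Nat.cast_mul]
      · ring
      · rw [Set.Finite.mem_toFinset] at hκ
        rw [hdeg κ hκ, ← CfsgLib.Char.char_inv (CfsgLib.Char.irr_isCharacter κ.2) y,
          hreg κ hκ κ₀ hκ₀ y⁻¹ hyi]
    rw [hcoef]
    refine memLocalIdeal_mul_left ?_ (hvals y⁻¹ hyi)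
    -- the scalar is local
    set n := Nat.card (cen P) with hn
    have hn0 : n ≠ 0 := Nat.card_pos.ne'
    have hd0 : d ≠ 0 := charDegree_ne_zero κ₀.2
    have hdn : d ∣ n := CfsgLib.BlockB.irr_degree_dvd_card κ₀
    have hmin : sInf ((fun χ : IrrCharacter (cen P) =>
        (charDegree (χ : (cen P) → ℂ)).factorization p) '' c) = d.factorization p := by
      have : (fun χ : IrrCharacter (cen P) =>
          (charDegree (χ : (cen P) → ℂ)).factorization p) '' c = {d.factorization p} := by
        refine Set.eq_singleton_iff_unique_mem.2 ⟨⟨κ₀, hκ₀, rfl⟩, ?_⟩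
        rintro _ ⟨κ, hκ, rfl⟩
        have h := hdeg κ hκ
        rw [← CfsgLib.Block.charDegree_cast (CfsgLib.Char.irr_isCharacter κ.2)] at h
        show (charDegree (κ : (cen P) → ℂ)).factorization p = d.factorization p
        rw [show charDegree (κ : (cen P) → ℂ) = d by exact_mod_cast h]
      rw [this, csInf_singleton]
    have hfac : (Nat.card P * d).factorization p = n.factorization p := by
      rw [Nat.factorization_mul Nat.card_pos.ne' hd0, Finsupp.add_apply, ← hdef,
        Nat.factorization_pow, Finsupp.smul_apply, hM.1.factorization_self, smul_eq_mul, mul_one,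
        blockDefect, hmin, ← hn]
      have := (Nat.factorization_le_iff_dvd hd0 hn0).2 hdn p
      omega
    set a := n.factorization p with ha
    obtain ⟨u, hu⟩ := Nat.ordProj_dvd (Nat.card P * d) p
    rw [hfac] at hu
    have hn' : n = p ^ a * (n / p ^ a) := (Nat.ordProj_mul_ordCompl_eq_self n p).symm
    rw [hu, hn', Nat.cast_mul, Nat.cast_mul, mul_inv, mul_mul_mul_comm,
      inv_mul_cancel₀ (Nat.cast_ne_zero.2 (pow_ne_zero _ hM.1.ne_zero)), one_mul]
    exact (lring M).mul_mem (memLocalRing_inv_natCast hM (Nat.not_dvd_ordCompl hM.1 hn0))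
      (memLocalRing_natCast u)
  exact hex0 (by rw [hzero, zero_mul])

end Unit

end CfsgLib.BlockA.FreeSignLevels
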