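import Cfsg.Agent.Lib.BlockA.FreeSignAlg
import Cfsg.Agent.Lib.BlockA.FreeSignCount

/-!
A fixed-point-free group of automorphisms of an abelian `p`-group, and a family of invariant
`p`-integral functions with the orthogonality relations of the subsections: the number of functions
is bounded by the number of orbits plus the order of the group.
-/

set_option autoImplicit false
set_option maxHeartbeats 1000000

namespace CfsgLib.BlockA.FreeSignOrbit

open FreeSignAlg
open scoped ComplexConjugate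

universe u

variable {A : Type u} [CommGroup A] [Fintype A] (E : Subgroup (MulAut A))
  (hfree : ∀ φ ∈ E, ∀ x : A, x ≠ 1 → φ x = x → φ = 1)
include hfree

/-- The automorphisms are free on the dual. -/
theorem dual_free {φ : MulAut A} (hφ : φ ∈ E) {μ : A →* ℂˣ} (hμ : μ ≠ 1)
    (h : μ.comp φ.toMonoidHom = μ) : φ = 1 := by
  by_contra hne
  refine hμ (MonoidHom.ext fun y => ?_)
  let δ : A →* A := φ.toMonoidHom / MonoidHom.id A
  have hinj : Function.Injective δ := (injective_iff_map_eq_one δ).2 fun x hx => by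
    by_contra hx1
    refine hne (hfree φ hφ x hx1 ?_)
    simpa [δ, div_eq_one] using hx
  obtain ⟨x, rfl⟩ := Finite.surjective_of_injective hinj y
  have h1 := DFunLike.congr_fun h x
  simp only [MonoidHom.comp_apply, MulEquiv.toMonoidHom_eq_coe, MonoidHom.coe_coe] at h1
  simp [δ, map_div, h1]

/-- Representatives of the orbits on the nontrivial linear characters. -/
theorem exists_reps : ∃ (ι : Type u) (_ : Fintype ι) (μ : ι → A →* ℂˣ),
    (∀ i, μ i ≠ 1) ∧ Fintype.card ι * Nat.card E + 1 = Nat.card A ∧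
      (∀ i j, ∀ φ ∈ E, (μ i).comp φ.toMonoidHom = μ j → i = j ∧ φ = 1) ∧
      ∀ ν : A →* ℂˣ, ν ≠ 1 → ∃ i, ∃ φ ∈ E, ν = (μ i).comp φ.toMonoidHom := by
  classical
  let D := {μ : A →* ℂˣ // μ ≠ 1}
  let st : Setoid D :=
    { r := fun μ ν => ∃ φ ∈ E, ν.1 = μ.1.comp φ.toMonoidHom
      iseqv := by
        refine ⟨fun μ => ⟨1, one_mem E, by ext x; rfl⟩, ?_, ?_⟩
        · rintro μ ν ⟨φ, hφ, h⟩
          refine ⟨φ⁻¹, inv_mem hφ, ?_⟩
          rw [h]
          ext x
          simp
        · rintro μ ν ω ⟨φ, hφ, h⟩ ⟨ψ, hψ, h'⟩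
          refine ⟨φ * ψ, mul_mem hφ hψ, ?_⟩
          rw [h', h]
          ext x
          rfl }
  have : Finite D := inferInstance
  let ι := Quotient st
  have := Fintype.ofFinite ι
  let μ : ι → A →* ℂˣ := fun i => (Quotient.out i).1
  have hμ : ∀ i, μ i ≠ 1 := fun i => (Quotient.out i).2
  have huniq : ∀ i j, ∀ φ ∈ E, (μ i).comp φ.toMonoidHom = μ j → i = j ∧ φ = 1 := by
    intro i j φ hφ h
    have hij : i = j := by
      rw [← Quotient.out_eq i, ← Quotient.out_eq j]
      exact Quotient.sound ⟨φ, hφ, h.symm⟩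
    subst hij
    exact ⟨rfl, dual_free E hfree hφ (hμ i) h⟩
  have hex : ∀ ν : A →* ℂˣ, ν ≠ 1 → ∃ i, ∃ φ ∈ E, ν = (μ i).comp φ.toMonoidHom := fun ν hν =>
    ⟨Quotient.mk st ⟨ν, hν⟩, Quotient.mk_out (s := st) (⟨ν, hν⟩ : D)⟩
  refine ⟨ι, inferInstance, μ, hμ, ?_, huniq, hex⟩
  have hne : ∀ (i : ι) (φ : E), (μ i).comp (φ : MulAut A).toMonoidHom ≠ 1 := fun i φ h => hμ i (by
    ext x
    have h1 := DFunLike.congr_fun h ((φ : MulAut A)⁻¹ x)
    simpa using congrArg Units.val h1)
  let F : ι × E → D := fun q => ⟨(μ q.1).comp (q.2 : MulAut A).toMonoidHom, hne q.1 q.2⟩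
  have hF : Function.Bijective F := by
    refine ⟨fun q q' h => ?_, fun ν => ?_⟩
    · have h0 := congrArg Subtype.val h
      obtain ⟨h1, h2⟩ := huniq q.1 q'.1 ((q.2 : MulAut A) * (q'.2 : MulAut A)⁻¹)
        (mul_mem q.2.2 (inv_mem q'.2.2)) (by
          ext x
          have h1 := DFunLike.congr_fun h0 ((q'.2 : MulAut A)⁻¹ x)
          simpa [F] using congrArg Units.val h1)
      exact Prod.ext h1 (Subtype.ext (mul_inv_eq_one.1 h2))
    · obtain ⟨i, φ, hφ, h⟩ := hex ν.1 ν.2
      exact ⟨(i, ⟨φ, hφ⟩), Subtype.ext h.symm⟩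
  have hcard := Nat.card_eq_of_bijective F hF
  rw [Nat.card_prod, Nat.card_eq_fintype_card] at hcard
  rw [hcard, ← CommGroup.card_monoidHom_of_hasEnoughRootsOfUnity A ℂ]
  have := Fintype.ofFinite (A →* ℂˣ)
  rw [Nat.card_eq_fintype_card, Nat.card_eq_fintype_card,
    show Fintype.card D = Fintype.card (A →* ℂˣ) - 1 by
      simpa [D] using Fintype.card_subtype_compl (fun μ : A →* ℂˣ => μ = 1)]
  have : 0 < Fintype.card (A →* ℂˣ) := Fintype.card_pos
  omega

omit hfree in
open Classical in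
/-- The mixed sum. -/
theorem sum_sub_one [Fintype (A →* ℂˣ)] {lam ν : A →* ℂˣ} (hl : lam ≠ 1) (hν : ν ≠ 1) :
    (Nat.card A : ℂ)⁻¹ * ∑ v : A, (((lam v)⁻¹ : ℂˣ) - 1 : ℂ) * ((ν v : ℂ) - 1) =
      (if ν = lam then 1 else 0) + 1 := by
  have h1 := coef_linear ν lam
  have h2 := coef_linear (1 : A →* ℂˣ) lam
  have h3 := coef_linear ν 1
  have h4 := coef_linear (1 : A →* ℂˣ) 1
  rw [if_pos rfl] at h4
  rw [if_neg (Ne.symm hl)] at h2
  rw [if_neg hν] at h3
  simp only [coef, MonoidHom.one_apply, inv_one, Units.val_one, one_mul, mul_one] at h1 h2 h3 h4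
  rw [Finset.sum_congr rfl (g := fun v => ((ν v : ℂ) * ((lam v)⁻¹ : ℂˣ) -
    (((lam v)⁻¹ : ℂˣ) : ℂ) - (ν v : ℂ) + 1)) fun v _ => by ring]
  simp only [Finset.sum_add_distrib, Finset.sum_sub_distrib]
  rw [mul_add, mul_sub, mul_sub, h1, h2, h3, h4]
  ring

section Count

open scoped Classical

variable {p : ℕ} [Fact p.Prime] (hA : IsPGroup p A)
  {ρ : Type*} [Fintype ρ] [Fintype (A →* ℂˣ)] (r : ρ → A → ℂ)
  (hS : ∀ χ, ∃ f : A → ℂ, InS p f ∧ ∀ v, v ≠ 1 → f v = r χ v)
  (hint : ∀ χ v, v ≠ 1 → IsIntegral ℤ (r χ v))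
  (hinv : ∀ χ, ∀ φ ∈ E, ∀ v, v ≠ 1 → r χ (φ v) = r χ v)
  (horth : ∀ v w : A, v ≠ 1 → w ≠ 1 → ∑ χ, r χ v * conj (r χ w) =
    if (∃ φ ∈ E, φ v = w) then (Nat.card A : ℂ) else 0)
  (hnz : ∀ χ, ∀ v, v ≠ 1 → r χ v ≠ 0)
  (hA1 : 1 < Nat.card A)
include hA hS hint hinv horth hnz hA1

/-- **The count.** -/
theorem main : ∃ m : ℕ, 1 ≤ m ∧ m * Nat.card E + 1 = Nat.card A ∧
    Fintype.card ρ ≤ m + Nat.card E ∧
    (Nat.card E ≤ 3 → m + 1 ≤ Fintype.card ρ → Fintype.card ρ = m + Nat.card E ∨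
      (Fintype.card ρ = Nat.card E + 2 ∧ m ≤ Nat.card E + 1 ∧ 3 ≤ m)) := by
  obtain ⟨ι, hιf, μ, hμ, hcard, huniq, hex⟩ := exists_reps E hfree
  have := Fintype.ofFinite E
  set q := Nat.card A with hq
  set s := (Finset.univ : Finset A).erase 1 with hs
  have hs1 : ∀ {v : A}, v ∈ s → v ≠ 1 := fun hv => (Finset.mem_erase.1 hv).1
  let X : (A →* ℂˣ) → ρ → ℂ := fun ν χ =>
    (q : ℂ)⁻¹ * ∑ v ∈ s, r χ v * ((((ν v)⁻¹ : ℂˣ) : ℂ) - 1)
  obtain ⟨d, hd⟩ := IsPGroup.iff_card.1 hA
  -- the coordinates are integers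
  have hX : ∀ ν χ, ∃ z : ℤ, X ν χ = (z : ℂ) := by
    intro ν χ
    obtain ⟨f, hf, hfr⟩ := hS χ
    obtain ⟨a, ha, ha'⟩ := hf ν
    obtain ⟨b, hb, hb'⟩ := hf 1
    have h1 : X ν χ = coef f ν - coef f 1 := by
      simp only [X, coef, MonoidHom.one_apply, inv_one, Units.val_one, mul_one]
      rw [← mul_sub, ← Finset.sum_sub_distrib, hs, ← Finset.add_sum_erase _ _ (Finset.mem_univ 1)]
      simp only [map_one, inv_one, Units.val_one, mul_one, sub_self, zero_add]
      congr 1
      exact Finset.sum_congr rfl fun v hv => by rw [hfr v (Finset.mem_erase.1 hv).1]; ring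
    have h2 : IsIntegral ℤ (((a - b) * ((p ^ d : ℕ) : ℚ) : ℚ) : ℂ) := by
      rw [← hd, Rat.cast_mul, Rat.cast_sub, ← ha', ← hb', ← h1, Rat.cast_natCast, mul_comm,
        ← mul_assoc, mul_inv_cancel₀ card_ne, one_mul]
      refine IsIntegral.sum _ fun v hv => (hint χ v (hs1 hv)).mul (IsIntegral.sub ?_ isIntegral_one)
      refine IsIntegral.of_pow (orderOf_pos v) ?_
      rw [← Units.val_pow_eq_pow_val, inv_pow, ← map_pow, pow_orderOf_eq_one, map_one, inv_one,
        Units.val_one]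
      exact isIntegral_one
    obtain ⟨z, hz⟩ := exists_int_of_mul_pow ((zp p).sub_mem ha hb) h2
    exact ⟨z, by rw [h1, ha', hb', ← Rat.cast_sub, hz, Rat.cast_intCast]⟩
  choose x hx using hX
  -- invariance
  have hXinv : ∀ ν χ, ∀ φ ∈ E, X (ν.comp (φ : MulAut A).toMonoidHom) χ = X ν χ := by
    intro ν χ φ hφ
    simp only [X]
    congr 1
    refine Finset.sum_equiv φ.toEquiv (fun v => ?_) fun v hv => ?_
    · simp [hs]
    · show r χ v * _ = r χ (φ v) * _
      rw [hinv χ φ hφ v (hs1 hv)]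
      rfl
  -- no zero row
  have hrow : ∀ χ, ∃ i, x (μ i) χ ≠ 0 := by
    intro χ
    by_contra h
    simp only [not_exists, not_not] at h
    have hall : ∀ ν : A →* ℂˣ, X ν χ = 0 := fun ν => by
      by_cases hν : ν = 1
      · simp [X, hν]
      · obtain ⟨i, φ, hφ, rfl⟩ := hex ν hν
        rw [hXinv _ χ φ hφ, hx, h i, Int.cast_zero]
    obtain ⟨v, hv⟩ : ∃ v : A, v ≠ 1 := by
      have : Nontrivial A := Finite.one_lt_card_iff_nontrivial.1 hA1
      exact exists_ne 1
    let g : A → ℂ := fun w => if w = 1 then -∑ u ∈ s, r χ u else r χ w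
    have hg : ∀ ν : A →* ℂˣ, coef g ν = X ν χ := fun ν => by
      simp only [coef, X]
      congr 1
      rw [← Finset.add_sum_erase _ _ (Finset.mem_univ (1 : A)), ← hs,
        Finset.sum_congr rfl (g := fun w => r χ w * (((ν w)⁻¹ : ℂˣ) : ℂ)) fun w hw => by
          rw [show g w = r χ w from if_neg (hs1 hw)],
        show g 1 = -∑ u ∈ s, r χ u from if_pos rfl]
      simp only [map_one, inv_one, Units.val_one, mul_one, mul_sub, Finset.sum_sub_distrib]
      ring
    have h0 := sum_coef g v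
    rw [Finset.sum_eq_zero fun ν _ => by rw [hg, hall, zero_mul]] at h0
    exact hnz χ v hv (by simpa [g, hv] using h0.symm)
  -- the Gram matrix
  have hgram : ∀ i j, ∑ χ, x (μ i) χ * x (μ j) χ =
      (Nat.card E : ℤ) + if i = j then 1 else 0 := by
    intro i j
    refine Int.cast_injective (α := ℂ) ?_
    simp only [Int.cast_sum, Int.cast_mul]
    have hconj : ∀ χ, (x (μ j) χ : ℂ) =
        (q : ℂ)⁻¹ * ∑ w ∈ s, conj (r χ w) * ((μ j w : ℂ) - 1) := by
      intro χ
      rw [← map_intCast (starRingEnd ℂ) (x (μ j) χ), ← hx]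
      simp only [X, map_mul, map_inv₀, Complex.conj_natCast, map_sum, map_sub, map_one,
        ← MonoidHom.inv_apply]
      congr 1
      refine Finset.sum_congr rfl fun w _ => ?_
      rw [CfsgLib.Char.conj_linear_apply]
      simp
    have hinner : ∀ v ∈ s, ∑ w ∈ s, ((μ j w : ℂ) - 1) * ∑ χ, r χ v * conj (r χ w) =
        (q : ℂ) * ∑ φ : E, ((μ j ((φ : MulAut A) v) : ℂ) - 1) := by
      intro v hv
      rw [Finset.sum_congr rfl fun w hw => by rw [horth v w (hs1 hv) (hs1 hw), mul_ite, mul_zero],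
        ← Finset.sum_filter, Finset.mul_sum]
      have himg : s.filter (fun w => ∃ φ ∈ E, φ v = w) =
          (Finset.univ : Finset E).image (fun φ : E => (φ : MulAut A) v) := by
        ext w
        simp only [hs, Finset.mem_filter, Finset.mem_erase, Finset.mem_univ, and_true,
          Finset.mem_image, true_and, Subtype.exists, exists_prop]
        refine ⟨fun h => h.2, fun h => ⟨?_, h⟩⟩
        obtain ⟨φ, -, rfl⟩ := h
        simpa using hs1 hv
      rw [himg, Finset.sum_image]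
      · exact Finset.sum_congr rfl fun φ _ => mul_comm _ _
      · intro φ _ ψ _ h
        refine Subtype.ext (inv_mul_eq_one.1 (hfree _ (mul_mem (inv_mem φ.2) ψ.2) v (hs1 hv) ?_))
        show (φ : MulAut A)⁻¹ ((ψ : MulAut A) v) = v
        have h' : (φ : MulAut A) v = (ψ : MulAut A) v := h
        rw [← h', ← MulAut.mul_apply, inv_mul_cancel, MulAut.one_apply]
    calc ∑ χ, (x (μ i) χ : ℂ) * (x (μ j) χ : ℂ)
        = (q : ℂ)⁻¹ * (q : ℂ)⁻¹ * ∑ v ∈ s, ((((μ i v)⁻¹ : ℂˣ) : ℂ) - 1) *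
            ∑ w ∈ s, ((μ j w : ℂ) - 1) * ∑ χ, r χ v * conj (r χ w) := by
          simp only [← hx (μ i), hconj, X, Finset.mul_sum, Finset.sum_mul]
          rw [Finset.sum_comm]
          conv_lhs => arg 2; ext w; rw [Finset.sum_comm]
          rw [Finset.sum_comm]
          refine Finset.sum_congr rfl fun v _ => Finset.sum_congr rfl fun w _ =>
            Finset.sum_congr rfl fun χ _ => ?_
          ring
      _ = ∑ φ : E, (q : ℂ)⁻¹ * ∑ v : A, ((((μ i v)⁻¹ : ℂˣ) : ℂ) - 1) *
            ((μ j ((φ : MulAut A) v) : ℂ) - 1) := by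
          rw [Finset.sum_congr rfl fun v hv => by rw [hinner v hv, mul_left_comm],
            ← Finset.mul_sum, mul_assoc, ← mul_assoc _ (q : ℂ), inv_mul_cancel₀ card_ne, one_mul,
            ← Finset.mul_sum]
          congr 1
          simp only [Finset.mul_sum]
          rw [Finset.sum_comm]
          refine Finset.sum_congr rfl fun φ _ => ?_
          rw [hs]
          exact Finset.sum_erase _ (by simp)
      _ = ∑ φ : E, ((if (μ j).comp (φ : MulAut A).toMonoidHom = μ i then (1 : ℂ) else 0) + 1) :=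
          Finset.sum_congr rfl fun φ _ => sum_sub_one (ν := (μ j).comp (φ : MulAut A).toMonoidHom)
            (hμ i) fun h => hμ j (by
              ext w
              have h1 := DFunLike.congr_fun h ((φ : MulAut A)⁻¹ w)
              simpa using congrArg Units.val h1)
      _ = _ := by
          rw [Finset.sum_add_distrib, Finset.sum_const, Finset.card_univ, nsmul_eq_mul, mul_one,
            ← Nat.card_eq_fintype_card, Int.cast_add, Int.cast_natCast, add_comm]
          congr 1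
          by_cases hij : i = j
          · subst hij
            rw [if_pos rfl, Finset.sum_eq_single (1 : E)]
            · rw [if_pos (by ext w; simp), Int.cast_one]
            · intro φ _ hφ
              rw [if_neg fun h => hφ (Subtype.ext (huniq i i _ φ.2 h).2)]
            · exact fun h => absurd (Finset.mem_univ _) h
          · rw [if_neg hij, Int.cast_zero]
            exact Finset.sum_eq_zero fun φ _ => if_neg fun h => hij (huniq j i _ φ.2 h).1.symm
  have hι : 0 < Fintype.card ι := by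
    by_contra h
    have : Fintype.card ι = 0 := by omega
    simp [this] at hcard
    omega
  exact ⟨Fintype.card ι, hι, hcard,
    FreeSignCount.card_rows_le (fun i χ => x (μ i) χ) _ hgram hrow hι,
    fun he hk => FreeSignCount.card_rows_eq (fun i χ => x (μ i) χ) _ hgram hrow hι he hk⟩

end Count

end CfsgLib.BlockA.FreeSignOrbit
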