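import Cfsg.Agent.Lib.BlockA.FreeSignLevels
import Cfsg.Agent.Lib.BlockA.FreeSignOrbit
import Cfsg.Agent.Lib.BlockA.AbelianRankCount
import Cfsg.Agent.Lib.BlockA.DefectOneStar
import Cfsg.Agent.Lib.BlockA.RankOneSmall
import Cfsg.Agent.Lib.BlockA.FirstMainExt
import Cfsg.Agent.Lib.Char.Linear

/-!
Blocks with abelian defect group and free inertial quotient: at most `e + (q - 1) / e` characters and
rank at most `e`, with equality in both when the inertial index is at most three.
-/

set_option autoImplicit false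
set_option linter.unusedSectionVars false
set_option maxHeartbeats 1000000

namespace CfsgLib.BlockA.FreeSignRows

open Cfsg CfsgLib.Block CfsgLib.BlockA CfsgLib.BlockB CfsgLib.BlockB.SubSum CfsgLib.BlockB.HeightBound
  CfsgLib.BlockB.StarBr CfsgLib.BlockB.StarLift CfsgLib.BlockB.StarTrace CfsgLib.BlockB.StarPurity
  AbelianSub AbelianTrace FreeSignVal
open scoped ComplexConjugate

universe u

variable {G : Type u} [Group G] [Fintype G] {p : ℕ} {M : Ideal AlgInt} [M.IsPrime]
  {B : Set (IrrCharacter G)} {P : Subgroup G}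
  {c : Set (IrrCharacter (Subgroup.centralizer (P : Set G)))}

local notation "cs" z => Subgroup.centralizer (Singleton.singleton z : Set G)

/-- The action of the stabilizer of the pair on the defect group. -/
noncomputable def act (M : Ideal AlgInt) [M.IsPrime] (P : Subgroup G)
    (c : Set (IrrCharacter (Subgroup.centralizer (P : Set G)))) : pairStab M P c →* MulAut P :=
  P.normalizerMonoidHom.comp (Subgroup.inclusion (pairStab_le P c))

theorem coe_act (t : pairStab M P c) (v : P) :
    ((act M P c t v : P) : G) = (t : G) * v * (t : G)⁻¹ := rfl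

theorem card_range_act : Nat.card (act M P c).range =
    (Subgroup.centralizer (P : Set G)).relIndex (pairStab M P c) := by
  rw [← Subgroup.index_ker, Subgroup.relIndex]
  congr 1
  rw [act, ← MonoidHom.comap_ker, Subgroup.normalizerMonoidHom_ker]
  ext t
  simp [Subgroup.mem_subgroupOf]

theorem mem_orb_iff {v w : P} :
    (w : G) ∈ orb M P c (v : G) ↔ ∃ φ ∈ (act M P c).range, φ v = w := by
  rw [mem_orb]
  constructor
  · rintro ⟨t, ht, h⟩
    exact ⟨_, ⟨⟨t, ht⟩, rfl⟩, Subtype.ext h⟩
  · rintro ⟨_, ⟨t, rfl⟩, h⟩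
    exact ⟨t, t.2, by rw [← coe_act, h]⟩

variable (hM : IsPModular p M) (hmax : IsMaximalBrauerPair p M B P c)
  (hab : ∀ v ∈ P, ∀ w ∈ P, v * w = w * v)
include hM hmax hab

/-- The coordinate at an element of the defect group. -/
noncomputable def coord (v : P) (χ : IrrCharacter G) : ℂ :=
  haveI := Fintype.ofFinite (cs (v : G))
  FreeSignDatum.aSec (v : G) (blk hM hmax hab v.2) (χ : G → ℂ)

theorem coord_eq (v : P) [Fintype (cs (v : G))] (χ : IrrCharacter G) :
    coord hM hmax hab v χ = FreeSignDatum.aSec (v : G) (blk hM hmax hab v.2) (χ : G → ℂ) := by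
  unfold coord
  congr!

theorem coord_stab {t : G} (ht : t ∈ pairStab M P c) {v w : P} (h : t * (v : G) * t⁻¹ = w)
    (χ : IrrCharacter G) : coord hM hmax hab w χ = coord hM hmax hab v χ := by
  obtain ⟨w, hw⟩ := w
  subst h
  have := Fintype.ofFinite (cs (v : G))
  have := Fintype.ofFinite (cs (t * (v : G) * t⁻¹))
  have hb : blk hM hmax hab hw = blockMap (cenConj t (v : G)) (blk hM hmax hab v.2) :=
    subgroupBlockCoeff_injective hM (blk_spec hM hmax hab hw).1.1
      (isPBlock_blockMap _ (blk_spec hM hmax hab v.2).1.1)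
      ((blk_spec hM hmax hab hw).2.trans (by
        rw [coeff_conj_blk hM hmax hab t v.2, (beta_stab hM hmax v.2 ht).2]))
  rw [coord_eq, coord_eq, hb]
  exact FreeSignDatum.aSec_conj t (v : G) _ χ

variable (hfree : ∀ t ∈ pairStab M P c, ∀ v ∈ P, v ≠ 1 → t * v * t⁻¹ = v →
    t ∈ Subgroup.centralizer (P : Set G))
include hfree

theorem con_coord {v : P} (hv : v ≠ 1) (χ ξ : IrrCharacter G) :
    Contribution.con hM hmax hab v χ ξ =
      (Nat.card P : ℂ)⁻¹ * (coord hM hmax hab v χ * conj (coord hM hmax hab v ξ)) := by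
  have := Fintype.ofFinite (cs (v : G))
  rw [coord_eq, coord_eq]
  exact FreeSignDatum.con_eq hM hmax hab v.2
    (fun t ht => hfree t ht v v.2 fun h => hv (Subtype.ext h)) χ ξ

theorem rk_eq_one {v : P} (hv : v ≠ 1) : AbelianTrace.rk hM hmax hab v = 1 := by
  have := Fintype.ofFinite (cs (v : G))
  rw [AbelianTrace.rk, (FreeSignDatum.blk_shape hM hmax hab v.2
    (fun t ht => hfree t ht v v.2 fun h => hv (Subtype.ext h))).1, Nat.cast_one]

theorem coord_ne_zero {v : P} (hv : v ≠ 1) {χ : IrrCharacter G} (hχ : χ ∈ B) :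
    coord hM hmax hab v χ ≠ 0 := by
  classical
  have := Fact.mk hM.1
  have := Fintype.ofFinite (cs (v : G))
  have := Fintype.ofFinite (IrrCharacter G)
  intro h
  obtain ⟨k, hk⟩ := IsPGroup.iff_orderOf.1 hmax.1.1.1 v
  rw [← Subgroup.orderOf_coe] at hk
  refine AbelianRankCount.subEntry_self_ne_zero hM ⟨k, hk⟩ (blk_spec hM hmax hab v.2).1
    (exists_blk hM hmax hab v.2).choose_spec.2.2 hχ ?_
  rw [Contribution.subEntry_eq_con hM hmax hab v, con_coord hM hmax hab hfree hv, h]
  simp

open Classical in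
theorem coord_orth {v w : P} (hv : v ≠ 1) (hw : w ≠ 1) :
    ∑ χ ∈ B.toFinite.toFinset, coord hM hmax hab v χ * conj (coord hM hmax hab w χ) =
      if (w : G) ∈ orb M P c (v : G) then (Nat.card P : ℂ) else 0 := by
  classical
  have hq : (Nat.card P : ℂ) ≠ 0 := Nat.cast_ne_zero.2 Nat.card_pos.ne'
  split_ifs with h
  · obtain ⟨t, ht, hvw⟩ := mem_orb.1 h
    have h1 := Contribution.sum_con_self hM hmax hab v
    simp only [con_coord hM hmax hab hfree hv, rk_eq_one hM hmax hab hfree hv, ← Finset.mul_sum]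
      at h1
    simp only [coord_stab hM hmax hab ht hvw]
    rwa [inv_mul_eq_one₀ hq, eq_comm] at h1
  · obtain ⟨χ, hχ⟩ := isPBlock_nonempty hmax.1.2.1
    have h1 := Contribution.sum_con_mul hM hmax hab (χ := χ) (χ' := χ) hχ w v
    rw [if_neg fun h' => h (by rw [orb_eq h']; exact self_mem_orb _)] at h1
    simp only [con_coord hM hmax hab hfree hv, con_coord hM hmax hab hfree hw] at h1
    rw [Finset.sum_congr rfl (g := fun ξ => ((Nat.card P : ℂ)⁻¹ * (Nat.card P : ℂ)⁻¹ *
      (coord hM hmax hab w χ * conj (coord hM hmax hab v χ))) *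
      (coord hM hmax hab v ξ * conj (coord hM hmax hab w ξ))) fun ξ _ => by ring,
      ← Finset.mul_sum] at h1
    refine (mul_eq_zero.1 h1).resolve_left (mul_ne_zero (mul_ne_zero (inv_ne_zero hq)
      (inv_ne_zero hq)) (mul_ne_zero (coord_ne_zero hM hmax hab hfree hw hχ) ?_))
    simpa using coord_ne_zero hM hmax hab hfree hv hχ

omit hfree in
theorem rk_at_one : AbelianTrace.rk hM hmax hab (1 : P) = (blockRank p B : ℂ) := by
  obtain ⟨-, h, -⟩ := Watanabe.blk_in hM hmax hab (one_mem P)
  show (blockRank p (blk hM hmax hab (one_mem P)) : ℂ) = _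
  rw [(Watanabe.central_case hM hmax hab (one_mem _) h).1]

/-- **The number of characters.** -/
theorem natCard_eq {m : ℕ}
    (hm : m * (Subgroup.centralizer (P : Set G)).relIndex (pairStab M P c) + 1 = Nat.card P) :
    Nat.card B = blockRank p B + m := by
  classical
  set e := (Subgroup.centralizer (P : Set G)).relIndex (pairStab M P c) with he
  have horb1 : orb M P c ((1 : P) : G) = {1} := by
    ext w
    rw [mem_orb, Finset.mem_singleton]
    exact ⟨fun ⟨t, _, h⟩ => by simpa using h.symm, fun h => ⟨1, one_mem _, by simp [h]⟩⟩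
  have horb : ∀ v : P, v ≠ 1 → (orb M P c (v : G)).card = e := by
    intro v hv
    have := Fintype.ofFinite (act M P c).range
    rw [he, ← card_range_act, Nat.card_eq_fintype_card, ← Finset.card_univ,
      ← Finset.card_image_of_injective Finset.univ
        (f := fun φ : (act M P c).range => (((φ : MulAut P) v : P) : G)) fun φ ψ h => ?_]
    · congr 1
      ext w
      simp only [Finset.mem_image, Finset.mem_univ, true_and]
      constructor
      · intro hw
        obtain ⟨t, ht, rfl⟩ := mem_orb.1 hw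
        exact ⟨⟨_, ⟨⟨t, ht⟩, rfl⟩⟩, rfl⟩
      · rintro ⟨⟨_, ⟨t, rfl⟩⟩, rfl⟩
        exact mem_orb.2 ⟨t, t.2, rfl⟩
    · obtain ⟨_, ⟨s, rfl⟩⟩ := φ
      obtain ⟨_, ⟨t, rfl⟩⟩ := ψ
      refine Subtype.ext ?_
      show act M P c s = act M P c t
      have h' : (s : G) * v * (s : G)⁻¹ = (t : G) * v * (t : G)⁻¹ := h
      have hC := hfree ((s : G)⁻¹ * t) (mul_mem (inv_mem s.2) t.2) v v.2
        (fun e => hv (Subtype.ext e)) (by
          calc (s : G)⁻¹ * t * v * ((s : G)⁻¹ * t)⁻¹
              = (s : G)⁻¹ * ((t : G) * v * (t : G)⁻¹) * s := by group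
            _ = (s : G)⁻¹ * ((s : G) * v * (s : G)⁻¹) * s := by rw [h']
            _ = v := by group)
      refine MulEquiv.ext fun w => Subtype.ext ?_
      rw [coe_act, coe_act]
      have h2 := Subgroup.mem_centralizer_iff.1 hC w w.2
      calc (s : G) * w * (s : G)⁻¹ = (s : G) * ((w : G) * ((s : G)⁻¹ * t)) * (t : G)⁻¹ := by group
        _ = (s : G) * ((s : G)⁻¹ * t * w) * (t : G)⁻¹ := by rw [h2]
        _ = (t : G) * w * (t : G)⁻¹ := by group
  have h := Watanabe.natCard_eq_sum hM hmax hab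
  rw [← Finset.add_sum_erase _ _ (Finset.mem_univ (1 : P)), rk_at_one, horb1,
    Finset.card_singleton, Nat.cast_one, div_one,
    Finset.sum_congr rfl (g := fun _ => (e : ℂ)⁻¹) fun v hv => by
      rw [rk_eq_one hM hmax hab hfree (Finset.mem_erase.1 hv).1, horb v (Finset.mem_erase.1 hv).1,
        one_div],
    Finset.sum_const, Finset.card_erase_of_mem (Finset.mem_univ _), Finset.card_univ,
    ← Nat.card_eq_fintype_card, ← hm, Nat.add_sub_cancel, nsmul_eq_mul, Nat.cast_mul] at h
  have he0 : (e : ℂ) ≠ 0 := by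
    rw [he, ← card_range_act]
    exact Nat.cast_ne_zero.2 Nat.card_pos.ne'
  rw [mul_inv_cancel_right₀ he0, ← Nat.cast_add] at h
  exact_mod_cast h

/-- **The signed rows.** -/
theorem bound (hP1 : P ≠ ⊥) :
    ∃ m : ℕ, 1 ≤ m ∧
      m * (Subgroup.centralizer (P : Set G)).relIndex (pairStab M P c) + 1 = Nat.card P ∧
      Nat.card B ≤ m + (Subgroup.centralizer (P : Set G)).relIndex (pairStab M P c) ∧
      ((Subgroup.centralizer (P : Set G)).relIndex (pairStab M P c) ≤ 3 → m + 1 ≤ Nat.card B →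
        Nat.card B = m + (Subgroup.centralizer (P : Set G)).relIndex (pairStab M P c) ∨
          (Nat.card B = (Subgroup.centralizer (P : Set G)).relIndex (pairStab M P c) + 2 ∧
            m ≤ (Subgroup.centralizer (P : Set G)).relIndex (pairStab M P c) + 1 ∧ 3 ≤ m)) := by
  classical
  have := Fact.mk hM.1
  have := Fintype.ofFinite (Subgroup.centralizer (P : Set G))
  letI : CommGroup P := { (inferInstance : Group P) with
    mul_comm := fun a b => Subtype.ext (hab a a.2 b b.2) }
  have := Fintype.ofFinite (P →* ℂˣ)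
  obtain ⟨j, hj, hcrit⟩ := FreeSignPrim.exists_prim hM hmax.1.1.1 hmax.1.1.2
  let jG : MonoidAlgebra (kres M) G := j
  let m : Subgroup P → ℕ := fun Q => FreeSignLevels.mult jG (Q.map P.subtype)
  have hle : ∀ Q : Subgroup P, Q.map P.subtype ≤ P := fun Q => Subgroup.map_subtype_le Q
  have htop : ¬ p ∣ m ⊤ := by
    show ¬ p ∣ FreeSignLevels.mult jG ((⊤ : Subgroup P).map P.subtype)
    rw [← MonoidHom.range_eq_map, Subgroup.range_subtype]
    exact FreeSignLevels.not_dvd_mult_top hM hmax hab hj hcrit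
  have hInS : ∀ U : P → ℂ, IsCharacter P U → FreeSignAlg.InS p U := by
    intro U hU η
    obtain ⟨k, hk⟩ := CfsgLib.Char.classInner_isCharacter_nat hU
      (CfsgLib.Char.irr_isCharacter (CfsgLib.Char.isIrrCharacter_linear η))
    refine ⟨k, natCast_mem _ k, ?_⟩
    rw [Rat.cast_natCast, ← hk, FreeSignAlg.coef, CfsgLib.Char.classInner_def]
    congr 1
    refine Finset.sum_congr (by ext; simp) fun x _ => ?_
    rw [CfsgLib.Char.conj_linear_apply, MonoidHom.inv_apply]
  have hlev : ∀ Q : Subgroup P, Q ≠ ⊥ → Q ≠ ⊤ → FreeSignAlg.IsLevel m p Q := by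
    intro Q hQ _
    obtain ⟨U, g, hU, hgi, hg, hUg⟩ := FreeSignLevels.exists_level_char hM hmax hab hfree hj hcrit
      (hle Q) (by rwa [ne_eq, Subgroup.map_eq_bot_iff_of_injective _ P.subtype_injective])
    refine ⟨U, g, hInS U hU, hgi, hg, fun x => ?_⟩
    rw [hUg x]
    congr 3
    rw [Subgroup.map_sup, MonoidHom.map_zpowers, Subgroup.subtype_apply]
  obtain ⟨F, hF, hsign, hFinv⟩ := FreeSignAlg.exists_signs (m := m) hmax.1.1.1 htop hlev
  obtain ⟨J, hJ, hJJ, hJred⟩ := exists_lift hM (Y := P ⊔ ⊥) (H := ⊤) (j := jG)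
    (mem_fixAlg_top.1 j.2) (fun x hx => absurd (Subgroup.mem_top x) hx)
    (congrArg Subtype.val hj.1)
  let W : IrrCharacter G → P → ℂ := fun χ v => tval (χ : G → ℂ) (v : G) J * F v
  let σ : P → ℂ := fun v => F v * (m (Subgroup.zpowers v) : ℂ)
  have hW : ∀ χ : IrrCharacter G, ∀ v : P, v ≠ 1 → W χ v = coord hM hmax hab v χ * σ v := by
    intro χ v hv
    have := Fintype.ofFinite (cs (v : G))
    have hmv : m (Subgroup.zpowers v) = FreeSignLevels.mult jG (Subgroup.zpowers (v : G)) := by
      show FreeSignLevels.mult jG _ = _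
      rw [MonoidHom.map_zpowers, Subgroup.subtype_apply]
    show tval (χ : G → ℂ) (v : G) J * F v = _ * (F v * _)
    rw [hmv, FreeSignLevels.mult_eq_of_eq jG (cen_zpowers (v : G)).symm, coord_eq,
      FreeSignDatum.tval_eq hM hmax hab hj hcrit v.2
        (fun t ht => hfree t ht v v.2 fun h => hv (Subtype.ext h)) hJ hJJ hJred χ]
    ring
  have hσ1 : ∀ v : P, v ≠ 1 → σ v = 1 ∨ σ v = -1 := fun v hv => hsign v hv
  -- invariance
  have hσ : ∀ φ ∈ (act M P c).range, ∀ v : P, σ (φ v) = σ v := by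
    rintro _ ⟨t, rfl⟩ v
    have hφ : ∀ Q : Subgroup P, m (Q.map (act M P c t).toMonoidHom) = m Q := by
      intro Q
      show FreeSignLevels.mult jG _ = FreeSignLevels.mult jG _
      rw [← FreeSignLevels.mult_conj hM hmax hab hfree hj hcrit t.2 (hle Q), Subgroup.map_map,
        Subgroup.map_map]
      congr 1
    show F _ * (m _ : ℂ) = F v * (m _ : ℂ)
    rw [hFinv _ hφ, ← hφ (Subgroup.zpowers v), MonoidHom.map_zpowers]
    rfl
  have hrE : ∀ φ ∈ (act M P c).range, ∀ x : P, x ≠ 1 → φ x = x → φ = 1 := by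
    rintro _ ⟨t, rfl⟩ x hx h
    have hC := hfree t t.2 x x.2 (fun e => hx (Subtype.ext e))
      (by rw [← coe_act, h])
    refine MulEquiv.ext fun w => Subtype.ext ?_
    rw [coe_act, ← Subgroup.mem_centralizer_iff.1 hC w w.2, mul_inv_cancel_right]
    rfl
  have hA1 : 1 < Nat.card P := Subgroup.one_lt_card_iff_ne_bot P |>.2 hP1
  have := Fintype.ofFinite B
  obtain ⟨n, hn1, hn, hbd, hsmall⟩ := FreeSignOrbit.main (act M P c).range hrE hmax.1.1.1
    (fun χ : B => fun v => coord hM hmax hab v χ.1 * σ v)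
    (fun χ => ⟨W χ.1, ((hInS _ (exists_char_tval (CfsgLib.Char.irr_isCharacter χ.1.2)
      (isPInv_mono' le_sup_left hJ.1) hJJ)).mul hF), hW χ.1⟩)
    (fun χ v hv => by
      refine IsIntegral.mul ?_ ?_
      · have := Fintype.ofFinite (cs (v : G))
        rw [coord_eq]
        exact FreeSignDatum.aSec_isIntegral _ _ _
      · rcases hσ1 v hv with e | e <;> rw [e] <;> simp [isIntegral_one])
    (fun χ φ hφ v _ => by
      show coord hM hmax hab (φ v) χ.1 * σ (φ v) = _
      rw [hσ φ hφ v]
      obtain ⟨t, rfl⟩ := hφ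
      rw [coord_stab hM hmax hab t.2 (coe_act t v).symm])
    (fun v w hv hw => by
      have h1 : ∑ χ : B, coord hM hmax hab v χ.1 * σ v * conj (coord hM hmax hab w χ.1 * σ w) =
          σ v * conj (σ w) *
            ∑ χ ∈ B.toFinite.toFinset, coord hM hmax hab v χ * conj (coord hM hmax hab w χ) := by
        rw [Finset.mul_sum, Finset.sum_subtype B.toFinite.toFinset (p := fun x => x ∈ B) (F := (inferInstance : Fintype B)) (by simp)]
        refine Finset.sum_congr (by ext; simp) fun χ _ => ?_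
        rw [map_mul]
        ring
      rw [h1, coord_orth hM hmax hab hfree hv hw]
      by_cases h : ∃ φ ∈ (act M P c).range, φ v = w
      · rw [if_pos (mem_orb_iff.2 h), if_pos h]
        obtain ⟨φ, hφ, rfl⟩ := h
        rw [hσ φ hφ v]
        rcases hσ1 v hv with e | e <;> rw [e] <;> simp
      · rw [if_neg fun h' => h (mem_orb_iff.1 h'), if_neg h, mul_zero])
    (fun χ v hv => mul_ne_zero (coord_ne_zero hM hmax hab hfree hv χ.2) (by
      rcases hσ1 v hv with e | e <;> rw [e] <;> simp))
    hA1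
  rw [card_range_act] at hn hbd hsmall
  rw [← Nat.card_eq_fintype_card] at hbd hsmall
  exact ⟨n, hn1, hn, hbd, hsmall⟩

/-- **The invariants.** -/
theorem counts (hP1 : P ≠ ⊥) :
    let e := (Subgroup.centralizer (P : Set G)).relIndex (pairStab M P c)
    Nat.card B ≤ e + (Nat.card P - 1) / e ∧ blockRank p B ≤ e ∧
      (Nat.card B = e + (Nat.card P - 1) / e ↔ blockRank p B = e) ∧
      (e ≤ 3 → Nat.card B = e + (Nat.card P - 1) / e ∧ blockRank p B = e) := by
  intro e
  have := Fact.mk hM.1
  obtain ⟨m, hm1, hm, hbd, hsmall⟩ := bound hM hmax hab hfree hP1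
  have hk := natCard_eq hM hmax hab hfree hm
  have hl := one_le_blockRank hM hmax.1.2.1
  have he : 0 < e := by
    show 0 < (Subgroup.centralizer (P : Set G)).relIndex (pairStab M P c)
    rw [← card_range_act]
    exact Nat.card_pos
  have hdiv : (Nat.card P - 1) / e = m := by
    rw [← hm, Nat.add_sub_cancel, Nat.mul_div_cancel _ he]
  rw [hdiv]
  refine ⟨by omega, by omega, by omega, fun he3 => ?_⟩
  rcases hsmall he3 (by omega) with h | ⟨h1, h2, h3⟩
  · omega
  exfalso
  have hD := (maximal_core hM hmax).1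
  have hq : Nat.card P = p ^ blockDefect p B := natCard_defectGroup hM hmax.1.2.1 hD
  change m * e + 1 = Nat.card P at hm
  change Nat.card B = e + 2 at h1
  change m ≤ e + 1 at h2
  rcases (by omega : e = 2 ∨ (e = 3 ∧ m = 3) ∨ (e = 3 ∧ m = 4)) with he' | ⟨he', hm'⟩ | ⟨he', hm'⟩
  · -- seven
    have h4 := RankOneSmall.card_eq_pow_defect hM hmax.1.2.1 (by omega) (by omega)
    have hm' : m = 3 := by omega
    rw [← hq, ← hm, hm', he'] at h4
    omega
  · -- ten
    rw [hm', he', hq] at hm
    have hd : blockDefect p B ≠ 0 := fun h0 => by simp [h0] at hm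
    have h10 : p ∣ 10 := by
      rw [show (10 : ℕ) = p ^ blockDefect p B by omega]
      exact dvd_pow_self p hd
    have h2d : 2 ^ blockDefect p B ≤ p ^ blockDefect p B := Nat.pow_le_pow_left hM.1.two_le _
    have hd3 : blockDefect p B ≤ 3 := by
      by_contra hlt
      have := Nat.pow_le_pow_right (show 0 < 2 by norm_num) (show 4 ≤ blockDefect p B by omega)
      omega
    have hp10 := Nat.le_of_dvd (by norm_num) h10
    have hp := hM.1
    generalize blockDefect p B = d at hd hd3 hm
    interval_cases p <;> interval_cases d <;> norm_num at *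
  · -- thirteen
    rw [hm', he', hq] at hm
    have h13 : Nat.Prime 13 := by norm_num
    obtain ⟨hp13, hd1⟩ := h13.pow_eq_iff.1 (show p ^ blockDefect p B = 13 by omega)
    obtain ⟨X, Y, δ, δ₀, hmem, hdisj, -, hXY, hX, -⟩ :=
      DefectOneStar.isStar_of_defect_one hM hmax.1.2.1 hd1
    classical
    have hcard : Nat.card B = X.card + Y.card := by
      rw [← Finset.card_union_of_disjoint hdisj, Nat.card_eq_card_finite_toFinset B.toFinite]
      congr 1
      ext η
      simp [hmem]
    have hX1 : X.card = 1 := by omega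
    rw [hX1, one_mul] at hXY
    omega

end CfsgLib.BlockA.FreeSignRows
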