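import Cfsg.Agent.Lib.BlockB.StarVal
import Cfsg.Agent.Lib.BlockA.BlockMap
import Cfsg.Agent.Lib.Block.Orthogonality

/-!
The value of a character at an idempotent modulo `M`, through any idempotent lift.
-/

set_option autoImplicit false
set_option linter.unusedSectionVars false
set_option maxHeartbeats 1000000

namespace CfsgLib.BlockA.FreeSignVal

open Cfsg CfsgLib.Block CfsgLib.BlockA CfsgLib.BlockB.StarBr CfsgLib.BlockB.StarTrace
  CfsgLib.BlockB.StarLift CfsgLib.BlockB.StarVal MonoidAlgebra
open scoped ComplexConjugate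

universe u

variable {G : Type u} [Group G] [Fintype G] {p : ℕ} {M : Ideal AlgInt} [M.IsPrime]

theorem sup_bot_zpowers_one :
    Subgroup.zpowers (1 : G) ⊔ Subgroup.zpowers (1 : G) = (⊥ : Subgroup G) := by simp

theorem mem_fixAlg_bot {R : Type*} [CommRing R] (a : MonoidAlgebra R G) :
    a ∈ fixAlg R (⊥ : Subgroup G) ⊤ :=
  mem_fixAlg_top.2 fun v hv x => by rw [Subgroup.mem_bot.1 hv]; simp

theorem isPInv_bot {R : Type*} [CommRing R] (a : MonoidAlgebra R G) :
    IsPInv (⊥ : Subgroup G) a := mem_fixAlg_top.1 (mem_fixAlg_bot a)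

open Classical in
/-- The value at an idempotent modulo `M`. -/
noncomputable def val (χ : G → ℂ) (x : MonoidAlgebra (kres M) G) : ℂ :=
  if h : ∃ e : MonoidAlgebra (lring M) G, e * e = e ∧ redG e = x then tval χ 1 h.choose else 0

/-- A trace on the image of an idempotent is the value of a character. -/
theorem exists_char_tval {χ : G → ℂ} (hχ : IsCharacter G χ) {P : Subgroup G}
    {a : MonoidAlgebra (lring M) G} (ha : IsPInv P a) (haa : a * a = a) :
    IsCharacter P (fun v : P => tval χ (v : G) a) := by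
  classical
  obtain ⟨n, ρ, rfl⟩ := hχ
  set E : Module.End ℂ (Fin n → ℂ) :=
    ρ.asAlgebraHom (mapRingHom G (lring M).subtype a) with hE
  have hEE : E * E = E := by rw [hE, ← map_mul, ← map_mul, haa]
  have hsum : E = ∑ k, ((a.coeff k : lring M) : ℂ) • ρ k := by
    rw [hE]
    conv_lhs => rw [← MonoidAlgebra.sum_coeff_single (mapRingHom G (lring M).subtype a),
      Finsupp.sum_fintype _ _ (fun _ => by simp)]
    rw [map_sum]
    refine Finset.sum_congr rfl fun k _ => ?_
    rw [Representation.asAlgebraHom_single, coeff_mapRingHom]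
    rfl
  have hcomm : ∀ v : P, ρ (v : G) * E = E * ρ (v : G) := fun v => by
    rw [hsum, Finset.mul_sum, Finset.sum_mul]
    refine Fintype.sum_equiv (MulAut.conj (v : G)).toEquiv _ _ fun k => ?_
    simp only [MulEquiv.toEquiv_eq_coe, MulEquiv.coe_toEquiv, MulAut.conj_apply, mul_smul_comm,
      smul_mul_assoc, ha v v.2 k, ← map_mul]
    congr 2
    group
  let W : Submodule ℂ (Fin n → ℂ) := LinearMap.range E
  have hinv : ∀ v : P, ∀ x ∈ W, ρ (v : G) x ∈ W := by
    rintro v _ ⟨y, rfl⟩
    refine ⟨ρ (v : G) y, ?_⟩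
    rw [← Module.End.mul_apply, ← hcomm, Module.End.mul_apply]
  let σ : Representation ℂ P W :=
    { toFun := fun v => (ρ (v : G)).restrict (hinv v)
      map_one' := LinearMap.ext fun x => Subtype.ext (by simp)
      map_mul' := fun v w => LinearMap.ext fun x => Subtype.ext (by simp) }
  have htr : (fun v : P => tval ρ.character (v : G) a) = σ.character := by
    funext v
    have hmem : ∀ x, (ρ (v : G) * E) x ∈ W := fun x => hinv v _ ⟨x, rfl⟩
    have hrestr : (ρ (v : G) * E).restrict (fun x (_ : x ∈ W) => hmem x) = σ v := by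
      refine LinearMap.ext fun x => Subtype.ext ?_
      obtain ⟨y, hy⟩ := x.2
      show ρ (v : G) (E (x : Fin n → ℂ)) = ρ (v : G) (x : Fin n → ℂ)
      rw [← hy, ← Module.End.mul_apply E E, hEE]
    rw [Representation.character, ← hrestr,
      LinearMap.trace_restrict_eq_of_forall_mem W _ hmem, hcomm v, hE,
      asAlgebraHom_trace_mul, tval]
    exact Finset.sum_congr rfl fun k _ => by rw [coeff_mapRingHom]; rfl
  rw [htr]
  exact CfsgLib.Char.isCharacter_of_rep σ

variable (hM : IsPModular p M)
include hM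

/-- The trace of an idempotent is a natural number. -/
theorem exists_nat_tval {χ : G → ℂ} (hχ : IsCharacter G χ) {a : MonoidAlgebra (lring M) G}
    (haa : a * a = a) : ∃ d : ℕ, tval χ 1 a = d := by
  obtain ⟨d, hd⟩ :=
    CfsgLib.Char.char_apply_one_eq_nat (exists_char_tval hχ (isPInv_bot a) haa)
  exact ⟨d, by simpa using hd⟩

theorem exists_lift_idem {x : MonoidAlgebra (kres M) G} (hxx : x * x = x) :
    ∃ e : MonoidAlgebra (lring M) G, e * e = e ∧ redG e = x := by
  obtain ⟨e, -, he⟩ := exists_lift hM (isPInv_bot x)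
    (H := ⊤) (fun g hg => absurd trivial hg) hxx
  exact ⟨e, he⟩

/-- **The value is computed by any lift.** -/
theorem val_eq {χ : G → ℂ} (hχ : IsClassFunction G χ) {x : MonoidAlgebra (kres M) G}
    {e : MonoidAlgebra (lring M) G} (hee : e * e = e) (hred : redG e = x) :
    val χ x = tval χ 1 e := by
  have h : ∃ e : MonoidAlgebra (lring M) G, e * e = e ∧ redG e = x := ⟨e, hee, hred⟩
  rw [val, dif_pos h]
  have key := tval_congr hM hχ (u := 1) (s := 1) ⟨0, by simp⟩
    (by rw [orderOf_one]; exact hM.1.not_dvd_one) (Commute.one_left 1)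
    (e := h.choose) (f := e) (by rw [sup_bot_zpowers_one]; exact mem_fixAlg_bot _)
    (by rw [sup_bot_zpowers_one]; exact mem_fixAlg_bot _) h.choose_spec.1 hee
    (by rw [h.choose_spec.2, hred])
  simpa using key

theorem val_zero {χ : G → ℂ} (hχ : IsClassFunction G χ) :
    val χ (0 : MonoidAlgebra (kres M) G) = 0 := by
  rw [val_eq hM hχ (mul_zero 0) (map_zero _), tval_zero]

theorem exists_nat_val {χ : G → ℂ} (hχ : IsCharacter G χ) {x : MonoidAlgebra (kres M) G}
    (hxx : x * x = x) : ∃ d : ℕ, val χ x = d := by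
  obtain ⟨e, hee, hred⟩ := exists_lift_idem hM hxx
  rw [val_eq hM (CfsgLib.Char.isCharacter_isClassFunction hχ) hee hred]
  exact exists_nat_tval hM hχ hee

theorem val_add {χ : G → ℂ} (hχ : IsClassFunction G χ) {x y : MonoidAlgebra (kres M) G}
    (hxx : x * x = x) (hyy : y * y = y) (hxy : x * y = 0) (hyx : y * x = 0) :
    val χ (x + y) = val χ x + val χ y := by
  obtain ⟨e, hee, hred⟩ := exists_lift_idem hM hxx
  obtain ⟨f, -, hff, hfred, hef, hfe⟩ := exists_lift_orth hM (isPInv_bot y) (H := ⊤)
    (fun g hg => absurd trivial hg) hyy (mem_fixAlg_bot e) hee (by rw [hred, hxy])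
    (by rw [hred, hyx])
  rw [val_eq hM hχ hee hred, val_eq hM hχ hff hfred, val_eq hM hχ
    (by rw [add_mul, mul_add, mul_add, hee, hef, hfe, hff, add_zero, zero_add] :
      (e + f) * (e + f) = e + f) (by rw [map_add, hred, hfred]), tval_add]

theorem val_swap {χ : G → ℂ} (hχ : IsClassFunction G χ) {a b : MonoidAlgebra (kres M) G}
    (hab : a * b * (a * b) = a * b) (hba : b * a * (b * a) = b * a) :
    val χ (a * b) = val χ (b * a) := by
  obtain ⟨e, hee, hred⟩ := exists_lift_idem hM hab
  let A : fixAlg (lring M) (⊥ : Subgroup G) ⊤ := ⟨lift0 a, mem_fixAlg_bot _⟩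
  let B : fixAlg (lring M) (⊥ : Subgroup G) ⊤ := ⟨lift0 b, mem_fixAlg_bot _⟩
  have hA : redF _ _ A = a := redG_lift0 a
  have hB : redF _ _ B = b := redG_lift0 b
  set E : fixAlg (lring M) (⊥ : Subgroup G) ⊤ := ⟨e, mem_fixAlg_bot e⟩ with hE
  have hEE : E * E = E := Subtype.ext hee
  have hEred : redF (⊥ : Subgroup G) ⊤ E =
      redF (⊥ : Subgroup G) ⊤ A * redF (⊥ : Subgroup G) ⊤ B := by
    rw [hA, hB]; exact hred
  obtain ⟨e₁, y, he₁, -, -, hψe, habe, hidem, hψba⟩ := CfsgLib.BlockB.Hensel.exists_equiv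
    (CfsgLib.BlockB.Hensel.lringSplit hM) (redF (⊥ : Subgroup G) ⊤)
    (redF_algebraMap (⊥ : Subgroup G) ⊤) (a := A) (b := B) (e := E) hEE hEred
  have hr1 : redG (e₁ : MonoidAlgebra (lring M) G) = a * b := by rw [← hred]; exact hψe
  have hr2 : redG ((B * y * (e₁ * A) : fixAlg (lring M) (⊥ : Subgroup G) ⊤) :
      MonoidAlgebra (lring M) G) = b * a := by
    refine hψba.trans ?_
    rw [hA, hB, redF_apply]
    show b * redG e * a = b * a
    rw [hred, ← mul_assoc, mul_assoc (b * a), hba]
  rw [val_eq hM hχ (congrArg Subtype.val he₁) hr1,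
    val_eq hM hχ (congrArg Subtype.val hidem) hr2]
  conv_lhs => rw [← habe, MulMemClass.coe_mul]
  exact tval_mul_comm hχ _ _ fun x => by simp

/-- Transport along isomorphisms. -/
theorem val_map {H : Type u} [Group H] [Fintype H] (σ : H ≃* G) {χ : G → ℂ}
    (hχ : IsClassFunction G χ) {x : MonoidAlgebra (kres M) H} (hxx : x * x = x) :
    val (fun h : H => χ (σ h)) x =
      val χ (mapDomainRingHom (kres M) σ.toMonoidHom x) := by
  obtain ⟨e, hee, hred⟩ := exists_lift_idem hM hxx
  have hcl : IsClassFunction H fun h : H => χ (σ h) := fun a b => by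
    simp only [map_mul, map_inv]
    exact hχ _ _
  set e' := mapDomainRingHom (lring M) σ.toMonoidHom e with he'
  have hco : ∀ {R : Type} [CommRing R] (z : MonoidAlgebra R H) (h : H),
      (mapDomainRingHom R σ.toMonoidHom z).coeff (σ h) = z.coeff h := fun z h => by
    simp [MonoidAlgebra.mapDomainRingHom,
      Finsupp.mapDomain_apply σ.injective]
  have hred' : redG e' = mapDomainRingHom (kres M) σ.toMonoidHom x := by
    ext g
    obtain ⟨h, rfl⟩ := σ.surjective g
    rw [coeff_redG, hco, hco, ← hred, coeff_redG]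
  rw [val_eq hM hcl hee hred, val_eq hM hχ (by rw [he', ← map_mul, hee]) hred', tval, tval]
  refine Fintype.sum_equiv σ.toEquiv _ _ fun h => ?_
  simp only [MulEquiv.toEquiv_eq_coe, MulEquiv.coe_toEquiv, mul_one, he', hco]

/-- Idempotents only see the regular elements. -/
theorem tval_eq_zero_of_regular {f : G → ℂ} (hf : IsClassFunction G f)
    {e : MonoidAlgebra (lring M) G} (hee : e * e = e)
    (h0 : ∀ x : G, ¬ p ∣ orderOf x → f x = 0) : tval f 1 e = 0 := by
  classical
  set Z : MonoidAlgebra ℂ G := mapRingHom G (lring M).subtype e with hZ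
  have hcoef : ∀ x, Z.coeff x = ((e.coeff x : lring M) : ℂ) := fun x => by
    rw [hZ, coeff_mapRingHom]; rfl
  have hmain : ∀ h : G, p ∣ orderOf h → ∑ t : G, Z.coeff (t * h * t⁻¹ * (1 : G)⁻¹) = 0 :=
    fun h hh => sum_coeff_conj_eq_zero hM (M := M) (by rw [hZ, ← map_mul, hee])
      (fun x => by rw [hcoef]; exact (e.coeff x).2) (fun x => by simp) h
      (fun u w hu hw hc => by
        exfalso
        have hu1 : u = 1 := isPPart_unique hM.1 hu ⟨1, by simp, Commute.one_left 1,
          ⟨0, by simp⟩, by rw [orderOf_one]; exact hM.1.not_dvd_one⟩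
        rw [hu1, isConj_one_right] at hc
        obtain ⟨v, hv, -, -, hvp⟩ := hw
        rw [hc, one_mul] at hv
        exact hvp (hv ▸ hh))
  have hkey : (Nat.card G : ℂ) * tval f 1 e = 0 := by
    calc (Nat.card G : ℂ) * tval f 1 e = ∑ t : G, ∑ h : G, Z.coeff h * f h := by
          rw [Finset.sum_const, Finset.card_univ, ← Nat.card_eq_fintype_card, nsmul_eq_mul, tval]
          simp [hcoef]
      _ = ∑ t : G, ∑ h : G, Z.coeff (t * h * t⁻¹) * f h := by
          refine Finset.sum_congr rfl fun t _ => ?_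
          refine (Fintype.sum_equiv (MulAut.conj t).toEquiv _ _ fun h => ?_).symm
          simp only [MulEquiv.toEquiv_eq_coe, MulEquiv.coe_toEquiv, MulAut.conj_apply, hf h t]
      _ = 0 := by
          rw [Finset.sum_comm]
          refine Finset.sum_eq_zero fun h _ => ?_
          by_cases hh : p ∣ orderOf h
          · have h1 := hmain h hh
            simp only [inv_one, mul_one] at h1
            rw [← Finset.sum_mul, h1, zero_mul]
          · simp [h0 h hh]
  exact (mul_eq_zero.1 hkey).resolve_left (Nat.cast_ne_zero.2 Nat.card_pos.ne')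

theorem val_congr_regular {f f' : G → ℂ} (hf : IsClassFunction G f) (hf' : IsClassFunction G f')
    {x : MonoidAlgebra (kres M) G} (hxx : x * x = x)
    (h : ∀ y : G, ¬ p ∣ orderOf y → f y = f' y) : val f x = val f' x := by
  obtain ⟨e, hee, hred⟩ := exists_lift_idem hM hxx
  rw [val_eq hM hf hee hred, val_eq hM hf' hee hred, ← sub_eq_zero]
  have := tval_eq_zero_of_regular hM (f := fun z => f z - f' z)
    (fun a b => by simp only [hf a b, hf' a b]) hee fun z hz => by simp [h z hz]
  rw [← this]
  simp [tval, mul_sub, Finset.sum_sub_distrib]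

/-- A character only sees the part of an idempotent in its block. -/
theorem val_blk {b : Set (IrrCharacter G)} (hb : IsPBlock M b) (κ : IrrCharacter G)
    {x : MonoidAlgebra (kres M) G} (hxx : x * x = x) (hκ : κ ∈ b) :
    val (κ : G → ℂ) x = val (κ : G → ℂ) ((blkIdem M b : MonoidAlgebra (kres M) G) * x) := by
  classical
  obtain ⟨e, hee, hred⟩ := exists_lift_idem hM hxx
  have hcl := CfsgLib.Char.irr_isClassFunction κ.2
  set z : MonoidAlgebra (lring M) G := mkGA fun g =>
    ⟨blockCoeff b g, blockCoeff_memLocalRing hM hb g⟩ with hz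
  have hzC : mapRingHom G (lring M).subtype z = blockSum b := by
    ext g
    simp [hz, blockSum]
  have hzz : z * z = z := by
    apply mapC_injective
    rw [map_mul, hzC, blockSum_mul, Set.inter_self]
  have hzc : z * e = e * z := by
    apply mapC_injective
    rw [map_mul, map_mul, hzC]
    exact (Subalgebra.mem_center_iff.1
      (isClassCoeff_iff_mem_center.1 (blockSum_isClassCoeff b)) _).symm
  have hzred : redG z = (blkIdem M b : MonoidAlgebra (kres M) G) := by
    ext g
    rw [coeff_redG, coeff_blkIdem, ← redC_coe]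
    simp [hz]
  have hze : z * e * (z * e) = z * e := by
    rw [mul_assoc z e, ← mul_assoc e z e, ← hzc, mul_assoc z e e, hee, ← mul_assoc, hzz]
  rw [val_eq hM hcl hee hred, val_eq hM hcl hze (by rw [map_mul, hzred, hred])]
  have h := chiExt_mul_central κ.2 (mapRingHom G (lring M).subtype e)
    (blockSum_isClassCoeff b) 1
  rw [omegaC_blockSum, if_pos hκ, one_mul, ← hzC, ← map_mul, ← hzc] at h
  simp only [chiExt_eq, coeff_mapRingHom] at h
  exact h.symm

end CfsgLib.BlockA.FreeSignVal
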