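import Cfsg.Agent.Lib.BlockA.Glauberman
import Cfsg.Agent.Lib.Solvable.MinNormal
import Mathlib.GroupTheory.Solvable

/-! A solvable group acting coprimely fixes as many irreducible characters as conjugacy classes. -/

namespace CfsgLib.BlockA

universe u v

/-- A conjugacy class is fixed by the action. -/
def IsFixedClass (S : Type*) [Group S] {G : Type*} [Group G] [MulDistribMulAction S G]
    (K : ConjClasses G) : Prop :=
  ∀ (s : S) (g : G), ConjClasses.mk g = K → ConjClasses.mk (s • g) = K

theorem natCard_inv_eq_natCard_fixedClass : ∀ (n : ℕ) (G : Type u) (S : Type v) [Group G] [Group S]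
    [Finite G] [Finite S] [MulDistribMulAction S G], Nat.card S = n → Group.IsSolvable S →
    (Nat.card G).Coprime (Nat.card S) →
    Nat.card {χ : Cfsg.IrrCharacter G // IsInv S (χ : G → ℂ)} =
      Nat.card {K : ConjClasses G // IsFixedClass S K} := by
  intro n
  induction n using Nat.strong_induction_on with
  | _ n ih =>
    intro G S _ _ _ _ _ hn hsolv hcop
    classical
    rcases subsingleton_or_nontrivial S with hs | hs
    · have htriv : ∀ (s : S) (g : G), s • g = g := fun s g => by
        rw [Subsingleton.elim s 1, one_smul]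
      exact ((Nat.card_congr (Equiv.subtypeUnivEquiv
        (fun (χ : Cfsg.IrrCharacter G) s g => by rw [htriv]))).trans CfsgLib.Char.irr_card_eq).trans
        (Nat.card_congr (Equiv.subtypeUnivEquiv
          (fun (K : ConjClasses G) s g h => by rw [htriv]; exact h))).symm
    · have := hsolv
      obtain ⟨T, hTn, hT1, p, hp, hTp⟩ : ∃ T : Subgroup S, T.Normal ∧ T ≠ ⊥ ∧ ∃ p : ℕ,
          p.Prime ∧ IsPGroup p T := by
        obtain ⟨T, ⟨hTn, hT1⟩, hmin⟩ := (Set.toFinite {T : Subgroup S | T.Normal ∧ T ≠ ⊥}).exists_minimal
          ⟨⊤, inferInstance, top_ne_bot⟩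
        have hmin' : ∀ M : Subgroup S, M.Normal → M ≤ T → M = ⊥ ∨ M = T := fun M hM hle => by
          by_cases h : M = ⊥
          · exact Or.inl h
          · exact Or.inr (le_antisymm hle (hmin ⟨hM, h⟩ hle))
        haveI := hTn
        haveI : Group.IsSolvable T := inferInstance
        obtain ⟨p, hp, hpT⟩ := CfsgLib.Solvable.exists_isPGroup_of_minimal_normal (N := T) hT1 hmin'
        exact ⟨T, hTn, hT1, p, hp, hpT.1⟩
      have := Fact.mk hp
      have := hTn
      have hTdvd : p ∣ Nat.card T := by
        have : Nontrivial T := (Subgroup.nontrivial_iff_ne_bot T).2 hT1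
        obtain ⟨k, hk, hc⟩ := hTp.nontrivial_iff_card.1 inferInstance
        exact hc ▸ dvd_pow_self p hk.ne'
      have hpG : ¬ p ∣ Nat.card G := fun hd => hp.one_lt.ne' (Nat.dvd_one.1
        (hcop.gcd_eq_one ▸ Nat.dvd_gcd hd (hTdvd.trans (Subgroup.card_subgroup_dvd_card T))))
      let C : Subgroup G :=
        { carrier := {g | ∀ t : T, t • g = g}
          one_mem' := fun t => smul_one t
          mul_mem' := fun {a b} ha hb t => by rw [smul_mul', ha, hb]
          inv_mem' := fun {a} ha t => by rw [smul_inv', ha] }
      have hrange : ∀ g : G, g ∈ C.subtype.range ↔ ∀ t : T, t • g = g := fun g => by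
        rw [Subgroup.range_subtype]; exact Iff.rfl
      have hsC : ∀ (s : S), ∀ g ∈ C, s • g ∈ C := by
        intro s g hg t
        have h1 : s⁻¹ * (t : S) * s ∈ T := by
          have := hTn.conj_mem t t.2 s⁻¹
          simpa using this
        have h2 := hg ⟨_, h1⟩
        show (t : S) • s • g = s • g
        have h3 : (s⁻¹ * (t : S) * s) • g = g := h2
        rw [mul_smul, mul_smul, inv_smul_eq_iff] at h3
        exact h3
      let φ : S →* MulAut C :=
        { toFun := fun s =>
            { toFun := fun c => ⟨s • (c : G), hsC s c c.2⟩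
              invFun := fun c => ⟨s⁻¹ • (c : G), hsC s⁻¹ c c.2⟩
              left_inv := fun c => Subtype.ext (inv_smul_smul s _)
              right_inv := fun c => Subtype.ext (smul_inv_smul s _)
              map_mul' := fun a b => Subtype.ext (smul_mul' s _ _) }
          map_one' := by ext c; exact one_smul S (c : G)
          map_mul' := fun a b => by ext c; exact mul_smul a b (c : G) }
      have hTker : T ≤ φ.ker := fun t ht => by
        rw [MonoidHom.mem_ker]; ext c; exact c.2 ⟨t, ht⟩
      letI : MulDistribMulAction (S ⧸ T) C :=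
        MulDistribMulAction.compHom C (QuotientGroup.lift T φ hTker)
      have hsmul : ∀ (s : S) (c : C),
          (((QuotientGroup.mk s : S ⧸ T) • c : C) : G) = s • (c : G) := fun s c => rfl
      have hlt : Nat.card (S ⧸ T) < n := by
        rw [← hn]
        have h := Subgroup.card_eq_card_quotient_mul_card_subgroup T
        have h2 : 2 ≤ Nat.card T := hp.two_le.trans (Nat.le_of_dvd Nat.card_pos hTdvd)
        rw [h]
        have := (Nat.card_pos : 0 < Nat.card (S ⧸ T))
        nlinarith
      haveI : Group.IsSolvable S := hsolv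
      have key := ih _ hlt C (S ⧸ T) rfl inferInstance ((hcop.coprime_dvd_left
        (Subgroup.card_subgroup_dvd_card C)).coprime_dvd_right (Subgroup.card_quotient_dvd_card T))
      have := Fintype.ofFinite G
      have := Fintype.ofFinite C
      have hι := C.subtype_injective
      obtain ⟨g1, -, g3, g4⟩ := glauberman_pGroup C.subtype hι hrange hTp hpG
      have hTinv : ∀ χ : G → ℂ, IsInv S χ → IsInv T χ := fun χ h t g => h t g
      let R : Cfsg.IrrCharacter G → Cfsg.IrrCharacter C → Prop := fun χ β => ∃ m : ℕ,
        Cfsg.classInner (fun c => (χ : G → ℂ) (C.subtype c)) (β : C → ℂ) = m ∧ ¬ p ∣ m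
      have hRsmul : ∀ (s : S) χ β, R χ β → R (s • χ) ((QuotientGroup.mk s : S ⧸ T) • β) := by
        rintro s χ β ⟨m, hm, hnd⟩
        refine ⟨m, ?_, hnd⟩
        rw [← hm, CfsgLib.Char.classInner_def, CfsgLib.Char.classInner_def]
        congr 1
        refine Fintype.sum_equiv (MulAction.toPerm (QuotientGroup.mk s : S ⧸ T)⁻¹) _ _ fun c => ?_
        rfl
      have hchar : Nat.card {χ : Cfsg.IrrCharacter G // IsInv S (χ : G → ℂ)} =
          Nat.card {β : Cfsg.IrrCharacter C // IsInv (S ⧸ T) (β : C → ℂ)} := by
        refine Nat.card_congr (Equiv.ofBijective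
          (fun χ => ⟨(g1 χ.1 (hTinv _ χ.2)).choose, ?_⟩) ⟨fun a b hab => ?_, fun β => ?_⟩)
        · rw [isInv_iff_fixed]
          intro q
          induction q using QuotientGroup.induction_on with | _ s => ?_
          have hs : s • χ.1 = χ.1 := (isInv_iff_fixed χ.1).1 χ.2 s
          refine (g1 χ.1 (hTinv _ χ.2)).choose_spec.2 _ ?_
          have := hRsmul s χ.1 _ (g1 χ.1 (hTinv _ χ.2)).choose_spec.1
          rwa [hs] at this
        · obtain ⟨m, hm, hm'⟩ := (g1 a.1 (hTinv _ a.2)).choose_spec.1
          obtain ⟨k, hk, hk'⟩ := (g1 b.1 (hTinv _ b.2)).choose_spec.1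
          have he := congrArg Subtype.val hab
          simp only at he
          rw [← he] at hk
          exact Subtype.ext (g3 _ _ (hTinv _ a.2) (hTinv _ b.2) _ _ _ hm hm' hk hk')
        · obtain ⟨χ, hχT, hR⟩ := g4 β.1
          have hinv : IsInv S (χ : G → ℂ) := by
            rw [isInv_iff_fixed]
            intro s
            have h2 := hRsmul s χ β.1 hR
            rw [(isInv_iff_fixed β.1).1 β.2] at h2
            obtain ⟨m, hm, hm'⟩ := hR
            obtain ⟨k, hk, hk'⟩ := h2
            refine g3 _ _ ?_ hχT _ _ _ hk hk' hm hm'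
            intro t g
            show (χ : G → ℂ) (s⁻¹ • (t : S) • g) = (χ : G → ℂ) (s⁻¹ • g)
            have h1 : s⁻¹ * (t : S) * s ∈ T := by
              have := hTn.conj_mem t t.2 s⁻¹; simpa using this
            rw [← hχT ⟨_, h1⟩ (s⁻¹ • g)]
            refine congrArg _ ?_
            show s⁻¹ • (t : S) • g = (s⁻¹ * (t : S) * s) • s⁻¹ • g
            rw [smul_smul, smul_smul, mul_inv_cancel_right]
          exact ⟨⟨χ, hinv⟩, Subtype.ext ((g1 χ (hTinv _ hinv)).choose_spec.2 _ hR).symm⟩
      have hmap : ∀ (K : {K : ConjClasses C // IsFixedClass (S ⧸ T) K}),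
          IsFixedClass S (ConjClasses.map C.subtype K.1) := by
        rintro ⟨K, hK⟩ s g hg
        induction K using Quotient.inductionOn with | _ c => ?_
        change ConjClasses.mk g = ConjClasses.mk (c : G) at hg
        show ConjClasses.mk (s • g) = ConjClasses.mk (c : G)
        have h1 := congrArg (ConjClasses.map C.subtype) (hK (QuotientGroup.mk s) c rfl)
        rw [ConjClasses.mk_eq_mk_iff_isConj] at hg ⊢
        change ConjClasses.mk (s • (c : G)) = ConjClasses.mk (c : G) at h1
        rw [ConjClasses.mk_eq_mk_iff_isConj] at h1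
        obtain ⟨x, hx⟩ := isConj_iff.1 hg
        refine (isConj_iff.2 ⟨s • x, ?_⟩).trans h1
        rw [← smul_inv', ← smul_mul', ← smul_mul', hx]
      have hclass : Nat.card {K : ConjClasses G // IsFixedClass S K} =
          Nat.card {K : ConjClasses C // IsFixedClass (S ⧸ T) K} := by
        refine (Nat.card_congr (Equiv.ofBijective
          (fun K => (⟨ConjClasses.map C.subtype K.1, hmap K⟩ : {K : ConjClasses G // IsFixedClass S K}))
          ⟨fun a b hab => ?_, fun K => ?_⟩)).symm
        · obtain ⟨a, ha⟩ := a
          obtain ⟨b, hb⟩ := b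
          induction a using Quotient.inductionOn with | _ c => ?_
          induction b using Quotient.inductionOn with | _ d => ?_
          have h := congrArg Subtype.val hab
          change ConjClasses.mk (c : G) = ConjClasses.mk (d : G) at h
          exact Subtype.ext (ConjClasses.mk_eq_mk_iff_isConj.2
            (isConj_of_isConj C.subtype hι hrange hTp hpG (ConjClasses.mk_eq_mk_iff_isConj.1 h)))
        · obtain ⟨K, hK⟩ := K
          obtain ⟨g₀, rfl⟩ := ConjClasses.mk_surjective K
          let X := (ConjClasses.mk g₀).carrier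
          letI : MulAction T X :=
            { smul := fun t g => ⟨t • g.1, ConjClasses.mem_carrier_iff_mk_eq.2
                (hK (t : S) g.1 (ConjClasses.mem_carrier_iff_mk_eq.1 g.2))⟩
              one_smul := fun g => Subtype.ext (one_smul T g.1)
              mul_smul := fun a b g => Subtype.ext (mul_smul a b g.1) }
          have hX : ¬ p ∣ Nat.card X := fun hd => hpG (hd.trans
            ⟨_, (CfsgLib.Char.natCard_carrier_mul_centralizer g₀).symm⟩)
          obtain ⟨g, hg⟩ := hTp.nonempty_fixed_point_of_prime_not_dvd_card X hX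
          have hgC : g.1 ∈ C := fun t => congrArg Subtype.val (hg t)
          have hgK := ConjClasses.mem_carrier_iff_mk_eq.1 g.2
          refine ⟨⟨ConjClasses.mk (⟨g.1, hgC⟩ : C), fun q c hc => ?_⟩, Subtype.ext hgK⟩
          induction q using QuotientGroup.induction_on with | _ s => ?_
          rw [← hc, ConjClasses.mk_eq_mk_iff_isConj]
          refine isConj_of_isConj C.subtype hι hrange hTp hpG ?_
          rw [← ConjClasses.mk_eq_mk_iff_isConj]
          have h1 : ConjClasses.mk (c : G) = ConjClasses.mk g₀ := by
            rw [← hgK]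
            exact congrArg (ConjClasses.map C.subtype) hc
          exact (hK s (c : G) h1).trans h1.symm
      rw [hchar, hclass]
      exact key

end CfsgLib.BlockA
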