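import Cfsg.Agent.Lib.BlockA.CoverStable
import Cfsg.Agent.Lib.BlockA.BrauerCorr
import Cfsg.Agent.Lib.BlockA.PairNorm

/-! The Harris–Knörr correspondence. -/

set_option autoImplicit false
set_option linter.unusedSectionVars false
set_option maxHeartbeats 1000000

namespace CfsgLib.BlockA

open Cfsg CfsgLib.Block MonoidAlgebra

universe u

variable {G : Type u} [Group G] [Fintype G] {p : ℕ} {M : Ideal AlgInt} [M.IsPrime]

local notation "cen" Q => Subgroup.centralizer ((Q : Subgroup G) : Set G)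
local notation "nor" Q => Subgroup.normalizer ((Q : Subgroup G) : Set G)

/-- The truncation to the centralizer of `Q`, inside the group algebra of `G`. -/
noncomputable def brGA (Q : Subgroup G) (a : MonoidAlgebra (kres M) G) :
    MonoidAlgebra (kres M) G :=
  inclSub (cen Q) (resSub (cen Q) a)

theorem coeff_brGA_of_mem {Q : Subgroup G} (a : MonoidAlgebra (kres M) G) {x : G}
    (hx : x ∈ cen Q) : (brGA Q a).coeff x = a.coeff x := by
  rw [brGA, show x = ((⟨x, hx⟩ : (cen Q)) : G) from rfl, coeff_inclSub_of_mem, coeff_resSub]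

theorem coeff_brGA_of_not_mem {Q : Subgroup G} (a : MonoidAlgebra (kres M) G) {x : G}
    (hx : x ∉ cen Q) : (brGA Q a).coeff x = 0 := coeff_inclSub_of_not_mem _ _ hx

theorem brGA_sum {ι : Type*} (Q : Subgroup G) (s : Finset ι) (f : ι → MonoidAlgebra (kres M) G) :
    brGA Q (∑ i ∈ s, f i) = ∑ i ∈ s, brGA Q (f i) := by
  ext x
  rw [coeff_sum, Finsupp.finsetSum_apply]
  by_cases hx : x ∈ cen Q
  · simp only [coeff_brGA_of_mem _ hx, coeff_sum, Finsupp.finsetSum_apply]
  · simp only [coeff_brGA_of_not_mem _ hx, Finset.sum_const_zero]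

theorem brGA_mul (hM : IsPModular p M) {Q : Subgroup G} (hQ : IsPGroup p Q)
    {a b : MonoidAlgebra (kres M) G} (ha : IsPInv Q a) (hb : IsPInv Q b) :
    brGA Q (a * b) = brGA Q a * brGA Q b := by
  rw [brGA, resSub_mul hM hQ ha hb, map_mul]
  rfl

/-- Truncations in two steps. -/
theorem brGA_brGA {Q P : Subgroup G} (h : Q ≤ P) (a : MonoidAlgebra (kres M) G) :
    brGA P (brGA Q a) = brGA P a := by
  ext x
  by_cases hx : x ∈ cen P
  · rw [coeff_brGA_of_mem _ hx, coeff_brGA_of_mem _ hx,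
      coeff_brGA_of_mem _ (Subgroup.centralizer_le h hx)]
  · rw [coeff_brGA_of_not_mem _ hx, coeff_brGA_of_not_mem _ hx]

theorem conjGA_brGA {Q : Subgroup G} {h : G} (hh : h ∈ nor Q) (a : MonoidAlgebra (kres M) G) :
    conjGA h (brGA Q a) = brGA Q (conjGA h a) := by
  have hn : ∀ y : G, y ∈ (cen Q) → ∀ g ∈ nor Q, g * y * g⁻¹ ∈ (cen Q) := by
    intro y hy g hg
    rw [Subgroup.mem_centralizer_iff] at hy ⊢
    intro q hq
    have h2 := hy _ ((Subgroup.mem_normalizer_iff''.1 hg q).1 hq)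
    calc q * (g * y * g⁻¹) = g * ((g⁻¹ * q * g) * y) * g⁻¹ := by group
      _ = g * (y * (g⁻¹ * q * g)) * g⁻¹ := by rw [h2]
      _ = _ := by group
  ext x
  rw [coeff_conjGA]
  by_cases hx : x ∈ cen Q
  · rw [coeff_brGA_of_mem _ hx, coeff_brGA_of_mem _
      (by simpa using hn x hx h⁻¹ ((nor Q).inv_mem hh)), coeff_conjGA]
  · rw [coeff_brGA_of_not_mem _ hx, coeff_brGA_of_not_mem]
    intro h'
    exact hx (by simpa [mul_assoc] using hn _ h' h hh)

variable {N : Subgroup G} [hN : N.Normal] [Fintype N]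

/-- The normalizer of `Q` in `N`. -/
def normInfIso (Q : Subgroup G) (hQN : Q ≤ N) :
    Subgroup.normalizer ((Q.subgroupOf N : Subgroup N) : Set N) ≃* ↥((nor Q) ⊓ N) where
  toFun t := ⟨((t : N) : G), Subgroup.mem_normalizer_iff.2 fun r => by
    constructor
    · intro hr
      exact (Subgroup.mem_normalizer_iff.1 t.2 ⟨r, hQN hr⟩).1 hr
    · intro hr
      have hrN : r ∈ N := by
        have := hN.conj_mem _ (hQN hr) ((t : N) : G)⁻¹
        simpa [mul_assoc] using this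
      exact (Subgroup.mem_normalizer_iff.1 t.2 ⟨r, hrN⟩).2 hr, (t : N).2⟩
  invFun l := ⟨⟨(l : G), l.2.2⟩, Subgroup.mem_normalizer_iff.2 fun r =>
    Subgroup.mem_normalizer_iff.1 l.2.1 (r : G)⟩
  left_inv _ := rfl
  right_inv _ := rfl
  map_mul' _ _ := rfl

/-- `N_N(Q)` inside `N_G(Q)`. -/
def infNormIso (Q : Subgroup G) : N.subgroupOf (nor Q) ≃* ↥((nor Q) ⊓ N) where
  toFun t := ⟨((t : (nor Q)) : G), (t : (nor Q)).2, t.2⟩
  invFun l := ⟨⟨(l : G), l.2.1⟩, l.2.2⟩
  left_inv _ := rfl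
  right_inv _ := rfl
  map_mul' _ _ := rfl

variable [Fact p.Prime] (hM : IsPModular p M) {Q : Subgroup G} (hQ : IsPGroup p Q) (hQN : Q ≤ N)
  {d : Set (IrrCharacter N)} (hd : IsPBlock M d) (hdQ : IsDefectGroup p M d (Q.subgroupOf N))
  {e : Set (IrrCharacter ↥((Subgroup.normalizer (Q : Set G)) ⊓ N))} (he : IsPBlock M e)
  (heQ : IsDefectGroup p M e (Q.subgroupOf ((Subgroup.normalizer (Q : Set G)) ⊓ N)))
  (hed : IsInducedBlockIn M N ((Subgroup.normalizer (Q : Set G)) ⊓ N) e d)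
include hM hQ hQN hd hdQ he heQ hed

/-- The truncated idempotent of `d` is that of its Brauer correspondent. -/
theorem brGA_sIdem_corr : brGA Q (sIdem M N d) = sIdem M ((nor Q) ⊓ N) e := by
  classical
  set Q' := Q.subgroupOf N with hQ'
  set τ := normInfIso (N := N) Q hQN with hτ
  have hQ'p : IsPGroup p Q' := hQ.comap_subtype
  set e'' := blockMap τ e with he''
  have he''b : IsPBlock M e'' := isPBlock_blockMap τ he
  have : (Q'.subgroupOf (Subgroup.normalizer (Q' : Set N))).Normal := Subgroup.normal_in_normalizer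
  have hQL : Q ≤ (nor Q) ⊓ N := le_inf Subgroup.le_normalizer hQN
  have he''D : IsDefectGroup p M e'' (Q'.subgroupOf (Subgroup.normalizer (Q' : Set N))) := by
    refine defectGroup_of_normal_of_card hM (D := Q'.subgroupOf (Subgroup.normalizer (Q' : Set N)))
      hQ'p.comap_subtype he''b ?_
    rw [blockDefect_blockMap, ← natCard_defectGroup hM he heQ,
      Nat.card_congr (Subgroup.subgroupOfEquivOfLe hQL).toEquiv,
      Nat.card_congr (Subgroup.subgroupOfEquivOfLe Subgroup.le_normalizer).toEquiv,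
      Nat.card_congr (Subgroup.subgroupOfEquivOfLe hQN).toEquiv]
  have hind : IsInducedBlock M (Subgroup.normalizer (Q' : Set N)) e'' d := by
    refine ⟨he''b, hd, ?_⟩
    rintro _ ⟨ξ, hξ, rfl⟩ χ hχ n
    refine Eq.subst (motive := fun v => MemLocalIdeal M (v - _)) ?_ (hed.2.2 ξ hξ χ hχ n)
    rw [inducedCentralChar, inducedCentralCharIn]
    refine (finsum_mem_eq_of_bijOn τ ⟨?_, τ.injective.injOn, ?_⟩ fun k _ => ?_).symm
    · intro k hk
      obtain ⟨c, hc⟩ := isConj_iff.1 hk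
      refine ⟨c⁻¹, ?_⟩
      have h1 : (k : N) = c * n * c⁻¹ := hc.symm
      show ((c⁻¹ : N) : G) * ((k : N) : G) * ((c⁻¹ : N) : G)⁻¹ = (n : G)
      rw [h1]
      push_cast
      group
    · rintro l ⟨x, hx⟩
      refine ⟨τ.symm l, isConj_iff.2 ⟨x⁻¹, Subtype.ext ?_⟩, τ.apply_symm_apply l⟩
      show ((x⁻¹ : N) : G) * (n : G) * ((x⁻¹ : N) : G)⁻¹ = (l : G)
      rw [← hx]
      push_cast
      group
    · rw [irrMap_apply, irrMap_apply, map_one]
  obtain ⟨b, hb, hbD, hbind, hbe⟩ := exists_local hM hd hdQ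
  rw [firstMain_unique hM hQ'p he''D hind hbind, sIdem] at hbe
  ext x
  by_cases hx : x ∈ (nor Q) ⊓ N
  · set t := τ.symm ⟨x, hx⟩ with ht
    have h1 := congrArg (fun a : MonoidAlgebra (kres M) N => a.coeff (t : N)) hbe
    rw [coeff_inclSub_of_mem, coeff_blkIdem, he'', blockCoeff_blockMap, ht,
      MulEquiv.apply_symm_apply] at h1
    show (brGA Q (sIdem M N d)).coeff x =
      (inclSub ((nor Q) ⊓ N) (blkIdem M e : MonoidAlgebra (kres M) _)).coeff
        ((⟨x, hx⟩ : ↥((nor Q) ⊓ N)) : G)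
    rw [coeff_inclSub_of_mem, coeff_blkIdem, h1]
    by_cases hc : x ∈ cen Q
    · rw [coeff_brGA_of_mem _ hc, coeff_trunc_of_mem _ ((mem_cen_subgroupOf hQN _).2 hc)]
      exact (coeff_inclSub_of_mem N (blkIdem M d : MonoidAlgebra (kres M) N) ⟨x, hx.2⟩).trans
        (coeff_blkIdem _ _)
    · rw [coeff_brGA_of_not_mem _ hc,
        coeff_trunc_of_not_mem _ (fun h => hc ((mem_cen_subgroupOf hQN _).1 h))]
  · rw [coeff_sIdem_of_not_mem _ hx]
    by_cases hc : x ∈ cen Q
    · rw [coeff_brGA_of_mem _ hc]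
      exact coeff_sIdem_of_not_mem _ fun h => hx ⟨Subgroup.centralizer_le_normalizer _ hc, h⟩
    · exact coeff_brGA_of_not_mem _ hc

/-- The truncations of the conjugates of `e_d`. -/
theorem brGA_conj_corr (a : G) : brGA Q (conjGA a (sIdem M N d)) = 0 ∨
    ∃ h ∈ (nor Q), brGA Q (conjGA a (sIdem M N d)) = conjGA h (sIdem M ((nor Q) ⊓ N) e) := by
  classical
  by_cases h0 : brGA Q (conjGA a (sIdem M N d)) = 0
  · exact Or.inl h0
  refine Or.inr ?_
  obtain ⟨x, hx⟩ : ∃ x, (brGA Q (conjGA a (sIdem M N d))).coeff x ≠ 0 := by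
    by_contra hall
    push Not at hall
    exact h0 (by ext x; rw [hall x]; simp)
  have hxC : x ∈ cen Q := by
    by_contra h
    exact hx (coeff_brGA_of_not_mem _ h)
  rw [coeff_brGA_of_mem _ hxC, coeff_conjGA] at hx
  have hyN : a⁻¹ * x * a ∈ N := by
    by_contra h
    exact hx (coeff_sIdem_of_not_mem d h)
  rw [show a⁻¹ * x * a = ((⟨_, hyN⟩ : N) : G) from rfl, sIdem, coeff_inclSub_of_mem] at hx
  set R := Q.map (MulAut.conj a⁻¹).toMonoidHom with hR
  have hRN : R ≤ N := by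
    rintro _ ⟨q, hq, rfl⟩
    exact hN.conj_mem _ (hQN hq) _
  have hcent : (⟨_, hyN⟩ : N) ∈ Subgroup.centralizer ((R.subgroupOf N : Subgroup N) : Set N) := by
    refine Subgroup.mem_centralizer_iff.2 fun r hr => Subtype.ext ?_
    obtain ⟨q, hq, hqr⟩ := hr
    have h := Subgroup.mem_centralizer_iff.1 hxC q hq
    simp only [Subgroup.coe_mul]
    rw [show (r : G) = a⁻¹ * q * a from (show (r : G) = _ from hqr.symm).trans (by simp)]
    calc a⁻¹ * q * a * (a⁻¹ * x * a) = a⁻¹ * (q * x) * a := by group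
      _ = a⁻¹ * (x * q) * a := by rw [h]
      _ = _ := by group
  obtain ⟨n, hn⟩ := (exists_le_conj_iff_coeff hM hd hdQ (R := R.subgroupOf N)
    (hQ.map _).comap_subtype).1 ⟨_, hcent, hx⟩
  have hmem : a * (n : G) ∈ nor Q := by
    rw [← Subgroup.inv_mem_iff, Subgroup.mem_normalizer_iff_map_conj_eq]
    refine Subgroup.eq_of_le_of_card_ge ?_ (le_of_eq (natCard_map_conj Q _).symm)
    rintro _ ⟨q, hq, rfl⟩
    have hq' : a⁻¹ * q * a ∈ R := ⟨q, hq, by simp⟩
    obtain ⟨c, hc, hce⟩ := hn (show (⟨_, hRN hq'⟩ : N) ∈ R.subgroupOf N from hq')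
    have e1 : (n : G) * (c : G) * (n : G)⁻¹ = a⁻¹ * q * a := congrArg Subtype.val hce
    show (a * (n : G))⁻¹ * q * ((a * (n : G))⁻¹)⁻¹ ∈ Q
    rw [show (a * (n : G))⁻¹ * q * ((a * (n : G))⁻¹)⁻¹ = (c : G) by
      rw [inv_inv, mul_inv_rev]
      calc (n : G)⁻¹ * a⁻¹ * q * (a * (n : G)) = (n : G)⁻¹ * (a⁻¹ * q * a) * (n : G) := by group
        _ = (n : G)⁻¹ * ((n : G) * (c : G) * (n : G)⁻¹) * (n : G) := by rw [e1]
        _ = _ := by group]
    exact hc
  refine ⟨a * (n : G), hmem, ?_⟩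
  rw [← brGA_sIdem_corr hM hQ hQN hd hdQ he heQ hed, conjGA_brGA hmem]
  congr 1
  rw [← conjGA_conjGA]
  congr 1
  ext y
  rw [coeff_conjGA]
  have := inclSub_conj_invariant N (isClassCoeff_center (blkIdem M d)) (N.inv_mem n.2) y
  rw [inv_inv] at this
  exact this.symm

/-- Covering a block of `N` upstairs and downstairs. -/
theorem corr_covers_iff {c : Set (IrrCharacter (nor Q))} {B : Set (IrrCharacter G)}
    (hcB : IsInducedBlock M (nor Q) c B) [Fintype (N.subgroupOf (nor Q))] [Fintype (nor Q)] :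
    (∃ χ ∈ B, ∃ θ ∈ d, classInner (fun n : N => (χ : G → ℂ) n) (θ : N → ℂ) ≠ 0) ↔
    ∃ ψ ∈ c, ∃ θ ∈ blockMap (infNormIso (N := N) Q) e,
      classInner (fun n : N.subgroupOf (nor Q) => (ψ : (nor Q) → ℂ) n)
        (θ : N.subgroupOf (nor Q) → ℂ) ≠ 0 := by
  classical
  have := charP_kres hM
  set e' := blockMap (infNormIso (N := N) Q) e with he'
  have he'b : IsPBlock M e' := isPBlock_blockMap _ he
  have hN'n : (N.subgroupOf (nor Q)).Normal := Subgroup.Normal.subgroupOf hN _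
  have hincl : inclSub (nor Q) (sIdem M (N.subgroupOf (nor Q)) e') = sIdem M ((nor Q) ⊓ N) e := by
    ext x
    by_cases hxH : x ∈ nor Q
    · rw [show x = ((⟨x, hxH⟩ : (nor Q)) : G) from rfl, coeff_inclSub_of_mem]
      by_cases hxN : x ∈ N
      · refine ((coeff_inclSub_of_mem (N.subgroupOf (nor Q)) _ ⟨⟨x, hxH⟩, hxN⟩).trans ?_).trans
          (coeff_inclSub_of_mem ((nor Q) ⊓ N) _ ⟨x, hxH, hxN⟩).symm
        rw [coeff_blkIdem, coeff_blkIdem, he', blockCoeff_blockMap]
        rfl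
      · rw [coeff_sIdem_of_not_mem _ (show (⟨x, hxH⟩ : (nor Q)) ∉ N.subgroupOf (nor Q) from hxN)]
        exact (coeff_sIdem_of_not_mem _ fun h : x ∈ (nor Q) ⊓ N => hxN h.2).symm
    · rw [coeff_inclSub_of_not_mem _ _ hxH,
        coeff_sIdem_of_not_mem _ (fun h : x ∈ (nor Q) ⊓ N => hxH h.1)]
  have hCH : (cen Q) ≤ (nor Q) := Subgroup.centralizer_le_normalizer _
  obtain ⟨ψ, hψ⟩ := isPBlock_nonempty hcB.1
  obtain ⟨χ, hχ⟩ := isPBlock_nonempty hcB.2.1
  obtain ⟨θd, hθd⟩ := isPBlock_nonempty hd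
  -- the central element of the orbit
  have hcl : IsClassCoeff (orbitIdem M N d) := by
    intro x g
    simp only [orbitIdem, coeff_sum, Finsupp.finsetSum_apply]
    refine Finset.sum_bij (fun t _ => conjGA g⁻¹ t) ?_ ?_ ?_ ?_
    · intro t ht
      obtain ⟨a, -, rfl⟩ := Finset.mem_image.1 ht
      exact Finset.mem_image.2 ⟨g⁻¹ * a, Finset.mem_univ _, (conjGA_conjGA _ _ _).symm⟩
    · intro t _ t' _ he2
      have := congrArg (conjGA g) he2
      simpa [conjGA_conjGA, conjGA_one] using this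
    · intro t ht
      obtain ⟨a, -, rfl⟩ := Finset.mem_image.1 ht
      refine ⟨conjGA g (conjGA a (sIdem M N d)),
        Finset.mem_image.2 ⟨g * a, Finset.mem_univ _, (conjGA_conjGA _ _ _).symm⟩, ?_⟩
      rw [conjGA_conjGA g⁻¹ g, inv_mul_cancel, conjGA_one]
    · intro t _
      rw [coeff_conjGA, inv_inv]
  set z : Subalgebra.center (kres M) (MonoidAlgebra (kres M) G) :=
    ⟨orbitIdem M N d, isClassCoeff_iff_mem_center.1 hcl⟩ with hz
  set W := brHom (k := kres M) hQ hCH le_rfl z with hW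
  have hWG : inclSub (nor Q) (W : MonoidAlgebra (kres M) (nor Q)) = brGA Q (orbitIdem M N d) := by
    ext x
    by_cases hxH : x ∈ nor Q
    · rw [show x = ((⟨x, hxH⟩ : (nor Q)) : G) from rfl, coeff_inclSub_of_mem, hW, coe_brHom]
      by_cases hxC : x ∈ cen Q
      · rw [coeff_brRes_of_mem _ hxC, coeff_brGA_of_mem _ hxC]
      · rw [coeff_brRes_of_not_mem _ hxC, coeff_brGA_of_not_mem _ hxC]
    · rw [coeff_inclSub_of_not_mem _ _ hxH, coeff_brGA_of_not_mem _ fun h => hxH (hCH h)]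
  have hlam : lam M χ z = lam M ψ W := by
    rw [← (isInducedBlock_iff _ hcB.1 hcB.2.1 hψ hχ).1 hcB,
      lam_resZ_eq_brHom hM hQ Subgroup.le_normalizer hCH le_rfl]
  have hid : ∀ (t : MonoidAlgebra (kres M) G), (∃ a : G, t = conjGA a (sIdem M N d)) →
      orbitIdem M N d * t = t := by
    intro t ht
    have hT : ∀ s ∈ Finset.univ.image (fun x : G => conjGA x (sIdem M N d)),
        ∃ k : Set (IrrCharacter N), IsPBlock M k ∧ s = sIdem M N k := fun s hs => by
      obtain ⟨x, -, rfl⟩ := Finset.mem_image.1 hs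
      exact exists_block_of_mem_orbit hM hd ⟨x, rfl⟩
    have htm : t ∈ Finset.univ.image (fun x : G => conjGA x (sIdem M N d)) := by
      obtain ⟨a, rfl⟩ := ht
      exact Finset.mem_image.2 ⟨a, Finset.mem_univ _, rfl⟩
    rw [orbitIdem, Finset.sum_mul, Finset.sum_eq_single_of_mem t htm]
    · obtain ⟨k, hk, rfl⟩ := hT t htm
      exact sIdem_idem hM hk
    · intro s hs hne
      obtain ⟨k, hk, rfl⟩ := hT t htm
      obtain ⟨l, hl, rfl⟩ := hT s hs
      exact sIdem_mul_ne hM hl hk fun h => hne (by rw [h])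
  have hinvd : IsPInv Q (sIdem M N d) := fun u hu g =>
    inclSub_conj_invariant N (isClassCoeff_center (blkIdem M d)) (hQN hu) g
  have hWe : W.1 * sIdem M (N.subgroupOf (nor Q)) e' = sIdem M (N.subgroupOf (nor Q)) e' := by
    refine inclSub_injective (nor Q) ?_
    rw [map_mul, hWG, hincl, ← brGA_sIdem_corr hM hQ hQN hd hdQ he heQ hed,
      ← brGA_mul hM hQ (isPInv_of_isClassCoeff hcl Q) hinvd, hid _ ⟨1, (conjGA_one _).symm⟩]
  have hzz : z * z = z := by
    apply Subtype.ext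
    rw [MulMemClass.coe_mul]
    show orbitIdem M N d * orbitIdem M N d = orbitIdem M N d
    conv_lhs => arg 2; rw [orbitIdem]
    rw [Finset.mul_sum]
    exact Finset.sum_congr rfl fun t ht => hid t (by
      obtain ⟨a, -, rfl⟩ := Finset.mem_image.1 ht
      exact ⟨a, rfl⟩)
  have hWW : W * W = W := by rw [hW, ← map_mul, hzz]
  constructor
  · rintro ⟨χ', hχ', θ, hθ, hne⟩
    have hB := blkIdem_mul_orbitIdem hM hd hcB.2.1 hχ' hθ hne
    have h1 : lam M χ z = 1 := by
      have h2 := congrArg (lam M χ) (show blkIdem M B * z = blkIdem M B from Subtype.ext hB)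
      rwa [map_mul, lam_blkIdem hM hcB.2.1, if_pos hχ, one_mul] at h2
    rw [hlam] at h1
    have h3 := congrArg Subtype.val ((mul_comm _ _).trans
      (mul_blkIdem_of_lam_eq_one hM hWW hcB.1 hψ h1))
    rw [MulMemClass.coe_mul] at h3
    -- some conjugate of `e` survives
    refine covered_of_mul_ne_zero hM hcB.1 he'b ?_
    intro h0
    have hzero : ∀ h ∈ (nor Q), sIdem M (nor Q) c * conjGA h (sIdem M ((nor Q) ⊓ N) e) = 0 := by
      intro h hh
      have e1 : conjGA h (sIdem M (nor Q) c) = sIdem M (nor Q) c := by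
        ext y
        rw [coeff_conjGA]
        have := inclSub_conj_invariant (nor Q) (isClassCoeff_center (blkIdem M c))
          ((nor Q).inv_mem hh) y
        rw [inv_inv] at this
        exact this
      rw [← e1, ← conjGA_mul, ← hincl, sIdem, ← map_mul, h0, map_zero, conjGA_zero]
    have h4 : sIdem M (nor Q) c * brGA Q (orbitIdem M N d) = 0 := by
      rw [orbitIdem, brGA_sum, Finset.mul_sum]
      refine Finset.sum_eq_zero fun t ht => ?_
      obtain ⟨a, -, rfl⟩ := Finset.mem_image.1 ht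
      rcases brGA_conj_corr hM hQ hQN hd hdQ he heQ hed a with h5 | ⟨h, hh, h5⟩
      · rw [h5, mul_zero]
      · rw [h5, hzero h hh]
    refine sIdem_ne_zero hM hcB.1 ?_
    rw [← h4, ← hWG, sIdem, ← map_mul, h3]
  · rintro ⟨ψ', hψ', θ, hθ, hne⟩
    have h0 := blkIdem_mul_sIdem_ne_zero hM he'b hcB.1 hψ' hθ hne
    have h1 : lam M ψ W = 1 := by
      have h2 := congrArg (lam M ψ) hWW
      rw [map_mul] at h2
      rcases eq_or_ne (lam M ψ W) 0 with h | h
      · exfalso
        apply h0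
        have hnil : blkIdem M c * W = 0 := by
          by_contra hne0
          obtain ⟨φ, hφ⟩ := exists_lam_eq_one_of_idem hM
            (by rw [mul_mul_mul_comm, hWW, blkIdem_idem hM hcB.1]) hne0
          rw [map_mul, lam_blkIdem hM hcB.1] at hφ
          split_ifs at hφ with hm
          · rw [lam_eq_of_sameBlock (sameBlock_of_mem hcB.1 hm hψ), h, mul_zero] at hφ
            exact zero_ne_one hφ
          · rw [zero_mul] at hφ
            exact zero_ne_one hφ
        rw [← hWe, ← mul_assoc, ← MulMemClass.coe_mul, hnil]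
        simp
      · exact (mul_eq_right₀ h).1 h2
    rw [← hlam] at h1
    have h3 := congrArg Subtype.val ((mul_comm _ _).trans
      (mul_blkIdem_of_lam_eq_one hM hzz hcB.2.1 hχ h1))
    rw [MulMemClass.coe_mul] at h3
    refine covered_of_mul_ne_zero hM hcB.2.1 hd ?_
    intro hz0
    have h4 : (blkIdem M B : MonoidAlgebra (kres M) G) * orbitIdem M N d = 0 := by
      rw [orbitIdem, Finset.mul_sum]
      refine Finset.sum_eq_zero fun t ht => ?_
      obtain ⟨a, -, rfl⟩ := Finset.mem_image.1 ht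
      rw [← conjGA_blkIdem B a, ← conjGA_mul, hz0, conjGA_zero]
    have h5 := lam_blkIdem hM hcB.2.1 χ
    rw [if_pos hχ, show blkIdem M B = 0 from Subtype.ext (h3.symm.trans h4), map_zero] at h5
    exact zero_ne_one h5

/-- The induced block has the same defect group and the same truncation. -/
theorem corr_defect {c : Set (IrrCharacter (nor Q))} {B : Set (IrrCharacter G)}
    (hcB : IsInducedBlock M (nor Q) c B) {P : Subgroup G} (hPH : P ≤ (nor Q)) (hPN : P ⊓ N = Q)
    (hcP : IsDefectGroup p M c (P.subgroupOf (nor Q))) :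
    IsDefectGroup p M B P ∧ inclSub (nor Q) (trunc M (P.subgroupOf (nor Q)) c) = trunc M P B := by
  classical
  have := charP_kres hM
  have := Fintype.ofFinite (nor Q)
  have hQP : Q ≤ P := hPN ▸ inf_le_left
  have hPp : IsPGroup p P := by
    have h := (isPGroup_defectGroup hM hcB.1 hcP).map (nor Q).subtype
    rwa [Subgroup.map_subgroupOf_eq_of_le hPH] at h
  have hNP : (nor P) ≤ (nor Q) := by
    intro x hx
    rw [← hPN, Subgroup.mem_normalizer_iff]
    intro y
    constructor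
    · rintro ⟨hy, hyN⟩
      exact ⟨(Subgroup.mem_normalizer_iff.1 hx y).1 hy, hN.conj_mem y hyN x⟩
    · rintro ⟨hy, hyN⟩
      exact ⟨(Subgroup.mem_normalizer_iff.1 hx y).2 hy, by
        simpa [mul_assoc] using hN.conj_mem _ hyN x⁻¹⟩
  have hCP : (cen P) ≤ (nor Q) := (Subgroup.centralizer_le_normalizer _).trans hNP
  obtain ⟨B₁, hB₁, hB₁D, hagree⟩ := corr_up hM hPp hNP hcB.1 hcP
  have htr := (agree_iff hM hPH hCP hcB.1 hB₁).1 hagree
  suffices hBB : B = B₁ from ⟨hBB ▸ hB₁D, hBB ▸ htr⟩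
  obtain ⟨χ, hχ⟩ := isPBlock_nonempty hcB.2.1
  obtain ⟨ψ₀, hψ₀⟩ := isPBlock_nonempty hcB.1
  have hCH : (cen Q) ≤ (nor Q) := Subgroup.centralizer_le_normalizer _
  set W := brHom (k := kres M) hQ hCH le_rfl (blkIdem M B) with hW
  have h1 : lam M ψ₀ W = 1 := by
    rw [hW, ← lam_resZ_eq_brHom hM hQ Subgroup.le_normalizer hCH le_rfl,
      (isInducedBlock_iff _ hcB.1 hcB.2.1 hψ₀ hχ).1 hcB,
      (algHom_blkIdem_eq_one_iff hM hcB.2.1 χ).2 hχ]
  have h3 := congrArg (fun a : Subalgebra.center (kres M) (MonoidAlgebra (kres M) (nor Q)) =>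
      inclSub (nor Q) (a : MonoidAlgebra (kres M) (nor Q))) ((mul_comm _ _).trans
    (mul_blkIdem_of_lam_eq_one hM (show W * W = W by rw [hW, ← map_mul, blkIdem_idem hM hcB.2.1])
      hcB.1 hψ₀ h1))
  simp only [MulMemClass.coe_mul, map_mul] at h3
  have hWG : inclSub (nor Q) (W : MonoidAlgebra (kres M) (nor Q)) =
      brGA Q (blkIdem M B : MonoidAlgebra (kres M) G) := by
    ext x
    by_cases hxH : x ∈ nor Q
    · rw [show x = ((⟨x, hxH⟩ : (nor Q)) : G) from rfl, coeff_inclSub_of_mem, hW, coe_brHom]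
      by_cases hxC : x ∈ cen Q
      · rw [coeff_brRes_of_mem _ hxC, coeff_brGA_of_mem _ hxC]
      · rw [coeff_brRes_of_not_mem _ hxC, coeff_brGA_of_not_mem _ hxC]
    · rw [coeff_inclSub_of_not_mem _ _ hxH, coeff_brGA_of_not_mem _ fun h => hxH (hCH h)]
  rw [hWG, ← sIdem] at h3
  have hcP' : brGA P (sIdem M (nor Q) c) = trunc M P B₁ := by
    rw [← htr]
    ext x
    rw [inclSub_trunc hPH hCP]
    by_cases hx : x ∈ cen P
    · rw [coeff_brGA_of_mem _ hx, if_pos hx, sIdem,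
        show x = ((⟨x, hCP hx⟩ : (nor Q)) : G) from rfl, coeff_inclSub_of_mem, coeff_blkIdem,
        subgroupBlockCoeff_eq_coeff, coeff_inclSub_of_mem]
      simp [blockSum]
    · rw [coeff_brGA_of_not_mem _ hx, if_neg hx]
  have hBi : ∀ (B₀ : Set (IrrCharacter G)) (X : Subgroup G),
      IsPInv X (blkIdem M B₀ : MonoidAlgebra (kres M) G) := fun B₀ X =>
    isPInv_of_isClassCoeff (isClassCoeff_center _) X
  have hbrQ : IsPInv P (brGA Q (blkIdem M B : MonoidAlgebra (kres M) G)) := by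
    rw [← hWG]
    exact fun u hu y => inclSub_conj_invariant (nor Q) (isClassCoeff_center W) (hPH hu) y
  have hci : IsPInv P (sIdem M (nor Q) c) := fun u hu y =>
    inclSub_conj_invariant (nor Q) (isClassCoeff_center (blkIdem M c)) (hPH hu) y
  have h4 := congrArg (brGA P) h3
  rw [brGA_mul hM hPp hci hbrQ, brGA_brGA hQP, hcP'] at h4
  by_contra hBB
  obtain ⟨b, hb, -, -, hbe⟩ := exists_local hM hB₁ hB₁D
  refine sIdem_ne_zero hM hb ?_
  rw [hbe, ← h4]
  show brGA P _ * brGA P _ = 0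
  rw [← brGA_mul hM hPp (hBi _ _) (hBi _ _), ← MulMemClass.coe_mul,
    blkIdem_mul_ne hM hB₁ hcB.2.1 (Ne.symm hBB)]
  ext x
  by_cases hx : x ∈ cen P
  · rw [coeff_brGA_of_mem _ hx]; rfl
  · rw [coeff_brGA_of_not_mem _ hx]; simp

/-- **Injectivity.** -/
theorem corr_injective {c : Set (IrrCharacter (nor Q))} {B : Set (IrrCharacter G)}
    (hcB : IsInducedBlock M (nor Q) c B) [Fintype (N.subgroupOf (nor Q))] [Fintype (nor Q)]
    (hcov : ∃ χ ∈ B, ∃ θ ∈ d, classInner (fun n : N => (χ : G → ℂ) n) (θ : N → ℂ) ≠ 0) :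
    ∃ P : Subgroup G, P ≤ (nor Q) ∧ P ⊓ N = Q ∧ IsDefectGroup p M c (P.subgroupOf (nor Q)) ∧
      IsDefectGroup p M B P ∧ inclSub (nor Q) (trunc M (P.subgroupOf (nor Q)) c) = trunc M P B := by
  classical
  have := charP_kres hM
  have hN'n : (N.subgroupOf (nor Q)).Normal := Subgroup.Normal.subgroupOf hN _
  set e' := blockMap (infNormIso (N := N) Q) e with he'
  have he'b : IsPBlock M e' := isPBlock_blockMap _ he
  obtain ⟨ψ, hψ, θ, hθ, hne⟩ := (corr_covers_iff hM hQ hQN hd hdQ he heQ hed hcB).1 hcov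
  have hQH : Q ≤ (nor Q) := Subgroup.le_normalizer
  set Q₁ := Q.subgroupOf (nor Q) with hQ₁
  have hQ₁N : Q₁ ≤ N.subgroupOf (nor Q) := fun q hq => hQN hq
  have : Q₁.Normal := Subgroup.normal_in_normalizer
  have : (Q₁.subgroupOf (N.subgroupOf (nor Q))).Normal := Subgroup.Normal.subgroupOf inferInstance _
  have hQ₁D : IsDefectGroup p M e' (Q₁.subgroupOf (N.subgroupOf (nor Q))) := by
    refine defectGroup_of_normal_of_card hM (D := Q₁.subgroupOf (N.subgroupOf (nor Q)))
      hQ.comap_subtype.comap_subtype he'b ?_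
    rw [blockDefect_blockMap, ← natCard_defectGroup hM he heQ,
      Nat.card_congr (Subgroup.subgroupOfEquivOfLe (le_inf hQH hQN)).toEquiv,
      Nat.card_congr (Subgroup.subgroupOfEquivOfLe hQ₁N).toEquiv,
      Nat.card_congr (Subgroup.subgroupOfEquivOfLe hQH).toEquiv]
  obtain ⟨P₁, hP₁, hP₁N⟩ := exists_defect_inf_eq hM he'b hcB.1 hψ hθ hne hQ₁N hQ₁D
  set P := P₁.map (nor Q).subtype with hP
  have hPH : P ≤ (nor Q) := Subgroup.map_subtype_le P₁
  have hP₁' : P.subgroupOf (nor Q) = P₁ :=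
    Subgroup.comap_map_eq_self_of_injective (nor Q).subtype_injective P₁
  have hPN : P ⊓ N = Q := by
    refine le_antisymm ?_ (le_inf ?_ hQN)
    · rintro x ⟨⟨y, hy, rfl⟩, hxN⟩
      have h : y ∈ Q₁ := hP₁N ▸ (⟨hy, hxN⟩ : y ∈ P₁ ⊓ N.subgroupOf (nor Q))
      exact h
    · intro q hq
      have h : (⟨q, hQH hq⟩ : (nor Q)) ∈ P₁ ⊓ N.subgroupOf (nor Q) := hP₁N.symm ▸ hq
      exact ⟨⟨q, hQH hq⟩, h.1, rfl⟩
  exact ⟨P, hPH, hPN, hP₁'.symm ▸ hP₁,
    corr_defect hM hQ hQN hd hdQ he heQ hed hcB hPH hPN (hP₁'.symm ▸ hP₁)⟩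

end CfsgLib.BlockA
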