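import Mathlib

/-!
Linear characters on a coset of a subgroup: the counting bound used for the blocks with
homocyclic defect group.
-/

set_option autoImplicit false
set_option linter.unusedSectionVars false
set_option maxHeartbeats 1000000

namespace CfsgLib.BlockA.HomocyclicCount

open scoped ComplexConjugate

variable {W : Type*} [Group W] [Fintype W]

theorem conj_mul_apply (μ : W →* ℂ) (x : W) : conj (μ x) * μ x = 1 := by
  have h : μ x ^ Fintype.card W = 1 := by rw [← map_pow, pow_card_eq_one, map_one]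
  rw [Complex.conj_mul', Complex.norm_eq_one_of_pow_eq_one h Fintype.card_ne_zero]
  simp

open Classical in
/-- Orthogonality. -/
theorem sum_conj_mul (μ μ' : W →* ℂ) :
    ∑ x : W, conj (μ x) * μ' x = if μ = μ' then (Fintype.card W : ℂ) else 0 := by
  split_ifs with h
  · subst h
    simp [conj_mul_apply]
  · have h1 : ((starRingEnd ℂ : ℂ →* ℂ).comp μ) * μ' ≠ 1 := by
      intro h1
      refine h (MonoidHom.ext fun x => ?_)
      have h2 : conj (μ x) * μ' x = 1 := DFunLike.congr_fun h1 x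
      calc μ x = μ x * (conj (μ x) * μ' x) := by rw [h2, mul_one]
        _ = μ' x := by rw [← mul_assoc, mul_comm (μ x), conj_mul_apply, one_mul]
    have h3 := sum_hom_units (((starRingEnd ℂ : ℂ →* ℂ).comp μ) * μ')
    rw [if_neg h1, Nat.cast_zero] at h3
    exact h3

/-- The coefficients of a combination of distinct characters. -/
theorem coef [DecidableEq (W →* ℂ)] (K : Finset (W →* ℂ)) (a : (W →* ℂ) → ℂ) (g : W → ℂ)
    (h : ∀ x, ∑ μ ∈ K, a μ * μ x = g x) {μ : W →* ℂ} (hμ : μ ∈ K) :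
    (Fintype.card W : ℂ) * a μ = ∑ x : W, conj (μ x) * g x := by
  simp only [← h, Finset.mul_sum, mul_left_comm (conj _) (a _)]
  rw [Finset.sum_comm]
  simp only [← Finset.mul_sum, sum_conj_mul]
  rw [Finset.sum_eq_single_of_mem μ hμ fun ν _ hν => by rw [if_neg hν.symm, mul_zero],
    if_pos rfl]
  ring

theorem card_le [DecidableEq (W →* ℂ)] (K : Finset (W →* ℂ)) : K.card ≤ Fintype.card W := by
  have h := ((linearIndependent_monoidHom W ℂ).comp
    (fun μ : K => (μ : W →* ℂ)) Subtype.val_injective).fintype_card_le_finrank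
  simpa using h

/-- **The bound.** -/
theorem three_mul_card_le {P Ω ι : Type*} [Group P] [Fintype Ω] (W : Subgroup P) [Fintype W]
    (v₀ : P) (hv₀ : v₀ ^ 2 ∈ W) (hW2 : ∀ x : W, ∃ j : ℕ, x ^ 2 ^ j = 1)
    (τ : P ≃* P) (hτW : ∀ x ∈ W, τ x ∈ W) (hτ3 : ∀ x, τ (τ (τ x)) = x)
    (hτfix : ∀ x, τ x = x → x = 1) (hcomm : ∀ x y : P, x * y = y * x)
    (hom : Ω → (P →* ℂ)) (e : Ω ≃ Ω) (he : ∀ ω, hom (e ω) = (hom ω).comp τ.toMonoidHom)
    (X : Finset ι) (n : ι → Ω → ℤ) (hodd : ∀ i ∈ X, Odd (∑ ω, n i ω))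
    (horth : ∀ x y : W, x ≠ y →
      ∑ i ∈ X, conj (∑ ω, (n i ω : ℂ) * hom ω (v₀ * x)) *
        (∑ ω, (n i ω : ℂ) * hom ω (v₀ * y)) = 0)
    (hnorm : ∀ x : W, ∑ i ∈ X, conj (∑ ω, (n i ω : ℂ) * hom ω (v₀ * x)) *
        (∑ ω, (n i ω : ℂ) * hom ω (v₀ * x)) = (4 * Fintype.card W : ℕ))
    (hint : ∀ i ∈ X, ∀ j ∈ X, ∃ N : Ω → ℤ, (∀ ω, N (e ω) = N ω) ∧ ∀ x : W,
      (∑ ω, (n i ω : ℂ) * hom ω (v₀ * x)) * conj (∑ ω, (n j ω : ℂ) * hom ω (v₀ * x)) =
        ∑ ω, (N ω : ℂ) * conj (hom ω (v₀ * x))) :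
    3 * X.card ≤ 4 * Fintype.card W + 8 := by
  classical
  set s := Fintype.card W with hs
  have hs0 : (s : ℂ) ≠ 0 := Nat.cast_ne_zero.2 Fintype.card_ne_zero
  -- the classes
  let res : Ω → (W →* ℂ) := fun ω => (hom ω).comp W.subtype
  set K := Finset.univ.image res with hK
  have hsq : ∀ ω ω', res ω = res ω' → hom ω v₀ = hom ω' v₀ ∨ hom ω v₀ = - hom ω' v₀ := by
    intro ω ω' h
    refine sq_eq_sq_iff_eq_or_eq_neg.1 ?_
    rw [← map_pow, ← map_pow]
    exact DFunLike.congr_fun h ⟨_, hv₀⟩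
  have hrho : ∀ μ : W →* ℂ, ∃ ρ : ℂ, conj ρ * ρ = 1 ∧
      ∀ ω, res ω = μ → hom ω v₀ = ρ ∨ hom ω v₀ = -ρ := by
    intro μ
    by_cases hμ : ∃ ω, res ω = μ
    · obtain ⟨ω, hω⟩ := hμ
      refine ⟨hom ω v₀, ?_, fun ω' hω' => hsq ω' ω (hω'.trans hω.symm)⟩
      obtain ⟨j, hj⟩ := hW2 ⟨_, hv₀⟩
      have h2 : v₀ ^ 2 ^ (j + 1) = 1 := by
        rw [pow_succ', pow_mul]
        exact congrArg Subtype.val hj
      have h3 : hom ω v₀ ^ 2 ^ (j + 1) = 1 := by rw [← map_pow, h2, map_one]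
      rw [Complex.conj_mul', Complex.norm_eq_one_of_pow_eq_one h3 (pow_ne_zero _ two_ne_zero)]
      simp
    · exact ⟨1, by simp, fun ω hω => absurd ⟨ω, hω⟩ hμ⟩
  choose ρ hρ1 hρ using hrho
  let ε : Ω → ℤ := fun ω => if hom ω v₀ = ρ (res ω) then 1 else -1
  have hε : ∀ ω, hom ω v₀ = (ε ω : ℂ) * ρ (res ω) := by
    intro ω
    simp only [ε]
    split_ifs with h
    · simpa using h
    · simpa using (hρ _ ω rfl).resolve_left h
  have hεodd : ∀ ω, Odd (ε ω) := fun ω => by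
    simp only [ε]
    split_ifs <;> decide
  let D : (Ω → ℤ) → (W →* ℂ) → ℤ := fun N μ => ∑ ω with res ω = μ, N ω * ε ω
  have hDeven : ∀ N μ, Even (D N μ - ∑ ω with res ω = μ, N ω) := fun N μ => by
    rw [← Finset.sum_sub_distrib]
    refine Finset.even_sum _ fun ω _ => ?_
    rw [← mul_sub_one]
    exact ((hεodd ω).sub_odd odd_one).mul_left _
  have hexp : ∀ (N : Ω → ℤ) (x : W), ∑ ω, (N ω : ℂ) * hom ω (v₀ * x) =
      ∑ μ ∈ K, ((D N μ : ℂ) * ρ μ) * μ x := by
    intro N x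
    rw [← Finset.sum_fiberwise_of_maps_to (t := K) (g := res)
      (fun ω _ => Finset.mem_image_of_mem _ (Finset.mem_univ ω))]
    refine Finset.sum_congr rfl fun μ _ => ?_
    rw [Int.cast_sum, Finset.sum_mul, Finset.sum_mul]
    refine Finset.sum_congr rfl fun ω hω => ?_
    rw [map_mul, hε ω, ← (Finset.mem_filter.1 hω).2]
    simp only [res, MonoidHom.coe_comp, Function.comp_apply, Subgroup.coe_subtype]
    push_cast
    ring
  let f : ι → W → ℂ := fun i x => ∑ ω, (n i ω : ℂ) * hom ω (v₀ * x)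
  -- the columns
  have hcol : ∀ μ ∈ K, ∑ i ∈ X, D (n i) μ ^ 2 = 4 := by
    intro μ hμ
    have key : ∀ i, (s : ℂ) * ((D (n i) μ : ℂ) * ρ μ) = ∑ x : W, conj (μ x) * f i x :=
      fun i => coef K _ _ (fun x => (hexp (n i) x).symm) hμ
    have h1 : (s : ℂ) * (s : ℂ) * ∑ i ∈ X, ((D (n i) μ : ℂ)) ^ 2 = (s : ℂ) * ((4 * s : ℕ) : ℂ) := by
      rw [Finset.mul_sum]
      have h2 : ∀ i ∈ X, (s : ℂ) * (s : ℂ) * ((D (n i) μ : ℂ)) ^ 2 =
          ∑ x : W, ∑ y : W, (μ x * conj (μ y)) * (conj (f i x) * f i y) := by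
        intro i _
        calc (s : ℂ) * (s : ℂ) * ((D (n i) μ : ℂ)) ^ 2
            = conj ((s : ℂ) * ((D (n i) μ : ℂ) * ρ μ)) * ((s : ℂ) * ((D (n i) μ : ℂ) * ρ μ)) := by
              simp only [map_mul, map_natCast, map_intCast]
              linear_combination -((s : ℂ) * (s : ℂ) * ((D (n i) μ : ℂ)) ^ 2) * hρ1 μ
          _ = _ := by
              rw [key i, map_sum, Finset.sum_mul_sum]
              refine Finset.sum_congr rfl fun x _ => Finset.sum_congr rfl fun y _ => ?_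
              simp only [map_mul, Complex.conj_conj]
              ring
      rw [Finset.sum_congr rfl h2, Finset.sum_comm]
      rw [Finset.sum_congr rfl (g := fun _ => ((4 * s : ℕ) : ℂ)) fun x _ => ?_]
      · simp [hs]
      · rw [Finset.sum_comm, Finset.sum_eq_single x (fun y _ hy => by
          rw [← Finset.mul_sum, horth x y hy.symm, mul_zero]) (by simp), ← Finset.mul_sum,
          hnorm x, mul_comm (μ x), conj_mul_apply, one_mul]
    have h3 : ((∑ i ∈ X, D (n i) μ ^ 2 : ℤ) : ℂ) = ((4 : ℤ) : ℂ) := by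
      push_cast at h1 ⊢
      exact mul_left_cancel₀ (mul_ne_zero hs0 hs0) (h1.trans (by ring))
    exact_mod_cast h3
  -- the rows
  let q : ι → ℤ := fun i => ∑ μ ∈ K, D (n i) μ ^ 2
  have hq : ∀ i ∈ X, Odd (q i) ∧ 1 ≤ q i := by
    intro i hi
    have h1 : Even (q i - ∑ ω, n i ω) := by
      rw [← Finset.sum_fiberwise_of_maps_to (t := K) (g := res)
        (fun ω _ => Finset.mem_image_of_mem _ (Finset.mem_univ ω)), ← Finset.sum_sub_distrib]
      refine Finset.even_sum _ fun μ _ => ?_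
      have h2 : Even (D (n i) μ ^ 2 - D (n i) μ) := by
        rw [sq, ← mul_sub_one]
        exact Int.even_mul_pred_self _
      have h3 := h2.add (hDeven (n i) μ)
      rwa [sub_add_sub_cancel] at h3
    have h2 : Odd (q i) := (Int.even_sub'.1 h1).2 (hodd i hi)
    refine ⟨h2, ?_⟩
    have h3 : 0 ≤ q i := Finset.sum_nonneg fun _ _ => sq_nonneg _
    obtain ⟨k, hk⟩ := h2
    omega
  have hqsum : ∑ i ∈ X, q i ≤ 4 * (s : ℤ) := by
    rw [Finset.sum_comm, Finset.sum_congr rfl hcol, Finset.sum_const, nsmul_eq_mul, mul_comm]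
    exact mul_le_mul_of_nonneg_left (Nat.cast_le.2 (hs ▸ card_le K)) (by norm_num)
  set A := X.filter fun i => q i = 1 with hA
  have huniq : ∀ i ∈ A, ∃ μ ∈ K, (D (n i) μ) ^ 2 = 1 ∧
      ∀ ν ∈ K, ν ≠ μ → D (n i) ν = 0 := by
    intro i hi
    obtain ⟨hiX, hi1⟩ := Finset.mem_filter.1 hi
    obtain ⟨μ, hμ, hne⟩ : ∃ μ ∈ K, D (n i) μ ^ 2 ≠ 0 :=
      Finset.exists_ne_zero_of_sum_ne_zero (by rw [show ∑ μ ∈ K, D (n i) μ ^ 2 = 1 from hi1]; decide)
    have hsplit := Finset.add_sum_erase K (fun ν => D (n i) ν ^ 2) hμ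
    rw [show ∑ ν ∈ K, D (n i) ν ^ 2 = 1 from hi1] at hsplit
    have h0 : 0 ≤ ∑ ν ∈ K.erase μ, D (n i) ν ^ 2 := Finset.sum_nonneg fun _ _ => sq_nonneg _
    have h1 : 0 < D (n i) μ ^ 2 := lt_of_le_of_ne (sq_nonneg _) hne.symm
    refine ⟨μ, hμ, by omega, fun ν hν hνμ => ?_⟩
    have := (Finset.sum_eq_zero_iff_of_nonneg fun ν _ => sq_nonneg (D (n i) ν)).1
      (show ∑ ν ∈ K.erase μ, D (n i) ν ^ 2 = 0 by omega) ν (Finset.mem_erase.2 ⟨hνμ, hν⟩)
    simpa using this
  choose! cls hcls hcls1 hcls0 using huniq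
  have hf : ∀ i ∈ A, ∀ x : W, f i x = (D (n i) (cls i) : ℂ) * ρ (cls i) * cls i x := by
    intro i hi x
    show ∑ ω, (n i ω : ℂ) * hom ω (v₀ * x) = _
    rw [hexp, Finset.sum_eq_single_of_mem _ (hcls i hi) fun ν hν hne => by
      rw [hcls0 i hi ν hν hne, Int.cast_zero, zero_mul, zero_mul]]
  -- the classes agree
  let τW : W →* W := (τ.toMonoidHom.comp W.subtype).codRestrict W fun x => hτW x x.2
  have hτW3 : ∀ x, τW (τW (τW x)) = x := fun x => Subtype.ext (hτ3 x)
  have hsame : ∀ i ∈ A, ∀ j ∈ A, cls i = cls j := by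
    intro i hi j hj
    obtain ⟨N, hNe, hN⟩ := hint i (Finset.mem_filter.1 hi).1 j (Finset.mem_filter.1 hj).1
    set μ := cls i with hμ
    set μ' := cls j with hμ'
    set a : ℂ := conj ((D (n i) μ : ℂ) * ρ μ) * ((D (n j) μ' : ℂ) * ρ μ') with ha
    set θ : W →* ℂ := ((starRingEnd ℂ : ℂ →* ℂ).comp μ) * μ' with hθ
    have hθ' : ∀ x, θ x = conj (μ x) * μ' x := fun x => rfl
    have hg : ∀ x : W, ∑ ν ∈ K, ((D N ν : ℂ) * ρ ν) * ν x = a * θ x := by
      intro x
      rw [← hexp, hθ']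
      calc ∑ ω, (N ω : ℂ) * hom ω (v₀ * x) = conj (f i x * conj (f j x)) := by
            rw [hN x, map_sum]
            exact Finset.sum_congr rfl fun ω _ => by simp
        _ = _ := by
            rw [hf i hi, hf j hj, ha]
            simp only [map_mul, Complex.conj_conj, map_intCast]
            ring
    have ha1 : conj a * a = 1 := by
      rw [ha]
      simp only [map_mul, Complex.conj_conj, map_intCast]
      have e1 : ((D (n i) μ : ℂ)) ^ 2 = 1 := by exact_mod_cast hcls1 i hi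
      have e2 : ((D (n j) μ' : ℂ)) ^ 2 = 1 := by exact_mod_cast hcls1 j hj
      linear_combination (((D (n j) μ' : ℂ)) ^ 2 * (conj (ρ μ) * ρ μ) * (conj (ρ μ') * ρ μ')) * e1 +
        ((conj (ρ μ) * ρ μ) * (conj (ρ μ') * ρ μ')) * e2 +
        (conj (ρ μ') * ρ μ') * hρ1 μ + hρ1 μ'
    have hcoef : ∀ ν ∈ K, (D N ν : ℂ) * ρ ν = if ν = θ then a else 0 := by
      intro ν hν
      refine mul_left_cancel₀ hs0 ((coef K _ _ hg hν).trans ?_)
      simp only [mul_left_comm (conj _) a, ← Finset.mul_sum, sum_conj_mul]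
      split_ifs
      · rw [hs]; ring
      · ring
    have hθK : θ ∈ K := by
      by_contra hθK
      have h1 := hg 1
      rw [Finset.sum_eq_zero fun ν hν => by
        rw [hcoef ν hν, if_neg (fun e : ν = θ => hθK (e ▸ hν)), zero_mul], map_one, mul_one] at h1
      rw [← h1, mul_zero] at ha1
      exact zero_ne_one ha1
    let S : (W →* ℂ) → ℤ := fun ν => ∑ ω with res ω = ν, N ω
    have hSodd : Odd (S θ) := by
      have h1 : ((D N θ ^ 2 : ℤ) : ℂ) = ((1 : ℤ) : ℂ) := by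
        have h2 := hcoef θ hθK
        rw [if_pos rfl] at h2
        have h3 := ha1
        rw [← h2, map_mul, map_intCast] at h3
        push_cast
        linear_combination h3 - ((D N θ : ℂ)) ^ 2 * hρ1 θ
      have h2 : D N θ ^ 2 = 1 := by exact_mod_cast h1
      have h3 : Odd (D N θ) := by
        rw [← Int.odd_pow' two_ne_zero, h2]; exact odd_one
      exact (Int.even_sub'.1 (hDeven N θ)).1 h3
    have hSeven : ∀ ν, ν ≠ θ → Even (S ν) := by
      intro ν hν
      by_cases hνK : ν ∈ K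
      · have h2 := hcoef ν hνK
        rw [if_neg hν] at h2
        have hρ0 : ρ ν ≠ 0 := fun h => by simpa [h] using hρ1 ν
        have h3 : D N ν = 0 := by exact_mod_cast (mul_eq_zero.1 h2).resolve_right hρ0
        have h4 := hDeven N ν
        rw [h3, zero_sub, even_neg] at h4
        exact h4
      · simp only [S]
        rw [Finset.sum_eq_zero fun ω hω => absurd
          (Finset.mem_image.2 ⟨ω, Finset.mem_univ ω, (Finset.mem_filter.1 hω).2⟩) hνK]
        exact Even.zero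
    have hres : ∀ ω, res (e ω) = (res ω).comp τW := fun ω => by
      refine MonoidHom.ext fun x => ?_
      show hom (e ω) (x : P) = hom ω (τ x)
      rw [he]
      rfl
    have hinj : ∀ ν ν' : W →* ℂ, ν.comp τW = ν'.comp τW → ν = ν' := fun ν ν' h =>
      MonoidHom.ext fun x => by
        have := DFunLike.congr_fun h (τW (τW x))
        simpa [hτW3] using this
    have hθτ : θ.comp τW = θ := by
      by_contra hne
      refine Int.not_even_iff_odd.2 hSodd ?_
      have h1 : S θ = S (θ.comp τW) := Finset.sum_equiv e (fun ω => by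
        simp only [Finset.mem_filter, Finset.mem_univ, true_and, hres]
        exact ⟨fun h => by rw [h], fun h => hinj _ _ h⟩) fun ω _ => (hNe ω).symm
      rw [h1]
      exact hSeven _ hne
    have hθ1 : ∀ x : W, θ x = 1 := by
      intro x
      have h1 : θ (τW x) = θ x := DFunLike.congr_fun hθτ x
      have h2 : θ (τW (τW x)) = θ x := (DFunLike.congr_fun hθτ (τW x)).trans h1
      have hy : x * τW x * τW (τW x) = 1 := by
        refine Subtype.ext (hτfix _ ?_)
        show τ ((x : P) * τ x * τ (τ x)) = (x : P) * τ x * τ (τ x)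
        rw [map_mul, map_mul, hτ3, hcomm _ (x : P), mul_assoc]
      have h3 : θ x ^ 3 = 1 := by
        have := congrArg θ hy
        rw [map_mul, map_mul, map_one, h1, h2] at this
        linear_combination this
      obtain ⟨k, hk⟩ := hW2 x
      have h4 : θ x ^ 2 ^ k = 1 := by rw [← map_pow, hk, map_one]
      have hcop : Nat.gcd 3 (2 ^ k) = 1 := Nat.Coprime.pow_right k (by norm_num)
      have h5 : θ x ^ Nat.gcd 3 (2 ^ k) = 1 := pow_gcd_eq_one.2 ⟨h3, h4⟩
      rwa [hcop, pow_one] at h5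
    refine MonoidHom.ext fun x => ?_
    have h1 := hθ1 x
    rw [hθ'] at h1
    calc μ x = μ x * (conj (μ x) * μ' x) := by rw [h1, mul_one]
      _ = μ' x := by rw [← mul_assoc, mul_comm (μ x), conj_mul_apply, one_mul]
  have hA4 : A.card ≤ 4 := by
    rcases A.eq_empty_or_nonempty with h | ⟨i₀, hi₀⟩
    · simp [h]
    have h1 : (A.card : ℤ) = ∑ i ∈ A, D (n i) (cls i₀) ^ 2 := by
      rw [Finset.sum_congr rfl fun i hi => by rw [hsame i₀ hi₀ i hi, hcls1 i hi]]
      simp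
    have h2 := Finset.sum_le_sum_of_subset_of_nonneg (Finset.filter_subset _ X : A ⊆ X)
      (f := fun i => D (n i) (cls i₀) ^ 2) fun i _ _ => sq_nonneg _
    rw [← h1, hcol _ (hcls i₀ hi₀)] at h2
    omega
  have h3 : ∀ i ∈ X, (3 : ℤ) ≤ q i + (if q i = 1 then 2 else 0) := by
    intro i hi
    obtain ⟨⟨k, hk⟩, h1⟩ := hq i hi
    split_ifs <;> omega
  have h4 := Finset.sum_le_sum h3
  rw [Finset.sum_const, nsmul_eq_mul, Finset.sum_add_distrib, ← Finset.sum_filter,
    Finset.sum_const, nsmul_eq_mul, ← hA] at h4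
  omega

end CfsgLib.BlockA.HomocyclicCount
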