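import Cfsg.Agent.Lib.BlockA.AbelianTrace
import Cfsg.Agent.Lib.BlockA.Watanabe

/-!
The action of the stabilizer on an abelian homocyclic defect group of rank two, for the prime two.
-/

set_option autoImplicit false
set_option linter.unusedSectionVars false
set_option maxHeartbeats 1000000

namespace CfsgLib.BlockA.Homocyclic

open Cfsg CfsgLib.Block CfsgLib.BlockA CfsgLib.BlockB CfsgLib.BlockB.HeightBound AbelianTrace

universe u

theorem zmod_two_mul_eq_zero {m : ℕ} (hm : 1 ≤ m) (a : ZMod (2 ^ m)) :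
    2 • a = 0 ↔ a = 0 ∨ a = (2 ^ (m - 1) : ℕ) := by
  have hm' : 2 ^ m = 2 * 2 ^ (m - 1) := by rw [← pow_succ', Nat.sub_add_cancel hm]
  constructor
  · intro h
    have h1 : 2 ^ m ∣ 2 * a.val := by
      rw [← ZMod.natCast_eq_zero_iff]
      push_cast
      rw [ZMod.natCast_zmod_val, ← h, two_nsmul, two_mul]
    replace h1 : 2 * 2 ^ (m - 1) ∣ 2 * a.val := dvd_trans (dvd_of_eq hm'.symm) h1
    rw [Nat.mul_dvd_mul_iff_left two_pos] at h1
    obtain ⟨k, hk⟩ := h1
    have hlt : a.val < 2 * 2 ^ (m - 1) := lt_of_lt_of_eq a.val_lt hm'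
    rw [hk, mul_comm 2] at hlt
    have hk2 : k < 2 := Nat.lt_of_mul_lt_mul_left hlt
    rw [← ZMod.natCast_zmod_val a, hk]
    interval_cases k <;> simp
  · rintro (rfl | rfl)
    · simp
    · rw [two_nsmul, ← Nat.cast_add, ← two_mul, ← hm', ZMod.natCast_self]

/-- The numerical facts about the group. -/
structure IsHomo (m : ℕ) (A : Type u) [Group A] : Prop where
  card : Nat.card A = 4 ^ m
  exp : ∀ x : A, x ^ 2 ^ m = 1
  inv4 : Nat.card {x : A // x ^ 2 = 1} = 4
  root : ∀ x : A, x ^ 2 = 1 → ∃ y : A, y ^ 2 ^ (m - 1) = x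

theorem isHomo_of_equiv {A : Type u} [Group A] {m : ℕ} (hm : 1 ≤ m)
    (φ : A ≃* Multiplicative (ZMod (2 ^ m) × ZMod (2 ^ m))) : IsHomo m A := by
  have : NeZero (2 ^ m) := ⟨pow_ne_zero _ two_ne_zero⟩
  let ψ : A ≃ ZMod (2 ^ m) × ZMod (2 ^ m) := φ.toEquiv.trans Multiplicative.toAdd
  have hψ : ∀ (x : A) (n : ℕ), ψ (x ^ n) = n • ψ x := fun x n => by
    show Multiplicative.toAdd (φ (x ^ n)) = n • Multiplicative.toAdd (φ x)
    rw [map_pow, toAdd_pow]
  have hψ1 : ψ 1 = 0 := by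
    show Multiplicative.toAdd (φ 1) = 0
    rw [map_one, toAdd_one]
  have h2 : ∀ x : A, x ^ 2 = 1 ↔ 2 • ψ x = 0 := fun x => by
    rw [← hψ, ← hψ1, ψ.apply_eq_iff_eq]
  refine ⟨?_, fun x => ψ.injective ?_, ?_, fun x hx => ?_⟩
  · rw [Nat.card_congr ψ, Nat.card_prod, Nat.card_zmod, ← mul_pow]
    norm_num
  · rw [hψ, hψ1]
    rw [Prod.ext_iff, Prod.smul_fst, Prod.smul_snd, Prod.fst_zero, Prod.snd_zero, nsmul_eq_mul,
      nsmul_eq_mul, ZMod.natCast_self, zero_mul, zero_mul]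
    exact ⟨rfl, rfl⟩
  · classical
    set h : ZMod (2 ^ m) := ((2 ^ (m - 1) : ℕ) : ZMod (2 ^ m)) with hh
    have hne : h ≠ 0 := by
      rw [hh, Ne, ZMod.natCast_eq_zero_iff]
      intro hd
      have := Nat.le_of_dvd (by positivity) hd
      have := Nat.pow_lt_pow_right one_lt_two (show m - 1 < m by omega)
      omega
    have e : {x : A // x ^ 2 = 1} ≃
        {a : ZMod (2 ^ m) // a ∈ ({0, h} : Finset (ZMod (2 ^ m)))} ×
          {a : ZMod (2 ^ m) // a ∈ ({0, h} : Finset (ZMod (2 ^ m)))} :=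
      (ψ.subtypeEquiv (q := fun q => q.1 ∈ ({0, h} : Finset (ZMod (2 ^ m))) ∧
          q.2 ∈ ({0, h} : Finset (ZMod (2 ^ m)))) fun x => by
        rw [h2, Prod.ext_iff, Prod.smul_fst, Prod.smul_snd, Prod.fst_zero, Prod.snd_zero,
          zmod_two_mul_eq_zero hm, zmod_two_mul_eq_zero hm]
        simp [hh]).trans (Equiv.subtypeProdEquivProd (p := fun a => a ∈ ({0, h} : Finset (ZMod (2 ^ m))))
          (q := fun a => a ∈ ({0, h} : Finset (ZMod (2 ^ m)))))
    rw [Nat.card_congr e, Nat.card_prod, Nat.card_eq_finsetCard, Finset.card_pair hne.symm]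
  · rw [h2, Prod.ext_iff, Prod.smul_fst, Prod.smul_snd, Prod.fst_zero, Prod.snd_zero,
      zmod_two_mul_eq_zero hm, zmod_two_mul_eq_zero hm] at hx
    have key : ∀ a : ZMod (2 ^ m), a = 0 ∨ a = (2 ^ (m - 1) : ℕ) →
        ∃ b : ZMod (2 ^ m), 2 ^ (m - 1) • b = a := by
      rintro a (rfl | rfl)
      · exact ⟨0, smul_zero _⟩
      · exact ⟨1, by rw [nsmul_eq_mul, mul_one]⟩
    obtain ⟨b₁, hb₁⟩ := key _ hx.1
    obtain ⟨b₂, hb₂⟩ := key _ hx.2
    refine ⟨ψ.symm (b₁, b₂), ψ.injective ?_⟩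
    rw [hψ, Equiv.apply_symm_apply]
    exact Prod.ext hb₁ hb₂

section Action

variable {G : Type u} [Group G] [Fintype G] {M : Ideal AlgInt} [M.IsPrime]
  {B : Set (IrrCharacter G)} {P : Subgroup G}
  {c : Set (IrrCharacter (Subgroup.centralizer (P : Set G)))}
variable (hM : IsPModular 2 M) (hmax : IsMaximalBrauerPair 2 M B P c)
  (hab : ∀ v ∈ P, ∀ w ∈ P, v * w = w * v) {m : ℕ} (hP : IsHomo m P)
include hM hmax hab hP

/-- A stabilizing element fixing all involutions centralizes. -/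
theorem mem_cen_of_fix {t : G} (ht : t ∈ pairStab M P c)
    (hfix : ∀ x : P, x ^ 2 = 1 → t * (x : G) * t⁻¹ = x) :
    t ∈ Subgroup.centralizer (P : Set G) := by
  have : Fact (Nat.Prime 2) := ⟨Nat.prime_two⟩
  set T := pairStab M P c with hT
  set n := ((Subgroup.centralizer (P : Set G)).subgroupOf T).index with hn
  have hnorm : ((Subgroup.centralizer (P : Set G)).subgroupOf T).Normal :=
    subgroupOf_normal_of_le_normalizer (centralizer_le_pairStab P c)
      ((pairStab_le P c).trans (normalizer_le_normalizer_centralizer hM P))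
  have hpow : ∀ w ∈ P, t ^ n * w * (t ^ n)⁻¹ = w := by
    intro w hw
    have h3 : (⟨t, ht⟩ : T) ^ n ∈ (Subgroup.centralizer (P : Set G)).subgroupOf T :=
      Subgroup.pow_index_mem _ _
    rw [Subgroup.mem_subgroupOf, Subgroup.coe_pow] at h3
    rw [← Subgroup.mem_centralizer_iff.1 h3 w hw, mul_inv_cancel_right]
  have hodd : ¬ 2 ∣ n := Watanabe.not_dvd_relIndex hM hmax hab
  have main : ∀ j : ℕ, ∀ x : P, x ^ 2 ^ j = 1 → t * (x : G) * t⁻¹ = x := by
    intro j
    induction j with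
    | zero =>
      intro x hx
      rw [pow_zero, pow_one] at hx
      simp [hx]
    | succ j ih =>
      intro x hx
      have h2 : t * ((x ^ 2 : P) : G) * t⁻¹ = ((x ^ 2 : P) : G) :=
        ih _ (by rw [← pow_mul, ← pow_succ', hx])
      have htxP : t * (x : G) * t⁻¹ ∈ P :=
        (Subgroup.mem_normalizer_iff.1 (pairStab_le P c ht) _).1 x.2
      set d : P := x⁻¹ * ⟨_, htxP⟩ with hd
      have hd2 : d ^ 2 = 1 := by
        apply Subtype.ext
        rw [hd]
        push_cast at h2 ⊢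
        rw [(show Commute (x : G)⁻¹ (t * (x : G) * t⁻¹) from
            (show Commute (x : G) (t * (x : G) * t⁻¹) from hab _ x.2 _ htxP).inv_left).mul_pow,
          conj_pow, h2, inv_pow, inv_mul_cancel]
      have hdfix := hfix d hd2
      have hconj : t * (x : G) * t⁻¹ = (x : G) * (d : G) := by
        rw [hd]
        push_cast
        rw [mul_inv_cancel_left]
      have hiter : ∀ i : ℕ, t ^ i * (x : G) * (t ^ i)⁻¹ = (x : G) * (d : G) ^ i := by
        intro i
        induction i with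
        | zero => simp
        | succ i ihi =>
          rw [pow_succ' t i, show t * t ^ i * (x : G) * (t * t ^ i)⁻¹ =
            t * (t ^ i * (x : G) * (t ^ i)⁻¹) * t⁻¹ by group, ihi,
            show t * ((x : G) * (d : G) ^ i) * t⁻¹ =
              (t * (x : G) * t⁻¹) * (t * (d : G) ^ i * t⁻¹) by group, hconj, ← conj_pow, hdfix,
            mul_assoc, ← pow_succ']
      have hdn := hiter n
      rw [hpow _ x.2, left_eq_mul] at hdn
      have hd1 : (d : G) = 1 := by
        obtain ⟨i, hi⟩ : Odd n := Nat.not_even_iff_odd.1 fun h => hodd (even_iff_two_dvd.1 h)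
        have h2' : (d : G) ^ 2 = 1 := congrArg Subtype.val hd2
        rwa [hi, pow_succ, pow_mul, h2', one_pow, one_mul] at hdn
      rw [hconj, hd1, mul_one]
  refine Subgroup.mem_centralizer_iff.2 fun w hw => ?_
  have h := main m ⟨w, hw⟩ (hP.exp _)
  exact (mul_inv_eq_iff_eq_mul.1 h).symm

/-- There is an involution. -/
theorem exists_involution : ∃ z : P, z ≠ 1 ∧ z ^ 2 = 1 := by
  classical
  have h1 : (Finset.univ : Finset P).filter (fun x => x ^ 2 = 1) ≠ {1} := fun h => by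
    have h4 := hP.inv4
    rw [Nat.card_eq_fintype_card, Fintype.card_subtype, h, Finset.card_singleton] at h4
    omega
  obtain ⟨z, hz, hz1⟩ := Finset.exists_mem_ne (s := (Finset.univ : Finset P).filter
    (fun x => x ^ 2 = 1)) (by
      rw [← Fintype.card_subtype, ← Nat.card_eq_fintype_card, hP.inv4]; norm_num) 1
  exact ⟨z, hz1, (Finset.mem_filter.1 hz).2⟩

/-- Three involutions are all of them. -/
theorem eq_of_three {x y w u : P} (hx : x ^ 2 = 1) (hy : y ^ 2 = 1) (hw : w ^ 2 = 1)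
    (hx1 : x ≠ 1) (hy1 : y ≠ 1) (hw1 : w ≠ 1) (hxy : x ≠ y) (hxw : x ≠ w) (hyw : y ≠ w)
    (hu : u ^ 2 = 1) (hu1 : u ≠ 1) : u = x ∨ u = y ∨ u = w := by
  classical
  set S := (Finset.univ : Finset P).filter (fun x => x ^ 2 = 1) with hS
  have hS4 : S.card = 4 := by
    rw [hS, ← hP.inv4, Nat.card_eq_fintype_card, Fintype.card_subtype]
  have hm : ∀ {v}, v ^ 2 = 1 → v ≠ 1 → v ∈ S.erase 1 := fun h h1 =>
    Finset.mem_erase.2 ⟨h1, Finset.mem_filter.2 ⟨Finset.mem_univ _, h⟩⟩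
  have he : ({x, y, w} : Finset P) = S.erase 1 := by
    refine Finset.eq_of_subset_of_card_le ?_ ?_
    · simp only [Finset.insert_subset_iff, Finset.singleton_subset_iff]
      exact ⟨hm hx hx1, hm hy hy1, hm hw hw1⟩
    · rw [Finset.card_erase_of_mem (by simp [hS]), hS4,
        Finset.card_eq_three.2 ⟨x, y, w, hxy, hxw, hyw, rfl⟩]
  simpa using (he ▸ hm hu hu1 : u ∈ ({x, y, w} : Finset P))

omit hM hmax hab hP in
/-- Every nontrivial element has an involution among its powers. -/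
theorem exists_socle (hPp : IsPGroup 2 P) {v : P} (hv : v ≠ 1) :
    ∃ z : P, z ≠ 1 ∧ z ^ 2 = 1 ∧ (z : G) ∈ Subgroup.zpowers (v : G) := by
  have : Fact (Nat.Prime 2) := ⟨Nat.prime_two⟩
  obtain ⟨j, hj⟩ := IsPGroup.iff_orderOf.1 hPp v
  rcases Nat.eq_zero_or_pos j with rfl | hj0
  · rw [pow_zero, orderOf_eq_one_iff] at hj
    exact absurd hj hv
  refine ⟨v ^ 2 ^ (j - 1), fun h => ?_, ?_, ?_⟩
  · have h1 := orderOf_dvd_of_pow_eq_one h
    rw [hj, Nat.pow_dvd_pow_iff_le_right one_lt_two] at h1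
    omega
  · rw [← pow_mul, ← pow_succ, Nat.sub_add_cancel hj0, ← hj, pow_orderOf_eq_one]
  · push_cast
    exact Subgroup.pow_mem _ (Subgroup.mem_zpowers _) _

/-- Fixing one involution is fixing all of them. -/
theorem mem_cen_of_fix_one {t : G} (ht : t ∈ pairStab M P c) {z : P} (hz1 : z ≠ 1)
    (hz : z ^ 2 = 1) (hfix : t * (z : G) * t⁻¹ = z) :
    t ∈ Subgroup.centralizer (P : Set G) := by
  have : Fact (Nat.Prime 2) := ⟨Nat.prime_two⟩
  have hinv : ∀ x : P, x ^ 2 = 1 → ∃ y : P, y ^ 2 = 1 ∧ (y : G) = t * (x : G) * t⁻¹ := by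
    intro x hx
    refine ⟨⟨_, (Subgroup.mem_normalizer_iff.1 (pairStab_le P c ht) _).1 x.2⟩, Subtype.ext ?_, rfl⟩
    push_cast
    rw [conj_pow, ← Subgroup.coe_pow, hx]
    simp
  have hinj : ∀ {x y : P}, t * (x : G) * t⁻¹ = t * (y : G) * t⁻¹ → x = y := fun h =>
    Subtype.ext (mul_left_cancel (mul_right_cancel h))
  -- the square fixes every involution
  have h2 : t * t ∈ Subgroup.centralizer (P : Set G) := by
    refine mem_cen_of_fix hM hmax hab hP (mul_mem ht ht) fun x hx => ?_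
    obtain ⟨y, hy, hyx⟩ := hinv x hx
    obtain ⟨y', hy', hyy⟩ := hinv y hy
    suffices y' = x by
      rw [this] at hyy
      calc t * t * (x : G) * (t * t)⁻¹ = t * (t * (x : G) * t⁻¹) * t⁻¹ := by group
        _ = x := by rw [← hyx, ← hyy]
    rcases eq_or_ne x 1 with rfl | hx1
    · have : y = 1 := Subtype.ext (by rw [hyx]; simp)
      subst this
      exact Subtype.ext (by rw [hyy]; simp)
    rcases eq_or_ne x z with rfl | hxz
    · have : y = x := Subtype.ext (hyx.trans hfix)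
      subst this
      exact Subtype.ext (hyy.trans hfix)
    have hy1 : y ≠ 1 := fun h => hx1 (hinj (by rw [← hyx, h]; simp))
    have hyz : y ≠ z := fun h => hxz (hinj (by rw [← hyx, h, hfix]))
    have hy'1 : y' ≠ 1 := fun h => hy1 (hinj (by rw [← hyy, h]; simp))
    have hy'z : y' ≠ z := fun h => hyz (hinj (by rw [← hyy, h, hfix]))
    rcases eq_or_ne y x with h | h
    · subst h
      exact Subtype.ext (hyy.trans hyx.symm)
    · have hy'y : y' ≠ y := fun h' => h (hinj (by rw [← hyy, h', hyx]))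
      rcases eq_of_three hM hmax hab hP hz hx hy hz1 hx1 hy1 (Ne.symm hxz) (Ne.symm hyz)
        (Ne.symm h) hy' hy'1 with h4 | h4 | h4
      · exact absurd h4 hy'z
      · exact h4
      · exact absurd h4 hy'y
  have hnorm : ((Subgroup.centralizer (P : Set G)).subgroupOf (pairStab M P c)).Normal :=
    subgroupOf_normal_of_le_normalizer (centralizer_le_pairStab P c)
      ((pairStab_le P c).trans (normalizer_le_normalizer_centralizer hM P))
  have h3 : (⟨t, ht⟩ : pairStab M P c) ^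
      ((Subgroup.centralizer (P : Set G)).subgroupOf (pairStab M P c)).index ∈
        (Subgroup.centralizer (P : Set G)).subgroupOf (pairStab M P c) :=
    Subgroup.pow_index_mem _ _
  obtain ⟨s, hs⟩ := Nat.not_even_iff_odd.1 fun he =>
    Watanabe.not_dvd_relIndex hM hmax hab (even_iff_two_dvd.1 he)
  rw [show ((Subgroup.centralizer (P : Set G)).subgroupOf (pairStab M P c)).index = 2 * s + 1
      from hs, Subgroup.mem_subgroupOf, Subgroup.coe_pow, pow_succ, pow_mul, pow_two] at h3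
  exact (Subgroup.mul_mem_cancel_left _ (pow_mem h2 s)).1 h3

/-- The action is free. -/
theorem free {t : G} (ht : t ∈ pairStab M P c) {v : P} (hv : v ≠ 1)
    (hfix : t * (v : G) * t⁻¹ = v) : t ∈ Subgroup.centralizer (P : Set G) := by
  obtain ⟨z, hz1, hz2, hzv⟩ := exists_socle hmax.1.1.1 hv
  refine mem_cen_of_fix_one hM hmax hab hP ht hz1 hz2 ?_
  obtain ⟨i, hi⟩ := Subgroup.mem_zpowers_iff.1 hzv
  rw [← hi, ← conj_zpow, hfix]

/-- A cyclic permutation of the involutions, when the stabilizer is larger than the centralizer. -/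
theorem exists_generator (hne : ¬ pairStab M P c ≤ Subgroup.centralizer (P : Set G)) :
    ∃ t ∈ pairStab M P c, t ∉ Subgroup.centralizer (P : Set G) ∧
      (∀ w ∈ P, t ^ 3 * w * (t ^ 3)⁻¹ = w) ∧
      ∀ v : P, ∀ w : G, w ∈ orb M P c (v : G) →
        w = v ∨ w = t * (v : G) * t⁻¹ ∨ w = t * (t * (v : G) * t⁻¹) * t⁻¹ := by
  obtain ⟨t, ht, htC⟩ := SetLike.not_le_iff_exists.1 hne
  obtain ⟨z, hz1, hz2⟩ := exists_involution hM hmax hab hP
  have hmove : ∀ {s : G}, s ∈ pairStab M P c → ∀ x : P, x ^ 2 = 1 → x ≠ 1 →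
      ∃ y : P, y ^ 2 = 1 ∧ y ≠ 1 ∧ (y : G) = s * (x : G) * s⁻¹ := by
    intro s hs x hx hx1
    refine ⟨⟨_, (Subgroup.mem_normalizer_iff.1 (pairStab_le P c hs) _).1 x.2⟩, Subtype.ext ?_,
      fun h => hx1 ?_, rfl⟩
    · push_cast
      rw [conj_pow, ← Subgroup.coe_pow, hx]
      simp
    · exact Subtype.ext (mul_left_cancel (mul_right_cancel
        ((congrArg Subtype.val h).trans (by simp : ((1 : P) : G) = s * 1 * s⁻¹))))
  obtain ⟨z₂, hz₂, hz₂1, hz₂e⟩ := hmove ht z hz2 hz1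
  obtain ⟨z₃, hz₃, hz₃1, hz₃e⟩ := hmove ht z₂ hz₂ hz₂1
  obtain ⟨z₄, hz₄, hz₄1, hz₄e⟩ := hmove ht z₃ hz₃ hz₃1
  have hinj : ∀ {x y : P}, t * (x : G) * t⁻¹ = t * (y : G) * t⁻¹ → x = y := fun h =>
    Subtype.ext (mul_left_cancel (mul_right_cancel h))
  have h12 : z₂ ≠ z := fun h => htC (mem_cen_of_fix_one hM hmax hab hP ht hz1 hz2 (by
    rw [← hz₂e, h]))
  have h23 : z₃ ≠ z₂ := fun h => htC (mem_cen_of_fix_one hM hmax hab hP ht hz₂1 hz₂ (by
    rw [← hz₃e, h]))
  have h34 : z₄ ≠ z₃ := fun h => htC (mem_cen_of_fix_one hM hmax hab hP ht hz₃1 hz₃ (by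
    rw [← hz₄e, h]))
  have hsq : t * t ∉ Subgroup.centralizer (P : Set G) := by
    intro h
    refine htC ?_
    obtain ⟨s, hs⟩ : Odd ((Subgroup.centralizer (P : Set G)).subgroupOf (pairStab M P c)).index :=
      Nat.not_even_iff_odd.1 fun he => Watanabe.not_dvd_relIndex hM hmax hab (even_iff_two_dvd.1 he)
    have hnorm : ((Subgroup.centralizer (P : Set G)).subgroupOf (pairStab M P c)).Normal :=
      subgroupOf_normal_of_le_normalizer (centralizer_le_pairStab P c)
        ((pairStab_le P c).trans (normalizer_le_normalizer_centralizer hM P))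
    have h3 : (⟨t, ht⟩ : pairStab M P c) ^
        ((Subgroup.centralizer (P : Set G)).subgroupOf (pairStab M P c)).index ∈
          (Subgroup.centralizer (P : Set G)).subgroupOf (pairStab M P c) :=
      Subgroup.pow_index_mem _ _
    rw [hs, Subgroup.mem_subgroupOf, Subgroup.coe_pow, pow_succ, pow_mul, pow_two] at h3
    exact (Subgroup.mul_mem_cancel_left _ (pow_mem h s)).1 h3
  have h13 : z₃ ≠ z := fun h => hsq (mem_cen_of_fix_one hM hmax hab hP (mul_mem ht ht) hz1 hz2 (by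
    calc t * t * (z : G) * (t * t)⁻¹ = t * (t * (z : G) * t⁻¹) * t⁻¹ := by group
      _ = z := by rw [← hz₂e, ← hz₃e, h]))
  have hfour : ∀ x : P, x ^ 2 = 1 → x ≠ 1 → x = z ∨ x = z₂ ∨ x = z₃ := by
    intro x hx hx1
    exact eq_of_three hM hmax hab hP hz2 hz₂ hz₃ hz1 hz₂1 hz₃1 (Ne.symm h12) (Ne.symm h13)
      (Ne.symm h23) hx hx1
  have h41 : z₄ = z := by
    rcases hfour z₄ hz₄ hz₄1 with h | h | h
    · exact h
    · exact absurd (hinj (by rw [← hz₄e, h, hz₂e])) h13
    · exact absurd h h34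
  have hcube : t ^ 3 ∈ Subgroup.centralizer (P : Set G) := by
    refine mem_cen_of_fix_one hM hmax hab hP (pow_mem ht 3) hz1 hz2 ?_
    calc t ^ 3 * (z : G) * (t ^ 3)⁻¹ = t * (t * (t * (z : G) * t⁻¹) * t⁻¹) * t⁻¹ := by
          simp [pow_succ, mul_assoc]
      _ = z := by rw [← hz₂e, ← hz₃e, ← hz₄e, h41]
  refine ⟨t, ht, htC, fun w hw => by
    rw [← Subgroup.mem_centralizer_iff.1 hcube w hw, mul_inv_cancel_right], fun v w hw => ?_⟩
  obtain ⟨s, hs, rfl⟩ := mem_orb.1 hw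
  obtain ⟨y, hy, hy1, hye⟩ := hmove hs z hz2 hz1
  have hfixes : ∀ {g : G}, g ∈ pairStab M P c → g * (z : G) * g⁻¹ = (y : G) →
      s * (v : G) * s⁻¹ = g * (v : G) * g⁻¹ := by
    intro g hg hgy
    have h1 : g⁻¹ * s ∈ Subgroup.centralizer (P : Set G) :=
      mem_cen_of_fix_one hM hmax hab hP (mul_mem (inv_mem hg) hs) hz1 hz2 (by
        calc g⁻¹ * s * (z : G) * (g⁻¹ * s)⁻¹ = g⁻¹ * (s * (z : G) * s⁻¹) * g := by group
          _ = z := by rw [← hye, ← hgy]; group)
    have h2 := Subgroup.mem_centralizer_iff.1 h1 v v.2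
    calc s * (v : G) * s⁻¹ = g * (g⁻¹ * s * (v : G)) * s⁻¹ := by group
      _ = g * (v : G) * g⁻¹ := by rw [← h2]; group
  rcases hfour y hy hy1 with h | h | h
  · left
    rw [hfixes (one_mem _) (by rw [h]; simp)]
    simp
  · right; left
    exact hfixes ht (by rw [h, hz₂e])
  · right; right
    rw [hfixes (mul_mem ht ht) (by rw [h, hz₃e, hz₂e]; group)]
    group

end Action

end CfsgLib.BlockA.Homocyclic
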