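import Cfsg.Agent.Lib.BlockA.FreeHeights
import Cfsg.Agent.Lib.BlockA.HomocyclicShape
import Cfsg.Agent.Lib.BlockA.HomocyclicCount
import Cfsg.Agent.Lib.BlockB.StarInteger

/-!
A `2`-block with homocyclic defect group of rank two: numbers of characters and Brauer characters.
-/

set_option autoImplicit false
set_option linter.unusedSectionVars false
set_option maxHeartbeats 1000000

namespace CfsgLib.BlockA.Homocyclic

open Cfsg CfsgLib.Block CfsgLib.BlockA CfsgLib.BlockB CfsgLib.BlockB.HeightBound AbelianSub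
  AbelianTrace
open scoped ComplexConjugate

universe u

variable {G : Type u} [Group G] [Fintype G] {M : Ideal AlgInt} [M.IsPrime]
  {B : Set (IrrCharacter G)} {P : Subgroup G}
  {c : Set (IrrCharacter (Subgroup.centralizer (P : Set G)))}
variable (hM : IsPModular 2 M) (hmax : IsMaximalBrauerPair 2 M B P c)
  (hab : ∀ v ∈ P, ∀ w ∈ P, v * w = w * v) {m : ℕ} (hP : IsHomo m P)
include hM hmax hab hP

omit hM hmax hab in
/-- The elements of exponent dividing `2 ^ (m - 1)` form a subgroup of index four. -/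
theorem natCard_kernel (hm : 1 ≤ m) (W : Subgroup P) (hW : ∀ x, x ∈ W ↔ x ^ 2 ^ (m - 1) = 1)
    (hab' : ∀ v ∈ P, ∀ w ∈ P, v * w = w * v) : 4 * Nat.card W = 4 ^ m := by
  letI : CommGroup P := { (inferInstance : Group P) with
    mul_comm := fun a b => Subtype.ext (hab' a a.2 b b.2) }
  set φ : P →* P := powMonoidHom (2 ^ (m - 1)) with hφ
  have hker : φ.ker = W := Subgroup.ext fun x => by rw [MonoidHom.mem_ker, hW]; rfl
  have hpow : ∀ x : P, φ x ^ 2 = 1 := fun x => by
    rw [hφ, powMonoidHom_apply, ← pow_mul, ← pow_succ, Nat.sub_add_cancel hm, hP.exp]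
  have hrange : Nat.card φ.range = 4 := by
    rw [← hP.inv4]
    refine Nat.card_congr ⟨fun y => ⟨y, by obtain ⟨x, hx⟩ := y.2; rw [← hx]; exact hpow x⟩,
      fun y => ⟨y, by obtain ⟨x, hx⟩ := hP.root y y.2; exact ⟨x, hx⟩⟩, fun _ => rfl, fun _ => rfl⟩
  have h := Subgroup.card_eq_card_quotient_mul_card_subgroup φ.ker
  rw [Nat.card_congr (QuotientGroup.quotientKerEquivRange φ).toEquiv, hrange, hker, hP.card] at h
  omega

/-- **The conjugation by a generator.** -/
theorem exists_rotation (hne : ¬ pairStab M P c ≤ Subgroup.centralizer (P : Set G)) :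
    ∃ (t : G) (τ : P ≃* P), t ∈ pairStab M P c ∧ (∀ v : P, (τ v : G) = t * (v : G) * t⁻¹) ∧
      (∀ v, τ (τ (τ v)) = v) ∧ (∀ v, τ v = v → v = 1) ∧
      (∀ v : P, v ≠ 1 → (orb M P c (v : G)).card = 3) ∧
      ∀ v w : P, (w : G) ∈ orb M P c (v : G) → w = v ∨ w = τ v ∨ w = τ (τ v) := by
  classical
  obtain ⟨t, ht, htC, hcube, horb⟩ := exists_generator hM hmax hab hP hne
  have hmem : ∀ v : P, t * (v : G) * t⁻¹ ∈ P := fun v =>
    (Subgroup.mem_normalizer_iff.1 (pairStab_le P c ht) _).1 v.2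
  have hmul : ∀ v w : P, (⟨_, hmem (v * w)⟩ : P) = ⟨_, hmem v⟩ * ⟨_, hmem w⟩ := fun v w =>
    Subtype.ext (by push_cast; group)
  let f : P →* P := MonoidHom.mk' (fun v => ⟨_, hmem v⟩) hmul
  have hf3 : ∀ v, f (f (f v)) = v := fun v => Subtype.ext (by
    show t * (t * (t * (v : G) * t⁻¹) * t⁻¹) * t⁻¹ = v
    calc _ = t ^ 3 * (v : G) * (t ^ 3)⁻¹ := by simp [pow_succ, mul_assoc]
      _ = v := hcube v v.2)
  let τ : P ≃* P :=
    { toFun := f
      invFun := fun v => f (f v)
      left_inv := fun v => hf3 v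
      right_inv := fun v => hf3 v
      map_mul' := map_mul f }
  have hfix : ∀ v, τ v = v → v = 1 := fun v h => by
    by_contra hv
    exact htC (free hM hmax hab hP ht hv (congrArg Subtype.val h))
  refine ⟨t, τ, ht, fun v => rfl, hf3, hfix, fun v hv => ?_, fun v w hw => ?_⟩
  · have h1 : τ v ≠ v := fun h => hv (hfix v h)
    have h2 : τ (τ v) ≠ τ v := fun h => h1 (τ.injective h)
    have h3 : τ (τ v) ≠ v := fun h => by
      have h4 := congrArg τ h
      rw [show τ (τ (τ v)) = v from hf3 v] at h4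
      exact h1 h4.symm
    refine Finset.card_eq_three.2 ⟨v, τ v, τ (τ v), fun h => h1 (Subtype.ext h).symm,
      fun h => h3 (Subtype.ext h).symm, fun h => h2 (Subtype.ext h).symm, ?_⟩
    ext w
    simp only [Finset.mem_insert, Finset.mem_singleton]
    refine ⟨fun hw => horb v w hw, ?_⟩
    rintro (rfl | rfl | rfl)
    · exact self_mem_orb _
    · exact mem_orb.2 ⟨t, ht, rfl⟩
    · exact mem_orb.2 ⟨t * t, mul_mem ht ht, by
        show t * t * (v : G) * (t * t)⁻¹ = t * (t * (v : G) * t⁻¹) * t⁻¹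
        group⟩
  · rcases horb v w hw with h | h | h
    · exact Or.inl (Subtype.ext h)
    · exact Or.inr (Or.inl (Subtype.ext h))
    · exact Or.inr (Or.inr (Subtype.ext h))

/-- **Numbers of characters and Brauer characters.** -/
theorem counts (hm : 2 ≤ m) (hcard : Nat.card P = 2 ^ blockDefect 2 B) :
    (blockRank 2 B = 1 ∧ Nat.card B = 4 ^ m) ∨
      (blockRank 2 B = 3 ∧ 3 * Nat.card B = 4 ^ m + 8) := by
  classical
  by_cases hne : pairStab M P c ≤ Subgroup.centralizer (P : Set G)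
  · obtain ⟨h1, h2⟩ := Contribution.nilpotent_counts hM hmax hab hne
    exact Or.inl ⟨h2, by rw [h1, hP.card]⟩
  right
  have : Fact (Nat.Prime 2) := ⟨Nat.prime_two⟩
  have := Fintype.ofFinite (IrrCharacter G)
  have := Fintype.ofFinite (IrrCharacter P)
  obtain ⟨t, τ, ht, hτt, hτ3, hτfix, horb3, horbτ⟩ := exists_rotation hM hmax hab hP hne
  have hcP : ∀ a b : P, a * b = b * a := fun a b => Subtype.ext (hab a a.2 b b.2)
  have hfree : ∀ s ∈ pairStab M P c, ∀ v : P, v ≠ 1 → s * (v : G) * s⁻¹ = v →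
      s ∈ Subgroup.centralizer (P : Set G) := fun s hs v hv h => free hM hmax hab hP hs hv h
  have horb1 : (orb M P c ((1 : P) : G)).card = 1 := by
    rw [Finset.card_eq_one]
    refine ⟨1, Finset.eq_singleton_iff_unique_mem.2 ⟨?_, fun w hw => ?_⟩⟩
    · exact mem_orb.2 ⟨1, one_mem _, by simp⟩
    obtain ⟨s, -, rfl⟩ := mem_orb.1 hw
    simp
  have hbig : 16 ≤ Nat.card P := by
    rw [hP.card]
    calc 16 = 4 ^ 2 := by norm_num
      _ ≤ 4 ^ m := Nat.pow_le_pow_right (by norm_num) hm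
  have hheight : ∀ χ ∈ B, blockHeight 2 B (χ : G → ℂ) = 0 := fun χ hχ => by
    refine FreeHeights.height_zero hM hmax hab hcard hfree (e := 3) (fun v => ?_) (by omega) hχ
    rcases eq_or_ne v 1 with rfl | hv
    · omega
    · exact (horb3 v hv).le
  set k := Nat.card B with hk
  set l := blockRank 2 B with hl
  set X := B.toFinite.toFinset with hX
  have hXk : X.card = k := (Nat.card_eq_card_finite_toFinset B.toFinite).symm
  have hmemX : ∀ {χ}, χ ∈ X ↔ χ ∈ B := B.toFinite.mem_toFinset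
  have hP0 : (Nat.card P : ℂ) ≠ 0 := Nat.cast_ne_zero.2 Nat.card_pos.ne'
  -- one expansion
  obtain ⟨z, hz1, hz2⟩ := exists_involution hM hmax hab hP
  obtain ⟨n, hn⟩ := FreeExpansion.exists_expansion hM hmax hab (z := z)
    (fun s hs h => hfree s hs z hz1 h)
  let f : IrrCharacter G → P → ℂ := FreeHeights.val n
  have hfn : ∀ v : P, (z : G) ∈ Subgroup.zpowers (v : G) → ∀ χ ξ,
      Contribution.con hM hmax hab v χ ξ = (Nat.card P : ℂ)⁻¹ * (f χ v * conj (f ξ v)) := hn
  -- the rank at a nontrivial element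
  have hrk : ∀ v : P, v ≠ 1 → rk hM hmax hab v = 1 := by
    intro v hv
    obtain ⟨n', hn'⟩ := FreeExpansion.exists_expansion hM hmax hab (z := v)
      (fun s hs h => hfree s hs v hv h)
    have hn'v := hn' v (Subgroup.mem_zpowers _)
    have := Fintype.ofFinite (Subgroup.centralizer ({(v : G)} : Set G))
    obtain ⟨χ, hχ, -⟩ := exists_height_zero hM hmax.1.2.1
    set g := fun ξ => FreeHeights.val n' ξ v with hg
    have hgne : g χ ≠ 0 := by
      intro h0
      obtain ⟨j, hj⟩ := IsPGroup.iff_orderOf.1 hmax.1.1.1 v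
      rw [← Subgroup.orderOf_coe] at hj
      refine AbelianRankCount.subEntry_self_ne_zero hM ⟨j, hj⟩ (blk_spec hM hmax hab v.2).1
        (exists_blk hM hmax hab v.2).choose_spec.2.2 hχ ?_
      rw [← FreeHeights.val_mul hM hmax hab hcard hn'v]
      simp only [hg] at h0
      rw [h0, zero_mul]
    have h := Contribution.sum_con_mul hM hmax hab (χ := χ) (χ' := χ) hχ v v
    rw [if_pos (self_mem_orb _)] at h
    rw [← Contribution.sum_con_self hM hmax hab v]
    change ∑ ξ ∈ X, _ = _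
    rw [← hX] at h
    simp only [hn'v] at h ⊢
    refine mul_right_cancel₀ (mul_ne_zero (inv_ne_zero hP0)
      (mul_ne_zero hgne ((map_ne_zero _).2 hgne))) (Eq.trans ?_ ((h.trans (one_mul _).symm)))
    rw [Finset.sum_mul]
    refine Finset.sum_congr rfl fun ξ _ => ?_
    simp only [hg, FreeHeights.val]
    ring
  -- the central contribution
  have hrk1 : rk hM hmax hab (1 : P) = (l : ℂ) := by
    have h := (Watanabe.central_case hM hmax hab (Subgroup.one_mem (Subgroup.center G))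
      (Watanabe.blk_in hM hmax hab P.one_mem).choose_spec.1).1
    rw [hl, ← h]
    rfl
  have hkl : 3 * k + 1 = 3 * l + Nat.card P := by
    have h := Watanabe.natCard_eq_sum hM hmax hab
    rw [← Finset.add_sum_erase _ _ (Finset.mem_univ (1 : P)), hrk1, horb1, Nat.cast_one, div_one,
      Finset.sum_congr rfl (g := fun _ => (1 : ℂ) / 3) fun v hv => ?_, Finset.sum_const,
      Finset.card_erase_of_mem (Finset.mem_univ _), Finset.card_univ, ← Nat.card_eq_fintype_card,
      nsmul_eq_mul] at h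
    · have h' : ((3 * k + 1 : ℕ) : ℂ) = ((3 * l + Nat.card P : ℕ) : ℂ) := by
        push_cast
        rw [hk, h, Nat.cast_sub Nat.card_pos]
        push_cast
        ring
      exact_mod_cast h'
    · have hv1 := (Finset.mem_erase.1 hv).1
      rw [hrk v hv1, horb3 v hv1, Nat.cast_ofNat]
  -- divisibility by eight
  have hint : ∀ χ ∈ X, ∃ a : ℤ, f χ z = (a : ℂ) ∧ Odd a ∧ Odd (∑ ζ, n χ ζ) := fun χ hχ =>
    FreeHeights.odd_value hM hmax hab hcard hz2 (hn z (Subgroup.mem_zpowers _)) (hmemX.1 hχ)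
      (hheight χ (hmemX.1 hχ))
  have hrkz := Contribution.sum_con_self hM hmax hab z
  rw [hrk z hz1, ← hX, Finset.sum_congr rfl fun χ _ => hfn z (Subgroup.mem_zpowers _) χ χ,
    ← Finset.mul_sum, inv_mul_eq_iff_eq_mul₀ hP0, mul_one] at hrkz
  choose! a ha hao hno using hint
  have h8 : 8 ∣ k := by
    have h1 : ((∑ χ ∈ X, a χ ^ 2 : ℤ) : ℂ) = ((Nat.card P : ℤ) : ℂ) := by
      rw [Int.cast_natCast, ← hrkz, Int.cast_sum]
      refine Finset.sum_congr rfl fun χ hχ => ?_
      rw [ha χ hχ, map_intCast]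
      push_cast
      ring
    have h2 : ∑ χ ∈ X, a χ ^ 2 = (Nat.card P : ℤ) := by exact_mod_cast h1
    have h3 : (8 : ℤ) ∣ ∑ χ ∈ X, (a χ ^ 2 - 1) :=
      Finset.dvd_sum fun χ hχ => Int.eight_dvd_sq_sub_one_of_odd (hao χ hχ)
    rw [Finset.sum_sub_distrib, h2, Finset.sum_const, hXk, nsmul_eq_mul, mul_one] at h3
    have h4 : (8 : ℤ) ∣ (Nat.card P : ℤ) := by
      rw [hP.card, ← Nat.sub_add_cancel hm, pow_add]
      push_cast
      exact (show (8 : ℤ) ∣ 4 ^ 2 by norm_num).mul_left _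
    have h5 := h4.sub h3
    rw [sub_sub_cancel] at h5
    exact Int.natCast_dvd_natCast.1 h5
  -- the bound
  have hroot := hP.root z hz2
  obtain ⟨v₀, hv₀⟩ := hroot
  set q := 2 ^ (m - 1) with hq
  letI : CommGroup P := { (inferInstance : Group P) with mul_comm := hcP }
  let W : Subgroup P := (powMonoidHom q : P →* P).ker
  have hW : ∀ x : P, x ∈ W ↔ x ^ q = 1 := fun x => Iff.rfl
  have := Fintype.ofFinite W
  have hWcard : 4 * Fintype.card W = Nat.card P := by
    rw [← Nat.card_eq_fintype_card, hP.card]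
    exact natCard_kernel hP (by omega) W hW hab
  have hcoset : ∀ x : W, (v₀ * (x : P)) ^ q = z := fun x => by
    rw [mul_pow, hv₀, (hW _).1 x.2, mul_one]
  have hzmem : ∀ x : W, (z : G) ∈ Subgroup.zpowers ((v₀ * (x : P) : P) : G) := fun x => by
    rw [← hcoset x, Subgroup.coe_pow]
    exact Subgroup.pow_mem _ (Subgroup.mem_zpowers _) _
  have hhom : ∀ ζ : IrrCharacter P, ∃ μ : P →* ℂ, ∀ v, (ζ : P → ℂ) v = μ v := fun ζ => by
    obtain ⟨μ, hμ⟩ := CfsgLib.Char.exists_hom_of_degree_one (CfsgLib.Char.irr_isCharacter ζ.2)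
      (CfsgLib.Char.irr_degree_one_of_comm hcP ζ.2)
    exact ⟨(Units.coeHom ℂ).comp μ, fun v => congrFun hμ v⟩
  choose hom hhom using hhom
  let e : IrrCharacter P ≃ IrrCharacter P :=
    ⟨irrMap τ, irrMap τ.symm, fun ζ => irrMap_symm_irrMap τ ζ, fun ζ => irrMap_irrMap_symm τ ζ⟩
  have hval : ∀ χ v, f χ v = ∑ ζ, (n χ ζ : ℂ) * hom ζ v := fun χ v =>
    Finset.sum_congr rfl fun ζ _ => by rw [hhom]
  have hτW : ∀ x ∈ W, τ x ∈ W := fun x hx => by
    rw [hW] at hx ⊢
    rw [← map_pow, hx, map_one]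
  have hjoin : ∀ x y : W, ∑ χ ∈ X, conj (f χ (v₀ * x)) * f χ (v₀ * y) =
      if x = y then (Nat.card P : ℂ) else 0 := by
    intro x y
    set v : P := v₀ * x with hv
    set w : P := v₀ * y with hw
    have hviff : (w : G) ∈ orb M P c (v : G) ↔ x = y := by
      refine ⟨fun h => ?_, fun h => by rw [hv, hw, h]; exact self_mem_orb _⟩
      have hvq : v ^ q = z := hcoset x
      have hwq : w ^ q = z := hcoset y
      rcases horbτ v w h with e' | e' | e'
      · exact Subtype.ext (mul_left_cancel e').symm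
      · exfalso
        rw [e', ← map_pow, hvq] at hwq
        exact hz1 (hτfix z hwq)
      · exfalso
        rw [e', ← map_pow, ← map_pow, hvq] at hwq
        exact hz1 (hτfix z (by conv_lhs => rw [← hwq, hτ3]))
    obtain ⟨χ, hχ, -⟩ := exists_height_zero hM hmax.1.2.1
    have hne0 : ∀ u : P, (z : G) ∈ Subgroup.zpowers (u : G) → f χ u ≠ 0 := by
      intro u hu h0
      have := Fintype.ofFinite (Subgroup.centralizer ({(u : G)} : Set G))
      obtain ⟨j, hj⟩ := IsPGroup.iff_orderOf.1 hmax.1.1.1 u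
      rw [← Subgroup.orderOf_coe] at hj
      refine AbelianRankCount.subEntry_self_ne_zero hM ⟨j, hj⟩ (blk_spec hM hmax hab u.2).1
        (exists_blk hM hmax hab u.2).choose_spec.2.2 hχ ?_
      rw [← FreeHeights.val_mul hM hmax hab hcard (hfn u hu)]
      show f χ u * _ = 0
      rw [h0, zero_mul]
    have h := Contribution.sum_con_mul hM hmax hab (χ := χ) (χ' := χ) hχ v w
    rw [← hX] at h
    simp only [hfn v (hzmem x), hfn w (hzmem y)] at h
    have hfac : ∑ ξ ∈ X, (Nat.card P : ℂ)⁻¹ * (f χ v * conj (f ξ v)) *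
        ((Nat.card P : ℂ)⁻¹ * (f ξ w * conj (f χ w))) =
        ((Nat.card P : ℂ)⁻¹ * (f χ v * conj (f χ w))) * ((Nat.card P : ℂ)⁻¹ *
          ∑ ξ ∈ X, conj (f ξ v) * f ξ w) := by
      simp only [Finset.mul_sum]
      exact Finset.sum_congr rfl fun ξ _ => by ring
    rw [hfac] at h
    have hne' : (Nat.card P : ℂ)⁻¹ * (f χ v * conj (f χ w)) ≠ 0 :=
      mul_ne_zero (inv_ne_zero hP0) (mul_ne_zero (hne0 v (hzmem x))
        ((map_ne_zero _).2 (hne0 w (hzmem y))))
    by_cases hxy : x = y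
    · rw [if_pos hxy]
      have hvw : v = w := by rw [hv, hw, hxy]
      rw [if_pos (hviff.2 hxy), ← hvw] at h
      rw [← hvw] at hne' ⊢
      have h' := mul_left_cancel₀ hne' (h.trans (mul_one _).symm)
      rwa [inv_mul_eq_iff_eq_mul₀ hP0, mul_one] at h'
    · rw [if_neg hxy]
      rw [if_neg (fun h' => hxy (hviff.1 h'))] at h
      exact (mul_eq_zero.1 ((mul_eq_zero.1 h).resolve_left hne')).resolve_left (inv_ne_zero hP0)
  have hb := HomocyclicCount.three_mul_card_le W v₀ (show v₀ ^ 2 ∈ W by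
      rw [hW, ← pow_mul, mul_comm, pow_mul, hv₀, hz2])
    (fun x => ⟨m, Subtype.ext (by push_cast; exact hP.exp _)⟩) τ hτW hτ3 hτfix hcP hom e
    (fun ζ => MonoidHom.ext fun v => by
      show hom (irrMap τ ζ) v = hom ζ (τ v)
      rw [← hhom, ← hhom, irrMap_apply])
    X n hno (fun x y hxy => by simp only [← hval]; rw [hjoin, if_neg hxy])
    (fun x => by simp only [← hval]; rw [hjoin, if_pos rfl, hWcard])
    (fun χ hχ χ' hχ' => ?_)
  · rw [hXk] at hb
    obtain ⟨r, hr⟩ := h8
    have hl1 := one_le_blockRank hM hmax.1.2.1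
    rw [← hl] at hl1
    have h16 : 4 ^ m = 16 * 4 ^ (m - 2) := by
      rw [show (16 : ℕ) = 4 ^ 2 by norm_num, ← pow_add, Nat.add_sub_cancel' hm]
    rw [hP.card] at hkl hWcard
    omega
  -- the integers
  rw [hmemX] at hχ hχ'
  let con := fun v => Contribution.con hM hmax hab v χ χ'
  have hconτ : ∀ v, con (τ v) = con v := fun v =>
    (Contribution.con_stab hM hmax hab (mem_orb.2 ⟨t, ht, (hτt v).symm⟩)).1 χ χ'
  have hN : ∀ ζ : IrrCharacter P, ∃ N : ℤ, (N : ℂ) = (∑ v, hom ζ v * con v) + 2 * con 1 := by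
    intro ζ
    let lam : P → ℂ := (ζ : P → ℂ) + (irrMap τ ζ : P → ℂ) + (irrMap τ (irrMap τ ζ) : P → ℂ)
    have hlam : ∀ v, lam v = hom ζ v + hom ζ (τ v) + hom ζ (τ (τ v)) := fun v => by
      show (ζ : P → ℂ) v + (irrMap τ ζ : P → ℂ) v + (irrMap τ (irrMap τ ζ) : P → ℂ) v = _
      rw [irrMap_apply, irrMap_apply, irrMap_apply, hhom, hhom, hhom]
    have hlamτ : ∀ v, lam (τ v) = lam v := fun v => by rw [hlam, hlam, hτ3]; ring
    have hinv : ∀ s ∈ pairStab M P c, ∀ x y : P, s * (x : G) * s⁻¹ = y → lam y = lam x := by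
      intro s hs x y hxy
      rcases horbτ x y (mem_orb.2 ⟨s, hs, hxy⟩) with rfl | rfl | rfl
      · rfl
      · rw [hlamτ]
      · rw [hlamτ, hlamτ]
    obtain ⟨N, hN⟩ := CfsgLib.BlockB.Star.exists_int_classInner hM hmax (lam := lam)
      (CfsgLib.Char.isCharacter_add (CfsgLib.Char.isCharacter_add
        (CfsgLib.Char.irr_isCharacter ζ.2) (CfsgLib.Char.irr_isCharacter (irrMap τ ζ).2))
        (CfsgLib.Char.irr_isCharacter (irrMap τ (irrMap τ ζ)).2))
      (isStable_of_invariant hM hmax hab hinv) χ χ'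
    refine ⟨N, ?_⟩
    rw [← hN, Contribution.classInner_star hM hmax hab hχ' hinv]
    rw [← Finset.add_sum_erase _ _ (Finset.mem_univ (1 : P)), horb1, Nat.cast_one, div_one,
      Finset.sum_congr rfl (g := fun v => lam v * con v / 3) (fun v hv => by
        rw [horb3 v (Finset.mem_erase.1 hv).1, Nat.cast_ofNat]), ← Finset.sum_div]
    have e0 : ∀ g : P → ℂ, ∑ v, g (τ v) = ∑ v, g v := fun g => Equiv.sum_comp τ.toEquiv g
    have e1 : ∑ v, lam v * con v = 3 * ∑ v, hom ζ v * con v := by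
      simp only [hlam, add_mul, Finset.sum_add_distrib]
      have a1 : ∑ v, hom ζ (τ v) * con v = ∑ v, hom ζ v * con v := by
        rw [← e0 (fun v => hom ζ v * con v)]
        simp only [hconτ]
      have a2 : ∑ v, hom ζ (τ (τ v)) * con v = ∑ v, hom ζ v * con v := by
        rw [← a1, ← e0 (fun v => hom ζ (τ v) * con v)]
        simp only [hconτ]
      rw [a1, a2]
      ring
    have e2 := Finset.add_sum_erase Finset.univ (fun v => lam v * con v) (Finset.mem_univ (1 : P))
    have e3 : lam 1 = 3 := by simp [hlam]; norm_num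
    rw [e1, e3] at e2
    show lam 1 * con 1 + _ = _
    rw [e3, eq_sub_of_add_eq' e2]
    ring
  choose N hN using hN
  refine ⟨N, fun ζ => ?_, fun x => ?_⟩
  · apply Int.cast_injective (α := ℂ)
    rw [hN, hN]
    congr 1
    refine Eq.trans ?_ (Equiv.sum_comp τ.toEquiv fun v => hom ζ v * con v)
    refine Finset.sum_congr rfl fun v _ => ?_
    show hom (irrMap τ ζ) v * con v = hom ζ (τ v) * con (τ v)
    rw [hconτ, ← hhom, ← hhom, irrMap_apply]
  · simp only [← hval]
    set w : P := v₀ * x with hw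
    have hcol : ∀ u : P, ∑ ζ : IrrCharacter P, hom ζ u * conj (hom ζ w) =
        if u = w then (Nat.card P : ℂ) else 0 := by
      intro u
      have h : ∀ ζ : IrrCharacter P, hom ζ u * conj (hom ζ w) =
          (ζ : P → ℂ) 1 * (ζ : P → ℂ) (u * w⁻¹) := fun ζ => by
        have h1 : (ζ : P → ℂ) 1 = 1 := by rw [hhom, map_one]
        rw [h1, one_mul, ← hhom, ← hhom, irr_conj_eq ζ.2, hhom, hhom, hhom, map_mul]
      rw [Finset.sum_congr rfl fun ζ _ => h ζ, CfsgLib.Char.sum_irr_mul_degree]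
      simp only [mul_inv_eq_one]
    have hw1 : w ≠ 1 := fun h => hz1 (by rw [← hcoset x, show v₀ * (x : P) = 1 from h, one_pow])
    have e1 : ∀ ζ : IrrCharacter P, (N ζ : ℂ) * conj (hom ζ w) =
        (∑ v, con v * (hom ζ v * conj (hom ζ w))) + 2 * con 1 * (hom ζ 1 * conj (hom ζ w)) := by
      intro ζ
      rw [hN, add_mul, Finset.sum_mul, map_one, one_mul]
      congr 1
      exact Finset.sum_congr rfl fun v _ => by ring
    rw [Finset.sum_congr rfl fun ζ _ => e1 ζ, Finset.sum_add_distrib, ← Finset.mul_sum, hcol,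
      if_neg (Ne.symm hw1), mul_zero, add_zero, Finset.sum_comm]
    simp only [← Finset.mul_sum, hcol]
    rw [Finset.sum_eq_single w (fun v _ hv => by rw [if_neg hv, mul_zero]) (by simp), if_pos rfl]
    show _ = Contribution.con hM hmax hab w χ χ' * _
    rw [hfn w (hzmem x)]
    field_simp

end CfsgLib.BlockA.Homocyclic
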