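import Cfsg.Agent.Lib.BlockA.DihedralRot
import Mathlib.GroupTheory.SpecificGroups.Quaternion
import Mathlib.GroupTheory.SpecificGroups.KleinFour

/-!
Subgroups with the multiplication of a generalized quaternion group, given by a rotation; the
quotient by the central involution is dihedral.
-/

set_option autoImplicit false
set_option linter.unusedSectionVars false

namespace CfsgLib.BlockA.QuatDefect

open Subgroup

universe u

variable {G : Type u} [Group G]

/-- `P` is generalized quaternion of order `4 * h` with rotation `r`. -/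
structure QRot (P : Subgroup G) (r : G) (h : ℕ) : Prop where
  two_le : 2 ≤ h
  two_pow : ∃ k : ℕ, h = 2 ^ k
  mem : r ∈ P
  orderOf_eq : orderOf r = 2 * h
  card_eq : Nat.card P = 4 * h
  outside : ∀ w ∈ P, w ∉ zpowers r → w * w = r ^ h ∧ w * r * w⁻¹ = r⁻¹

theorem exists_qrot {P : Subgroup G} {n : ℕ} (hn : 3 ≤ n)
    (e : P ≃* QuaternionGroup (2 ^ (n - 2))) : ∃ r : G, QRot P r (2 ^ (n - 2)) := by
  have hh : 2 ≤ 2 ^ (n - 2) := le_self_pow₀ one_le_two (by omega)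
  set h := 2 ^ (n - 2) with hhdef
  have : NeZero h := ⟨by omega⟩
  set g : P := e.symm (QuaternionGroup.a 1) with hg
  have hpow : ∀ k : ℕ, e (g ^ k) = QuaternionGroup.a (k : ZMod (2 * h)) := fun k => by
    rw [map_pow, hg, e.apply_symm_apply, QuaternionGroup.a_one_pow]
  refine ⟨g, ⟨hh, ⟨_, rfl⟩, g.2, ?_, ?_, fun w hw hnot => ?_⟩⟩
  · rw [orderOf_coe, hg, MulEquiv.orderOf_eq, QuaternionGroup.orderOf_a_one]
  · rw [Nat.card_congr e.toEquiv, Nat.card_eq_fintype_card, QuaternionGroup.card]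
  · obtain ⟨i, hi⟩ | ⟨i, hi⟩ : (∃ i, e ⟨w, hw⟩ = QuaternionGroup.a i) ∨
        ∃ i, e ⟨w, hw⟩ = QuaternionGroup.xa i := by
      rcases hx : e ⟨w, hw⟩ with i | i
      exacts [Or.inl ⟨i, rfl⟩, Or.inr ⟨i, rfl⟩]
    · refine absurd ?_ hnot
      have h1 : e ⟨w, hw⟩ = e (g ^ i.val) := by rw [hi, hpow, ZMod.natCast_zmod_val]
      have h2 := congrArg Subtype.val (e.injective h1)
      rw [SubmonoidClass.coe_pow] at h2
      rw [show w = (g : G) ^ i.val from h2]
      exact npow_mem_zpowers _ _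
    · have h1 : (⟨w, hw⟩ : P) * ⟨w, hw⟩ = g ^ h := e.injective (by
        rw [map_mul, hi, hpow, QuaternionGroup.xa_mul_xa, add_sub_cancel_right])
      have h2 : (⟨w, hw⟩ : P) * g = g⁻¹ * ⟨w, hw⟩ := e.injective (by
        rw [map_mul, map_mul, map_inv, hg, e.apply_symm_apply, hi]
        refine eq_inv_mul_iff_mul_eq.2 ?_
        rw [QuaternionGroup.xa_mul_a, QuaternionGroup.a_mul_xa, add_sub_cancel_right])
      refine ⟨by simpa using congrArg Subtype.val h1, ?_⟩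
      rw [mul_inv_eq_iff_eq_mul]
      simpa using congrArg Subtype.val h2

namespace QRot

variable {P : Subgroup G} {r : G} {h : ℕ} (hQ : QRot P r h)
include hQ

theorem h_pos : 0 < h := Nat.lt_of_lt_of_le two_pos hQ.two_le

theorem h_even : Even h := by
  obtain ⟨k, hk⟩ := hQ.two_pow
  rcases k with _ | k
  · have := hQ.two_le; omega
  · exact ⟨2 ^ k, by rw [hk, pow_succ]; ring⟩

theorem zpowers_le : zpowers r ≤ P := Subgroup.zpowers_le.2 hQ.mem

theorem pow_eq_one_iff (l : ℕ) : r ^ l = 1 ↔ 2 * h ∣ l := by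
  rw [← orderOf_dvd_iff_pow_eq_one, hQ.orderOf_eq]

theorem pow_inj {l m : ℕ} (hl : l < 2 * h) (hm : m < 2 * h) (e : r ^ l = r ^ m) : l = m :=
  pow_injOn_Iio_orderOf (show l < orderOf r by rw [hQ.orderOf_eq]; exact hl)
    (show m < orderOf r by rw [hQ.orderOf_eq]; exact hm) e

theorem pow_sub {l : ℕ} (hl : l ≤ 2 * h) : r ^ (2 * h - l) = (r ^ l)⁻¹ :=
  (inv_eq_of_mul_eq_one_left (by rw [← pow_add, Nat.sub_add_cancel hl, hQ.pow_eq_one_iff])).symm

theorem pow_ne_one {l : ℕ} (h0 : 0 < l) (hl : l < 2 * h) : r ^ l ≠ 1 := fun e => by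
  have := Nat.le_of_dvd h0 ((hQ.pow_eq_one_iff l).1 e)
  omega

theorem exists_two_pow (l : ℕ) : ∃ k : ℕ, orderOf (r ^ l) = 2 ^ k := by
  obtain ⟨k, hk⟩ := hQ.two_pow
  obtain ⟨i, -, hi⟩ := (Nat.dvd_prime_pow Nat.prime_two).1
    (show orderOf (r ^ l) ∣ 2 ^ (k + 1) by
      rw [pow_succ, mul_comm, ← hk, ← hQ.orderOf_eq]
      exact orderOf_pow_dvd l)
  exact ⟨i, hi⟩

theorem isTwoGroup : IsPGroup 2 P := by
  obtain ⟨k, hk⟩ := hQ.two_pow
  refine IsPGroup.of_card (n := k + 2) ?_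
  rw [hQ.card_eq, hk, pow_add]
  ring

theorem z_mem : r ^ h ∈ P := P.pow_mem hQ.mem h

theorem z_sq : r ^ h * r ^ h = 1 := by rw [← pow_add, ← two_mul, hQ.pow_eq_one_iff]

theorem z_inv : (r ^ h)⁻¹ = r ^ h := inv_eq_of_mul_eq_one_left hQ.z_sq

theorem z_ne_one : r ^ h ≠ 1 := hQ.pow_ne_one hQ.h_pos (by have := hQ.h_pos; omega)

theorem orderOf_z : orderOf (r ^ h) = 2 :=
  orderOf_eq_prime (by rw [pow_two]; exact hQ.z_sq) hQ.z_ne_one

theorem natCard_rot : Nat.card (zpowers r) = 2 * h := by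
  rw [Nat.card_zpowers, hQ.orderOf_eq]

theorem exists_outside : ∃ w ∈ P, w ∉ zpowers r := by
  by_contra hno
  push Not at hno
  have h1 : P = zpowers r := le_antisymm hno hQ.zpowers_le
  have h2 := hQ.card_eq
  rw [h1, Nat.card_zpowers, hQ.orderOf_eq] at h2
  have := hQ.h_pos
  omega

theorem conj_pow_eq {w : G} (hw : w ∈ P) (hnot : w ∉ zpowers r) (l : ℕ) :
    w * r ^ l * w⁻¹ = (r ^ l)⁻¹ := by
  rw [← _root_.conj_pow, (hQ.outside w hw hnot).2, inv_pow]

theorem commute_z {w : G} (hw : w ∈ P) : Commute w (r ^ h) := by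
  by_cases hm : w ∈ zpowers r
  · obtain ⟨i, rfl⟩ := hm
    exact ((Commute.refl r).zpow_left i).pow_right h
  · exact mul_inv_eq_iff_eq_mul.1 ((hQ.conj_pow_eq hw hm h).trans hQ.z_inv)

theorem le_cen : P ≤ Subgroup.centralizer ({r ^ h} : Set G) := fun _ hw =>
  Subgroup.mem_centralizer_singleton_iff.2 (hQ.commute_z hw).eq

theorem mem_of_commute {w : G} (hw : w ∈ P) {l : ℕ} (hl : ¬ h ∣ l) (hc : Commute w (r ^ l)) :
    w ∈ zpowers r := by
  by_contra hnot
  have h1 := hQ.conj_pow_eq hw hnot l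
  rw [hc.eq, mul_inv_cancel_right, eq_inv_iff_mul_eq_one, ← pow_add, hQ.pow_eq_one_iff] at h1
  exact hl ((Nat.mul_dvd_mul_iff_left two_pos).1 (by rwa [← two_mul] at h1))

theorem zpowers_odd {l : ℕ} (hl : Odd l) : zpowers (r ^ l) = zpowers r := by
  obtain ⟨k, hk⟩ := hQ.two_pow
  have hc : (orderOf r).Coprime l := by
    rw [hQ.orderOf_eq, hk, ← pow_succ']
    exact Nat.Coprime.pow_left _ (Nat.coprime_two_left.2 hl)
  have : Finite (zpowers r) := Nat.finite_of_card_ne_zero (by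
    rw [hQ.natCard_rot]; have := hQ.h_pos; omega)
  refine Subgroup.eq_of_le_of_card_ge (Subgroup.zpowers_le.2 (npow_mem_zpowers r l)) ?_
  rw [Nat.card_zpowers, Nat.card_zpowers, hc.orderOf_pow]

/-- An element of order at least four of maximal order lies among the rotations. -/
theorem mem_of_orderOf {y : G} (hy : y ∈ P) (ho : orderOf y = 2 * h) (h3 : 2 < h) :
    y ∈ zpowers r := by
  by_contra hn
  have h2 := (hQ.outside y hy hn).1
  have h4 : orderOf y ∣ 2 * 2 := by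
    refine orderOf_dvd_of_pow_eq_one ?_
    rw [pow_mul, pow_two y, h2, pow_two, hQ.z_sq]
  rw [ho] at h4
  have := Nat.le_of_dvd (by norm_num) h4
  omega

theorem relIndex_eq : (zpowers r).relIndex P = 2 := by
  have h1 := (zpowers r).subgroupOf P |>.index_mul_card
  rw [Nat.card_congr (subgroupOfEquivOfLe hQ.zpowers_le).toEquiv, hQ.natCard_rot,
    hQ.card_eq] at h1
  have := hQ.h_pos
  unfold Subgroup.relIndex
  nlinarith

theorem mul_inv_mem {v w : G} (hv : v ∈ P) (hw : w ∈ P) (hv' : v ∉ zpowers r)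
    (hw' : w ∉ zpowers r) : v * w⁻¹ ∈ zpowers r := by
  have h1 := (Subgroup.mul_mem_iff_of_index_two
    (H := (zpowers r).subgroupOf P) hQ.relIndex_eq (a := ⟨v, hv⟩) (b := ⟨w⁻¹, P.inv_mem hw⟩))
  simp only [mem_subgroupOf, Subgroup.coe_mul, inv_mem_iff] at h1
  exact h1.2 (iff_of_false hv' hw')

/-- The same data inside a subgroup containing `P`. -/
theorem subgroupOf {H : Subgroup G} (hle : P ≤ H) :
    QRot (P.subgroupOf H) (⟨r, hle hQ.mem⟩ : H) h := by
  have hmem : ∀ w : H, w ∈ zpowers (⟨r, hle hQ.mem⟩ : H) ↔ (w : G) ∈ zpowers r := fun w => by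
    simp only [mem_zpowers_iff, Subtype.ext_iff]
    push_cast
    rfl
  refine ⟨hQ.two_le, hQ.two_pow, hQ.mem, ?_, ?_, fun w hw hnot => ?_⟩
  · rw [Subgroup.orderOf_mk, hQ.orderOf_eq]
  · rw [Nat.card_congr (subgroupOfEquivOfLe hle).toEquiv, hQ.card_eq]
  · obtain ⟨h1, h2⟩ := hQ.outside w hw (fun e => hnot ((hmem w).2 e))
    exact ⟨Subtype.ext (by push_cast; exact h1), Subtype.ext h2⟩

end QRot

section Quotient

variable {C : Type u} [Group C] [Finite C] {P : Subgroup C} {r : C} {h : ℕ}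
  (hQ : QRot P r h) (Z : Subgroup C) [Z.Normal] (hZ : Z = zpowers (r ^ h))
include hQ hZ

theorem mk_eq_one_iff {x : C} : (x : C ⧸ Z) = 1 ↔ x = 1 ∨ x = r ^ h := by
  rw [QuotientGroup.eq_one_iff, hZ]
  constructor
  · intro hx
    obtain ⟨i, hi⟩ := mem_zpowers_iff.1 hx
    rw [← zpow_mod_orderOf, hQ.orderOf_z] at hi
    rcases Int.emod_two_eq i with e | e <;> simp [e] at hi
    · exact Or.inl hi.symm
    · exact Or.inr hi.symm
  · rintro (rfl | rfl)
    · exact one_mem _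
    · exact mem_zpowers _

theorem natCard_map : Nat.card (P.map (QuotientGroup.mk' Z)) = 2 * h := by
  have hle : Z ≤ P := hZ ▸ Subgroup.zpowers_le.2 hQ.z_mem
  have h1 : Nat.card ((QuotientGroup.mk' Z).comp P.subtype).ker = 2 := by
    rw [← MonoidHom.comap_ker, QuotientGroup.ker_mk', ← Subgroup.subgroupOf, Nat.card_congr (subgroupOfEquivOfLe hle).toEquiv, hZ,
      Nat.card_zpowers, hQ.orderOf_z]
  have h2 := ((QuotientGroup.mk' Z).comp P.subtype).ker.index_mul_card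
  rw [Subgroup.index_ker, MonoidHom.range_comp, Subgroup.range_subtype, h1, hQ.card_eq] at h2
  omega

theorem orderOf_mk : orderOf ((r : C ⧸ Z)) = h := by
  refine (orderOf_eq_iff hQ.h_pos).2 ⟨?_, fun m hm hm0 e => ?_⟩
  · rw [← QuotientGroup.mk_pow, mk_eq_one_iff hQ Z hZ]
    exact Or.inr rfl
  · rw [← QuotientGroup.mk_pow, mk_eq_one_iff hQ Z hZ] at e
    have := hQ.h_pos
    rcases e with e | e
    · exact hQ.pow_ne_one hm0 (by omega) e
    · exact absurd (hQ.pow_inj (by omega) (by omega) e) hm.ne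

/-- **The quotient is dihedral.** -/
theorem rot_map (h4 : 4 ≤ h) :
    DihedralDefect.Rot (P.map (QuotientGroup.mk' Z)) (r : C ⧸ Z) (h / 2) := by
  have hhalf : 2 * (h / 2) = h := Nat.mul_div_cancel' hQ.h_even.two_dvd
  have hout : ∀ v : C, v ∈ P → (v : C ⧸ Z) ∉ zpowers (r : C ⧸ Z) → v ∉ zpowers r := by
    intro v hv hnot hm
    obtain ⟨i, rfl⟩ := mem_zpowers_iff.1 hm
    exact hnot (by rw [QuotientGroup.mk_zpow]; exact zpow_mem (mem_zpowers _) i)
  refine ⟨by omega, ?_, ⟨r, hQ.mem, rfl⟩, ?_, ?_, ?_, ?_⟩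
  · obtain ⟨k, hk⟩ := hQ.two_pow
    rcases k with _ | k
    · simp at hk; omega
    · exact ⟨k, by rw [hk, pow_succ]; omega⟩
  · rw [orderOf_mk hQ Z hZ, hhalf]
  · rw [natCard_map hQ Z hZ]; omega
  · rintro _ ⟨v, hv, rfl⟩ hnot
    obtain ⟨h1, h2⟩ := hQ.outside v hv (hout v hv hnot)
    refine ⟨?_, congrArg (QuotientGroup.mk' Z) h2⟩
    show ((v * v : C) : C ⧸ Z) = 1
    rw [mk_eq_one_iff hQ Z hZ, h1]
    exact Or.inr rfl
  · rintro _ ⟨v, hv, rfl⟩ _ ⟨w, hw, rfl⟩ hv' hw'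
    obtain ⟨i, hi⟩ := mem_zpowers_iff.1 (hQ.mul_inv_mem hv hw (hout v hv hv') (hout w hw hw'))
    refine mem_zpowers_iff.2 ⟨i, ?_⟩
    show (r : C ⧸ Z) ^ i = ((v * w⁻¹ : C) : C ⧸ Z)
    rw [← hi, QuotientGroup.mk_zpow]

/-- For the quaternion group of order eight the quotient is a four-group. -/
theorem klein_map (h2 : h = 2) : IsKleinFour (P.map (QuotientGroup.mk' Z)) := by
  have hcard : Nat.card (P.map (QuotientGroup.mk' Z)) = 4 := by rw [natCard_map hQ Z hZ, h2]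
  refine { card_four := hcard, exponent_two := ?_ }
  have : Nontrivial (P.map (QuotientGroup.mk' Z)) :=
    Finite.one_lt_card_iff_nontrivial.1 (by rw [hcard]; norm_num)
  refine (Monoid.exponent_eq_prime_iff (G := P.map (QuotientGroup.mk' Z)) Nat.prime_two).2 ?_
  rintro ⟨_, v, hv, rfl⟩ hne
  refine orderOf_eq_prime (Subtype.ext ?_) hne
  push_cast
  show ((v : C ⧸ Z)) ^ 2 = 1
  rw [pow_two, ← QuotientGroup.mk_mul, mk_eq_one_iff hQ Z hZ]
  by_cases hm : v ∈ zpowers r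
  · obtain ⟨i, rfl⟩ := mem_zpowers_iff.1 hm
    rcases Int.even_or_odd' i with ⟨j, rfl | rfl⟩
    · rcases Int.even_or_odd' j with ⟨d, rfl | rfl⟩
      · left
        rw [← zpow_add, ← orderOf_dvd_iff_zpow_eq_one, hQ.orderOf_eq, h2]
        exact ⟨2 * d, by push_cast; ring⟩
      · left
        rw [← zpow_add, ← orderOf_dvd_iff_zpow_eq_one, hQ.orderOf_eq, h2]
        exact ⟨2 * d + 1, by push_cast; ring⟩
    · right
      rw [← zpow_add, ← zpow_natCast r h, zpow_eq_zpow_iff_modEq, hQ.orderOf_eq, h2]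
      rw [Int.modEq_iff_dvd]
      exact ⟨-j, by push_cast; ring⟩
  · exact Or.inr (hQ.outside v hv hm).1

end Quotient

end CfsgLib.BlockA.QuatDefect
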