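import Cfsg.Agent.Lib.BlockA.DihedralRot
import Mathlib.GroupTheory.SpecificGroups.Cyclic
import Cfsg.Prelude.Def_CaseTheorems

/-!
Subgroups with the multiplication of a semidihedral group, given by a rotation; the quotient by the
central involution is dihedral.
-/

set_option autoImplicit false
set_option linter.unusedSectionVars false

namespace CfsgLib.BlockA.SemiDihDefect

open Subgroup

universe u

variable {G : Type u} [Group G]

/-- `P` is semidihedral of order `4 * h` with rotation `r`. -/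
structure SRot (P : Subgroup G) (r : G) (h : ℕ) : Prop where
  four_le : 4 ≤ h
  two_pow : ∃ k : ℕ, h = 2 ^ k
  mem : r ∈ P
  orderOf_eq : orderOf r = 2 * h
  card_eq : Nat.card P = 4 * h
  outside : ∀ w ∈ P, w ∉ zpowers r → w * r * w⁻¹ = r ^ (h - 1)

/-- The exponent of the image of `r ^ l` under a reflection, below `2 * h`. -/
def tw (h l : ℕ) : ℕ := if Even l then 2 * h - l else if l < h then h - l else 3 * h - l

theorem tw_spec (h l : ℕ) (hl : l < 2 * h) (hh : Even h) :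
    (Even l → tw h l + l = 2 * h) ∧
      (Odd l → (l < h ∧ tw h l + l = h) ∨ (h < l ∧ tw h l + l = 3 * h)) := by
  unfold tw
  refine ⟨fun e => by rw [if_pos e]; omega, fun o => ?_⟩
  rw [if_neg (Nat.not_even_iff_odd.2 o)]
  have : l ≠ h := fun e => Nat.not_even_iff_odd.2 o (e ▸ hh)
  split_ifs with hlt
  · exact Or.inl ⟨hlt, by omega⟩
  · exact Or.inr ⟨by omega, by omega⟩

theorem exists_srot {P : Subgroup G} {n : ℕ} (hn : 4 ≤ n) (hcard : Nat.card P = 2 ^ n)
    (hsd : Cfsg.IsQuasiDihedral P) : ∃ r : G, SRot P r (2 ^ (n - 2)) := by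
  obtain ⟨m, hm, hP, x, y, hx, hy, hxy⟩ := hsd
  obtain rfl : n = m + 1 := Nat.pow_right_injective le_rfl (hcard.symm.trans hP)
  set h := 2 ^ (m - 1) with hh
  have h4 : 4 ≤ h := le_trans (by norm_num) (Nat.pow_le_pow_right (show 2 > 0 by norm_num)
    (show 2 ≤ m - 1 by omega))
  have hord : orderOf x = 2 * h := by
    rw [hx, hh, ← pow_succ']
    congr 1
    omega
  have : Finite P := Nat.finite_of_card_ne_zero (by rw [hP]; positivity)
  have hyx : y ∉ zpowers x := by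
    intro hmem
    have hc : Commute y x := by
      obtain ⟨i, rfl⟩ := hmem
      exact (Commute.refl x).zpow_left i
    rw [hc.eq, mul_inv_cancel_right] at hxy
    have h1 : x ^ (h - 1 - 1) = 1 := by
      refine mul_right_cancel (b := x) ?_
      rw [← pow_succ, one_mul, show h - 1 - 1 + 1 = h - 1 by omega]
      exact hxy.symm
    have := Nat.le_of_dvd (by omega) (orderOf_dvd_iff_pow_eq_one.2 h1)
    omega
  have hidx : (zpowers x).index = 2 := by
    have h1 := (zpowers x).index_mul_card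
    rw [Nat.card_zpowers, hord, hP, hh, ← pow_succ', show m - 1 + 1 = m by omega, pow_succ'] at h1
    exact Nat.eq_of_mul_eq_mul_right (pow_pos two_pos m) h1
  refine ⟨(x : G), ⟨?_, ⟨_, rfl⟩, x.2, ?_, ?_, fun w hw hnot => ?_⟩⟩
  · rwa [show m + 1 - 2 = m - 1 by omega]
  · rw [orderOf_coe, hord, show m + 1 - 2 = m - 1 by omega]
  · rw [show m + 1 - 2 = m - 1 by omega, hP, show m + 1 = m - 1 + 2 by omega, pow_add]
    ring
  · rw [show m + 1 - 2 = m - 1 by omega]
    have hwx : (⟨w, hw⟩ : P) ∉ zpowers x := fun e => hnot (by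
      obtain ⟨i, hi⟩ := e
      exact ⟨i, by simpa using congrArg Subtype.val hi⟩)
    obtain ⟨i, hi⟩ := mem_zpowers_iff.1 ((Subgroup.mul_mem_iff_of_index_two hidx).2
      (iff_of_false (fun e => hyx (by simpa using inv_mem e)) hwx) :
        y⁻¹ * (⟨w, hw⟩ : P) ∈ zpowers x)
    have he : (⟨w, hw⟩ : P) * x * (⟨w, hw⟩ : P)⁻¹ = x ^ (h - 1) := by
      rw [show (⟨w, hw⟩ : P) = y * x ^ i by rw [hi, mul_inv_cancel_left]]
      calc y * x ^ i * x * (y * x ^ i)⁻¹ = y * x * y⁻¹ := by group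
        _ = _ := hxy
    simpa using congrArg Subtype.val he

namespace SRot

variable {P : Subgroup G} {r : G} {h : ℕ} (hS : SRot P r h)
include hS

theorem two_le : 2 ≤ h := le_trans (by norm_num) hS.four_le

theorem h_pos : 0 < h := Nat.lt_of_lt_of_le two_pos hS.two_le

theorem h_even : Even h := by
  obtain ⟨k, hk⟩ := hS.two_pow
  rcases k with _ | k
  · have := hS.two_le; omega
  · exact ⟨2 ^ k, by rw [hk, pow_succ]; ring⟩

theorem zpowers_le : zpowers r ≤ P := Subgroup.zpowers_le.2 hS.mem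

theorem pow_eq_one_iff (l : ℕ) : r ^ l = 1 ↔ 2 * h ∣ l := by
  rw [← orderOf_dvd_iff_pow_eq_one, hS.orderOf_eq]

theorem pow_inj {l m : ℕ} (hl : l < 2 * h) (hm : m < 2 * h) (e : r ^ l = r ^ m) : l = m :=
  pow_injOn_Iio_orderOf (show l < orderOf r by rw [hS.orderOf_eq]; exact hl)
    (show m < orderOf r by rw [hS.orderOf_eq]; exact hm) e

theorem pow_sub {l : ℕ} (hl : l ≤ 2 * h) : r ^ (2 * h - l) = (r ^ l)⁻¹ :=
  (inv_eq_of_mul_eq_one_left (by rw [← pow_add, Nat.sub_add_cancel hl, hS.pow_eq_one_iff])).symm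

theorem pow_ne_one {l : ℕ} (h0 : 0 < l) (hl : l < 2 * h) : r ^ l ≠ 1 := fun e => by
  have := Nat.le_of_dvd h0 ((hS.pow_eq_one_iff l).1 e)
  omega

theorem exists_two_pow (l : ℕ) : ∃ k : ℕ, orderOf (r ^ l) = 2 ^ k := by
  obtain ⟨k, hk⟩ := hS.two_pow
  obtain ⟨i, -, hi⟩ := (Nat.dvd_prime_pow Nat.prime_two).1
    (show orderOf (r ^ l) ∣ 2 ^ (k + 1) by
      rw [pow_succ, mul_comm, ← hk, ← hS.orderOf_eq]
      exact orderOf_pow_dvd l)
  exact ⟨i, hi⟩

theorem isTwoGroup : IsPGroup 2 P := by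
  obtain ⟨k, hk⟩ := hS.two_pow
  refine IsPGroup.of_card (n := k + 2) ?_
  rw [hS.card_eq, hk, pow_add]
  ring

theorem z_mem : r ^ h ∈ P := P.pow_mem hS.mem h

theorem z_sq : r ^ h * r ^ h = 1 := by rw [← pow_add, ← two_mul, hS.pow_eq_one_iff]

theorem z_inv : (r ^ h)⁻¹ = r ^ h := inv_eq_of_mul_eq_one_left hS.z_sq

theorem z_ne_one : r ^ h ≠ 1 := hS.pow_ne_one hS.h_pos (by have := hS.h_pos; omega)

theorem orderOf_z : orderOf (r ^ h) = 2 :=
  orderOf_eq_prime (by rw [pow_two]; exact hS.z_sq) hS.z_ne_one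

theorem natCard_rot : Nat.card (zpowers r) = 2 * h := by
  rw [Nat.card_zpowers, hS.orderOf_eq]

theorem exists_outside : ∃ w ∈ P, w ∉ zpowers r := by
  by_contra hno
  push Not at hno
  have h1 : P = zpowers r := le_antisymm hno hS.zpowers_le
  have h2 := hS.card_eq
  rw [h1, Nat.card_zpowers, hS.orderOf_eq] at h2
  have := hS.h_pos
  omega

theorem conj_pow_eq {w : G} (hw : w ∈ P) (hnot : w ∉ zpowers r) (l : ℕ) :
    w * r ^ l * w⁻¹ = r ^ (l * (h - 1)) := by
  rw [← _root_.conj_pow, hS.outside w hw hnot, ← pow_mul, mul_comm]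

theorem pow_tw {l : ℕ} (hl : l < 2 * h) : r ^ (l * (h - 1)) = r ^ tw h l := by
  obtain ⟨h1, h2⟩ := tw_spec h l hl hS.h_even
  refine mul_right_cancel (b := r ^ l) ?_
  rw [← pow_add, ← pow_add, show l * (h - 1) + l = l * h by
    obtain ⟨q, rfl⟩ : ∃ q, h = q + 1 := ⟨h - 1, by have := hS.h_pos; omega⟩
    simp
    ring]
  rcases Nat.even_or_odd l with e | o
  · rw [h1 e, (hS.pow_eq_one_iff _).2 (Nat.mul_dvd_mul_right e.two_dvd h),
      (hS.pow_eq_one_iff _).2 dvd_rfl]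
  · have e1 : r ^ (l * h) = r ^ h := by
      obtain ⟨j, rfl⟩ := o
      rw [show (2 * j + 1) * h = 2 * h * j + h by ring, pow_add, pow_mul,
        (hS.pow_eq_one_iff _).2 dvd_rfl, one_pow, one_mul]
    rw [e1]
    rcases h2 o with ⟨-, e⟩ | ⟨-, e⟩ <;> rw [e]
    rw [show 3 * h = 2 * h + h by ring, pow_add, (hS.pow_eq_one_iff _).2 dvd_rfl, one_mul]

theorem conj_pow_tw {w : G} (hw : w ∈ P) (hnot : w ∉ zpowers r) {l : ℕ} (hl : l < 2 * h) :
    w * r ^ l * w⁻¹ = r ^ tw h l := (hS.conj_pow_eq hw hnot l).trans (hS.pow_tw hl)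

theorem commute_z {w : G} (hw : w ∈ P) : Commute w (r ^ h) := by
  by_cases hm : w ∈ zpowers r
  · obtain ⟨i, rfl⟩ := hm
    exact ((Commute.refl r).zpow_left i).pow_right h
  · refine mul_inv_eq_iff_eq_mul.1 ((hS.conj_pow_tw hw hm (by have := hS.h_pos; omega)).trans ?_)
    rw [tw, if_pos hS.h_even]
    congr 1
    omega

theorem le_cen : P ≤ Subgroup.centralizer ({r ^ h} : Set G) := fun _ hw =>
  Subgroup.mem_centralizer_singleton_iff.2 (hS.commute_z hw).eq

/-- The factor `h - 2` is twice an odd number. -/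
theorem exists_odd_half : ∃ q : ℕ, Odd q ∧ h = 2 * q + 2 := by
  obtain ⟨k, hk⟩ := hS.two_pow
  have := hS.four_le
  rcases k with _ | _ | k
  · simp at hk; omega
  · simp at hk; omega
  · refine ⟨2 * 2 ^ k - 1, ⟨2 ^ k - 1, by have := Nat.one_le_two_pow (n := k); omega⟩, ?_⟩
    have := Nat.one_le_two_pow (n := k)
    rw [hk, pow_succ, pow_succ]
    omega

theorem mem_of_commute {w : G} (hw : w ∈ P) {l : ℕ} (hl : ¬ h ∣ l) (hc : Commute w (r ^ l)) :
    w ∈ zpowers r := by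
  by_contra hnot
  have h1 := hS.conj_pow_eq hw hnot l
  rw [hc.eq, mul_inv_cancel_right] at h1
  obtain ⟨q, hq, hhq⟩ := hS.exists_odd_half
  have h2 : r ^ (l * (2 * q)) = 1 := by
    refine mul_right_cancel (b := r ^ l) ?_
    rw [one_mul, ← pow_add, show l * (2 * q) + l = l * (2 * q + 1) by ring,
      show 2 * q + 1 = h - 1 by omega]
    exact h1.symm
  rw [hS.pow_eq_one_iff, show l * (2 * q) = 2 * (l * q) by ring,
    Nat.mul_dvd_mul_iff_left two_pos] at h2
  obtain ⟨k, hk⟩ := hS.two_pow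
  exact hl ((hk ▸ Nat.Coprime.pow_left k (Nat.coprime_two_left.2 hq)).dvd_of_dvd_mul_right h2)

theorem zpowers_odd {l : ℕ} (hl : Odd l) : zpowers (r ^ l) = zpowers r := by
  obtain ⟨k, hk⟩ := hS.two_pow
  have hc : (orderOf r).Coprime l := by
    rw [hS.orderOf_eq, hk, ← pow_succ']
    exact Nat.Coprime.pow_left _ (Nat.coprime_two_left.2 hl)
  have : Finite (zpowers r) := Nat.finite_of_card_ne_zero (by
    rw [hS.natCard_rot]; have := hS.h_pos; omega)
  refine Subgroup.eq_of_le_of_card_ge (Subgroup.zpowers_le.2 (npow_mem_zpowers r l)) ?_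
  rw [Nat.card_zpowers, Nat.card_zpowers, hc.orderOf_pow]

theorem relIndex_eq : (zpowers r).relIndex P = 2 := by
  have h1 := (zpowers r).subgroupOf P |>.index_mul_card
  rw [Nat.card_congr (subgroupOfEquivOfLe hS.zpowers_le).toEquiv, hS.natCard_rot,
    hS.card_eq] at h1
  have := hS.h_pos
  unfold Subgroup.relIndex
  nlinarith

theorem mul_inv_mem {v w : G} (hv : v ∈ P) (hw : w ∈ P) (hv' : v ∉ zpowers r)
    (hw' : w ∉ zpowers r) : v * w⁻¹ ∈ zpowers r := by
  have h1 := (Subgroup.mul_mem_iff_of_index_two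
    (H := (zpowers r).subgroupOf P) hS.relIndex_eq (a := ⟨v, hv⟩) (b := ⟨w⁻¹, P.inv_mem hw⟩))
  simp only [mem_subgroupOf, Subgroup.coe_mul, inv_mem_iff] at h1
  exact h1.2 (iff_of_false hv' hw')

theorem mul_self_cases {w : G} (hw : w ∈ P) (hnot : w ∉ zpowers r) :
    w * w = 1 ∨ w * w = r ^ h := by
  classical
  have : Finite (zpowers r) := Nat.finite_of_card_ne_zero (by
    rw [hS.natCard_rot]; have := hS.h_pos; omega)
  have hsq : w * w ∈ zpowers r := by
    have := hS.mul_inv_mem hw (inv_mem hw) hnot (fun e => hnot (inv_mem_iff.1 e))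
    rwa [inv_inv] at this
  obtain ⟨i, hi, hwi⟩ : ∃ i : ℕ, i < 2 * h ∧ r ^ i = w * w := by
    have hfo : IsOfFinOrder r := orderOf_pos_iff.1 (by
      rw [hS.orderOf_eq]; have := hS.h_pos; omega)
    obtain ⟨i, hi⟩ := (hfo.mem_zpowers_iff_mem_range_orderOf (y := w * w)).1 hsq
      |> Finset.mem_image.1
    exact ⟨i, by rw [← hS.orderOf_eq]; exact Finset.mem_range.1 hi.1, hi.2⟩
  have hd : h ∣ i := by
    by_contra hd
    exact hnot (hS.mem_of_commute hw hd (hwi ▸ (Commute.refl w).mul_right (Commute.refl w)))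
  obtain ⟨c, rfl⟩ := hd
  rcases c with _ | _ | c
  · left; rw [← hwi, mul_zero, pow_zero]
  · right; rw [← hwi, zero_add, mul_one]
  · exfalso
    have : 2 * h ≤ h * (c + 1 + 1) := by rw [mul_comm 2 h]; exact Nat.mul_le_mul_left _ (by omega)
    omega

/-- An element of maximal order lies among the rotations. -/
theorem mem_of_orderOf {y : G} (hy : y ∈ P) (ho : orderOf y = 2 * h) : y ∈ zpowers r := by
  by_contra hn
  have h4 : orderOf y ∣ 2 * 2 := by
    refine orderOf_dvd_of_pow_eq_one ?_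
    rw [pow_mul, pow_two y]
    rcases hS.mul_self_cases hy hn with e | e <;> rw [e]
    · rw [one_pow]
    · rw [pow_two, hS.z_sq]
  rw [ho] at h4
  have := Nat.le_of_dvd (by norm_num) h4
  have := hS.four_le
  omega

theorem mem_zpowers_of_commute {y w : G} (hy : y ∈ P) (ho : orderOf y = 2 * h) (hw : w ∈ P)
    (hc : Commute w y) : w ∈ zpowers y := by
  have hyr := hS.mem_of_orderOf hy ho
  have : Finite (zpowers r) := Nat.finite_of_card_ne_zero (by
    rw [hS.natCard_rot]; have := hS.h_pos; omega)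
  have hgen : zpowers y = zpowers r := Subgroup.eq_of_le_of_card_ge (Subgroup.zpowers_le.2 hyr)
    (by rw [Nat.card_zpowers, Nat.card_zpowers, ho, hS.orderOf_eq])
  obtain ⟨i, hi⟩ := mem_zpowers_iff.1 (hgen.symm ▸ mem_zpowers r : r ∈ zpowers y)
  rw [hgen]
  refine hS.mem_of_commute hw (l := 1) (fun h1 => ?_) (by rw [pow_one, ← hi]; exact hc.zpow_right i)
  have := Nat.le_of_dvd Nat.one_pos h1
  have := hS.four_le
  omega

/-- The involutions of `P` outside the rotations are conjugate under the rotations. -/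
theorem conj_involution {v w : G} (hv : v ∈ P) (hw : w ∈ P) (hv' : v ∉ zpowers r)
    (hw' : w ∉ zpowers r) (hv2 : v * v = 1) (hw2 : w * w = 1) :
    ∃ a ∈ zpowers r, a * w * a⁻¹ = v := by
  obtain ⟨i, hi⟩ := mem_zpowers_iff.1 (hS.mul_inv_mem hv hw hv' hw')
  have hve : v = r ^ i * w := by rw [hi, inv_mul_cancel_right]
  have hwr : ∀ j : ℤ, w * r ^ j = r ^ (j * ((h : ℤ) - 1)) * w := by
    intro j
    rw [← mul_inv_eq_iff_eq_mul, ← conj_zpow, hS.outside w hw hw', ← zpow_natCast, ← zpow_mul,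
      Nat.cast_sub (by have := hS.h_pos; omega), Nat.cast_one, mul_comm]
  have hdvd : ∀ a b : ℤ, (2 * h : ℤ) ∣ b - a → r ^ a = r ^ b := fun a b hab => by
    rw [zpow_eq_zpow_iff_modEq, hS.orderOf_eq, Int.modEq_iff_dvd]
    exact_mod_cast hab
  have h1 : r ^ (i * h) = 1 := by
    have e : v * v = r ^ i * (w * r ^ i) * w := by rw [hve]; group
    rw [hv2, hwr, mul_assoc, mul_assoc (r ^ (i * ((h : ℤ) - 1))) w w, hw2, mul_one,
      ← zpow_add] at e
    rw [e]
    congr 1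
    ring
  rw [← orderOf_dvd_iff_zpow_eq_one, hS.orderOf_eq, Nat.cast_mul, Nat.cast_ofNat] at h1
  obtain ⟨k, rfl⟩ : (2 : ℤ) ∣ i := by
    refine Int.dvd_of_mul_dvd_mul_right (show (h : ℤ) ≠ 0 by have := hS.h_pos; omega) ?_
    exact_mod_cast h1
  obtain ⟨q, ⟨t, rfl⟩, hq⟩ := hS.exists_odd_half
  have hq' : (h : ℤ) = 4 * t + 4 := by omega
  refine ⟨r ^ (k * (-(2 * (t : ℤ) + 1))), zpow_mem (mem_zpowers r) _, ?_⟩
  rw [hve, mul_assoc, ← zpow_neg, hwr, ← mul_assoc, ← zpow_add]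
  congr 1
  apply hdvd
  refine ⟨-(k * (t : ℤ)), ?_⟩
  rw [hq']
  ring

/-- The same data inside a subgroup containing `P`. -/
theorem subgroupOf {H : Subgroup G} (hle : P ≤ H) :
    SRot (P.subgroupOf H) (⟨r, hle hS.mem⟩ : H) h := by
  have hmem : ∀ w : H, w ∈ zpowers (⟨r, hle hS.mem⟩ : H) ↔ (w : G) ∈ zpowers r := fun w => by
    simp only [mem_zpowers_iff, Subtype.ext_iff]
    push_cast
    rfl
  refine ⟨hS.four_le, hS.two_pow, hS.mem, ?_, ?_, fun w hw hnot => ?_⟩
  · rw [Subgroup.orderOf_mk, hS.orderOf_eq]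
  · rw [Nat.card_congr (subgroupOfEquivOfLe hle).toEquiv, hS.card_eq]
  · exact Subtype.ext (by push_cast; exact hS.outside w hw (fun e => hnot ((hmem w).2 e)))

end SRot

section Quotient

variable {C : Type u} [Group C] [Finite C] {P : Subgroup C} {r : C} {h : ℕ}
  (hS : SRot P r h) (Z : Subgroup C) [Z.Normal] (hZ : Z = zpowers (r ^ h))
include hS hZ

theorem mk_eq_one_iff {x : C} : (x : C ⧸ Z) = 1 ↔ x = 1 ∨ x = r ^ h := by
  rw [QuotientGroup.eq_one_iff, hZ]
  constructor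
  · intro hx
    obtain ⟨i, hi⟩ := mem_zpowers_iff.1 hx
    rw [← zpow_mod_orderOf, hS.orderOf_z] at hi
    rcases Int.emod_two_eq i with e | e <;> simp [e] at hi
    · exact Or.inl hi.symm
    · exact Or.inr hi.symm
  · rintro (rfl | rfl)
    · exact one_mem _
    · exact mem_zpowers _

theorem natCard_map : Nat.card (P.map (QuotientGroup.mk' Z)) = 2 * h := by
  have hle : Z ≤ P := hZ ▸ Subgroup.zpowers_le.2 hS.z_mem
  have h1 : Nat.card ((QuotientGroup.mk' Z).comp P.subtype).ker = 2 := by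
    rw [← MonoidHom.comap_ker, QuotientGroup.ker_mk', ← Subgroup.subgroupOf, Nat.card_congr (subgroupOfEquivOfLe hle).toEquiv, hZ,
      Nat.card_zpowers, hS.orderOf_z]
  have h2 := ((QuotientGroup.mk' Z).comp P.subtype).ker.index_mul_card
  rw [Subgroup.index_ker, MonoidHom.range_comp, Subgroup.range_subtype, h1, hS.card_eq] at h2
  omega

theorem orderOf_mk : orderOf ((r : C ⧸ Z)) = h := by
  refine (orderOf_eq_iff hS.h_pos).2 ⟨?_, fun m hm hm0 e => ?_⟩
  · rw [← QuotientGroup.mk_pow, mk_eq_one_iff hS Z hZ]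
    exact Or.inr rfl
  · rw [← QuotientGroup.mk_pow, mk_eq_one_iff hS Z hZ] at e
    have := hS.h_pos
    rcases e with e | e
    · exact hS.pow_ne_one hm0 (by omega) e
    · exact absurd (hS.pow_inj (by omega) (by omega) e) hm.ne

/-- **The quotient is dihedral.** -/
theorem rot_map   :
    DihedralDefect.Rot (P.map (QuotientGroup.mk' Z)) (r : C ⧸ Z) (h / 2) := by
  have hhalf : 2 * (h / 2) = h := Nat.mul_div_cancel' hS.h_even.two_dvd
  have hout : ∀ v : C, v ∈ P → (v : C ⧸ Z) ∉ zpowers (r : C ⧸ Z) → v ∉ zpowers r := by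
    intro v hv hnot hm
    obtain ⟨i, rfl⟩ := mem_zpowers_iff.1 hm
    exact hnot (by rw [QuotientGroup.mk_zpow]; exact zpow_mem (mem_zpowers _) i)
  have := hS.four_le
  refine ⟨by omega, ?_, ⟨r, hS.mem, rfl⟩, ?_, ?_, ?_, ?_⟩
  · obtain ⟨k, hk⟩ := hS.two_pow
    rcases k with _ | k
    · simp at hk; omega
    · exact ⟨k, by rw [hk, pow_succ]; omega⟩
  · rw [orderOf_mk hS Z hZ, hhalf]
  · rw [natCard_map hS Z hZ]; omega
  · rintro _ ⟨v, hv, rfl⟩ hnot
    have h2 := hS.outside v hv (hout v hv hnot)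
    refine ⟨?_, ?_⟩
    · show ((v * v : C) : C ⧸ Z) = 1
      rw [mk_eq_one_iff hS Z hZ]
      exact hS.mul_self_cases hv (hout v hv hnot)
    · refine (congrArg (QuotientGroup.mk' Z) h2).trans ?_
      show ((r ^ (h - 1) : C) : C ⧸ Z) = (r : C ⧸ Z)⁻¹
      rw [eq_inv_iff_mul_eq_one, ← QuotientGroup.mk_mul, ← pow_succ,
        Nat.sub_add_cancel hS.h_pos, mk_eq_one_iff hS Z hZ]
      exact Or.inr rfl
  · rintro _ ⟨v, hv, rfl⟩ _ ⟨w, hw, rfl⟩ hv' hw'
    obtain ⟨i, hi⟩ := mem_zpowers_iff.1 (hS.mul_inv_mem hv hw (hout v hv hv') (hout w hw hw'))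
    refine mem_zpowers_iff.2 ⟨i, ?_⟩
    show (r : C ⧸ Z) ^ i = ((v * w⁻¹ : C) : C ⧸ Z)
    rw [← hi, QuotientGroup.mk_zpow]

end Quotient

end CfsgLib.BlockA.SemiDihDefect
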