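import Cfsg.Agent.Lib.BlockA.KleinDefect

/-!
A lower bound for the number of irreducible characters of a block by its rank and by elements of a
defect group lying in distinct subsections.
-/

set_option autoImplicit false
set_option linter.unusedSectionVars false
set_option maxHeartbeats 1000000

namespace CfsgLib.BlockA.RankAddCard

open Cfsg CfsgLib.Block CfsgLib.BlockA CfsgLib.BlockB CfsgLib.BlockB.SubSum
  CfsgLib.BlockB.HeightBound AbelianSub

universe u

variable {G : Type u} [Group G] [Fintype G] {p : ℕ} {M : Ideal AlgInt} [M.IsPrime]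
  (hM : IsPModular p M) {B : Set (IrrCharacter G)} {P : Subgroup G}
  {eP : Set (IrrCharacter (Subgroup.centralizer (P : Set G)))}
  (hmax : IsMaximalBrauerPair p M B P eP)
include hM hmax

local notation "cen" Q => Subgroup.centralizer ((Q : Subgroup G) : Set G)

/-- Below the maximal pair there is a subsection at every element. -/
theorem exists_subsection {z : G} (hz : z ∈ P) :
    ∃ b : Set (IrrCharacter (Subgroup.centralizer ({z} : Set G))),
      IsInducedBlock M (Subgroup.centralizer ({z} : Set G)) b B ∧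
      subgroupBlockCoeff (Subgroup.centralizer ({z} : Set G)) b = beta hM hmax z := by
  classical
  obtain ⟨hf, hle⟩ := (exists_below hM hmax hz).choose_spec
  have hind := isInducedBlock_of_isBrauerPairOf hM
    ((isBrauerPairOf_iff_of_le hM hmax.1.1 hle hmax.1.2.1).1 hmax.1)
  have key : ∀ H : Subgroup G, H = (cen (Subgroup.zpowers z)) →
      ∃ b : Set (IrrCharacter H), IsInducedBlock M H b B ∧
        subgroupBlockCoeff H b =
          subgroupBlockCoeff (cen (Subgroup.zpowers z)) (exists_below hM hmax hz).choose := by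
    rintro _ rfl
    exact ⟨_, hind, rfl⟩
  obtain ⟨b, h1, h2⟩ := key _ (cen_zpowers z).symm
  exact ⟨b, h1, by rw [h2, AbelianSub.beta, dif_pos hz]⟩

/-- **Rank plus separated elements.** -/
theorem rank_add_card_le (S : Finset G) (hS : ∀ w ∈ S, w ∈ P ∧ w ≠ 1)
    (hsep : ∀ w ∈ S, ∀ w' ∈ S, ∀ a : G, a * w * a⁻¹ = w' →
      conjFun a (beta hM hmax w) = beta hM hmax w' → w = w') :
    blockRank p B + S.card ≤ Nat.card B := by
  classical
  have := Fact.mk hM.1
  have := Fintype.ofFinite (IrrCharacter G)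
  have hB : IsPBlock M B := hmax.1.2.1
  have hord : ∀ w ∈ S, ∃ k : ℕ, orderOf w = p ^ k := fun w hw => by
    obtain ⟨k, hk⟩ := IsPGroup.iff_orderOf.1 hmax.1.1.1 ⟨w, (hS w hw).1⟩
    exact ⟨k, by rw [← hk, Subgroup.orderOf_mk]⟩
  -- representatives
  obtain ⟨X, hX, hXrep⟩ : ∃ X : Finset G, (∀ u ∈ X, ∃ k : ℕ, orderOf u = p ^ k) ∧
      ∀ g : G, (∃ k : ℕ, orderOf g = p ^ k) → ∃! u, u ∈ X ∧ IsConj g u := by
    let r : ConjClasses G → G := fun c => (ConjClasses.exists_rep c).choose
    have hr : ∀ c, ConjClasses.mk (r c) = c := fun c => (ConjClasses.exists_rep c).choose_spec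
    refine ⟨((Finset.univ : Finset G).filter fun g => ∃ k : ℕ, orderOf g = p ^ k).image
      fun g => r (ConjClasses.mk g), fun u hu => ?_, fun g hg => ?_⟩
    · obtain ⟨g, hg, rfl⟩ := Finset.mem_image.1 hu
      obtain ⟨k, hk⟩ := (Finset.mem_filter.1 hg).2
      refine ⟨k, ?_⟩
      obtain ⟨c, hc⟩ := isConj_iff.1 (ConjClasses.mk_eq_mk_iff_isConj.1 (hr (ConjClasses.mk g)).symm)
      rw [← hc, CfsgLib.Invol.orderOf_conj_eq, hk]
    · refine ⟨r (ConjClasses.mk g), ⟨Finset.mem_image_of_mem _ (by simpa using hg),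
        ConjClasses.mk_eq_mk_iff_isConj.1 (hr _).symm⟩, ?_⟩
      rintro u ⟨hu, hgu⟩
      obtain ⟨g', -, rfl⟩ := Finset.mem_image.1 hu
      rw [ConjClasses.mk_eq_mk_iff_isConj.2 hgu, hr]
  obtain ⟨u₁, ⟨hu₁, hu₁c⟩, -⟩ := hXrep 1 ⟨0, by rw [orderOf_one, pow_zero]⟩
  obtain rfl : (1 : G) = u₁ := (isConj_one_right.1 hu₁c).symm
  have hcount := natCard_block_eq_sum_rank hM hB X hX hXrep
  set F : ∀ u : G, Finset (Set (IrrCharacter (Subgroup.centralizer ({u} : Set G)))) :=
    fun u => (allBlocks M (Subgroup.centralizer ({u} : Set G))).filter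
      (fun b => IsInducedBlock M (Subgroup.centralizer ({u} : Set G)) b B) with hFdef
  -- the term at the identity
  have hterm1 : blockRank p B ≤ ∑ b ∈ F 1, blockRank p b := by
    have := Fintype.ofFinite (Subgroup.centralizer ({1} : Set G))
    obtain ⟨b₁, hb₁, hr₁⟩ := exists_top_induced hM hB
      (H := Subgroup.centralizer ({1} : Set G))
      (eq_top_iff.2 fun g _ => Subgroup.mem_centralizer_singleton_iff.2 (by simp))
    rw [← hr₁]
    exact Finset.single_le_sum (f := fun b => blockRank p b) (fun _ _ => Nat.zero_le _)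
      (Finset.mem_filter.2 ⟨mem_allBlocks.2 hb₁.1, hb₁⟩)
  set R : Finset (Σ u : G, Set (IrrCharacter (Subgroup.centralizer ({u} : Set G)))) :=
    (X.erase 1).sigma F with hR
  -- the subsection of an element
  have hq : ∀ w ∈ S, ∃ q ∈ R, ∃ a : G, q.1 = a * w * a⁻¹ ∧
      subgroupBlockCoeff (Subgroup.centralizer ({q.1} : Set G)) q.2 =
        conjFun a (beta hM hmax w) := by
    intro w hw
    obtain ⟨u, ⟨hu, huc⟩, -⟩ := hXrep w (hord w hw)
    obtain ⟨a, rfl⟩ := isConj_iff.1 huc
    obtain ⟨b, hb, hβ⟩ := exists_subsection hM hmax (hS w hw).1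
    refine ⟨⟨a * w * a⁻¹, blockMap (cenConj a w) b⟩, Finset.mem_sigma.2
      ⟨Finset.mem_erase.2 ⟨fun h => (hS w hw).2 (conj_eq_one_iff.1 h), hu⟩, ?_⟩, a, rfl, ?_⟩
    · exact Finset.mem_filter.2 ⟨mem_allBlocks.2 (isPBlock_blockMap _ hb.1),
        AbelianSub.isInducedBlock_cenConj hb a⟩
    · rw [← conjFun_subgroupBlockCoeff, hβ]
  have : Nonempty (Σ u : G, Set (IrrCharacter (Subgroup.centralizer ({u} : Set G)))) :=
    ⟨⟨1, ∅⟩⟩
  choose! q hqR a hqa hqβ using hq
  have hone : ∀ β : G → ℂ, conjFun (1 : G) β = β := fun β => by funext k; simp [conjFun]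
  have hinj : Set.InjOn q (S : Set G) := by
    intro w hw w' hw' e
    have e1 := hqa w hw
    have e2 := hqβ w hw
    rw [e, hqa w' hw'] at e1
    rw [e] at e2
    rw [hqβ w' hw'] at e2
    refine hsep w hw w' hw' ((a w')⁻¹ * a w) ?_ ?_
    · calc (a w')⁻¹ * a w * w * ((a w')⁻¹ * a w)⁻¹
          = (a w')⁻¹ * (a w * w * (a w)⁻¹) * a w' := by group
        _ = w' := by rw [← e1]; group
    · rw [← conjFun_conjFun, ← e2, conjFun_conjFun, inv_mul_cancel, hone]
  have hpos : ∀ r ∈ R, 1 ≤ blockRank p r.2 := fun r hr => by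
    have := Fintype.ofFinite (Subgroup.centralizer ({r.1} : Set G))
    exact one_le_blockRank hM (Finset.mem_filter.1 (Finset.mem_sigma.1 hr).2).2.1
  calc blockRank p B + S.card ≤ ∑ b ∈ F 1, blockRank p b + R.card :=
        Nat.add_le_add hterm1 (Finset.card_le_card_of_injOn q (fun w hw => hqR w hw) hinj)
    _ ≤ ∑ b ∈ F 1, blockRank p b + ∑ r ∈ R, blockRank p r.2 :=
        Nat.add_le_add_left (by simpa using Finset.card_nsmul_le_sum R _ 1 hpos) _
    _ = Nat.card B := by
        rw [hcount, hR, Finset.sum_sigma, ← Finset.add_sum_erase X _ hu₁]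

end CfsgLib.BlockA.RankAddCard
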