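import Cfsg.Agent.Lib.BlockA.AbelianSubsections
import Cfsg.Agent.Lib.BlockA.TrivialSubsection
import Cfsg.Agent.Lib.BlockA.MajorTwoCount
import Cfsg.Agent.Lib.BlockA.CentralDefect
import Cfsg.Agent.Lib.BlockA.RankOne
import Cfsg.Agent.Lib.Invol.Klein
import Cfsg.Agent.Lib.BlockA.SubsectionCount

/-!
`2`-blocks of defect one and two: ranks of the local blocks, four characters, and the inertial
index of a block with Klein four defect group.
-/

set_option autoImplicit false
set_option linter.unusedSectionVars false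

namespace CfsgLib.BlockA.KleinDefect

open Cfsg CfsgLib.Block CfsgLib.BlockA CfsgLib.BlockB CfsgLib.BlockB.SubSum
  CfsgLib.BlockB.HeightBound
open scoped ComplexConjugate

universe u

variable {G : Type u} [Group G] [Fintype G] {M : Ideal AlgInt} [M.IsPrime]
variable (hM : IsPModular 2 M)
include hM

/-- At most `q * l` characters at a major subsection. -/
theorem natCard_le_of_major {x : G} (hx : ∃ k : ℕ, orderOf x = 2 ^ k)
    [Fintype (Subgroup.centralizer ({x} : Set G))] [Fintype (IrrCharacter G)]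
    {B : Set (IrrCharacter G)} {b : Set (IrrCharacter (Subgroup.centralizer ({x} : Set G)))}
    (hind : IsInducedBlock M (Subgroup.centralizer ({x} : Set G)) b B)
    (hd : blockDefect 2 b = blockDefect 2 B) :
    Nat.card B ≤ 2 ^ blockDefect 2 b * blockRank 2 b := by
  classical
  obtain ⟨A, hsum, hpos, hzero⟩ := exists_major_averages hM hx hind hd
  rw [← hsum, Nat.card_coe_set_eq, Set.ncard_eq_toFinset_card, Finset.card_eq_sum_ones]
  refine Finset.sum_le_sum fun χ hχ => ?_
  rw [Set.Finite.mem_toFinset] at hχ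
  rcases Nat.eq_zero_or_pos (blockHeight 2 B (χ : G → ℂ)) with h | h
  · exact (hzero χ hχ h).1.pos
  · exact (hpos χ hχ h).2.1

/-- **A `2`-block of defect one has rank one.** -/
theorem rank_one_of_defect_one {B : Set (IrrCharacter G)} (hB : IsPBlock M B)
    (hd : blockDefect 2 B = 1) : blockRank 2 B = 1 := by
  classical
  have := Fintype.ofFinite (IrrCharacter G)
  obtain ⟨z, hz, b, hb, hbd⟩ := exists_major_order_p hM hB (by omega)
  have := Fintype.ofFinite (Subgroup.centralizer ({z} : Set G))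
  obtain ⟨D, hD⟩ := exists_isDefectGroup hM hb.1
  set z' : Subgroup.centralizer ({z} : Set G) :=
    ⟨z, Subgroup.mem_centralizer_singleton_iff.2 rfl⟩ with hz'
  have hzc : Subgroup.zpowers z' ≤ Subgroup.center _ :=
    Subgroup.zpowers_le.2 (Subgroup.mem_center_iff.2 fun w =>
      Subtype.ext (Subgroup.mem_centralizer_singleton_iff.1 w.2))
  have hzn : (Subgroup.zpowers z').Normal := ⟨fun a ha g => by
    rw [Subgroup.mem_center_iff.1 (hzc ha) g, mul_inv_cancel_right]; exact ha⟩
  have hcard : Nat.card (Subgroup.zpowers z') = 2 := by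
    rw [Nat.card_zpowers, hz', Subgroup.orderOf_mk, hz]
  have hle := normal_le_defectGroup hM (IsPGroup.of_card (n := 1) (by rw [hcard, pow_one])) hb.1 hD
  have hDcard : Nat.card D = 2 := by rw [natCard_defectGroup hM hb.1 hD, hbd, hd, pow_one]
  have heq : Subgroup.zpowers z' = D := Subgroup.eq_of_le_of_card_ge hle (by rw [hDcard, hcard])
  have hlb : blockRank 2 b = 1 := blockRank_of_central_defect hM hb.1 hD (heq ▸ hzc)
  have hk := natCard_le_of_major hM ⟨1, by rw [hz, pow_one]⟩ hb hbd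
  rw [hlb, hbd, hd] at hk
  have h1 := one_le_blockRank hM hB
  rcases Nat.lt_or_ge (Nat.card B) 2 with h | h
  · have := blockRank_le_card (p := 2) (B := B)
    omega
  · have := blockRank_lt_card hM hB h
    omega

/-- The local block at a major subsection of order two of a block of defect two has rank one. -/
theorem rank_one_of_major {z : G} (hz : orderOf z = 2)
    [Fintype (Subgroup.centralizer ({z} : Set G))]
    {b : Set (IrrCharacter (Subgroup.centralizer ({z} : Set G)))} (hb : IsPBlock M b)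
    (hd : blockDefect 2 b = 2) : blockRank 2 b = 1 := by
  classical
  have : Fact (Nat.Prime 2) := ⟨Nat.prime_two⟩
  set C := Subgroup.centralizer ({z} : Set G)
  set z' : C := ⟨z, Subgroup.mem_centralizer_singleton_iff.2 rfl⟩ with hz'
  set Z : Subgroup C := Subgroup.zpowers z' with hZ
  have hzc : Z ≤ Subgroup.center _ := Subgroup.zpowers_le.2 (Subgroup.mem_center_iff.2 fun w =>
    Subtype.ext (Subgroup.mem_centralizer_singleton_iff.1 w.2))
  have hzn : Z.Normal := ⟨fun a ha g => by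
    rw [Subgroup.mem_center_iff.1 (hzc ha) g, mul_inv_cancel_right]; exact ha⟩
  have hcard : Nat.card Z = 2 := by rw [hZ, Nat.card_zpowers, hz', Subgroup.orderOf_mk, hz]
  have := Fintype.ofFinite (C ⧸ Z)
  obtain ⟨c, hc, -, hrank, hdc, -⟩ := Dominated.exists_dominated hzc
    (IsPGroup.of_card (n := 1) (by rw [hcard, pow_one])) hM hb
  rw [hcard, Nat.prime_two.factorization_self, hd] at hdc
  rw [hrank]
  exact rank_one_of_defect_one hM hc (by omega)

/-- **Four characters, all of height zero.** -/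
theorem natCard_eq_four {x : G} (hx : orderOf x = 2)
    [Fintype (Subgroup.centralizer ({x} : Set G))] [Fintype (IrrCharacter G)]
    {B : Set (IrrCharacter G)} {b : Set (IrrCharacter (Subgroup.centralizer ({x} : Set G)))}
    (hind : IsInducedBlock M (Subgroup.centralizer ({x} : Set G)) b B)
    (hd : blockDefect 2 b = blockDefect 2 B) (hdef : blockDefect 2 B = 2)
    (hl : blockRank 2 b = 1) :
    Nat.card B = 4 ∧ ∀ χ ∈ B, blockHeight 2 B (χ : G → ℂ) = 0 := by
  classical
  have hxp : ∃ k : ℕ, orderOf x = 2 ^ k := ⟨1, by rw [hx, pow_one]⟩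
  obtain ⟨A, hsum, hpos, hzero⟩ := exists_major_averages hM hxp hind hd
  rw [hd, hdef, hl] at hsum
  rw [hd, hdef] at hpos hzero
  set F := B.toFinite.toFinset with hF
  have hmem : ∀ {χ}, χ ∈ F ↔ χ ∈ B := B.toFinite.mem_toFinset
  have hall : ∀ χ ∈ B, blockHeight 2 B (χ : G → ℂ) = 0 := by
    intro χ hχ
    by_contra h
    obtain ⟨hdvd, h0, h4⟩ := hpos χ hχ (Nat.pos_of_ne_zero h)
    have := Nat.le_of_dvd h0 ((pow_dvd_pow 2
      (show 2 ≤ blockHeight 2 B (χ : G → ℂ) + 1 by omega)).trans hdvd)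
    omega
  refine ⟨?_, hall⟩
  have hAodd : ∀ χ ∈ F, Odd (A χ) := fun χ hχ =>
    (hzero χ (hmem.1 hχ) (hall χ (hmem.1 hχ))).1
  have hk4 : F.card ≤ 4 := by
    have h1 : F.card ≤ ∑ χ ∈ F, A χ := by
      rw [Finset.card_eq_sum_ones]
      exact Finset.sum_le_sum fun χ hχ => (hAodd χ hχ).pos
    omega
  have heven : Even F.card := by
    by_contra h
    have h1 : Odd (∑ χ ∈ F, A χ) := by
      rw [Finset.odd_sum_iff_odd_card_odd, Finset.filter_true_of_mem hAodd]
      exact Nat.not_even_iff_odd.1 h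
    rw [hsum] at h1
    norm_num [Nat.odd_iff] at h1
  have hpos0 : 0 < F.card := by
    obtain ⟨χ, hχ⟩ := isPBlock_nonempty hind.2.1
    exact Finset.card_pos.2 ⟨χ, hmem.2 hχ⟩
  rw [Nat.card_coe_set_eq, Set.ncard_eq_toFinset_card, ← hF]
  by_contra h4
  have h2 : F.card = 2 := by
    obtain ⟨t, ht⟩ := heven
    omega
  obtain ⟨χ, ξ, hne, hFe⟩ := Finset.card_eq_two.1 h2
  -- the contributions are integers
  have hint : ∀ α β : IrrCharacter G, ∃ m : ℤ, subEntry 2 b α β 1 = (m : ℂ) := by
    intro α β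
    obtain ⟨P, hP⟩ := exists_subEntry_poly hM hxp (b := b) (i := 1) (by rw [hx, pow_one])
      (zetaN_isPrimitiveRoot (n := 2 ^ (1 + 1)) (by norm_num)) α β
    have hr : ∀ θ : IrrCharacter (Subgroup.centralizer ({x} : Set G)),
        ∃ m : ℤ, centralRoot x θ = (m : ℂ) := fun θ => by
      have h := (centralRoot_spec hM hxp θ).2.1
      rw [hx] at h
      rcases sq_eq_one_iff.1 h with h | h
      · exact ⟨1, by rw [h, Int.cast_one]⟩
      · exact ⟨-1, by rw [h, Int.cast_neg, Int.cast_one]⟩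
    choose r hr using hr
    exact ⟨∑ θ ∈ b.toFinite.toFinset, ∑ η ∈ b.toFinite.toFinset,
      ((resMult x α θ : ℤ) * (resMult x β η : ℤ) *
        (regEntry 2 θ η / (2 ^ sInf ((fun φ : IrrCharacter (Subgroup.centralizer ({x} : Set G)) =>
          (charDegree (φ : Subgroup.centralizer ({x} : Set G) → ℂ)).factorization 2) '' b) : ℕ))) *
        (r θ * r η), by simp [subEntry, hr, map_intCast]⟩
  choose m hm using hint
  have hsymm : ∀ α β, m α β = m β α := fun α β => by
    have h := subEntry_conj hM hxp (b := b) α β 1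
    rw [hm, hm, map_intCast] at h
    exact_mod_cast h
  have htr : m χ χ + m ξ ξ = 4 := by
    have h := sum_subEntry_self hM hxp hind
    rw [← hF, hFe, Finset.sum_pair hne, hm, hm, hd, hdef, hl] at h
    norm_num at h
    exact_mod_cast h
  have hrow : m χ χ * m χ χ + m χ ξ * m χ ξ = 4 * m χ χ := by
    have h := sum_subEntry_row hM hxp hind χ (Nat.coprime_one_left _)
    rw [← hF, hFe, Finset.sum_pair hne, hm, hm, hm, hsymm ξ χ, hd, hdef] at h
    norm_num at h
    exact_mod_cast h
  have hunit : ∀ α ∈ F, ¬ (2 : ℤ) ∣ m α α ∧ 0 ≤ m α α := by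
    intro α hα
    refine ⟨fun ⟨t, ht⟩ => ?_, ?_⟩
    · apply not_memLocalIdeal_subEntry hM hxp hind (hmem.1 hα) (hmem.1 hα)
        (hall α (hmem.1 hα)) (hall α (hmem.1 hα))
      rw [hm, ht, Int.cast_mul]
      exact memLocalIdeal_mul_right (memLocalRing_intCast _)
        (by simpa using (memLocalIdeal_natCast_iff hM 2).2 dvd_rfl)
    · obtain ⟨r, hr0, hr⟩ := BrauerFeit.subEntry_self_nonneg (b := b) hM α 1
      rw [hm, ← Complex.ofReal_intCast, Complex.ofReal_inj] at hr
      exact_mod_cast hr ▸ hr0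
  obtain ⟨h1, h1'⟩ := hunit χ (by simp [hFe])
  obtain ⟨-, h2'⟩ := hunit ξ (by simp [hFe])
  have h3 : m χ χ = 1 ∨ m χ χ = 3 := by omega
  have hsq : m χ ξ * m χ ξ = 3 := by rcases h3 with e | e <;> rw [e] at hrow <;> linarith
  have hle : -2 < m χ ξ ∧ m χ ξ < 2 := ⟨by nlinarith, by nlinarith⟩
  obtain ⟨hl1, hl2⟩ := hle
  interval_cases h : m χ ξ <;> omega

variable {B : Set (IrrCharacter G)} {P : Subgroup G}

variable {eP : Set (IrrCharacter (Subgroup.centralizer (P : Set G)))}
variable (hmax : IsMaximalBrauerPair 2 M B P eP)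
include hmax

local notation "cen" Q => Subgroup.centralizer ((Q : Subgroup G) : Set G)

/-- The inertial quotient has odd order. -/
theorem not_two_dvd_relIndex (hab : ∀ v ∈ P, ∀ w ∈ P, v * w = w * v) :
    ¬ 2 ∣ (cen P).relIndex (pairStab M P eP) := by
  have : Fact (Nat.Prime 2) := ⟨Nat.prime_two⟩
  have he := hmax.1.1
  have hQT : P ≤ pairStab M P eP := le_pairStab P eP
  have hCT : (cen P) ≤ pairStab M P eP := centralizer_le_pairStab P eP
  obtain ⟨F, hF⟩ := exists_isBlockOver hM he hQT hCT le_rfl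
  obtain ⟨D', hD'⟩ := exists_isDefectGroup hM hF.1
  have h := not_dvd_index_over hM hF he hQT hCT le_rfl hD'
  obtain ⟨R, hR⟩ : ∃ R : Subgroup G, R = D'.map (Subgroup.subtype (pairStab M P eP)) := ⟨_, rfl⟩
  have hRT : R ≤ pairStab M P eP := hR ▸ Subgroup.map_subtype_le D'
  have hRD : R.subgroupOf (pairStab M P eP) ≤ D' := by
    rintro ⟨x, hx⟩ hxR
    rw [Subgroup.mem_subgroupOf, hR] at hxR
    obtain ⟨y, hy, hyx⟩ := hxR
    rwa [show (⟨x, hx⟩ : pairStab M P eP) = y from Subtype.ext hyx.symm]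
  obtain ⟨g, hg⟩ := exists_pair_of_le_defect hM hF he le_rfl hRT hD' hRD
  have hle : SubpairLE 2 M P eP (P ⊔ R) g := Relation.ReflTransGen.single hg
  have hpair := (isBrauerPairOf_iff_of_le hM hg.2.1 hle hmax.1.2.1).2 hmax.1
  have hDR : P ⊔ R = P := hmax.2 _ g hpair hle
  have hD'C : D' ≤ (cen P).subgroupOf (pairStab M P eP) := fun x hx => by
    rw [Subgroup.mem_subgroupOf, Subgroup.mem_centralizer_iff]
    intro w hw
    refine hab w hw _ (hDR.le (Subgroup.mem_sup_right ?_))
    rw [hR]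
    exact ⟨x, hx, rfl⟩
  rwa [sup_eq_left.2 hD'C] at h

/-- **The stabilizer has orbits of length the inertial index on the involutions.** -/
theorem orbit_card (hV : IsKleinFour P) {z : G} (hz : z ∈ P) (hz1 : z ≠ 1) :
    Nat.card {w : G | ∃ t ∈ pairStab M P eP, t * z * t⁻¹ = w} =
      (cen P).relIndex (pairStab M P eP) := by
  classical
  have hab : ∀ v ∈ P, ∀ w ∈ P, v * w = w * v := fun v hv w hw =>
    congrArg Subtype.val ((IsKleinFour.isMulCommutative (G := P)).is_comm.comm ⟨v, hv⟩ ⟨w, hw⟩)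
  set T := pairStab M P eP with hT
  have hTN : T ≤ Subgroup.normalizer (P : Set G) := pairStab_le P eP
  -- the stabilizer of an involution centralizes
  have hfix : ∀ t ∈ T, t * z = z * t → t ∈ cen P := by
    intro t ht htz
    have hN := Subgroup.mem_normalizer_iff.1 (hTN ht)
    have h2 : t ^ 2 ∈ cen P := by
      refine Subgroup.mem_centralizer_iff.2 fun w hw => ?_
      rw [SetLike.mem_coe] at hw
      have hz' : t * z * t⁻¹ = z := by rw [htz, mul_inv_cancel_right]
      have key : t * (t * w * t⁻¹) * t⁻¹ = w := by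
        rcases eq_or_ne w 1 with rfl | hw1
        · simp
        rcases eq_or_ne w z with rfl | hwz
        · rw [hz', hz']
        have htw : t * w * t⁻¹ ∈ P := (hN w).1 hw
        have hinj : ∀ {a c : G}, t * a * t⁻¹ = t * c * t⁻¹ → a = c := fun h =>
          mul_left_cancel (mul_right_cancel h)
        have htw1 : t * w * t⁻¹ ≠ 1 := fun h => hw1 (hinj (h.trans (by simp)))
        have htwz : t * w * t⁻¹ ≠ z := fun h => hwz (hinj (h.trans hz'.symm))
        rcases eq_or_ne (t * w * t⁻¹) w with h | h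
        · rw [h, h]
        · have htw2 : t * (t * w * t⁻¹) * t⁻¹ ∈ P := (hN _).1 htw
          have h4 := CfsgLib.Invol.klein_mem_of_ne hV hz hw htw2 hz1 hw1 (Ne.symm hwz)
            (fun h' => htw1 (hinj (h'.trans (by simp))))
          rcases h4 with h4 | h4 | h4
          · exact absurd (hinj (h4.trans hz'.symm)) htwz
          · exact h4
          · exfalso
            have h5 := CfsgLib.Invol.klein_mem_of_ne hV hz hw htw hz1 hw1 (Ne.symm hwz) htw1
            rcases h5 with h5 | h5 | h5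
            · exact htwz h5
            · exact h h5
            · exact h (hinj (by rw [h4, h5]))
      have e : t ^ 2 * w * (t ^ 2)⁻¹ = w := by
        rw [sq]
        simpa [mul_assoc] using key
      exact (mul_inv_eq_iff_eq_mul.1 e).symm
    have hnorm : ((cen P).subgroupOf T).Normal :=
      subgroupOf_normal_of_le_normalizer (centralizer_le_pairStab P eP)
        (hTN.trans (normalizer_le_normalizer_centralizer hM P))
    have h3 : (⟨t, ht⟩ : T) ^ ((cen P).subgroupOf T).index ∈ (cen P).subgroupOf T :=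
      Subgroup.pow_index_mem _ _
    obtain ⟨s, hs⟩ := Nat.not_even_iff_odd.1 fun he =>
      not_two_dvd_relIndex hM hmax hab (even_iff_two_dvd.1 he)
    rw [show ((cen P).subgroupOf T).index = 2 * s + 1 from hs, Subgroup.mem_subgroupOf,
      Subgroup.coe_pow, pow_succ, pow_mul] at h3
    exact (Subgroup.mul_mem_cancel_left _ (pow_mem h2 s)).1 h3
  -- orbit and cosets
  let f : T ⧸ (cen P).subgroupOf T → {w : G | ∃ t ∈ T, t * z * t⁻¹ = w} :=
    Quotient.lift (fun t : T => ⟨(t : G) * z * (t : G)⁻¹, t, t.2, rfl⟩) fun a c h => by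
      have h1 : a⁻¹ * c ∈ (cen P).subgroupOf T := QuotientGroup.leftRel_apply.1 h
      rw [Subgroup.mem_subgroupOf] at h1
      have h2 := Subgroup.mem_centralizer_iff.1 h1 z hz
      apply Subtype.ext
      show (a : G) * z * (a : G)⁻¹ = (c : G) * z * (c : G)⁻¹
      rw [Subgroup.coe_mul, Subgroup.coe_inv] at h2
      calc (a : G) * z * (a : G)⁻¹ = (a : G) * (z * ((a : G)⁻¹ * c)) * (c : G)⁻¹ := by group
        _ = _ := by rw [h2]; group
  have hbij : Function.Bijective f := by
    refine ⟨?_, fun ⟨w, t, ht, htw⟩ => ⟨QuotientGroup.mk ⟨t, ht⟩, Subtype.ext htw⟩⟩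
    intro a c h
    induction a using QuotientGroup.induction_on with
    | H a =>
      induction c using QuotientGroup.induction_on with
      | H c =>
        have h' : (a : G) * z * (a : G)⁻¹ = (c : G) * z * (c : G)⁻¹ := congrArg Subtype.val h
        refine QuotientGroup.eq.2 ?_
        rw [Subgroup.mem_subgroupOf]
        refine hfix _ (a⁻¹ * c).2 ?_
        rw [Subgroup.coe_mul, Subgroup.coe_inv]
        calc (a : G)⁻¹ * c * z = (a : G)⁻¹ * ((c : G) * z * (c : G)⁻¹) * c := by group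
          _ = _ := by rw [← h']; group
  exact (Nat.card_congr (Equiv.ofBijective f hbij)).symm

/-- **The invariants of a block with Klein four defect group.** -/
theorem klein_invariants (hV : IsKleinFour P) :
    ((cen P).relIndex (pairStab M P eP) = 1 ∨ (cen P).relIndex (pairStab M P eP) = 3) ∧
      Nat.card B = 4 ∧ blockRank 2 B = (cen P).relIndex (pairStab M P eP) := by
  classical
  have : Fact (Nat.Prime 2) := ⟨Nat.prime_two⟩
  have := Fintype.ofFinite (IrrCharacter G)
  have hab : ∀ v ∈ P, ∀ w ∈ P, v * w = w * v := fun v hv w hw =>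
    congrArg Subtype.val ((IsKleinFour.isMulCommutative (G := P)).is_comm.comm ⟨v, hv⟩ ⟨w, hw⟩)
  have hB := hmax.1.2.1
  have hdef : blockDefect 2 B = 2 := by
    have h := natCard_defectGroup hM hB (maximal_core hM hmax).1
    rw [hV.card_four] at h
    exact (Nat.pow_right_injective le_rfl (h : 2 ^ 2 = 2 ^ blockDefect 2 B)).symm
  set T := pairStab M P eP with hT
  set e := (cen P).relIndex T with he
  set V : Finset G := (P : Set G).toFinite.toFinset.erase 1 with hVdef
  have hVmem : ∀ {z}, z ∈ V ↔ z ∈ P ∧ z ≠ 1 := fun {z} => by simp [hVdef, and_comm]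
  have hV3 : V.card = 3 := by
    rw [hVdef, Finset.card_erase_of_mem (by simp), ← Set.ncard_eq_toFinset_card,
      ← Nat.card_coe_set_eq]
    have h := hV.card_four
    rw [show Nat.card (P : Set G) = Nat.card P from rfl, h]
  have hz2 : ∀ {z}, z ∈ V → orderOf z = 2 := fun hz =>
    CfsgLib.Invol.klein_orderOf hV (hVmem.1 hz).1 (hVmem.1 hz).2
  -- the major blocks
  have hblk : ∀ z : G, z ∈ P → ∃ b : Set (IrrCharacter (Subgroup.centralizer ({z} : Set G))),
      IsInducedBlock M (Subgroup.centralizer ({z} : Set G)) b B ∧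
      subgroupBlockCoeff (Subgroup.centralizer ({z} : Set G)) b = AbelianSub.beta hM hmax z ∧
      blockDefect 2 b = blockDefect 2 B := fun z hz => AbelianSub.exists_blk hM hmax hab hz
  obtain ⟨z₀, hz₀⟩ : V.Nonempty := Finset.card_pos.1 (by omega)
  have hk : Nat.card B = 4 := by
    obtain ⟨b, hb, -, hbd⟩ := hblk z₀ (hVmem.1 hz₀).1
    have := Fintype.ofFinite (Subgroup.centralizer ({z₀} : Set G))
    exact (natCard_eq_four hM (hz2 hz₀) hb hbd hdef
      (rank_one_of_major hM (hz2 hz₀) hb.1 (hbd.trans hdef))).1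
  -- orbits
  let O : G → Finset G := fun z => V.filter fun w => ∃ t ∈ T, t * z * t⁻¹ = w
  have hO : ∀ z ∈ V, (O z).card = e := by
    intro z hz
    rw [he, ← orbit_card hM hmax hV (hVmem.1 hz).1 (hVmem.1 hz).2, Nat.card_coe_set_eq,
      ← Set.ncard_coe_finset]
    congr 1
    ext w
    simp only [O, Finset.coe_filter, Set.mem_setOf_eq, ← hT]
    refine ⟨fun h => h.2, fun h => ⟨hVmem.2 ?_, h⟩⟩
    obtain ⟨t, ht, rfl⟩ := h
    refine ⟨(Subgroup.mem_normalizer_iff.1 (pairStab_le P eP ht) z).1 (hVmem.1 hz).1, fun h => ?_⟩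
    exact (hVmem.1 hz).2 (mul_left_cancel (mul_right_cancel
      (h.trans (by simp : (1 : G) = t * 1 * t⁻¹))))
  have he13 : e = 1 ∨ e = 3 := by
    have h1 : e ≤ 3 := hV3 ▸ hO z₀ hz₀ ▸ Finset.card_filter_le _ _
    have h2 : ¬ 2 ∣ e := not_two_dvd_relIndex hM hmax hab
    omega
  refine ⟨he13, hk, ?_⟩
  -- representatives and subsections
  obtain ⟨X, hX, hXrep⟩ : ∃ X : Finset G, (∀ u ∈ X, ∃ k : ℕ, orderOf u = 2 ^ k) ∧
      ∀ g : G, (∃ k : ℕ, orderOf g = 2 ^ k) → ∃! u, u ∈ X ∧ IsConj g u := by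
    let r : ConjClasses G → G := fun c => (ConjClasses.exists_rep c).choose
    have hr : ∀ c, ConjClasses.mk (r c) = c := fun c => (ConjClasses.exists_rep c).choose_spec
    refine ⟨((Finset.univ : Finset G).filter fun g => ∃ k : ℕ, orderOf g = 2 ^ k).image
      fun g => r (ConjClasses.mk g), fun u hu => ?_, fun g hg => ?_⟩
    · obtain ⟨g, hg, rfl⟩ := Finset.mem_image.1 hu
      obtain ⟨k, hk⟩ := (Finset.mem_filter.1 hg).2
      refine ⟨k, ?_⟩
      obtain ⟨c, hc⟩ := isConj_iff.1 (ConjClasses.mk_eq_mk_iff_isConj.1 (hr (ConjClasses.mk g)).symm)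
      rw [← hc, CfsgLib.Invol.orderOf_conj_eq, hk]
    · refine ⟨r (ConjClasses.mk g), ⟨Finset.mem_image_of_mem _ (by simpa using hg),
        ConjClasses.mk_eq_mk_iff_isConj.1 (hr _).symm⟩, ?_⟩
      rintro u ⟨hu, hgu⟩
      obtain ⟨g', -, rfl⟩ := Finset.mem_image.1 hu
      rw [ConjClasses.mk_eq_mk_iff_isConj.2 hgu, hr]
  have hcount := natCard_block_eq_sum_rank hM hB X hX hXrep
  -- the term at the identity
  obtain ⟨u₁, ⟨hu₁, hu₁c⟩, -⟩ := hXrep 1 ⟨0, by rw [orderOf_one, pow_zero]⟩
  obtain rfl : (1 : G) = u₁ := (isConj_one_right.1 hu₁c).symm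
  have hconj : ∀ u ∈ X, ∀ b ∈ (allBlocks M (Subgroup.centralizer ({u} : Set G))).filter
      (fun b => IsInducedBlock M (Subgroup.centralizer ({u} : Set G)) b B), ∃ x : G,
        x * u * x⁻¹ ∈ P ∧
        conjFun x (subgroupBlockCoeff (Subgroup.centralizer ({u} : Set G)) b) =
          AbelianSub.beta hM hmax (x * u * x⁻¹) := fun u hu b hb =>
    AbelianSub.exists_conj_major hM hmax (hX u hu) (Finset.mem_filter.1 hb).2
  have hterm1 : ∑ b ∈ (allBlocks M (Subgroup.centralizer ({1} : Set G))).filter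
      (fun b => IsInducedBlock M (Subgroup.centralizer ({1} : Set G)) b B), blockRank 2 b =
        blockRank 2 B := by
    have := Fintype.ofFinite (Subgroup.centralizer ({1} : Set G))
    obtain ⟨b₁, hb₁, hr₁⟩ := exists_top_induced hM hB
      (H := Subgroup.centralizer ({1} : Set G))
      (eq_top_iff.2 fun g _ => Subgroup.mem_centralizer_singleton_iff.2 (by simp))
    have hb₁' : b₁ ∈ (allBlocks M (Subgroup.centralizer ({1} : Set G))).filter
        (fun b => IsInducedBlock M (Subgroup.centralizer ({1} : Set G)) b B) :=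
      Finset.mem_filter.2 ⟨mem_allBlocks.2 hb₁.1, hb₁⟩
    rw [Finset.sum_eq_single b₁ (fun b hb hne => absurd ?_ hne) (fun h => absurd hb₁' h), hr₁]
    obtain ⟨x, hx, hβ⟩ := hconj 1 hu₁ b hb
    obtain ⟨x', hx', hβ'⟩ := hconj 1 hu₁ b₁ hb₁'
    exact (AbelianSub.eq_of_orbit hM hmax (one_mem T) hx (by simp)
      (Finset.mem_filter.1 hb).2.1 hβ hb₁.1 hβ').2 rfl
  -- the other terms
  set R : Finset (Σ u : G, Set (IrrCharacter (Subgroup.centralizer ({u} : Set G)))) :=
    (X.erase 1).sigma fun u => (allBlocks M (Subgroup.centralizer ({u} : Set G))).filter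
      (fun b => IsInducedBlock M (Subgroup.centralizer ({u} : Set G)) b B) with hR
  have hsum : Nat.card B = blockRank 2 B + ∑ q ∈ R, blockRank 2 q.2 := by
    rw [hcount, hR, Finset.sum_sigma, ← Finset.add_sum_erase _ _ hu₁, hterm1]
  have hzR : ∀ q ∈ R, ∃ x : G, x * q.1 * x⁻¹ ∈ V ∧
      conjFun x (subgroupBlockCoeff (Subgroup.centralizer ({q.1} : Set G)) q.2) =
        AbelianSub.beta hM hmax (x * q.1 * x⁻¹) := by
    intro q hq
    obtain ⟨hq1, hq2⟩ := Finset.mem_sigma.1 hq
    obtain ⟨x, hx, hβ⟩ := hconj q.1 (Finset.mem_of_mem_erase hq1) q.2 hq2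
    exact ⟨x, hVmem.2 ⟨hx, fun h => Finset.ne_of_mem_erase hq1 (conj_eq_one_iff.1 h)⟩, hβ⟩
  choose! x hxV hxβ using hzR
  let φ : (Σ u : G, Set (IrrCharacter (Subgroup.centralizer ({u} : Set G)))) → Finset G :=
    fun q => O (x q * q.1 * (x q)⁻¹)
  -- disjoint orbits
  have hdisj : (R : Set _).PairwiseDisjoint φ := by
    intro q hq q' hq' hne
    rw [Function.onFun, Finset.disjoint_left]
    intro w hw hw'
    obtain ⟨t, ht, htw⟩ := (Finset.mem_filter.1 hw).2
    obtain ⟨t', ht', htw'⟩ := (Finset.mem_filter.1 hw').2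
    obtain ⟨hq1, hq2⟩ := Finset.mem_sigma.1 hq
    obtain ⟨hq1', hq2'⟩ := Finset.mem_sigma.1 hq'
    have htx : (t'⁻¹ * t) * (x q * q.1 * (x q)⁻¹) * (t'⁻¹ * t)⁻¹ = x q' * q'.1 * (x q')⁻¹ := by
      calc _ = t'⁻¹ * (t * (x q * q.1 * (x q)⁻¹) * t⁻¹) * t' := by group
        _ = _ := by rw [htw, ← htw']; group
    have h := AbelianSub.eq_of_orbit hM hmax (mul_mem (inv_mem ht') ht) (hVmem.1 (hxV q hq)).1 htx
      (Finset.mem_filter.1 hq2).2.1 (hxβ q hq) (Finset.mem_filter.1 hq2').2.1 (hxβ q' hq')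
    refine hne ?_
    obtain ⟨u, b⟩ := q
    obtain ⟨u', b'⟩ := q'
    have hq1X := Finset.mem_of_mem_erase hq1
    obtain rfl : u = u' := (hXrep u (hX u hq1X)).unique ⟨hq1X, IsConj.refl u⟩
      ⟨Finset.mem_of_mem_erase hq1', h.1⟩
    exact Sigma.ext rfl (heq_of_eq (h.2 rfl))
  have hcover : R.biUnion φ = V := by
    refine Finset.Subset.antisymm (Finset.biUnion_subset.2 fun q _ => Finset.filter_subset _ _) ?_
    intro z hz
    obtain ⟨u, ⟨hu, huc⟩, -⟩ := hXrep z ⟨1, by rw [hz2 hz, pow_one]⟩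
    obtain ⟨a, ha⟩ := isConj_iff.1 huc
    subst ha
    obtain ⟨b, hb, hβb, -⟩ := hblk z (hVmem.1 hz).1
    set b' := blockMap (HeightBound.cenConj a z) b with hb'
    have hβ' : conjFun a (AbelianSub.beta hM hmax z) =
        subgroupBlockCoeff (Subgroup.centralizer ({a * z * a⁻¹} : Set G)) b' := by
      rw [← hβb, conjFun_subgroupBlockCoeff]
    have hb'ind := AbelianSub.isInducedBlock_cenConj hb a
    rw [← hb'] at hb'ind
    have hq : (⟨a * z * a⁻¹, b'⟩ :
        Σ u : G, Set (IrrCharacter (Subgroup.centralizer ({u} : Set G)))) ∈ R := by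
      refine Finset.mem_sigma.2 ⟨Finset.mem_erase.2 ⟨fun h => (hVmem.1 hz).2
        (conj_eq_one_iff.1 h), hu⟩, Finset.mem_filter.2 ⟨mem_allBlocks.2 hb'ind.1, hb'ind⟩⟩
    set q : Σ u : G, Set (IrrCharacter (Subgroup.centralizer ({u} : Set G))) := ⟨a * z * a⁻¹, b'⟩
      with hqdef
    refine Finset.mem_biUnion.2 ⟨q, hq, Finset.mem_filter.2 ⟨hz, ?_⟩⟩
    -- fusion by the stabilizer
    have h1 := hxβ q hq
    rw [hqdef] at h1
    simp only at h1
    rw [← hqdef, ← hβ', conjFun_conjFun] at h1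
    have hy := hxV q hq
    obtain ⟨t, ht, htz⟩ := exists_stab_conj hM hmax (hVmem.1 hz).1
      (fun w hw => hab w hw z (hVmem.1 hz).1) (hVmem.1 hy).1
      (fun w hw => hab w hw _ (hVmem.1 hy).1) (a := x q * a)
      (show x q * a * z * (x q * a)⁻¹ = x q * q.1 * (x q)⁻¹ by rw [hqdef]; group)
      (AbelianSub.exists_below hM hmax (hVmem.1 hz).1).choose_spec.2
      (AbelianSub.exists_below hM hmax (hVmem.1 hy).1).choose_spec.2
      (by
        rw [AbelianSub.beta_eq_of_below hM hmax (hVmem.1 hz).1 rfl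
            (AbelianSub.exists_below hM hmax (hVmem.1 hz).1).choose_spec.2,
          AbelianSub.beta_eq_of_below hM hmax (hVmem.1 hy).1 rfl
            (AbelianSub.exists_below hM hmax (hVmem.1 hy).1).choose_spec.2]
        exact h1)
    refine ⟨t⁻¹, inv_mem ht, ?_⟩
    rw [← htz]
    group
  have hRe : R.card * e = 3 := by
    rw [← hV3, ← hcover, Finset.card_biUnion hdisj, ← smul_eq_mul, ← Finset.sum_const]
    exact Finset.sum_congr rfl fun q hq => (hO _ (hxV q hq)).symm
  have hrk : ∀ q ∈ R, blockRank 2 q.2 = 1 := by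
    intro q hq
    have := Fintype.ofFinite (Subgroup.centralizer ({q.1} : Set G))
    obtain ⟨hq1, hq2⟩ := Finset.mem_sigma.1 hq
    obtain ⟨h2, hind⟩ := Finset.mem_filter.1 hq2
    have hy := hxV q hq
    have h1 : orderOf q.1 = 2 := by
      rw [← CfsgLib.Invol.orderOf_conj_eq (x q) q.1, hz2 hy]
    refine rank_one_of_major hM h1 hind.1 ?_
    obtain ⟨b, hb, hβb, hbd⟩ := hblk _ (hVmem.1 hy).1
    refine Eq.trans ?_ (hbd.trans hdef)
    have hbm : b = blockMap (HeightBound.cenConj (x q) q.1) q.2 := by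
      refine subgroupBlockCoeff_injective hM hb.1 (isPBlock_blockMap _ hind.1) ?_
      rw [← conjFun_subgroupBlockCoeff, hβb, hxβ q hq]
    rw [hbm, AbelianSub.blockDefect_blockMap (p := 2)]
  rw [Finset.sum_congr rfl hrk, Finset.sum_const, smul_eq_mul, mul_one, hk] at hsum
  rcases he13 with h | h <;> rw [h] at hRe ⊢ <;> omega

end CfsgLib.BlockA.KleinDefect
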