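import Cfsg.Agent.Lib.BlockA.NilpotentSection
import Cfsg.Agent.Lib.BlockA.TrivialSubsection
import Cfsg.Agent.Lib.BlockA.SubsectionCount

/-!
The number of characters of a block as a sum over representatives of the subsections below a
maximal pair, and the passage to a subgroup containing the centralizer.
-/

set_option autoImplicit false
set_option linter.unusedSectionVars false
set_option maxHeartbeats 1000000

namespace CfsgLib.BlockA.SubsectionReps

open Cfsg CfsgLib.Block CfsgLib.BlockA CfsgLib.BlockB CfsgLib.BlockB.SubSum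
  CfsgLib.BlockB.HeightBound AbelianSub

universe u

variable {G : Type u} [Group G] [Fintype G] {p : ℕ} {M : Ideal AlgInt} [M.IsPrime]
  {B : Set (IrrCharacter G)} {P : Subgroup G}
  {eP : Set (IrrCharacter (Subgroup.centralizer (P : Set G)))}

local notation "cen" Q => Subgroup.centralizer ((Q : Subgroup G) : Set G)

/-- A conjugation centralizing the element fixes the coefficients of a block of the centralizer. -/
theorem conjFun_self {u c : G} (hc : c ∈ Subgroup.centralizer ({u} : Set G))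
    (b : Set (IrrCharacter (Subgroup.centralizer ({u} : Set G)))) :
    conjFun c (subgroupBlockCoeff (Subgroup.centralizer ({u} : Set G)) b) =
      subgroupBlockCoeff (Subgroup.centralizer ({u} : Set G)) b := by
  funext k
  unfold conjFun subgroupBlockCoeff
  by_cases hk : k ∈ Subgroup.centralizer ({u} : Set G)
  · have hk' : c⁻¹ * k * c ∈ Subgroup.centralizer ({u} : Set G) :=
      mul_mem (mul_mem (inv_mem hc) hk) hc
    rw [dif_pos hk, dif_pos hk']
    have h3 := blockSum_isClassCoeff b (⟨k, hk⟩ : Subgroup.centralizer ({u} : Set G))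
      (⟨c, hc⟩⁻¹ : Subgroup.centralizer ({u} : Set G))
    simp only [blockSum, coeff_mkGA] at h3
    rw [← h3]
    congr 1
    exact Subtype.ext (by simp)
  · have hk' : c⁻¹ * k * c ∉ Subgroup.centralizer ({u} : Set G) := fun hh => hk (by
      have h3 := mul_mem (mul_mem hc hh) (inv_mem hc)
      simpa [mul_assoc] using h3)
    rw [dif_neg hk, dif_neg hk']

theorem conjFun_one' (β : G → ℂ) : conjFun (1 : G) β = β := by
  funext k
  simp [conjFun]

variable (hM : IsPModular p M) (hmax : IsMaximalBrauerPair p M B P eP)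
include hM hmax

/-- Fusion of the subsections below the maximal pair. -/
def Rel (v w : G) : Prop :=
  ∃ a : G, a * v * a⁻¹ = w ∧ conjFun a (beta hM hmax v) = beta hM hmax w

theorem rel_refl (v : G) : Rel hM hmax v v := ⟨1, by simp, conjFun_one' _⟩

theorem rel_symm {v w : G} : Rel hM hmax v w → Rel hM hmax w v := by
  rintro ⟨a, rfl, e⟩
  refine ⟨a⁻¹, by group, ?_⟩
  rw [← e, conjFun_conjFun, inv_mul_cancel, conjFun_one']

theorem rel_trans {u v w : G} : Rel hM hmax u v → Rel hM hmax v w → Rel hM hmax u w := by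
  rintro ⟨a, rfl, e⟩ ⟨b, rfl, e'⟩
  refine ⟨b * a, by group, ?_⟩
  rw [← conjFun_conjFun, e, e']

theorem exists_reps : ∃ Y : Finset G, (∀ y ∈ Y, y ∈ P) ∧
    ∀ v ∈ P, ∃! y, y ∈ Y ∧ Rel hM hmax v y := by
  classical
  let s : Setoid P := ⟨fun v w => Rel hM hmax (v : G) w, fun v => rel_refl hM hmax v,
    fun h => rel_symm hM hmax h, fun h h' => rel_trans hM hmax h h'⟩
  have := Fintype.ofFinite (Quotient s)
  refine ⟨(Finset.univ : Finset (Quotient s)).image fun q => ((q.out : P) : G), ?_, fun v hv => ?_⟩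
  · intro y hy
    obtain ⟨q, -, rfl⟩ := Finset.mem_image.1 hy
    exact q.out.2
  · refine ⟨((Quotient.mk s ⟨v, hv⟩).out : G), ⟨Finset.mem_image_of_mem _ (Finset.mem_univ _),
      rel_symm hM hmax (Quotient.mk_out (s := s) ⟨v, hv⟩)⟩, ?_⟩
    rintro y ⟨hy, hrel⟩
    obtain ⟨q, -, rfl⟩ := Finset.mem_image.1 hy
    rw [show Quotient.mk s ⟨v, hv⟩ = q from (Quotient.sound hrel).trans (Quotient.out_eq q)]

/-- **The number of characters over the representatives.** -/
theorem natCard_eq_sum_reps (Y : Finset G) (hY : ∀ y ∈ Y, y ∈ P)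
    (hrep : ∀ v ∈ P, ∃! y, y ∈ Y ∧ Rel hM hmax v y) (rk : G → ℕ)
    (hrk : ∀ y ∈ Y, ∀ b : Set (IrrCharacter (Subgroup.centralizer ({y} : Set G))), IsPBlock M b →
      subgroupBlockCoeff (Subgroup.centralizer ({y} : Set G)) b = beta hM hmax y →
      blockRank p b = rk y) :
    Nat.card B = ∑ y ∈ Y, rk y := by
  classical
  have := Fact.mk hM.1
  have hB : IsPBlock M B := hmax.1.2.1
  obtain ⟨X, hX, hXrep⟩ : ∃ X : Finset G, (∀ u ∈ X, ∃ k : ℕ, orderOf u = p ^ k) ∧
      ∀ g : G, (∃ k : ℕ, orderOf g = p ^ k) → ∃! u, u ∈ X ∧ IsConj g u := by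
    let r : ConjClasses G → G := fun c => (ConjClasses.exists_rep c).choose
    have hr : ∀ c, ConjClasses.mk (r c) = c := fun c => (ConjClasses.exists_rep c).choose_spec
    refine ⟨((Finset.univ : Finset G).filter fun g => ∃ k : ℕ, orderOf g = p ^ k).image
      fun g => r (ConjClasses.mk g), fun u hu => ?_, fun g hg => ?_⟩
    · obtain ⟨g, hg, rfl⟩ := Finset.mem_image.1 hu
      obtain ⟨k, hk⟩ := (Finset.mem_filter.1 hg).2
      refine ⟨k, ?_⟩
      obtain ⟨c, hc⟩ :=
        isConj_iff.1 (ConjClasses.mk_eq_mk_iff_isConj.1 (hr (ConjClasses.mk g)).symm)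
      rw [← hc, CfsgLib.Invol.orderOf_conj_eq, hk]
    · refine ⟨r (ConjClasses.mk g), ⟨Finset.mem_image_of_mem _ (by simpa using hg),
        ConjClasses.mk_eq_mk_iff_isConj.1 (hr _).symm⟩, ?_⟩
      rintro u ⟨hu, hgu⟩
      obtain ⟨g', -, rfl⟩ := Finset.mem_image.1 hu
      rw [ConjClasses.mk_eq_mk_iff_isConj.2 hgu, hr]
  rw [natCard_block_eq_sum_rank hM hB X hX hXrep]
  set R : Finset (Σ u : G, Set (IrrCharacter (Subgroup.centralizer ({u} : Set G)))) :=
    X.sigma fun u => (allBlocks M (Subgroup.centralizer ({u} : Set G))).filter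
      (fun b => IsInducedBlock M (Subgroup.centralizer ({u} : Set G)) b B) with hR
  refine Eq.trans (Finset.sum_sigma X _ fun q : (Σ u : G, Set (IrrCharacter
    (Subgroup.centralizer ({u} : Set G)))) => blockRank p q.2).symm ?_
  rw [← hR]
  have himg : ∀ q ∈ R, ∃ y, y ∈ Y ∧ ∃ x : G, x * q.1 * x⁻¹ = y ∧
      conjFun x (subgroupBlockCoeff (Subgroup.centralizer ({q.1} : Set G)) q.2) =
        beta hM hmax y := by
    intro q hq
    obtain ⟨hq1, hq2⟩ := Finset.mem_sigma.1 hq
    obtain ⟨x, hx, hβ⟩ := exists_conj_major hM hmax (hX q.1 hq1) (Finset.mem_filter.1 hq2).2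
    obtain ⟨y, ⟨hy, a, ha, hae⟩, -⟩ := hrep _ hx
    refine ⟨y, hy, a * x, by rw [← ha]; group, ?_⟩
    rw [← conjFun_conjFun, hβ, hae]
  choose φ hφY x hxc hxβ using himg
  refine Finset.sum_bij φ hφY (fun q hq q' hq' e => ?_) (fun y hy => ?_) (fun q hq => ?_)
  · obtain ⟨u, b⟩ := q
    obtain ⟨u', b'⟩ := q'
    obtain ⟨hq1, hq2⟩ := Finset.mem_sigma.1 hq
    obtain ⟨hq1', hq2'⟩ := Finset.mem_sigma.1 hq'
    set a := (x _ hq')⁻¹ * x _ hq with ha
    have hau : a * u * a⁻¹ = u' := by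
      have e1 := hxc _ hq
      rw [e, ← hxc _ hq'] at e1
      rw [ha]
      calc _ = (x _ hq')⁻¹ * (x _ hq * u * (x _ hq)⁻¹) * x _ hq' := by group
        _ = u' := by rw [e1]; group
    obtain rfl : u = u' := (hXrep u (hX u hq1)).unique ⟨hq1, IsConj.refl u⟩
      ⟨hq1', isConj_iff.2 ⟨a, hau⟩⟩
    refine Sigma.ext rfl (heq_of_eq (subgroupBlockCoeff_injective hM (Finset.mem_filter.1 hq2).2.1
      (Finset.mem_filter.1 hq2').2.1 ?_))
    have hac : a ∈ Subgroup.centralizer ({u} : Set G) := Subgroup.mem_centralizer_singleton_iff.2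
      (mul_inv_eq_iff_eq_mul.1 hau)
    have h1 := hxβ _ hq
    rw [e, ← hxβ _ hq'] at h1
    have h2 := congrArg (conjFun (x _ hq')⁻¹) h1
    rw [conjFun_conjFun, conjFun_conjFun, inv_mul_cancel, conjFun_one', ← ha,
      conjFun_self hac] at h2
    exact h2
  · have hyp : ∃ k : ℕ, orderOf y = p ^ k := by
      obtain ⟨k, hk⟩ := (IsPGroup.iff_orderOf.1 hmax.1.1.1) ⟨y, hY y hy⟩
      exact ⟨k, by rw [← hk, Subgroup.orderOf_mk]⟩
    obtain ⟨u, ⟨hu, huc⟩, -⟩ := hXrep y hyp
    obtain ⟨a, rfl⟩ := isConj_iff.1 huc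
    obtain ⟨b, hb, hbβ⟩ := NilpotentSection.exists_block_below hM hmax (hY y hy)
      (K := Subgroup.centralizer ({y} : Set G)) rfl
    have hb' := isInducedBlock_cenConj hb a
    have hq : (⟨a * y * a⁻¹, blockMap (cenConj a y) b⟩ :
        Σ u : G, Set (IrrCharacter (Subgroup.centralizer ({u} : Set G)))) ∈ R :=
      Finset.mem_sigma.2 ⟨hu, Finset.mem_filter.2 ⟨mem_allBlocks.2 hb'.1, hb'⟩⟩
    refine ⟨_, hq, (hrep y (hY y hy)).unique ⟨hφY _ hq, x _ hq * a, ?_, ?_⟩
      ⟨hy, rel_refl hM hmax y⟩⟩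
    · rw [← hxc _ hq]; group
    · rw [← conjFun_conjFun, ← hbβ, conjFun_subgroupBlockCoeff, hxβ _ hq]
  · obtain ⟨u, b⟩ := q
    obtain ⟨hq1, hq2⟩ := Finset.mem_sigma.1 hq
    have key : ∀ y, x _ hq * u * (x _ hq)⁻¹ = y → y ∈ Y →
        conjFun (x _ hq) (subgroupBlockCoeff (Subgroup.centralizer ({u} : Set G)) b) =
          beta hM hmax y → blockRank p b = rk y := by
      rintro _ rfl hy he
      rw [conjFun_subgroupBlockCoeff] at he
      have := Fintype.ofFinite (Subgroup.centralizer ({u} : Set G))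
      have := Fintype.ofFinite (Subgroup.centralizer ({x _ hq * u * (x _ hq)⁻¹} : Set G))
      rw [← hrk _ hy _ (isPBlock_blockMap _ (Finset.mem_filter.1 hq2).2.1) he,
        blockRank_blockMap hM _ (Finset.mem_filter.1 hq2).2.1]
    exact key _ (hxc _ hq) (hφY _ hq) (hxβ _ hq)

/-- The block at a central element has the rank of the block. -/
theorem blockRank_of_central {v : G} (hv : v ∈ P) (hc : ∀ t, Commute v t)
    {b : Set (IrrCharacter (Subgroup.centralizer ({v} : Set G)))} (hb : IsPBlock M b)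
    (hβ : subgroupBlockCoeff (Subgroup.centralizer ({v} : Set G)) b = beta hM hmax v) :
    blockRank p b = blockRank p B := by
  classical
  have := Fact.mk hM.1
  have := Fintype.ofFinite (Subgroup.centralizer ({v} : Set G))
  obtain ⟨b', hb', hr⟩ := exists_top_induced hM hmax.1.2.1
    (H := Subgroup.centralizer ({v} : Set G))
    (eq_top_iff.2 fun t _ => Subgroup.mem_centralizer_singleton_iff.2 (hc t).eq.symm)
  obtain ⟨k, hk⟩ := (IsPGroup.iff_orderOf.1 hmax.1.1.1) ⟨v, hv⟩
  obtain ⟨x, -, hx⟩ := exists_conj_major hM hmax ⟨k, by rw [← hk, Subgroup.orderOf_mk]⟩ hb'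
  have hxc : x ∈ Subgroup.centralizer ({v} : Set G) :=
    Subgroup.mem_centralizer_singleton_iff.2 (hc x).eq.symm
  rw [conjFun_self hxc, show x * v * x⁻¹ = v by rw [← (hc x).eq, mul_inv_cancel_right]] at hx
  rw [subgroupBlockCoeff_injective hM hb hb'.1 (hβ.trans hx.symm), hr]

variable {H : Subgroup G} [Fintype H] (hPH : P ≤ H) (hc : CenEq (P.subgroupOf H) P)
  {g : Set (IrrCharacter H)}
  (hmaxH : IsMaximalBrauerPair p M g (P.subgroupOf H) (subBlock hc eP))
include hPH hmaxH

/-- **The blocks below the pair read in a subgroup containing the centralizer.** -/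
theorem beta_subgroupOf {v : G} (hv : v ∈ P) (hle : Subgroup.centralizer ({v} : Set G) ≤ H) :
    (∀ k : H, beta hM hmaxH (⟨v, hPH hv⟩ : H) k = beta hM hmax v (k : G)) ∧
    (∀ k : G, k ∉ H → beta hM hmax v k = 0) ∧
    ∀ (b : Set (IrrCharacter (Subgroup.centralizer ({v} : Set G))))
      (β : Set (IrrCharacter (Subgroup.centralizer ({(⟨v, hPH hv⟩ : H)} : Set H)))),
      IsPBlock M b → IsPBlock M β →
      subgroupBlockCoeff (Subgroup.centralizer ({v} : Set G)) b = beta hM hmax v →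
      subgroupBlockCoeff (Subgroup.centralizer ({(⟨v, hPH hv⟩ : H)} : Set H)) β =
        beta hM hmaxH (⟨v, hPH hv⟩ : H) →
      blockRank p b = blockRank p β := by
  classical
  obtain ⟨f, hf, hfle⟩ := exists_below hM hmax hv
  have hCQ : (cen (Subgroup.zpowers v)) ≤ H := by rw [cen_zpowers]; exact hle
  obtain ⟨h₁, h₂, hle'⟩ := subpairLE_subBlock hM hfle hPH hCQ
  have hQ : (Subgroup.zpowers v).subgroupOf H = Subgroup.zpowers (⟨v, hPH hv⟩ : H) := by
    ext x
    simp only [Subgroup.mem_subgroupOf, Subgroup.mem_zpowers_iff, Subtype.ext_iff]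
    push_cast
    rfl
  have hcβ := beta_eq_of_below hM hmaxH (z := (⟨v, hPH hv⟩ : H)) hv hQ hle'
  have hG := beta_eq_of_below hM hmax hv rfl hfle
  have h1 : ∀ k : H, beta hM hmaxH (⟨v, hPH hv⟩ : H) k = beta hM hmax v (k : G) := by
    intro k
    rw [← hcβ, ← hG]
    by_cases hk : (k : G) ∈ cen (Subgroup.zpowers v)
    · have hk1 := (((cenEq_iff _ _).1 h₁).2 k).2 hk
      rw [subgroupBlockCoeff, subgroupBlockCoeff, dif_pos hk1, dif_pos hk, subBlock,
        blockCoeff_blockMap]
      rfl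
    · have hk1 := fun e => hk ((((cenEq_iff _ _).1 h₁).2 k).1 e)
      rw [subgroupBlockCoeff, subgroupBlockCoeff, dif_neg hk1, dif_neg hk]
  refine ⟨h1, fun k hk => ?_, fun b β hb hβ hbe hβe => ?_⟩
  · rw [← hG, subgroupBlockCoeff, dif_neg fun e => hk (hCQ e)]
  · let σ : Subgroup.centralizer ({v} : Set G) ≃*
        Subgroup.centralizer ({(⟨v, hPH hv⟩ : H)} : Set H) :=
      { toFun := fun k => ⟨⟨k, hle k.2⟩, Subgroup.mem_centralizer_singleton_iff.2
          (Subtype.ext (Subgroup.mem_centralizer_singleton_iff.1 k.2))⟩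
        invFun := fun l => ⟨((l : H) : G), Subgroup.mem_centralizer_singleton_iff.2
          (congrArg Subtype.val (Subgroup.mem_centralizer_singleton_iff.1 l.2))⟩
        left_inv := fun _ => rfl
        right_inv := fun _ => rfl
        map_mul' := fun _ _ => rfl }
    have := Fintype.ofFinite (Subgroup.centralizer ({v} : Set G))
    have := Fintype.ofFinite (Subgroup.centralizer ({(⟨v, hPH hv⟩ : H)} : Set H))
    rw [show b = blockMap σ β from ?_, blockRank_blockMap hM σ hβ]
    refine subgroupBlockCoeff_injective hM hb (isPBlock_blockMap σ hβ) ?_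
    rw [hbe]
    funext k
    unfold subgroupBlockCoeff
    by_cases hk : k ∈ Subgroup.centralizer ({v} : Set G)
    · rw [dif_pos hk, blockCoeff_blockMap, ← h1 ⟨k, hle hk⟩, ← hβe, subgroupBlockCoeff,
        dif_pos (show (⟨k, hle hk⟩ : H) ∈
          Subgroup.centralizer ({(⟨v, hPH hv⟩ : H)} : Set H) from (σ ⟨k, hk⟩).2)]
      rfl
    · rw [dif_neg hk, ← hG, subgroupBlockCoeff, dif_neg (by rwa [cen_zpowers])]

end CfsgLib.BlockA.SubsectionReps
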