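import Cfsg.Agent.Lib.BlockA.QuatCentral
import Cfsg.Agent.Lib.BlockA.SubsectionReps
import Cfsg.Agent.Lib.BlockA.DihedralCentral
import Cfsg.Agent.Lib.BlockA.MajorValuation

/-!
The invariants of a block with quaternion defect group.
-/

set_option autoImplicit false
set_option linter.unusedSectionVars false
set_option maxHeartbeats 2000000

namespace CfsgLib.BlockA.QuatDefect

open Cfsg CfsgLib.Block CfsgLib.BlockA CfsgLib.BlockB CfsgLib.BlockB.SubSum
  CfsgLib.BlockB.HeightBound AbelianSub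
open scoped ComplexConjugate

universe u

variable {G : Type u} [Group G] [Fintype G] {M : Ideal AlgInt} [M.IsPrime]
  {B : Set (IrrCharacter G)}

open Classical in
/-- The sign of a root of order two. -/
noncomputable def signRoot (ω : ℂ) : ℤ := if ω = 1 then 1 else -1

theorem signRoot_cast {ω : ℂ} (h : ω ^ 2 = 1) : (signRoot ω : ℂ) = ω := by
  rw [pow_two, mul_self_eq_one_iff] at h
  rcases h with rfl | rfl <;> norm_num [signRoot]

/-- **The form of a block on a major subsection at an involution.** -/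
theorem gram_of_major {x : G} [Fintype (Subgroup.centralizer ({x} : Set G))]
    [Fintype (IrrCharacter G)] (hM : IsPModular 2 M) (hx2 : orderOf x = 2)
    {g : Set (IrrCharacter (Subgroup.centralizer ({x} : Set G)))}
    (hind : IsInducedBlock M (Subgroup.centralizer ({x} : Set G)) g B)
    {N : IrrCharacter G → IrrCharacter (Subgroup.centralizer ({x} : Set G)) → ℤ}
    (hN : ∀ χ θ, N χ θ = (resMult x χ θ : ℤ) * signRoot (centralRoot x θ)) :
    (∀ χ ξ, subEntry 2 g χ ξ 1 =
      ((∑ θ ∈ g.toFinite.toFinset, ∑ η ∈ g.toFinite.toFinset,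
        N χ θ * N ξ η * scaled 2 g θ η : ℤ) : ℂ)) ∧
    ∀ y ∈ g, ∀ y' ∈ g, ∑ χ ∈ B.toFinite.toFinset,
      (∑ θ ∈ g.toFinite.toFinset, N χ θ * scaled 2 g θ y) *
        (∑ θ ∈ g.toFinite.toFinset, N χ θ * scaled 2 g θ y') =
      ((2 ^ blockDefect 2 g : ℕ) : ℤ) * scaled 2 g y y' := by
  classical
  have := Fact.mk hM.1
  have hx : ∃ k : ℕ, orderOf x = 2 ^ k := ⟨1, by rw [hx2, pow_one]⟩
  have := Fintype.ofFinite (IrrCharacter (Subgroup.centralizer ({x} : Set G)))
  set F := g.toFinite.toFinset with hF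
  have hω : ∀ θ : IrrCharacter (Subgroup.centralizer ({x} : Set G)), (signRoot (centralRoot x θ) : ℂ) = centralRoot x θ := fun θ =>
    signRoot_cast (by rw [← hx2]; exact (centralRoot_spec hM hx θ).2.1)
  have hωc : ∀ θ : IrrCharacter (Subgroup.centralizer ({x} : Set G)), conj (centralRoot x θ) = centralRoot x θ := fun θ => by
    rw [← hω θ, map_intCast]
  have hNc : ∀ χ θ, (N χ θ : ℂ) = centralRoot x θ * (resMult x χ θ : ℂ) := fun χ θ => by
    rw [hN, Int.cast_mul, Int.cast_natCast, hω, mul_comm]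
  refine ⟨fun χ ξ => ?_, fun y hy y' hy' => ?_⟩
  · rw [subEntry, Int.cast_sum, ← hF]
    refine Finset.sum_congr rfl fun θ _ => ?_
    rw [Int.cast_sum]
    refine Finset.sum_congr rfl fun η _ => ?_
    push_cast
    rw [hNc, hNc, pow_one, pow_one, hωc]
    simp only [scaled, minExp]
    push_cast
    ring
  · set a := (Nat.card (Subgroup.centralizer ({x} : Set G))).factorization 2
    set d := blockDefect 2 g
    have hadd : minExp 2 g + d = a := sInf_degree_add_blockDefect hM hind.1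
    set ψ : IrrCharacter (Subgroup.centralizer ({x} : Set G)) → (Subgroup.centralizer ({x} : Set G)) → ℂ := fun θ v => regInd 2 v * (θ : (Subgroup.centralizer ({x} : Set G)) → ℂ) v with hψ
    have hq : ∀ θ : IrrCharacter (Subgroup.centralizer ({x} : Set G)), ∀ y ∈ g,
        (scaled 2 g θ y : ℂ) = ((2 ^ d : ℕ) : ℂ) * classInner (ψ θ) (y : (Subgroup.centralizer ({x} : Set G)) → ℂ) := by
      intro θ y hy
      rw [hψ, classInner_regInd_eq_regEntry, ← pow_mul_scaled hM hind.1 hy,
        show (Nat.card (Subgroup.centralizer ({x} : Set G))).factorization 2 = minExp 2 g + d from hadd.symm, pow_add]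
      push_cast
      field_simp
    have hsec : ∀ χ : IrrCharacter G, sectionFun 2 x g (χ : G → ℂ) =
        ∑ θ ∈ F, (N χ θ : ℂ) • ψ θ := fun χ => by
      funext v
      rw [sectionFun_eq hM hx g χ v, Finset.sum_apply]
      refine Finset.sum_congr rfl fun θ _ => ?_
      rw [hNc]
      rfl
    have hK : ∀ χ : IrrCharacter G, ∀ y ∈ g, ((∑ θ ∈ F, N χ θ * scaled 2 g θ y : ℤ) : ℂ) =
        ((2 ^ d : ℕ) : ℂ) * classInner (sectionFun 2 x g (χ : G → ℂ)) (y : (Subgroup.centralizer ({x} : Set G)) → ℂ) := by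
      intro χ y hy
      rw [hsec, CfsgLib.Char.classInner_sum_left, Finset.mul_sum, Int.cast_sum]
      refine Finset.sum_congr rfl fun θ _ => ?_
      rw [Int.cast_mul, hq θ y hy, CfsgLib.Char.classInner_smul_left]
      ring
    have hkey : ∑ χ : IrrCharacter G, classInner (sectionFun 2 x g (χ : G → ℂ)) (y : (Subgroup.centralizer ({x} : Set G)) → ℂ) *
        conj (classInner (sectionFun 2 x g (χ : G → ℂ)) (y' : (Subgroup.centralizer ({x} : Set G)) → ℂ)) =
        ∑ θ ∈ F, classInner (ψ θ) (y : (Subgroup.centralizer ({x} : Set G)) → ℂ) * conj (classInner (ψ θ) (y' : (Subgroup.centralizer ({x} : Set G)) → ℂ)) := by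
      set c := ((Nat.card (Subgroup.centralizer ({x} : Set G)) : ℂ))⁻¹
      have hL : ∀ f : (Subgroup.centralizer ({x} : Set G)) → ℂ, classInner f (y : (Subgroup.centralizer ({x} : Set G)) → ℂ) * conj (classInner f (y' : (Subgroup.centralizer ({x} : Set G)) → ℂ)) =
          ∑ v : (Subgroup.centralizer ({x} : Set G)), ∑ w : (Subgroup.centralizer ({x} : Set G)), c * conj c * (conj ((y : (Subgroup.centralizer ({x} : Set G)) → ℂ) v) * (y' : (Subgroup.centralizer ({x} : Set G)) → ℂ) w) *
            (f v * conj (f w)) := by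
        intro f
        rw [CfsgLib.Char.classInner_def, CfsgLib.Char.classInner_def, map_mul, map_sum,
          mul_mul_mul_comm, Finset.sum_mul_sum, Finset.mul_sum]
        refine Finset.sum_congr rfl fun v _ => ?_
        rw [Finset.mul_sum]
        refine Finset.sum_congr rfl fun w _ => ?_
        rw [map_mul, Complex.conj_conj]
        ring
      simp only [hL]
      rw [Finset.sum_comm]
      conv_rhs => rw [Finset.sum_comm]
      refine Finset.sum_congr rfl fun v _ => ?_
      rw [Finset.sum_comm]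
      conv_rhs => rw [Finset.sum_comm]
      refine Finset.sum_congr rfl fun w _ => ?_
      rw [← Finset.mul_sum, ← Finset.mul_sum, sum_sectionFun hM hx hind.1]
      congr 1
      rw [Finset.mul_sum]
      refine Finset.sum_congr rfl fun θ _ => ?_
      rw [hψ]
      simp only [map_mul]
      rw [show conj (regInd 2 w) = regInd 2 w by unfold regInd; split <;> simp]
      ring
    have hsq : ∑ θ ∈ F, scaled 2 g θ y * scaled 2 g θ y' =
        ((2 ^ d : ℕ) : ℤ) * scaled 2 g y y' := by
      rw [← sum_scaled_mul hM hind.1 hy hy']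
      exact Finset.sum_congr rfl fun θ _ => by rw [scaled_symm g θ y]
    refine Int.cast_injective (α := ℂ) ?_
    rw [← hsq, Int.cast_sum, Int.cast_sum,
      Finset.sum_subset (Finset.subset_univ B.toFinite.toFinset) fun χ _ hχ => by
        have h0 := sectionFun_eq_zero hM hx hind (fun h => hχ (B.toFinite.mem_toFinset.2 h))
        rw [Int.cast_mul, hK χ y hy, h0]
        simp [CfsgLib.Char.classInner_def]]
    calc ∑ χ : IrrCharacter G, (((∑ θ ∈ F, N χ θ * scaled 2 g θ y) *
          (∑ θ ∈ F, N χ θ * scaled 2 g θ y') : ℤ) : ℂ)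
        = ((2 ^ d : ℕ) : ℂ) * ((2 ^ d : ℕ) : ℂ) * ∑ χ : IrrCharacter G,
            classInner (sectionFun 2 x g (χ : G → ℂ)) (y : (Subgroup.centralizer ({x} : Set G)) → ℂ) *
              conj (classInner (sectionFun 2 x g (χ : G → ℂ)) (y' : (Subgroup.centralizer ({x} : Set G)) → ℂ)) := by
          rw [Finset.mul_sum]
          refine Finset.sum_congr rfl fun χ _ => ?_
          have e := congrArg conj (hK χ y' hy')
          rw [map_intCast, map_mul, Complex.conj_natCast] at e
          rw [Int.cast_mul, hK χ y hy, e]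
          ring
      _ = _ := by
          rw [hkey, Finset.mul_sum]
          refine Finset.sum_congr rfl fun θ _ => ?_
          have e := congrArg conj (hq θ y' hy')
          rw [map_intCast, map_mul, Complex.conj_natCast] at e
          rw [Int.cast_mul, hq θ y hy, e]
          ring

theorem QRot.eq_z_of_mul_self {P : Subgroup G} {r : G} {h : ℕ} (hQ : QRot P r h) {w : G}
    (hw : w ∈ P) (h2 : w * w = 1) : w = 1 ∨ w = r ^ h := by
  by_cases hm : w ∈ Subgroup.zpowers r
  · obtain ⟨i, rfl⟩ := Subgroup.mem_zpowers_iff.1 hm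
    rw [← zpow_add, ← orderOf_dvd_iff_zpow_eq_one, hQ.orderOf_eq] at h2
    obtain ⟨c, hc⟩ := h2
    push_cast at hc
    rcases Int.even_or_odd' c with ⟨d, rfl | rfl⟩
    · refine Or.inl ?_
      rw [← orderOf_dvd_iff_zpow_eq_one, hQ.orderOf_eq]
      exact ⟨d, by push_cast; linarith⟩
    · refine Or.inr ?_
      rw [← zpow_natCast r h, zpow_eq_zpow_iff_modEq, hQ.orderOf_eq, Int.modEq_iff_dvd]
      exact ⟨-d, by push_cast; linarith⟩
  · exact absurd ((hQ.outside w hw hm).1.symm.trans h2) hQ.z_ne_one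

theorem QRot.z_mem_zpowers {P : Subgroup G} {r : G} {h : ℕ} (hQ : QRot P r h) {v : G} (hv : v ∈ P)
    (h1 : v ≠ 1) : r ^ h ∈ Subgroup.zpowers v := by
  obtain ⟨j, hj⟩ := (IsPGroup.iff_orderOf.1 hQ.isTwoGroup) ⟨v, hv⟩
  rw [Subgroup.orderOf_mk] at hj
  rcases j with _ | j
  · exact absurd (orderOf_eq_one_iff.1 (hj.trans (pow_zero 2))) h1
  have ho : orderOf (v ^ 2 ^ j) = 2 := by
    rw [orderOf_pow_of_dvd (pow_ne_zero _ two_ne_zero) (hj ▸ pow_dvd_pow 2 (Nat.le_succ j)), hj,
      pow_succ, Nat.mul_div_cancel_left _ (pow_pos two_pos j)]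
  rcases hQ.eq_z_of_mul_self (P.pow_mem hv (2 ^ j))
      (by rw [← pow_two, ← orderOf_dvd_iff_pow_eq_one, ho]) with e | e
  · rw [e, orderOf_one] at ho
    omega
  · exact e ▸ Subgroup.npow_mem_zpowers v _

open SubsectionReps in
/-- **The invariants of a block with quaternion defect group.** -/
theorem invariants {P : Subgroup G} {c : Set (IrrCharacter (Subgroup.centralizer (P : Set G)))}
    {r : G} {h m : ℕ} (hM : IsPModular 2 M) (hmax : IsMaximalBrauerPair 2 M B P c)
    (hQ : QRot P r h) (hm : h = 2 ^ m) :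
    1 ≤ blockRank 2 B ∧ blockRank 2 B ≤ 3 ∧ Nat.card B = blockRank 2 B + h + 2 ∧
      Nat.card {χ : IrrCharacter G // χ ∈ B ∧ blockHeight 2 B (χ : G → ℂ) = 0} = 4 ∧
      (∀ χ ∈ B, blockHeight 2 B (χ : G → ℂ) = 0 ∨ blockHeight 2 B (χ : G → ℂ) = 1 ∨
        blockHeight 2 B (χ : G → ℂ) = m) ∧
      (2 ≤ m → Nat.card {χ : IrrCharacter G // χ ∈ B ∧ blockHeight 2 B (χ : G → ℂ) = 1} = h - 1) := by
  classical
  have := Fact.mk hM.1
  have := Fintype.ofFinite (IrrCharacter G)
  have hB : IsPBlock M B := hmax.1.2.1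
  have hPD : IsDefectGroup 2 M B P := (maximal_core hM hmax).1
  set z := r ^ h with hzdef
  set C := Subgroup.centralizer ({z} : Set G) with hCdef
  have := Fintype.ofFinite C
  have hPC : P ≤ C := hQ.le_cen
  obtain ⟨g, hc, hind, hmax'⟩ := DihedralDefect.exists_central_data hM hmax hPD
    (Subgroup.zpowers_le.2 hQ.z_mem) (by rw [cen_zpowers]; exact hPC) (H := C) (cen_zpowers z).symm
  have hQ' := hQ.subgroupOf hPC
  have hzC : ∀ t : C, Commute ((⟨r, hPC hQ.mem⟩ : C) ^ h) t := fun t => Subtype.ext (by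
    push_cast
    exact (Subgroup.mem_centralizer_singleton_iff.1 t.2).symm)
  obtain ⟨e, s, A, he, hrg, hmod, hS, hcardg⟩ := exists_central_shape hM hmax' hQ' hzC
  have hdg : blockDefect 2 g = blockDefect 2 B := by
    have h1 := natCard_defectGroup hM hmax'.1.2.1 (maximal_core hM hmax').1
    rw [Nat.card_congr (Subgroup.subgroupOfEquivOfLe hPC).toEquiv,
      natCard_defectGroup hM hB hPD] at h1
    exact Nat.pow_right_injective le_rfl h1.symm
  have hdB : 2 ^ blockDefect 2 B = 4 * h := by rw [← natCard_defectGroup hM hB hPD, hQ.card_eq]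
  -- the rows
  set F := g.toFinite.toFinset with hF
  set T := B.toFinite.toFinset with hT
  have hmT : ∀ {χ}, χ ∈ T ↔ χ ∈ B := B.toFinite.mem_toFinset
  set N : IrrCharacter G → IrrCharacter C → ℤ := fun χ θ =>
    (resMult z χ θ : ℤ) * signRoot (centralRoot z θ) with hN
  obtain ⟨hsub, hgram⟩ := gram_of_major hM hQ.orderOf_z (N := N) hind (fun _ _ => rfl)
  have hgram' : ∀ y ∈ F, ∀ y' ∈ F, ∑ χ ∈ T, (∑ θ ∈ F, N χ θ * scaled 2 g θ y) *
      (∑ θ ∈ F, N χ θ * scaled 2 g θ y') = 4 * (h : ℤ) * scaled 2 g y y' := by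
    intro y hy y' hy'
    rw [hgram y (g.toFinite.mem_toFinset.1 hy) y' (g.toFinite.mem_toFinset.1 hy'), hdg, hdB]
    push_cast
    rfl
  have hx : ∃ k : ℕ, orderOf z = 2 ^ k := ⟨1, by rw [pow_one]; exact hQ.orderOf_z⟩
  have hfac : ∀ j : ℕ, (2 ^ j : ℕ).factorization 2 = j := fun j => by
    rw [Nat.Prime.factorization_pow Nat.prime_two, Finsupp.single_eq_same]
  obtain ⟨ξ0, hξ0, hξ00⟩ := exists_height_zero hM hB
  have hR := (hS.coords hQ.h_even hQ.h_pos (by norm_num) T N hgram').rows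
    (fun χ : IrrCharacter G => blockHeight 2 B (χ : G → ℂ))
    (fun χ hχ ξ _ => by
      have h1 := memLocalRing_subEntry_div hM hx hind hdg (hmT.1 hχ) ξ
      rw [hsub] at h1
      have h2 := pow_dvd_of_memLocalRing hM h1
      rw [hfac] at h2
      push_cast at h2
      exact h2)
    (fun χ hχ ξ hξ hξ' hdvd => by
      refine (memLocalIdeal_subEntry_div_iff hM hx hind hdg (hmT.1 hχ) (hmT.1 hξ)).1 ?_ hξ'
      rw [hsub, memLocalIdeal_intCast_div_iff hM (pow_ne_zero _ two_ne_zero), hfac]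
      simpa using hdvd)
    ⟨ξ0, hmT.2 hξ0, hξ00⟩ (card_height_zero_le hM hmax hQ) he hQ.two_le hQ.h_even hmod
  -- the representatives
  obtain ⟨Y, hY, hrep⟩ := exists_reps hM hmax
  have hYrep : ∀ v ∈ P, (v = 1 ∨ v = z) → v ∈ Y := by
    intro v hv hv'
    obtain ⟨y, ⟨hy, a, ha, -⟩, -⟩ := hrep v hv
    rcases hv' with rfl | rfl
    · rw [mul_one, mul_inv_cancel] at ha
      exact ha ▸ hy
    · have h2 : y * y = 1 := by
        rw [← ha]
        calc a * z * a⁻¹ * (a * z * a⁻¹) = a * (z * z) * a⁻¹ := by group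
          _ = 1 := by rw [hzdef, hQ.z_sq, mul_one, mul_inv_cancel]
      rcases hQ.eq_z_of_mul_self (hY y hy) h2 with rfl | rfl
      · exact absurd (conj_eq_one_iff.1 ha) hQ.z_ne_one
      · exact hy
  choose bG hbG hbGβ using fun y : G => fun hy : y ∈ P =>
    NilpotentSection.exists_block_below hM hmax hy (K := Subgroup.centralizer ({y} : Set G)) rfl
  let rk : G → ℕ := fun y => if hy : y ∈ P then blockRank 2 (bG y hy) else 0
  have hkB : Nat.card B = ∑ y ∈ Y, rk y :=
    natCard_eq_sum_reps hM hmax Y hY hrep rk fun y hy b hb hβ => by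
      simp only [rk, dif_pos (hY y hy)]
      rw [subgroupBlockCoeff_injective hM hb (hbG y (hY y hy)).1
        (hβ.trans (hbGβ y (hY y hy)).symm)]
  -- the same representatives in the centralizer
  have hle : ∀ v ∈ P, v ≠ 1 → Subgroup.centralizer ({v} : Set G) ≤ C := fun v hv h1 w hw => by
    obtain ⟨i, hi⟩ := Subgroup.mem_zpowers_iff.1 (hQ.z_mem_zpowers hv h1)
    rw [hCdef, Subgroup.mem_centralizer_singleton_iff, hzdef, ← hi]
    exact ((show Commute w v from Subgroup.mem_centralizer_singleton_iff.1 hw).zpow_right i).eq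
  have htrans := fun v (hv : v ∈ P) (h1 : v ≠ 1) =>
    beta_subgroupOf hM hmax hPC hc hmax' hv (hle v hv h1)
  have hzeq : ∀ v ∈ P, ∀ w : G, Rel hM hmax v w → w ∈ P → v = z → w = z := by
    rintro v hv w ⟨a, ha, -⟩ hw rfl
    have h2 : w * w = 1 := by
      rw [← ha]
      calc a * z * a⁻¹ * (a * z * a⁻¹) = a * (z * z) * a⁻¹ := by group
        _ = 1 := by rw [hzdef, hQ.z_sq, mul_one, mul_inv_cancel]
    rcases hQ.eq_z_of_mul_self hw h2 with rfl | e'
    · exact absurd (conj_eq_one_iff.1 ha) hQ.z_ne_one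
    · exact e'
  have hreliff : ∀ v (hv : v ∈ P) w (hw : w ∈ P),
      Rel hM hmax' (⟨v, hPC hv⟩ : C) (⟨w, hPC hw⟩ : C) ↔ Rel hM hmax v w := by
    intro v hv w hw
    by_cases h1 : v = 1
    · subst h1
      constructor
      · rintro ⟨a, ha, -⟩
        have e' := congrArg Subtype.val ha
        push_cast at e'
        rw [mul_one, mul_inv_cancel] at e'
        subst e'
        exact rel_refl hM hmax 1
      · rintro ⟨a, ha, -⟩
        rw [mul_one, mul_inv_cancel] at ha
        subst ha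
        exact rel_refl hM hmax' _
    obtain ⟨hv1, hv2, -⟩ := htrans v hv h1
    constructor
    · rintro ⟨a, ha, hβ⟩
      have ha' : (a : G) * v * (a : G)⁻¹ = w := by
        have := congrArg Subtype.val ha
        push_cast at this
        exact this
      have hw1 : w ≠ 1 := fun e' => h1 (conj_eq_one_iff.1 (ha'.trans e'))
      obtain ⟨hwv, hwz, -⟩ := htrans w hw hw1
      refine ⟨a, ha', funext fun k => ?_⟩
      by_cases hk : k ∈ C
      · have e' := congrFun hβ ⟨k, hk⟩
        rw [hwv, conjFun, hv1] at e'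
        push_cast at e'
        exact e'
      · rw [hwz k hk, conjFun]
        exact hv2 _ fun hh => hk (by
          have := C.mul_mem (C.mul_mem a.2 hh) (C.inv_mem a.2)
          simpa [mul_assoc] using this)
    · rintro ⟨a, ha, hβ⟩
      have hw1 : w ≠ 1 := fun e' => h1 (conj_eq_one_iff.1 (ha.trans e'))
      obtain ⟨hwv, -, -⟩ := htrans w hw hw1
      have haC : a ∈ C := by
        obtain ⟨i, hi⟩ := Subgroup.mem_zpowers_iff.1 (hQ.z_mem_zpowers hv h1)
        have hp : a * z * a⁻¹ ∈ P := by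
          rw [hzdef, ← hi, ← conj_zpow, ha]
          exact P.zpow_mem hw i
        have h2 : a * z * a⁻¹ * (a * z * a⁻¹) = 1 := by
          calc a * z * a⁻¹ * (a * z * a⁻¹) = a * (z * z) * a⁻¹ := by group
            _ = 1 := by rw [hzdef, hQ.z_sq, mul_one, mul_inv_cancel]
        rcases hQ.eq_z_of_mul_self hp h2 with e' | e'
        · exact absurd (conj_eq_one_iff.1 e') hQ.z_ne_one
        · rw [hCdef, Subgroup.mem_centralizer_singleton_iff]
          exact mul_inv_eq_iff_eq_mul.1 e'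
      refine ⟨⟨a, haC⟩, Subtype.ext ha, funext fun k => ?_⟩
      rw [hwv, conjFun, hv1]
      push_cast
      exact congrFun hβ (k : G)
  let f : G → C := fun y => if hy : y ∈ C then ⟨y, hy⟩ else 1
  have hf : ∀ y (hy : y ∈ P), f y = (⟨y, hPC hy⟩ : C) := fun y hy => dif_pos (hPC hy)
  have hfinj : Set.InjOn f (Y : Set G) := fun y hy y' hy' e' => by
    rw [hf y (hY y hy), hf y' (hY y' hy')] at e'
    exact congrArg Subtype.val e'
  choose bC hbC hbCβ using fun y : C => fun hy : y ∈ P.subgroupOf C =>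
    NilpotentSection.exists_block_below hM hmax' hy (K := Subgroup.centralizer ({y} : Set C)) rfl
  let rk' : C → ℕ := fun y => if hy : y ∈ P.subgroupOf C then blockRank 2 (bC y hy) else 0
  have hYC : ∀ y ∈ Y.image f, y ∈ P.subgroupOf C := fun y hy => by
    obtain ⟨y', hy', rfl⟩ := Finset.mem_image.1 hy
    rw [hf y' (hY y' hy')]
    exact hY y' hy'
  have hkg : Nat.card g = ∑ y ∈ Y.image f, rk' y := by
    refine natCard_eq_sum_reps hM hmax' _ hYC ?_ rk' fun y hy b hb hβ => ?_
    · rintro ⟨v, hvC⟩ hv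
      have hv' : v ∈ P := hv
      obtain ⟨y, ⟨hy, hrel⟩, huniq⟩ := hrep v hv'
      refine ⟨f y, ⟨Finset.mem_image_of_mem f hy, ?_⟩, ?_⟩
      · rw [hf y (hY y hy)]
        exact (hreliff v hv' y (hY y hy)).2 hrel
      · rintro w ⟨hw, hrel'⟩
        obtain ⟨y', hy', rfl⟩ := Finset.mem_image.1 hw
        rw [hf y' (hY y' hy')] at hrel'
        rw [huniq y' ⟨hy', (hreliff v hv' y' (hY y' hy')).1 hrel'⟩]
    · simp only [rk', dif_pos (hYC y hy)]
      rw [subgroupBlockCoeff_injective hM hb (hbC y (hYC y hy)).1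
        (hβ.trans (hbCβ y (hYC y hy)).symm)]
  rw [Finset.sum_image hfinj] at hkg
  have hY1 : (1 : G) ∈ Y := hYrep 1 (one_mem P) (Or.inl rfl)
  have hYz : z ∈ Y := hYrep z hQ.z_mem (Or.inr rfl)
  have hYz' : z ∈ Y.erase 1 := Finset.mem_erase.2 ⟨hQ.z_ne_one, hYz⟩
  have hrkeq : ∀ y ∈ Y, y ≠ 1 → rk' (f y) = rk y := by
    intro y hy hy1
    have hyP := hY y hy
    rw [hf y hyP]
    simp only [rk, rk', dif_pos hyP, dif_pos (show (⟨y, hPC hyP⟩ : C) ∈ P.subgroupOf C from hyP)]
    exact ((htrans y hyP hy1).2.2 _ _ (hbG y hyP).1 (hbC _ _).1 (hbGβ y hyP) (hbCβ _ _)).symm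
  have hrk1 : rk 1 = blockRank 2 B := by
    simp only [rk, dif_pos (one_mem P)]
    exact blockRank_of_central hM hmax (one_mem P) (fun t => Commute.one_left t) (hbG _ _).1
      (hbGβ _ _)
  have hrk1' : rk' (f 1) = blockRank 2 g := by
    have hm1 : (f 1) ∈ P.subgroupOf C := hYC _ (Finset.mem_image_of_mem f hY1)
    simp only [rk', dif_pos hm1]
    refine blockRank_of_central hM hmax' hm1 (fun t => ?_) (hbC _ _).1 (hbCβ _ _)
    rw [hf 1 (one_mem P)]
    exact Commute.one_left t
  have hrkz : rk' (f z) = blockRank 2 g := by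
    have hmz : (f z) ∈ P.subgroupOf C := hYC _ (Finset.mem_image_of_mem f hYz)
    simp only [rk', dif_pos hmz]
    refine blockRank_of_central hM hmax' hmz (fun t => ?_) (hbC _ _).1 (hbCβ _ _)
    rw [hf z hQ.z_mem]
    exact Subtype.ext (Subgroup.mem_centralizer_singleton_iff.1 t.2).symm
  rw [← Finset.add_sum_erase _ _ hY1, ← Finset.add_sum_erase _ _ hYz', hrk1,
    ← hrkeq z hYz hQ.z_ne_one, hrkz] at hkB
  rw [← Finset.add_sum_erase _ _ hY1, ← Finset.add_sum_erase _ _ hYz', hrk1', hrkz,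
    Finset.sum_congr rfl fun y hy => hrkeq y
      (Finset.mem_of_mem_erase (Finset.mem_of_mem_erase hy))
      (Finset.ne_of_mem_erase (Finset.mem_of_mem_erase hy)), hcardg] at hkg
  have hk : Nat.card B = blockRank 2 B + h + 2 := by
    have hsum_eq : ∀ S : Finset G, ∑ x ∈ S, rk x = Finset.sum S rk := fun S => rfl
    simp only [hrg] at hkg ⊢
    simp only [hsum_eq] at hkB hkg
    omega
  have hl1 := one_le_blockRank hM hB
  have hcard : T.card = blockRank 2 B + h + 2 := by
    rw [hT, ← Nat.card_eq_card_finite_toFinset]; exact hk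
  obtain ⟨h3, h4, hhts, hone⟩ := hR.invariants hm hcard hl1 fun hl => by
    obtain ⟨g₀, d, hg₀, hdeg, hsum, -⟩ := rank_one_degrees hM hB hl
    rw [finsum_mem_eq_finite_toFinset_sum _ B.toFinite, hdB] at hsum
    refine le_trans (Finset.sum_le_sum fun χ hχ => ?_) hsum.le
    have hχ' := hmT.1 hχ
    have hd0 : d χ ≠ 0 := fun e' => charDegree_ne_zero χ.2 (by rw [hdeg χ hχ', e', mul_zero])
    have hdvd : 2 ^ blockHeight 2 B (χ : G → ℂ) ∣ d χ := by
      rw [Nat.prime_two.pow_dvd_iff_le_factorization hd0]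
      have hmin : g₀.factorization 2 ≤ minExp 2 B := by
        refine le_csInf ⟨_, χ, hχ', rfl⟩ ?_
        rintro _ ⟨ξ, hξ, rfl⟩
        dsimp only
        rw [hdeg ξ hξ, Nat.factorization_mul hg₀.ne'
          (fun e' => charDegree_ne_zero ξ.2 (by rw [hdeg ξ hξ, e', mul_zero])), Finsupp.add_apply]
        exact Nat.le_add_right _ _
      have := degree_exp hM hB hχ'
      rw [hdeg χ hχ', Nat.factorization_mul hg₀.ne' hd0, Finsupp.add_apply] at this
      omega
    calc 4 ^ blockHeight 2 B (χ : G → ℂ) = (2 ^ blockHeight 2 B (χ : G → ℂ)) ^ 2 := by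
          rw [← pow_mul, mul_comm, pow_mul]; rfl
      _ ≤ _ := Nat.pow_le_pow_left (Nat.le_of_dvd (Nat.pos_of_ne_zero hd0) hdvd) 2
  have hsubt : ∀ j, Nat.card {χ : IrrCharacter G // χ ∈ B ∧ blockHeight 2 B (χ : G → ℂ) = j} =
      (T.filter fun χ : IrrCharacter G => blockHeight 2 B (χ : G → ℂ) = j).card := fun j => by
    rw [← Nat.card_eq_finsetCard]
    exact Nat.card_congr (Equiv.subtypeEquivRight fun χ => by rw [Finset.mem_filter, hmT])
  refine ⟨hl1, h3, hk, ?_, fun χ hχ => hhts χ (hmT.2 hχ), fun h2 => ?_⟩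
  · rw [hsubt]; exact h4
  · rw [hsubt]; exact hone h2

end CfsgLib.BlockA.QuatDefect
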