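import Cfsg.Agent.Lib.BlockA.SemiDihCentral
import Cfsg.Agent.Lib.BlockA.QuatBlock

/-!
The invariants of a block with semidihedral defect group.
-/

set_option autoImplicit false
set_option linter.unusedSectionVars false
set_option maxHeartbeats 2000000

namespace CfsgLib.BlockA.SemiDihDefect

open Cfsg CfsgLib.Block CfsgLib.BlockA CfsgLib.BlockB CfsgLib.BlockB.SubSum
  CfsgLib.BlockB.HeightBound AbelianSub SectionOrth NilpotentSection
open CfsgLib.BlockA.QuatDefect (Shape scaled degree_exp gram_of_major signRoot minExp eq_of_exact)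
open scoped ComplexConjugate

universe u

variable {G : Type u} [Group G] [Fintype G] {M : Ideal AlgInt} [M.IsPrime]
  {B : Set (IrrCharacter G)}

/-- The arithmetic of the rows. -/
theorem rows_invariants {α : Type*} {B : Finset α} {ht : α → ℕ} {h e : ℕ} {s : α → ℤ}
    {a : Fin e → α → ℤ} (hR : QuatDefect.Rows B ht h e s a) (he : e ≤ 1) (h4 : 4 ≤ h) {l t m : ℕ}
    (hm : h = 2 ^ m) (hl : B.card = l + h + 1 + t) (hl1 : 1 ≤ l)
    (hone : l = 1 → ∑ x ∈ B, 4 ^ ht x ≤ 4 * h) :
    (B.card = h + 3 ∨ B.card = h + 4) ∧ l ≤ 3 ∧ (l = 3 → B.card = h + 4) ∧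
      (l = 1 → B.card = h + 3) ∧ (B.filter fun x => ht x = 0).card = 4 ∧
      (B.filter fun x => ht x = 1).card = h - 1 ∧
      ∀ x ∈ B, ht x = 0 ∨ ht x = 1 ∨ ht x = m := by
  classical
  obtain ⟨c, hinj, hc, hE, hS⟩ := hR.basic
  obtain ⟨y₀, hy₀, hy00⟩ := hR.exists_zero
  have hys := (hR.height_zero_iff hy₀).1 hy00
  have hm2 : 2 ≤ m := by
    by_contra hm0
    have : 2 ^ m ≤ 2 ^ 1 := Nat.pow_le_pow_right two_pos (by omega)
    omega
  set F := B.filter fun x => Odd (s x) with hFdef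
  set S := B.filter fun x => ¬ Odd (s x) ∧ s x ≠ 0 with hSdef
  set Z := B.filter fun x => s x = 0 with hZdef
  have hcard : B.card = F.card + S.card + Z.card := by
    rw [← Finset.card_union_of_disjoint, ← Finset.card_union_of_disjoint]
    · congr 1
      ext x
      simp only [hFdef, hSdef, hZdef, Finset.mem_union, Finset.mem_filter]
      tauto
    · simp only [hFdef, hSdef, hZdef, Finset.disjoint_left, Finset.mem_union, Finset.mem_filter]
      rintro x (⟨-, h1⟩ | ⟨-, -, h1⟩) ⟨-, h2⟩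
      · rw [h2] at h1; exact Int.not_odd_zero h1
      · exact h1 h2
    · simp only [hFdef, hSdef, Finset.disjoint_left, Finset.mem_filter]
      exact fun x h1 h2 => h2.2.1 h1.2
  have hZe : Z.card ≤ e := by
    refine le_trans (Finset.card_le_card (t := Finset.univ.image c) fun x hx => ?_)
      (Finset.card_image_le.trans (le_of_eq (Finset.card_fin e)))
    obtain ⟨i, rfl⟩ := hE x (Finset.mem_filter.1 hx).1 (Finset.mem_filter.1 hx).2
    exact Finset.mem_image_of_mem c (Finset.mem_univ i)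
  rw [hR.card_odd] at hcard
  -- the heights at zero
  have hZh : ∀ x ∈ Z, ht x = m := by
    intro x hx
    obtain ⟨hxB, hx0⟩ := Finset.mem_filter.1 hx
    obtain ⟨i, hi⟩ := hE x hxB hx0
    have hns : ¬ Odd (s x) := by rw [hx0]; exact Int.not_odd_zero
    have hT : s x * s y₀ + ((h / 2 : ℕ) : ℤ) * ∑ j, a j x * a j y₀ = h ∨
        s x * s y₀ + ((h / 2 : ℕ) : ℤ) * ∑ j, a j x * a j y₀ = -h := by
      rw [hx0, zero_mul, zero_add, Finset.sum_eq_single i (fun j _ hj => by
        rw [(hc j).2.2.2 x hxB hns (fun e' => hj (hinj (e'.symm.trans hi))), zero_mul])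
        (fun hn => absurd (Finset.mem_univ i) hn)]
      obtain ⟨k, hk⟩ := hR.h_even
      have hk' : ((h / 2 : ℕ) : ℤ) * 2 = h := by rw [hk, show (k + k) / 2 = k by omega]; omega
      rcases (hR.short i).1 y₀ hy₀ hys with e1 | e1 <;> rcases hi ▸ (hc i).2.2.1 with e2 | e2 <;>
        rw [e1, e2] <;> omega
    have key : ∀ j, (2 : ℤ) ^ j ∣ s x * s y₀ + ((h / 2 : ℕ) : ℤ) * ∑ j, a j x * a j y₀ ↔ j ≤ m := by
      intro j
      rw [← Nat.pow_dvd_pow_iff_le_right (show 1 < 2 by norm_num), ← Int.natCast_dvd_natCast]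
      rcases hT with e1 | e1 <;> rw [e1, hm] <;> push_cast
      · rfl
      · exact dvd_neg
    have h1 := (key _).1 (hR.dvd x hxB y₀ hy₀)
    have h2 : ¬ ht x + 1 ≤ m := fun h' => hR.exact x hxB y₀ hy₀ hy00 ((key _).2 h')
    omega
  -- the excess of the squares
  have hss := hR.ss
  rw [← Finset.sum_filter_add_sum_filter_not B (fun x => Odd (s x)), ← hFdef] at hss
  have hSsum : ∑ x ∈ B.filter (fun x => ¬ Odd (s x)), s x * s x = ∑ x ∈ S, s x * s x := by
    refine (Finset.sum_subset (fun x hx => ?_) fun x hx hn => ?_).symm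
    · obtain ⟨h1, h2, -⟩ := Finset.mem_filter.1 hx
      exact Finset.mem_filter.2 ⟨h1, h2⟩
    · obtain ⟨h1, h2⟩ := Finset.mem_filter.1 hx
      have : s x = 0 := by
        by_contra h3
        exact hn (Finset.mem_filter.2 ⟨h1, h2, h3⟩)
      rw [this, mul_zero]
  rw [hSsum] at hss
  have hFex : ∀ x ∈ F, 0 ≤ s x * s x - 1 ∧ (8 : ℤ) ∣ s x * s x - 1 := by
    intro x hx
    obtain ⟨k, hk⟩ := (Finset.mem_filter.1 hx).2
    rw [hk]
    refine ⟨by rcases le_or_gt 0 k with e' | e' <;> nlinarith, ?_⟩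
    obtain ⟨t, ht'⟩ := Int.even_mul_succ_self k
    exact ⟨t, by linear_combination 4 * ht'⟩
  have hSex : ∀ x ∈ S, s x * s x - 4 = 0 ∨ 12 ≤ s x * s x - 4 := by
    intro x hx
    obtain ⟨-, h2, h3⟩ := Finset.mem_filter.1 hx
    obtain ⟨k, hk⟩ := Int.not_odd_iff_even.1 h2
    have : k ≤ -2 ∨ k = -1 ∨ k = 1 ∨ 2 ≤ k := by omega
    rw [hk]
    rcases this with e' | e' | e' | e'
    · right; nlinarith
    · left; rw [e']; norm_num
    · left; rw [e']; norm_num
    · right; nlinarith
  have hexc : ∑ x ∈ F, (s x * s x - 1) + ∑ x ∈ S, (s x * s x - 4) =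
      4 * ((h : ℤ) - 1 - S.card) := by
    rw [Finset.sum_sub_distrib, Finset.sum_sub_distrib, Finset.sum_const, Finset.sum_const,
      hR.card_odd]
    simp only [nsmul_eq_mul]
    push_cast
    linarith
  have h8 : (8 : ℤ) ∣ ∑ x ∈ F, (s x * s x - 1) := Finset.dvd_sum fun x hx => (hFex x hx).2
  have hFnn : (0 : ℤ) ≤ ∑ x ∈ F, (s x * s x - 1) := Finset.sum_nonneg fun x hx => (hFex x hx).1
  have hSnn : ∀ x ∈ S, (0 : ℤ) ≤ s x * s x - 4 := fun x hx => by
    rcases hSex x hx with e' | e' <;> linarith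
  have hsum4 : Z.card = 1 → 4 + 4 * S.card + 4 ^ m ≤ ∑ x ∈ B, 4 ^ ht x := by
    intro hZ1
    have hdisj : Disjoint F S ∧ Disjoint (F ∪ S) Z := by
      simp only [hFdef, hSdef, hZdef, Finset.disjoint_left, Finset.mem_union, Finset.mem_filter]
      refine ⟨fun x h1 h2 => h2.2.1 h1.2, ?_⟩
      rintro x (⟨-, h1⟩ | ⟨-, -, h1⟩) ⟨-, h2⟩
      · rw [h2] at h1; exact Int.not_odd_zero h1
      · exact h1 h2
    refine le_trans ?_ (Finset.sum_le_sum_of_subset (f := fun x => 4 ^ ht x)
      (s := (F ∪ S) ∪ Z) (t := B) (Finset.union_subset (Finset.union_subset (Finset.filter_subset _ _)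
        (Finset.filter_subset _ _)) (Finset.filter_subset _ _)))
    rw [Finset.sum_union hdisj.2, Finset.sum_union hdisj.1,
      Finset.sum_congr rfl (g := fun _ => 4 ^ m) fun x (hx : x ∈ Z) => by rw [hZh x hx],
      Finset.sum_const, smul_eq_mul, hZ1, one_mul]
    refine Nat.add_le_add_right (Nat.add_le_add ?_ ?_) _
    · have := Finset.card_nsmul_le_sum F (fun x => 4 ^ ht x) 1 fun x _ => Nat.one_le_pow _ _ (by norm_num)
      rw [show F.card = 4 from hR.card_odd] at this
      simpa using this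
    · rw [mul_comm, ← smul_eq_mul]
      refine Finset.card_nsmul_le_sum S (fun x => 4 ^ ht x) 4 fun x hx => ?_
      obtain ⟨hxB, hxo, -⟩ := Finset.mem_filter.1 hx
      exact le_self_pow₀ (by norm_num) fun e' => hxo ((hR.height_zero_iff hxB).1 e')
  have hsq : 16 ≤ 4 ^ m ∧ 4 * h ≤ 4 ^ m := by
    have h3 : 4 ^ m = h * h := by rw [hm, ← mul_pow]; rfl
    rw [h3]
    exact ⟨Nat.mul_le_mul h4 h4, Nat.mul_le_mul_right h h4⟩
  have hSle : S.card + 1 ≤ h := by omega
  have hup := hR.card_le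
  have hFdvd := h8
  have hS0 : ∑ x ∈ S, (s x * s x - 4) = 0 := by
    refine Finset.sum_eq_zero fun x hx => ?_
    rcases hSex x hx with e' | e'
    · exact e'
    have h1 := Finset.single_le_sum hSnn hx
    omega
  have hfull : S.card = h - 1 := by
    by_contra hne
    rw [hS0, add_zero] at hexc
    by_cases hl' : l = 1
    · rcases Nat.eq_zero_or_pos Z.card with hZ0 | hZ0
      · omega
      · have := hsum4 (by omega)
        have := hone hl'
        omega
    · omega
  have hF1 : ∀ x ∈ F, s x = 1 ∨ s x = -1 := fun x hx => mul_self_eq_mul_self_iff.1 (by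
    have h1 := Finset.single_le_sum (fun y hy => (hFex y hy).1) hx
    have h2 := (hFex x hx).1
    omega)
  have hS2 : ∀ x ∈ S, s x = 2 ∨ s x = -2 := fun x hx => mul_self_eq_mul_self_iff.1 (by
    have h1 := (Finset.sum_eq_zero_iff_of_nonneg hSnn).1 hS0 x hx
    linarith)
  have hSh : ∀ x ∈ S, ht x = 1 := by
    intro x hx
    obtain ⟨hxB, hxo, hx0⟩ := Finset.mem_filter.1 hx
    have h4d : (4 : ℤ) ∣ ((h / 2 : ℕ) : ℤ) * ∑ j, a j x * a j y₀ := by
      have h2 : 2 ≤ m := hm2
      rw [show (4 : ℤ) = 2 * 2 from rfl]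
      refine mul_dvd_mul ?_ (Finset.dvd_sum fun j _ => ?_)
      · show ((2 : ℕ) : ℤ) ∣ ((h / 2 : ℕ) : ℤ)
        rw [Int.natCast_dvd_natCast, hm, show m = (m - 2) + 2 by omega, pow_add]
        exact ⟨2 ^ (m - 2), by omega⟩
      · refine Dvd.dvd.mul_right (even_iff_two_dvd.1 ?_) _
        have := (hR.parity j x hxB).add (Int.not_odd_iff_even.1 hxo)
        rwa [sub_add_cancel] at this
    obtain ⟨q, hq⟩ := h4d
    refine eq_of_exact (hR.dvd x hxB y₀ hy₀) (hR.exact x hxB y₀ hy₀ hy00) ?_ ?_ <;>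
      rcases hS2 x hx with e1 | e1 <;>
      rcases hF1 y₀ (Finset.mem_filter.2 ⟨hy₀, hys⟩) with e2 | e2 <;> rw [e1, e2, hq] <;>
      norm_num <;> omega
  have htri : ∀ x ∈ B, x ∈ F ∨ x ∈ S ∨ x ∈ Z := fun x hx => by
    simp only [hFdef, hSdef, hZdef, Finset.mem_filter]
    tauto
  refine ⟨by omega, by omega, fun hl3 => by omega, fun hl' => ?_, ?_, ?_, fun x hx => ?_⟩
  · rcases Nat.eq_zero_or_pos Z.card with hZ0 | hZ0
    · omega
    · have := hsum4 (by omega)
      have := hone hl'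
      omega
  · rw [Finset.filter_congr fun x hx => hR.height_zero_iff hx]
    exact hR.card_odd
  · rw [← hfull]
    congr 1
    ext x
    rw [Finset.mem_filter]
    refine ⟨fun ⟨hx, h1⟩ => ?_, fun hx => ⟨(Finset.mem_filter.1 hx).1, hSh x hx⟩⟩
    rcases htri x hx with h' | h' | h'
    · rw [(hR.height_zero_iff hx).2 (Finset.mem_filter.1 h').2] at h1
      exact absurd h1 (by norm_num)
    · exact h'
    · rw [hZh x h'] at h1
      omega
  · rcases htri x hx with h' | h' | h'
    · exact Or.inl ((hR.height_zero_iff hx).2 (Finset.mem_filter.1 h').2)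
    · exact Or.inr (Or.inl (hSh x h'))
    · exact Or.inr (Or.inr (hZh x h'))

namespace SRot

variable {P : Subgroup G} {r : G} {h : ℕ} (hS : SRot P r h)
include hS

theorem eq_z_of_mem_zpowers {w : G} (hw : w ∈ Subgroup.zpowers r) (h2 : w * w = 1) :
    w = 1 ∨ w = r ^ h := by
  obtain ⟨i, rfl⟩ := Subgroup.mem_zpowers_iff.1 hw
  rw [← zpow_add, ← orderOf_dvd_iff_zpow_eq_one, hS.orderOf_eq] at h2
  obtain ⟨c, hc⟩ := h2
  push_cast at hc
  rcases Int.even_or_odd' c with ⟨d, rfl | rfl⟩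
  · refine Or.inl ?_
    rw [← orderOf_dvd_iff_zpow_eq_one, hS.orderOf_eq]
    exact ⟨d, by push_cast; linarith⟩
  · refine Or.inr ?_
    rw [← zpow_natCast r h, zpow_eq_zpow_iff_modEq, hS.orderOf_eq, Int.modEq_iff_dvd]
    exact ⟨-d, by push_cast; linarith⟩

/-- The involutions among the powers of an element of order at least four. -/
theorem involution_of_powers {v : G} (hv : v ∈ P) (h1 : v * v ≠ 1) {w : G}
    (hw : w ∈ Subgroup.zpowers v) (h2 : w * w = 1) : w = 1 ∨ w = r ^ h := by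
  by_cases hm : v ∈ Subgroup.zpowers r
  · exact hS.eq_z_of_mem_zpowers ((Subgroup.zpowers_le.2 hm) hw) h2
  · have hvv := (hS.mul_self_cases hv hm).resolve_left h1
    obtain ⟨i, rfl⟩ := Subgroup.mem_zpowers_iff.1 hw
    rcases Int.even_or_odd' i with ⟨d, rfl | rfl⟩
    · refine hS.eq_z_of_mem_zpowers ?_ h2
      rw [zpow_mul, zpow_ofNat, pow_two, hvv]
      exact zpow_mem (Subgroup.npow_mem_zpowers r h) _
    · exfalso
      rw [← zpow_add] at h2
      refine hS.z_ne_one ?_
      rw [← hvv]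
      have h3 : (v * v) ^ (2 * d + 1) = 1 := by
        rw [← h2, (Commute.refl v).mul_zpow, ← zpow_add]
      rwa [hvv, zpow_add, zpow_mul, zpow_one, zpow_ofNat, pow_two, hS.z_sq, one_zpow, one_mul,
        ← hvv] at h3

theorem z_mem_powers {v : G} (hv : v ∈ P) (h1 : v * v ≠ 1) : r ^ h ∈ Subgroup.zpowers v := by
  obtain ⟨j, hj⟩ := (IsPGroup.iff_orderOf.1 hS.isTwoGroup) ⟨v, hv⟩
  rw [Subgroup.orderOf_mk] at hj
  rcases j with _ | j
  · have e := orderOf_eq_one_iff.1 (hj.trans (pow_zero 2))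
    exact absurd (by rw [e, one_mul]) h1
  have ho : orderOf (v ^ 2 ^ j) = 2 := by
    rw [orderOf_pow_of_dvd (pow_ne_zero _ two_ne_zero) (hj ▸ pow_dvd_pow 2 (Nat.le_succ j)), hj,
      pow_succ, Nat.mul_div_cancel_left _ (pow_pos two_pos j)]
  rcases hS.involution_of_powers hv h1 (Subgroup.npow_mem_zpowers v (2 ^ j))
      (by rw [← pow_two, ← orderOf_dvd_iff_pow_eq_one, ho]) with e | e
  · rw [e, orderOf_one] at ho
    omega
  · exact e ▸ Subgroup.npow_mem_zpowers _ _

/-- A centralized involution outside the rotations. -/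
theorem centralizer_reflection {v w : G} (hv : v ∈ P) (hw : w ∈ P)
    (hvr : v ∉ Subgroup.zpowers r) (hc : Commute w v) :
    w ∈ Subgroup.zpowers v ⊔ Subgroup.zpowers (r ^ h) := by
  have key : ∀ u ∈ Subgroup.zpowers r, Commute u v → u ∈ Subgroup.zpowers (r ^ h) := by
    intro u hu hcu
    obtain ⟨i, rfl⟩ := Subgroup.mem_zpowers_iff.1 hu
    have hd : (h : ℤ) ∣ i := by
      by_contra hd
      obtain ⟨l, hl⟩ : ∃ l : ℕ, r ^ i = r ^ l := by
        refine ⟨(i % (2 * h : ℕ)).toNat, ?_⟩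
        have := hS.h_pos
        rw [← zpow_natCast, Int.toNat_of_nonneg (Int.emod_nonneg _ (by omega)), ← hS.orderOf_eq,
          zpow_mod_orderOf]
      refine hvr (hS.mem_of_commute hv (l := l) (fun e => hd ?_) (hl ▸ hcu.symm))
      rw [← zpow_natCast, zpow_eq_zpow_iff_modEq, hS.orderOf_eq, Int.modEq_iff_dvd] at hl
      push_cast at hl
      exact (dvd_sub_right (Int.natCast_dvd_natCast.2 e)).1
        ((dvd_mul_left (h : ℤ) 2).trans hl)
    obtain ⟨c, rfl⟩ := hd
    rw [zpow_mul, zpow_natCast]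
    exact zpow_mem (Subgroup.mem_zpowers _) _
  by_cases hwr : w ∈ Subgroup.zpowers r
  · exact Subgroup.mem_sup_right (key w hwr hc)
  · have e := key _ (hS.mul_inv_mem hw hv hwr hvr) (hc.mul_left (Commute.refl v).inv_left)
    have := mul_mem (Subgroup.mem_sup_right (S := Subgroup.zpowers v) e)
      (Subgroup.mem_sup_left (T := Subgroup.zpowers (r ^ h)) (Subgroup.mem_zpowers v))
    rwa [inv_mul_cancel_right] at this

end SRot

/-- The subsection at an involution outside the rotations has rank one when `r ^ h` is central. -/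
theorem rank_reflection {P : Subgroup G}
    {c : Set (IrrCharacter (Subgroup.centralizer (P : Set G)))} {r : G} {h : ℕ}
    (hM : IsPModular 2 M) (hmax : IsMaximalBrauerPair 2 M B P c) (hS : SRot P r h)
    (hz : ∀ t : G, Commute (r ^ h) t) {v : G} (hv : v ∈ P) (h2 : v * v = 1) (hv1 : v ≠ 1)
    (hvz : v ≠ r ^ h) {b : Set (IrrCharacter (Subgroup.centralizer ({v} : Set G)))}
    (hb : IsInducedBlock M (Subgroup.centralizer ({v} : Set G)) b B) :
    blockRank 2 b = 1 := by
  classical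
  have := Fact.mk hM.1
  set T := Subgroup.centralizer ({v} : Set G) with hT
  have := Fintype.ofFinite T
  obtain ⟨D, hD⟩ := exists_isDefectGroup (p := 2) hM hb.1
  set R0 := Subgroup.zpowers v ⊔ Subgroup.zpowers (r ^ h) with hR0
  have hR0T : R0 ≤ T := sup_le (Subgroup.zpowers_le.2 (Subgroup.mem_centralizer_singleton_iff.2 rfl))
    (Subgroup.zpowers_le.2 (Subgroup.mem_centralizer_singleton_iff.2 (hz v).eq))
  set R := R0.subgroupOf T with hR
  have hRc : R ≤ Subgroup.center T := by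
    intro x hx
    refine Subgroup.mem_center_iff.2 fun t => Subtype.ext ?_
    have hle : R0 ≤ Subgroup.centralizer ({(t : G)} : Set G) := sup_le
      (Subgroup.zpowers_le.2 (Subgroup.mem_centralizer_singleton_iff.2
        (Subgroup.mem_centralizer_singleton_iff.1 t.2).symm))
      (Subgroup.zpowers_le.2 (Subgroup.mem_centralizer_singleton_iff.2 (hz t).eq))
    exact (Subgroup.mem_centralizer_singleton_iff.1 (hle hx)).symm
  have hn : R.Normal := ⟨fun n hn g => by
    rwa [Subgroup.mem_center_iff.1 (hRc hn) g, mul_inv_cancel_right]⟩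
  have hRp : IsPGroup 2 R := (hS.isTwoGroup.to_le (sup_le (Subgroup.zpowers_le.2 hv)
    (Subgroup.zpowers_le.2 hS.z_mem))).of_equiv (Subgroup.subgroupOfEquivOfLe hR0T).symm
  have hRD : R ≤ D := normal_le_defectGroup hM hRp hb.1 hD
  refine blockRank_of_central_defect hM hb.1 hD fun d hd => hRc ?_
  obtain ⟨E, hE, hDE⟩ := exists_map_subtype_le_defect hM hb hD
  obtain ⟨x, hx⟩ := defectGroup_exists_conj hM hmax.1.2.1 (maximal_core hM hmax).1 hE
  have hvE : v ∈ E := hDE ⟨⟨v, Subgroup.mem_centralizer_singleton_iff.2 rfl⟩,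
    hRD (Subgroup.mem_sup_left (Subgroup.mem_zpowers v)), rfl⟩
  have hdE : (d : G) ∈ E := hDE ⟨d, hd, rfl⟩
  rw [hx, mem_map_conj_iff] at hvE hdE
  have hv' : x⁻¹ * v * x ∉ Subgroup.zpowers r := by
    intro hm
    rcases hS.eq_z_of_mem_zpowers hm
        (by calc x⁻¹ * v * x * (x⁻¹ * v * x) = x⁻¹ * (v * v) * x := by group
              _ = 1 := by rw [h2]; group) with e | e
    · refine hv1 ?_
      calc v = x * (x⁻¹ * v * x) * x⁻¹ := by group
        _ = 1 := by rw [e]; group
    · refine hvz ?_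
      calc v = x * (x⁻¹ * v * x) * x⁻¹ := by group
        _ = r ^ h := by rw [e, ← (hz x).eq, mul_inv_cancel_right]
  have hcd : Commute (x⁻¹ * (d : G) * x) (x⁻¹ * v * x) := by
    show _ = _
    calc x⁻¹ * (d : G) * x * (x⁻¹ * v * x) = x⁻¹ * ((d : G) * v) * x := by group
      _ = _ := by rw [Subgroup.mem_centralizer_singleton_iff.1 d.2]; group
  have h3 := hS.centralizer_reflection hvE hdE hv' hcd
  have hle : Subgroup.zpowers (x⁻¹ * v * x) ⊔ Subgroup.zpowers (r ^ h) ≤
      R0.comap (MulAut.conj x).toMonoidHom := by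
    refine sup_le (Subgroup.zpowers_le.2 ?_) (Subgroup.zpowers_le.2 ?_) <;>
      rw [Subgroup.mem_comap]
    · show x * (x⁻¹ * v * x) * x⁻¹ ∈ R0
      rw [show x * (x⁻¹ * v * x) * x⁻¹ = v by group]
      exact Subgroup.mem_sup_left (Subgroup.mem_zpowers v)
    · show x * r ^ h * x⁻¹ ∈ R0
      rw [← (hz x).eq, mul_inv_cancel_right]
      exact Subgroup.mem_sup_right (Subgroup.mem_zpowers _)
  have h4 := hle h3
  rw [Subgroup.mem_comap] at h4
  have h5 : x * (x⁻¹ * (d : G) * x) * x⁻¹ ∈ R0 := h4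
  rw [show x * (x⁻¹ * (d : G) * x) * x⁻¹ = (d : G) by group] at h5
  exact Subgroup.mem_subgroupOf.2 h5

/-- Distinct representatives of the rotation subsections. -/
def rotIdx (h i : ℕ) : ℕ := if i % 2 = 1 ∧ h / 2 < i then i + h / 2 else i

theorem rotIdx_spec {P : Subgroup G} {r : G} {h : ℕ} (hS : SRot P r h) {i j : ℕ}
    (hi : i ∈ Finset.Ico 1 h) (hj : j ∈ Finset.Ico 1 h) :
    rotIdx h i < 2 * h ∧ ¬ h ∣ rotIdx h i ∧
      (rotIdx h j = rotIdx h i ∨ rotIdx h j = tw h (rotIdx h i) → i = j) := by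
  obtain ⟨q, ⟨t, rfl⟩, hq⟩ := hS.exists_odd_half
  rw [Finset.mem_Ico] at hi hj
  have hlt : ∀ {l}, l < h → rotIdx h l < 2 * h := fun {l} hl => by unfold rotIdx; split_ifs <;> omega
  refine ⟨hlt hi.2, fun hd => ?_, fun hp => ?_⟩
  · obtain ⟨c, hc⟩ := hd
    have hlt' := hlt hi.2
    rcases c with _ | _ | c
    · unfold rotIdx at hc; split_ifs at hc <;> omega
    · unfold rotIdx at hc; split_ifs at hc <;> omega
    · have : 2 * h ≤ h * (c + 1 + 1) := by rw [mul_comm 2 h]; exact Nat.mul_le_mul_left _ (by omega)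
      omega
  · obtain ⟨h1, h2⟩ := tw_spec h (rotIdx h i) (hlt hi.2) hS.h_even
    simp only [Nat.even_iff, Nat.odd_iff] at h1 h2
    generalize tw h (rotIdx h i) = T at hp h1 h2
    rcases Nat.mod_two_eq_zero_or_one (rotIdx h i) with e | o
    · have h1' := h1 e
      unfold rotIdx at hp h1' e
      split_ifs at hp h1' e <;> omega
    · have h2' := h2 o
      unfold rotIdx at hp h2' o
      split_ifs at hp h2' o <;> omega

open SubsectionReps in
/-- **The invariants of a block with semidihedral defect group.** -/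
theorem invariants {P : Subgroup G} {c : Set (IrrCharacter (Subgroup.centralizer (P : Set G)))}
    {r : G} {h m : ℕ} (hM : IsPModular 2 M) (hmax : IsMaximalBrauerPair 2 M B P c)
    (hSR : SRot P r h) (hm : h = 2 ^ m) :
    (Nat.card B = h + 3 ∨ Nat.card B = h + 4) ∧ 1 ≤ blockRank 2 B ∧ blockRank 2 B ≤ 3 ∧
      (blockRank 2 B = 3 → Nat.card B = h + 4) ∧ (blockRank 2 B = 1 → Nat.card B = h + 3) ∧
      Nat.card {χ : IrrCharacter G // χ ∈ B ∧ blockHeight 2 B (χ : G → ℂ) = 0} = 4 ∧
      Nat.card {χ : IrrCharacter G // χ ∈ B ∧ blockHeight 2 B (χ : G → ℂ) = 1} = h - 1 ∧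
      ∀ χ ∈ B, blockHeight 2 B (χ : G → ℂ) = 0 ∨ blockHeight 2 B (χ : G → ℂ) = 1 ∨
        blockHeight 2 B (χ : G → ℂ) = m := by
  classical
  have := Fact.mk hM.1
  have := Fintype.ofFinite (IrrCharacter G)
  have hB : IsPBlock M B := hmax.1.2.1
  have hPD : IsDefectGroup 2 M B P := (maximal_core hM hmax).1
  set z := r ^ h with hzdef
  set C := Subgroup.centralizer ({z} : Set G) with hCdef
  have := Fintype.ofFinite C
  have hPC : P ≤ C := hSR.le_cen
  obtain ⟨g, hc, hind, hmax'⟩ := DihedralDefect.exists_central_data hM hmax hPD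
    (Subgroup.zpowers_le.2 hSR.z_mem) (by rw [cen_zpowers]; exact hPC) (H := C) (cen_zpowers z).symm
  have hSR' := hSR.subgroupOf hPC
  have hzC : ∀ t : C, Commute ((⟨r, hPC hSR.mem⟩ : C) ^ h) t := fun t => Subtype.ext (by
    push_cast
    exact (Subgroup.mem_centralizer_singleton_iff.1 t.2).symm)
  obtain ⟨e, s, A, he, hrg, hmod, hS, hcardg⟩ := exists_central_shape hM hmax' hSR' hzC
  have hdg : blockDefect 2 g = blockDefect 2 B := by
    have h1 := natCard_defectGroup hM hmax'.1.2.1 (maximal_core hM hmax').1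
    rw [Nat.card_congr (Subgroup.subgroupOfEquivOfLe hPC).toEquiv,
      natCard_defectGroup hM hB hPD] at h1
    exact Nat.pow_right_injective le_rfl h1.symm
  have hdB : 2 ^ blockDefect 2 B = 4 * h := by rw [← natCard_defectGroup hM hB hPD, hSR.card_eq]
  -- the rows
  set F := g.toFinite.toFinset with hF
  set T := B.toFinite.toFinset with hT
  have hmT : ∀ {χ}, χ ∈ T ↔ χ ∈ B := B.toFinite.mem_toFinset
  set N : IrrCharacter G → IrrCharacter C → ℤ := fun χ θ =>
    (resMult z χ θ : ℤ) * signRoot (centralRoot z θ) with hN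
  obtain ⟨hsub, hgram⟩ := gram_of_major hM hSR.orderOf_z (N := N) hind (fun _ _ => rfl)
  have hgram' : ∀ y ∈ F, ∀ y' ∈ F, ∑ χ ∈ T, (∑ θ ∈ F, N χ θ * scaled 2 g θ y) *
      (∑ θ ∈ F, N χ θ * scaled 2 g θ y') = 4 * (h : ℤ) * scaled 2 g y y' := by
    intro y hy y' hy'
    rw [hgram y (g.toFinite.mem_toFinset.1 hy) y' (g.toFinite.mem_toFinset.1 hy'), hdg, hdB]
    push_cast
    rfl
  have hx : ∃ k : ℕ, orderOf z = 2 ^ k := ⟨1, by rw [pow_one]; exact hSR.orderOf_z⟩
  have hfac : ∀ j : ℕ, (2 ^ j : ℕ).factorization 2 = j := fun j => by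
    rw [Nat.Prime.factorization_pow Nat.prime_two, Finsupp.single_eq_same]
  obtain ⟨ξ0, hξ0, hξ00⟩ := exists_height_zero hM hB
  have hR := (hS.coords hSR.h_even hSR.h_pos (by norm_num) T N hgram').rows
    (fun χ : IrrCharacter G => blockHeight 2 B (χ : G → ℂ))
    (fun χ hχ ξ _ => by
      have h1 := memLocalRing_subEntry_div hM hx hind hdg (hmT.1 hχ) ξ
      rw [hsub] at h1
      have h2 := pow_dvd_of_memLocalRing hM h1
      rw [hfac] at h2
      push_cast at h2
      exact h2)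
    (fun χ hχ ξ hξ hξ' hdvd => by
      refine (memLocalIdeal_subEntry_div_iff hM hx hind hdg (hmT.1 hχ) (hmT.1 hξ)).1 ?_ hξ'
      rw [hsub, memLocalIdeal_intCast_div_iff hM (pow_ne_zero _ two_ne_zero), hfac]
      simpa using hdvd)
    ⟨ξ0, hmT.2 hξ0, hξ00⟩ (card_height_zero_le hM hmax hSR) he hSR.two_le hSR.h_even hmod
  -- the representatives
  obtain ⟨Y0, hY0, hrep0⟩ := exists_reps hM hmax
  obtain ⟨y0, ⟨hy0, hy0r⟩, hy0u⟩ := hrep0 z hSR.z_mem
  set Y := insert z (Y0.erase y0) with hYdef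
  have hY : ∀ y ∈ Y, y ∈ P := fun y hy => by
    rcases Finset.mem_insert.1 hy with rfl | hy
    exacts [hSR.z_mem, hY0 y (Finset.mem_of_mem_erase hy)]
  have hrep : ∀ v ∈ P, ∃! y, y ∈ Y ∧ Rel hM hmax v y := by
    intro v hv
    obtain ⟨y, ⟨hy, hvy⟩, hyu⟩ := hrep0 v hv
    by_cases he0 : y = y0
    · subst he0
      refine ⟨z, ⟨Finset.mem_insert_self _ _, rel_trans hM hmax hvy (rel_symm hM hmax hy0r)⟩, ?_⟩
      rintro w ⟨hw, hvw⟩
      rcases Finset.mem_insert.1 hw with rfl | hw'
      · rfl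
      · exact absurd (hyu w ⟨Finset.mem_of_mem_erase hw', hvw⟩) (Finset.ne_of_mem_erase hw')
    · refine ⟨y, ⟨Finset.mem_insert_of_mem (Finset.mem_erase.2 ⟨he0, hy⟩), hvy⟩, ?_⟩
      rintro w ⟨hw, hvw⟩
      rcases Finset.mem_insert.1 hw with rfl | hw'
      · exact absurd (hy0u y ⟨hy, rel_trans hM hmax (rel_symm hM hmax hvw) hvy⟩) he0
      · exact hyu w ⟨Finset.mem_of_mem_erase hw', hvw⟩
  have hsqconj : ∀ {v w : G}, Rel hM hmax v w → (v * v = 1 ↔ w * w = 1) := by
    rintro v w ⟨a, rfl, -⟩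
    rw [show a * v * a⁻¹ * (a * v * a⁻¹) = a * (v * v) * a⁻¹ by group, conj_eq_one_iff]
  have hY1 : (1 : G) ∈ Y := by
    obtain ⟨y, ⟨hy, a, ha, -⟩, -⟩ := hrep 1 (one_mem P)
    rw [mul_one, mul_inv_cancel] at ha
    exact ha ▸ hy
  have hYz : z ∈ Y := Finset.mem_insert_self _ _
  choose bG hbG hbGβ using fun y : G => fun hy : y ∈ P =>
    NilpotentSection.exists_block_below hM hmax hy (K := Subgroup.centralizer ({y} : Set G)) rfl
  let rk : G → ℕ := fun y => if hy : y ∈ P then blockRank 2 (bG y hy) else 0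
  have hkB : Nat.card B = ∑ y ∈ Y, rk y :=
    natCard_eq_sum_reps hM hmax Y hY hrep rk fun y hy b hb hβ => by
      simp only [rk, dif_pos (hY y hy)]
      rw [subgroupBlockCoeff_injective hM hb (hbG y (hY y hy)).1
        (hβ.trans (hbGβ y (hY y hy)).symm)]
  -- the same representatives in the centralizer
  have hle : ∀ v ∈ P, v * v ≠ 1 → Subgroup.centralizer ({v} : Set G) ≤ C := fun v hv h1 w hw => by
    obtain ⟨i, hi⟩ := Subgroup.mem_zpowers_iff.1 (hSR.z_mem_powers hv h1)
    rw [hCdef, Subgroup.mem_centralizer_singleton_iff, hzdef, ← hi]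
    exact ((show Commute w v from Subgroup.mem_centralizer_singleton_iff.1 hw).zpow_right i).eq
  have hlez : Subgroup.centralizer ({z} : Set G) ≤ C := le_rfl
  have htrans := fun v (hv : v ∈ P) (h1 : Subgroup.centralizer ({v} : Set G) ≤ C) =>
    beta_subgroupOf hM hmax hPC hc hmax' hv h1
  have hrelC : ∀ v (hv : v ∈ P) w (hw : w ∈ P), v * v ≠ 1 →
      (Rel hM hmax' (⟨v, hPC hv⟩ : C) (⟨w, hPC hw⟩ : C) ↔ Rel hM hmax v w) := by
    intro v hv w hw h1
    obtain ⟨hv1, hv2, -⟩ := htrans v hv (hle v hv h1)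
    constructor
    · rintro ⟨a, ha, hβ⟩
      have ha' : (a : G) * v * (a : G)⁻¹ = w := by
        have := congrArg Subtype.val ha
        push_cast at this
        exact this
      have hw1 : w * w ≠ 1 := fun e' => h1 (conj_eq_one_iff.1
        (show (a : G) * (v * v) * (a : G)⁻¹ = 1 by rw [← e', ← ha']; group))
      obtain ⟨hwv, hwz, -⟩ := htrans w hw (hle w hw hw1)
      refine ⟨a, ha', funext fun k => ?_⟩
      by_cases hk : k ∈ C
      · have e' := congrFun hβ ⟨k, hk⟩
        rw [hwv, conjFun, hv1] at e'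
        push_cast at e'
        exact e'
      · rw [hwz k hk, conjFun]
        exact hv2 _ fun hh => hk (by
          have := C.mul_mem (C.mul_mem a.2 hh) (C.inv_mem a.2)
          simpa [mul_assoc] using this)
    · rintro ⟨a, ha, hβ⟩
      have hw1 : w * w ≠ 1 := fun e' => h1 (conj_eq_one_iff.1
        (show a * (v * v) * a⁻¹ = 1 by rw [← e', ← ha]; group))
      obtain ⟨hwv, -, -⟩ := htrans w hw (hle w hw hw1)
      have haC : a ∈ C := by
        obtain ⟨i, hi⟩ := Subgroup.mem_zpowers_iff.1 (hSR.z_mem_powers hv h1)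
        have hp : a * z * a⁻¹ ∈ Subgroup.zpowers w := by
          rw [hzdef, ← hi, ← conj_zpow, ha]
          exact zpow_mem (Subgroup.mem_zpowers w) i
        have h2 : a * z * a⁻¹ * (a * z * a⁻¹) = 1 := by
          calc a * z * a⁻¹ * (a * z * a⁻¹) = a * (z * z) * a⁻¹ := by group
            _ = 1 := by rw [hzdef, hSR.z_sq, mul_one, mul_inv_cancel]
        rcases hSR.involution_of_powers hw hw1 hp h2 with e' | e'
        · exact absurd (conj_eq_one_iff.1 e') hSR.z_ne_one
        · rw [hCdef, Subgroup.mem_centralizer_singleton_iff]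
          exact mul_inv_eq_iff_eq_mul.1 e'
      refine ⟨⟨a, haC⟩, Subtype.ext ha, funext fun k => ?_⟩
      rw [hwv, conjFun, hv1]
      push_cast
      exact congrFun hβ (k : G)
  let f : G → C := fun y => if hy : y ∈ C then ⟨y, hy⟩ else 1
  have hf : ∀ y (hy : y ∈ P), f y = (⟨y, hPC hy⟩ : C) := fun y hy => dif_pos (hPC hy)
  -- a reflection of order two
  obtain ⟨w₁, hw₁P, hw₁r, hw₁2⟩ : ∃ w ∈ P, w ∉ Subgroup.zpowers r ∧ w * w = 1 := by
    obtain ⟨w, hwP, hwr⟩ := hSR.exists_outside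
    rcases hSR.mul_self_cases hwP hwr with e1 | e1
    · exact ⟨w, hwP, hwr, e1⟩
    · refine ⟨r * w, P.mul_mem hSR.mem hwP, fun hh => hwr
        ((Subgroup.mul_mem_cancel_left _ (Subgroup.mem_zpowers r)).1 hh), ?_⟩
      calc r * w * (r * w) = r * (w * r * w⁻¹) * (w * w) := by group
        _ = r ^ h * r ^ h := by
          rw [hSR.outside w hwP hwr, e1, ← pow_succ', Nat.sub_add_cancel hSR.h_pos]
        _ = 1 := hSR.z_sq
  have hw₁1 : w₁ ≠ 1 := fun e' => hw₁r (e' ▸ one_mem _)
  have hw₁z : w₁ ≠ z := fun e' => hw₁r (e' ▸ Subgroup.npow_mem_zpowers r h)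
  set S := Y.filter fun v => v * v ≠ 1 with hSdef
  have hfinj : Set.InjOn f (S : Set G) := fun y hy y' hy' e' => by
    rw [hf y (hY y (Finset.mem_filter.1 hy).1), hf y' (hY y' (Finset.mem_filter.1 hy').1)] at e'
    exact congrArg Subtype.val e'
  choose bC hbC hbCβ using fun y : C => fun hy : y ∈ P.subgroupOf C =>
    NilpotentSection.exists_block_below hM hmax' hy (K := Subgroup.centralizer ({y} : Set C)) rfl
  let rk' : C → ℕ := fun y => if hy : y ∈ P.subgroupOf C then blockRank 2 (bC y hy) else 0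
  let c1 : C := 1
  let cz : C := ⟨z, hPC hSR.z_mem⟩
  let cw : C := ⟨w₁, hPC hw₁P⟩
  set YC : Finset C := insert c1 (insert cz (insert cw (S.image f))) with hYCdef
  have hYC : ∀ y ∈ YC, y ∈ P.subgroupOf C := fun y hy => by
    simp only [hYCdef, Finset.mem_insert, Finset.mem_image] at hy
    rcases hy with rfl | rfl | rfl | ⟨y', hy', rfl⟩
    · exact one_mem _
    · exact hSR.z_mem
    · exact hw₁P
    · rw [hf y' (hY y' (Finset.mem_filter.1 hy').1)]
      exact hY y' (Finset.mem_filter.1 hy').1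
  have hbigne : ∀ {v : C}, v ∈ S.image f → ((v : G) * (v : G) ≠ 1) := fun {v} hv => by
    obtain ⟨y', hy', rfl⟩ := Finset.mem_image.1 hv
    rw [hf y' (hY y' (Finset.mem_filter.1 hy').1)]
    exact (Finset.mem_filter.1 hy').2
  have hnz : z * z = 1 := hSR.z_sq
  have hkg : Nat.card g = ∑ y ∈ YC, rk' y := by
    refine natCard_eq_sum_reps hM hmax' _ hYC ?_ rk' fun y hy b hb hβ => ?_
    · rintro ⟨v, hvC⟩ hv
      have hv' : v ∈ P := hv
      have hconjeq : ∀ {w : C}, Rel hM hmax' (⟨v, hvC⟩ : C) w →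
          ∃ a : C, (a : G) * v * (a : G)⁻¹ = (w : G) := by
        rintro w ⟨a, ha, -⟩
        exact ⟨a, by rw [← ha]; push_cast; rfl⟩
      by_cases hbig : v * v = 1
      · have hcases : v = 1 ∨ v = z ∨ v ∉ Subgroup.zpowers r := by
          by_cases hm' : v ∈ Subgroup.zpowers r
          · rcases hSR.eq_z_of_mem_zpowers hm' hbig with e' | e'
            exacts [Or.inl e', Or.inr (Or.inl e')]
          · exact Or.inr (Or.inr hm')
        have hsame : ∀ w ∈ YC, Rel hM hmax' (⟨v, hvC⟩ : C) w →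
            (v = 1 → w = c1) ∧ (v = z → w = cz) ∧ (v ∉ Subgroup.zpowers r → w = cw) := by
          intro w hw hrel
          obtain ⟨a, ha⟩ := hconjeq hrel
          have hac : Commute (a : G) z := Subgroup.mem_centralizer_singleton_iff.1 a.2
          have hw2 : (w : G) * w = 1 := by
            rw [← ha, show (a : G) * v * (a : G)⁻¹ * ((a : G) * v * (a : G)⁻¹) =
              a * (v * v) * (a : G)⁻¹ by group, hbig, mul_one, mul_inv_cancel]
          simp only [hYCdef, Finset.mem_insert] at hw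
          refine ⟨fun e' => ?_, fun e' => ?_, fun e' => ?_⟩
          · refine Subtype.ext ?_
            rw [← ha, e', mul_one, mul_inv_cancel]
            rfl
          · refine Subtype.ext ?_
            rw [← ha, e', hac.eq, mul_inv_cancel_right]
          · rcases hw with rfl | rfl | rfl | hw
            · refine absurd ?_ e'
              have : v = 1 := conj_eq_one_iff.1 ha
              rw [this]
              exact one_mem _
            · refine absurd ?_ e'
              have : v = z := by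
                have ha' : (a : G) * v * (a : G)⁻¹ = z := ha
                calc v = (a : G)⁻¹ * ((a : G) * v * (a : G)⁻¹) * a := by group
                  _ = (a : G)⁻¹ * (z * a) := by rw [ha', mul_assoc]
                  _ = z := by rw [← hac.eq, inv_mul_cancel_left]
              rw [this]
              exact Subgroup.npow_mem_zpowers r h
            · rfl
            · exact absurd hw2 (hbigne hw)
        rcases hcases with rfl | rfl | hvr
        · exact ⟨c1, ⟨by simp [hYCdef], rel_refl hM hmax' _⟩,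
            fun w hw => (hsame w hw.1 hw.2).1 rfl⟩
        · exact ⟨cz, ⟨by simp [hYCdef], rel_refl hM hmax' _⟩,
            fun w hw => (hsame w hw.1 hw.2).2.1 rfl⟩
        · refine ⟨cw, ⟨by simp [hYCdef], ?_⟩, fun w hw => (hsame w hw.1 hw.2).2.2 hvr⟩
          obtain ⟨a, ha, hav⟩ := hSR.conj_involution hw₁P hv' hw₁r hvr hw₁2 hbig
          have haP : a ∈ P := hSR.zpowers_le ha
          refine ⟨⟨a, hPC haP⟩, Subtype.ext (by push_cast; exact hav), ?_⟩
          rw [(beta_stab hM hmax' hv (le_pairStab (M := M) _ _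
            (show (⟨a, hPC haP⟩ : C) ∈ P.subgroupOf C from haP))).2]
          congr 1
          exact Subtype.ext (by push_cast; exact hav)
      · obtain ⟨y, ⟨hy, hrel⟩, huniq⟩ := hrep v hv'
        have hyS : y ∈ S := Finset.mem_filter.2 ⟨hy, fun e' => hbig ((hsqconj hrel).2 e')⟩
        refine ⟨f y, ⟨Finset.mem_insert_of_mem (Finset.mem_insert_of_mem (Finset.mem_insert_of_mem
          (Finset.mem_image_of_mem f hyS))), ?_⟩, ?_⟩
        · rw [hf y (hY y hy)]
          exact (hrelC v hv' y (hY y hy) hbig).2 hrel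
        · rintro w ⟨hw, hrel'⟩
          obtain ⟨a, ha⟩ := hconjeq hrel'
          have hw2 : (w : G) * w ≠ 1 := fun e' => hbig (conj_eq_one_iff.1
            (show (a : G) * (v * v) * (a : G)⁻¹ = 1 by rw [← e', ← ha]; group))
          simp only [hYCdef, Finset.mem_insert] at hw
          rcases hw with rfl | rfl | rfl | hw
          · exact absurd (one_mul 1) hw2
          · exact absurd hnz hw2
          · exact absurd hw₁2 hw2
          · obtain ⟨y', hy', rfl⟩ := Finset.mem_image.1 hw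
            have hy'Y := (Finset.mem_filter.1 hy').1
            rw [hf y' (hY y' hy'Y)] at hrel'
            rw [huniq y' ⟨hy'Y, (hrelC v hv' y' (hY y' hy'Y) hbig).1 hrel'⟩]
    · simp only [rk', dif_pos (hYC y hy)]
      rw [subgroupBlockCoeff_injective hM hb (hbC y (hYC y hy)).1
        (hβ.trans (hbCβ y (hYC y hy)).symm)]
  have hrkeq : ∀ y (hy : y ∈ P), Subgroup.centralizer ({y} : Set G) ≤ C → rk' (f y) = rk y := by
    intro y hyP hyle
    rw [hf y hyP]
    simp only [rk, rk', dif_pos hyP, dif_pos (show (⟨y, hPC hyP⟩ : C) ∈ P.subgroupOf C from hyP)]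
    exact ((htrans y hyP hyle).2.2 _ _ (hbG y hyP).1 (hbC _ _).1 (hbGβ y hyP) (hbCβ _ _)).symm
  have hrk1 : rk 1 = blockRank 2 B := by
    simp only [rk, dif_pos (one_mem P)]
    exact blockRank_of_central hM hmax (one_mem P) (fun t => Commute.one_left t) (hbG _ _).1
      (hbGβ _ _)
  have hrk1' : rk' c1 = blockRank 2 g := by
    simp only [rk', dif_pos (show c1 ∈ P.subgroupOf C from one_mem _)]
    exact blockRank_of_central hM hmax' (one_mem _) (fun t => Commute.one_left t) (hbC _ _).1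
      (hbCβ _ _)
  have hczc : ∀ t : C, Commute cz t := fun t =>
    Subtype.ext (Subgroup.mem_centralizer_singleton_iff.1 t.2).symm
  have hrkz' : rk' cz = blockRank 2 g := by
    simp only [rk', dif_pos (show cz ∈ P.subgroupOf C from hSR.z_mem)]
    exact blockRank_of_central hM hmax' (show cz ∈ P.subgroupOf C from hSR.z_mem) hczc (hbC _ _).1
      (hbCβ _ _)
  have hrkz : rk z = blockRank 2 g := by
    rw [← hrkeq z hSR.z_mem hlez, hf z hSR.z_mem]
    exact hrkz'
  have hrkw : rk' cw = 1 := by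
    simp only [rk', dif_pos (show cw ∈ P.subgroupOf C from hw₁P)]
    exact rank_reflection hM hmax' hSR' hzC (show cw ∈ P.subgroupOf C from hw₁P)
      (Subtype.ext hw₁2) (fun e' => hw₁1 (congrArg Subtype.val e'))
      (fun e' => hw₁z (by have := congrArg Subtype.val e'; push_cast at this; exact this))
      (hbC _ _)
  have hkg' : Nat.card g = 2 * blockRank 2 g + 1 + Finset.sum S rk := by
    have n1 : c1 ∉ insert cz (insert cw (S.image f)) := by
      simp only [Finset.mem_insert, not_or]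
      exact ⟨fun e' => hSR.z_ne_one (congrArg Subtype.val e').symm,
        fun e' => hw₁1 (congrArg Subtype.val e').symm, fun hh => hbigne hh (one_mul 1)⟩
    have n2 : cz ∉ insert cw (S.image f) := by
      simp only [Finset.mem_insert, not_or]
      exact ⟨fun e' => hw₁z (congrArg Subtype.val e').symm, fun hh => hbigne hh hnz⟩
    have n3 : cw ∉ S.image f := fun hh => hbigne hh hw₁2
    rw [hkg, hYCdef, Finset.sum_insert n1, Finset.sum_insert n2, Finset.sum_insert n3,
      Finset.sum_image hfinj, hrk1', hrkz', hrkw, Finset.sum_congr rfl fun y hy =>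
        hrkeq y (hY y (Finset.mem_filter.1 hy).1)
          (hle y (hY y (Finset.mem_filter.1 hy).1) (Finset.mem_filter.1 hy).2)]
    ring
  -- the rotation classes
  have hScard : h - 1 ≤ Finset.sum S rk := by
    have hrot : ∀ i ∈ Finset.Ico 1 h, r ^ rotIdx h i * r ^ rotIdx h i ≠ 1 := fun i hi e' => by
      obtain ⟨-, h2, -⟩ := rotIdx_spec hSR hi hi
      rw [← pow_add, hSR.pow_eq_one_iff, ← two_mul, Nat.mul_dvd_mul_iff_left two_pos] at e'
      exact h2 e'
    have hrepS : ∀ i ∈ Finset.Ico 1 h, ∃ y ∈ S, Rel hM hmax (r ^ rotIdx h i) y := fun i hi => by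
      obtain ⟨y, ⟨hy, hrel⟩, -⟩ := hrep _ (P.pow_mem hSR.mem (rotIdx h i))
      exact ⟨y, Finset.mem_filter.2 ⟨hy, fun e' => hrot i hi ((hsqconj hrel).2 e')⟩, hrel⟩
    choose φ hφS hφ using hrepS
    have hinj : (Finset.Ico 1 h).card ≤ S.card := by
      refine Finset.card_le_card_of_injOn (fun i => if hi : i ∈ Finset.Ico 1 h then φ i hi else 1)
        (fun i hi => by simp only [Finset.mem_coe] at hi ⊢; rw [dif_pos hi]; exact hφS i hi)
        fun i hi j hj e' => ?_
      rw [Finset.mem_coe] at hi hj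
      simp only [dif_pos hi, dif_pos hj] at e'
      obtain ⟨a, ha, hβ⟩ := rel_trans hM hmax (hφ i hi) (e' ▸ rel_symm hM hmax (hφ j hj))
      obtain ⟨hlt, hnd, hdis⟩ := rotIdx_spec hSR hi hj
      exact hdis (fus_rot hM hmax hSR hnd hlt (rotIdx_spec hSR hj hj).1 ha hβ)
    rw [Nat.card_Ico] at hinj
    refine hinj.trans ?_
    rw [Finset.card_eq_sum_ones]
    refine Finset.sum_le_sum fun y hy => ?_
    simp only [dif_pos (hY y (Finset.mem_filter.1 hy).1)]
    exact one_le_blockRank hM (hbG _ _).1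
  obtain ⟨t, hk⟩ : ∃ t, Nat.card B = blockRank 2 B + h + 1 + t := by
    have hYz' : z ∈ Y.erase 1 := Finset.mem_erase.2 ⟨hSR.z_ne_one, hYz⟩
    rw [← Finset.add_sum_erase _ _ hY1, ← Finset.add_sum_erase _ _ hYz', hrk1, hrkz] at hkB
    have hsub : Finset.sum S rk ≤ ∑ y ∈ (Y.erase 1).erase z, rk y := by
      refine Finset.sum_le_sum_of_subset fun y hy => ?_
      obtain ⟨hyY, hy2⟩ := Finset.mem_filter.1 hy
      exact Finset.mem_erase.2 ⟨fun e' => hy2 (by rw [e']; exact hnz),
        Finset.mem_erase.2 ⟨fun e' => hy2 (by rw [e', one_mul]), hyY⟩⟩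
    rw [hcardg, hrg] at hkg'
    exact ⟨Nat.card B - (blockRank 2 B + h + 1), by omega⟩
  have he1 : e ≤ 1 := by
    rw [hcardg, hrg] at hkg'
    omega
  have hl1 := one_le_blockRank hM hB
  have hcard : T.card = blockRank 2 B + h + 1 + t := by
    rw [hT, ← Nat.card_eq_card_finite_toFinset]; exact hk
  obtain ⟨hk34, h3, hl3, hlone, h4, hone, hhts⟩ :=
    rows_invariants hR he1 hSR.four_le hm hcard hl1 fun hl => by

    obtain ⟨g₀, d, hg₀, hdeg, hsum, -⟩ := rank_one_degrees hM hB hl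
    rw [finsum_mem_eq_finite_toFinset_sum _ B.toFinite, hdB] at hsum
    refine le_trans (Finset.sum_le_sum fun χ hχ => ?_) hsum.le
    have hχ' := hmT.1 hχ
    have hd0 : d χ ≠ 0 := fun e' => charDegree_ne_zero χ.2 (by rw [hdeg χ hχ', e', mul_zero])
    have hdvd : 2 ^ blockHeight 2 B (χ : G → ℂ) ∣ d χ := by
      rw [Nat.prime_two.pow_dvd_iff_le_factorization hd0]
      have hmin : g₀.factorization 2 ≤ minExp 2 B := by
        refine le_csInf ⟨_, χ, hχ', rfl⟩ ?_
        rintro _ ⟨ξ, hξ, rfl⟩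
        dsimp only
        rw [hdeg ξ hξ, Nat.factorization_mul hg₀.ne'
          (fun e' => charDegree_ne_zero ξ.2 (by rw [hdeg ξ hξ, e', mul_zero])), Finsupp.add_apply]
        exact Nat.le_add_right _ _
      have := degree_exp hM hB hχ'
      rw [hdeg χ hχ', Nat.factorization_mul hg₀.ne' hd0, Finsupp.add_apply] at this
      omega
    calc 4 ^ blockHeight 2 B (χ : G → ℂ) = (2 ^ blockHeight 2 B (χ : G → ℂ)) ^ 2 := by
          rw [← pow_mul, mul_comm, pow_mul]; rfl
      _ ≤ _ := Nat.pow_le_pow_left (Nat.le_of_dvd (Nat.pos_of_ne_zero hd0) hdvd) 2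
  have hsubt : ∀ j, Nat.card {χ : IrrCharacter G // χ ∈ B ∧ blockHeight 2 B (χ : G → ℂ) = j} =
      (T.filter fun χ : IrrCharacter G => blockHeight 2 B (χ : G → ℂ) = j).card := fun j => by
    rw [← Nat.card_eq_finsetCard]
    exact Nat.card_congr (Equiv.subtypeEquivRight fun χ => by rw [Finset.mem_filter, hmT])
  have hTB : T.card = Nat.card B := by rw [hT, ← Nat.card_eq_card_finite_toFinset]
  rw [hTB] at hk34 hl3 hlone
  refine ⟨hk34, hl1, h3, hl3, hlone, ?_, ?_, fun χ hχ => hhts χ (hmT.2 hχ)⟩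
  · rw [hsubt]; exact h4
  · rw [hsubt]; exact hone

end CfsgLib.BlockA.SemiDihDefect
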