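import Cfsg.Agent.Lib.Char.FS
import Mathlib.Algebra.Module.Projective
import Mathlib.LinearAlgebra.Matrix.ToLin
import Mathlib.LinearAlgebra.Trace

/-! Invariant bilinear forms of a character of norm one. -/

set_option autoImplicit false
set_option linter.unusedSectionVars false

namespace CfsgLib.BlockA

open CfsgLib.Char
open scoped ComplexConjugate Matrix

universe u

variable {G : Type u} [Group G]

theorem trace_sqRep {n : ℕ} (ρ : Representation ℂ G (Fin n → ℂ)) (g : G) :
    LinearMap.trace ℂ _ (sqRep ρ g) = ρ.character g ^ 2 := by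
  let A : Matrix (Fin n) (Fin n) ℂ := LinearMap.toMatrix' (ρ g)
  have hchar : ρ.character g = ∑ i, A i i := by
    rw [Representation.character, LinearMap.trace_eq_matrix_trace ℂ (Pi.basisFun ℂ (Fin n)),
      LinearMap.toMatrix_eq_toMatrix']
    rfl
  rw [LinearMap.trace_eq_matrix_trace ℂ (Matrix.stdBasis ℂ (Fin n) (Fin n)), Matrix.trace,
    Fintype.sum_prod_type, hchar, sq, Finset.sum_mul_sum]
  refine Finset.sum_congr rfl fun i _ => Finset.sum_congr rfl fun j _ => ?_
  simp only [Matrix.diag_apply, LinearMap.toMatrix_apply]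
  rw [Matrix.stdBasis_eq_single, sqRep_apply]
  change (A * Matrix.single i j (1 : ℂ) * Aᵀ) i j = _
  simp [Matrix.mul_apply, Matrix.single_apply, ite_and]

theorem trace_sqRep_transpose {n : ℕ} (ρ : Representation ℂ G (Fin n → ℂ)) (g : G) :
    LinearMap.trace ℂ _ (sqRep ρ g ∘ₗ
      (Matrix.transposeLinearEquiv (Fin n) (Fin n) ℂ ℂ).toLinearMap) =
      ρ.character (g * g) := by
  let A : G → Matrix (Fin n) (Fin n) ℂ := fun g => LinearMap.toMatrix' (ρ g)
  have hchar : ρ.character (g * g) = ∑ i, A (g * g) i i := by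
    rw [Representation.character, LinearMap.trace_eq_matrix_trace ℂ (Pi.basisFun ℂ (Fin n)),
      LinearMap.toMatrix_eq_toMatrix']
    rfl
  rw [LinearMap.trace_eq_matrix_trace ℂ (Matrix.stdBasis ℂ (Fin n) (Fin n)), Matrix.trace,
    Fintype.sum_prod_type, hchar]
  refine Finset.sum_congr rfl fun i _ => ?_
  have : A (g * g) = A g * A g := by simp [A, map_mul, LinearMap.toMatrix'_mul]
  rw [this, Matrix.mul_apply]
  refine Finset.sum_congr rfl fun j _ => ?_
  simp only [Matrix.diag_apply, LinearMap.toMatrix_apply, LinearMap.comp_apply]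
  rw [Matrix.stdBasis_eq_single, sqRep_apply]
  change (A g * (Matrix.single i j (1 : ℂ))ᵀ * (A g)ᵀ) i j = _
  simp [Matrix.mul_apply, Matrix.single_apply, ite_and]

/-- The inverse transpose of a matrix representation. -/
noncomputable def invTr {n : ℕ} (ρ : Representation ℂ G (Fin n → ℂ)) :
    Representation ℂ G (Fin n → ℂ) where
  toFun g := Matrix.toLin' (LinearMap.toMatrix' (ρ g⁻¹))ᵀ
  map_one' := by
    simp only [inv_one, map_one, Module.End.one_eq_id, LinearMap.toMatrix'_id,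
      Matrix.transpose_one, Matrix.toLin'_one]
  map_mul' a b := by
    rw [mul_inv_rev, map_mul, LinearMap.toMatrix'_mul, Matrix.transpose_mul, Matrix.toLin'_mul]
    rfl

theorem toMatrix'_invTr {n : ℕ} (ρ : Representation ℂ G (Fin n → ℂ)) (g : G) :
    LinearMap.toMatrix' (invTr ρ g) = (LinearMap.toMatrix' (ρ g⁻¹))ᵀ :=
  LinearMap.toMatrix'_toLin' _

theorem character_invTr {n : ℕ} (ρ : Representation ℂ G (Fin n → ℂ)) (g : G) :
    (invTr ρ).character g = ρ.character g⁻¹ := by
  simp only [Representation.character]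
  rw [LinearMap.trace_eq_matrix_trace ℂ (Pi.basisFun ℂ (Fin n)),
    LinearMap.trace_eq_matrix_trace ℂ (Pi.basisFun ℂ (Fin n)), LinearMap.toMatrix_eq_toMatrix',
    toMatrix'_invTr, Matrix.trace_transpose]

/-- For a real character of norm one: the invariant forms are a line, on which transposition
acts by the indicator. -/
theorem invariant_forms [Fintype G] {n : ℕ} (ρ : Representation ℂ G (Fin n → ℂ))
    (hnorm : Cfsg.classInner ρ.character ρ.character = 1)
    (hreal : ∀ g : G, (ρ.character g).im = 0) :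
    (∃ M : Matrix (Fin n) (Fin n) ℂ, M ≠ 0 ∧ ∀ g : G,
      (LinearMap.toMatrix' (ρ g))ᵀ * M * LinearMap.toMatrix' (ρ g) = M) ∧
    ∀ M : Matrix (Fin n) (Fin n) ℂ,
      (∀ g : G, (LinearMap.toMatrix' (ρ g))ᵀ * M * LinearMap.toMatrix' (ρ g) = M) →
      Mᵀ = ((Nat.card G : ℂ)⁻¹ * ∑ s : G, ρ.character (s * s)) • M := by
  classical
  set σ := invTr ρ
  have hσc : ∀ g, σ.character g = ρ.character g := fun g => by
    rw [character_invTr, char_inv ⟨n, ρ, rfl⟩, Complex.conj_eq_iff_im.2 (hreal g)]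
  have hinv : ∀ M, (∀ g, sqRep σ g M = M) ↔
      ∀ g : G, (LinearMap.toMatrix' (ρ g))ᵀ * M * LinearMap.toMatrix' (ρ g) = M := fun M => by
    simp only [sqRep_apply, σ, toMatrix'_invTr, Matrix.transpose_transpose]
    exact ⟨fun h g => by simpa using h g⁻¹, fun h g => h g⁻¹⟩
  set c : ℂ := (Nat.card G : ℂ)⁻¹
  set π : Module.End ℂ (Matrix (Fin n) (Fin n) ℂ) := c • ∑ g : G, sqRep σ g
  have hfix : ∀ h M, sqRep σ h (π M) = π M := fun h M => by
    show (sqRep σ h * π) M = π M
    congr 1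
    rw [mul_smul_comm, Finset.mul_sum]
    congr 1
    refine Fintype.sum_equiv (Equiv.mulLeft h) _ _ fun g => ?_
    rw [Equiv.coe_mulLeft, map_mul]
  have hid : ∀ M, (∀ g, sqRep σ g M = M) → π M = M := fun M hM => by
    simp only [π, LinearMap.smul_apply, LinearMap.coe_sum, Finset.sum_apply, hM, Finset.sum_const,
      Finset.card_univ, c, Nat.card_eq_fintype_card, ← Nat.cast_smul_eq_nsmul ℂ, smul_smul,
      inv_mul_cancel₀ (Nat.cast_ne_zero.2 Fintype.card_ne_zero : (Fintype.card G : ℂ) ≠ 0),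
      one_smul]
  have hproj : LinearMap.IsProj (LinearMap.range π) π :=
    ⟨fun w => LinearMap.mem_range_self π w, fun w hw => by
      obtain ⟨v, rfl⟩ := hw; exact hid _ fun g => hfix g v⟩
  have hrank : Module.finrank ℂ (LinearMap.range π) = 1 := by
    have h1 : LinearMap.trace ℂ _ π = 1 := by
      rw [map_smul, map_sum, smul_eq_mul, ← hnorm, classInner_def]
      congr 1
      refine Finset.sum_congr rfl fun g _ => ?_
      rw [trace_sqRep, hσc, sq, Complex.conj_eq_iff_im.2 (hreal g)]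
    exact_mod_cast hproj.trace.symm.trans h1
  obtain ⟨M₀, hM₀, hM₀ne, hspan⟩ : ∃ M₀, M₀ ∈ LinearMap.range π ∧ M₀ ≠ 0 ∧
      ∀ M ∈ LinearMap.range π, ∃ a : ℂ, a • M₀ = M := by
    obtain ⟨v, hv, hspan⟩ := finrank_eq_one_iff'.1 hrank
    refine ⟨v.1, v.2, fun h => hv (Subtype.ext h), fun M hM => ?_⟩
    obtain ⟨a, ha⟩ := hspan ⟨M, hM⟩
    exact ⟨a, congrArg Subtype.val ha⟩
  have hM₀inv : ∀ g, sqRep σ g M₀ = M₀ := by
    obtain ⟨v, rfl⟩ := hM₀
    exact fun g => hfix g v
  refine ⟨⟨M₀, hM₀ne, (hinv M₀).1 hM₀inv⟩, fun M hM => ?_⟩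
  have hMπ : M ∈ LinearMap.range π := ⟨M, hid M ((hinv M).2 hM)⟩
  obtain ⟨e, he⟩ := hspan M₀ᵀ ⟨M₀ᵀ, hid _ fun g => by rw [← sqRep_transpose, hM₀inv]⟩
  set t := (Matrix.transposeLinearEquiv (Fin n) (Fin n) ℂ ℂ).toLinearMap
  have htπ : t ∘ₗ π = e • π := by
    refine LinearMap.ext fun X => ?_
    obtain ⟨a, ha⟩ := hspan (π X) (LinearMap.mem_range_self π X)
    show (π X)ᵀ = e • π X
    rw [← ha, Matrix.transpose_smul, ← he, smul_comm]
  have heν : (Nat.card G : ℂ)⁻¹ * ∑ s : G, ρ.character (s * s) = e := by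
    have h2 := congrArg (LinearMap.trace ℂ _) htπ
    rw [map_smul, hproj.trace, hrank, Nat.cast_one, smul_eq_mul, mul_one,
      ← Module.End.mul_eq_comp, LinearMap.trace_mul_comm, smul_mul_assoc, Finset.sum_mul,
      map_smul, map_sum, smul_eq_mul] at h2
    rw [← h2]
    congr 1
    refine Finset.sum_congr rfl fun g _ => ?_
    rw [Module.End.mul_eq_comp, trace_sqRep_transpose, hσc]
  obtain ⟨a, rfl⟩ := hspan M hMπ
  rw [heν, Matrix.transpose_smul, ← he, smul_comm]

end CfsgLib.BlockA
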