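import Cfsg.Agent.Lib.BlockA.KleinPrincipal
import Cfsg.Agent.Lib.BlockB.ClassMul

/-!
Counting the involutions with 2-singular product, and the order formula of a principal 2-block
with Klein four defect group.
-/

set_option autoImplicit false
set_option linter.unusedSectionVars false

namespace CfsgLib.BlockA

open Cfsg CfsgLib.Block
open scoped ComplexConjugate Pointwise

universe u

variable {G : Type u} [Group G] [Finite G]

theorem klein_commute {P : Subgroup G} (hP : IsKleinFour P) {a b : G} (ha : a ∈ P) (hb : b ∈ P) :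
    Commute a b :=
  congrArg Subtype.val ((IsKleinFour.isMulCommutative (G := P)).is_comm.comm ⟨a, ha⟩ ⟨b, hb⟩)

theorem klein_cases {P : Subgroup G} (hP : IsKleinFour P) {s w : G} (hs : s ∈ P) (hw : w ∈ P)
    (hs1 : s ≠ 1) (hw1 : w ≠ 1) (hws : w ≠ s) {x : G} (hx : x ∈ P) :
    x = 1 ∨ x = s ∨ x = w ∨ x = s * w := by
  rcases eq_or_ne x 1 with h | h
  · exact Or.inl h
  · exact Or.inr (CfsgLib.Invol.klein_mem_of_ne hP hs hw hx hs1 hw1 (Ne.symm hws) h)

/-- The structure of the centralizer of an involution of a Klein four Sylow subgroup. -/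
theorem exists_quot_hom (P : Sylow 2 G) (hP : IsKleinFour (P : Subgroup G)) {s : G}
    (hs : s ∈ (P : Subgroup G)) (hs1 : s ≠ 1) :
    ∃ K : Subgroup (Subgroup.centralizer ({s} : Set G)), ∃ _ : K.Normal,
      Nat.card (Subgroup.centralizer ({s} : Set G) ⧸ K) = 4 ∧
      ∀ h : Subgroup.centralizer ({s} : Set G), h ∈ K ↔ ¬ 2 ∣ orderOf (h : G) := by
  set H := Subgroup.centralizer ({s} : Set G)
  obtain ⟨hreg, hcard⟩ := core_of_hasNormalPComplement (klein_centralizer_complement P hP hs hs1)
  have hKcop : ¬ 2 ∣ Nat.card (Cfsg.pPrimeCore 2 H) :=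
    Nat.prime_two.coprime_iff_not_dvd.1 (CfsgLib.Solvable.pPrimeCore_coprime 2).symm
  have hf : (Nat.card H).factorization 2 = 2 := by
    have hle : (P : Subgroup G) ≤ H := fun x hx =>
      Subgroup.mem_centralizer_singleton_iff.2 (klein_commute hP hx hs).eq
    refine le_antisymm (le_of_le_of_eq ((Nat.factorization_le_iff_dvd Nat.card_pos.ne'
      Nat.card_pos.ne').2 (Subgroup.card_subgroup_dvd_card H) 2)
      (factorization_two_of_klein P hP)) ?_
    rw [← Nat.prime_two.pow_dvd_iff_le_factorization Nat.card_pos.ne']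
    have h : Nat.card (P : Subgroup G) = 2 ^ 2 := by rw [hP.card_four]; norm_num
    rw [← h]
    exact Subgroup.card_dvd_of_le hle
  refine ⟨Cfsg.pPrimeCore 2 H, inferInstance, ?_, fun h => ⟨fun hh hd => hKcop ?_, fun hh => ?_⟩⟩
  · rw [hf, Subgroup.card_eq_card_quotient_mul_card_subgroup (Cfsg.pPrimeCore 2 H)] at hcard
    exact (Nat.eq_of_mul_eq_mul_right Nat.card_pos hcard).trans (by norm_num)
  · rw [Subgroup.orderOf_coe] at hd
    exact hd.trans (Subgroup.orderOf_dvd_natCard _ hh)
  · exact hreg h (by rwa [Subgroup.orderOf_coe] at hh)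

variable (P : Sylow 2 G) (hP : IsKleinFour (P : Subgroup G))
  {s : G} (hs : s ∈ (P : Subgroup G)) (hs1 : s ≠ 1)
include hP hs hs1

theorem klein_conj_odd {w h : G} (hw : Commute w s) (hh : Commute h s) (hw2 : w * w = 1) :
    ¬ 2 ∣ orderOf (w * (h * w * h⁻¹)) := by
  obtain ⟨K, hK, hq, hiff⟩ := exists_quot_hom P hP hs hs1
  set W : Subgroup.centralizer ({s} : Set G) :=
    ⟨w, Subgroup.mem_centralizer_singleton_iff.2 hw.eq⟩
  set X : Subgroup.centralizer ({s} : Set G) :=
    ⟨h, Subgroup.mem_centralizer_singleton_iff.2 hh.eq⟩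
  refine (hiff (W * (X * W * X⁻¹))).1 ?_
  have hcomm := IsPGroup.commutative_of_card_eq_prime_sq
    (G := Subgroup.centralizer ({s} : Set G) ⧸ K) (p := 2) (by rw [hq]; norm_num)
  rw [← QuotientGroup.eq_one_iff, QuotientGroup.mk_mul, QuotientGroup.mk_mul,
    hcomm ((X * W : Subgroup.centralizer ({s} : Set G)) : _ ⧸ K) _]
  rw [← QuotientGroup.mk_mul, ← QuotientGroup.mk_mul, inv_mul_cancel_left]
  rw [show W * W = 1 from Subtype.ext hw2, QuotientGroup.mk_one]

theorem klein_not_conj {w h : G} (hw : w ∈ (P : Subgroup G)) (hh : Commute h s) :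
    h * w * h⁻¹ ≠ s * w := fun e => by
  refine klein_conj_odd P hP hs hs1 (klein_commute hP hw hs) hh
    (CfsgLib.Invol.klein_sq_eq_one hP hw) ?_
  rw [e, ← mul_assoc, (klein_commute hP hw hs).eq, mul_assoc,
    CfsgLib.Invol.klein_sq_eq_one hP hw, mul_one, CfsgLib.Invol.klein_orderOf hP hs hs1]

/-- An involution commuting with `s` differs by an element of odd order from an element of `P`. -/
theorem klein_invol_cases {w : G} (hw : w ∈ (P : Subgroup G)) (hw1 : w ≠ 1) (hws : w ≠ s) {z : G}
    (hz : orderOf z = 2) (hzs : Commute z s) (hne : z ≠ s) :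
    ¬ 2 ∣ orderOf (w * z) ∨ ¬ 2 ∣ orderOf (s * w * z) := by
  classical
  obtain ⟨K, hK, hq, hiff⟩ := exists_quot_hom P hP hs hs1
  have hPH : (P : Subgroup G) ≤ Subgroup.centralizer ({s} : Set G) := fun x hx =>
    Subgroup.mem_centralizer_singleton_iff.2 (klein_commute hP hx hs).eq
  let f : (P : Subgroup G) →* (Subgroup.centralizer ({s} : Set G)) ⧸ K := (QuotientGroup.mk' K).comp (Subgroup.inclusion hPH)
  have hinj : Function.Injective f := (injective_iff_map_eq_one f).2 fun x hx => by
    have h := (hiff _).1 ((QuotientGroup.eq_one_iff _).1 hx)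
    by_contra hne'
    rw [Subgroup.coe_inclusion,
      CfsgLib.Invol.klein_orderOf hP x.2 (fun e => hne' (Subtype.ext e))] at h
    exact h dvd_rfl
  obtain ⟨_, hsurj⟩ := hinj.bijective_of_nat_card_le (by rw [hq, hP.card_four])
  set Z : Subgroup.centralizer ({s} : Set G) := ⟨z, Subgroup.mem_centralizer_singleton_iff.2 hzs.eq⟩
  obtain ⟨x, hx⟩ := hsurj ((Z : Subgroup.centralizer ({s} : Set G)) : (Subgroup.centralizer ({s} : Set G)) ⧸ K)
  have hxz : ¬ 2 ∣ orderOf ((x : G)⁻¹ * z) := (hiff ((Subgroup.inclusion hPH x)⁻¹ * Z)).1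
    (QuotientGroup.eq.1 hx)
  have hxinv : (x : G)⁻¹ = x := inv_eq_of_mul_eq_one_left (CfsgLib.Invol.klein_sq_eq_one hP x.2)
  rw [hxinv] at hxz
  rcases klein_cases hP hs hw hs1 hw1 hws x.2 with e | e | e | e <;> rw [e] at hxz
  · rw [one_mul, hz] at hxz; exact absurd dvd_rfl hxz
  · exfalso
    refine hne ?_
    have hsq : (s * z) * (s * z) = 1 := by
      rw [mul_assoc, ← mul_assoc z, hzs.eq, mul_assoc, CfsgLib.Invol.invol_mul_self hz, mul_one,
        CfsgLib.Invol.klein_sq_eq_one hP hs]
    have h1 := CfsgLib.Invol.eq_one_of_sq_of_odd hsq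
      (Nat.not_even_iff_odd.1 fun h => hxz (even_iff_two_dvd.1 h))
    rw [← mul_left_cancel_iff (a := s), CfsgLib.Invol.klein_sq_eq_one hP hs, h1]
  · exact Or.inl hxz
  · exact Or.inr hxz

theorem klein_centralizer_pair {w : G} (hw : w ∈ (P : Subgroup G)) (hw1 : w ≠ 1) (hws : w ≠ s) :
    Subgroup.centralizer ({s} : Set G) ⊓ Subgroup.centralizer ({w} : Set G) =
      Subgroup.centralizer ((P : Subgroup G) : Set G) := by
  refine le_antisymm (fun h hh => Subgroup.mem_centralizer_iff.2 fun x hx => ?_)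
    (le_inf (Subgroup.centralizer_le (Set.singleton_subset_iff.2 hs))
      (Subgroup.centralizer_le (Set.singleton_subset_iff.2 hw)))
  have h1 : Commute h s := Subgroup.mem_centralizer_singleton_iff.1 hh.1
  have h2 : Commute h w := Subgroup.mem_centralizer_singleton_iff.1 hh.2
  rcases klein_cases hP hs hw hs1 hw1 hws hx with e | e | e | e <;> rw [e]
  · simp
  · exact h1.eq.symm
  · exact h2.eq.symm
  · exact (h1.mul_right h2).eq.symm

/-- The involutions of the centralizer of `s` congruent to `w` form one class of that group. -/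
theorem klein_orbit_card {w : G} (hw : w ∈ (P : Subgroup G)) (hw1 : w ≠ 1) (hws : w ≠ s) :
    {u : G | orderOf u = 2 ∧ Commute u s ∧ ¬ 2 ∣ orderOf (w * u)}.ncard *
        Nat.card (Subgroup.centralizer ((P : Subgroup G) : Set G)) =
      Nat.card (Subgroup.centralizer ({s} : Set G)) := by
  set H := Subgroup.centralizer ({s} : Set G)
  have hw2 := CfsgLib.Invol.klein_orderOf hP hw hw1
  set W : H := ⟨w, Subgroup.mem_centralizer_singleton_iff.2 (klein_commute hP hw hs).eq⟩
  rw [← CfsgLib.Invol.card_class_mul_card_centralizer W, ← klein_centralizer_pair P hP hs hs1 hw hw1 hws]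
  congr 1
  · rw [← Nat.card_coe_set_eq]
    have hset : {u : G | orderOf u = 2 ∧ Commute u s ∧ ¬ 2 ∣ orderOf (w * u)} =
        Subtype.val '' {t : H | IsConj W t} := by
      ext u
      constructor
      · rintro ⟨hu2, hus, hodd⟩
        obtain ⟨d, hd, he⟩ := CfsgLib.Invol.exists_conj_of_odd hw2 hu2
          (Nat.not_even_iff_odd.1 fun h => hodd (even_iff_two_dvd.1 h))
        have hdH : d ∈ H := (Subgroup.zpowers_le.2 (mul_mem W.2
          (Subgroup.mem_centralizer_singleton_iff.2 hus.eq))) hd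
        exact ⟨⟨u, Subgroup.mem_centralizer_singleton_iff.2 hus.eq⟩,
          isConj_iff.2 ⟨⟨d, hdH⟩, Subtype.ext he⟩, rfl⟩
      · rintro ⟨t, ht, rfl⟩
        obtain ⟨h, he⟩ := isConj_iff.1 ht
        have he' : (h : G) * w * (h : G)⁻¹ = (t : G) := congrArg Subtype.val he
        refine ⟨?_, Subgroup.mem_centralizer_singleton_iff.1 t.2, ?_⟩
        · rw [← he', CfsgLib.Invol.orderOf_conj_eq, hw2]
        · rw [← he']
          exact klein_conj_odd P hP hs hs1 (klein_commute hP hw hs)
            (Subgroup.mem_centralizer_singleton_iff.1 h.2) (CfsgLib.Invol.klein_sq_eq_one hP hw)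
    rw [hset, Nat.card_image_of_injective Subtype.val_injective]
    rfl
  · refine Nat.card_congr
      { toFun := fun x => ⟨⟨x, x.2.1⟩, Subgroup.mem_centralizer_singleton_iff.2
          (Subtype.ext (Subgroup.mem_centralizer_singleton_iff.1 x.2.2))⟩
        invFun := fun x => ⟨((x : H) : G), (x : H).2, Subgroup.mem_centralizer_singleton_iff.2
          (congrArg Subtype.val (Subgroup.mem_centralizer_singleton_iff.1 x.2))⟩
        left_inv := fun x => rfl
        right_inv := fun x => rfl }

omit hs hs1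

theorem klein_centralizer_sylow_eq (Q : Sylow 2 G) :
    Nat.card (Subgroup.centralizer ((Q : Subgroup G) : Set G)) =
      Nat.card (Subgroup.centralizer ((P : Subgroup G) : Set G)) := by
  obtain ⟨g, rfl⟩ := MulAction.exists_smul_eq G P Q
  have h : Subgroup.centralizer (((g • P : Sylow 2 G) : Subgroup G) : Set G) =
      (Subgroup.centralizer ((P : Subgroup G) : Set G)).map (MulAut.conj g).toMonoidHom := by
    ext x
    rw [Subgroup.mem_map_equiv, Subgroup.mem_centralizer_iff, Subgroup.mem_centralizer_iff,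
      MulAut.conj_symm_apply, Sylow.coe_subgroup_smul]
    constructor
    · intro hx y hy
      have h1 := hx (g * y * g⁻¹) (Subgroup.smul_mem_pointwise_smul y (MulAut.conj g) _ hy)
      calc y * (g⁻¹ * x * g) = g⁻¹ * ((g * y * g⁻¹) * x) * g := by group
        _ = g⁻¹ * x * g * y := by rw [h1]; group
    · intro hx y hy
      obtain ⟨y', hy', rfl⟩ := hy
      have h1 := hx y' hy'
      show g * y' * g⁻¹ * x = x * (g * y' * g⁻¹)
      calc g * y' * g⁻¹ * x = g * (y' * (g⁻¹ * x * g)) * g⁻¹ := by group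
        _ = _ := by rw [h1]; group
  rw [h]
  exact (Nat.card_congr (Subgroup.equivMapOfInjective _ _ (MulAut.conj g).injective).toEquiv).symm

section Count

variable (hone : ∀ s t : G, orderOf s = 2 → orderOf t = 2 → IsConj s t)
include hone hs hs1

/-- The involutions whose product with `s` has even order. -/
theorem klein_singular_count :
    {u : G | orderOf u = 2 ∧ 2 ∣ orderOf (s * u)}.ncard *
        Nat.card (Subgroup.centralizer ((P : Subgroup G) : Set G)) ^ 2 =
      2 * Nat.card (Subgroup.centralizer ({s} : Set G)) ^ 2 := by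
  classical
  have := Fintype.ofFinite G
  set cP := Nat.card (Subgroup.centralizer ((P : Subgroup G) : Set G)) with hcP
  set cJ := Nat.card (Subgroup.centralizer ({s} : Set G)) with hcJ
  have hso := CfsgLib.Invol.klein_orderOf hP hs hs1
  have hss := CfsgLib.Invol.klein_sq_eq_one hP hs
  obtain ⟨w, hw, hw1, hws⟩ : ∃ w ∈ (P : Subgroup G), w ≠ 1 ∧ w ≠ s := by
    by_contra h
    push Not at h
    have hle : ((P : Subgroup G) : Set G) ⊆ {1, s} := fun x hx => by
      rcases eq_or_ne x 1 with e | e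
      · exact Or.inl e
      · exact Or.inr (h x hx e)
    have h2 := (Set.ncard_le_ncard hle (Set.toFinite _)).trans (Set.ncard_insert_le _ _)
    rw [Set.ncard_singleton, ← Nat.card_coe_set_eq] at h2
    have h4 : Nat.card ((P : Subgroup G) : Set G) = 4 := hP.card_four
    omega
  have hsw : s * w ∈ (P : Subgroup G) := mul_mem hs hw
  have hsw1 : s * w ≠ 1 := fun e => hws (mul_left_cancel (e.trans hss.symm))
  have hsws : s * w ≠ s := fun e => hw1 (mul_eq_left.1 e)
  set Z := {z : G | orderOf z = 2 ∧ Commute z s ∧ z ≠ s}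
  let O : G → Set G := fun z => {u : G | orderOf u = 2 ∧ Commute u z ∧ ¬ 2 ∣ orderOf (z * s * u)}
  -- the involutions of the centralizer other than `s`
  have hZ : Z.ncard * cP = 2 * cJ := by
    have hunion : Z = {u : G | orderOf u = 2 ∧ Commute u s ∧ ¬ 2 ∣ orderOf (w * u)} ∪
        {u : G | orderOf u = 2 ∧ Commute u s ∧ ¬ 2 ∣ orderOf (s * w * u)} := by
      ext u
      constructor
      · rintro ⟨h1, h2, h3⟩
        rcases klein_invol_cases P hP hs hs1 hw hw1 hws h1 h2 h3 with h | h
        · exact Or.inl ⟨h1, h2, h⟩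
        · exact Or.inr ⟨h1, h2, h⟩
      · rintro (⟨h1, h2, h3⟩ | ⟨h1, h2, h3⟩) <;> refine ⟨h1, h2, fun e => h3 ?_⟩ <;> rw [e]
        · rw [CfsgLib.Invol.klein_orderOf hP (mul_mem hw hs) ?_]
          rw [← (klein_commute hP hs hw).eq]; exact hsw1
        · rw [CfsgLib.Invol.klein_orderOf hP (mul_mem hsw hs) ?_]
          rw [mul_assoc, (klein_commute hP hw hs).eq, ← mul_assoc, hss, one_mul]; exact hw1
    have hdisj : Disjoint {u : G | orderOf u = 2 ∧ Commute u s ∧ ¬ 2 ∣ orderOf (w * u)}
        {u : G | orderOf u = 2 ∧ Commute u s ∧ ¬ 2 ∣ orderOf (s * w * u)} := by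
      rw [Set.disjoint_left]
      rintro u ⟨h1, h2, h3⟩ ⟨-, -, h4⟩
      have hcl : ∀ v ∈ (P : Subgroup G), v ≠ 1 → ¬ 2 ∣ orderOf (v * u) →
          ∃ d : G, Commute d s ∧ d * v * d⁻¹ = u := fun v hv hv1 hodd => by
        obtain ⟨d, hd, he⟩ := CfsgLib.Invol.exists_conj_of_odd
          (CfsgLib.Invol.klein_orderOf hP hv hv1) h1
          (Nat.not_even_iff_odd.1 fun h => hodd (even_iff_two_dvd.1 h))
        refine ⟨d, ?_, he⟩
        have hd' := (Subgroup.zpowers_le.2 (Subgroup.mem_centralizer_singleton_iff.2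
          ((klein_commute hP hv hs).mul_left h2).eq : v * u ∈ Subgroup.centralizer ({s} : Set G))) hd
        exact Subgroup.mem_centralizer_singleton_iff.1 hd'
      obtain ⟨d, hd, hde⟩ := hcl w hw hw1 h3
      obtain ⟨e, he, hee⟩ := hcl (s * w) hsw hsw1 h4
      refine klein_not_conj P hP hs hs1 hw (he.inv_left.mul_left hd) ?_
      calc (e⁻¹ * d) * w * (e⁻¹ * d)⁻¹ = e⁻¹ * (d * w * d⁻¹) * e := by group
        _ = e⁻¹ * (e * (s * w) * e⁻¹) * e := by rw [hde, hee]
        _ = s * w := by group
    rw [hunion, Set.ncard_union_eq hdisj, add_mul, klein_orbit_card P hP hs hs1 hw hw1 hws,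
      klein_orbit_card P hP hs hs1 hsw hsw1 hsws, two_mul]
  -- each of them collects a class of its own centralizer
  have hO : ∀ z ∈ Z, (O z).ncard * cP = cJ := by
    rintro z ⟨hz2, hzs, hzne⟩
    have hQ : ∃ Q : Sylow 2 G, s ∈ (Q : Subgroup G) ∧ z ∈ (Q : Subgroup G) := by
      have hc : ∃ v ∈ (P : Subgroup G), v ≠ 1 ∧ ¬ 2 ∣ orderOf (v * z) := by
        rcases klein_invol_cases P hP hs hs1 hw hw1 hws hz2 hzs hzne with h | h
        exacts [⟨w, hw, hw1, h⟩, ⟨s * w, hsw, hsw1, h⟩]
      obtain ⟨v, hv, hv1, hodd⟩ := hc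
      obtain ⟨d, hd, he⟩ := CfsgLib.Invol.exists_conj_of_odd
        (CfsgLib.Invol.klein_orderOf hP hv hv1) hz2
        (Nat.not_even_iff_odd.1 fun h => hodd (even_iff_two_dvd.1 h))
      have hd' : Commute d s := Subgroup.mem_centralizer_singleton_iff.1
        ((Subgroup.zpowers_le.2 (Subgroup.mem_centralizer_singleton_iff.2
          ((klein_commute hP hv hs).mul_left hzs).eq : v * z ∈ Subgroup.centralizer ({s} : Set G))) hd)
      refine ⟨d • P, ?_, ?_⟩ <;> rw [Sylow.coe_subgroup_smul]
      · have h1 : MulAut.conj d • s = s := by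
          show d * s * d⁻¹ = s
          rw [hd'.eq, mul_inv_cancel_right]
        rw [← h1]
        exact Subgroup.smul_mem_pointwise_smul _ _ _ hs
      · rw [← he]
        exact Subgroup.smul_mem_pointwise_smul v (MulAut.conj d) _ hv
    obtain ⟨Q, hsQ, hzQ⟩ := hQ
    have hQK : IsKleinFour (Q : Subgroup G) := by
      refine isKleinFour_of_sq (by rw [Q.card_eq_multiplicity, ← P.card_eq_multiplicity,
        hP.card_four]) fun x => ?_
      obtain ⟨g, rfl⟩ := MulAction.exists_smul_eq G P Q
      obtain ⟨y, hy, hxy⟩ := x.2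
      refine Subtype.ext ?_
      show (x : G) * (x : G) = 1
      rw [← show g * y * g⁻¹ = (x : G) from hxy, show g * y * g⁻¹ * (g * y * g⁻¹) = g * (y * y) * g⁻¹
        by group, CfsgLib.Invol.klein_sq_eq_one hP hy]
      group
    have hzz := CfsgLib.Invol.invol_ne_one hz2
    have h1 : z * s ≠ 1 := fun e => hzne (by
      rw [← mul_right_cancel_iff (a := s), e, hss])
    have h2 : z * s ≠ z := fun e => hs1 (mul_eq_left.1 e)
    have h := klein_orbit_card Q hQK hzQ hzz (mul_mem hzQ hsQ) h1 h2
    rw [klein_centralizer_sylow_eq P hP Q] at h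
    rw [hcJ]
    obtain ⟨g, hg⟩ := isConj_iff.1 (hone s z hso hz2)
    refine h.trans ?_
    have e : Subgroup.centralizer ({z} : Set G) =
        (Subgroup.centralizer ({s} : Set G)).map (MulAut.conj g).toMonoidHom := by
      ext x
      rw [Subgroup.mem_map_equiv, MulAut.conj_symm_apply, Subgroup.mem_centralizer_singleton_iff,
        Subgroup.mem_centralizer_singleton_iff, ← hg]
      constructor
      · intro hx
        calc g⁻¹ * x * g * s = g⁻¹ * (x * (g * s * g⁻¹)) * g := by group
          _ = s * (g⁻¹ * x * g) := by rw [hx]; group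
      · intro hx
        calc x * (g * s * g⁻¹) = g * (g⁻¹ * x * g * s) * g⁻¹ := by group
          _ = _ := by rw [hx]; group
    rw [e]
    exact (Nat.card_congr (Subgroup.equivMapOfInjective _ _ (MulAut.conj g).injective).toEquiv).symm
  -- every such involution belongs to exactly one of them
  have hbi : {u : G | orderOf u = 2 ∧ 2 ∣ orderOf (s * u)}.toFinset =
      Z.toFinset.biUnion fun z => (O z).toFinset := by
    ext u
    simp only [Set.mem_toFinset, Finset.mem_biUnion, Set.mem_ofPred_eq, Z, O]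
    constructor
    · rintro ⟨hu2, heven⟩
      obtain ⟨z, hz⟩ := exists_isPPart Nat.prime_two (s * u)
      obtain ⟨y, hy, hc, ⟨m, hm⟩, hyr⟩ := id hz
      have hz1 : z ≠ 1 := by rintro rfl; rw [one_mul] at hy; exact hyr (hy ▸ heven)
      have hz2 : orderOf z = 2 := by
        obtain ⟨Q, hQ⟩ := (IsPGroup.of_card (n := m) (by rw [Nat.card_zpowers, hm]) :
          IsPGroup 2 (Subgroup.zpowers z)).exists_le_sylow
        obtain ⟨c, hc'⟩ := MulAction.exists_smul_eq G Q P
        have hcz : c * z * c⁻¹ ∈ (P : Subgroup G) := by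
          rw [← hc', Sylow.coe_subgroup_smul]
          exact Subgroup.smul_mem_pointwise_smul z (MulAut.conj c) _ (hQ (Subgroup.mem_zpowers z))
        rw [← CfsgLib.Invol.orderOf_conj_eq c z]
        exact CfsgLib.Invol.klein_orderOf hP hcz fun e => hz1 (conj_eq_one_iff.1 e)
      have hzinv : z⁻¹ = z := CfsgLib.Invol.invol_inv hz2
      have hzs : Commute z s := by
        have h1 := isPPart_conj hz s
        have hinv : s * (s * u) * s⁻¹ = (s * u)⁻¹ := CfsgLib.Invol.conj_left_mul hso hu2
        have h2 : IsPPart 2 (s * u)⁻¹ z := by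
          refine ⟨y⁻¹, ?_, hc.inv_right, ⟨m, hm⟩, by rwa [orderOf_inv]⟩
          rw [← hy, mul_inv_rev, hzinv]
          exact (hc.inv_right).eq
        rw [hinv] at h1
        exact (mul_inv_eq_iff_eq_mul.1 (isPPart_unique Nat.prime_two h1 h2)).symm
      have hzsu : Commute z (s * u) := by rw [← hy]; exact (Commute.refl z).mul_right hc
      have hzu : Commute z u := by
        have := (hzs.mul_right hzsu)
        rwa [← mul_assoc, hss, one_mul] at this
      have hyeq : z * s * u = y := by
        rw [mul_assoc, ← hy, ← mul_assoc, CfsgLib.Invol.invol_mul_self hz2, one_mul]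
      refine ⟨z, ⟨hz2, hzs, fun e => ?_⟩, hu2, hzu.symm, by rwa [hyeq]⟩
      rw [e, hss, one_mul] at hyeq
      exact hyr (by rw [← hyeq, hu2])
    · rintro ⟨z, ⟨hz2, hzs, -⟩, hu2, hzu, hodd⟩
      refine ⟨hu2, by_contra fun h => ?_⟩
      have hp : IsPPart 2 (s * u) z := ⟨z * s * u, by
        rw [← mul_assoc, ← mul_assoc, CfsgLib.Invol.invol_mul_self hz2, one_mul],
        ((Commute.refl z).mul_right hzs).mul_right hzu.symm, ⟨1, by rw [hz2, pow_one]⟩, hodd⟩
      exact CfsgLib.Invol.invol_ne_one hz2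
        (isPPart_unique Nat.prime_two hp (isPPart_one_of_regular h))
  have hcount : {u : G | orderOf u = 2 ∧ 2 ∣ orderOf (s * u)}.ncard * cP = Z.ncard * cJ := by
    rw [Set.ncard_eq_toFinset_card', hbi, Finset.card_biUnion, Finset.sum_mul,
      Finset.sum_congr rfl (g := fun _ => cJ) (fun z hz => by
        rw [← Set.ncard_eq_toFinset_card']; exact hO z (Set.mem_toFinset.1 hz)),
      Finset.sum_const, ← Set.ncard_eq_toFinset_card', smul_eq_mul]
    intro a ha b hb hab
    rw [Function.onFun, Finset.disjoint_left]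
    intro u hua hub
    simp only [Set.mem_toFinset, O, Set.mem_ofPred_eq] at hua hub
    obtain ⟨ha2, has, -⟩ := Set.mem_toFinset.1 ha
    obtain ⟨hb2, hbs, -⟩ := Set.mem_toFinset.1 hb
    refine hab (isPPart_unique Nat.prime_two (g := s * u) ?_ ?_)
    · exact ⟨a * s * u, by rw [← mul_assoc, ← mul_assoc, CfsgLib.Invol.invol_mul_self ha2, one_mul],
        ((Commute.refl a).mul_right has).mul_right hua.2.1.symm, ⟨1, by rw [ha2, pow_one]⟩, hua.2.2⟩
    · exact ⟨b * s * u, by rw [← mul_assoc, ← mul_assoc, CfsgLib.Invol.invol_mul_self hb2, one_mul],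
        ((Commute.refl b).mul_right hbs).mul_right hub.2.1.symm, ⟨1, by rw [hb2, pow_one]⟩, hub.2.2⟩
  calc {u : G | orderOf u = 2 ∧ 2 ∣ orderOf (s * u)}.ncard * cP ^ 2
      = (Z.ncard * cJ) * cP := by rw [← hcount]; ring
    _ = Z.ncard * cP * cJ := by ring
    _ = 2 * cJ ^ 2 := by rw [hZ]; ring

variable {M : Ideal AlgInt} [M.IsPrime] (hM : IsPModular 2 M)
include hM

/-- The order formula in the form of a sum over the principal block. -/
theorem klein_order_sum :
    (Nat.card G : ℂ) * (∑ᶠ χ ∈ principalBlock M G, (χ : G → ℂ) s ^ 3 / (χ : G → ℂ) 1) *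
        (Nat.card (Subgroup.centralizer ((P : Subgroup G) : Set G)) : ℂ) ^ 2 =
      8 * (Nat.card (Subgroup.centralizer ({s} : Set G)) : ℂ) ^ 3 := by
  classical
  have := Fintype.ofFinite G
  have := Fintype.ofFinite (principalBlock M G)
  have hso := CfsgLib.Invol.klein_orderOf hP hs hs1
  obtain ⟨hcard, hval⟩ := klein_principal_card hM P hP hone hs hs1
  rw [Nat.card_eq_fintype_card] at hcard
  set cP := Nat.card (Subgroup.centralizer ((P : Subgroup G) : Set G))
  set cJ := Nat.card (Subgroup.centralizer ({s} : Set G))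
  set T := (Finset.univ : Finset G).filter fun t => 2 ∣ orderOf (s * (t * s * t⁻¹))
  have hT : T.card = cJ * {u : G | orderOf u = 2 ∧ 2 ∣ orderOf (s * u)}.ncard := by
    rw [Finset.card_eq_sum_card_fiberwise (f := fun t => t * s * t⁻¹)
      (t := {u : G | orderOf u = 2 ∧ 2 ∣ orderOf (s * u)}.toFinset) fun t ht => by
        simpa [CfsgLib.Invol.orderOf_conj_eq, hso] using (Finset.mem_filter.1 ht).2,
      Finset.sum_congr rfl (g := fun _ => cJ), Finset.sum_const, ← Set.ncard_eq_toFinset_card',
      smul_eq_mul, mul_comm]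
    intro u hu
    simp only [Set.mem_toFinset, Set.mem_ofPred_eq] at hu
    obtain ⟨g, hg⟩ := isConj_iff.1 (hone s u hso hu.1)
    rw [← Fintype.card_coe]
    simp only [cJ, Nat.card_eq_fintype_card]
    refine (Fintype.card_congr ?_)
    exact
      { toFun := fun t => ⟨g⁻¹ * t.1, Subgroup.mem_centralizer_singleton_iff.2 (by
          have ht : t.1 * s * (t.1)⁻¹ = g * s * g⁻¹ :=
            ((Finset.mem_filter.1 t.2).2).trans hg.symm
          calc g⁻¹ * t.1 * s = g⁻¹ * (t.1 * s * (t.1)⁻¹) * t.1 := by group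
            _ = s * (g⁻¹ * t.1) := by rw [ht]; group)⟩
        invFun := fun c => ⟨g * c.1, by
          have hc := Subgroup.mem_centralizer_singleton_iff.1 c.2
          have he : g * (c : G) * s * (g * (c : G))⁻¹ = u := by
            rw [← hg, mul_assoc g, hc]; group
          simp only [Finset.mem_filter, T, Finset.mem_univ, true_and]
          exact ⟨by rw [he]; exact hu.2, he⟩⟩
        left_inv := fun t => Subtype.ext (mul_inv_cancel_left g t.1)
        right_inv := fun c => Subtype.ext (inv_mul_cancel_left g c.1) }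
  have hsum : (Nat.card G : ℂ) * (∑ᶠ χ ∈ principalBlock M G, (χ : G → ℂ) s ^ 3 / (χ : G → ℂ) 1) =
      4 * (T.card : ℂ) := by
    rw [← finsum_set_coe_eq_finsum_mem, finsum_eq_sum_of_fintype, Finset.mul_sum]
    calc ∑ χ : principalBlock M G, (Nat.card G : ℂ) *
          (((χ : IrrCharacter G) : G → ℂ) s ^ 3 / ((χ : IrrCharacter G) : G → ℂ) 1)
        = ∑ χ : principalBlock M G, ∑ t : G, ((χ : IrrCharacter G) : G → ℂ) s *
            ((χ : IrrCharacter G) : G → ℂ) (s * (t * s * t⁻¹)) := by
          refine Finset.sum_congr rfl fun χ _ => ?_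
          rw [← Finset.mul_sum, CfsgLib.BlockB.sum_irr_mul_conj]
          ring
      _ = ∑ t : G, if 2 ∣ orderOf (s * (t * s * t⁻¹)) then (4 : ℂ) else 0 := by
          rw [Finset.sum_comm]
          refine Finset.sum_congr rfl fun t _ => ?_
          split_ifs with h
          · rw [Finset.sum_congr rfl (g := fun _ => (1 : ℂ)) fun χ _ => ?_, Finset.sum_const,
              Finset.card_univ, hcard]
            · norm_num
            · rw [klein_principal_singular hM P hP hone hs hs1 χ.2 h]
              rcases hval χ χ.2 with e | e <;> rw [e] <;> norm_num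
          · exact klein_relation hM P hP hone hs hs1 h
      _ = _ := by rw [← Finset.sum_filter, Finset.sum_const, nsmul_eq_mul, mul_comm]
  rw [hsum, hT]
  have h := congrArg (Nat.cast : ℕ → ℂ) (klein_singular_count P hP hs hs1 hone)
  push_cast at h ⊢
  linear_combination 4 * (cJ : ℂ) * h

end Count

end CfsgLib.BlockA
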