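import Cfsg.Agent.Lib.BlockA.KleinPatterns
import Cfsg.Agent.Lib.BlockA.ChainBlocks
import Cfsg.Agent.Lib.BlockA.DefectOneStar
import Cfsg.Agent.Lib.BlockA.Watanabe
import Cfsg.Agent.Lib.BlockA.KleinPrincipal

/-!
The perfect isometry between a 2-block with Klein four defect group and its Brauer correspondent.
-/

set_option autoImplicit false
set_option linter.unusedSectionVars false
set_option maxHeartbeats 1000000

namespace CfsgLib.BlockA.KleinIsometry

open Cfsg CfsgLib.Block CfsgLib.BlockA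
open scoped ComplexConjugate

universe u

variable {M : Ideal AlgInt} [M.IsPrime]

section Patterns

variable {G : Type u} [Group G] [Fintype G] {H : Type u} [Group H] [Fintype H]

omit [M.IsPrime] in
theorem commute_of_klein {P : Subgroup G} (hV : IsKleinFour P) :
    ∀ v ∈ P, ∀ w ∈ P, v * w = w * v := fun v hv w hw =>
  congrArg Subtype.val ((IsKleinFour.isMulCommutative (G := P)).is_comm.comm ⟨v, hv⟩ ⟨w, hw⟩)

/-- Blocks with Klein four defect groups and equal ranks are perfectly isometric. -/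
theorem exists_isometry (hM : IsPModular 2 M) {B : Set (IrrCharacter G)} {P : Subgroup G}
    {e : Set (IrrCharacter (Subgroup.centralizer (P : Set G)))}
    (hmax : IsMaximalBrauerPair 2 M B P e) (hV : IsKleinFour P)
    {c : Set (IrrCharacter H)} {Q : Subgroup H}
    {f : Set (IrrCharacter (Subgroup.centralizer (Q : Set H)))}
    (hmax' : IsMaximalBrauerPair 2 M c Q f) (hV' : IsKleinFour Q)
    (hl : blockRank 2 c = blockRank 2 B) :
    ∃ (I : IrrCharacter H → IrrCharacter G) (ε : IrrCharacter H → ℤ),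
      IsPerfectIsometry 2 M c B I ε := by
  classical
  have : Fact (Nat.Prime 2) := ⟨Nat.prime_two⟩
  obtain ⟨he13, hk, hrk⟩ := KleinDefect.klein_invariants hM hmax hV
  obtain ⟨-, hk', -⟩ := KleinDefect.klein_invariants hM hmax' hV'
  obtain ⟨a, hd, hsg⟩ := KleinSigns.exists_signData hM hmax hV (commute_of_klein hV)
  obtain ⟨a', hd', hsg'⟩ := KleinSigns.exists_signData hM hmax' hV' (commute_of_klein hV')
  let := Fintype.ofFinite {v : G // v ∈ P ∧ v ≠ 1}
  let := Fintype.ofFinite {v : H // v ∈ Q ∧ v ≠ 1}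
  have hcard : ∀ {K : Type u} [Group K] [Fintype K] {R : Subgroup K} (_ : IsKleinFour R)
      [Fintype {v : K // v ∈ R ∧ v ≠ 1}], Fintype.card {v : K // v ∈ R ∧ v ≠ 1} = 3 := by
    intro K _ _ R hR _
    have e : {v : K // v ∈ R ∧ v ≠ 1} ≃ {x : R // x ≠ 1} :=
      { toFun := fun v => ⟨⟨v, v.2.1⟩, fun h => v.2.2 (congrArg Subtype.val h)⟩
        invFun := fun x => ⟨x, x.1.2, fun h => x.2 (Subtype.ext h)⟩
        left_inv := fun _ => rfl
        right_inv := fun _ => rfl }
    rw [Fintype.card_congr e, Fintype.card_subtype_compl, Fintype.card_subtype_eq,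
      ← Nat.card_eq_fintype_card, hR.card_four]
  -- a bijection
  obtain ⟨χ₁, hχ₁⟩ : B.Nonempty := isPBlock_nonempty hmax.1.2.1
  obtain ⟨η₁, hη₁⟩ : c.Nonempty := isPBlock_nonempty hmax'.1.2.1
  obtain ⟨E⟩ : Nonempty (c ≃ B) := ⟨(Finite.equivFinOfCardEq hk').trans (Finite.equivFinOfCardEq hk).symm⟩
  let I : IrrCharacter H → IrrCharacter G := fun η => if h : η ∈ c then E ⟨η, h⟩ else χ₁
  have hIval : ∀ η (h : η ∈ c), I η = E ⟨η, h⟩ := fun η h => dif_pos h
  have hI : Set.BijOn I c B := by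
    refine ⟨fun η h => by rw [hIval η h]; exact (E ⟨η, h⟩).2, fun η h η' h' he => ?_,
      fun χ hχ => ?_⟩
    · rw [hIval η h, hIval η' h'] at he
      exact congrArg Subtype.val (E.injective (Subtype.ext he))
    · refine ⟨(E.symm ⟨χ, hχ⟩ : c), (E.symm ⟨χ, hχ⟩).2, ?_⟩
      rw [hIval _ (E.symm ⟨χ, hχ⟩).2, Subtype.coe_eta, Equiv.apply_symm_apply]
  obtain ⟨i₀⟩ : Nonempty {v : H // v ∈ Q ∧ v ≠ 1} :=
    Fintype.card_pos_iff.1 (by rw [hcard hV']; norm_num)
  obtain ⟨j₀⟩ : Nonempty {v : G // v ∈ P ∧ v ≠ 1} :=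
    Fintype.card_pos_iff.1 (by rw [hcard hV]; norm_num)
  rcases he13 with he | he
  · -- rank one: the balanced patterns
    rw [he] at hrk
    have hrk' : blockRank 2 c = 1 := hl.trans hrk
    have hbal : ∀ {K : Type u} [Group K] [Fintype K] {A : Set (IrrCharacter K)} {κ : Type u}
        [Fintype κ] {α : κ → IrrCharacter K → ℤ} (_ : PerfectSpan.SignData 2 M A α)
        (_ : ∀ i, ∀ χ ∈ A, α i χ = 1 ∨ α i χ = -1) (_ : blockRank 2 A = 1)
        (_ : Nat.card A = 4) (_ : Fintype.card κ = 3),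
        (∀ i, ∑ χ ∈ A.toFinite.toFinset, α i χ = 0) ∧
        ∀ r : IrrCharacter K → ℤ, (∀ χ ∈ A, r χ = 1 ∨ r χ = -1) →
          ∑ χ ∈ A.toFinite.toFinset, r χ = 0 →
          ∃ i, ∃ σ : ℤ, ∀ χ ∈ A, r χ = σ * α i χ := by
      intro K _ _ A κ _ α hα hαs hA hA4 hκ
      have hmem : ∀ {χ}, χ ∈ A.toFinite.toFinset ↔ χ ∈ A := A.toFinite.mem_toFinset
      have hF : A.toFinite.toFinset.card = 4 := (Nat.card_eq_card_finite_toFinset _).symm.trans hA4
      have hdist : ∀ i j, i ≠ j → ¬ ∃ σ : ℤ, ∀ χ ∈ A, α j χ = σ * α i χ := fun i j hij =>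
        KleinPatterns.not_proportional_of_rank_one hα hA (by omega) hij
      have hzero : ∀ i, ∑ χ ∈ A.toFinite.toFinset, α i χ = 0 := by
        intro i
        by_contra hne
        obtain ⟨j, hj⟩ := Fintype.exists_ne_of_one_lt_card (by omega) i
        have hd1 : ∀ k, ∑ χ ∈ A.toFinite.toFinset,
            (charDegree (χ : K → ℂ) : ℤ) * α k χ = 0 := by
          intro k
          have h := hα.orth k 1 (by rw [orderOf_one]; norm_num)
          rw [Finset.sum_congr rfl fun χ _ => by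
            rw [charDegree_spec (CfsgLib.Char.irr_isCharacter χ.2)]] at h
          exact_mod_cast h
        obtain ⟨σ, hσ⟩ := KleinPatterns.eq_of_unbalanced hF
          (d := fun χ : IrrCharacter K => (charDegree (χ : K → ℂ) : ℤ))
          (fun χ _ => by exact_mod_cast Nat.pos_of_ne_zero (charDegree_ne_zero χ.2))
          (fun χ hχ => hαs i χ (hmem.1 hχ)) (fun χ hχ => hαs j χ (hmem.1 hχ)) (hd1 i) (hd1 j) hne
        exact hdist i j hj.symm ⟨σ, fun χ hχ => hσ χ (hmem.2 hχ)⟩
      refine ⟨hzero, fun r hr hr0 => ?_⟩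
      obtain ⟨i, σ, hσ⟩ := KleinPatterns.balanced_complete hF hκ
        (fun i χ hχ => hαs i χ (hmem.1 hχ)) hzero
        (fun i j hij ⟨σ, hσ⟩ => hdist i j hij ⟨σ, fun χ hχ => hσ χ (hmem.2 hχ)⟩)
        (fun χ hχ => hr χ (hmem.1 hχ)) hr0
      exact ⟨i, σ, fun χ hχ => hσ χ (hmem.2 hχ)⟩
    obtain ⟨hz, hcompl⟩ := hbal hd hsg hrk hk (hcard hV)
    obtain ⟨hz', hcompl'⟩ := hbal hd' hsg' hrk' hk' (hcard hV')
    have : Nonempty (IrrCharacter H) := ⟨η₁⟩
    let J := Function.invFunOn I c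
    have hJ : ∀ η ∈ c, J (I η) = η := fun η hη => hI.injOn.leftInvOn_invFunOn hη
    refine ⟨I, fun _ => 1, PerfectSpan.isPerfectIsometry hM hmax.1.2.1 hmax'.1.2.1 hd hd' hI
      (fun _ _ => Or.inl rfl) (fun i => ?_) (fun j => ?_)⟩
    · have hs0 : ∑ χ ∈ B.toFinite.toFinset, a' i (J χ) = 0 := by
        have h := PerfectSpan.sum_reindex hI (fun χ => (a' i (J χ) : ℂ))
        have h' : ((∑ χ ∈ B.toFinite.toFinset, a' i (J χ) : ℤ) : ℂ) = ((0 : ℤ) : ℂ) := by
          rw [← hz' i, Int.cast_sum, Int.cast_sum, h]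
          exact Finset.sum_congr rfl fun η hη => by rw [hJ η (c.toFinite.mem_toFinset.1 hη)]
        exact_mod_cast h'
      obtain ⟨j, σ, hσ⟩ := hcompl (fun χ => a' i (J χ))
        (fun χ hχ => hsg' i _ (Function.invFunOn_mem (hI.surjOn hχ))) hs0
      exact ⟨j, σ, fun η hη => by simp only [one_mul, ← hσ (I η) (hI.mapsTo hη), hJ η hη]⟩
    · have hs0 : ∑ η ∈ c.toFinite.toFinset, a j (I η) = 0 := by
        have h := PerfectSpan.sum_reindex hI (fun χ => (a j χ : ℂ))
        have h' : ((∑ η ∈ c.toFinite.toFinset, a j (I η) : ℤ) : ℂ) = ((0 : ℤ) : ℂ) := by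
          rw [← hz j, Int.cast_sum, Int.cast_sum, h]
        exact_mod_cast h'
      obtain ⟨i, σ, hσ⟩ := hcompl' (fun η => a j (I η))
        (fun η hη => hsg j _ (hI.mapsTo hη)) hs0
      exact ⟨i, σ, fun η hη => by rw [one_mul, ← hσ η hη]⟩
  · -- rank three: one pattern
    rw [he] at hrk
    have hp := KleinPatterns.proportional_of_rank hd hsg (by omega) j₀
    have hp' := KleinPatterns.proportional_of_rank hd' hsg' (by omega) i₀
    have sq : ∀ z : ℤ, z = 1 ∨ z = -1 → z * z = 1 := fun z h => by rcases h with rfl | rfl <;> rfl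
    refine ⟨I, fun η => a' i₀ η * a j₀ (I η), PerfectSpan.isPerfectIsometry hM hmax.1.2.1
      hmax'.1.2.1 hd hd' hI (fun η hη => ?_) (fun i => ?_) (fun j => ?_)⟩
    · rcases hsg' i₀ η hη with h | h <;> rcases hsg j₀ _ (hI.mapsTo hη) with h' | h' <;>
        rw [h, h'] <;> norm_num
    · obtain ⟨τ, hτ⟩ := hp' i
      refine ⟨j₀, τ, fun η hη => ?_⟩
      rw [hτ η hη]
      linear_combination τ * a j₀ (I η) * sq _ (hsg' i₀ η hη)
    · obtain ⟨τ, hτ⟩ := hp j
      refine ⟨i₀, τ, fun η hη => ?_⟩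
      rw [hτ _ (hI.mapsTo hη)]
      linear_combination τ * a' i₀ η * sq _ (hsg j₀ _ (hI.mapsTo hη))

end Patterns

variable {G : Type u} [Group G] [Fintype G]

local notation "cen" Q => Subgroup.centralizer ((Q : Subgroup G) : Set G)
local notation "nrm" Q => Subgroup.normalizer ((Q : Subgroup G) : Set G)

/-- The pair of the correspondent, read in `G`. -/
theorem exists_pair_of_correspondent {p : ℕ} (hM : IsPModular p M) {B : Set (IrrCharacter G)}
    {P : Subgroup G} (hPD : IsDefectGroup p M B P)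
    {c : Set (IrrCharacter (nrm P))} (hcD : IsDefectGroup p M c (P.subgroupOf (nrm P)))
    (hc : IsInducedBlock M (nrm P) c B) :
    ∃ (g : Set (IrrCharacter (cen P))) (h : CenEq (P.subgroupOf (nrm P)) P),
      IsMaximalBrauerPair p M B P g ∧
      IsMaximalBrauerPair p M c (P.subgroupOf (nrm P)) (subBlock h g) := by
  classical
  have := Fintype.ofFinite (nrm P)
  have hPN : P ≤ nrm P := Subgroup.le_normalizer
  have hCN : (cen P) ≤ nrm P := fun x hx => Subgroup.mem_normalizer_iff.2 fun w => by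
    constructor
    · intro hw
      rwa [← Subgroup.mem_centralizer_iff.1 hx w hw, mul_inv_cancel_right]
    · intro hw
      have h := Subgroup.mem_centralizer_iff.1 hx _ hw
      have : w = x * w * x⁻¹ := by
        calc w = x⁻¹ * (x * w * x⁻¹ * x) := by group
          _ = x⁻¹ * (x * (x * w * x⁻¹)) := by rw [h]
          _ = _ := by group
      rwa [this]
  have h := cenEq_subgroupOf hPN hCN
  obtain ⟨f, hf⟩ := DefectOneStar.exists_maximal_pair hM hc.1 hcD
  obtain ⟨g, hg, rfl⟩ := exists_subBlock_eq h hf.1.1.2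
  refine ⟨g, h, ?_, hf⟩
  have hfc : IsInducedBlock M (Subgroup.centralizer ((P.subgroupOf (nrm P) : Subgroup (nrm P)) :
      Set (nrm P))) (subBlock h g) c := isInducedBlock_of_isBrauerPairOf hM hf.1
  obtain ⟨ξ, hξ⟩ := isPBlock_nonempty hg
  obtain ⟨χc, hχc⟩ := isPBlock_nonempty hc.1
  obtain ⟨χ₀, hχ₀⟩ := isPBlock_nonempty hc.2.1
  have h1 : ChainBlocks.Below M (nrm P).subtype χ₀ χc :=
    (ChainBlocks.below_subtype_iff hc.2.1 hχ₀ _ χc).2 ⟨c, hχc, hc⟩
  have h2 := (ChainBlocks.below_comp (nrm P).subtype χ₀ hfc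
    (show irrMap (cenIso h) ξ ∈ subBlock h g from ⟨ξ, hξ, rfl⟩) hχc).2 h1
  have h3 : ChainBlocks.Below M ((cen P).subtype.comp (cenIso h).toMonoidHom) χ₀
      (pullIrr (cenIso h) ξ) := h2
  rw [ChainBlocks.below_pullIrr] at h3
  obtain ⟨β, hξβ, hβ⟩ := (ChainBlocks.below_subtype_iff hc.2.1 hχ₀ _ ξ).1 h3
  obtain rfl : β = g := isPBlock_eq_of_mem hβ.1 hg hξβ hξ
  have hpair : IsBrauerPair p M P β := ⟨isPGroup_defectGroup hM hc.2.1 hPD, hg⟩
  obtain ⟨B', hB', -⟩ := existsUnique_block hM hpair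
  obtain rfl : B' = B := isInducedBlock_unique _ (isInducedBlock_of_isBrauerPairOf hM hB') hβ
  exact isMaximal_of_card hM hB' hPD le_rfl

/-- **The correspondent has the same inertial index.** -/
theorem relIndex_eq {p : ℕ} (hM : IsPModular p M) {P : Subgroup G}
    {g : Set (IrrCharacter (cen P))} (hg : IsPBlock M g)
    (h : CenEq (P.subgroupOf (nrm P)) P) :
    (Subgroup.centralizer ((P.subgroupOf (nrm P) : Subgroup (nrm P)) : Set (nrm P))).relIndex
        (pairStab M (P.subgroupOf (nrm P)) (subBlock h g)) =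
      (cen P).relIndex (pairStab M P g) := by
  classical
  have hPN : P ≤ nrm P := Subgroup.le_normalizer
  have e1 : Subgroup.centralizer ((P.subgroupOf (nrm P) : Subgroup (nrm P)) : Set (nrm P)) =
      (cen P).subgroupOf (nrm P) := by
    ext t
    exact ((cenEq_iff _ P).1 h).2 t
  have e2 : pairStab M (P.subgroupOf (nrm P)) (subBlock h g) =
      (pairStab M P g).subgroupOf (nrm P) := by
    ext t
    rw [Subgroup.mem_subgroupOf]
    change _ ∧ _ ↔ _ ∧ _
    constructor
    · rintro ⟨h1, h2⟩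
      have h1' := (mem_normalizer_subgroupOf hPN t).1 h1
      refine ⟨h1', ?_⟩
      rw [← stabilizesBlock_iff_coeff hM hg h1',
        ← stabilizesBlock_subBlock hM hPN h hg t h1',
        stabilizesBlock_iff_coeff hM (isPBlock_subBlock h hg) h1]
      exact h2
    · rintro ⟨h1, h2⟩
      refine ⟨(mem_normalizer_subgroupOf hPN t).2 h1, ?_⟩
      rw [← stabilizesBlock_iff_coeff hM (isPBlock_subBlock h hg)
        ((mem_normalizer_subgroupOf hPN t).2 h1), stabilizesBlock_subBlock hM hPN h hg t h1,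
        stabilizesBlock_iff_coeff hM hg h1]
      exact h2
  rw [e1, e2, Subgroup.relIndex_subgroupOf (pairStab_le P g)]

/-- **The perfect isometry.** -/
theorem main (hM : IsPModular 2 M) (B : Set (IrrCharacter G)) (P : Subgroup G)
    (hPD : IsDefectGroup 2 M B P) (hV : IsKleinFour P) (c : Set (IrrCharacter (nrm P)))
    (hcD : IsDefectGroup 2 M c (P.subgroupOf (nrm P))) (hc : IsInducedBlock M (nrm P) c B) :
    ∃ (I : IrrCharacter (nrm P) → IrrCharacter G) (ε : IrrCharacter (nrm P) → ℤ),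
      IsPerfectIsometry 2 M c B I ε := by
  classical
  have := Fintype.ofFinite (nrm P)
  obtain ⟨g, h, hmax, hmax'⟩ := exists_pair_of_correspondent hM hPD hcD hc
  have hPN : P ≤ nrm P := Subgroup.le_normalizer
  have hV' : IsKleinFour (P.subgroupOf (nrm P)) := by
    refine CfsgLib.BlockA.isKleinFour_of_sq ((Nat.card_congr (Subgroup.subgroupOfEquivOfLe hPN).toEquiv).trans
      hV.card_four) fun x => (Subgroup.subgroupOfEquivOfLe hPN).injective ?_
    rw [map_mul, map_one, IsKleinFour.mul_self]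
  refine exists_isometry hM hmax hV hmax' hV' ?_
  obtain ⟨-, -, h1⟩ := KleinDefect.klein_invariants hM hmax hV
  obtain ⟨-, -, h2⟩ := KleinDefect.klein_invariants hM hmax' hV'
  rw [h1, h2, relIndex_eq hM hmax.1.1.2 h]

end CfsgLib.BlockA.KleinIsometry
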