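import Cfsg.Agent.Lib.BlockA.KleinSigns

/-!
The families of sign vectors of a 2-block with Klein four defect group, by its rank.
-/

set_option autoImplicit false
set_option linter.unusedSectionVars false
set_option maxHeartbeats 1000000

namespace CfsgLib.BlockA.KleinPatterns

open Cfsg CfsgLib.Block CfsgLib.BlockA
open scoped ComplexConjugate

universe u

section Comb

variable {α : Type*} {F : Finset α}

theorem sum_sign [DecidableEq α] {s : α → ℤ} (hs : ∀ x ∈ F, s x = 1 ∨ s x = -1) :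
    ∑ x ∈ F, s x = 2 * ((F.filter fun x => s x = 1).card : ℤ) - F.card := by
  rw [Finset.card_eq_sum_ones F, Finset.card_filter, Nat.cast_sum, Nat.cast_sum, Finset.mul_sum,
    ← Finset.sum_sub_distrib]
  refine Finset.sum_congr rfl fun x hx => ?_
  rcases hs x hx with h | h <;> simp [h]

/-- An unbalanced sign vector orthogonal to positive weights is the only one up to sign. -/
theorem eq_of_unbalanced [DecidableEq α] (hF : F.card = 4) {d : α → ℤ} (hd : ∀ x ∈ F, 0 < d x)
    {s t : α → ℤ} (hs : ∀ x ∈ F, s x = 1 ∨ s x = -1) (ht : ∀ x ∈ F, t x = 1 ∨ t x = -1)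
    (hds : ∑ x ∈ F, d x * s x = 0) (hdt : ∑ x ∈ F, d x * t x = 0) (hs0 : ∑ x ∈ F, s x ≠ 0) :
    ∃ σ : ℤ, ∀ x ∈ F, t x = σ * s x := by
  -- the odd one
  have hconst : ∀ τ : ℤ, τ = 1 ∨ τ = -1 → ¬ ∀ x ∈ F, s x = τ := by
    intro τ hτ h
    rw [Finset.sum_congr rfl (fun x hx => by rw [h x hx]), ← Finset.sum_mul] at hds
    have hpos : 0 < ∑ x ∈ F, d x := Finset.sum_pos hd (Finset.card_pos.1 (by omega))
    rcases hτ with rfl | rfl <;> omega
  obtain ⟨i, hi, hrest⟩ : ∃ i ∈ F, ∀ x ∈ F, x ≠ i → s x = -s i := by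
    have hsum := sum_sign hs
    rw [hF] at hsum
    set P := F.filter fun x => s x = 1 with hP
    have hP4 : P.card ≤ 4 := hF ▸ Finset.card_filter_le _ _
    have hP2 : P.card ≠ 2 := fun h => hs0 (by rw [hsum, h]; norm_num)
    have hP0 : P.card ≠ 0 := fun h => hconst (-1) (Or.inr rfl) fun x hx =>
      (hs x hx).resolve_left fun h1 => Finset.notMem_empty x
        (Finset.card_eq_zero.1 h ▸ Finset.mem_filter.2 ⟨hx, h1⟩)
    have hPf : P.card ≠ 4 := fun h => hconst 1 (Or.inl rfl) fun x hx =>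
      Finset.filter_eq_self.1 (Finset.eq_of_subset_of_card_le (Finset.filter_subset _ _)
        (by rw [← hP, h, hF])) x hx
    rcases (show P.card = 1 ∨ P.card = 3 by omega) with h | h
    · obtain ⟨i, hi⟩ := Finset.card_eq_one.1 h
      obtain ⟨hiF, his⟩ := Finset.mem_filter.1 (show i ∈ P by rw [hi]; simp)
      refine ⟨i, hiF, fun x hx hxi => ?_⟩
      rw [his]
      exact (hs x hx).resolve_left fun h1 => hxi (Finset.mem_singleton.1
        (hi ▸ (Finset.mem_filter.2 ⟨hx, h1⟩ : x ∈ P)))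
    · obtain ⟨i, hi⟩ := Finset.card_eq_one.1 (show (F \ P).card = 1 by
        rw [Finset.card_sdiff_of_subset (Finset.filter_subset _ _), h, hF])
      obtain ⟨hiF, hiP⟩ := Finset.mem_sdiff.1 (show i ∈ F \ P by rw [hi]; simp)
      have his : s i = -1 := (hs i hiF).resolve_left fun h1 => hiP (Finset.mem_filter.2 ⟨hiF, h1⟩)
      refine ⟨i, hiF, fun x hx hxi => ?_⟩
      rw [his, neg_neg]
      exact (hs x hx).resolve_right fun h1 => hxi (Finset.mem_singleton.1 (hi ▸
        (Finset.mem_sdiff.2 ⟨hx, fun h2 => by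
          have := (Finset.mem_filter.1 h2).2
          omega⟩ : x ∈ F \ P)))
  have h0 : ∑ x ∈ F, d x * (t x * t i - s x * s i) = 0 := by
    rw [Finset.sum_congr rfl (g := fun x => d x * t x * t i - d x * s x * s i) (fun x _ => by ring),
      Finset.sum_sub_distrib, ← Finset.sum_mul, ← Finset.sum_mul, hds, hdt, zero_mul, zero_mul,
      sub_zero]
  have hnn : ∀ x ∈ F, 0 ≤ d x * (t x * t i - s x * s i) := by
    intro x hx
    refine mul_nonneg (hd x hx).le ?_
    rcases eq_or_ne x i with rfl | h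
    · rcases ht x hx with e | e <;> rcases hs x hx with e' | e' <;> rw [e, e'] <;> norm_num
    · rw [hrest x hx h]
      rcases ht x hx with e | e <;> rcases ht i hi with e'' | e'' <;>
        rcases hs i hi with e' | e' <;> rw [e, e', e''] <;> norm_num
  refine ⟨t i * s i, fun x hx => ?_⟩
  have h1 := (Finset.sum_eq_zero_iff_of_nonneg hnn).1 h0 x hx
  have h2 : t x * t i - s x * s i = 0 := (mul_eq_zero.1 h1).resolve_left (hd x hx).ne'
  have h3 : t i * t i = 1 := by rcases ht i hi with e | e <;> rw [e] <;> norm_num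
  linear_combination t i * h2 - t x * h3

/-- Three balanced sign vectors, distinct up to sign, exhaust the balanced ones. -/
theorem balanced_complete [DecidableEq α] (hF : F.card = 4) {ι : Type*} [Fintype ι]
    (hι : Fintype.card ι = 3) {s : ι → α → ℤ} (hs : ∀ i, ∀ x ∈ F, s i x = 1 ∨ s i x = -1)
    (hs0 : ∀ i, ∑ x ∈ F, s i x = 0)
    (hdist : ∀ i j, i ≠ j → ¬ ∃ σ : ℤ, ∀ x ∈ F, s j x = σ * s i x)
    {r : α → ℤ} (hr : ∀ x ∈ F, r x = 1 ∨ r x = -1) (hr0 : ∑ x ∈ F, r x = 0) :
    ∃ i, ∃ σ : ℤ, ∀ x ∈ F, r x = σ * s i x := by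
  classical
  obtain ⟨x₀, hx₀⟩ : F.Nonempty := Finset.card_pos.1 (by omega)
  let Q : (α → ℤ) → Finset α := fun w => F.filter fun x => w x = w x₀
  let 𝒮 : Finset (Finset α) := (F.erase x₀).image fun y => ({x₀, y} : Finset α)
  have hQ : ∀ w : α → ℤ, (∀ x ∈ F, w x = 1 ∨ w x = -1) → ∑ x ∈ F, w x = 0 → Q w ∈ 𝒮 := by
    intro w hw hw0
    have h1 : ∀ x ∈ F, w x₀ * w x = 1 ∨ w x₀ * w x = -1 := fun x hx => by
      rcases hw x₀ hx₀ with e | e <;> rcases hw x hx with e' | e' <;> rw [e, e'] <;> norm_num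
    have hsum := sum_sign h1
    rw [← Finset.mul_sum, hw0, mul_zero, hF] at hsum
    have he : (F.filter fun x => w x₀ * w x = 1) = Q w := Finset.filter_congr fun x hx => by
      rcases hw x₀ hx₀ with e | e <;> rcases hw x hx with e' | e' <;> rw [e, e'] <;> norm_num
    rw [he] at hsum
    have hcard : (Q w).card = 2 := by omega
    have hx₀Q : x₀ ∈ Q w := Finset.mem_filter.2 ⟨hx₀, rfl⟩
    obtain ⟨y, hy⟩ := Finset.card_eq_one.1 (show ((Q w).erase x₀).card = 1 by
      rw [Finset.card_erase_of_mem hx₀Q, hcard])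
    have hymem : y ∈ (Q w).erase x₀ := by rw [hy]; simp
    refine Finset.mem_image.2 ⟨y, Finset.mem_erase.2 ⟨(Finset.mem_erase.1 hymem).1,
      (Finset.mem_filter.1 (Finset.mem_erase.1 hymem).2).1⟩, ?_⟩
    rw [← Finset.insert_erase hx₀Q, hy]
  have hinj : ∀ w w' : α → ℤ, (∀ x ∈ F, w x = 1 ∨ w x = -1) → (∀ x ∈ F, w' x = 1 ∨ w' x = -1) →
      Q w = Q w' → ∀ x ∈ F, w' x = w x₀ * w' x₀ * w x := by
    intro w w' hw hw' he x hx
    have hiff : w x = w x₀ ↔ w' x = w' x₀ := by
      have := Finset.ext_iff.1 he x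
      simpa [Q, hx] using this
    rcases hw x₀ hx₀ with a | a <;> rcases hw x hx with b | b <;> rcases hw' x₀ hx₀ with c | c <;>
      rcases hw' x hx with d | d <;> simp_all
  have hsinj : Function.Injective fun i => Q (s i) := by
    intro i j h
    by_contra hne
    exact hdist i j hne ⟨_, hinj _ _ (hs i) (hs j) h⟩
  have himg : Finset.univ.image (fun i => Q (s i)) = 𝒮 := by
    refine Finset.eq_of_subset_of_card_le (fun q hq => ?_) ?_
    · obtain ⟨i, -, rfl⟩ := Finset.mem_image.1 hq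
      exact hQ _ (hs i) (hs0 i)
    · rw [Finset.card_image_of_injective _ hsinj, Finset.card_univ, hι]
      exact Finset.card_image_le.trans (by rw [Finset.card_erase_of_mem hx₀, hF])
  obtain ⟨i, -, hi⟩ := Finset.mem_image.1 (himg.symm ▸ hQ r hr hr0 :
    Q r ∈ Finset.univ.image fun i => Q (s i))
  exact ⟨i, _, hinj _ _ (hs i) hr hi⟩

end Comb

variable {G : Type u} [Group G] [Fintype G] {p : ℕ} {M : Ideal AlgInt} [M.IsPrime]
  {B : Set (IrrCharacter G)} {ι : Type*} [Fintype ι] {a : ι → IrrCharacter G → ℤ}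

/-- When the rank is one less than the number of characters, all vectors agree up to sign. -/
theorem proportional_of_rank (hd : PerfectSpan.SignData p M B a)
    (hsg : ∀ i, ∀ χ ∈ B, a i χ = 1 ∨ a i χ = -1)
    (hl : blockRank p B + 1 = Nat.card B) (i j : ι) :
    ∃ σ : ℤ, ∀ χ ∈ B, a j χ = σ * a i χ := by
  classical
  have := Fintype.ofFinite (IrrCharacter G)
  let v : B → (G → ℂ) := fun χ => pRegularPart p ((χ : IrrCharacter G) : G → ℂ)
  let L : (B → ℂ) →ₗ[ℂ] (G → ℂ) := Fintype.linearCombination ℂ v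
  have hrange : Module.finrank ℂ (LinearMap.range L) = blockRank p B := by
    rw [Fintype.range_linearCombination, blockRank, Set.image_eq_range]
  have hker : Module.finrank ℂ (LinearMap.ker L) = 1 := by
    have h := L.finrank_range_add_finrank_ker
    rw [hrange, Module.finrank_fintype_fun_eq_card, ← Nat.card_eq_fintype_card] at h
    omega
  have hmem : ∀ k : ι, (fun χ : B => (a k χ : ℂ)) ∈ LinearMap.ker L := by
    intro k
    rw [LinearMap.mem_ker]
    funext g
    simp only [L, Fintype.linearCombination_apply, Finset.sum_apply, Pi.smul_apply, smul_eq_mul,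
      v, CfsgLib.BlockB.pRegularPart_eq_regInd_mul, Pi.zero_apply]
    by_cases hg : p ∣ orderOf g
    · simp [regInd, hg]
    · simp only [regInd, if_neg hg, one_mul]
      rw [← hd.orth k g hg, ← Finset.sum_coe_sort B.toFinite.toFinset]
      exact Fintype.sum_equiv (Equiv.subtypeEquivRight fun χ => B.toFinite.mem_toFinset.symm) _ _
        fun χ => mul_comm _ _
  obtain ⟨w, -, hw⟩ := finrank_eq_one_iff'.1 hker
  obtain ⟨ci, hci⟩ := hw ⟨_, hmem i⟩
  obtain ⟨cj, hcj⟩ := hw ⟨_, hmem j⟩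
  rcases B.eq_empty_or_nonempty with hBe | ⟨χ₀, hχ₀⟩
  · exact ⟨0, fun χ hχ => absurd hχ (hBe ▸ Set.notMem_empty χ)⟩
  refine ⟨a j χ₀ * a i χ₀, fun χ hχ => ?_⟩
  have e : ∀ (k : ι) (ck : ℂ), ck • w = (⟨_, hmem k⟩ : LinearMap.ker L) →
      ∀ x : B, ck * (w : B → ℂ) x = (a k x : ℂ) := fun k ck h x =>
    congrFun (congrArg Subtype.val h) x
  have h1 := e i ci hci ⟨χ₀, hχ₀⟩
  have h2 := e j cj hcj ⟨χ₀, hχ₀⟩
  have h3 := e i ci hci ⟨χ, hχ⟩
  have h4 := e j cj hcj ⟨χ, hχ⟩
  simp only at h1 h2 h3 h4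
  have hsq : (a i χ₀ : ℂ) * a i χ₀ = 1 := by rcases hsg i χ₀ hχ₀ with e | e <;> rw [e] <;> simp
  have key : (a j χ : ℂ) = (a j χ₀ : ℂ) * a i χ₀ * a i χ := by
    rw [← h4, ← h3, ← h2, ← h1] at *
    linear_combination -(cj * (w : B → ℂ) ⟨χ, hχ⟩) * hsq
  exact_mod_cast key

/-- When the rank is one, distinct vectors are not proportional. -/
theorem not_proportional_of_rank_one [Fact p.Prime] (hd : PerfectSpan.SignData p M B a)
    (hl : blockRank p B = 1) (hι : Fintype.card ι < Nat.card B) {i j : ι} (hij : i ≠ j) :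
    ¬ ∃ σ : ℤ, ∀ χ ∈ B, a j χ = σ * a i χ := by
  classical
  rintro ⟨σ, hσ⟩
  have := Fintype.ofFinite (IrrCharacter G)
  let κ := Option {k : ι // k ≠ j}
  let w : κ → B → ℂ := fun k χ => match k with
    | none => ((χ : IrrCharacter G) : G → ℂ) 1
    | some k => (a k.1 χ : ℂ)
  let L : (B → ℂ) →ₗ[ℂ] (κ → ℂ) :=
    { toFun := fun u k => ∑ χ : B, w k χ * u χ
      map_add' := fun u u' => by funext k; simp [mul_add, Finset.sum_add_distrib]
      map_smul' := fun c u => by
        funext k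
        simp only [Pi.smul_apply, smul_eq_mul, RingHom.id_apply, Finset.mul_sum]
        exact Finset.sum_congr rfl fun χ _ => by ring }
  have hlt : Module.finrank ℂ (κ → ℂ) < Module.finrank ℂ (B → ℂ) := by
    rw [Module.finrank_fintype_fun_eq_card, Module.finrank_fintype_fun_eq_card, Fintype.card_option,
      Fintype.card_subtype_compl, Fintype.card_subtype_eq, ← Nat.card_eq_fintype_card (α := B)]
    have : 1 ≤ Fintype.card ι := Fintype.card_pos_iff.2 ⟨i⟩
    omega
  obtain ⟨u, hu, hu0⟩ := (LinearMap.ker L).ne_bot_iff.1 (LinearMap.ker_ne_bot_of_finrank_lt hlt)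
  rw [LinearMap.mem_ker] at hu
  have hk : ∀ k : ι, ∑ χ : B, (a k χ : ℂ) * u χ = 0 := by
    intro k
    rcases eq_or_ne k j with rfl | hk
    · rw [Finset.sum_congr rfl (g := fun χ : B => (σ : ℂ) * ((a i χ : ℂ) * u χ)) fun χ _ => by
        rw [hσ χ χ.2]; push_cast; ring, ← Finset.mul_sum]
      exact mul_eq_zero_of_right _ (congrFun hu (some ⟨i, hij⟩))
    · exact congrFun hu (some ⟨k, hk⟩)
  refine hu0 (funext fun χ => ?_)
  have hli : LinearIndependent ℂ (fun χ : B => ((χ : IrrCharacter G) : G → ℂ)) :=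
    CfsgLib.Char.irr_linearIndependent.comp (fun χ : B => (χ : IrrCharacter G)) Subtype.val_injective
  refine (Fintype.linearIndependent_iff.1 hli u (funext fun g => ?_)) χ
  simp only [Finset.sum_apply, Pi.smul_apply, smul_eq_mul, Pi.zero_apply]
  by_cases hg : p ∣ orderOf g
  · obtain ⟨r, -, hr⟩ := hd.sing g hg
    rw [Finset.sum_congr rfl (g := fun χ : B => ∑ k, r k * ((a k χ : ℂ) * u χ)) fun χ _ => by
      rw [hr χ χ.2, Finset.mul_sum]; exact Finset.sum_congr rfl fun k _ => by ring,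
      Finset.sum_comm]
    exact Finset.sum_eq_zero fun k _ => by rw [← Finset.mul_sum, hk k, mul_zero]
  · obtain ⟨χ₀, hχ₀⟩ : B.Nonempty := ⟨χ, χ.2⟩
    have h0 := CfsgLib.Char.irr_apply_one_ne_zero χ₀.2
    rw [Finset.sum_congr rfl (g := fun χ : B =>
        ((χ₀ : G → ℂ) g / (χ₀ : G → ℂ) 1) * (((χ : IrrCharacter G) : G → ℂ) 1 * u χ)) fun χ _ => by
      have h := proportional_of_rank_one hl χ.2 hχ₀ hg
      rw [div_mul_eq_mul_div, eq_div_iff h0]
      linear_combination u χ * h, ← Finset.mul_sum]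
    exact mul_eq_zero_of_right _ (congrFun hu none)

end CfsgLib.BlockA.KleinPatterns
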