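import Cfsg.Agent.Lib.BlockA.PerfectSpan
import Cfsg.Agent.Lib.BlockA.KleinDefect
import Cfsg.Agent.Lib.BlockA.AbelianTrace
import Cfsg.Agent.Lib.BlockA.SectionNonzero

/-!
The columns of the subsections of a 2-block with Klein four defect group are sign vectors.
-/

set_option autoImplicit false
set_option linter.unusedSectionVars false
set_option maxHeartbeats 1000000

namespace CfsgLib.BlockA.KleinSigns

open Cfsg CfsgLib.Block CfsgLib.BlockA CfsgLib.BlockB CfsgLib.BlockB.SubSum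
  CfsgLib.BlockB.HeightBound AbelianSub AbelianTrace
open scoped ComplexConjugate

universe u

variable {G : Type u} [Group G] [Fintype G] {M : Ideal AlgInt} [M.IsPrime]

local notation "cs" z => Subgroup.centralizer (Singleton.singleton z : Set G)

theorem blockPart_blockMap {H K : Type u} [Group H] [Group K] [Fintype H] [Fintype K] (φ : H ≃* K)
    {b : Set (IrrCharacter K)} {f : K → ℂ} (hf : IsClassFunction K f) (y : H) :
    blockPart (blockMap φ b) (fun h => f (φ h)) y = blockPart b f (φ y) := by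
  rw [blockPart_eq_sum (blockMap φ b) (fun g h => by simp only [map_mul, map_inv]; exact hf _ _),
    blockPart_eq_sum b hf]
  exact Fintype.sum_equiv φ.toEquiv _ _ fun k => by simp [blockCoeff_blockMap]

theorem isClassFunction_shift (χ : IrrCharacter G) (x : G) :
    IsClassFunction (cs x) (fun c : cs x => (χ : G → ℂ) (x * (c : G))) := fun c h => by
  have h1 : (h : G) * x = x * (h : G) := Subgroup.mem_centralizer_singleton_iff.1 h.2
  have h2 : x * ((h * c * h⁻¹ : cs x) : G) = (h : G) * (x * (c : G)) * (h : G)⁻¹ := by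
    push_cast
    calc x * ((h : G) * c * (h : G)⁻¹) = (x * (h : G)) * c * (h : G)⁻¹ := by group
      _ = _ := by rw [← h1]; group
  simp only [h2]
  exact CfsgLib.Char.irr_isClassFunction χ.2 _ _

variable (hM : IsPModular 2 M) {B : Set (IrrCharacter G)} {P : Subgroup G}
  {e : Set (IrrCharacter (Subgroup.centralizer (P : Set G)))}
  (hmax : IsMaximalBrauerPair 2 M B P e) (hV : IsKleinFour P)
  (hab : ∀ v ∈ P, ∀ w ∈ P, v * w = w * v)
include hM hmax hV hab

theorem blockDefect_eq : blockDefect 2 B = 2 := by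
  have : Fact (Nat.Prime 2) := ⟨Nat.prime_two⟩
  have h := natCard_defectGroup hM hmax.1.2.1 (maximal_core hM hmax).1
  rw [hV.card_four] at h
  exact (Nat.pow_right_injective le_rfl (h : 2 ^ 2 = 2 ^ blockDefect 2 B)).symm

/-- The column of one subsection. -/
theorem exists_column {v : G} (hv : v ∈ P) (hv1 : v ≠ 1) :
    ∃ (a : IrrCharacter G → ℤ) (φ : (cs v) → ℂ),
      (∀ y, MemLocalRing M (φ y)) ∧
      (∀ χ : IrrCharacter G, ∀ y : cs v, ¬ 2 ∣ orderOf y →
        blockPart (blk hM hmax hab hv) (fun c : cs v => (χ : G → ℂ) (v * (c : G))) y =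
          (a χ : ℂ) * φ y) ∧
      (∀ χ ∈ B, a χ = 1 ∨ a χ = -1) ∧
      (∀ g : G, ¬ 2 ∣ orderOf g →
        ∑ χ ∈ B.toFinite.toFinset, (χ : G → ℂ) g * (a χ : ℂ) = 0) ∧
      PerfectSpan.InSpan M B (fun χ => (a χ : ℂ)) := by
  classical
  have : Fact (Nat.Prime 2) := ⟨Nat.prime_two⟩
  have := Fintype.ofFinite (IrrCharacter G)
  have hB := hmax.1.2.1
  have hdef := blockDefect_eq hM hmax hV hab
  have ho : orderOf v = 2 := CfsgLib.Invol.klein_orderOf hV hv hv1
  have hvp : ∃ k : ℕ, orderOf v = 2 ^ k := ⟨1, by rw [ho, pow_one]⟩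
  set b := blk hM hmax hab hv with hbdef
  have hind : IsInducedBlock M (cs v) b B := (blk_spec hM hmax hab hv).1
  have hbd : blockDefect 2 b = blockDefect 2 B := (exists_blk hM hmax hab hv).choose_spec.2.2
  have hl : blockRank 2 b = 1 := KleinDefect.rank_one_of_major hM ho hind.1 (hbd.trans hdef)
  obtain ⟨g₀, d, hg₀, hdeg, hsum, n, hn⟩ := rank_one_degrees hM hind.1 hl
  rw [finsum_mem_eq_finite_toFinset_sum _ b.toFinite, hbd, hdef] at hsum
  set φ : (cs v) → ℂ := fun y =>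
    ∑ θ ∈ b.toFinite.toFinset, (n θ : ℂ) * (θ : (cs v) → ℂ) y with hφ
  have hθ : ∀ θ ∈ b, ∀ y : cs v, ¬ 2 ∣ orderOf y →
      (θ : (cs v) → ℂ) y = (d θ : ℂ) * φ y := by
    intro θ hθ y hy
    have h1 : ∀ η ∈ b.toFinite.toFinset,
        (d θ : ℂ) * ((n η : ℂ) * (η : (cs v) → ℂ) y) =
          ((n η * (d η : ℤ) : ℤ) : ℂ) * (θ : (cs v) → ℂ) y := by
      intro η hη
      rw [Set.Finite.mem_toFinset] at hη
      have h := proportional_of_rank_one (p := 2) hl hθ hη hy
      rw [charDegree_spec (CfsgLib.Char.irr_isCharacter η.2),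
        charDegree_spec (CfsgLib.Char.irr_isCharacter θ.2), hdeg η hη, hdeg θ hθ] at h
      push_cast at h ⊢
      have hg' : (g₀ : ℂ) ≠ 0 := Nat.cast_ne_zero.2 hg₀.ne'
      have h3 : (θ : (cs v) → ℂ) y * (d η : ℂ) = (d θ : ℂ) * (η : (cs v) → ℂ) y :=
        mul_left_cancel₀ hg' (by linear_combination h)
      linear_combination -(n η : ℂ) * h3
    rw [hφ, Finset.mul_sum, Finset.sum_congr rfl h1, ← Finset.sum_mul, ← Int.cast_sum, hn,
      Int.cast_one, one_mul]
  have hr : ∀ θ : IrrCharacter (cs v), ∃ m : ℤ, centralRoot v θ = (m : ℂ) := fun θ => by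
    have h := (centralRoot_spec hM hvp θ).2.1
    rw [ho] at h
    rcases sq_eq_one_iff.1 h with h | h
    · exact ⟨1, by rw [h, Int.cast_one]⟩
    · exact ⟨-1, by rw [h, Int.cast_neg, Int.cast_one]⟩
  choose m hm using hr
  let a : IrrCharacter G → ℤ := fun χ =>
    ∑ θ ∈ b.toFinite.toFinset, (resMult v χ θ : ℤ) * m θ * (d θ : ℤ)
  have hbp : ∀ χ : IrrCharacter G, ∀ y : cs v, ¬ 2 ∣ orderOf y →
      blockPart b (fun c : cs v => (χ : G → ℂ) (v * (c : G))) y = (a χ : ℂ) * φ y := by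
    intro χ y hy
    have h := blockPart_pow hM hvp b χ 1 y
    simp only [pow_one] at h
    rw [h]
    simp only [a, Int.cast_sum, Finset.sum_mul]
    refine Finset.sum_congr rfl fun θ hθ' => ?_
    rw [hθ θ (b.toFinite.mem_toFinset.1 hθ') y hy, hm]
    push_cast
    ring
  have hφloc : ∀ y, MemLocalRing M (φ y) := fun y =>
    memLocalRing_sum _ _ fun θ _ => memLocalRing_mul (memLocalRing_intCast _)
      (memLocalRing_irr_apply θ y)
  have hφconj : ∀ y : cs v, φ y⁻¹ = conj (φ y) := fun y => by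
    simp only [hφ, map_sum, map_mul, map_intCast]
    exact Finset.sum_congr rfl fun θ _ => by rw [irr_conj_eq θ.2]
  -- a regular element where the Brauer character is a unit
  obtain ⟨y₀, hy₀, hu₀⟩ : ∃ y : cs v, ¬ 2 ∣ orderOf y ∧ ¬ MemLocalIdeal M (φ y) := by
    by_contra hne
    push Not at hne
    obtain ⟨θ, hθb, hθ0⟩ := exists_height_zero hM hind.1
    refine (not_memLocalIdeal_regPair_iff hM hind.1 hθb hθb).2 hθ0 ?_
    have := Finite.of_surjective _ (ConjClasses.mk_surjective (α := cs v))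
    have := Fintype.ofFinite (ConjClasses (cs v))
    rw [regPair_div_eq_sum 2 (CfsgLib.Char.irr_isClassFunction θ.2)]
    refine memLocalIdeal_sum _ _ fun K _ => ?_
    by_cases hK : 2 ∣ orderOf (Quotient.out K : cs v)
    · simp only [regInd, if_pos hK, zero_mul]
      exact memLocalIdeal_zero
    · rw [hθ θ hθb _ hK, mul_assoc, mul_assoc]
      refine memLocalIdeal_mul_left (memLocalRing_regInd hM _)
        (memLocalIdeal_mul_left (memLocalRing_natCast _)
          (memLocalIdeal_mul_right (memLocalRing_centralChar θ.2 _) (hne _ hK)))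
  have hφ0 : φ y₀ ≠ 0 := fun h => hu₀ (h ▸ memLocalIdeal_zero)
  have hx : v⁻¹ = v := inv_eq_of_mul_eq_one_right (by rw [← pow_two, ← ho, pow_orderOf_eq_one])
  have hsq : ∑ χ ∈ B.toFinite.toFinset, (a χ * a χ) = 4 := by
    have h := sum_norm_section hM hvp hB hind hy₀
    have hy₀' : ¬ 2 ∣ orderOf y₀⁻¹ := by rwa [orderOf_inv]
    rw [hx] at h
    simp only [hbp _ y₀ hy₀, hbp _ y₀⁻¹ hy₀'] at h
    rw [Finset.sum_congr (s₁ := b.toFinite.toFinset) rfl (g := fun θ : IrrCharacter (cs v) =>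
        ((d θ ^ 2 : ℕ) : ℂ) * (φ y₀ * conj (φ y₀))) (fun θ hθ' => ?_), ← Finset.sum_mul,
      ← Nat.cast_sum, hsum, Finset.sum_congr rfl (g := fun χ : IrrCharacter G =>
        ((a χ * a χ : ℤ) : ℂ) * (φ y₀ * conj (φ y₀))) (fun χ _ => by rw [hφconj]; push_cast; ring),
      ← Finset.sum_mul, ← Int.cast_sum] at h
    · have h' := mul_right_cancel₀ (mul_ne_zero hφ0
        ((map_ne_zero_iff _ (RingHom.injective _)).2 hφ0)) h
      exact_mod_cast h'
    · rw [hθ θ (b.toFinite.mem_toFinset.1 hθ') y₀ hy₀, map_mul, Complex.conj_natCast]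
      push_cast
      ring
  obtain ⟨hk, hh⟩ := KleinDefect.natCard_eq_four hM ho hind hbd hdef hl
  have hne : ∀ χ ∈ B.toFinite.toFinset, a χ ≠ 0 := by
    intro χ hχ h0
    rw [Set.Finite.mem_toFinset] at hχ
    obtain ⟨y, hy, hy'⟩ := exists_blockPart_ne_zero hM hχ (hh χ hχ) hvp hind
    exact hy' (by rw [hbp χ y hy, h0, Int.cast_zero, zero_mul])
  have hone : ∀ χ ∈ B, a χ = 1 ∨ a χ = -1 := by
    intro χ hχ
    have hpos : ∀ ξ ∈ B.toFinite.toFinset, 0 ≤ a ξ * a ξ - 1 := fun ξ hξ =>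
      sub_nonneg.2 (Int.one_le_abs (mul_ne_zero (hne ξ hξ) (hne ξ hξ)) |>.trans
        (abs_of_nonneg (mul_self_nonneg _)).le)
    have h0 : ∑ ξ ∈ B.toFinite.toFinset, (a ξ * a ξ - 1) = 0 := by
      rw [Finset.sum_sub_distrib, hsq, Finset.sum_const, ← Nat.card_eq_card_finite_toFinset, hk]
      norm_num
    have h1 := (Finset.sum_eq_zero_iff_of_nonneg hpos).1 h0 χ (B.toFinite.mem_toFinset.2 hχ)
    exact mul_self_eq_one_iff.1 (sub_eq_zero.1 h1)
  have hcl := fun χ : IrrCharacter G => isClassFunction_shift χ v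
  have hspan : PerfectSpan.InSpan M B (fun χ => (a χ : ℂ)) := by
    refine PerfectSpan.inSpan_congr (PerfectSpan.inSpan_sum Finset.univ
      (fun k : cs v => fun χ => ((φ y₀)⁻¹ * blockCoeff b k) * (χ : G → ℂ) (v * ((k * y₀ : cs v) : G)))
      fun k _ => PerfectSpan.inSpan_col (memLocalRing_mul (inv_memLocalRing (hφloc y₀) hu₀)
        (blockCoeff_memLocalRing hM hind.1 k)) _) fun χ _ => ?_
    have h := hbp χ y₀ hy₀
    rw [blockPart_eq_sum b (hcl χ)] at h
    simp only [mul_assoc, ← Finset.mul_sum]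
    rw [h, mul_comm (a χ : ℂ), inv_mul_cancel_left₀ hφ0]
  refine ⟨a, φ, hφloc, hbp, hone, fun g hg => ?_, hspan⟩
  -- orthogonality
  have key : ∀ z : cs v, ¬ 2 ∣ orderOf z → ∑ χ ∈ B.toFinite.toFinset,
      (χ : G → ℂ) g * (χ : G → ℂ) (v * (z : G)) = 0 := by
    intro z hz
    have hsg : 2 ∣ orderOf (v * (z : G)) := by
      by_contra h2
      exact hv1 (isPPart_unique Nat.prime_two (isPPart_mul_centralizer hM hvp hz)
        (isPPart_one_of_regular h2))
    have h := sum_block_eq_zero_of_regular_singular hM hB hg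
      (h := (v * (z : G))⁻¹) (by rwa [orderOf_inv])
    rw [finsum_mem_eq_finite_toFinset_sum _ B.toFinite] at h
    rw [← h]
    refine Finset.sum_congr rfl fun χ _ => ?_
    rw [irr_conj_eq χ.2, inv_inv]
  refine (mul_eq_zero.1 ?_).resolve_right hφ0
  rw [Finset.sum_mul, Finset.sum_congr rfl (g := fun χ : IrrCharacter G =>
      ∑ z : cs v, ((Nat.card (cs v) : ℂ)⁻¹ *
        ∑ᶠ ψ ∈ b, (ψ : (cs v) → ℂ) y₀ * conj ((ψ : (cs v) → ℂ) z)) *
          ((χ : G → ℂ) g * (χ : G → ℂ) (v * (z : G)))) (fun χ _ => ?_), Finset.sum_comm]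
  · refine Finset.sum_eq_zero fun z _ => ?_
    rw [← Finset.mul_sum]
    by_cases hz : 2 ∣ orderOf z
    · rw [sum_block_eq_zero_of_regular_singular hM hind.1 hy₀ hz, mul_zero, zero_mul]
    · rw [key z hz, mul_zero]
  · rw [mul_assoc, ← hbp χ y₀ hy₀, blockPart_eq_kernel, Finset.mul_sum, Finset.mul_sum]
    exact Finset.sum_congr rfl fun z _ => by ring

/-- The columns at the singular elements. -/
theorem exists_signData :
    ∃ a : {v : G // v ∈ P ∧ v ≠ 1} → IrrCharacter G → ℤ,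
      @PerfectSpan.SignData G _ _ 2 M B _ (Fintype.ofFinite _) a ∧
        ∀ i, ∀ χ ∈ B, a i χ = 1 ∨ a i χ = -1 := by
  classical
  have : Fact (Nat.Prime 2) := ⟨Nat.prime_two⟩
  have hB := hmax.1.2.1
  let := Fintype.ofFinite {v : G // v ∈ P ∧ v ≠ 1}
  have hcol := fun i : {v : G // v ∈ P ∧ v ≠ 1} => exists_column hM hmax hV hab i.2.1 i.2.2
  choose a φ hloc hbp hone horth hspan using hcol
  refine ⟨a, ⟨hspan, fun g hg => ?_, fun i => horth i⟩, hone⟩
  obtain ⟨x, hx⟩ := exists_isPPart Nat.prime_two g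
  obtain ⟨y, hxy, hcomm, hxp, hy⟩ := hx
  have hx1 : x ≠ 1 := fun h => hy (by rwa [← hxy, h, one_mul] at hg)
  have hyC : y ∈ cs x := Subgroup.mem_centralizer_singleton_iff.2 hcomm.eq.symm
  have := Fintype.ofFinite (cs x)
  let S := (allBlocks M (cs x)).filter (fun b => IsInducedBlock M (cs x) b B)
  have key : ∀ b ∈ S, ∃ (i : {v : G // v ∈ P ∧ v ≠ 1}) (s : ℂ), MemLocalRing M s ∧
      ∀ χ : IrrCharacter G, blockPart b (fun c : cs x => (χ : G → ℂ) (x * (c : G))) ⟨y, hyC⟩ =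
        s * (a i χ : ℂ) := by
    intro b hb
    obtain ⟨-, hind⟩ := Finset.mem_filter.1 hb
    obtain ⟨t, ht, hβ⟩ := exists_conj_major hM hmax hxp hind
    have ht1 : t * x * t⁻¹ ≠ 1 := fun h => hx1 (conj_eq_one_iff.1 h)
    have hblk : blk hM hmax hab ht = blockMap (HeightBound.cenConj t x) b := by
      refine subgroupBlockCoeff_injective hM (blk_spec hM hmax hab ht).1.1
        (isPBlock_blockMap _ hind.1) ?_
      rw [(blk_spec hM hmax hab ht).2, ← conjFun_subgroupBlockCoeff, hβ]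
    set y' : cs (t * x * t⁻¹) := (HeightBound.cenConj t x).symm ⟨y, hyC⟩ with hy'def
    have hy' : ¬ 2 ∣ orderOf y' := by
      rw [hy'def, MulEquiv.orderOf_eq, Subgroup.orderOf_mk]
      exact hy
    refine ⟨⟨t * x * t⁻¹, ht, ht1⟩, φ ⟨t * x * t⁻¹, ht, ht1⟩ y', hloc _ _, fun χ => ?_⟩
    rw [mul_comm (φ _ _), ← hbp ⟨t * x * t⁻¹, ht, ht1⟩ χ y' hy', hblk]
    rw [show (⟨y, hyC⟩ : cs x) = HeightBound.cenConj t x y' from
      ((HeightBound.cenConj t x).apply_symm_apply _).symm,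
      ← blockPart_blockMap (HeightBound.cenConj t x) (isClassFunction_shift χ x)]
    congr 1
    funext h
    show (χ : G → ℂ) (x * (t⁻¹ * (h : G) * t)) = _
    rw [← CfsgLib.Char.irr_isClassFunction χ.2 (x * (t⁻¹ * (h : G) * t)) t]
    congr 1
    group
  have : Nonempty {v : G // v ∈ P ∧ v ≠ 1} := by
    have : Nontrivial P := Finite.one_lt_card_iff_nontrivial.1 (by rw [hV.card_four]; norm_num)
    obtain ⟨w, hw⟩ := exists_ne (1 : P)
    exact ⟨⟨w, w.2, fun h => hw (Subtype.ext h)⟩⟩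
  choose! i s hs hval using key
  refine ⟨fun j => ∑ b ∈ S.filter (fun b => i b = j), s b,
    fun j => memLocalRing_sum _ _ fun b hb => hs b (Finset.mem_filter.1 hb).1, fun χ hχ => ?_⟩
  have h := sum_inducing_blockPart hM hxp hB χ (y := ⟨y, hyC⟩)
    (by rw [Subgroup.orderOf_mk]; exact hy)
  rw [if_pos hχ] at h
  rw [← hxy, ← h, Finset.sum_congr rfl (fun b hb => hval b hb χ),
    ← Finset.sum_fiberwise S i fun b => s b * (a (i b) χ : ℂ)]
  refine Finset.sum_congr rfl fun j _ => ?_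
  rw [Finset.sum_mul]
  exact Finset.sum_congr rfl fun b hb => by rw [(Finset.mem_filter.1 hb).2]

end CfsgLib.BlockA.KleinSigns
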