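import Cfsg.Agent.Lib.BlockB.SubsectionForm
import Cfsg.Agent.Lib.BlockB.HeightBound
import Cfsg.Agent.Lib.BlockA.CoverDefect
import Cfsg.Agent.Lib.BlockA.Dominated

/-!
A major subsection at an element of order `p`, the trace of its contribution matrix, and the
lower bound for the form of a block of defect one.
-/

set_option autoImplicit false
set_option linter.unusedSectionVars false

namespace CfsgLib.BlockA

open Cfsg CfsgLib.Block CfsgLib.BlockB
open scoped ComplexConjugate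

universe u

/-- A nonzero cyclotomic integer has squared norm at least `1` on the Galois average. -/
theorem card_units_le_sum_sq {n : ℕ} [NeZero n] {f : ℕ → ℂ} (hf : IsCyclo n f) (h1 : f 1 ≠ 0) :
    (Fintype.card (ZMod n)ˣ : ℝ) ≤ ∑ u : (ZMod n)ˣ, ‖f (u : ZMod n).val‖ ^ 2 := by
  classical
  have hn := NeZero.ne n
  have hne : ∀ u ∈ (Finset.univ : Finset (ZMod n)ˣ), f ((u : ZMod n).val * 1) ≠ 0 := by
    intro u _ h0
    rw [mul_one] at h0
    apply h1
    have hg := hf.comp_mul (u : ZMod n).val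
    have h2 : f (((u⁻¹ : (ZMod n)ˣ) : ZMod n).val * (u : ZMod n).val) = ((0 : ℤ) : ℂ) :=
      hg.eq_int_of_coprime hn (m := 0)
        (show f (1 * (u : ZMod n).val) = ((0 : ℤ) : ℂ) by rw [one_mul, h0, Int.cast_zero])
        (ZMod.val_coe_unit_coprime u⁻¹)
    rw [← hf.apply_mod hn, ← ZMod.val_mul, ← Units.val_mul, inv_mul_cancel, Units.val_one,
      Int.cast_zero] at h2
    rcases eq_or_ne n 1 with hn1 | hn1
    · rw [← hf.apply_mod hn, show 1 % n = (1 : ZMod n).val % n by subst hn1; simp [Nat.mod_one],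
        hf.apply_mod hn, h2]
    · haveI : Fact (1 < n) := ⟨by omega⟩
      rwa [ZMod.val_one] at h2
  have hperm : ∀ k : ℕ, k.Coprime n →
      ∃ e : {i // i ∈ (Finset.univ : Finset (ZMod n)ˣ)} ≃ {i // i ∈ (Finset.univ : Finset (ZMod n)ˣ)},
        ∀ i : {i // i ∈ (Finset.univ : Finset (ZMod n)ˣ)},
          f (((e i).1 : ZMod n).val * 1) = f ((i.1 : ZMod n).val * k) := by
    intro k hk
    refine ⟨Equiv.subtypeEquiv (Equiv.mulRight (ZMod.unitOfCoprime k hk)) (by simp), fun i => ?_⟩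
    simp only [mul_one, Equiv.subtypeEquiv_apply, Equiv.coe_mulRight, Units.val_mul,
      ZMod.coe_unitOfCoprime]
    rw [← hf.apply_mod hn ((i.1 : ZMod n).val * k), ZMod.val_mul, ZMod.val_natCast,
      Nat.mul_mod_mod]
  have h := card_le_sum_norm_pow (Finset.univ : Finset (ZMod n)ˣ)
    (fun u j => f ((u : ZMod n).val * j)) hn
    (fun u _ => by simpa only [mul_comm] using hf.comp_mul (u : ZMod n).val) hperm hne 2
  simpa using h

/-- **The form of a block of defect one is at least the number of coordinates on average.** -/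
theorem mul_card_le_sum_form {n : ℕ} [NeZero n] {ι : Type*} (X : Finset ι) {m : ℕ} (hm : 1 ≤ m)
    (v : ι → ℕ → ℂ) (hv : ∀ i ∈ X, IsCyclo n (v i)) (hne : ∃ i ∈ X, v i 1 ≠ 0) :
    (Fintype.card (ZMod n)ˣ * X.card : ℝ) ≤
      ∑ u : (ZMod n)ˣ, (((X.card * m + 1 : ℕ) : ℝ) * ∑ i ∈ X, ‖v i (u : ZMod n).val‖ ^ 2 -
        (m : ℝ) * ‖∑ i ∈ X, v i (u : ZMod n).val‖ ^ 2) := by
  classical
  have hn := NeZero.ne n
  set S := X.filter fun i => v i 1 ≠ 0 with hS
  set s := S.card with hs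
  have hs1 : 1 ≤ s := by
    obtain ⟨i, hi, hi0⟩ := hne
    exact Finset.card_pos.2 ⟨i, Finset.mem_filter.2 ⟨hi, hi0⟩⟩
  have hse : s ≤ X.card := Finset.card_filter_le _ _
  have hzero : ∀ u : (ZMod n)ˣ, ∀ i ∈ X, i ∉ S → v i (u : ZMod n).val = 0 := fun u i hi hiS => by
    have h0 : v i 1 = ((0 : ℤ) : ℂ) := by
      rw [Int.cast_zero]
      by_contra h
      exact hiS (Finset.mem_filter.2 ⟨hi, h⟩)
    simpa using (hv i hi).eq_int_of_coprime hn h0 (ZMod.val_coe_unit_coprime u)
  -- the pointwise inequality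
  have key : ∀ u : (ZMod n)ˣ,
      (1 + (m : ℝ) * ((X.card : ℝ) - s)) * ∑ i ∈ S, ‖v i (u : ZMod n).val‖ ^ 2 ≤
      ((X.card * m + 1 : ℕ) : ℝ) * ∑ i ∈ X, ‖v i (u : ZMod n).val‖ ^ 2 -
        (m : ℝ) * ‖∑ i ∈ X, v i (u : ZMod n).val‖ ^ 2 := by
    intro u
    have hsum : ∑ i ∈ X, v i (u : ZMod n).val = ∑ i ∈ S, v i (u : ZMod n).val :=
      (Finset.sum_subset (Finset.filter_subset _ _) fun i hi hiS => hzero u i hi hiS).symm
    have hsq : ∑ i ∈ X, ‖v i (u : ZMod n).val‖ ^ 2 = ∑ i ∈ S, ‖v i (u : ZMod n).val‖ ^ 2 :=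
      (Finset.sum_subset (Finset.filter_subset _ _) fun i hi hiS => by
        rw [hzero u i hi hiS, norm_zero, zero_pow two_ne_zero]).symm
    have hcs : ‖∑ i ∈ S, v i (u : ZMod n).val‖ ^ 2 ≤
        (s : ℝ) * ∑ i ∈ S, ‖v i (u : ZMod n).val‖ ^ 2 := by
      refine (pow_le_pow_left₀ (norm_nonneg _) (norm_sum_le _ _) 2).trans ?_
      rw [hs]
      exact sq_sum_le_card_mul_sum_sq
    rw [hsum, hsq]
    have hm0 : (0 : ℝ) ≤ m := Nat.cast_nonneg m
    have := mul_le_mul_of_nonneg_left hcs hm0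
    push_cast
    nlinarith
  refine le_trans ?_ (Finset.sum_le_sum fun u _ => key u)
  rw [← Finset.mul_sum, Finset.sum_comm]
  have hS1 : (s : ℝ) * Fintype.card (ZMod n)ˣ ≤
      ∑ i ∈ S, ∑ u : (ZMod n)ˣ, ‖v i (u : ZMod n).val‖ ^ 2 := by
    rw [hs, ← nsmul_eq_mul, ← Finset.sum_const]
    exact Finset.sum_le_sum fun i hi =>
      card_units_le_sum_sq (hv i (Finset.mem_of_mem_filter i hi)) (Finset.mem_filter.1 hi).2
  have hse' : (s : ℝ) ≤ X.card := Nat.cast_le.2 hse
  have hm1 : (1 : ℝ) ≤ m := by exact_mod_cast hm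
  have hs1' : (1 : ℝ) ≤ s := by exact_mod_cast hs1
  refine le_trans ?_ (mul_le_mul_of_nonneg_left hS1 (by nlinarith))
  have hU : (0 : ℝ) ≤ Fintype.card (ZMod n)ˣ := Nat.cast_nonneg _
  have : (X.card : ℝ) ≤ (1 + (m : ℝ) * ((X.card : ℝ) - s)) * s := by
    nlinarith [mul_nonneg (sub_nonneg.2 hse') (sub_nonneg.2 hs1'),
      mul_nonneg (mul_nonneg (sub_nonneg.2 hm1) (sub_nonneg.2 hse')) (zero_le_one.trans hs1')]
  nlinarith

variable {G : Type u} [Group G] [Fintype G] {p : ℕ} {M : Ideal AlgInt} [M.IsPrime]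
variable (hM : IsPModular p M)
include hM

/-- A block of positive defect has a major subsection at an element of order `p`. -/
theorem exists_major_order_p {B : Set (IrrCharacter G)} (hB : IsPBlock M B)
    (hd : blockDefect p B ≠ 0) :
    ∃ z : G, orderOf z = p ∧
      ∃ b : Set (IrrCharacter (Subgroup.centralizer ({z} : Set G))),
        IsInducedBlock M (Subgroup.centralizer ({z} : Set G)) b B ∧
          blockDefect p b = blockDefect p B := by
  classical
  have := Fact.mk hM.1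
  obtain ⟨D, hD⟩ := exists_isDefectGroup hM hB
  have hDp := isPGroup_defectGroup hM hB hD
  have hcard := natCard_defectGroup hM hB hD
  obtain ⟨g, hg, P, hP⟩ := id hD
  have hgC : g ∈ Subgroup.centralizer (D : Set G) := by
    rw [Subgroup.mem_centralizer_iff]
    intro w hw
    rw [hP] at hw
    obtain ⟨w', -, rfl⟩ := hw
    exact Subgroup.mem_centralizer_singleton_iff.1 w'.2
  obtain ⟨e, he⟩ := exists_isBrauerPairOf hM hB hDp ⟨g, hgC, by
    rw [coeff_blkIdem]
    intro h0
    exact hg.2.1 ((redC_eq_zero_iff hg.1).1 h0)⟩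
  have hmax := isMaximal_of_card hM he hD le_rfl
  have hDnt : Nontrivial D := by
    rw [← Finite.one_lt_card_iff_nontrivial, hcard]
    exact Nat.one_lt_pow hd hM.1.one_lt
  have := hDp.center_nontrivial
  obtain ⟨w, hw⟩ := exists_prime_orderOf_dvd_card' (G := Subgroup.center D) p (by
    obtain ⟨i, hi⟩ := (hDp.to_subgroup (Subgroup.center D)).exists_card_eq
    rw [hi]
    refine dvd_pow_self p fun h0 => ?_
    have := Finite.one_lt_card (α := Subgroup.center D)
    rw [hi, h0, pow_zero] at this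
    exact lt_irrefl _ this)
  refine ⟨((w : D) : G), by rw [Subgroup.orderOf_coe, Subgroup.orderOf_coe, hw], ?_⟩
  obtain ⟨f, -, hf⟩ := exists_subpair hM hmax.1.1 _ _ (Subgroup.zpowers_le.2 (w : D).2) rfl
  obtain ⟨b, hb, -, hbd⟩ := CfsgLib.BlockB.HeightBound.exists_major hM hmax (w : D).2
    (fun v hv => congrArg Subtype.val (Subgroup.mem_center_iff.1 w.2 ⟨v, hv⟩)) hf
  exact ⟨b, hb, hbd⟩

variable {x : G} (hx : ∃ k : ℕ, orderOf x = p ^ k)
variable [Fintype (Subgroup.centralizer ({x} : Set G))] [Fintype (IrrCharacter G)]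
variable {B : Set (IrrCharacter G)}
variable {b : Set (IrrCharacter (Subgroup.centralizer ({x} : Set G)))}
variable (hind : IsInducedBlock M (Subgroup.centralizer ({x} : Set G)) b B)
include hx hind

/-- The trace of the contribution matrix. -/
theorem sum_subEntry_self :
    ∑ χ ∈ B.toFinite.toFinset, subEntry p b χ χ 1 =
      ((p ^ blockDefect p b * blockRank p b : ℕ) : ℂ) := by
  classical
  have := Fact.mk hM.1
  rw [Nat.cast_mul, blockRank_eq_sum hM hind.1,
    Finset.sum_congr rfl (fun χ _ => subEntry_one hM hx hind χ χ), ← Finset.mul_sum]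
  congr 1
  rw [Finset.sum_subset (Finset.subset_univ B.toFinite.toFinset) (fun χ _ hχ => by
    rw [sectionFun_eq_zero hM hx hind (fun h => hχ (B.toFinite.mem_toFinset.2 h))]
    simp [CfsgLib.Char.classInner_def])]
  simp only [CfsgLib.Char.classInner_def]
  rw [← Finset.mul_sum, Finset.sum_comm, ← Finset.mul_sum,
    Finset.sum_congr rfl (fun v _ => sum_sectionFun hM hx hind.1 v v)]
  congr 1
  rw [Finset.sum_comm]
  refine Finset.sum_congr rfl fun v _ => ?_
  rw [Finset.mul_sum]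
  refine Finset.sum_congr rfl fun θ _ => ?_
  unfold regInd
  split_ifs <;> simp

end CfsgLib.BlockA
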