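import Cfsg.Agent.Lib.Transfer.Tate
import Cfsg.Agent.Lib.Transfer.ClassTwo
import Cfsg.Agent.Lib.Solvable.Frattini
import Cfsg.Agent.Lib.Solvable.MinNormal
import Cfsg.Agent.Lib.ClassK.Core
import Cfsg.Agent.Lib.Recog.Conjugates
import Mathlib

/-!
Sylow subgroups whose derived subgroup has index `p ^ 2`: if the group has no non-trivial normal
`p'`-subgroup, no non-trivial normal subgroup inside the derived subgroup of the Sylow subgroup and
is not almost simple, then a normal subgroup meets the Sylow subgroup in an abelian subgroup of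
index `p`.
-/

set_option autoImplicit false
set_option linter.unusedSectionVars false
set_option linter.style.haveILetI false

namespace CfsgLib.BlockA.MaximalDerived

open Subgroup CfsgLib.Recog
open scoped commutatorElement

universe u

section PGroup

variable {R : Type u} [Group R] [Finite R] {p : ℕ} [Fact p.Prime]

theorem eq_top_of_sup_commutator (hR : IsPGroup p R) {H : Subgroup R}
    (h : H ⊔ _root_.commutator R = ⊤) : H = ⊤ :=
  CfsgLib.Solvable.eq_top_of_sup_eq_top_of_le_frattini
    (CfsgLib.Transfer.commutator_le_frattini_pgroup hR) h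

theorem normal_of_commutator_le {H : Subgroup R} (h : _root_.commutator R ≤ H) : H.Normal := by
  refine ⟨fun x hx g => ?_⟩
  have h1 : ⁅g, x⁆ ∈ H := h (commutator_mem_commutator (mem_top g) (mem_top x))
  have e : g * x * g⁻¹ = ⁅g, x⁆ * x := by rw [commutatorElement_def]; group
  rw [e]
  exact H.mul_mem h1 hx

theorem sup_zpowers_eq_top {H : Subgroup R} (hH : H.index = p) {y : R} (hy : y ∉ H) :
    zpowers y ⊔ H = ⊤ := by
  have hd : (zpowers y ⊔ H).index ∣ p := hH ▸ index_dvd_of_le le_sup_right
  rcases (Nat.dvd_prime Fact.out).1 hd with h | h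
  · exact index_eq_one.1 h
  · exfalso
    have h1 := relIndex_mul_index (le_sup_right : H ≤ zpowers y ⊔ H)
    rw [h, hH] at h1
    have h2 : H.relIndex (zpowers y ⊔ H) = 1 :=
      Nat.eq_of_mul_eq_mul_right (Fact.out : p.Prime).pos (h1.trans (one_mul p).symm)
    exact hy (relIndex_eq_one.1 h2 (mem_sup_left (mem_zpowers y)))

theorem commutator_le_of_sup {L : Subgroup R} [L.Normal] {y : R} (h : zpowers y ⊔ L = ⊤) :
    _root_.commutator R ≤ L := by
  have hc : zpowers (QuotientGroup.mk' L y) = ⊤ := by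
    rw [← MonoidHom.map_zpowers, ← map_top_of_surjective _ (QuotientGroup.mk'_surjective L), ← h,
      Subgroup.map_sup, QuotientGroup.map_mk'_self, sup_bot_eq]
  rw [_root_.commutator_def, commutator_le]
  intro a _ b _
  rw [← QuotientGroup.eq_one_iff, ← QuotientGroup.mk'_apply, map_commutatorElement,
    commutatorElement_eq_one_iff_mul_comm]
  obtain ⟨i, hi⟩ := mem_zpowers_iff.1 (hc.ge (mem_top (QuotientGroup.mk' L a)))
  obtain ⟨j, hj⟩ := mem_zpowers_iff.1 (hc.ge (mem_top (QuotientGroup.mk' L b)))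
  rw [← hi, ← hj]
  exact ((Commute.refl _).zpow_zpow i j).eq

/-- A proper normal subgroup not inside the derived subgroup is maximal. -/
theorem index_eq_prime (hR : IsPGroup p R) (hidx : (_root_.commutator R).index = p ^ 2)
    {L : Subgroup R} [L.Normal] (hL : ¬ L ≤ _root_.commutator R) (hLtop : L ≠ ⊤) :
    _root_.commutator R ≤ L ∧ L.index = p := by
  set K := L ⊔ _root_.commutator R with hK
  have hKtop : K ≠ ⊤ := fun h => hLtop (eq_top_of_sup_commutator hR h)
  obtain ⟨k, hk2, hk⟩ := (Nat.dvd_prime_pow Fact.out).1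
    (hidx ▸ index_dvd_of_le (le_sup_right : _root_.commutator R ≤ K))
  have hki : K.index = p := by
    rcases (show k = 0 ∨ k = 1 ∨ k = 2 by omega) with rfl | rfl | rfl
    · exact absurd (index_eq_one.1 (by simpa using hk)) hKtop
    · simpa using hk
    · exfalso
      have h1 := relIndex_mul_index (le_sup_right : _root_.commutator R ≤ K)
      rw [hk, hidx] at h1
      have h2 : (_root_.commutator R).relIndex K = 1 :=
        Nat.eq_of_mul_eq_mul_right (pow_pos (Fact.out : p.Prime).pos 2)
          (h1.trans (one_mul _).symm)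
      exact hL ((le_sup_left : L ≤ K).trans (relIndex_eq_one.1 h2))
  obtain ⟨y, hy⟩ : ∃ y, y ∉ K := by
    by_contra h
    push_neg at h
    exact hKtop (eq_top_iff.2 fun x _ => h x)
  have h1 : zpowers y ⊔ L = ⊤ := eq_top_of_sup_commutator hR
    (by rw [sup_assoc, ← hK, sup_zpowers_eq_top hki hy])
  have h2 := commutator_le_of_sup h1
  refine ⟨h2, ?_⟩
  rwa [hK, sup_eq_left.2 h2] at hki

theorem card_centralizer_le (hR : IsPGroup p R) (hidx : (_root_.commutator R).index = p ^ 2)
    {M : Subgroup R} (hcomm : ∀ a ∈ M, ∀ b ∈ M, a * b = b * a) (hM : M.index = p)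
    (hMC : _root_.commutator R ≤ M) {y : R} (hy : y ∉ M) :
    Nat.card (centralizer ({y} : Set R)) ≤ p ^ 2 := by
  haveI : M.Normal := normal_of_commutator_le hMC
  have hmem : ∀ m, ⁅m, y⁆ ∈ M := fun m =>
    hMC (commutator_mem_commutator (mem_top m) (mem_top y))
  let f : M →* R :=
    { toFun := fun m => ⁅(m : R), y⁆
      map_one' := by simp
      map_mul' := fun m n => by
        have h1 : (m : R) * ⁅(n : R), y⁆ = ⁅(n : R), y⁆ * (m : R) := hcomm _ m.2 _ (hmem _)
        calc ⁅((m * n : M) : R), y⁆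
            = (m : R) * ⁅(n : R), y⁆ * (m : R)⁻¹ * ⁅(m : R), y⁆ := by
              simp only [Subgroup.coe_mul, commutatorElement_def]; group
          _ = ⁅(n : R), y⁆ * ⁅(m : R), y⁆ := by rw [h1]; group
          _ = ⁅(m : R), y⁆ * ⁅(n : R), y⁆ := hcomm _ (hmem _) _ (hmem _) }
  have hfM : f.range ≤ M := by rintro _ ⟨m, rfl⟩; exact hmem _
  have hsup : zpowers y ⊔ M = ⊤ := sup_zpowers_eq_top hM hy
  have hI : f.range.Normal := by
    rw [← normalizer_eq_top_iff, eq_top_iff, ← hsup, sup_le_iff]
    refine ⟨?_, ?_⟩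
    · rw [zpowers_le, mem_normalizer_iff]
      intro z
      constructor
      · rintro ⟨m, rfl⟩
        refine ⟨⟨y * m * y⁻¹, Normal.conj_mem inferInstance _ m.2 y⟩, ?_⟩
        show ⁅y * (m : R) * y⁻¹, y⁆ = y * ⁅(m : R), y⁆ * y⁻¹
        simp only [commutatorElement_def]; group
      · rintro ⟨m, hm⟩
        refine ⟨⟨y⁻¹ * m * y, by simpa using Normal.conj_mem (inferInstance : M.Normal) _ m.2 y⁻¹⟩,
          ?_⟩
        have hm' : ⁅(m : R), y⁆ = y * z * y⁻¹ := hm
        show ⁅y⁻¹ * (m : R) * y, y⁆ = z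
        have e : ⁅y⁻¹ * (m : R) * y, y⁆ = y⁻¹ * ⁅(m : R), y⁆ * y := by
          simp only [commutatorElement_def]; group
        rw [e, hm']; group
    · intro a ha
      rw [mem_normalizer_iff]
      intro z
      constructor
      · intro hz
        rw [hcomm a ha z (hfM hz), mul_assoc, mul_inv_cancel, mul_one]
        exact hz
      · intro hz
        have hz' : z ∈ M := by
          have := M.mul_mem (M.mul_mem (M.inv_mem ha) (hfM hz)) ha
          simpa [mul_assoc] using this
        rw [hcomm a ha z hz', mul_assoc, mul_inv_cancel, mul_one] at hz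
        exact hz
  have hle : _root_.commutator R ≤ f.range := by
    let q := QuotientGroup.mk' f.range
    have hMy : ∀ m ∈ M, q m * q y = q y * q m := fun m hm => by
      rw [← commutatorElement_eq_one_iff_mul_comm, ← map_commutatorElement]
      exact (QuotientGroup.eq_one_iff _).2 ⟨⟨m, hm⟩, rfl⟩
    have hgen : ∀ a ∈ ((zpowers y ⊔ M : Subgroup R)), ∀ b : R, (b = y ∨ b ∈ M) →
        q a * q b = q b * q a := by
      intro a ha b hb
      have hsub : zpowers y ⊔ M ≤ (centralizer ({q b} : Set (R ⧸ f.range))).comap q := by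
        rw [sup_le_iff, zpowers_le]
        refine ⟨?_, fun m hm => ?_⟩ <;> rw [mem_comap, mem_centralizer_singleton_iff]
        · rcases hb with rfl | hb
          · rfl
          · exact (hMy b hb).symm
        · rcases hb with rfl | hb
          · exact hMy m hm
          · rw [← map_mul, ← map_mul, hcomm m hm b hb]
      exact mem_centralizer_singleton_iff.1 (mem_comap.1 (hsub ha))
    rw [_root_.commutator_def, commutator_le]
    intro a _ b _
    rw [← QuotientGroup.eq_one_iff]
    show q ⁅a, b⁆ = 1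
    rw [map_commutatorElement, commutatorElement_eq_one_iff_mul_comm]
    have hsub : zpowers y ⊔ M ≤ (centralizer ({q a} : Set (R ⧸ f.range))).comap q := by
      rw [sup_le_iff, zpowers_le]
      refine ⟨?_, fun m hm => ?_⟩ <;> rw [mem_comap, mem_centralizer_singleton_iff]
      · exact (hgen a (hsup ▸ mem_top a) y (Or.inl rfl)).symm
      · exact (hgen a (hsup ▸ mem_top a) m (Or.inr hm)).symm
    exact (mem_centralizer_singleton_iff.1 (mem_comap.1 (hsub (hsup ▸ mem_top b)))).symm
  -- counting
  have h1 := f.ker.index_mul_card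
  rw [Subgroup.index_ker] at h1
  have h2 := (_root_.commutator R).index_mul_card
  have h3 := M.index_mul_card
  rw [hidx] at h2
  rw [hM] at h3
  have h4 : Nat.card (_root_.commutator R) ≤ Nat.card f.range := card_le_of_le hle
  have hp0 : 0 < p := (Fact.out : p.Prime).pos
  have hker : Nat.card f.ker ≤ p := by
    have h5 : Nat.card M = p * Nat.card (_root_.commutator R) := by
      refine Nat.eq_of_mul_eq_mul_left hp0 ?_
      rw [h3, ← h2]; ring
    refine Nat.le_of_mul_le_mul_left ?_ (Nat.card_pos (α := ↥(_root_.commutator R)))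
    calc Nat.card (_root_.commutator R) * Nat.card f.ker
        ≤ Nat.card f.range * Nat.card f.ker := Nat.mul_le_mul_right _ h4
      _ = Nat.card M := h1
      _ = _ := by rw [h5, mul_comm]
  set C := centralizer ({y} : Set R)
  have h6 := (M.subgroupOf C).index_mul_card
  have h7 : (M.subgroupOf C).index ≤ p := by
    have h8 : M.relIndex C ∣ M.index := relIndex_dvd_index_of_normal M C
    rw [hM] at h8
    exact Nat.le_of_dvd hp0 h8
  have h9 : Nat.card (M.subgroupOf C) ≤ Nat.card f.ker := by
    refine Nat.card_le_card_of_injective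
      (fun c : M.subgroupOf C => (⟨⟨((c : C) : R), c.2⟩, ?_⟩ : f.ker)) ?_
    · show ⁅((c : C) : R), y⁆ = 1
      exact commutatorElement_eq_one_iff_mul_comm.2 (mem_centralizer_singleton_iff.1 (c : C).2)
    · intro a b h
      have h' := congrArg (fun x : f.ker => ((x : M) : R)) h
      exact Subtype.ext (Subtype.ext h')
  rw [← h6, pow_two]
  exact Nat.mul_le_mul h7 (h9.trans hker)

theorem eq_zpowers_of_normalClosure (hR : IsPGroup p R) {a : R}
    (h : normalClosure ({a} : Set R) = ⊤) : zpowers a = ⊤ := by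
  refine eq_top_of_sup_commutator hR (eq_top_iff.2 ?_)
  haveI : (zpowers a ⊔ _root_.commutator R).Normal := normal_of_commutator_le le_sup_right
  rw [← h]
  exact normalClosure_le_normal (by simp [mem_sup_left, mem_zpowers])

theorem le_normalizer_closure {S : Set R} {H : Subgroup R}
    (h : ∀ g ∈ H, ∀ s ∈ S, g * s * g⁻¹ ∈ closure S) :
    H ≤ normalizer (closure S : Set R) := by
  have h' : ∀ g ∈ H, ∀ z ∈ closure S, g * z * g⁻¹ ∈ closure S := fun g hg z hz => by
    have : closure S ≤ (closure S).comap (MulAut.conj g).toMonoidHom := by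
      rw [closure_le]; intro s hs; simpa using h g hg s hs
    simpa using this hz
  intro g hg
  rw [mem_normalizer_iff]
  refine fun z => ⟨h' g hg z, fun hz => ?_⟩
  have := h' g⁻¹ (H.inv_mem hg) _ hz
  simpa [mul_assoc] using this

/-- The cyclicity criterion: `K` is generated by the `M`-conjugates of `a`, and `M` is generated by
elements of `K` and elements centralizing `K`. -/
theorem eq_zpowers_of_gen (hR : IsPGroup p R) {a : R} {M : Subgroup R} (haM : a ∈ M) (S : Set R)
    (hS : M ≤ closure S) {K : Subgroup R}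
    (hK : K = closure ((fun g => g * a * g⁻¹) '' (M : Set R)))
    (hsplit : ∀ s ∈ S, s ∈ K ∨ s ∈ centralizer (K : Set R)) : K = zpowers a := by
  have haK : a ∈ K := by
    rw [hK]; exact subset_closure ⟨1, M.one_mem, by simp⟩
  set J := normalClosure ({(⟨a, haK⟩ : K)} : Set K) with hJ
  set J' := J.map K.subtype with hJ'
  have hJK : J' ≤ K := map_subtype_le _
  have hconjK : ∀ s ∈ K, ∀ z ∈ J', s * z * s⁻¹ ∈ J' := by
    rintro s hs _ ⟨w, hw, rfl⟩
    exact ⟨⟨s, hs⟩ * w * ⟨s, hs⟩⁻¹, normalClosure_normal.conj_mem _ hw _, rfl⟩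
  have hN : closure S ≤ normalizer (J' : Set R) := by
    rw [closure_le]
    intro s hs
    rcases hsplit s hs with hs | hs
    · rw [SetLike.mem_coe, mem_normalizer_iff]
      refine fun z => ⟨hconjK s hs z, fun hz => ?_⟩
      have := hconjK s⁻¹ (K.inv_mem hs) _ hz
      simpa [mul_assoc] using this
    · exact centralizer_le_normalizer _ (centralizer_le (SetLike.coe_subset_coe.2 hJK) hs)
  have hKJ : K ≤ J' := by
    conv_lhs => rw [hK]
    rw [closure_le]
    rintro _ ⟨g, hg, rfl⟩
    exact (mem_normalizer_iff.1 (hN (hS hg)) a).1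
      ⟨⟨a, haK⟩, subset_normalClosure rfl, rfl⟩
  have htop : J = ⊤ := by
    rw [eq_top_iff]
    rintro ⟨z, hz⟩ -
    obtain ⟨w, hw, hwz⟩ := hKJ hz
    rwa [show w = ⟨z, hz⟩ from Subtype.ext hwz] at hw
  have h1 := eq_zpowers_of_normalClosure (hR.to_subgroup K) htop
  refine le_antisymm (fun z hz => ?_) (zpowers_le.2 haK)
  obtain ⟨i, hi⟩ := mem_zpowers_iff.1 (h1.ge (mem_top (⟨z, hz⟩ : K)))
  exact ⟨i, by simpa using congrArg Subtype.val hi⟩

/-- The core: a normal subgroup generated by pairwise commuting subgroups, permuted by conjugation,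
is abelian of index `p`. -/
theorem comm_of_family (hR : IsPGroup p R) (hidx : (_root_.commutator R).index = p ^ 2)
    (hna : ¬ ∀ a b : R, a * b = b * a) (M : Subgroup R) [M.Normal] (𝓐 : Set (Subgroup R))
    (hM : M = sSup 𝓐) (hnorm : ∀ A ∈ 𝓐, M ≤ normalizer (A : Set R))
    (hperm : ∀ A ∈ 𝓐, ∀ g : R, cj g A ∈ 𝓐) (hne : ∀ A ∈ 𝓐, A ≠ ⊥)
    (hcomm : ∀ A ∈ 𝓐, ∀ B ∈ 𝓐, A ≠ B → B ≤ centralizer (A : Set R))
    (hdisj : ∀ A ∈ 𝓐, ∀ B ∈ 𝓐, A ≠ B → A ⊓ B = ⊥)
    (htwo : ∀ A ∈ 𝓐, ∃ B ∈ 𝓐, A ≠ B) (hnc : ¬ M ≤ _root_.commutator R) :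
    (∀ a ∈ M, ∀ b ∈ M, a * b = b * a) ∧ M.index = p ∧ _root_.commutator R ≤ M := by
  obtain ⟨A, hA, hA'⟩ : ∃ A ∈ 𝓐, ¬ A ≤ _root_.commutator R := by
    by_contra h
    push_neg at h
    exact hnc (hM ▸ sSup_le h)
  obtain ⟨a, ha, ha'⟩ := SetLike.not_le_iff_exists.1 hA'
  obtain ⟨B, hB, hAB⟩ := htwo A hA
  have hAM : ∀ A ∈ 𝓐, A ≤ M := fun A hA => hM ▸ le_sSup hA
  have hBA : ¬ B ≤ A := fun h => hne B hB (by
    rw [← hdisj A hA B hB hAB]; exact (inf_eq_right.2 h).symm)
  set L := normalClosure ({a} : Set R) with hL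
  have haL : a ∈ L := subset_normalClosure rfl
  have hLM : L ≤ M := normalClosure_le_normal (by simpa using hAM A hA ha)
  have hLtop : L ≠ ⊤ := fun h => hna fun x y => by
    have h1 := eq_zpowers_of_normalClosure hR h
    obtain ⟨i, rfl⟩ := mem_zpowers_iff.1 (h1.ge (mem_top x))
    obtain ⟨j, rfl⟩ := mem_zpowers_iff.1 (h1.ge (mem_top y))
    exact ((Commute.refl a).zpow_zpow i j).eq
  obtain ⟨hCL, hLi⟩ := index_eq_prime hR hidx (fun h => ha' (h haL)) hLtop
  have hCM : _root_.commutator R ≤ M := hCL.trans hLM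
  have hconjL : ∀ g : R, g * a * g⁻¹ ∈ L := fun g => normalClosure_normal.conj_mem a haL g
  by_cases hMtop : M = ⊤
  · -- every element normalizes every member
    exfalso
    have hAn : A.Normal := normalizer_eq_top_iff.1 (top_le_iff.1 (hMtop ▸ hnorm A hA))
    have hLA : L ≤ A := normalClosure_le_normal (by simpa using ha)
    have hAtop : A ≠ ⊤ := fun h => hBA (h ▸ le_top)
    have hAL : L = A := by
      obtain ⟨-, hAi⟩ := index_eq_prime hR hidx hA' hAtop
      have h1 := relIndex_mul_index hLA
      rw [hAi, hLi] at h1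
      exact le_antisymm hLA (relIndex_eq_one.1
        (Nat.eq_of_mul_eq_mul_right (Fact.out : p.Prime).pos (h1.trans (one_mul p).symm)))
    have hS : M ≤ closure (⋃ A ∈ 𝓐, (A : Set R)) := by
      rw [hM]
      exact sSup_le fun A' hA'' x hx => subset_closure (Set.mem_biUnion hA'' hx)
    have hK : A = closure ((fun g => g * a * g⁻¹) '' (M : Set R)) := by
      rw [hMtop, ← hAL, hL, normalClosure]
      congr 1
      ext x
      simp [Group.mem_conjugatesOfSet_iff, isConj_iff]
    have hz := eq_zpowers_of_gen hR (hMtop ▸ mem_top a) _ hS hK (fun s hs => by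
      simp only [Set.mem_iUnion, SetLike.mem_coe] at hs
      obtain ⟨A', hA'', hs⟩ := hs
      by_cases h : A = A'
      · exact Or.inl (h ▸ hs)
      · exact Or.inr (hcomm A hA A' hA'' h hs))
    have hac : a ∈ center R := by
      rw [mem_center_iff]
      intro g
      have : (⊤ : Subgroup R) ≤ centralizer ({a} : Set R) := by
        rw [← hMtop, hM, sSup_le_iff]
        intro A' hA'' x hx
        rw [mem_centralizer_singleton_iff]
        by_cases h : A = A'
        · subst h
          rw [hz] at hx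
          obtain ⟨i, rfl⟩ := mem_zpowers_iff.1 hx
          exact ((Commute.refl a).zpow_left i).eq
        · exact (mem_centralizer_iff.1 (hcomm A hA A' hA'' h hx) a ha).symm
      exact mem_centralizer_singleton_iff.1 (this (mem_top g))
    have hLc : L ≤ center R := normalClosure_le_normal (by simpa using hac)
    obtain ⟨y, hy⟩ : ∃ y, y ∉ L := by
      by_contra h
      push_neg at h
      exact hLtop (eq_top_iff.2 fun x _ => h x)
    refine hna fun x z => ?_
    have hsub : ∀ w : R, (w = y ∨ w ∈ L) → zpowers y ⊔ L ≤ centralizer ({w} : Set R) := by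
      intro w hw
      rw [sup_le_iff, zpowers_le, mem_centralizer_singleton_iff]
      refine ⟨?_, fun l hl => mem_centralizer_singleton_iff.2 (mem_center_iff.1 (hLc hl) w).symm⟩
      rcases hw with rfl | hw
      · rfl
      · exact mem_center_iff.1 (hLc hw) y
    have htop := sup_zpowers_eq_top hLi hy
    have hx : zpowers y ⊔ L ≤ centralizer ({x} : Set R) := by
      rw [sup_le_iff, zpowers_le, mem_centralizer_singleton_iff]
      exact ⟨(mem_centralizer_singleton_iff.1 (hsub y (Or.inl rfl) (htop ▸ mem_top x))).symm,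
        fun l hl => mem_centralizer_singleton_iff.2 (mem_center_iff.1 (hLc hl) x).symm⟩
    exact (mem_centralizer_singleton_iff.1 (hx (htop ▸ mem_top z))).symm
  · -- the index is `p`, and `M` is the normal closure of `a`
    obtain ⟨-, hMi⟩ := index_eq_prime hR hidx hnc hMtop
    have hML : M = L := by
      have h1 := relIndex_mul_index hLM
      rw [hMi, hLi] at h1
      exact le_antisymm (relIndex_eq_one.1
        (Nat.eq_of_mul_eq_mul_right (Fact.out : p.Prime).pos (h1.trans (one_mul p).symm))) hLM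
    have haM : a ∈ M := hAM A hA ha
    have hmove : ∀ g, g ∉ M → cj g A ≠ A := fun g hg h => by
      have h1 : zpowers g ⊔ M ≤ normalizer (A : Set R) := by
        rw [sup_le_iff, zpowers_le]
        refine ⟨?_, hnorm A hA⟩
        rw [mem_normalizer_iff]
        intro z
        constructor
        · exact fun hz => h.le (conj_mem_cj hz)
        · intro hz
          have := mem_cj.1 (h.ge hz)
          simpa [mul_assoc] using this
      rw [sup_zpowers_eq_top hMi hg] at h1
      haveI : A.Normal := normalizer_eq_top_iff.1 (top_le_iff.1 h1)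
      have hLA : L ≤ A := normalClosure_le_normal (by simpa using ha)
      exact hBA ((hAM B hB).trans (hML.le.trans hLA))
    set K := closure ((fun g => g * a * g⁻¹) '' (M : Set R)) with hK
    have hKA : K ≤ A := by
      rw [hK, closure_le]
      rintro _ ⟨g, hg, rfl⟩
      exact (mem_normalizer_iff.1 (hnorm A hA hg) a).1 ha
    have hgenM : M ≤ closure (Set.range fun g => g * a * g⁻¹) := by
      rw [hML, hL, normalClosure, closure_le]
      intro x hx
      obtain ⟨b, hb, hc⟩ := Group.mem_conjugatesOfSet_iff.1 hx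
      rw [Set.mem_singleton_iff] at hb
      subst hb
      obtain ⟨c, hc⟩ := isConj_iff.1 hc
      exact subset_closure ⟨c, hc⟩
    have hKc : ∀ g, g ∉ M → g * a * g⁻¹ ∈ centralizer (K : Set R) := fun g hg =>
      centralizer_le (SetLike.coe_subset_coe.2 hKA)
        (hcomm A hA _ (hperm A hA g) (hmove g hg).symm (conj_mem_cj ha))
    have hz := eq_zpowers_of_gen hR haM _ hgenM hK (fun s hs => by
      obtain ⟨g, rfl⟩ := hs
      by_cases hg : g ∈ M
      · exact Or.inl (subset_closure ⟨g, hg, rfl⟩)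
      · exact Or.inr (hKc g hg))
    have hu : ∀ u : R, (u * a * u⁻¹) * a = a * (u * a * u⁻¹) := fun u => by
      by_cases hu : u ∈ M
      · obtain ⟨i, hi⟩ := mem_zpowers_iff.1
          (hz.le (subset_closure ⟨u, hu, rfl⟩ : u * a * u⁻¹ ∈ K))
        rw [← hi]
        exact ((Commute.refl a).zpow_left i).eq
      · exact (mem_centralizer_iff.1 (hKc u hu) a (hz.ge (mem_zpowers a))).symm
    have hgg : ∀ g h : R, (g * a * g⁻¹) * (h * a * h⁻¹) = (h * a * h⁻¹) * (g * a * g⁻¹) := by
      intro g h
      have h1 := hu (g⁻¹ * h)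
      calc (g * a * g⁻¹) * (h * a * h⁻¹)
          = g * (a * ((g⁻¹ * h) * a * (g⁻¹ * h)⁻¹)) * g⁻¹ := by group
        _ = g * (((g⁻¹ * h) * a * (g⁻¹ * h)⁻¹) * a) * g⁻¹ := by rw [h1]
        _ = _ := by group
    refine ⟨fun x hx z hz' => ?_, hMi, hCM⟩
    have h1 : closure (Set.range fun g => g * a * g⁻¹) ≤
        centralizer (closure (Set.range fun g => g * a * g⁻¹) : Set R) := by
      rw [centralizer_closure, closure_le]
      rintro _ ⟨g, rfl⟩
      rw [SetLike.mem_coe, mem_centralizer_iff]
      rintro _ ⟨h, rfl⟩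
      exact hgg h g
    exact (mem_centralizer_iff.1 (h1 (hgenM hx)) z (hgenM hz')).symm

end PGroup

section Sylow

variable {G : Type u} [Group G] [Finite G] {p : ℕ} [Fact p.Prime]

theorem card_sup_mul_card_inf {X : Type u} [Group X] [Finite X] (A T : Subgroup X) [T.Normal] :
    Nat.card ↥(A ⊔ T) * Nat.card ↥(T ⊓ A) = Nat.card A * Nat.card T := by
  have e : ∀ H K : Subgroup X, H ≤ K → Nat.card H * H.relIndex K = Nat.card K := fun H K h => by
    rw [← relIndex_bot_left, ← relIndex_bot_left, relIndex_mul_relIndex ⊥ H K bot_le h]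
  rw [← e T (A ⊔ T) le_sup_right, ← e (T ⊓ A) A inf_le_right, inf_relIndex_right,
    relIndex_sup_right]
  ring

theorem card_subgroupOf_normal (Q : Sylow p G) (T : Subgroup G) [T.Normal] :
    Nat.card (T.subgroupOf (Q : Subgroup G)) = p ^ (Nat.card T).factorization p := by
  obtain ⟨S, hS⟩ := CfsgLib.Transfer.exists_sylow_eq_subgroupOf Q T
  rw [← S.card_eq_multiplicity, hS]
  exact Nat.card_congr
    { toFun := fun x => ⟨⟨((x : (Q : Subgroup G)) : G), x.2⟩, (x : (Q : Subgroup G)).2⟩
      invFun := fun x => ⟨⟨((x : T) : G), x.2⟩, (x : T).2⟩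
      left_inv := fun x => rfl
      right_inv := fun x => rfl }

theorem subgroupOf_sup_eq (Q : Sylow p G) (T U : Subgroup G) [T.Normal] [U.Normal] :
    (T ⊔ U).subgroupOf (Q : Subgroup G) =
      T.subgroupOf (Q : Subgroup G) ⊔ U.subgroupOf (Q : Subgroup G) := by
  have hge : T.subgroupOf (Q : Subgroup G) ⊔ U.subgroupOf (Q : Subgroup G) ≤
      (T ⊔ U).subgroupOf (Q : Subgroup G) :=
    sup_le (comap_mono le_sup_left) (comap_mono le_sup_right)
  refine (eq_of_le_of_card_ge hge ?_).symm
  have h1 := card_sup_mul_card_inf (T.subgroupOf (Q : Subgroup G)) (U.subgroupOf (Q : Subgroup G))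
  have h2 := card_sup_mul_card_inf T U
  have e : (U ⊓ T).subgroupOf (Q : Subgroup G) =
      U.subgroupOf (Q : Subgroup G) ⊓ T.subgroupOf (Q : Subgroup G) := comap_inf _ _ _
  rw [← e] at h1
  rw [card_subgroupOf_normal Q (U ⊓ T), card_subgroupOf_normal Q T, card_subgroupOf_normal Q U]
    at h1
  have h3 := congrArg (fun n => n.factorization p) h2
  rw [Nat.factorization_mul Nat.card_pos.ne' Nat.card_pos.ne',
    Nat.factorization_mul Nat.card_pos.ne' Nat.card_pos.ne', Finsupp.add_apply,
    Finsupp.add_apply] at h3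
  rw [card_subgroupOf_normal Q (T ⊔ U)]
  refine le_of_eq (Nat.eq_of_mul_eq_mul_right
    (pow_pos (Fact.out : p.Prime).pos ((Nat.card ↥(U ⊓ T)).factorization p)) ?_)
  rw [h1, ← pow_add, ← pow_add, h3]

theorem subgroupOf_sSup_eq (Q : Sylow p G) {s : Set (Subgroup G)} (hs : s.Finite)
    (hn : ∀ T ∈ s, T.Normal) :
    (sSup s).subgroupOf (Q : Subgroup G) = ⨆ T ∈ s, T.subgroupOf (Q : Subgroup G) := by
  induction s, hs using Set.Finite.induction_on with
  | empty => simp
  | @insert T s _ _ ih =>
    haveI : T.Normal := hn T (Set.mem_insert _ _)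
    have hs' : ∀ U ∈ s, U.Normal := fun U hU => hn U (Set.mem_insert_of_mem _ hU)
    haveI : (sSup s).Normal := by
      rw [sSup_eq_iSup']
      haveI : ∀ U : s, (U : Subgroup G).Normal := fun U => hs' U.1 U.2
      exact iSup_normal _
    rw [sSup_insert, subgroupOf_sup_eq, ih hs', iSup_insert]

/-- A Sylow subgroup meets a product of normal subgroups of `V` in the product of the
intersections. -/
theorem subgroupOf_eq_sSup (P : Sylow p G) (V : Subgroup G) [V.Normal] (𝓣 : Set (Subgroup G))
    (hV : sSup 𝓣 = V) (hnorm : ∀ T ∈ 𝓣, V ≤ normalizer (T : Set G)) :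
    V.subgroupOf (P : Subgroup G) = sSup ((fun T => T.subgroupOf (P : Subgroup G)) '' 𝓣) := by
  have hTV : ∀ T ∈ 𝓣, T ≤ V := fun T hT => hV ▸ le_sSup hT
  refine le_antisymm ?_ (sSup_le ?_)
  · obtain ⟨S, hS⟩ := CfsgLib.Transfer.exists_sylow_eq_subgroupOf P V
    have hn : ∀ T ∈ (fun T : Subgroup G => T.subgroupOf V) '' 𝓣, T.Normal := by
      rintro _ ⟨T, hT, rfl⟩
      exact normal_subgroupOf_iff_le_normalizer (hTV T hT) |>.2 (hnorm T hT)
    have htop : sSup ((fun T : Subgroup G => T.subgroupOf V) '' 𝓣) = ⊤ := by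
      rw [eq_top_iff]
      intro x _
      have h1 : V ≤ (sSup ((fun T : Subgroup G => T.subgroupOf V) '' 𝓣)).map V.subtype := by
        conv_lhs => rw [← hV]
        refine sSup_le fun T hT => ?_
        refine le_trans ?_ (map_mono (le_sSup (Set.mem_image_of_mem (fun T : Subgroup G => T.subgroupOf V) hT)))
        rw [subgroupOf_map_subtype, inf_eq_left.2 (hTV T hT)]
      obtain ⟨y, hy, hyx⟩ := h1 x.2
      rwa [← Subtype.ext hyx]
    have hmain := subgroupOf_sSup_eq S (Set.toFinite _) hn
    rw [htop] at hmain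
    intro x hx
    set Z := sSup ((fun T : Subgroup G => T.subgroupOf (P : Subgroup G)) '' 𝓣) with hZ
    have hxS : (⟨((x : (P : Subgroup G)) : G), hx⟩ : V) ∈ (S : Subgroup V) := by
      rw [hS]; exact x.2
    have h2 : (⟨⟨((x : (P : Subgroup G)) : G), hx⟩, hxS⟩ : (S : Subgroup V)) ∈
        ⨆ T ∈ (fun T : Subgroup G => T.subgroupOf V) '' 𝓣, T.subgroupOf (S : Subgroup V) := by
      rw [← hmain]; trivial
    let j : (S : Subgroup V) →* (P : Subgroup G) :=
      { toFun := fun s => ⟨((s : V) : G),
          ((SetLike.ext_iff.1 hS (s : V)).1 s.2 : ((s : V) : G) ∈ (P : Subgroup G))⟩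
        map_one' := rfl
        map_mul' := fun _ _ => rfl }
    have h3 : (⨆ T ∈ (fun T : Subgroup G => T.subgroupOf V) '' 𝓣, T.subgroupOf (S : Subgroup V)) ≤
        Z.comap j := by
      refine iSup₂_le ?_
      rintro _ ⟨T, hT, rfl⟩ s hs
      have : j s ∈ T.subgroupOf (P : Subgroup G) := hs
      exact le_sSup (Set.mem_image_of_mem (fun T : Subgroup G => T.subgroupOf (P : Subgroup G)) hT) this
    exact h3 h2
  · rintro _ ⟨T, hT, rfl⟩
    exact comap_mono (hTV T hT)

theorem pPrime_or_pGroup_absurd (hcore : Cfsg.pPrimeCore p G = ⊥) {N : Subgroup G} (hN : N.Normal)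
    (hne : N ≠ ⊥) : ¬ (Nat.card N).Coprime p := fun h =>
  hne (le_bot_iff.1 (hcore ▸ CfsgLib.ClassK.le_pPrimeCore hN h))

/-- A normal subgroup meeting the Sylow subgroup inside its derived subgroup is a `p`-group. -/
theorem isPGroup_of_le_commutator (hcore : Cfsg.pPrimeCore p G = ⊥) (P : Sylow p G)
    {V : Subgroup G} [V.Normal]
    (h : V.subgroupOf (P : Subgroup G) ≤ _root_.commutator (P : Subgroup G)) : IsPGroup p V := by
  have h1 := CfsgLib.Transfer.tate P V
    (h.trans (CfsgLib.Transfer.commutator_le_frattini_pgroup P.2))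
  have h2 := CfsgLib.Transfer.hasNormalPComplement_iff_coprime_pResidual.1 h1
  haveI := CfsgLib.Transfer.pResidual_characteristic (G := V) (p := p)
  set K := (Cfsg.pResidual p V).map V.subtype with hK
  haveI : K.Normal := ConjAct.normal_of_characteristic_of_normal
  have hKb : K = ⊥ := by
    by_contra hne
    refine pPrime_or_pGroup_absurd hcore inferInstance hne ?_
    rwa [hK, card_map_of_injective V.subtype_injective]
  have h3 : Cfsg.pResidual p V = ⊥ := (map_eq_bot_iff_of_injective _ V.subtype_injective).1 hKb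
  haveI := CfsgLib.Transfer.pResidual_normal (G := V) (p := p)
  have h4 := CfsgLib.Transfer.isPGroup_quotient_of_pResidual_le (p := p)
    (N := Cfsg.pResidual p V) le_rfl
  have h5 := h4.of_injective (QuotientGroup.mk' (Cfsg.pResidual p V)) (by
    rw [← MonoidHom.ker_eq_bot_iff, QuotientGroup.ker_mk', h3])
  exact h5

theorem subgroupOf_inf_eq_bot {H T U : Subgroup G} (h : T ⊓ U = ⊥) :
    T.subgroupOf H ⊓ U.subgroupOf H = ⊥ := by
  refine eq_bot_iff.2 fun x hx => mem_bot.2 (Subtype.ext ?_)
  have h1 : (x : G) ∈ T ⊓ U := ⟨hx.1, hx.2⟩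
  rw [h, mem_bot] at h1
  exact h1

theorem family_core (hcore : Cfsg.pPrimeCore p G = ⊥)
    (hnop : ∀ N : Subgroup G, N.Normal → IsPGroup p N → N = ⊥) (P : Sylow p G)
    (hidx : (_root_.commutator (P : Subgroup G)).index = p ^ 2)
    (hna : ¬ ∀ a b : (P : Subgroup G), a * b = b * a) (V : Subgroup G) [V.Normal] (hVne : V ≠ ⊥)
    (𝓣 : Set (Subgroup G)) (hV : sSup 𝓣 = V) (hnorm : ∀ T ∈ 𝓣, V ≤ normalizer (T : Set G))
    (hperm : ∀ T ∈ 𝓣, ∀ g : G, cj g T ∈ 𝓣)
    (hcomm : ∀ T ∈ 𝓣, ∀ U ∈ 𝓣, T ≠ U → U ≤ centralizer (T : Set G))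
    (hcen : ∀ T ∈ 𝓣, T ⊓ centralizer (T : Set G) = ⊥)
    (hmeet : ∀ T ∈ 𝓣, T.subgroupOf (P : Subgroup G) ≠ ⊥)
    (htwo : ∀ T ∈ 𝓣, ∃ U ∈ 𝓣, T ≠ U) :
    (∀ a ∈ V.subgroupOf (P : Subgroup G), ∀ b ∈ V.subgroupOf (P : Subgroup G), a * b = b * a) ∧
      (V.subgroupOf (P : Subgroup G)).index = p ∧
      _root_.commutator (P : Subgroup G) ≤ V.subgroupOf (P : Subgroup G) := by
  have hdis : ∀ T ∈ 𝓣, ∀ U ∈ 𝓣, T ≠ U → T ⊓ U = ⊥ := fun T hT U hU h =>
    le_bot_iff.1 ((inf_le_inf_left T (hcomm T hT U hU h)).trans (hcen T hT).le)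
  refine comm_of_family P.2 hidx hna _ _ (subgroupOf_eq_sSup P V 𝓣 hV hnorm) ?_ ?_ ?_ ?_ ?_ ?_
    (fun h => hVne (hnop V inferInstance (isPGroup_of_le_commutator hcore P h)))
  · rintro _ ⟨T, hT, rfl⟩ x hx
    rw [mem_normalizer_iff]
    intro z
    exact mem_normalizer_iff.1 (hnorm T hT (show ((x : (P : Subgroup G)) : G) ∈ V from hx)) _
  · rintro _ ⟨T, hT, rfl⟩ g
    refine ⟨cj (g : G) T, hperm T hT g, ?_⟩
    ext z
    simp only [mem_subgroupOf, mem_cj]
    simp
  · rintro _ ⟨T, hT, rfl⟩
    exact hmeet T hT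
  · rintro _ ⟨T, hT, rfl⟩ _ ⟨U, hU, rfl⟩ h x hx
    rw [mem_centralizer_iff]
    intro z hz
    exact Subtype.ext (mem_centralizer_iff.1 (hcomm T hT U hU (fun e => h (e ▸ rfl)) hx) _ hz)
  · rintro _ ⟨T, hT, rfl⟩ _ ⟨U, hU, rfl⟩ h
    exact subgroupOf_inf_eq_bot (hdis T hT U hU (fun e => h (e ▸ rfl)))
  · rintro _ ⟨T, hT, rfl⟩
    obtain ⟨U, hU, hTU⟩ := htwo T hT
    refine ⟨_, ⟨U, hU, rfl⟩, fun h => hmeet T hT ?_⟩
    have h' : T.subgroupOf (P : Subgroup G) = U.subgroupOf (P : Subgroup G) := h
    rw [← inf_idem (T.subgroupOf (P : Subgroup G))]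
    conv_lhs => arg 2; rw [h']
    exact subgroupOf_inf_eq_bot (hdis T hT U hU hTU)

/-- The normal subgroup with abelian trace of index `p`. -/
theorem exists_normal_trace (hcore : Cfsg.pPrimeCore p G = ⊥) (P : Sylow p G)
    (hcore' : (⁅(P : Subgroup G), (P : Subgroup G)⁆).normalCore = ⊥)
    (hnas : ¬ ∃ S : Subgroup G, S.Normal ∧ IsSimpleGroup S ∧ ¬ IsMulCommutative S ∧
      centralizer (S : Set G) = ⊥)
    (hidx : (_root_.commutator (P : Subgroup G)).index = p ^ 2)
    (hna : ¬ ∀ a b : (P : Subgroup G), a * b = b * a) :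
    ∃ N : Subgroup G, N.Normal ∧
      (∀ a ∈ N.subgroupOf (P : Subgroup G), ∀ b ∈ N.subgroupOf (P : Subgroup G), a * b = b * a) ∧
      (N.subgroupOf (P : Subgroup G)).index = p ∧
      _root_.commutator (P : Subgroup G) ≤ N.subgroupOf (P : Subgroup G) := by
  classical
  by_cases hnop : ∀ N : Subgroup G, N.Normal → IsPGroup p N → N = ⊥
  swap
  · push_neg at hnop
    obtain ⟨N₀, hN₀, hp₀, hne₀⟩ := hnop
    obtain ⟨N, hN, hne, hle, hmin⟩ := CfsgLib.Solvable.exists_minimal_normal_le hN₀ hne₀
    have hp : IsPGroup p N := hp₀.to_le hle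
    haveI := hN
    haveI : Group.IsNilpotent N := hp.isNilpotent
    obtain ⟨q, hq, -, -, hab⟩ := CfsgLib.Solvable.exists_isPGroup_of_minimal_normal hne hmin
    have hcomm : ∀ a ∈ N.subgroupOf (P : Subgroup G), ∀ b ∈ N.subgroupOf (P : Subgroup G),
        a * b = b * a := fun a ha b hb => Subtype.ext
      (congrArg Subtype.val (hab.is_comm.comm (⟨(a : G), ha⟩ : N) ⟨(b : G), hb⟩) :)
    have hNP : N ≤ (P : Subgroup G) := by
      obtain ⟨Q, hQ⟩ := hp.exists_le_sylow
      obtain ⟨g, hg⟩ := MulAction.exists_smul_eq G P Q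
      intro x hx
      have h1 := hQ (hN.conj_mem x hx g)
      rw [← hg, Sylow.coe_subgroup_smul, mem_pointwise_smul_iff_inv_smul_mem] at h1
      simpa [← map_inv, MulAut.smul_def, mul_assoc] using h1
    have hnc : ¬ N.subgroupOf (P : Subgroup G) ≤ _root_.commutator (P : Subgroup G) := fun h => by
      refine hne (le_bot_iff.1 (hcore' ▸ normal_le_normalCore.2 ?_))
      intro x hx
      rw [← map_subtype_commutator]
      exact ⟨⟨x, hNP hx⟩, h hx, rfl⟩
    have htop : N.subgroupOf (P : Subgroup G) ≠ ⊤ := fun h => hna fun a b =>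
      hcomm a (h ▸ mem_top a) b (h ▸ mem_top b)
    obtain ⟨h1, h2⟩ := index_eq_prime P.2 hidx hnc htop
    exact ⟨N, hN, hcomm, h2, h1⟩
  · haveI : Nontrivial G := by
      by_contra h
      rw [not_nontrivial_iff_subsingleton] at h
      exact hna fun a b => Subsingleton.elim _ _
    have hminab : ∀ N : Subgroup G, N.Normal → N ≠ ⊥ →
        (∀ K : Subgroup G, K.Normal → K ≤ N → K = ⊥ ∨ K = N) → ¬ IsMulCommutative N := by
      intro N hN hne hmin hab
      haveI := hN
      haveI : Group.IsSolvable N := isSolvable_of_comm fun a b => hab.is_comm.comm a b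
      obtain ⟨q, hq, hqN, -, -⟩ := CfsgLib.Solvable.exists_isPGroup_of_minimal_normal hne hmin
      by_cases hqp : q = p
      · subst hqp; exact hne (hnop N hN hqN)
      · haveI := Fact.mk hq
        obtain ⟨n, hn⟩ := IsPGroup.iff_card.1 hqN
        exact pPrime_or_pGroup_absurd hcore hN hne
          (hn ▸ ((Nat.coprime_primes hq Fact.out).2 hqp).pow_left n)
    have hmeet : ∀ W : Subgroup G, W.Normal → W ≠ ⊥ → W.subgroupOf (P : Subgroup G) ≠ ⊥ := by
      intro W hW hne h
      refine pPrime_or_pGroup_absurd hcore hW hne ?_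
      haveI := hW
      refine CfsgLib.Transfer.coprime_card_of_inf_sylow_eq_bot P ?_
      rw [← subgroupOf_map_subtype, h, Subgroup.map_bot]
    obtain ⟨N, hN, hne, hmin⟩ := CfsgLib.Solvable.exists_minimal_normal (G := G)
    haveI := hN
    obtain ⟨T, hT⟩ := exists_isFactor hN hne hmin (hminab N hN hne hmin)
    set 𝓣 : Set (Subgroup G) := Set.range fun g : G => cj g T with h𝓣
    have hsup : sSup 𝓣 = N := hT.iSup_eq
    by_cases htwo : ∃ g : G, cj g T ≠ T
    · refine ⟨N, hN, family_core hcore hnop P hidx hna N hne 𝓣 hsup ?_ ?_ ?_ ?_ ?_ ?_⟩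
      · rintro _ ⟨g, rfl⟩
        rw [← cj_eq_self_of_normal g hN]
        exact le_normalizer_cj hT.le_normalizer
      · rintro _ ⟨g, rfl⟩ h
        exact ⟨h * g, cj_mul h g T⟩
      · rintro _ ⟨g, rfl⟩ _ ⟨h, rfl⟩ hne'
        rcases hT.eq_or_le_centralizer (g⁻¹ * h) with e | e
        · exfalso; apply hne'
          show cj g T = cj h T
          rw [show h = g * (g⁻¹ * h) by group, cj_mul, e]
        · have e' := cj_mono g e
          rw [← cj_mul, mul_inv_cancel_left] at e'
          refine e'.trans fun x hx => ?_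
          rw [mem_centralizer_iff]
          intro z hz
          rw [mem_cj] at hx
          have h3 := mem_centralizer_iff.1 hx _ (mem_cj.1 hz)
          have h4 := congrArg (fun w => g * w * g⁻¹) h3
          simpa [mul_assoc] using h4
      · rintro _ ⟨g, rfl⟩
        refine le_bot_iff.1 fun x hx => ?_
        have h2 : g⁻¹ * x * g ∈ T ⊓ centralizer (T : Set G) := by
          refine ⟨mem_cj.1 hx.1, mem_centralizer_iff.2 fun z hz => ?_⟩
          have h3 := mem_centralizer_iff.1 hx.2 _ (conj_mem_cj (g := g) hz)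
          have h4 := congrArg (fun w => g⁻¹ * w * g) h3
          simpa [mul_assoc] using h4
        rw [hT.inf_centralizer, mem_bot] at h2
        rw [mem_bot]
        have h4 := congrArg (fun w => g * w * g⁻¹) h2
        simpa [mul_assoc] using h4
      · intro T' hT' h
        obtain ⟨g₀, rfl⟩ := hT'
        -- all members then meet the Sylow subgroup trivially
        refine hmeet N hN hne ?_
        rw [subgroupOf_eq_sSup P N 𝓣 hsup (by
          rintro _ ⟨g, rfl⟩
          rw [← cj_eq_self_of_normal g hN]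
          exact le_normalizer_cj hT.le_normalizer)]
        refine le_bot_iff.1 (sSup_le ?_)
        rintro _ ⟨U, hU, rfl⟩
        obtain ⟨g, rfl⟩ := hU
        refine le_of_eq ?_
        have hcop : ¬ p ∣ Nat.card (cj g₀ T) := fun hd => by
          obtain ⟨Q, hQ⟩ : ∃ Q : Sylow p N, (Q : Subgroup N) = (P : Subgroup G).subgroupOf N :=
            CfsgLib.Transfer.exists_sylow_eq_subgroupOf P N
          have hTN : cj g₀ T ≤ N := by
            rw [← cj_eq_self_of_normal g₀ hN]; exact cj_mono g₀ hT.le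
          haveI : ((cj g₀ T).subgroupOf N).Normal := (normal_subgroupOf_iff_le_normalizer hTN).2
            (by rw [← cj_eq_self_of_normal g₀ hN]; exact le_normalizer_cj hT.le_normalizer)
          have h1 := card_subgroupOf_normal Q ((cj g₀ T).subgroupOf N)
          rw [Nat.card_congr (subgroupOfEquivOfLe hTN).toEquiv] at h1
          have h2 : ((cj g₀ T).subgroupOf N).subgroupOf (Q : Subgroup N) = ⊥ := by
            rw [eq_bot_iff]
            rintro ⟨⟨x, hxN⟩, hxQ⟩ hx
            have hxP : x ∈ (P : Subgroup G) := (SetLike.ext_iff.1 hQ (⟨x, hxN⟩ : N)).1 hxQ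
            have h5 : (⟨x, hxP⟩ : (P : Subgroup G)) ∈ (⊥ : Subgroup (P : Subgroup G)) := h.le hx
            rw [mem_bot] at h5 ⊢
            exact Subtype.ext (Subtype.ext (congrArg Subtype.val h5 :))
          rw [h2, card_bot] at h1
          have h6 := (Fact.out : p.Prime).factorization_pos_of_dvd Nat.card_pos.ne' hd
          have h7 := Nat.one_lt_pow h6.ne' (Fact.out : p.Prime).one_lt
          omega
        rw [← card_eq_one]
        obtain ⟨n, hn⟩ := IsPGroup.iff_card.1 (P.2.to_subgroup ((cj g T).subgroupOf _))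
        have hd : Nat.card ((cj g T).subgroupOf (P : Subgroup G)) ∣ Nat.card (cj g₀ T) := by
          rw [natCard_cj, ← natCard_cj g T,
            ← card_map_of_injective (P : Subgroup G).subtype_injective, subgroupOf_map_subtype]
          exact card_dvd_of_le inf_le_left
        rcases Nat.eq_zero_or_pos n with rfl | hn0
        · simpa using hn
        · exact absurd ((dvd_pow_self p hn0.ne').trans (hn ▸ hd)) hcop
      · rintro _ ⟨g, rfl⟩
        obtain ⟨h, hh⟩ := htwo
        refine ⟨_, ⟨g * h, rfl⟩, fun e => hh ?_⟩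
        have e' : cj g T = cj (g * h) T := e
        have e'' := congrArg (cj g⁻¹) e'
        rw [← cj_mul, ← cj_mul, inv_mul_cancel, inv_mul_cancel_left, cj_one] at e''
        exact e''.symm
    · push_neg at htwo
      have hTn : T = N := by
        rw [← hT.iSup_eq]
        exact le_antisymm ((cj_one T).ge.trans (le_iSup (fun g => cj g T) 1))
          (iSup_le fun g => (htwo g).le)
      subst hTn
      have hC : centralizer (T : Set G) ≠ ⊥ := fun hC =>
        hnas ⟨T, hN, hT.simple, hT.nonabelian, hC⟩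
      obtain ⟨N', hN', hne', hle', hmin'⟩ :=
        CfsgLib.Solvable.exists_minimal_normal_le (N := centralizer (T : Set G)) inferInstance hC
      haveI := hN'
      have hcen' : N' ⊓ centralizer (N' : Set G) = ⊥ := by
        rcases hmin' (N' ⊓ centralizer (N' : Set G)) inferInstance inf_le_left with h | h
        · exact h
        · exfalso
          have h' : N' ≤ centralizer (N' : Set G) := by rw [← inf_eq_left]; exact h
          exact hminab N' hN' hne' hmin' ⟨⟨fun a b =>
            Subtype.ext (mem_centralizer_iff.1 (h' b.2) a a.2)⟩⟩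
      haveI : (T ⊔ N').Normal := sup_normal T N'
      refine ⟨T ⊔ N', inferInstance, family_core hcore hnop P hidx hna _
        (fun h => hne (le_bot_iff.1 (le_sup_left.trans h.le))) {T, N'} sSup_pair ?_ ?_ ?_ ?_ ?_ ?_⟩
      · rintro U (rfl | rfl) <;> exact le_normalizer_of_normal
      · rintro U (rfl | rfl) g
        · exact Or.inl (cj_eq_self_of_normal g hN)
        · exact Or.inr (cj_eq_self_of_normal g hN')
      · rintro U (rfl | rfl) W (rfl | rfl) h
        · exact absurd rfl h
        · exact hle'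
        · exact le_centralizer_iff.1 hle'
        · exact absurd rfl h
      · rintro U (rfl | rfl)
        · exact hT.inf_centralizer
        · exact hcen'
      · rintro U (rfl | rfl)
        · exact hmeet _ hN hne
        · exact hmeet _ hN' hne'
      · have hTN' : T ≠ N' := fun e => hne (le_bot_iff.1 (by
          rw [← hT.inf_centralizer]; exact le_inf le_rfl (e.le.trans hle')))
        rintro U (rfl | rfl)
        · exact ⟨N', Or.inr rfl, hTN'⟩
        · exact ⟨T, Or.inl rfl, hTN'.symm⟩

/-- A `p`-element of the Sylow subgroup commutes with at most `p ^ 2` of its elements when it is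
outside the abelian maximal subgroup. -/
theorem exists_element (hcore : Cfsg.pPrimeCore p G = ⊥) (P : Sylow p G)
    (hcore' : (⁅(P : Subgroup G), (P : Subgroup G)⁆).normalCore = ⊥)
    (hnas : ¬ ∃ S : Subgroup G, S.Normal ∧ IsSimpleGroup S ∧ ¬ IsMulCommutative S ∧
      centralizer (S : Set G) = ⊥)
    (hidx : (_root_.commutator (P : Subgroup G)).index = p ^ 2) :
    ∃ x : G, (∃ k : ℕ, orderOf x = p ^ k) ∧
      (Nat.card (centralizer ({x} : Set G))).factorization p = 2 := by
  classical
  have hP : Nat.card (P : Subgroup G) = p ^ (Nat.card G).factorization p := P.card_eq_multiplicity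
  by_cases hna : ∀ a b : (P : Subgroup G), a * b = b * a
  · refine ⟨1, ⟨0, by simp⟩, ?_⟩
    have hc : _root_.commutator (P : Subgroup G) = ⊥ := by
      rw [_root_.commutator_def, eq_bot_iff, commutator_le]
      exact fun a _ b _ => mem_bot.2 (commutatorElement_eq_one_iff_mul_comm.2 (hna a b))
    rw [hc, index_bot, hP] at hidx
    have h2 := Nat.pow_right_injective (Fact.out : p.Prime).two_le hidx
    have hC : centralizer ({1} : Set G) = ⊤ :=
      eq_top_iff.2 fun g _ => mem_centralizer_singleton_iff.2 (by simp)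
    rw [hC, card_top, h2]
  obtain ⟨N, hN, hcomm, hMi, hMC⟩ := exists_normal_trace hcore P hcore' hnas hidx hna
  set M := N.subgroupOf (P : Subgroup G) with hM
  obtain ⟨y, hy⟩ : ∃ y, y ∉ M := by
    by_contra h
    push_neg at h
    rw [show M = ⊤ from eq_top_iff.2 (fun x _ => h x), index_top] at hMi
    exact (Fact.out : p.Prime).one_lt.ne hMi
  obtain ⟨k, hk⟩ := IsPGroup.iff_orderOf.1 P.2 y
  refine ⟨(y : G), ⟨k, by rw [orderOf_coe]; exact hk⟩, ?_⟩
  have hyG : (y : G) ∉ N := hy
  set C := centralizer ({(y : G)} : Set G) with hC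
  obtain ⟨S⟩ : Nonempty (Sylow p C) := inferInstance
  set S' := (S : Subgroup C).map C.subtype with hS'
  have hS'p : IsPGroup p S' := S.2.map _
  have hyS : (y : G) ∈ S' := by
    set Z := zpowers (⟨(y : G), mem_centralizer_singleton_iff.2 rfl⟩ : C) with hZ
    have hZp : IsPGroup p Z := by
      refine IsPGroup.of_card (n := k) ?_
      rw [Nat.card_zpowers, ← orderOf_coe, Subgroup.coe_mk, orderOf_coe]
      exact hk
    haveI : Z.Normal := ⟨fun z hz g => by
      obtain ⟨i, rfl⟩ := mem_zpowers_iff.1 hz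
      have : Commute g (⟨(y : G), mem_centralizer_singleton_iff.2 rfl⟩ : C) :=
        Subtype.ext (mem_centralizer_singleton_iff.1 g.2)
      rw [(this.zpow_right i).eq, mul_inv_cancel_right]
      exact zpow_mem_zpowers _ i⟩
    have hle : Z ≤ S := by
      have h1 := S.is_maximal' (hZp.to_sup_of_normal_left S.2) le_sup_right
      exact le_sup_left.trans h1.le
    exact ⟨_, hle (mem_zpowers _), rfl⟩
  obtain ⟨Q, hQ⟩ := hS'p.exists_le_sylow
  obtain ⟨g, rfl⟩ := MulAction.exists_smul_eq G P Q
  have hin : ∀ s ∈ S', g⁻¹ * s * g ∈ (P : Subgroup G) := fun s hs => by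
    have h1 := hQ hs
    rw [Sylow.coe_subgroup_smul, mem_pointwise_smul_iff_inv_smul_mem] at h1
    simpa [← map_inv, MulAut.smul_def, mul_assoc] using h1
  set y' : (P : Subgroup G) := ⟨g⁻¹ * y * g, hin _ hyS⟩ with hy'
  have hy'M : y' ∉ M := fun h => hyG (by
    have := hN.conj_mem _ (show g⁻¹ * (y : G) * g ∈ N from h) g
    simpa [mul_assoc] using this)
  have hupper : Nat.card S ≤ p ^ 2 := by
    refine le_trans ?_ (card_centralizer_le P.2 hidx hcomm hMi hMC hy'M)
    refine Nat.card_le_card_of_injective (fun s : (S : Subgroup C) =>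
      (⟨⟨g⁻¹ * ((s : C) : G) * g, hin _ ⟨s, s.2, rfl⟩⟩, ?_⟩ : centralizer ({y'} : Set _))) ?_
    · rw [mem_centralizer_singleton_iff]
      refine Subtype.ext ?_
      have h1 : ((s : C) : G) * y = y * ((s : C) : G) := mem_centralizer_singleton_iff.1 (s : C).2
      show g⁻¹ * ((s : C) : G) * g * (g⁻¹ * y * g) = g⁻¹ * y * g * (g⁻¹ * ((s : C) : G) * g)
      calc g⁻¹ * ((s : C) : G) * g * (g⁻¹ * y * g) = g⁻¹ * (((s : C) : G) * y) * g := by group
        _ = g⁻¹ * ((y : G) * ((s : C) : G)) * g := by rw [h1]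
        _ = _ := by group
    · intro a b h
      have h' := congrArg (fun z : centralizer ({y'} : Set _) => ((z : (P : Subgroup G)) : G)) h
      simp at h'
      exact h'
  rw [S.card_eq_multiplicity] at hupper
  -- the lower bound
  have hlower : 2 ≤ (Nat.card C).factorization p := by
    set D := centralizer ({y} : Set (P : Subgroup G)) with hD
    obtain ⟨d, hd⟩ := IsPGroup.iff_card.1 (P.2.to_subgroup D)
    have hdvd : p ^ d ∣ Nat.card C := by
      rw [← hd, ← card_map_of_injective (P : Subgroup G).subtype_injective]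
      refine card_dvd_of_le ?_
      rintro _ ⟨z, hz, rfl⟩
      exact mem_centralizer_singleton_iff.2
        (congrArg Subtype.val (mem_centralizer_singleton_iff.1 hz))
    refine le_trans ?_ ((Fact.out : p.Prime).pow_dvd_iff_le_factorization Nat.card_pos.ne' |>.1 hdvd)
    haveI : Nontrivial (P : Subgroup G) := by
      by_contra h
      rw [not_nontrivial_iff_subsingleton] at h
      exact hna fun a b => Subsingleton.elim _ _
    haveI : Fintype (P : Subgroup G) := Fintype.ofFinite _
    haveI := P.2.center_nontrivial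
    have hyZ : y ∉ center (P : Subgroup G) := fun hz => by
      have h1 := card_centralizer_le P.2 hidx hcomm hMi hMC hy
      have h2 : centralizer ({y} : Set (P : Subgroup G)) = ⊤ := eq_top_iff.2 fun z _ =>
        mem_centralizer_singleton_iff.2 (mem_center_iff.1 hz z)
      rw [h2, card_top] at h1
      have h3 := (_root_.commutator (P : Subgroup G)).index_mul_card
      rw [hidx] at h3
      have h4 : 1 < Nat.card (_root_.commutator (P : Subgroup G)) := by
        rw [Finite.one_lt_card_iff_nontrivial, nontrivial_iff_ne_bot]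
        intro h5
        refine hna fun a b => commutatorElement_eq_one_iff_mul_comm.1 ?_
        rw [← mem_bot, ← h5]
        exact commutator_mem_commutator (mem_top a) (mem_top b)
      have h6 : 0 < p ^ 2 := pow_pos (Fact.out : p.Prime).pos 2
      nlinarith
    have hlt : Nat.card (center (P : Subgroup G)) < Nat.card D := by
      refine lt_of_not_ge fun hle => hyZ ?_
      have hcd : center (P : Subgroup G) ≤ D := center_le_centralizer _
      rw [eq_of_le_of_card_ge hcd hle]
      exact mem_centralizer_singleton_iff.2 rfl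
    have h1 : 1 < Nat.card (center (P : Subgroup G)) := Finite.one_lt_card
    obtain ⟨e, he⟩ := IsPGroup.iff_card.1 (P.2.to_subgroup (center (P : Subgroup G)))
    rw [hd, he] at hlt
    rw [he] at h1
    have he1 : 0 < e := by
      rcases Nat.eq_zero_or_pos e with rfl | h
      · simp at h1
      · exact h
    have := (Nat.pow_lt_pow_iff_right (Fact.out : p.Prime).one_lt).1 hlt
    omega
  exact le_antisymm ((Nat.pow_le_pow_iff_right (Fact.out : p.Prime).one_lt).1 hupper) hlower

/-- A `p`-element with small centralizer forces a derived subgroup of index `p ^ 2`. -/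
theorem index_of_element (P : Sylow p G) (hbig : p ^ 2 ∣ Nat.card G) {x : G}
    (hx : ∃ k : ℕ, orderOf x = p ^ k)
    (hC : (Nat.card (centralizer ({x} : Set G))).factorization p = 2) :
    (_root_.commutator (P : Subgroup G)).index = p ^ 2 := by
  classical
  obtain ⟨k, hk⟩ := hx
  have hxp : IsPGroup p (zpowers x) := IsPGroup.of_card (n := k) (by rw [Nat.card_zpowers, hk])
  obtain ⟨Q, hQ⟩ := hxp.exists_le_sylow
  obtain ⟨g, rfl⟩ := MulAction.exists_smul_eq G P Q
  have hy : g⁻¹ * x * g ∈ (P : Subgroup G) := by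
    have h1 := hQ (mem_zpowers x)
    rw [Sylow.coe_subgroup_smul, mem_pointwise_smul_iff_inv_smul_mem] at h1
    simpa [← map_inv, MulAut.smul_def, mul_assoc] using h1
  set y : (P : Subgroup G) := ⟨g⁻¹ * x * g, hy⟩
  set D := centralizer ({y} : Set (P : Subgroup G)) with hD
  have hDle : Nat.card D ≤ p ^ 2 := by
    obtain ⟨d, hd⟩ := IsPGroup.iff_card.1 (P.2.to_subgroup D)
    rw [hd]
    refine Nat.pow_le_pow_right (Fact.out : p.Prime).pos (hC ▸ ?_)
    refine ((Fact.out : p.Prime).pow_dvd_iff_le_factorization Nat.card_pos.ne').1 ?_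
    rw [← hd]
    refine card_dvd_of_injective
      ({ toFun := fun z => ⟨g * ((z : (P : Subgroup G)) : G) * g⁻¹, by
            rw [mem_centralizer_singleton_iff]
            have h1 : ((z : (P : Subgroup G)) : G) * (g⁻¹ * x * g) =
                (g⁻¹ * x * g) * ((z : (P : Subgroup G)) : G) :=
              congrArg Subtype.val (mem_centralizer_singleton_iff.1 z.2)
            have h2 := congrArg (fun w => g * w * g⁻¹) h1
            simpa [mul_assoc] using h2⟩
         map_one' := Subtype.ext (by simp)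
         map_mul' := fun a b => Subtype.ext (by simp [mul_assoc]) } :
        D →* centralizer ({x} : Set G)) ?_
    intro a b h
    have h' := congrArg (fun z : centralizer ({x} : Set G) => g⁻¹ * (z : G) * g) h
    simp [mul_assoc] at h'
    exact h'
  set R' := _root_.commutator (P : Subgroup G) with hR'
  have hinj : Nat.card ((P : Subgroup G) ⧸ D) ≤ Nat.card R' := by
    refine Nat.card_le_card_of_injective
      (fun q => (⟨⁅q.out, y⁆, commutator_mem_commutator (mem_top _) (mem_top _)⟩ : R')) ?_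
    intro a b h
    have h1 : ⁅a.out, y⁆ = ⁅b.out, y⁆ := congrArg Subtype.val h
    rw [commutatorElement_def, commutatorElement_def, mul_left_inj] at h1
    refine (Quotient.out_eq a).symm.trans ((QuotientGroup.eq.2 ?_).trans (Quotient.out_eq b))
    refine mem_centralizer_singleton_iff.2 ?_
    calc a.out⁻¹ * b.out * y = a.out⁻¹ * (b.out * y * b.out⁻¹) * b.out := by group
      _ = a.out⁻¹ * (a.out * y * a.out⁻¹) * b.out := by rw [h1]
      _ = _ := by group
  obtain ⟨i, hi⟩ := (P.2.index R' )
  have hle : i ≤ 2 := by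
    refine (Nat.pow_le_pow_iff_right (Fact.out : p.Prime).one_lt).1 (le_trans ?_ hDle)
    refine Nat.le_of_mul_le_mul_right ?_ (Nat.card_pos (α := ↥R'))
    rw [← hi, index_mul_card, ← D.index_mul_card, Subgroup.index, mul_comm (Nat.card ↥D)]
    exact Nat.mul_le_mul_right _ hinj
  rcases (show i = 2 ∨ i ≤ 1 by omega) with rfl | hi1
  · exact hi
  exfalso
  have hcyc : ∃ w, zpowers w ⊔ R' = ⊤ := by
    rcases (show i = 0 ∨ i = 1 by omega) with rfl | rfl
    · exact ⟨1, eq_top_iff.2 (le_trans (index_eq_one.1 (by simpa using hi)).ge le_sup_right)⟩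
    · obtain ⟨w, hw⟩ : ∃ w, w ∉ R' := by
        by_contra h
        push_neg at h
        rw [show R' = ⊤ from eq_top_iff.2 (fun z _ => h z), index_top, pow_one] at hi
        exact (Fact.out : p.Prime).one_lt.ne hi
      exact ⟨w, sup_zpowers_eq_top (by simpa using hi) hw⟩
  obtain ⟨w, hw⟩ := hcyc
  have htop := eq_top_of_sup_commutator P.2 hw
  have hbot : R' = ⊥ := by
    rw [hR', _root_.commutator_def, eq_bot_iff, commutator_le]
    intro a _ b _
    obtain ⟨m, rfl⟩ := mem_zpowers_iff.1 (htop.ge (mem_top a))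
    obtain ⟨n, rfl⟩ := mem_zpowers_iff.1 (htop.ge (mem_top b))
    exact mem_bot.2 (commutatorElement_eq_one_iff_mul_comm.2
      ((Commute.refl w).zpow_zpow m n).eq)
  rw [hbot, index_bot, P.card_eq_multiplicity] at hi
  have h1 := Nat.pow_right_injective (Fact.out : p.Prime).two_le hi
  have h2 := ((Fact.out : p.Prime).pow_dvd_iff_le_factorization Nat.card_pos.ne').1 hbig
  omega

end Sylow

end CfsgLib.BlockA.MaximalDerived
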