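import Cfsg.Agent.Lib.BlockA.CoverSub

/-! Nilpotent blocks and normal subgroups of `p`-power index. -/

set_option autoImplicit false
set_option linter.unusedSectionVars false
set_option maxHeartbeats 1000000

namespace CfsgLib.BlockA

open Cfsg CfsgLib.Block MonoidAlgebra

universe u

variable {G : Type u} [Group G] [Finite G] {p : ℕ} {M : Ideal AlgInt} [M.IsPrime]

local notation "cen" Q => Subgroup.centralizer ((Q : Subgroup G) : Set G)

/-- The centralizer in `N` of a subgroup of `N`, seen in `G`. -/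
noncomputable def cenInfIso (N R : Subgroup G) (hR : R ≤ N) :
    Subgroup.centralizer ((R.subgroupOf N : Subgroup N) : Set N) ≃*
      ↥(Subgroup.centralizer (R : Set G) ⊓ N) where
  toFun t := ⟨((t : N) : G), Subgroup.mem_centralizer_iff.2 fun r hr =>
    congrArg Subtype.val (Subgroup.mem_centralizer_iff.1 t.2 ⟨r, hR hr⟩ hr), (t : N).2⟩
  invFun s := ⟨⟨(s : G), s.2.2⟩, Subgroup.mem_centralizer_iff.2 fun r hr =>
    Subtype.ext (Subgroup.mem_centralizer_iff.1 s.2.1 (r : G) hr)⟩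
  left_inv _ := rfl
  right_inv _ := rfl
  map_mul' _ _ := rfl

theorem inclSub_sIdem_cenInf {N R : Subgroup G} (hR : R ≤ N)
    (g : Set (IrrCharacter ↥(Subgroup.centralizer (R : Set G) ⊓ N))) :
    inclSub N (sIdem M (Subgroup.centralizer ((R.subgroupOf N : Subgroup N) : Set N))
      (blockMap (cenInfIso N R hR) g)) = sIdem M (Subgroup.centralizer (R : Set G) ⊓ N) g := by
  ext x
  by_cases hx : x ∈ Subgroup.centralizer (R : Set G) ⊓ N
  · obtain ⟨t, rfl⟩ : ∃ t : Subgroup.centralizer ((R.subgroupOf N : Subgroup N) : Set N),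
        ((t : N) : G) = x := ⟨(cenInfIso N R hR).symm ⟨x, hx⟩, rfl⟩
    rw [coeff_inclSub_of_mem, sIdem, sIdem, coeff_inclSub_of_mem, coeff_blkIdem,
      blockCoeff_blockMap,
      show ((t : N) : G) = ((cenInfIso N R hR t : ↥((cen R) ⊓ N)) : G) from rfl,
      coeff_inclSub_of_mem, coeff_blkIdem]
  · rw [coeff_sIdem_of_not_mem g hx]
    by_cases hxN : x ∈ N
    · rw [show x = ((⟨x, hxN⟩ : N) : G) from rfl, coeff_inclSub_of_mem]
      refine coeff_sIdem_of_not_mem _ fun h => hx ?_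
      exact ((cenInfIso N R hR) ⟨⟨x, hxN⟩, h⟩).2
    · exact coeff_inclSub_of_not_mem _ _ hxN

theorem exists_subgroupOf_eq {N : Subgroup G} (R₀ : Subgroup N) :
    ∃ R : Subgroup G, R ≤ N ∧ R₀ = R.subgroupOf N :=
  ⟨R₀.map N.subtype, Subgroup.map_subtype_le R₀,
    (Subgroup.comap_map_eq_self_of_injective (Subgroup.subtype_injective _) R₀).symm⟩

theorem conjGA_inclSub_iff {N : Subgroup G} (a : MonoidAlgebra (kres M) N) (t : N) :
    conjGA (t : G) (inclSub N a) = inclSub N a ↔ ∀ y, a.coeff (t⁻¹ * y * t) = a.coeff y := by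
  constructor
  · intro h y
    have := congrArg (fun b : MonoidAlgebra (kres M) G => b.coeff (y : G)) h
    simp only [coeff_conjGA] at this
    rwa [show (t : G)⁻¹ * (y : G) * t = ((t⁻¹ * y * t : N) : G) from rfl, coeff_inclSub_of_mem,
      coeff_inclSub_of_mem] at this
  · intro h
    ext g
    rw [coeff_conjGA]
    by_cases hg : g ∈ N
    · rw [show (t : G)⁻¹ * g * t = ((t⁻¹ * ⟨g, hg⟩ * t : N) : G) from rfl, coeff_inclSub_of_mem,
        h, ← coeff_inclSub_of_mem N a ⟨g, hg⟩]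
    · have hg' : (t : G)⁻¹ * g * t ∉ N := fun hh => hg (by
        simpa [mul_assoc] using mul_mem (mul_mem t.2 hh) (inv_mem t.2))
      rw [coeff_inclSub_of_not_mem _ _ hg, coeff_inclSub_of_not_mem _ _ hg']

variable (hM : IsPModular p M) {N : Subgroup G} [N.Normal]
  (hidx : ∃ k : ℕ, N.index = p ^ k) {c : Set (IrrCharacter N)} {B : Set (IrrCharacter G)}
  (hc : IsPBlock M c) (hB : IsPBlock M B)
  (hBc : ∀ g : G, blockCoeff B g = subgroupBlockCoeff N c g)
include hM hidx hc hB hBc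

theorem sIdem_cen_supported (R : Subgroup G) (g' : Set (IrrCharacter (cen R)))
    (hg' : IsPBlock M g') (x : G) (hx : x ∉ (cen R) ⊓ N) : (sIdem M (cen R) g').coeff x = 0 := by
  by_cases hxR : x ∈ cen R
  · rw [show x = ((⟨x, hxR⟩ : (cen R)) : G) from rfl, sIdem, coeff_inclSub_of_mem]
    refine blkIdem_coeff_eq_zero_of_singular hM hg' ?_
    by_contra h
    have := Fintype.ofFinite G
    exact hx ⟨hxR, mem_of_regular_of_index hM hidx (x := x) (by
      rwa [← Subgroup.orderOf_coe] at h)⟩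
  · exact coeff_sIdem_of_not_mem g' hxR

theorem trunc_eq {R : Subgroup G} (hR : R ≤ N) :
    inclSub N (inclSub (Subgroup.centralizer ((R.subgroupOf N : Subgroup N) : Set N))
      (resSub (Subgroup.centralizer ((R.subgroupOf N : Subgroup N) : Set N))
        (blkIdem M c : MonoidAlgebra (kres M) N))) =
      inclSub (cen R) (resSub (cen R) (blkIdem M B : MonoidAlgebra (kres M) G)) := by
  ext x
  by_cases hxR : x ∈ cen R
  · rw [show x = ((⟨x, hxR⟩ : (cen R)) : G) from rfl, coeff_inclSub_of_mem, coeff_resSub,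
      coeff_blkIdem, hBc]
    by_cases hxN : x ∈ N
    · rw [show (((⟨x, hxR⟩ : (cen R)) : G)) = ((((cenInfIso N R hR).symm ⟨x, hxR, hxN⟩ :
        Subgroup.centralizer ((R.subgroupOf N : Subgroup N) : Set N)) : N) : G) from rfl,
        coeff_inclSub_of_mem, coeff_inclSub_of_mem, coeff_resSub, coeff_blkIdem,
        subgroupBlockCoeff, dif_pos (SetLike.coe_mem _)]
    · rw [coeff_inclSub_of_not_mem _ _ hxN, subgroupBlockCoeff, dif_neg hxN, redC_zero]
  · rw [coeff_inclSub_of_not_mem _ _ hxR]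
    by_cases hxN : x ∈ N
    · rw [show x = ((⟨x, hxN⟩ : N) : G) from rfl, coeff_inclSub_of_mem]
      exact coeff_inclSub_of_not_mem _ _ fun h => hxR ((cenInfIso N R hR) ⟨⟨x, hxN⟩, h⟩).2.1
    · exact coeff_inclSub_of_not_mem _ _ hxN

/-- Pairs of `c` and of `B` correspond under covering. -/
theorem pairOf_iff_covers {R : Subgroup G} (hR : R ≤ N) (hRp : IsPGroup p R)
    {g : Set (IrrCharacter ↥((cen R) ⊓ N))} (hg : IsPBlock M g)
    {g' : Set (IrrCharacter (cen R))} (hg' : IsPBlock M g')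
    (hcov : Covers M ((cen R) ⊓ N) (cen R) g g') :
    IsBrauerPairOf p M c (R.subgroupOf N) (blockMap (cenInfIso N R hR) g) ↔
      IsBrauerPairOf p M B R g' := by
  rw [isBrauerPairOf_iff_mul hM (show IsBrauerPair p M (R.subgroupOf N) _ from
      ⟨hRp.comap_subtype, isPBlock_blockMap (cenInfIso N R hR) hg⟩) hc,
    isBrauerPairOf_iff_mul hM ⟨hRp, hg'⟩ hB,
    ← (inclSub_injective (M := M) N).eq_iff, map_mul, inclSub_sIdem_cenInf hR g,
    trunc_eq hM hidx hc hB hBc hR]
  have hbc : IsClassCoeff (blkIdem M B : MonoidAlgebra (kres M) G) :=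
    isClassCoeff_center (blkIdem M B)
  refine covers_mul_iff hM inf_le_left (sIdem_cen_supported hM hidx hc hB hBc R) hg hg' hcov
    ?_ ?_ ?_
  · intro x hx
    by_cases hxR : x ∈ cen R
    · rw [show x = ((⟨x, hxR⟩ : (cen R)) : G) from rfl, coeff_inclSub_of_mem, coeff_resSub,
        coeff_blkIdem, hBc, subgroupBlockCoeff, dif_neg (show x ∉ N from fun h => hx ⟨hxR, h⟩), redC_zero]
    · exact coeff_inclSub_of_not_mem _ _ hxR
  · have hp := isPInv_of_isClassCoeff hbc R
    rw [← map_mul, ← resSub_mul hM hRp hp hp, ← MulMemClass.coe_mul, blkIdem_idem hM hB]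
  · intro u hu x
    exact inclSub_conj_invariant _ (resSub_isClassCoeff _ hbc) hu x

/-- **`c` is nilpotent when `B` is.** -/
theorem nilpotent_sub (hnil : IsNilpotentBlock p M B) : IsNilpotentBlock p M c := by
  refine ⟨hc, fun R₀ d hd t ht hst hreg => ?_⟩
  obtain ⟨R, hR, rfl⟩ := exists_subgroupOf_eq R₀
  set ψ := cenInfIso N R hR with hψ
  obtain ⟨g, hg, rfl⟩ : ∃ g, IsPBlock M g ∧ d = blockMap ψ g := by
    refine ⟨blockMap ψ.symm d, isPBlock_blockMap _ hd.1.2, Set.ext fun ξ => ?_⟩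
    rw [mem_blockMap_iff]
    exact ⟨fun hξ => ⟨ξ, hξ, rfl⟩, fun ⟨ξ', hξ', e⟩ => by rwa [← irrMap_injective ψ.symm e]⟩
  have hRp : IsPGroup p R := by
    have := hd.1.1.map N.subtype
    rwa [Subgroup.map_subgroupOf_eq_of_le hR] at this
  have hsupp := sIdem_cen_supported hM hidx hc hB hBc R
  obtain ⟨g', hg', hcov⟩ := exists_covers hM inf_le_left hsupp hg
  have hB' := (pairOf_iff_covers hM hidx hc hB hBc hR hRp hg hg' hcov).1 hd
  have htN : (t : G) ∈ Subgroup.normalizer (R : Set G) := by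
    rw [Subgroup.mem_normalizer_iff]
    intro r
    constructor
    · intro hr
      exact (Subgroup.mem_normalizer_iff.1 ht ⟨r, hR hr⟩).1 hr
    · intro hr
      have hrN : r ∈ N := by
        simpa [mul_assoc] using mul_mem (mul_mem (inv_mem t.2) (hR hr)) t.2
      exact (Subgroup.mem_normalizer_iff.1 ht ⟨r, hrN⟩).2 hr
  have htC : (t : G) ∈ Subgroup.normalizer ((cen R : Subgroup G) : Set G) :=
    normalizer_le_normalizer_centralizer hM R htN
  have hfix : conjGA (t : G) (sIdem M ((cen R) ⊓ N) g) = sIdem M ((cen R) ⊓ N) g := by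
    rw [← inclSub_sIdem_cenInf hR g, conjGA_inclSub_iff]
    exact (stabilizesBlock_iff_coeff hM hd.1.2 ht).1 hst
  have e : conjSet ⟨(t : G), htC⟩ g' = g' := by
    refine covers_unique hM hg (isPBlock_blockMap _ hg') hg' ?_ hcov
    have h := conjGA_mul (t : G) (sIdem M ((cen R) ⊓ N) g) (sIdem M (cen R) g')
    rw [show sIdem M ((cen R) ⊓ N) g * sIdem M (cen R) g' = sIdem M ((cen R) ⊓ N) g from hcov,
      hfix, conjGA_sIdem hM g' htC] at h
    exact h.symm
  have htc := hnil.2 R g' hB' t htN ((stabilizesBlock_iff hg' _).2 ⟨htC, e⟩)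
    (fun h => hreg (by rwa [Subgroup.orderOf_coe] at h))
  exact ((cenInfIso N R hR).symm ⟨(t : G), htc, t.2⟩).2

/-- **`B` is nilpotent when `c` is.** -/
theorem nilpotent_over (hnil : IsNilpotentBlock p M c) : IsNilpotentBlock p M B := by
  refine ⟨hB, fun Q f hQf x hx hst hreg => ?_⟩
  have := Fintype.ofFinite G
  have hxN : x ∈ N := mem_of_regular_of_index hM hidx hreg
  set R := Q ⊓ N with hRdef
  have hRQ : R ≤ Q := inf_le_left
  have hRN : R ≤ N := inf_le_right
  have hRp : IsPGroup p R := hQf.1.1.to_le hRQ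
  have hconjN : ∀ r ∈ N, x * r * x⁻¹ ∈ N := fun r hr => mul_mem (mul_mem hxN hr) (inv_mem hxN)
  have hxR : x ∈ Subgroup.normalizer (R : Set G) := by
    rw [Subgroup.mem_normalizer_iff]
    intro r
    refine and_congr (Subgroup.mem_normalizer_iff.1 hx r) ⟨hconjN r, fun h => ?_⟩
    simpa [mul_assoc] using mul_mem (mul_mem (inv_mem hxN) h) hxN
  obtain ⟨g', hg', hle⟩ := exists_subpair hM hQf.1 _ R hRQ rfl
  have hB' : IsBrauerPairOf p M B R g' :=
    (isBrauerPairOf_iff_of_le hM hQf.1 hle hB).1 hQf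
  have hxQ : x ∈ pairStab M Q f := ⟨hx, (stabilizesBlock_iff_coeff hM hQf.1.2 hx).1 hst⟩
  have hxg : x ∈ pairStab M R g' := by
    refine mem_pairStab_of_conjIdx hM ?_
    refine idx_eq_of_below hM hQf.1 (map_conj_of_mem_normalizer hxR) ?_ hle
    have h := subpairLE_conj hM hle x
    have e1 := conjIdx_eq_of_mem hM hQf.1.2 hxQ
    unfold SubpairLE at h ⊢
    rwa [← e1]
  have hfix' : conjGA x (sIdem M (cen R) g') = sIdem M (cen R) g' := by
    ext y
    rw [coeff_conjGA]
    exact hxg.2 y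
  set S := (cen R) ⊓ N with hSdef
  have hsupp := sIdem_cen_supported hM hidx hc hB hBc R
  have hxC : x ∈ Subgroup.normalizer ((cen R : Subgroup G) : Set G) :=
    normalizer_le_normalizer_centralizer hM R hxR
  have hKS : (cen R) ≤ Subgroup.normalizer (S : Set G) := fun a ha => by
    rw [Subgroup.mem_normalizer_iff]
    intro y
    show y ∈ (cen R) ∧ y ∈ N ↔ a * y * a⁻¹ ∈ (cen R) ∧ a * y * a⁻¹ ∈ N
    refine and_congr ⟨fun h => mul_mem (mul_mem ha h) (inv_mem ha), fun h => ?_⟩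
      ⟨fun h => Subgroup.Normal.conj_mem inferInstance y h a, fun h => ?_⟩
    · simpa [mul_assoc] using mul_mem (mul_mem (inv_mem ha) h) ha
    · simpa [mul_assoc] using Subgroup.Normal.conj_mem (inferInstance : N.Normal) _ h a⁻¹
  have hxS : x ∈ Subgroup.normalizer (S : Set G) := by
    rw [Subgroup.mem_normalizer_iff]
    intro y
    refine and_congr (Subgroup.mem_normalizer_iff.1 hxC y) ⟨hconjN y, fun h => ?_⟩
    simpa [mul_assoc] using mul_mem (mul_mem (inv_mem hxN) h) hxN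
  obtain ⟨g, hg, hcov⟩ := exists_covered hM inf_le_left hsupp hg'
  set e := sIdem M S g with he
  have hcovx : Covers M S (cen R) (conjSet ⟨x, hxS⟩ g) g' := by
    have h := conjGA_mul x (sIdem M S g) (sIdem M (cen R) g')
    rw [show sIdem M S g * sIdem M (cen R) g' = sIdem M S g from hcov, hfix',
      conjGA_sIdem hM g hxS] at h
    exact h.symm
  obtain ⟨a, ha, hae⟩ := exists_conjGA_eq hM inf_le_left hKS hsupp hg (isPBlock_blockMap _ hg) hg'
    hcov hcovx
  replace hae : conjGA a e = conjGA x e := hae.trans (conjGA_sIdem hM g hxS).symm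
  have hSfix : ∀ s ∈ S, ∀ b ∈ cen R, conjGA s (conjGA b e) = conjGA b e := fun s hs b hb => by
    rw [he, conjGA_sIdem hM g (hKS hb), conjGA_sIdem_of_mem _ hs]
  have hpow : ∀ n : ℕ, conjGA (x ^ n) e = conjGA (a ^ n) e := by
    intro n
    induction n with
    | zero => simp
    | succ n ih =>
      have hs : x * a ^ n * x⁻¹ * (a ^ n)⁻¹ ∈ S := by
        refine Subgroup.mem_inf.2 ⟨mul_mem ((Subgroup.mem_normalizer_iff.1 hxC _).1 (pow_mem ha n))
          (inv_mem (pow_mem ha n)), ?_⟩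
        have := mul_mem hxN ((inferInstance : N.Normal).conj_mem _ (inv_mem hxN) (a ^ n))
        simpa [mul_assoc] using this
      calc conjGA (x ^ (n + 1)) e = conjGA x (conjGA (x ^ n) e) := by
            rw [conjGA_conjGA, pow_succ']
        _ = conjGA (x * a ^ n * x⁻¹ * (a ^ n)⁻¹) (conjGA (a ^ n) (conjGA x e)) := by
            rw [ih]; simp only [conjGA_conjGA]; congr 1; group
        _ = conjGA (x * a ^ n * x⁻¹ * (a ^ n)⁻¹) (conjGA (a ^ (n + 1)) e) := by
            rw [← hae]; simp only [conjGA_conjGA, pow_succ, mul_assoc]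
        _ = _ := hSfix _ hs _ (pow_mem ha _)
  have h1 : a ^ orderOf x ∈ stabGA e := by
    show conjGA (a ^ orderOf x) e = e
    rw [← hpow, pow_orderOf_eq_one, conjGA_one]
  obtain ⟨k, hk⟩ := hidx
  have h2 : a ^ p ^ k ∈ stabGA e := by
    refine conjGA_sIdem_of_mem g ⟨pow_mem ha _, ?_⟩
    rw [← hk]
    exact Subgroup.pow_index_mem N a
  have ha' : a ∈ stabGA e := by
    have hco : Nat.Coprime (orderOf x) (p ^ k) :=
      ((hM.1.coprime_iff_not_dvd.2 hreg).pow_left k).symm
    have hb := Nat.gcd_eq_gcd_ab (orderOf x) (p ^ k)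
    rw [hco.gcd_eq_one, Nat.cast_one] at hb
    have := mul_mem ((stabGA e).zpow_mem h1 (Nat.gcdA (orderOf x) (p ^ k)))
      ((stabGA e).zpow_mem h2 (Nat.gcdB (orderOf x) (p ^ k)))
    rwa [← zpow_natCast a (orderOf x), ← zpow_mul, ← zpow_natCast a (p ^ k), ← zpow_mul,
      ← zpow_add, ← hb, zpow_one] at this
  have hxe : conjGA x e = e := hae.symm.trans ha'
  have hd := (pairOf_iff_covers hM ⟨k, hk⟩ hc hB hBc hRN hRp hg hg' hcov).2 hB'
  have htN : (⟨x, hxN⟩ : N) ∈ Subgroup.normalizer ((R.subgroupOf N : Subgroup N) : Set N) :=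
    Subgroup.mem_normalizer_iff.2 fun r => Subgroup.mem_normalizer_iff.1 hxR (r : G)
  have hstd : StabilizesBlock
      (Subgroup.centralizer ((R.subgroupOf N : Subgroup N) : Set N))
      (blockMap (cenInfIso N R hRN) g) (⟨x, hxN⟩ : N) := by
    rw [stabilizesBlock_iff_coeff hM hd.1.2 htN, ← conjGA_inclSub_iff, inclSub_sIdem_cenInf]
    exact hxe
  have hxc := hnil.2 _ _ hd ⟨x, hxN⟩ htN hstd
    (fun h => hreg (by rwa [← Subgroup.orderOf_coe] at h))
  have hxR' : x ∈ cen R := ((cenInfIso N R hRN) ⟨⟨x, hxN⟩, hxc⟩).2.1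
  rw [Subgroup.mem_centralizer_iff]
  intro q hq
  set r := x * q * x⁻¹ * q⁻¹ with hr
  have hrR : r ∈ R := by
    refine Subgroup.mem_inf.2
      ⟨mul_mem ((Subgroup.mem_normalizer_iff.1 hx q).1 hq) (inv_mem hq), ?_⟩
    have := mul_mem hxN ((inferInstance : N.Normal).conj_mem _ (inv_mem hxN) q)
    simpa [hr, mul_assoc] using this
  have hxr : x * r * x⁻¹ = r := by
    rw [← Subgroup.mem_centralizer_iff.1 hxR' r hrR, mul_inv_cancel_right]
  have hn : ∀ n : ℕ, x ^ n * q * (x ^ n)⁻¹ = r ^ n * q := by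
    intro n
    induction n with
    | zero => simp
    | succ n ih =>
      have hxrn : x * r ^ n * x⁻¹ = r ^ n := by rw [← conj_pow, hxr]
      calc x ^ (n + 1) * q * (x ^ (n + 1))⁻¹ = x * (x ^ n * q * (x ^ n)⁻¹) * x⁻¹ := by
            rw [pow_succ']; group
        _ = (x * r ^ n * x⁻¹) * (x * q * x⁻¹) := by rw [ih]; group
        _ = r ^ n * (r * q) := by
            have hxq : x * q * x⁻¹ = r * q := by rw [hr]; group
            rw [hxrn, hxq]
        _ = r ^ (n + 1) * q := by rw [pow_succ, mul_assoc (r ^ n) r q]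
  have h3 := hn (orderOf x)
  rw [pow_orderOf_eq_one, one_mul, inv_one, mul_one] at h3
  have h4 : orderOf r ∣ orderOf x := orderOf_dvd_of_pow_eq_one (mul_right_cancel (h3.symm.trans (one_mul q).symm))
  obtain ⟨j, hj⟩ := hQf.1.1 ⟨r, hRQ hrR⟩
  have h5 : orderOf r ∣ p ^ j := orderOf_dvd_of_pow_eq_one (congrArg Subtype.val hj)
  have hr1 : r = 1 := orderOf_eq_one_iff.1 (Nat.eq_one_of_dvd_coprimes
    (Nat.Coprime.pow_left j (hM.1.coprime_iff_not_dvd.2 hreg)) h5 h4)
  rw [hr, mul_inv_eq_one] at hr1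
  calc q * x = x * q * x⁻¹ * x := by rw [hr1]
    _ = x * q := by group

end CfsgLib.BlockA
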