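import Mathlib.GroupTheory.PGroup
import Mathlib.Algebra.Group.End
import Mathlib.Algebra.Order.BigOperators.Group.Finset
import Mathlib.Tactic.IntervalCases

/-!
A group of order nine of automorphisms of a group of order sixteen: the orbits have lengths
one, three, three and nine.
-/

set_option autoImplicit false
set_option linter.unusedSectionVars false

namespace CfsgLib.BlockA.NineAction

variable {P : Type*} [Group P]

/-- Lying in one orbit. -/
def Orb (E : Subgroup (MulAut P)) (a v : P) : Prop := ∃ φ ∈ E, φ a = v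

/-- The stabilizer. -/
def st (E : Subgroup (MulAut P)) (v : P) : Subgroup (MulAut P) where
  carrier := {φ | φ ∈ E ∧ φ v = v}
  one_mem' := ⟨one_mem E, rfl⟩
  mul_mem' := by
    rintro φ ψ ⟨h1, h2⟩ ⟨h3, h4⟩
    exact ⟨mul_mem h1 h3, by rw [MulAut.mul_apply, h4, h2]⟩
  inv_mem' := by
    rintro φ ⟨h1, h2⟩
    refine ⟨inv_mem h1, ?_⟩
    conv_lhs => rw [← h2]
    exact φ.symm_apply_apply v

theorem mem_st {E : Subgroup (MulAut P)} {v : P} {φ : MulAut P} :
    φ ∈ st E v ↔ φ ∈ E ∧ φ v = v := Iff.rfl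

theorem st_le (E : Subgroup (MulAut P)) (v : P) : st E v ≤ E := fun _ h => h.1

/-- The fixed subgroup. -/
def fixSub (F : Subgroup (MulAut P)) : Subgroup P where
  carrier := {v | ∀ φ ∈ F, φ v = v}
  one_mem' := fun φ _ => map_one φ
  mul_mem' := fun {x y} hx hy φ h => by rw [map_mul, hx φ h, hy φ h]
  inv_mem' := fun {x} hx φ h => by rw [map_inv, hx φ h]

theorem mem_fixSub {F : Subgroup (MulAut P)} {v : P} : v ∈ fixSub F ↔ ∀ φ ∈ F, φ v = v := Iff.rfl

theorem card_orb_mul [Finite P] (E : Subgroup (MulAut P)) (v : P) :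
    Nat.card {u // Orb E v u} * Nat.card (st E v) = Nat.card E := by
  classical
  have h := MulAction.index_stabilizer E v
  have h2 := Subgroup.card_mul_index (MulAction.stabilizer E v)
  have e1 : Nat.card (MulAction.stabilizer E v) = Nat.card (st E v) := by
    refine Nat.card_congr
      { toFun := fun φ => ⟨((φ : E) : MulAut P), (φ : E).2, φ.2⟩
        invFun := fun φ => ⟨⟨(φ : MulAut P), φ.2.1⟩, φ.2.2⟩
        left_inv := fun _ => rfl
        right_inv := fun _ => rfl }
  have e2 : (MulAction.orbit E v).ncard = Nat.card {u // Orb E v u} := by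
    rw [← Nat.card_coe_set_eq]
    refine Nat.card_congr (Equiv.subtypeEquivRight fun u => ?_)
    exact ⟨fun ⟨φ, hφ⟩ => ⟨φ, φ.2, hφ⟩, fun ⟨φ, hφ, hu⟩ => ⟨⟨φ, hφ⟩, hu⟩⟩
  rw [← e1, ← e2, ← h, mul_comm]
  exact h2

variable [Finite P] (hP : Nat.card P = 16) (E : Subgroup (MulAut P)) (hE : Nat.card E = 9)
include hP hE

theorem card_fix {F : Subgroup (MulAut P)} (hF : F ≤ E) (hne : F ≠ ⊥) :
    Nat.card (fixSub F) = 1 ∨ Nat.card (fixSub F) = 4 := by
  have : Fact (Nat.Prime 3) := ⟨Nat.prime_three⟩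
  have hp : IsPGroup 3 F := (IsPGroup.of_card (p := 3) (n := 2) (hE.trans (by norm_num))).to_le hF
  have h1 := hp.card_modEq_card_fixedPoints P
  have e : Nat.card (MulAction.fixedPoints F P) = Nat.card (fixSub F) :=
    Nat.card_congr (Equiv.subtypeEquivRight fun v =>
      ⟨fun h φ hφ => h ⟨φ, hφ⟩, fun h φ => h φ φ.2⟩)
  rw [e, hP] at h1
  have h2 := Subgroup.card_subgroup_dvd_card (fixSub F)
  rw [hP] at h2
  have h3 : Nat.card (fixSub F) ≠ 16 := by
    intro h
    refine hne ((Subgroup.eq_bot_iff_forall _).2 fun φ hφ => MulEquiv.ext fun v => ?_)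
    have htop := (Subgroup.card_eq_iff_eq_top (fixSub F)).1 (h.trans hP.symm)
    have hv : v ∈ fixSub F := htop ▸ Subgroup.mem_top v
    exact hv φ hφ
  have h4 := Nat.le_of_dvd (by norm_num) h2
  rw [Nat.ModEq] at h1
  generalize Nat.card (fixSub F) = d at h1 h2 h3 h4
  interval_cases d <;> omega

theorem card_st (v : P) : Nat.card (st E v) = 1 ∨ Nat.card (st E v) = 3 ∨ Nat.card (st E v) = 9 := by
  have h := Subgroup.card_dvd_of_le (st_le E v)
  rw [hE] at h
  have h' := Nat.le_of_dvd (by norm_num) h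
  generalize Nat.card (st E v) = d at h h'
  interval_cases d <;> omega

theorem orb_fixed {a v : P} (h : Orb E a v) : ∀ φ ∈ st E a, φ v = v := by
  obtain ⟨ψ, hψ, rfl⟩ := h
  intro φ hφ
  have : Fact (Nat.Prime 3) := ⟨Nat.prime_three⟩
  have hc : φ * ψ = ψ * φ := congrArg Subtype.val
    ((IsPGroup.isMulCommutative_of_card_eq_prime_sq (p := 3) (G := E)
      (hE.trans (by norm_num))).is_comm.comm ⟨φ, hφ.1⟩ ⟨ψ, hψ⟩)
  rw [← MulAut.mul_apply, hc, MulAut.mul_apply, hφ.2]

theorem exists_free : ∃ w : P, st E w = ⊥ := by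
  classical
  have := Fintype.ofFinite P
  have := Fintype.ofFinite E
  by_contra hne
  simp only [not_exists] at hne
  let T : Finset E := Finset.univ.erase 1
  let V : Finset P := Finset.univ.erase 1
  have hT : T.card = 8 := by
    rw [Finset.card_erase_of_mem (Finset.mem_univ _), Finset.card_univ, ← Nat.card_eq_fintype_card,
      hE]
  have hV : V.card = 15 := by
    rw [Finset.card_erase_of_mem (Finset.mem_univ _), Finset.card_univ, ← Nat.card_eq_fintype_card,
      hP]
  have h1 : 2 * 15 ≤ ∑ v ∈ V, (T.filter fun φ : E => (φ : MulAut P) v = v).card := by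
    rw [← hV, mul_comm, ← smul_eq_mul]
    refine Finset.card_nsmul_le_sum _ _ _ fun v _ => ?_
    have h3 : 3 ≤ Nat.card (st E v) := by
      rcases card_st hP E hE v with h | h | h
      · exact absurd (Subgroup.eq_bot_of_card_eq _ h) (hne v)
      all_goals omega
    have h4 : Nat.card (st E v) ≤
        (insert (1 : E) (T.filter fun φ : E => (φ : MulAut P) v = v)).card := by
      rw [← Nat.card_eq_finsetCard]
      refine Nat.card_le_card_of_injective (fun φ => ⟨⟨φ.1, φ.2.1⟩, ?_⟩) fun φ ψ h =>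
        Subtype.ext (congrArg (fun x => ((x.1 : E) : MulAut P)) h)
      by_cases h0 : (⟨φ.1, φ.2.1⟩ : E) = 1
      · exact Finset.mem_insert.2 (Or.inl h0)
      · exact Finset.mem_insert_of_mem
          (Finset.mem_filter.2 ⟨Finset.mem_erase.2 ⟨h0, Finset.mem_univ _⟩, φ.2.2⟩)
    rw [Finset.card_insert_of_notMem (by simp [T])] at h4
    omega
  have h2 : ∑ φ ∈ T, (V.filter fun v => (φ : MulAut P) v = v).card ≤ 8 * 3 := by
    rw [← hT, ← smul_eq_mul]
    refine Finset.sum_le_card_nsmul _ _ _ fun φ hφ => ?_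
    have hφ1 : (φ : MulAut P) ≠ 1 := fun h => (Finset.mem_erase.1 hφ).1 (Subtype.ext h)
    have hle := card_fix hP E hE ((Subgroup.zpowers_le).2 φ.2)
      (fun h => hφ1 (Subgroup.zpowers_eq_bot.1 h))
    have h4 : (insert (1 : P) (V.filter fun v => (φ : MulAut P) v = v)).card ≤
        Nat.card (fixSub (Subgroup.zpowers (φ : MulAut P))) := by
      rw [← Nat.card_eq_finsetCard]
      refine Nat.card_le_card_of_injective (fun v => ⟨v.1, ?_⟩) fun u v h => by
        have e := congrArg Subtype.val h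
        exact Subtype.ext e
      have hv : (φ : MulAut P) v.1 = v.1 := by
        rcases Finset.mem_insert.1 v.2 with h | h
        · rw [h, map_one]
        · exact (Finset.mem_filter.1 h).2
      intro ψ hψ
      have hle' : Subgroup.zpowers (φ : MulAut P) ≤ MulAction.stabilizer (MulAut P) v.1 :=
        Subgroup.zpowers_le.2 (MulAction.mem_stabilizer_iff.2 hv)
      exact hle' hψ
    rw [Finset.card_insert_of_notMem (by simp [V])] at h4
    omega
  have h3 : ∑ v ∈ V, (T.filter fun φ : E => (φ : MulAut P) v = v).card =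
      ∑ φ ∈ T, (V.filter fun v => (φ : MulAut P) v = v).card := by
    simp only [Finset.card_filter]
    exact Finset.sum_comm
  omega

/-- **The orbits.** -/
theorem orbits : ∃ a b w : P, Nat.card (st E a) = 3 ∧ Nat.card (st E b) = 3 ∧ st E w = ⊥ ∧
    ¬ Orb E a b ∧ (∀ v, v = 1 ∨ Orb E a v ∨ Orb E b v ∨ Orb E w v) ∧
    (∀ v, (∀ φ ∈ st E a, φ v = v) ↔ v = 1 ∨ Orb E a v) ∧
    (∀ v, (∀ φ ∈ st E b, φ v = v) ↔ v = 1 ∨ Orb E b v) := by
  classical
  have := Fintype.ofFinite P
  obtain ⟨w, hw⟩ := exists_free hP E hE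
  let O : P → Finset P := fun v => Finset.univ.filter fun u => Orb E v u
  have mO : ∀ v u, u ∈ O v ↔ Orb E v u := fun v u => by simp [O]
  have hO : ∀ v, (O v).card * Nat.card (st E v) = 9 := fun v => by
    rw [← hE, ← card_orb_mul E v, Nat.card_eq_fintype_card (α := {u // Orb E v u}),
      Fintype.card_subtype]
  have hdis : ∀ u v, ¬ Orb E v u → Disjoint (O u) (O v) := by
    intro u v h
    refine Finset.disjoint_left.2 fun x hu hv => h ?_
    obtain ⟨φ, hφ, h1⟩ := (mO _ _).1 hu
    obtain ⟨ψ, hψ, h2⟩ := (mO _ _).1 hv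
    exact ⟨φ⁻¹ * ψ, mul_mem (inv_mem hφ) hψ, by
      rw [MulAut.mul_apply, h2, ← h1]; exact φ.symm_apply_apply u⟩
  have h1O : ∀ v, v ≠ 1 → (1 : P) ∉ O v := by
    intro v hv h
    obtain ⟨φ, -, hφ⟩ := (mO _ _).1 h
    exact hv (φ.injective (hφ.trans (map_one φ).symm))
  have hw9 : (O w).card = 9 := by
    have := hO w
    rwa [hw, Subgroup.card_bot, mul_one] at this
  have hw1 : w ≠ 1 := by
    rintro rfl
    have hE' : E = ⊥ := le_bot_iff.1 (hw ▸ fun φ hφ => ⟨hφ, map_one φ⟩)
    rw [hE', Subgroup.card_bot] at hE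
    omega
  set R := Finset.univ \ insert (1 : P) (O w) with hRdef
  have hR : R.card = 6 := by
    rw [hRdef, Finset.card_sdiff_of_subset (Finset.subset_univ _),
      Finset.card_insert_of_notMem (h1O w hw1), hw9, Finset.card_univ,
      ← Nat.card_eq_fintype_card, hP]
  have mR : ∀ v, v ∈ R ↔ v ≠ 1 ∧ ¬ Orb E w v := fun v => by simp [hRdef, mO]
  have hnf : ∀ v ∈ R, Nat.card (st E v) ≠ 1 := by
    intro v hv h
    obtain ⟨hv1, hvw⟩ := (mR v).1 hv
    have h9 := hO v
    rw [h, mul_one] at h9
    have hsub : insert (1 : P) (O v ∪ O w) ⊆ Finset.univ := Finset.subset_univ _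
    have h16 := Finset.card_le_card hsub
    rw [Finset.card_insert_of_notMem (by simp [h1O v hv1, h1O w hw1]),
      Finset.card_union_of_disjoint (hdis v w hvw), h9, hw9, Finset.card_univ,
      ← Nat.card_eq_fintype_card, hP] at h16
    omega
  have hstne : ∀ v ∈ R, st E v ≠ ⊥ := fun v hv h => hnf v hv (by rw [h, Subgroup.card_bot])
  have hfix : ∀ (F : Subgroup (MulAut P)) (S : Finset P), F ≤ E → F ≠ ⊥ →
      (∀ x ∈ S, ∀ φ ∈ F, φ x = x) → S.card ≤ 4 := by
    intro F S h1 h2 h3
    have h4 : S.card ≤ Nat.card (fixSub F) := by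
      rw [← Nat.card_eq_finsetCard]
      exact Nat.card_le_card_of_injective (fun x => ⟨x.1, h3 x.1 x.2⟩) fun u v h => by
        have e := congrArg Subtype.val h
        exact Subtype.ext e
    rcases card_fix hP E hE h1 h2 with h | h <;> omega
  have h3 : ∀ v ∈ R, Nat.card (st E v) = 3 := by
    intro v0 hv0
    rcases card_st hP E hE v0 with h | h | h
    · exact absurd h (hnf v0 hv0)
    · exact h
    exfalso
    have hall : ∀ φ ∈ E, φ v0 = v0 := by
      intro φ hφ
      have : st E v0 = E := Subgroup.eq_of_le_of_card_ge (st_le E v0) (by rw [h, hE])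
      exact (this.ge hφ).2
    have hsix : ∀ u ∈ R, ∀ φ ∈ E, φ u = u := by
      intro u hu
      rcases card_st hP E hE u with h' | h' | h'
      · exact absurd h' (hnf u hu)
      · exfalso
        have h5 := hfix (st E u) (insert 1 (insert v0 (O u))) (st_le E u) (hstne u hu) (by
          intro x hx φ hφ
          rcases Finset.mem_insert.1 hx with rfl | hx
          · exact map_one φ
          rcases Finset.mem_insert.1 hx with rfl | hx
          · exact hall φ hφ.1
          · exact orb_fixed hP E hE ((mO _ _).1 hx) φ hφ)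
        have hv0u : v0 ∉ O u := by
          intro hm
          obtain ⟨ψ, hψ, e⟩ := (mO _ _).1 hm
          have e2 : u = v0 := ψ.injective (e.trans (hall ψ hψ).symm)
          rw [e2, h] at h'
          omega
        rw [Finset.card_insert_of_notMem (by
            simp [(mR v0).1 hv0 |>.1.symm, h1O u ((mR u).1 hu).1]),
          Finset.card_insert_of_notMem hv0u] at h5
        have := hO u
        rw [h'] at this
        omega
      · intro φ hφ
        have : st E u = E := Subgroup.eq_of_le_of_card_ge (st_le E u) (by rw [h', hE])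
        exact (this.ge hφ).2
    have h6 := hfix E R le_rfl (fun h0 => by rw [h0, Subgroup.card_bot] at hE; omega) hsix
    omega
  have hOR : ∀ v ∈ R, O v ⊆ R := by
    intro v hv x hx
    obtain ⟨hv1, hvw⟩ := (mR v).1 hv
    refine (mR x).2 ⟨fun e => h1O v hv1 (e ▸ hx), fun hxw => ?_⟩
    exact Finset.disjoint_left.1 (hdis v w hvw) hx ((mO w x).2 hxw)
  have hO3 : ∀ v ∈ R, (O v).card = 3 := fun v hv => by
    have := hO v
    rw [h3 v hv] at this
    omega
  obtain ⟨a, ha⟩ := Finset.card_pos.1 (show 0 < R.card by omega)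
  obtain ⟨b, hb⟩ := Finset.card_pos.1 (show 0 < (R \ O a).card by
    rw [Finset.card_sdiff_of_subset (hOR a ha), hO3 a ha, hR]; omega)
  obtain ⟨hb, hba⟩ := Finset.mem_sdiff.1 hb
  have hab : ¬ Orb E a b := fun h => hba ((mO _ _).2 h)
  have hfixiff : ∀ x ∈ R, ∀ v, (∀ φ ∈ st E x, φ v = v) ↔ v = 1 ∨ Orb E x v := by
    intro x hx v
    constructor
    · intro h
      by_contra hne
      simp only [not_or] at hne
      have h5 := hfix (st E x) (insert v (insert 1 (O x))) (st_le E x) (hstne x hx) (by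
        intro y hy φ hφ
        rcases Finset.mem_insert.1 hy with rfl | hy
        · exact h φ hφ
        rcases Finset.mem_insert.1 hy with rfl | hy
        · exact map_one φ
        · exact orb_fixed hP E hE ((mO _ _).1 hy) φ hφ)
      rw [Finset.card_insert_of_notMem (by simp [hne.1, mO, hne.2]),
        Finset.card_insert_of_notMem (h1O x ((mR x).1 hx).1), hO3 x hx] at h5
      omega
    · rintro (rfl | h) φ hφ
      · exact map_one φ
      · exact orb_fixed hP E hE h φ hφ
  refine ⟨a, b, w, h3 a ha, h3 b hb, hw, hab, fun v => ?_, hfixiff a ha, hfixiff b hb⟩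
  by_cases hv1 : v = 1
  · exact Or.inl hv1
  by_cases hvw : Orb E w v
  · exact Or.inr (Or.inr (Or.inr hvw))
  have hv : v ∈ R := (mR v).2 ⟨hv1, hvw⟩
  have heq : O b ∪ O a = R := by
    refine Finset.eq_of_subset_of_card_le (Finset.union_subset (hOR b hb) (hOR a ha)) ?_
    rw [Finset.card_union_of_disjoint (hdis b a hab), hO3 a ha, hO3 b hb, hR]
  rw [← heq, Finset.mem_union, mO, mO] at hv
  tauto

end CfsgLib.BlockA.NineAction
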