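import Mathlib.Algebra.Order.BigOperators.Ring.Finset
import Mathlib.Data.Fintype.Sets
import Mathlib.Data.Fintype.BigOperators
import Mathlib.Tactic.IntervalCases
import Mathlib.Tactic.Linarith
import Mathlib.Tactic.LinearCombination

/-!
Two commuting integral square roots of the contribution matrix for an elementary group of order
sixteen: at least nine rows force sixteen rows.
-/

set_option autoImplicit false
set_option linter.unusedSectionVars false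
set_option linter.unusedVariables false
set_option maxHeartbeats 1000000

namespace CfsgLib.BlockA.NineRows

variable {ι : Type*} [Fintype ι] [DecidableEq ι]

/-- The data. -/
structure Rows (Q Q' : ι → ι → ℤ) (o : ι) (a : ι → ℤ) : Prop where
  symm : ∀ i j, Q i j = Q j i
  symm' : ∀ i j, Q' i j = Q' j i
  sq : ∀ i j, ∑ k, Q i k * Q k j = 4 * Q i j
  sq' : ∀ i j, ∑ k, Q' i k * Q' k j = 4 * Q' i j
  mix : ∀ i j, ∑ k, Q i k * Q' k j = a i * a j
  ao : a o = 1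
  qo : Q o o = 1
  qo' : Q' o o = 1
  pos : ∀ i, 1 ≤ a i
  w1 : ∀ i, 4 * Q i i + 4 * Q' i i < 16 + a i ^ 2
  card : 9 ≤ Fintype.card ι

variable {Q Q' : ι → ι → ℤ} {o : ι} {a : ι → ℤ}

theorem Rows.swap (h : Rows Q Q' o a) : Rows Q' Q o a where
  symm := h.symm'
  symm' := h.symm
  sq := h.sq'
  sq' := h.sq
  mix i j := by
    rw [mul_comm (a i), ← h.mix j i]
    exact Finset.sum_congr rfl fun k _ => by rw [h.symm' i k, h.symm k j, mul_comm]
  ao := h.ao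
  qo := h.qo'
  qo' := h.qo
  pos := h.pos
  w1 i := by have := h.w1 i; omega
  card := h.card

theorem Rows.eig (h : Rows Q Q' o a) (i : ι) : ∑ k, Q i k * a k = 4 * a i := by
  have h1 : ∑ k, Q i k * (∑ l, Q k l * Q' l o) = ∑ l, (∑ k, Q i k * Q k l) * Q' l o := by
    simp only [Finset.mul_sum, Finset.sum_mul]
    rw [Finset.sum_comm]
    exact Finset.sum_congr rfl fun _ _ => Finset.sum_congr rfl fun _ _ => by ring
  simp only [h.mix, h.sq, h.ao, mul_one, mul_assoc, ← Finset.mul_sum] at h1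
  exact h1

theorem Rows.sumsq (h : Rows Q Q' o a) : ∑ k, a k ^ 2 = 16 := by
  have h1 : ∑ k, (∑ l, Q o l * Q' l k) * a k = ∑ l, Q o l * (∑ k, Q' l k * a k) := by
    simp only [Finset.mul_sum, Finset.sum_mul]
    rw [Finset.sum_comm]
    exact Finset.sum_congr rfl fun _ _ => Finset.sum_congr rfl fun _ _ => by ring
  simp only [h.mix, h.swap.eig, h.ao, one_mul] at h1
  simp only [pow_two]
  rw [h1]
  have h2 := h.eig o
  rw [h.ao] at h2
  calc ∑ l, Q o l * (4 * a l) = 4 * ∑ l, Q o l * a l := by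
        rw [Finset.mul_sum]
        exact Finset.sum_congr rfl fun l _ => by ring
    _ = 16 := by rw [h2]; norm_num

/-- The bound from the projection with entries `4 * Q - a * a`. -/
theorem Rows.cauchy (h : Rows Q Q' o a) (i : ι) :
    (4 * Q o i - a i) ^ 2 ≤ 3 * (4 * Q i i - a i ^ 2) := by
  set N : ι → ι → ℤ := fun x y => 4 * Q x y - a x * a y with hN
  have hsq : ∀ x y, ∑ k, N x k * N k y = 16 * N x y := by
    intro x y
    have e : ∀ k, N x k * N k y = 16 * (Q x k * Q k y) - 4 * a y * (Q x k * a k) -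
        4 * a x * (Q y k * a k) + a x * a y * a k ^ 2 := fun k => by
      simp only [hN, h.symm k y]
      ring
    rw [Finset.sum_congr rfl fun k _ => e k, Finset.sum_add_distrib, Finset.sum_sub_distrib,
      Finset.sum_sub_distrib, ← Finset.mul_sum, ← Finset.mul_sum, ← Finset.mul_sum, ← Finset.mul_sum,
      h.sq, h.eig, h.eig, h.sumsq]
    simp only [hN]
    ring
  have hs : ∀ x y, N x y = N y x := fun x y => by simp only [hN, h.symm x y]; ring
  have h1 := Finset.sum_mul_sq_le_sq_mul_sq Finset.univ (fun k => N o k) (fun k => N k i)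
  rw [hsq] at h1
  have e1 : ∑ k, N o k ^ 2 = 16 * N o o := by
    rw [← hsq]
    exact Finset.sum_congr rfl fun k _ => by rw [hs k o, pow_two]
  have e2 : ∑ k, N k i ^ 2 = 16 * N i i := by
    rw [← hsq]
    exact Finset.sum_congr rfl fun k _ => by rw [hs i k, pow_two]
  rw [e1, e2] at h1
  simp only [hN, h.qo, h.ao, one_mul, mul_one] at h1
  nlinarith

/-- The positions of the first row. -/
def supp (Q : ι → ι → ℤ) (o : ι) : Finset ι :=
  Finset.univ.filter fun i => i ≠ o ∧ Q o i ≠ 0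

theorem mem_supp {i : ι} : i ∈ supp Q o ↔ i ≠ o ∧ Q o i ≠ 0 := by simp [supp]

theorem Rows.abs_one (h : Rows Q Q' o a) {i : ι} (hi : i ∈ supp Q o) :
    Q o i = 1 ∨ Q o i = -1 := by
  obtain ⟨hio, hne⟩ := mem_supp.1 hi
  have h1 : Q o o ^ 2 + Q o i ^ 2 ≤ 4 := by
    calc Q o o ^ 2 + Q o i ^ 2 = ∑ k ∈ {o, i}, Q o k ^ 2 := (Finset.sum_pair (f := fun k => Q o k ^ 2) hio.symm).symm
      _ ≤ ∑ k, Q o k ^ 2 := Finset.sum_le_univ_sum_of_nonneg fun k => sq_nonneg _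
      _ = 4 := by
        calc ∑ k, Q o k ^ 2 = ∑ k, Q o k * Q k o :=
              Finset.sum_congr rfl fun k _ => by rw [h.symm k o, pow_two]
          _ = 4 := by rw [h.sq, h.qo]; norm_num
  rw [h.qo] at h1
  have : -1 ≤ Q o i ∧ Q o i ≤ 1 := by constructor <;> nlinarith
  omega

theorem sum_supp {f : ι → ℤ} (hf : ∀ i, i ≠ o → Q o i = 0 → f i = 0) :
    ∑ i, f i = f o + ∑ i ∈ supp Q o, f i := by
  rw [← Finset.add_sum_erase _ _ (Finset.mem_univ o)]
  congr 1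
  refine (Finset.sum_subset (fun i hi => ?_) fun i hi hi' => ?_).symm
  · exact Finset.mem_erase.2 ⟨(mem_supp.1 hi).1, Finset.mem_univ _⟩
  · exact hf i (Finset.mem_erase.1 hi).1 (by
      by_contra hne
      exact hi' (mem_supp.2 ⟨(Finset.mem_erase.1 hi).1, hne⟩))

theorem Rows.card_supp (h : Rows Q Q' o a) : (supp Q o).card = 3 := by
  have h1 := h.sq o o
  rw [sum_supp (Q := Q) (o := o) (fun i _ hi => by simp [hi]), h.qo] at h1
  rw [Finset.sum_congr rfl (g := fun _ => (1 : ℤ)) fun i hi => ?_, Finset.sum_const,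
    nsmul_eq_mul, mul_one] at h1
  · omega
  · rw [h.symm i o]
    rcases h.abs_one hi with e | e <;> rw [e] <;> norm_num

theorem Rows.sum_weight (h : Rows Q Q' o a) : ∑ i ∈ supp Q o, Q o i * a i = 3 := by
  have h1 := h.eig o
  rw [sum_supp (Q := Q) (o := o) (fun i _ hi => by simp [hi]), h.qo, h.ao] at h1
  linarith

theorem Rows.orth (h : Rows Q Q' o a) : ∑ i ∈ supp Q o, Q o i * Q' o i = 0 := by
  have h1 := h.mix o o
  rw [sum_supp (Q := Q) (o := o) (fun i _ hi => by simp [hi]), h.qo, h.qo', h.ao] at h1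
  rw [Finset.sum_congr rfl fun i _ => by rw [h.symm' o i]]
  linarith

/-- The overlap forces many squares. -/
theorem overlap_bound (u v s t : ℤ) (hu : u ≠ 0) (hv : v ≠ 0) (hs : s ≠ 0) (ht : t ≠ 0)
    (h1 : u + v + s = 3) (h2 : u - v + t = 3) : 12 ≤ u ^ 2 + v ^ 2 + s ^ 2 + t ^ 2 := by
  by_contra h
  have : -3 ≤ u ∧ u ≤ 3 ∧ -3 ≤ v ∧ v ≤ 3 := by
    refine ⟨?_, ?_, ?_, ?_⟩ <;> nlinarith
  obtain ⟨a1, a2, a3, a4⟩ := this
  obtain rfl : s = 3 - u - v := by omega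
  obtain rfl : t = 3 - u + v := by omega
  interval_cases u <;> interval_cases v <;> omega

theorem Rows.disjoint (h : Rows Q Q' o a) : Disjoint (supp Q o) (supp Q' o) := by
  rw [Finset.disjoint_iff_inter_eq_empty]
  obtain ⟨I, hI⟩ : ∃ I, I = supp Q o ∩ supp Q' o := ⟨_, rfl⟩
  rw [← hI]
  have hIl : I ⊆ supp Q o := hI ▸ Finset.inter_subset_left
  have hIr : I ⊆ supp Q' o := hI ▸ Finset.inter_subset_right
  have hval : ∀ i ∈ I, Q o i * Q' o i = 1 ∨ Q o i * Q' o i = -1 := by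
    intro i hi
    rcases h.abs_one (hIl hi) with e | e <;> rcases h.swap.abs_one (hIr hi) with e' | e' <;>
      rw [e, e'] <;> norm_num
  have hsum : ∑ i ∈ I, Q o i * Q' o i = 0 := by
    rw [Finset.sum_subset hIl, h.orth]
    intro i hi hi'
    have : Q' o i = 0 := by
      by_contra hne
      exact hi' (hI ▸ Finset.mem_inter.2 ⟨hi, mem_supp.2 ⟨(mem_supp.1 hi).1, hne⟩⟩)
    rw [this, mul_zero]
  have hle : I.card ≤ 3 := h.card_supp ▸ Finset.card_le_card hIl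
  rcases (by omega : I.card = 0 ∨ I.card = 1 ∨ I.card = 2 ∨ I.card = 3) with hc | hc | hc | hc
  · exact Finset.card_eq_zero.1 hc
  · obtain ⟨u, hu⟩ := Finset.card_eq_one.1 hc
    have := hval u (by simp [hu])
    rw [hu, Finset.sum_singleton] at hsum
    omega
  · exfalso
    obtain ⟨u, v, huv, huvI⟩ := Finset.card_eq_two.1 hc
    have hu : u ∈ I := by simp [huvI]
    have hv : v ∈ I := by simp [huvI]
    have hs1 : (supp Q o \ I).card = 1 := by
      rw [Finset.card_sdiff_of_subset hIl, h.card_supp, hc]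
    have ht1 : (supp Q' o \ I).card = 1 := by
      rw [Finset.card_sdiff_of_subset hIr, h.swap.card_supp, hc]
    obtain ⟨s, hs⟩ := Finset.card_eq_one.1 hs1
    obtain ⟨t, ht⟩ := Finset.card_eq_one.1 ht1
    have hsm : s ∈ supp Q o ∧ s ∉ I := Finset.mem_sdiff.1 (hs ▸ Finset.mem_singleton_self s)
    have htm : t ∈ supp Q' o ∧ t ∉ I := Finset.mem_sdiff.1 (ht ▸ Finset.mem_singleton_self t)
    have hst : s ≠ t := fun e => hsm.2 (hI ▸ Finset.mem_inter.2 ⟨hsm.1, e ▸ htm.1⟩)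
    have w1 := h.sum_weight
    rw [← Finset.sum_sdiff hIl, hs, Finset.sum_singleton,
      huvI, Finset.sum_pair huv] at w1
    have w2 := h.swap.sum_weight
    rw [← Finset.sum_sdiff hIr, ht, Finset.sum_singleton,
      huvI, Finset.sum_pair huv] at w2
    rw [huvI, Finset.sum_pair huv] at hsum
    have hAu := h.abs_one (hIl hu)
    have hBu := h.swap.abs_one (hIr hu)
    have hAv := h.abs_one (hIl hv)
    have hBv := h.swap.abs_one (hIr hv)
    have hAs := h.abs_one hsm.1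
    have hBt := h.swap.abs_one htm.1
    have hpu := h.pos u
    have hpv := h.pos v
    have hps := h.pos s
    have hpt := h.pos t
    have hsq : ∀ e : ℤ, e = 1 ∨ e = -1 → e * e = 1 := by rintro e (rfl | rfl) <;> norm_num
    have hne : ∀ (e : ℤ) (k : ι), e = 1 ∨ e = -1 → e * a k ≠ 0 := fun e k he => by
      have := h.pos k
      rcases he with rfl | rfl <;> omega
    have hQu : Q' o u * a u = Q o u * Q' o u * (Q o u * a u) := by
      linear_combination (-(Q' o u * a u)) * hsq _ hAu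
    have hQv : Q' o v * a v = Q o v * Q' o v * (Q o v * a v) := by
      linear_combination (-(Q' o v * a v)) * hsq _ hAv
    have hev : Q o v * Q' o v = -(Q o u * Q' o u) := by linarith
    rw [hQu, hQv, hev] at w2
    have hbound : 12 ≤ a u ^ 2 + a v ^ 2 + a s ^ 2 + a t ^ 2 := by
      have hsqr : ∀ (e : ℤ) (k : ι), e = 1 ∨ e = -1 → (e * a k) ^ 2 = a k ^ 2 := fun e k he => by
        rcases he with rfl | rfl <;> ring
      rw [← hsqr _ u hAu, ← hsqr _ v hAv, ← hsqr _ s hAs, ← hsqr _ t hBt]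
      rcases hval u hu with e | e <;> rw [e] at w2
      · exact overlap_bound _ _ _ _ (hne _ u hAu) (hne _ v hAv) (hne _ s hAs) (hne _ t hBt)
          (by linarith) (by linarith)
      · have := overlap_bound (Q o v * a v) (Q o u * a u) _ _ (hne _ v hAv) (hne _ u hAu)
          (hne _ s hAs) (hne _ t hBt) (by linarith) (by linarith)
        linarith
    have hmem : ({u, v, s, t} : Finset ι) ⊆ Finset.univ.erase o := by
      intro i hi
      simp only [Finset.mem_insert, Finset.mem_singleton] at hi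
      refine Finset.mem_erase.2 ⟨?_, Finset.mem_univ _⟩
      rcases hi with rfl | rfl | rfl | rfl
      · exact (mem_supp.1 (hIl hu)).1
      · exact (mem_supp.1 (hIl hv)).1
      · exact (mem_supp.1 hsm.1).1
      · exact (mem_supp.1 htm.1).1
    have hus : u ≠ s := fun e => hsm.2 (e ▸ hu)
    have hvs : v ≠ s := fun e => hsm.2 (e ▸ hv)
    have hut : u ≠ t := fun e => htm.2 (e ▸ hu)
    have hvt : v ≠ t := fun e => htm.2 (e ▸ hv)
    have htot := h.sumsq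
    rw [← Finset.add_sum_erase _ _ (Finset.mem_univ o), h.ao, ← Finset.sum_sdiff hmem] at htot
    have h4 : ∑ i ∈ ({u, v, s, t} : Finset ι), a i ^ 2 = a u ^ 2 + a v ^ 2 + a s ^ 2 + a t ^ 2 := by
      rw [Finset.sum_insert (by simp [huv, hus, hut]), Finset.sum_insert (by simp [hvs, hvt]),
        Finset.sum_pair hst]
      ring
    have hrest := Finset.card_nsmul_le_sum ((Finset.univ.erase o) \ {u, v, s, t})
      (fun i => a i ^ 2) 1 fun i _ => one_le_pow₀ (h.pos i)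
    have hcard : ({u, v, s, t} : Finset ι).card = 4 := by
      simp [Finset.card_insert_of_notMem, huv, hus, hut, hvs, hvt, hst]
    rw [Finset.card_sdiff_of_subset hmem, Finset.card_erase_of_mem (Finset.mem_univ _),
      Finset.card_univ, hcard, nsmul_eq_mul, mul_one] at hrest
    have := h.card
    omega
  · obtain ⟨u, v, s, huv, hus, hvs, hI'⟩ := Finset.card_eq_three.1 hc
    have h1 := hval u (by simp [hI'])
    have h2 := hval v (by simp [hI'])
    have h3 := hval s (by simp [hI'])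
    rw [hI', Finset.sum_insert (by simp [huv, hus]), Finset.sum_pair hvs] at hsum
    omega

/-- Three nonzero numbers with sum three. -/
theorem three_weights (x y z : ℤ) (hx : x ≠ 0) (hy : y ≠ 0) (hz : z ≠ 0) (h : x + y + z = 3) :
    (x = 1 ∧ y = 1 ∧ z = 1) ∨ (x = -1 ∧ y = 2 ∧ z = 2) ∨ (x = 2 ∧ y = -1 ∧ z = 2) ∨
      (x = 2 ∧ y = 2 ∧ z = -1) ∨ 11 ≤ x ^ 2 + y ^ 2 + z ^ 2 := by
  by_contra hne
  have : -3 ≤ x ∧ x ≤ 3 ∧ -3 ≤ y ∧ y ≤ 3 := by
    simp only [not_or] at hne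
    refine ⟨?_, ?_, ?_, ?_⟩ <;> nlinarith [hne.2.2.2.2]
  obtain ⟨a1, a2, a3, a4⟩ := this
  obtain rfl : z = 3 - x - y := by omega
  interval_cases x <;> interval_cases y <;> omega

/-- The counts outside the first three positions. -/
theorem count_false' {nx ny nz dxy dxz dyz T N p q r r0 r1 r2 r3 r4 r5 r6 r7 r8 : ℤ}
    (ex : p + q + r0 + r1 + r3 + r6 + r7 + r8 = nx) (ey : p + r + r0 + r2 + r4 + r6 + r7 + r8 = ny)
    (ez : q + r + r1 + r2 + r5 + r6 + r7 + r8 = nz) (exy : -p + r0 - r6 - r7 + r8 = dxy)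
    (exz : -q + r1 - r6 + r7 - r8 = dxz) (eyz : -r + r2 + r6 - r7 - r8 = dyz)
    (hopt : (p = 0 ∧ q = 0 ∧ r = 0) ∨ (p = 2 ∧ q = 0 ∧ r = 0) ∨ (p = 0 ∧ q = 2 ∧ r = 0) ∨
      (p = 0 ∧ q = 0 ∧ r = 2) ∨ (p = 1 ∧ q = 1 ∧ r = 1))
    (r0nn : 0 ≤ r0) (r1nn : 0 ≤ r1) (r2nn : 0 ≤ r2) (r3nn : 0 ≤ r3) (r4nn : 0 ≤ r4)
    (r5nn : 0 ≤ r5) (r6nn : 0 ≤ r6) (r7nn : 0 ≤ r7) (r8nn : 0 ≤ r8)
    (eT : 4 * r0 + 4 * r1 + 4 * r2 + r3 + r4 + r5 + r6 + r7 + r8 = T)
    (hR : r0 + r1 + r2 + r3 + r4 + r5 + r6 + r7 + r8 = N) (hN : 2 ≤ N)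
    (hcase : (nx = 3 ∧ ny = 3 ∧ nz = 3 ∧ dxy = 0 ∧ dxz = 0 ∧ dyz = 0 ∧ T = 9 ∧ N ≠ 9) ∨
      (nx = 1 ∧ ny = 3 ∧ nz = 3 ∧ dxy = 1 ∧ dxz = 1 ∧ dyz = -1 ∧ T = 9 ∧ N ≠ 9) ∨
      (nx = 1 ∧ ny = 2 ∧ nz = 2 ∧ dxy = 0 ∧ dxz = 0 ∧ dyz = -1 ∧ T = 3)) : False := by
  rcases hcase with ⟨rfl, rfl, rfl, rfl, rfl, rfl, rfl, hN9⟩ | ⟨rfl, rfl, rfl, rfl, rfl, rfl, rfl, hN9⟩ |
    ⟨rfl, rfl, rfl, rfl, rfl, rfl, rfl⟩ <;>
    rcases hopt with ⟨rfl, rfl, rfl⟩ | ⟨rfl, rfl, rfl⟩ | ⟨rfl, rfl, rfl⟩ | ⟨rfl, rfl, rfl⟩ |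
      ⟨rfl, rfl, rfl⟩
  all_goals
    have b6 : r6 ≤ 1 := by omega
    have b7 : r7 ≤ 1 := by omega
    rcases (show r6 = 0 ∨ r6 = 1 by omega) with rfl | rfl <;>
      rcases (show r7 = 0 ∨ r7 = 1 by omega) with rfl | rfl <;> omega

/-- The possible pairings on the first three positions. -/
theorem sa_options {s0 s1 s2 s3 s4 s5 s6 : ℤ} (hA : s0 + s1 + s2 + s3 + s4 + s5 + s6 = 3)
    (hx0 : s1 + (-1) * s2 + s3 + (-1) * s4 = 0) (hy0 : (-1) * s1 + s2 + s5 + (-1) * s6 = 0)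
    (hz0 : (-1) * s3 + s4 + (-1) * s5 + s6 = 0) (n0 : 0 ≤ s0) (n1 : 0 ≤ s1) (n2 : 0 ≤ s2)
    (n3 : 0 ≤ s3) (n4 : 0 ≤ s4) (n5 : 0 ≤ s5) (n6 : 0 ≤ s6) :
    let p := s1 + s2; let q := s3 + s4; let r := s5 + s6
    (p = 0 ∧ q = 0 ∧ r = 0) ∨ (p = 2 ∧ q = 0 ∧ r = 0) ∨ (p = 0 ∧ q = 2 ∧ r = 0) ∨
      (p = 0 ∧ q = 0 ∧ r = 2) ∨ (p = 1 ∧ q = 1 ∧ r = 1) := by
  intro p q r
  have e1 : p + q = 2 * (s1 + s3) := by simp only [p, q]; omega
  have e2 : p + r = 2 * (s2 + s5) := by simp only [p, r]; omega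
  have h : 0 ≤ p ∧ p ≤ 3 ∧ 0 ≤ q ∧ q ≤ 3 ∧ 0 ≤ r ∧ r ≤ 3 ∧ p + q + r ≤ 3 := by
    simp only [p, q, r]; omega
  obtain ⟨h1, h2, h3, h4, h5, h6, h7⟩ := h
  generalize s1 + s3 = u at e1
  generalize s2 + s5 = v at e2
  clear_value p q r
  interval_cases p <;> interval_cases q <;> omega

/-- The counts of the columns. -/
theorem count_false {nx ny nz dxy dxz dyz T N s0 s1 s2 s3 s4 s5 s6 r0 r1 r2 r3 r4 r5 r6 r7 r8 : ℤ}
    (hA : s0 + s1 + s2 + s3 + s4 + s5 + s6 = 3)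
    (hx0 : s1 + (-1) * s2 + s3 + (-1) * s4 = 0)
    (hy0 : (-1) * s1 + s2 + s5 + (-1) * s6 = 0)
    (hz0 : (-1) * s3 + s4 + (-1) * s5 + s6 = 0)
    (enx : s1 + s2 + s3 + s4 + r0 + r1 + r3 + r6 + r7 + r8 = nx)
    (eny : s1 + s2 + s5 + s6 + r0 + r2 + r4 + r6 + r7 + r8 = ny)
    (enz : s3 + s4 + s5 + s6 + r1 + r2 + r5 + r6 + r7 + r8 = nz)
    (edxy : (-1) * s1 + (-1) * s2 + r0 + (-1) * r6 + (-1) * r7 + r8 = dxy)
    (edxz : (-1) * s3 + (-1) * s4 + r1 + (-1) * r6 + r7 + (-1) * r8 = dxz)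
    (edyz : (-1) * s5 + (-1) * s6 + r2 + r6 + (-1) * r7 + (-1) * r8 = dyz)
    (eT : (4) * r0 + (4) * r1 + (4) * r2 + r3 + r4 + r5 + r6 + r7 + r8 = T)
    (hR : r0 + r1 + r2 + r3 + r4 + r5 + r6 + r7 + r8 = N)
    (hN : 2 ≤ N)
    (s0nn : 0 ≤ s0)
    (s1nn : 0 ≤ s1)
    (s2nn : 0 ≤ s2)
    (s3nn : 0 ≤ s3)
    (s4nn : 0 ≤ s4)
    (s5nn : 0 ≤ s5)
    (s6nn : 0 ≤ s6)
    (r0nn : 0 ≤ r0)
    (r1nn : 0 ≤ r1)
    (r2nn : 0 ≤ r2)
    (r3nn : 0 ≤ r3)
    (r4nn : 0 ≤ r4)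
    (r5nn : 0 ≤ r5)
    (r6nn : 0 ≤ r6)
    (r7nn : 0 ≤ r7)
    (r8nn : 0 ≤ r8)
    (hcase : (nx = 3 ∧ ny = 3 ∧ nz = 3 ∧ dxy = 0 ∧ dxz = 0 ∧ dyz = 0 ∧ T = 9 ∧ N ≠ 9) ∨
      (nx = 1 ∧ ny = 3 ∧ nz = 3 ∧ dxy = 1 ∧ dxz = 1 ∧ dyz = -1 ∧ T = 9 ∧ N ≠ 9) ∨
      (nx = 1 ∧ ny = 2 ∧ nz = 2 ∧ dxy = 0 ∧ dxz = 0 ∧ dyz = -1 ∧ T = 3)) : False := by
  refine count_false' (p := s1 + s2) (q := s3 + s4) (r := s5 + s6) (N := N) (nx := nx) (ny := ny)
    (nz := nz) (dxy := dxy) (dxz := dxz) (dyz := dyz) (T := T)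
    (r0 := r0) (r1 := r1) (r2 := r2) (r3 := r3) (r4 := r4) (r5 := r5) (r6 := r6) (r7 := r7) (r8 := r8)
    (by linarith) (by linarith) (by linarith) (by linarith) (by linarith) (by linarith)
    (sa_options hA hx0 hy0 hz0 s0nn s1nn s2nn s3nn s4nn s5nn s6nn)
    r0nn r1nn r2nn r3nn r4nn r5nn r6nn r7nn r8nn (by linarith) (by linarith) hN hcase

theorem fibre_sum {α : Type*} [DecidableEq α] {S : Finset ι} {P : Finset α} (t : ι → α)
    (h : ∀ i ∈ S, t i ∈ P) (f : α → ℤ) :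
    ∑ i ∈ S, f (t i) = ∑ q ∈ P, ((S.filter fun i => t i = q).card : ℤ) * f q := by
  rw [← Finset.sum_fiberwise_of_maps_to h]
  refine Finset.sum_congr rfl fun q _ => ?_
  rw [Finset.sum_congr rfl (g := fun _ => f q) fun i hi => by rw [(Finset.mem_filter.1 hi).2],
    Finset.sum_const, nsmul_eq_mul]

/-- The columns of three rows cannot have these products. -/
theorem no_columns (SA R : Finset ι) (a x y z : ι → ℤ) (hcard : SA.card = 3)
    (hx : ∀ j ∈ SA ∪ R, -1 ≤ x j ∧ x j ≤ 1) (hy : ∀ j ∈ SA ∪ R, -1 ≤ y j ∧ y j ≤ 1)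
    (hz : ∀ j ∈ SA ∪ R, -1 ≤ z j ∧ z j ≤ 1)
    (hA : ∀ j ∈ SA, x j + y j + z j = 0) (hR : ∀ j ∈ R, x j + y j + z j = a j)
    (ha : ∀ j ∈ R, 1 ≤ a j) (hx0 : ∑ j ∈ SA, x j = 0) (hy0 : ∑ j ∈ SA, y j = 0)
    (hz0 : ∑ j ∈ SA, z j = 0) (hR2 : 2 ≤ R.card) {nx ny nz dxy dxz dyz T : ℤ}
    (ex : ∑ j ∈ SA, x j * x j + ∑ j ∈ R, x j * x j = nx)
    (ey : ∑ j ∈ SA, y j * y j + ∑ j ∈ R, y j * y j = ny)
    (ez : ∑ j ∈ SA, z j * z j + ∑ j ∈ R, z j * z j = nz)
    (exy : ∑ j ∈ SA, x j * y j + ∑ j ∈ R, x j * y j = dxy)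
    (exz : ∑ j ∈ SA, x j * z j + ∑ j ∈ R, x j * z j = dxz)
    (eyz : ∑ j ∈ SA, y j * z j + ∑ j ∈ R, y j * z j = dyz)
    (eT : ∑ j ∈ R, a j ^ 2 = T) :
    ¬ ((nx = 3 ∧ ny = 3 ∧ nz = 3 ∧ dxy = 0 ∧ dxz = 0 ∧ dyz = 0 ∧ T = 9 ∧ R.card ≠ 9) ∨
      (nx = 1 ∧ ny = 3 ∧ nz = 3 ∧ dxy = 1 ∧ dxz = 1 ∧ dyz = -1 ∧ T = 9 ∧ R.card ≠ 9) ∨
      (nx = 1 ∧ ny = 2 ∧ nz = 2 ∧ dxy = 0 ∧ dxz = 0 ∧ dyz = -1 ∧ T = 3)) := by
  intro hcase
  let t : ι → ℤ × ℤ × ℤ := fun j => (x j, y j, z j)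
  have hasq : ∀ j ∈ R, a j ≤ 2 := by
    intro j hj
    rw [← Finset.add_sum_erase _ _ hj] at eT
    have h1 := Finset.card_nsmul_le_sum (R.erase j) (fun i => a i ^ 2) 1 fun i hi =>
      one_le_pow₀ (ha i (Finset.mem_of_mem_erase hi))
    rw [Finset.card_erase_of_mem hj, nsmul_eq_mul, mul_one] at h1
    by_contra h3
    have h9 : 9 ≤ a j ^ 2 := by nlinarith
    omega
  let PR : Finset (ℤ × ℤ × ℤ) := {(1, 1, 0), (1, 0, 1), (0, 1, 1), (1, 0, 0), (0, 1, 0),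
    (0, 0, 1), (-1, 1, 1), (1, -1, 1), (1, 1, -1)}
  let PA : Finset (ℤ × ℤ × ℤ) := {(0, 0, 0), (1, -1, 0), (-1, 1, 0), (1, 0, -1), (-1, 0, 1),
    (0, 1, -1), (0, -1, 1)}
  have htR : ∀ j ∈ R, t j ∈ PR := by
    intro j hj
    have hj' := Finset.mem_union_right SA hj
    obtain ⟨x1, x2⟩ := hx j hj'
    obtain ⟨y1, y2⟩ := hy j hj'
    obtain ⟨z1, z2⟩ := hz j hj'
    have := hR j hj
    have := ha j hj
    have := hasq j hj
    simp only [PR, t, Finset.mem_insert, Finset.mem_singleton, Prod.mk.injEq]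
    omega
  have htA : ∀ j ∈ SA, t j ∈ PA := by
    intro j hj
    have hj' := Finset.mem_union_left R hj
    obtain ⟨x1, x2⟩ := hx j hj'
    obtain ⟨y1, y2⟩ := hy j hj'
    obtain ⟨z1, z2⟩ := hz j hj'
    have := hA j hj
    simp only [PA, t, Finset.mem_insert, Finset.mem_singleton, Prod.mk.injEq]
    omega
  have hcR := fibre_sum t htR (fun _ => (1 : ℤ))
  have hcA := fibre_sum t htA (fun _ => (1 : ℤ))
  have eT' : ∑ j ∈ R, (fun q : ℤ × ℤ × ℤ => (q.1 + q.2.1 + q.2.2) * (q.1 + q.2.1 + q.2.2))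
      (t j) = T := by
    rw [← eT]
    exact Finset.sum_congr rfl fun j hj => by simp only [t, hR j hj, pow_two]
  rw [fibre_sum t htR (fun q : ℤ × ℤ × ℤ => (q.1 + q.2.1 + q.2.2) * (q.1 + q.2.1 + q.2.2))] at eT'
  rw [show ∑ j ∈ SA, x j = _ from fibre_sum t htA (fun q => q.1)] at hx0
  rw [show ∑ j ∈ SA, y j = _ from fibre_sum t htA (fun q => q.2.1)] at hy0
  rw [show ∑ j ∈ SA, z j = _ from fibre_sum t htA (fun q => q.2.2)] at hz0
  rw [show ∑ j ∈ SA, x j * x j = _ from fibre_sum t htA (fun q => q.1 * q.1),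
    show ∑ j ∈ R, x j * x j = _ from fibre_sum t htR (fun q => q.1 * q.1)] at ex
  rw [show ∑ j ∈ SA, y j * y j = _ from fibre_sum t htA (fun q => q.2.1 * q.2.1),
    show ∑ j ∈ R, y j * y j = _ from fibre_sum t htR (fun q => q.2.1 * q.2.1)] at ey
  rw [show ∑ j ∈ SA, z j * z j = _ from fibre_sum t htA (fun q => q.2.2 * q.2.2),
    show ∑ j ∈ R, z j * z j = _ from fibre_sum t htR (fun q => q.2.2 * q.2.2)] at ez
  rw [show ∑ j ∈ SA, x j * y j = _ from fibre_sum t htA (fun q => q.1 * q.2.1),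
    show ∑ j ∈ R, x j * y j = _ from fibre_sum t htR (fun q => q.1 * q.2.1)] at exy
  rw [show ∑ j ∈ SA, x j * z j = _ from fibre_sum t htA (fun q => q.1 * q.2.2),
    show ∑ j ∈ R, x j * z j = _ from fibre_sum t htR (fun q => q.1 * q.2.2)] at exz
  rw [show ∑ j ∈ SA, y j * z j = _ from fibre_sum t htA (fun q => q.2.1 * q.2.2),
    show ∑ j ∈ R, y j * z j = _ from fibre_sum t htR (fun q => q.2.1 * q.2.2)] at eyz
  have hexpR : ∀ f : ℤ × ℤ × ℤ → ℤ, ∑ q ∈ PR, f q = f (1, 1, 0) + f (1, 0, 1) + f (0, 1, 1) +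
      f (1, 0, 0) + f (0, 1, 0) + f (0, 0, 1) + f (-1, 1, 1) + f (1, -1, 1) + f (1, 1, -1) := fun f => by
    simp [PR, Finset.sum_insert, add_assoc]
  have hexpA : ∀ f : ℤ × ℤ × ℤ → ℤ, ∑ q ∈ PA, f q = f (0, 0, 0) + f (1, -1, 0) + f (-1, 1, 0) +
      f (1, 0, -1) + f (-1, 0, 1) + f (0, 1, -1) + f (0, -1, 1) := fun f => by
    simp [PA, Finset.sum_insert, add_assoc]
  simp only [hexpR, hexpA, Finset.sum_const, nsmul_eq_mul, mul_one, hcard, Nat.cast_ofNat]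
    at hcR eT' hcA hx0 hy0 hz0 ex ey ez exy exz eyz
  refine count_false (N := (R.card : ℤ)) (T := T) (nx := nx) (ny := ny) (nz := nz) (dxy := dxy)
    (dxz := dxz) (dyz := dyz)
    (s0 := ((SA.filter fun i => t i = (0, 0, 0)).card : ℤ))
    (s1 := ((SA.filter fun i => t i = (1, -1, 0)).card : ℤ))
    (s2 := ((SA.filter fun i => t i = (-1, 1, 0)).card : ℤ))
    (s3 := ((SA.filter fun i => t i = (1, 0, -1)).card : ℤ))
    (s4 := ((SA.filter fun i => t i = (-1, 0, 1)).card : ℤ))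
    (s5 := ((SA.filter fun i => t i = (0, 1, -1)).card : ℤ))
    (s6 := ((SA.filter fun i => t i = (0, -1, 1)).card : ℤ))
    (r0 := ((R.filter fun i => t i = (1, 1, 0)).card : ℤ))
    (r1 := ((R.filter fun i => t i = (1, 0, 1)).card : ℤ))
    (r2 := ((R.filter fun i => t i = (0, 1, 1)).card : ℤ))
    (r3 := ((R.filter fun i => t i = (1, 0, 0)).card : ℤ))
    (r4 := ((R.filter fun i => t i = (0, 1, 0)).card : ℤ))
    (r5 := ((R.filter fun i => t i = (0, 0, 1)).card : ℤ))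
    (r6 := ((R.filter fun i => t i = (-1, 1, 1)).card : ℤ))
    (r7 := ((R.filter fun i => t i = (1, -1, 1)).card : ℤ))
    (r8 := ((R.filter fun i => t i = (1, 1, -1)).card : ℤ))
    ?_ ?_ ?_ ?_ ?_ ?_ ?_ ?_ ?_ ?_ ?_ ?_ (by exact_mod_cast hR2)
    ?_ ?_ ?_ ?_ ?_ ?_ ?_ ?_ ?_ ?_ ?_ ?_ ?_ ?_ ?_ ?_ ?_
  all_goals first
    | exact Int.natCast_nonneg _
    | linarith
    | (rcases hcase with hc | hc | hc
       · exact Or.inl ⟨hc.1, hc.2.1, hc.2.2.1, hc.2.2.2.1, hc.2.2.2.2.1, hc.2.2.2.2.2.1,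
           hc.2.2.2.2.2.2.1, by exact_mod_cast hc.2.2.2.2.2.2.2⟩
       · exact Or.inr (Or.inl ⟨hc.1, hc.2.1, hc.2.2.1, hc.2.2.2.1, hc.2.2.2.2.1, hc.2.2.2.2.2.1,
           hc.2.2.2.2.2.2.1, by exact_mod_cast hc.2.2.2.2.2.2.2⟩)
       · exact Or.inr (Or.inr hc))

/-- The remaining positions. -/
def rest (Q Q' : ι → ι → ℤ) (o : ι) : Finset ι := Finset.univ \ ({o} ∪ supp Q o ∪ supp Q' o)

theorem Rows.sum_split (h : Rows Q Q' o a) (f : ι → ℤ) :
    ∑ i, f i = f o + ∑ i ∈ supp Q o, f i + ∑ i ∈ supp Q' o, f i + ∑ i ∈ rest Q Q' o, f i := by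
  rw [← Finset.sum_sdiff (Finset.subset_univ ({o} ∪ supp Q o ∪ supp Q' o)),
    Finset.sum_union (Finset.disjoint_union_left.2 ⟨?_, h.disjoint⟩), Finset.sum_union ?_,
    Finset.sum_singleton, add_comm]
  · rfl
  · simp [mem_supp]
  · simp [mem_supp]

theorem Rows.card_rest (h : Rows Q Q' o a) : (rest Q Q' o).card + 7 = Fintype.card ι := by
  have h1 := h.sum_split fun _ => 1
  simp only [Finset.sum_const, nsmul_eq_mul, mul_one, h.card_supp, h.swap.card_supp,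
    Finset.card_univ] at h1
  omega

theorem mem_rest {i : ι} (hi : i ∈ rest Q Q' o) : i ≠ o ∧ Q o i = 0 ∧ Q' o i = 0 := by
  simp only [rest, Finset.mem_sdiff, Finset.mem_univ, true_and, Finset.mem_union,
    Finset.mem_singleton, mem_supp, not_or, not_and, not_not] at hi
  exact ⟨hi.1.1, hi.1.2 hi.1.1, hi.2 hi.1.1⟩

theorem Rows.off_first (h : Rows Q Q' o a) {i : ι} (hi : i ∈ supp Q' o) : Q o i = 0 := by
  by_contra hne
  exact Finset.disjoint_left.1 h.disjoint (mem_supp.2 ⟨(mem_supp.1 hi).1, hne⟩) hi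

/-- The rows at the second three positions. -/
theorem Rows.inner (h : Rows Q Q' o a) {η η' : ι} (hη : η ∈ supp Q' o) :
    ∑ j ∈ supp Q o, Q η j * Q η' j + ∑ j ∈ rest Q Q' o, Q η j * Q η' j =
      4 * Q η η' - ∑ j ∈ supp Q' o, Q η j * Q η' j := by
  have h1 := h.sq η η'
  simp only [fun k => h.symm k η'] at h1
  rw [h.sum_split, h.symm η o, h.off_first hη] at h1
  rw [h.symm η η']
  linarith

/-- The columns at the second three positions. -/
theorem Rows.column (h : Rows Q Q' o a) (j : ι) :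
    ∑ η ∈ supp Q' o, Q' o η * Q η j = a j - Q o j := by
  have h1 := h.swap.mix o j
  rw [sum_supp (Q := Q') (o := o) (fun i _ hi => by simp [hi]), h.qo', h.ao] at h1
  linarith

theorem Rows.first_sum (h : Rows Q Q' o a) (h1 : ∀ i ∈ supp Q o, Q o i = 1) {η : ι}
    (hη : η ∈ supp Q' o) : ∑ j ∈ supp Q o, Q η j = 0 := by
  have h2 := h.sq o η
  rw [sum_supp (Q := Q) (o := o) (fun i _ hi => by simp [hi]), h.off_first hη] at h2
  rw [← Finset.sum_congr rfl fun j hj => show Q o j * Q j η = Q η j by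
    rw [h1 j hj, one_mul, h.symm]]
  linarith

theorem row_options (q e e' : ℤ) (h : q + e + e' = 1) (h2 : 0 ≤ 4 * q - (q * q + e * e + e' * e')) :
    (q = 1 ∧ e = 0 ∧ e' = 0) ∨ (q = 1 ∧ e = 1 ∧ e' = -1) ∨ (q = 1 ∧ e = -1 ∧ e' = 1) ∨
      (q = 2 ∧ e = 0 ∧ e' = -1) ∨ (q = 2 ∧ e = -1 ∧ e' = 0) ∨ (q = 3 ∧ e = -1 ∧ e' = -1) := by
  have : 0 ≤ q ∧ q ≤ 4 ∧ -2 ≤ e ∧ e ≤ 2 := by
    refine ⟨?_, ?_, ?_, ?_⟩ <;> nlinarith
  obtain ⟨a1, a2, a3, a4⟩ := this
  obtain rfl : e' = 1 - q - e := by omega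
  interval_cases q <;> interval_cases e <;> omega

theorem abs_le_one_of_sum {S T : Finset ι} {f : ι → ℤ} {n : ℤ}
    (h : ∑ j ∈ S, f j * f j + ∑ j ∈ T, f j * f j = n) (hn : n ≤ 3) {j : ι} (hj : j ∈ S ∪ T) :
    -1 ≤ f j ∧ f j ≤ 1 := by
  have h1 := Finset.sum_nonneg (s := S) fun i _ => mul_self_nonneg (f i)
  have h2 := Finset.sum_nonneg (s := T) fun i _ => mul_self_nonneg (f i)
  have h3 : f j * f j ≤ 3 := by
    rcases Finset.mem_union.1 hj with hj | hj <;>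
    · have := Finset.single_le_sum (fun i _ => mul_self_nonneg (f i)) hj
      linarith
  constructor <;> nlinarith

/-- The second three positions all carry one. -/
theorem Rows.case_ones (h : Rows Q Q' o a) (hA : ∀ i ∈ supp Q o, Q o i = 1 ∧ a i = 1)
    {u v w : ι} (hS : supp Q' o = {u, v, w}) (huv : u ≠ v) (huw : u ≠ w) (hvw : v ≠ w)
    (hB : ∀ i ∈ supp Q' o, Q' o i = 1 ∧ a i = 1) : Fintype.card ι = 16 := by
  have hu : u ∈ supp Q' o := by simp [hS]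
  have hv : v ∈ supp Q' o := by simp [hS]
  have hw : w ∈ supp Q' o := by simp [hS]
  have hsum : ∀ f : ι → ℤ, ∑ i ∈ supp Q' o, f i = f u + f v + f w := fun f => by
    rw [hS, Finset.sum_insert (by simp [huv, huw]), Finset.sum_pair hvw, add_assoc]
  have htot := h.sumsq
  rw [h.sum_split, h.ao, hsum, Finset.sum_congr rfl (g := fun _ => (1 : ℤ))
    (s₁ := supp Q o) (fun i hi => by rw [(hA i hi).2]; norm_num), (hB u hu).2, (hB v hv).2,
    (hB w hw).2, Finset.sum_const, h.card_supp] at htot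
  have hT : ∑ i ∈ rest Q Q' o, a i ^ 2 = 9 := by
    norm_num at htot
    linarith
  by_contra hne
  have hk := h.card_rest
  have hk9 := h.card
  have hR9 : (rest Q Q' o).card ≠ 9 := by omega
  have hcol : ∀ j, Q u j + Q v j + Q w j = a j - Q o j := fun j => by
    rw [← h.column j, hsum, (hB u hu).1, (hB v hv).1, (hB w hw).1, one_mul, one_mul, one_mul]
  have hin : ∀ (η η' : ι), η ∈ supp Q' o →
      ∑ j ∈ supp Q o, Q η j * Q η' j + ∑ j ∈ rest Q Q' o, Q η j * Q η' j =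
        4 * Q η η' - (Q η u * Q η' u + Q η v * Q η' v + Q η w * Q η' w) := fun η η' hη => by
    rw [h.inner hη, hsum]
  have ruu := hcol u
  have rvv := hcol v
  have rww := hcol w
  rw [h.off_first hu, (hB u hu).2, h.symm v u, h.symm w u] at ruu
  rw [h.off_first hv, (hB v hv).2, h.symm w v] at rvv
  rw [h.off_first hw, (hB w hw).2] at rww
  have ex := hin u u hu
  have ey := hin v v hv
  have ez := hin w w hw
  have exy := hin u v hu
  have exz := hin u w hu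
  have eyz := hin v w hv
  rw [h.symm v u] at ey exy
  rw [h.symm w u, h.symm w v] at ez
  rw [h.symm v u, h.symm w u, h.symm w v] at eyz
  rw [h.symm w u, h.symm w v] at exz
  have hnn : ∀ η, 0 ≤ ∑ j ∈ supp Q o, Q η j * Q η j + ∑ j ∈ rest Q Q' o, Q η j * Q η j :=
    fun η => add_nonneg (Finset.sum_nonneg fun i _ => mul_self_nonneg _)
      (Finset.sum_nonneg fun i _ => mul_self_nonneg _)
  have hbig : 5 ≤ (∑ j ∈ supp Q o, Q u j * Q u j + ∑ j ∈ rest Q Q' o, Q u j * Q u j) +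
      (∑ j ∈ supp Q o, Q v j * Q v j + ∑ j ∈ rest Q Q' o, Q v j * Q v j) +
      (∑ j ∈ supp Q o, Q w j * Q w j + ∑ j ∈ rest Q Q' o, Q w j * Q w j) := by
    have h1 : ∑ j ∈ rest Q Q' o, (a j ^ 2 + 2) ≤ ∑ j ∈ rest Q Q' o,
        3 * (Q u j * Q u j + Q v j * Q v j + Q w j * Q w j) := by
      refine Finset.sum_le_sum fun j hj => ?_
      have h3 := hcol j
      rw [(mem_rest hj).2.1, sub_zero] at h3
      have h4 := h.pos j
      have h5 : a j ≤ Q u j * Q u j + Q v j * Q v j + Q w j * Q w j := by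
        nlinarith [Int.le_self_sq (Q u j), Int.le_self_sq (Q v j), Int.le_self_sq (Q w j)]
      have h6 : a j ^ 2 + 2 ≤ 3 * a j := by
        have h7 : a j ≤ 2 := by
          by_contra h8
          have h9 := Finset.add_sum_erase _ (fun i => a i ^ 2) hj
          simp only [hT] at h9
          have h10 := Finset.card_nsmul_le_sum ((rest Q Q' o).erase j) (fun i => a i ^ 2) 1
            fun i _ => one_le_pow₀ (h.pos i)
          rw [Finset.card_erase_of_mem hj, nsmul_eq_mul, mul_one] at h10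
          have : 9 ≤ a j ^ 2 := by nlinarith
          omega
        interval_cases (a j) <;> norm_num
      linarith
    rw [Finset.sum_add_distrib, hT, Finset.sum_const, nsmul_eq_mul, ← Finset.mul_sum,
      Finset.sum_add_distrib, Finset.sum_add_distrib] at h1
    have hp : ∀ η, 0 ≤ ∑ j ∈ supp Q o, Q η j * Q η j := fun η =>
      Finset.sum_nonneg fun i _ => mul_self_nonneg _
    have := hp u
    have := hp v
    have := hp w
    omega
  have ox := row_options (Q u u) (Q u v) (Q u w) (by linarith) (by have := hnn u; linarith)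
  have oy := row_options (Q v v) (Q u v) (Q v w) (by linarith) (by have := hnn v; linarith)
  have oz := row_options (Q w w) (Q u w) (Q v w) (by linarith) (by have := hnn w; linarith)
  have fin : ∀ (x y z : ι) (nx ny nz dxy dxz dyz : ℤ), x ∈ supp Q' o → y ∈ supp Q' o →
      z ∈ supp Q' o → (∀ j, Q x j + Q y j + Q z j = a j - Q o j) →
      ∑ j ∈ supp Q o, Q x j * Q x j + ∑ j ∈ rest Q Q' o, Q x j * Q x j = nx →
      ∑ j ∈ supp Q o, Q y j * Q y j + ∑ j ∈ rest Q Q' o, Q y j * Q y j = ny →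
      ∑ j ∈ supp Q o, Q z j * Q z j + ∑ j ∈ rest Q Q' o, Q z j * Q z j = nz →
      ∑ j ∈ supp Q o, Q x j * Q y j + ∑ j ∈ rest Q Q' o, Q x j * Q y j = dxy →
      ∑ j ∈ supp Q o, Q x j * Q z j + ∑ j ∈ rest Q Q' o, Q x j * Q z j = dxz →
      ∑ j ∈ supp Q o, Q y j * Q z j + ∑ j ∈ rest Q Q' o, Q y j * Q z j = dyz →
      ((nx = 3 ∧ ny = 3 ∧ nz = 3 ∧ dxy = 0 ∧ dxz = 0 ∧ dyz = 0) ∨
        (nx = 1 ∧ ny = 3 ∧ nz = 3 ∧ dxy = 1 ∧ dxz = 1 ∧ dyz = -1)) → False := by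
    intro x y z nx ny nz dxy dxz dyz hx hy hz hc e1 e2 e3 e4 e5 e6 hd
    refine no_columns (supp Q o) (rest Q Q' o) a (Q x) (Q y) (Q z) h.card_supp
      (fun j hj => abs_le_one_of_sum e1 (by omega) hj) (fun j hj => abs_le_one_of_sum e2 (by omega) hj)
      (fun j hj => abs_le_one_of_sum e3 (by omega) hj)
      (fun j hj => by rw [hc j, (hA j hj).1, (hA j hj).2, sub_self])
      (fun j hj => by rw [hc j, (mem_rest hj).2.1, sub_zero]) (fun j _ => h.pos j)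
      (h.first_sum (fun i hi => (hA i hi).1) hx) (h.first_sum (fun i hi => (hA i hi).1) hy)
      (h.first_sum (fun i hi => (hA i hi).1) hz) (by omega) e1 e2 e3 e4 e5 e6 hT ?_
    rcases hd with hd | hd
    · exact Or.inl ⟨hd.1, hd.2.1, hd.2.2.1, hd.2.2.2.1, hd.2.2.2.2.1, hd.2.2.2.2.2, rfl, hR9⟩
    · exact Or.inr (Or.inl ⟨hd.1, hd.2.1, hd.2.2.1, hd.2.2.2.1, hd.2.2.2.2.1, hd.2.2.2.2.2, rfl, hR9⟩)
  have c1 : ∀ j, Q v j + Q u j + Q w j = a j - Q o j := fun j => by rw [← hcol j]; ring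
  have c2 : ∀ j, Q w j + Q u j + Q v j = a j - Q o j := fun j => by rw [← hcol j]; ring
  have eyx := exy
  have ezx := exz
  have ezy := eyz
  simp only [fun j => mul_comm (Q u j) (Q v j)] at eyx
  simp only [fun j => mul_comm (Q u j) (Q w j)] at ezx
  simp only [fun j => mul_comm (Q v j) (Q w j)] at ezy
  rcases ox with ⟨x1, x2, x3⟩ | ⟨x1, x2, x3⟩ | ⟨x1, x2, x3⟩ | ⟨x1, x2, x3⟩ | ⟨x1, x2, x3⟩ |
      ⟨x1, x2, x3⟩ <;>
    rcases oy with ⟨y1, y2, y3⟩ | ⟨y1, y2, y3⟩ | ⟨y1, y2, y3⟩ | ⟨y1, y2, y3⟩ | ⟨y1, y2, y3⟩ |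
      ⟨y1, y2, y3⟩ <;>
    (try omega) <;>
    rcases oz with ⟨z1, z2, z3⟩ | ⟨z1, z2, z3⟩ | ⟨z1, z2, z3⟩ | ⟨z1, z2, z3⟩ | ⟨z1, z2, z3⟩ |
      ⟨z1, z2, z3⟩ <;>
    (try omega) <;>
    simp only [x1, x2, x3, y1, y3, z1] at ex ey ez exy exz eyz eyx ezx ezy <;>
    norm_num at ex ey ez exy exz eyz eyx ezx ezy <;>
    first
      | omega
      | (refine fin u v w _ _ _ _ _ _ hu hv hw hcol ex ey ez exy exz eyz ?_; norm_num; done)
      | (refine fin v u w _ _ _ _ _ _ hv hu hw c1 ey ex ez eyx eyz exz ?_; norm_num; done)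
      | (refine fin w u v _ _ _ _ _ _ hw hu hv c2 ez ex ey ezx ezy exy ?_; norm_num; done)

/-- The second three positions carry one, two and two. -/
theorem Rows.case_two (h : Rows Q Q' o a) (hA : ∀ i ∈ supp Q o, Q o i = 1 ∧ a i = 1)
    {u v w : ι} (hS : supp Q' o = {u, v, w}) (huv : u ≠ v) (huw : u ≠ w) (hvw : v ≠ w)
    (hBu : Q' o u = -1 ∧ a u = 1) (hBv : Q' o v = 1 ∧ a v = 2) (hBw : Q' o w = 1 ∧ a w = 2) :
    False := by
  have hu : u ∈ supp Q' o := by simp [hS]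
  have hv : v ∈ supp Q' o := by simp [hS]
  have hw : w ∈ supp Q' o := by simp [hS]
  have hsum : ∀ f : ι → ℤ, ∑ i ∈ supp Q' o, f i = f u + f v + f w := fun f => by
    rw [hS, Finset.sum_insert (by simp [huv, huw]), Finset.sum_pair hvw, add_assoc]
  have htot := h.sumsq
  rw [h.sum_split, h.ao, hsum, Finset.sum_congr rfl (g := fun _ => (1 : ℤ))
    (s₁ := supp Q o) (fun i hi => by rw [(hA i hi).2]; norm_num), hBu.2, hBv.2,
    hBw.2, Finset.sum_const, h.card_supp] at htot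
  have hT : ∑ i ∈ rest Q Q' o, a i ^ 2 = 3 := by
    norm_num at htot
    linarith
  have hk := h.card_rest
  have hk9 := h.card
  have hcol : ∀ j, -Q u j + Q v j + Q w j = a j - Q o j := fun j => by
    rw [← h.column j, hsum, hBu.1, hBv.1, hBw.1]; ring
  have hin : ∀ (η η' : ι), η ∈ supp Q' o →
      ∑ j ∈ supp Q o, Q η j * Q η' j + ∑ j ∈ rest Q Q' o, Q η j * Q η' j =
        4 * Q η η' - (Q η u * Q η' u + Q η v * Q η' v + Q η w * Q η' w) := fun η η' hη => by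
    rw [h.inner hη, hsum]
  have cu := h.cauchy u
  have cv := h.cauchy v
  have cw := h.cauchy w
  have cu' := h.swap.cauchy u
  have cv' := h.swap.cauchy v
  have cw' := h.swap.cauchy w
  rw [h.off_first hu, hBu.2] at cu
  rw [h.off_first hv, hBv.2] at cv
  rw [h.off_first hw, hBw.2] at cw
  rw [hBu.1, hBu.2] at cu'
  rw [hBv.1, hBv.2] at cv'
  rw [hBw.1, hBw.2] at cw'
  have wu := h.w1 u
  have wv := h.w1 v
  have ww := h.w1 w
  rw [hBu.2] at wu
  rw [hBv.2] at wv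
  rw [hBw.2] at ww
  norm_num at cu cv cw cu' cv' cw' wu wv ww
  have qu : Q u u = 1 := by omega
  have qv : Q v v = 2 := by omega
  have qw : Q w w = 2 := by omega
  have r1 := hcol u
  have r2 := hcol v
  have r3 := hcol w
  rw [h.off_first hu, hBu.2, h.symm v u, h.symm w u, qu] at r1
  rw [h.off_first hv, hBv.2, h.symm w v, qv] at r2
  rw [h.off_first hw, hBw.2, qw] at r3
  have e1 : Q u v = 1 := by omega
  have e2 : Q u w = 1 := by omega
  have e3 : Q v w = 1 := by omega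
  have e1' : Q v u = 1 := h.symm v u ▸ e1
  have e2' : Q w u = 1 := h.symm w u ▸ e2
  have e3' : Q w v = 1 := h.symm w v ▸ e3
  have ex := hin u u hu
  have ey := hin v v hv
  have ez := hin w w hw
  have exy := hin u v hu
  have exz := hin u w hu
  have eyz := hin v w hv
  simp only [qu, qv, qw, e1, e2, e3, e1', e2', e3'] at ex ey ez exy exz eyz
  norm_num at ex ey ez exy exz eyz
  have hb : ∀ j ∈ supp Q o ∪ rest Q Q' o, -1 ≤ Q u j ∧ Q u j ≤ 1 :=
    fun j hj => abs_le_one_of_sum ex (by norm_num) hj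
  refine no_columns (supp Q o) (rest Q Q' o) a (fun j => -Q u j) (Q v) (Q w) h.card_supp
    (fun j hj => by have := hb j hj; omega) (fun j hj => abs_le_one_of_sum ey (by norm_num) hj)
    (fun j hj => abs_le_one_of_sum ez (by norm_num) hj)
    (fun j hj => by rw [hcol j, (hA j hj).1, (hA j hj).2, sub_self])
    (fun j hj => by rw [hcol j, (mem_rest hj).2.1, sub_zero]) (fun j _ => h.pos j)
    (by rw [Finset.sum_neg_distrib, h.first_sum (fun i hi => (hA i hi).1) hu, neg_zero])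
    (h.first_sum (fun i hi => (hA i hi).1) hv)
    (h.first_sum (fun i hi => (hA i hi).1) hw) (by omega) (nx := 1) ?_ ey ez (dxy := 0) ?_
    (dxz := 0) ?_ eyz hT (Or.inr (Or.inr ⟨rfl, rfl, rfl, rfl, rfl, rfl, rfl⟩))
  · simpa only [neg_mul_neg] using ex
  · simp only [neg_mul, Finset.sum_neg_distrib]; linarith
  · simp only [neg_mul, Finset.sum_neg_distrib]; linarith

theorem Rows.weights (h : Rows Q Q' o a) :
    (∀ i ∈ supp Q o, Q o i = 1 ∧ a i = 1) ∨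
      (∑ i ∈ supp Q o, a i ^ 2 = 9 ∧ ∃ u v w, supp Q o = {u, v, w} ∧ u ≠ v ∧ u ≠ w ∧ v ≠ w ∧
        (Q o u = -1 ∧ a u = 1) ∧ (Q o v = 1 ∧ a v = 2) ∧ (Q o w = 1 ∧ a w = 2)) ∨
      11 ≤ ∑ i ∈ supp Q o, a i ^ 2 := by
  obtain ⟨u, v, w, huv, huw, hvw, hS⟩ := Finset.card_eq_three.1 h.card_supp
  have hsum : ∀ f : ι → ℤ, ∑ i ∈ supp Q o, f i = f u + f v + f w := fun f => by
    rw [hS, Finset.sum_insert (by simp [huv, huw]), Finset.sum_pair hvw, add_assoc]
  have hw' := h.sum_weight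
  rw [hsum] at hw'
  have hpu := h.pos u
  have hpv := h.pos v
  have hpw := h.pos w
  have hu1 := h.abs_one (show u ∈ supp Q o by simp [hS])
  have hv1 := h.abs_one (show v ∈ supp Q o by simp [hS])
  have hw1 := h.abs_one (show w ∈ supp Q o by simp [hS])
  have hsq : ∀ (e : ℤ) (k : ι), e = 1 ∨ e = -1 → (e * a k) ^ 2 = a k ^ 2 := fun e k he => by
    rcases he with rfl | rfl <;> ring
  rw [hsum]
  rcases three_weights _ _ _ (by rcases hu1 with e | e <;> rw [e] <;> omega)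
    (by rcases hv1 with e | e <;> rw [e] <;> omega) (by rcases hw1 with e | e <;> rw [e] <;> omega)
    hw' with ⟨x, y, z⟩ | ⟨x, y, z⟩ | ⟨x, y, z⟩ | ⟨x, y, z⟩ | hbig
  · refine Or.inl fun i hi => ?_
    simp only [hS, Finset.mem_insert, Finset.mem_singleton] at hi
    rcases hu1 with e1 | e1 <;> rcases hv1 with e2 | e2 <;> rcases hw1 with e3 | e3 <;>
      rw [e1] at x <;> rw [e2] at y <;> rw [e3] at z <;>
      rcases hi with rfl | rfl | rfl <;> omega
  · rw [← hsq _ u hu1, ← hsq _ v hv1, ← hsq _ w hw1, x, y, z]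
    refine Or.inr (Or.inl ⟨by norm_num, u, v, w, hS, huv, huw, hvw, ?_⟩)
    rcases hu1 with e1 | e1 <;> rcases hv1 with e2 | e2 <;> rcases hw1 with e3 | e3 <;>
      rw [e1] at x <;> rw [e2] at y <;> rw [e3] at z <;> omega
  · rw [← hsq _ u hu1, ← hsq _ v hv1, ← hsq _ w hw1, x, y, z]
    refine Or.inr (Or.inl ⟨by norm_num, v, u, w, by rw [hS, Finset.insert_comm], huv.symm, hvw,
      huw, ?_⟩)
    rcases hu1 with e1 | e1 <;> rcases hv1 with e2 | e2 <;> rcases hw1 with e3 | e3 <;>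
      rw [e1] at x <;> rw [e2] at y <;> rw [e3] at z <;> omega
  · rw [← hsq _ u hu1, ← hsq _ v hv1, ← hsq _ w hw1, x, y, z]
    refine Or.inr (Or.inl ⟨by norm_num, w, u, v,
      by rw [hS, Finset.pair_comm v w, Finset.insert_comm], huw.symm, hvw.symm, huv, ?_⟩)
    rcases hu1 with e1 | e1 <;> rcases hv1 with e2 | e2 <;> rcases hw1 with e3 | e3 <;>
      rw [e1] at x <;> rw [e2] at y <;> rw [e3] at z <;> omega
  · rw [hsq _ u hu1, hsq _ v hv1, hsq _ w hw1] at hbig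
    exact Or.inr (Or.inr hbig)

theorem Rows.main_pos (h : Rows Q Q' o a) : Fintype.card ι = 16 := by
  have hT := h.sumsq
  rw [h.sum_split, h.ao] at hT
  have hR := Finset.card_nsmul_le_sum (rest Q Q' o) (fun i => a i ^ 2) 1
    fun i _ => one_le_pow₀ (h.pos i)
  rw [nsmul_eq_mul, mul_one] at hR
  have hk := h.card_rest
  have hk9 := h.card
  have key : ∀ {Q Q' : ι → ι → ℤ}, Rows Q Q' o a → (∀ i ∈ supp Q o, Q o i = 1 ∧ a i = 1) →
      Fintype.card ι = 16 := by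
    intro Q Q' h hA
    rcases h.swap.weights with hB | ⟨-, u, v, w, hS, huv, huw, hvw, x, y, z⟩ | hbig
    · obtain ⟨u, v, w, huv, huw, hvw, hS⟩ := Finset.card_eq_three.1 h.swap.card_supp
      exact h.case_ones hA hS huv huw hvw hB
    · exact (h.case_two hA hS huv huw hvw x y z).elim
    · exfalso
      have hT := h.sumsq
      rw [h.sum_split, h.ao, Finset.sum_congr rfl (g := fun _ => (1 : ℤ)) (s₁ := supp Q o)
        (fun i hi => by rw [(hA i hi).2]; norm_num), Finset.sum_const, h.card_supp] at hT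
      have hR := Finset.card_nsmul_le_sum (rest Q Q' o) (fun i => a i ^ 2) 1
        fun i _ => one_le_pow₀ (h.pos i)
      rw [nsmul_eq_mul, mul_one] at hR
      have hk := h.card_rest
      norm_num at hT
      omega
  rcases h.weights with hA | ⟨hA, -⟩ | hA
  · exact key h hA
  all_goals
    rcases h.swap.weights with hB | ⟨hB, -⟩ | hB
    · exact key h.swap hB
    all_goals
      norm_num at hT
      omega

/-- **At least nine rows are sixteen rows.** -/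
theorem nine_rows {Q Q' : ι → ι → ℤ} {o : ι} {a : ι → ℤ} (symm : ∀ i j, Q i j = Q j i)
    (symm' : ∀ i j, Q' i j = Q' j i) (sq : ∀ i j, ∑ k, Q i k * Q k j = 4 * Q i j)
    (sq' : ∀ i j, ∑ k, Q' i k * Q' k j = 4 * Q' i j)
    (mix : ∀ i j, ∑ k, Q i k * Q' k j = a i * a j) (ao : a o = 1) (qo : Q o o = 1)
    (qo' : Q' o o = 1) (ha : ∀ i, a i ≠ 0) (w1 : ∀ i, 4 * Q i i + 4 * Q' i i < 16 + a i ^ 2)
    (card : 9 ≤ Fintype.card ι) : Fintype.card ι = 16 := by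
  let s : ι → ℤ := fun i => if 0 < a i then 1 else -1
  have hs : ∀ i, s i * s i = 1 := fun i => by simp only [s]; split <;> norm_num
  refine Rows.main_pos (Q := fun i j => s i * s j * Q i j) (Q' := fun i j => s i * s j * Q' i j)
    (o := o) (a := fun i => s i * a i) ⟨fun i j => ?_, fun i j => ?_, fun i j => ?_, fun i j => ?_,
      fun i j => ?_, ?_, ?_, ?_, fun i => ?_, fun i => ?_, card⟩
  · show s i * s j * Q i j = s j * s i * Q j i
    rw [symm i j]; ring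
  · show s i * s j * Q' i j = s j * s i * Q' j i
    rw [symm' i j]; ring
  · show ∑ k, s i * s k * Q i k * (s k * s j * Q k j) = 4 * (s i * s j * Q i j)
    rw [mul_left_comm, ← sq, Finset.mul_sum]
    exact Finset.sum_congr rfl fun k _ => by linear_combination s i * s j * Q i k * Q k j * hs k
  · show ∑ k, s i * s k * Q' i k * (s k * s j * Q' k j) = 4 * (s i * s j * Q' i j)
    rw [mul_left_comm, ← sq', Finset.mul_sum]
    exact Finset.sum_congr rfl fun k _ => by linear_combination s i * s j * Q' i k * Q' k j * hs k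
  · show ∑ k, s i * s k * Q i k * (s k * s j * Q' k j) = s i * a i * (s j * a j)
    rw [mul_mul_mul_comm, ← mix, Finset.mul_sum]
    exact Finset.sum_congr rfl fun k _ => by linear_combination s i * s j * Q i k * Q' k j * hs k
  · simp [s, ao]
  · show s o * s o * Q o o = 1
    rw [hs, qo, one_mul]
  · show s o * s o * Q' o o = 1
    rw [hs, qo', one_mul]
  · show 1 ≤ s i * a i
    have := ha i
    simp only [s]
    split <;> omega
  · show 4 * (s i * s i * Q i i) + 4 * (s i * s i * Q' i i) < 16 + (s i * a i) ^ 2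
    rw [hs, one_mul, one_mul, mul_pow, pow_two (s i), hs, one_mul]
    exact w1 i

end CfsgLib.BlockA.NineRows
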