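import Cfsg.Agent.Lib.BlockA.NineLocal
import Cfsg.Agent.Lib.BlockA.NineRows
import Cfsg.Agent.Lib.BlockB.StarInteger
import Cfsg.Agent.Lib.Char.LinearSum

/-!
The principal two-block with an elementary Sylow subgroup of order sixteen and inertial index nine.
-/

set_option autoImplicit false
set_option linter.unusedSectionVars false
set_option maxHeartbeats 1000000

namespace CfsgLib.BlockA.NineBlock

open Cfsg CfsgLib.Block CfsgLib.BlockA CfsgLib.BlockB CfsgLib.BlockB.SubSum
  CfsgLib.BlockB.HeightBound AbelianSub AbelianTrace PrincipalLocal NineAction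
open scoped ComplexConjugate

universe u

variable {G : Type u} [Group G] [Fintype G] {M : Ideal AlgInt} [M.IsPrime]
  (hM : IsPModular 2 M) (S : Sylow 2 G) (hP : Nat.card (S : Subgroup G) = 16)
  (h2 : ∀ v : (S : Subgroup G), v * v = 1)

local notation "cs" z => Subgroup.centralizer (Singleton.singleton z : Set G)
local notation "cen" Q => Subgroup.centralizer ((Q : Subgroup G) : Set G)
local notation "PS" => ((S : Subgroup G))

include h2 in
theorem hab_of : ∀ v ∈ (S : Subgroup G), ∀ w ∈ (S : Subgroup G), v * w = w * v := by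
  intro v hv w hw
  have hi : ∀ x : PS, x⁻¹ = x := fun x => inv_eq_of_mul_eq_one_right (h2 x)
  have h := mul_inv_rev (⟨v, hv⟩ : PS) ⟨w, hw⟩
  rw [hi, hi, hi] at h
  exact congrArg Subtype.val h

/-- The induced automorphisms. -/
noncomputable abbrev autGrp (M : Ideal AlgInt) [M.IsPrime] (S : Sylow 2 G) :
    Subgroup (MulAut (S : Subgroup G)) :=
  (FreeSignRows.act M (S : Subgroup G)
    (principalBlock M (Subgroup.centralizer ((S : Subgroup G) : Set G)))).range

include hM

theorem mem_autGrp {φ : MulAut PS} {t : G}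
    (h : ∀ w : PS, ((φ w : PS) : G) = t * w * t⁻¹) : φ ∈ autGrp M S := by
  have hn : t ∈ Subgroup.normalizer (PS : Set G) := by
    rw [Subgroup.mem_normalizer_iff]
    intro x
    constructor
    · intro hx
      show t * x * t⁻¹ ∈ PS
      rw [← h ⟨x, hx⟩]
      exact SetLike.coe_mem _
    · intro hx
      have h' := h (φ.symm ⟨t * x * t⁻¹, hx⟩)
      rw [MulEquiv.apply_symm_apply] at h'
      have h3 : x = ((φ.symm ⟨t * x * t⁻¹, hx⟩ : PS) : G) := mul_left_cancel (mul_right_cancel h')
      rw [h3]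
      exact SetLike.coe_mem _
  refine ⟨⟨t, (mem_pairStab hM S).2 hn⟩, MulEquiv.ext fun w => Subtype.ext ?_⟩
  rw [FreeSignRows.coe_act, h w]

omit hM in
theorem exists_of_mem {φ : MulAut PS} (h : φ ∈ autGrp M S) :
    ∃ t : G, ∀ w : PS, ((φ w : PS) : G) = t * w * t⁻¹ := by
  obtain ⟨t, rfl⟩ := h
  exact ⟨t, fun w => FreeSignRows.coe_act t w⟩

include h2 hP

/-- The centralizers of the elements with stabilizer of order three. -/
theorem side (hE : Nat.card (autGrp M S) = 9) {x : PS} (hx3 : Nat.card (st (autGrp M S) x) = 3)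
    (hfix : ∀ v, (∀ φ ∈ st (autGrp M S) x, φ v = v) ↔ v = 1 ∨ Orb (autGrp M S) x v) :
    rho 2 ((cs (x : G)) : Set G) = 3 / 16 ∧
      blockRank 2 (principalBlock M (cs (x : G))) = 3 := by
  classical
  have : Fact (Nat.Prime 2) := ⟨Nat.prime_two⟩
  have := Fintype.ofFinite PS
  have hab := hab_of S h2
  set E := autGrp M S with hEdef
  set F := st E x with hFdef
  have hdich : ∀ v : PS, (∀ φ ∈ F, φ v = v) ∨ st F v = ⊥ := by
    intro v
    have hd := Subgroup.card_dvd_of_le (st_le F v)
    rw [hx3] at hd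
    rcases (Nat.dvd_prime Nat.prime_three).1 hd with h | h
    · exact Or.inr (Subgroup.eq_bot_of_card_eq _ h)
    · refine Or.inl fun φ hφ => ?_
      have := Subgroup.eq_of_le_of_card_ge (st_le F v) (by rw [h, hx3])
      exact (this.ge hφ).2
  have hx1 : x ≠ 1 := by
    rintro rfl
    have : st E (1 : PS) = E := le_antisymm (st_le E _) fun φ hφ => ⟨hφ, map_one φ⟩
    rw [hFdef, this, hE] at hx3
    omega
  have horb : Nat.card {u // Orb E x u} = 3 := by
    have := card_orb_mul E x
    rw [hx3, hE] at this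
    omega
  set A := Finset.univ.filter fun v : PS => ∀ φ ∈ F, φ v = v with hA
  have hA4 : A.card = 4 := by
    have : A = insert (1 : PS) (Finset.univ.filter fun v => Orb E x v) := by
      ext v
      simp [hA, hfix v]
    rw [this, Finset.card_insert_of_notMem (by
      simp only [Finset.mem_filter, Finset.mem_univ, true_and]
      rintro ⟨φ, -, h⟩
      exact hx1 (φ.injective (h.trans (map_one φ).symm))), ← Fintype.card_subtype,
      ← Nat.card_eq_fintype_card, horb]
  have hAc : (Finset.univ.filter fun v : PS => ¬ ∀ φ ∈ F, φ v = v).card = 12 := by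
    rw [Finset.filter_not, Finset.card_sdiff_of_subset (Finset.subset_univ _), Finset.card_univ,
      ← Nat.card_eq_fintype_card, hP]
    show 16 - A.card = 12
    rw [hA4]
  obtain ⟨⟨u, hu⟩, hux⟩ : ∃ u : {u // Orb E x u}, u.1 ≠ x := by
    by_contra h
    simp only [not_exists, not_not] at h
    have : Subsingleton {u // Orb E x u} := ⟨fun p q => Subtype.ext ((h p).trans (h q).symm)⟩
    have := Finite.card_le_one_iff_subsingleton.2 this
    omega
  change u ≠ x at hux
  have huA : ∀ φ ∈ F, φ u = u := (hfix u).2 (Or.inr hu)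
  have hu1 : u ≠ 1 := by
    rintro rfl
    obtain ⟨φ, -, h⟩ := hu
    exact hx1 (φ.injective (h.trans (map_one φ).symm))
  have hxu1 : x * u ≠ 1 := fun h => hux ((mul_left_cancel (h.trans (h2 x).symm)))
  have hxux : x * u ≠ x := fun h => hu1 (mul_left_cancel (h.trans (mul_one x).symm))
  have hxuu : x * u ≠ u := fun h => hx1 (mul_right_cancel (h.trans (one_mul u).symm))
  have hAeq : A = {1, x, u, x * u} := by
    refine (Finset.eq_of_subset_of_card_le ?_ ?_).symm
    · intro v hv
      refine Finset.mem_filter.2 ⟨Finset.mem_univ _, ?_⟩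
      simp only [Finset.mem_insert, Finset.mem_singleton] at hv
      rcases hv with rfl | rfl | rfl | rfl <;> intro φ hφ
      · exact map_one φ
      · exact hφ.2
      · exact huA φ hφ
      · rw [map_mul, hφ.2, huA φ hφ]
    · rw [hA4]
      simp [Finset.card_insert_of_notMem, hx1.symm, hu1.symm, hxu1.symm, hux.symm, hxux.symm,
        hxuu.symm]
  -- the centralizers
  let H : Subgroup G := cs (x : G)
  let K : Subgroup G := (cs (x : G)) ⊓ (cs (u : G))
  have hSH : (S : Subgroup G) ≤ H := fun v hv =>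
    Subgroup.mem_centralizer_singleton_iff.2 (hab v hv x x.2)
  have hSK : (S : Subgroup G) ≤ K := fun v hv =>
    ⟨hSH hv, Subgroup.mem_centralizer_singleton_iff.2 (hab v hv u u.2)⟩
  have hFH : ∀ φ : MulAut PS, φ ∈ F ↔ ∃ t ∈ H, ∀ w : PS, ((φ w : PS) : G) = t * w * t⁻¹ := by
    intro φ
    constructor
    · rintro ⟨hφ, hφx⟩
      obtain ⟨t, ht⟩ := exists_of_mem S hφ
      refine ⟨t, Subgroup.mem_centralizer_singleton_iff.2 (mul_inv_eq_iff_eq_mul.1 ?_), ht⟩
      rw [← ht x, hφx]
    · rintro ⟨t, ht, h⟩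
      refine ⟨mem_autGrp hM S h, Subtype.ext ?_⟩
      rw [h x, Subgroup.mem_centralizer_singleton_iff.1 ht, mul_inv_cancel_right]
  have hFK : ∀ φ : MulAut PS, φ ∈ F ↔ ∃ t ∈ K, ∀ w : PS, ((φ w : PS) : G) = t * w * t⁻¹ := by
    intro φ
    constructor
    · intro hφ
      obtain ⟨t, ht, h⟩ := (hFH φ).1 hφ
      refine ⟨t, ⟨ht, Subgroup.mem_centralizer_singleton_iff.2 (mul_inv_eq_iff_eq_mul.1 ?_)⟩, h⟩
      rw [← h u, huA φ hφ]
    · rintro ⟨t, ht, h⟩
      exact (hFH φ).2 ⟨t, ht.1, h⟩
  have hterm : ∀ (L : Subgroup G) [Fintype L], (S : Subgroup G) ≤ L →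
      (∀ φ : MulAut PS, φ ∈ F ↔ ∃ t ∈ L, ∀ w : PS, ((φ w : PS) : G) = t * w * t⁻¹) →
      ∑ v ∈ A, rho 2 ((L : Set G) ∩ ((cs (v : G)) : Set G)) + 4 / 16 = 1 := by
    intro L _ hSL hFL
    have h := NineLocal.local_sum hM S hab L hSL F hFL
    rw [← Finset.sum_filter_add_sum_filter_not Finset.univ (fun v : PS => ∀ φ ∈ F, φ v = v)] at h
    rw [Finset.sum_congr rfl (s₁ := Finset.univ.filter fun v : PS => ∀ φ ∈ F, φ v = v)
        (g := fun v => rho 2 ((L : Set G) ∩ ((cs (v : G)) : Set G)))
        (fun v hv => ?_),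
      Finset.sum_congr rfl (s₁ := Finset.univ.filter fun v : PS => ¬ ∀ φ ∈ F, φ v = v)
        (g := fun _ => (1 : ℚ) / 48) (fun v hv => ?_), Finset.sum_const, hAc, nsmul_eq_mul] at h
    · rw [← h]
      norm_num
      rfl
    · have hv' := (hdich v).resolve_left (Finset.mem_filter.1 hv).2
      have hc := card_orb_mul F v
      rw [hv', Subgroup.card_bot, mul_one, hx3] at hc
      rw [hc, NineLocal.local_free hM S hab L hSL F hFL hv' (h2 v), hP]
      norm_num
    · have hst : st F v = F :=
        le_antisymm (st_le F v) fun φ hφ => ⟨hφ, (Finset.mem_filter.1 hv).2 φ hφ⟩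
      have hc := card_orb_mul F v
      rw [hst, hx3] at hc
      rw [show Nat.card {u // Orb F v u} = 1 by omega]
      simp
  have := Fintype.ofFinite H
  have := Fintype.ofFinite K
  have hK : rho 2 (K : Set G) = 3 / 16 := by
    have h := hterm K hSK hFK
    rw [Finset.sum_congr rfl (g := fun _ => rho 2 (K : Set G)) fun v hv => ?_, Finset.sum_const,
      hA4, nsmul_eq_mul] at h
    · norm_num at h
      linarith
    · rw [Set.inter_eq_left.2]
      intro g hg
      rw [hAeq] at hv
      simp only [Finset.mem_insert, Finset.mem_singleton] at hv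
      have h1 := Subgroup.mem_centralizer_singleton_iff.1 hg.1
      have h3 := Subgroup.mem_centralizer_singleton_iff.1 hg.2
      refine Subgroup.mem_centralizer_singleton_iff.2 ?_
      rcases hv with rfl | rfl | rfl | rfl
      · simp
      · exact h1
      · exact h3
      · show g * ((x : G) * u) = (x : G) * u * g
        rw [← mul_assoc, h1, mul_assoc, h3, mul_assoc]
  have hH : rho 2 (H : Set G) = 3 / 16 := by
    have h := hterm H hSH hFH
    rw [hAeq, Finset.sum_insert (by simp [hx1.symm, hu1.symm, hxu1.symm]),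
      Finset.sum_insert (by simp [hux.symm, hxux.symm]), Finset.sum_pair hxuu.symm] at h
    have e1 : (H : Set G) ∩ ((cs ((1 : PS) : G)) : Set G) = (H : Set G) :=
      Set.inter_eq_left.2 fun g _ => Subgroup.mem_centralizer_singleton_iff.2 (by simp)
    have e2 : (H : Set G) ∩ ((cs (x : G)) : Set G) = (H : Set G) := Set.inter_self _
    have e3 : (H : Set G) ∩ ((cs (u : G)) : Set G) = (K : Set G) := (Subgroup.coe_inf _ _).symm
    have e4 : (H : Set G) ∩ ((cs ((x * u : PS) : G)) : Set G) = (K : Set G) := by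
      rw [← e3]
      ext g
      simp only [Set.mem_inter_iff, SetLike.mem_coe, Subgroup.mem_centralizer_singleton_iff,
        Subgroup.coe_mul, H]
      refine and_congr_right fun h1 => ?_
      rw [← mul_assoc, h1, mul_assoc, mul_assoc]
      exact ⟨mul_left_cancel, fun h => by rw [h]⟩
    rw [e1, e2, e3, e4, hK] at h
    linarith
  refine ⟨hH, ?_⟩
  have hk := NineLocal.local_counts hM S hab H hSH F hFH h2 hdich
  rw [show (Finset.univ.filter fun v : PS => ∀ φ ∈ F, φ v = v).card = 4 from hA4, hAc, hx3] at hk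
  have hkn : Nat.card (principalBlock M H) = 4 * blockRank 2 (principalBlock M H) + 4 := by
    have : ((Nat.card (principalBlock M H) : ℕ) : ℚ) =
        ((4 * blockRank 2 (principalBlock M H) + 4 : ℕ) : ℚ) := by
      rw [hk]
      push_cast
      ring
    exact_mod_cast this
  obtain ⟨w, hw⟩ : ∃ w : PS, st F w = ⊥ := by
    obtain ⟨w, hw⟩ := Finset.card_pos.1 (show 0 < (Finset.univ.filter
      fun v : PS => ¬ ∀ φ ∈ F, φ v = v).card by rw [hAc]; norm_num)
    exact ⟨w, (hdich w).resolve_left (Finset.mem_filter.1 hw).2⟩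
  obtain ⟨a, ha, hsum⟩ := NineLocal.local_card_le hM S hab H hSH F hFH hw (h2 w)
  rw [hP, Nat.cast_ofNat] at hsum
  set B := (principalBlock M H).toFinite.toFinset
  have hBk : B.card = Nat.card (principalBlock M H) :=
    (Nat.card_eq_card_finite_toFinset _).symm
  have hmem : ∀ χ ∈ B, a χ ≠ 0 := fun χ hχ => ha χ ((Set.Finite.mem_toFinset _).1 hχ)
  have hle : (B.card : ℤ) ≤ 16 := by
    rw [← hsum, Finset.cast_card]
    refine Finset.sum_le_sum fun χ hχ => ?_
    have := hmem χ hχ
    have : 0 < a χ ^ 2 := by positivity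

    omega
  have hl : 1 ≤ blockRank 2 (principalBlock M H) := one_le_blockRank hM isPBlock_principalBlock
  show blockRank 2 (principalBlock M H) = 3
  rcases (by omega : blockRank 2 (principalBlock M H) = 1 ∨ blockRank 2 (principalBlock M H) = 2 ∨
    blockRank 2 (principalBlock M H) = 3) with hl1 | hl2 | hl3
  · exfalso
    have h := rank_one_bound hM hl1
    have e : rho 2 (Set.univ : Set H) = 3 / 16 := by
      rw [← rho_image, Set.image_univ, Subtype.range_coe_subtype]
      exact hH
    rw [e, hkn, hl1] at h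
    norm_num at h
  · exfalso
    have h12 : B.card = 12 := by omega
    have hex : ∑ χ ∈ B, (a χ ^ 2 - 1) = 4 := by
      rw [Finset.sum_sub_distrib, hsum, Finset.sum_const, nsmul_eq_mul, h12]
      norm_num
    have hnn : ∀ χ ∈ B, 0 ≤ a χ ^ 2 - 1 := fun χ hχ => by
      have := hmem χ hχ
      have : 0 < a χ ^ 2 := by positivity
      omega
    have h3 : (3 : ℤ) ∣ ∑ χ ∈ B, (a χ ^ 2 - 1) := by
      refine Finset.dvd_sum fun χ hχ => ?_
      have h4 := Finset.single_le_sum hnn hχ
      rw [hex] at h4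
      have hb : -2 ≤ a χ ∧ a χ ≤ 2 := by constructor <;> nlinarith
      have h0 := hmem χ hχ
      obtain ⟨hb1, hb2⟩ := hb
      interval_cases h : a χ <;> norm_num at *
    rw [hex] at h3
    norm_num at h3
  · exact hl3

/-- **The invariants.** -/
theorem main
    (he : (cen PS).relIndex (Subgroup.normalizer (PS : Set G)) = 9) :
    Nat.card (principalBlock M G) = 16 ∧ blockRank 2 (principalBlock M G) = 9 := by
  classical
  have : Fact (Nat.Prime 2) := ⟨Nat.prime_two⟩
  have := Fintype.ofFinite PS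
  have := Fintype.ofFinite (principalBlock M G)
  have hab := hab_of S h2
  set c := principalBlock M (cen PS) with hc
  have hE : Nat.card (autGrp M S) = 9 := by
    rw [FreeSignRows.card_range_act, ← he]
    congr 1
    ext t
    exact mem_pairStab hM S
  obtain ⟨a, b, w, ha3, hb3, hw, hnab, hcover, hfa, hfb⟩ := orbits hP (autGrp M S) hE
  set E := autGrp M S with hEdef
  obtain ⟨hρa, hla⟩ := side hM S hP h2 hE ha3 hfa
  obtain ⟨hρb, hlb⟩ := side hM S hP h2 hE hb3 hfb
  set hmax := isMaximal_principal hM S with hmaxdef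
  have hfix : ∀ t ∈ Subgroup.normalizer (PS : Set G), t * (w : G) * t⁻¹ = w → t ∈ (cen PS) := by
    intro t ht htw
    have hm : FreeSignRows.act M PS c ⟨t, (mem_pairStab hM S).2 ht⟩ ∈ st E w :=
      ⟨⟨_, rfl⟩, Subtype.ext htw⟩
    rw [hw, Subgroup.mem_bot] at hm
    rw [Subgroup.mem_centralizer_iff]
    intro x hx
    have h := FreeSignRows.coe_act (M := M) (c := c) ⟨t, (mem_pairStab hM S).2 ht⟩ ⟨x, hx⟩
    rw [hm] at h
    exact (mul_inv_eq_iff_eq_mul.1 h.symm).symm
  obtain ⟨hrkw, hρw, z, hz1, hz0, hcw, -⟩ := free_rows hM S hab w.2 (congrArg Subtype.val (h2 w) :) hfix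
  rw [hP] at hρw hcw
  -- the orbits
  have hO : ∀ v u : PS, (u : G) ∈ orb M PS c (v : G) ↔ Orb E v u := fun v u =>
    FreeSignRows.mem_orb_iff
  have hsymm : ∀ v u : PS, Orb E v u → Orb E u v := by
    rintro v _ ⟨φ, hφ, rfl⟩
    exact ⟨φ⁻¹, inv_mem hφ, φ.symm_apply_apply v⟩
  have horb1 : ∀ v : PS, Orb E 1 v ↔ v = 1 := fun v =>
    ⟨fun ⟨φ, _, h⟩ => h.symm.trans (map_one φ), fun h => ⟨1, one_mem E, h.symm⟩⟩
  have hne1 : ∀ x : PS, Nat.card (st E x) ≠ 9 → x ≠ 1 := by
    rintro x hx rfl
    refine hx ?_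
    rw [show st E (1 : PS) = E from le_antisymm (st_le E _) fun φ hφ => ⟨hφ, map_one φ⟩, hE]
  have ha1 : a ≠ 1 := hne1 a (by omega)
  have hb1 : b ≠ 1 := hne1 b (by omega)
  have hw1 : w ≠ 1 := hne1 w (by rw [hw, Subgroup.card_bot]; omega)
  have hno1 : ∀ x : PS, x ≠ 1 → ¬ Orb E x 1 := fun x hx h => hx ((horb1 x).1 (hsymm _ _ h))
  have hno1' : ∀ x : PS, x ≠ 1 → ¬ Orb E 1 x := fun x hx h => hx ((horb1 x).1 h)
  have hnw : ∀ x : PS, Nat.card (st E x) = 3 → ¬ Orb E x w := by
    intro x hx h
    have hle : st E x ≤ st E w := fun φ hφ => ⟨hφ.1, orb_fixed hP E hE h φ hφ⟩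
    rw [hw, le_bot_iff] at hle
    rw [hle, Subgroup.card_bot] at hx
    omega
  have hnba : ¬ Orb E b a := fun h => hnab (hsymm _ _ h)
  -- sums over the orbits
  have sum4 : ∀ f : PS → ℂ, (∀ v u : PS, Orb E v u → f u = f v) →
      ∑ v : PS, f v / ((orb M PS c (v : G)).card : ℂ) = f 1 + f a + f b + f w := by
    intro f hf
    have hpt : ∀ v : PS, f v = Contribution.orbInd M PS c 1 v * f v +
        Contribution.orbInd M PS c a v * f v + Contribution.orbInd M PS c b v * f v +
        Contribution.orbInd M PS c w v * f v := by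
      intro v
      simp only [Contribution.orbInd, hO, horb1]
      rcases hcover v with h | h | h | h
      · subst h
        simp [hno1 a ha1, hno1 b hb1, hno1 w hw1]
      · have n1 : v ≠ 1 := fun e => hno1 a ha1 (e ▸ h)
        have n2 : ¬ Orb E b v := fun h' => hnab (by
          obtain ⟨φ, hφ, e⟩ := h
          obtain ⟨ψ, hψ, e'⟩ := h'
          exact ⟨ψ⁻¹ * φ, mul_mem (inv_mem hψ) hφ, by
            rw [MulAut.mul_apply, e, ← e']; exact ψ.symm_apply_apply b⟩)
        have n3 : ¬ Orb E w v := fun h' => hnw a ha3 (by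
          obtain ⟨φ, hφ, e⟩ := h
          obtain ⟨ψ, hψ, e'⟩ := h'
          exact ⟨ψ⁻¹ * φ, mul_mem (inv_mem hψ) hφ, by
            rw [MulAut.mul_apply, e, ← e']; exact ψ.symm_apply_apply w⟩)
        simp [h, n1, n2, n3]
      · have n1 : v ≠ 1 := fun e => hno1 b hb1 (e ▸ h)
        have n2 : ¬ Orb E a v := fun h' => hnab (by
          obtain ⟨φ, hφ, e⟩ := h'
          obtain ⟨ψ, hψ, e'⟩ := h
          exact ⟨ψ⁻¹ * φ, mul_mem (inv_mem hψ) hφ, by
            rw [MulAut.mul_apply, e, ← e']; exact ψ.symm_apply_apply b⟩)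
        have n3 : ¬ Orb E w v := fun h' => hnw b hb3 (by
          obtain ⟨φ, hφ, e⟩ := h
          obtain ⟨ψ, hψ, e'⟩ := h'
          exact ⟨ψ⁻¹ * φ, mul_mem (inv_mem hψ) hφ, by
            rw [MulAut.mul_apply, e, ← e']; exact ψ.symm_apply_apply w⟩)
        simp [h, n1, n2, n3]
      · have n1 : v ≠ 1 := fun e => hno1 w hw1 (e ▸ h)
        have n2 : ∀ x : PS, Nat.card (st E x) = 3 → ¬ Orb E x v := fun x hx h' => hnw x hx (by
          obtain ⟨φ, hφ, e⟩ := h'
          obtain ⟨ψ, hψ, e'⟩ := h
          exact ⟨ψ⁻¹ * φ, mul_mem (inv_mem hψ) hφ, by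
            rw [MulAut.mul_apply, e, ← e']; exact ψ.symm_apply_apply w⟩)
        simp [h, n1, n2 a ha3, n2 b hb3]
    rw [Finset.sum_congr rfl fun v _ => show f v / ((orb M PS c (v : G)).card : ℂ) =
        Contribution.orbInd M PS c 1 v * f v / ((orb M PS c (v : G)).card : ℂ) +
        Contribution.orbInd M PS c a v * f v / ((orb M PS c (v : G)).card : ℂ) +
        Contribution.orbInd M PS c b v * f v / ((orb M PS c (v : G)).card : ℂ) +
        Contribution.orbInd M PS c w v * f v / ((orb M PS c (v : G)).card : ℂ) by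
          rw [← add_div, ← add_div, ← add_div, ← hpt],
      Finset.sum_add_distrib, Finset.sum_add_distrib, Finset.sum_add_distrib]
    have e : ∀ x : PS, ∑ v : PS, Contribution.orbInd M PS c x v * f v /
        ((orb M PS c (v : G)).card : ℂ) = f x := fun x => by
      rw [← Contribution.sum_orbInd hM hmax hab x f fun u hu => hf x u ((hO x u).1 hu)]
      exact Finset.sum_congr (by ext; simp) fun _ _ => rfl
    rw [e, e, e, e]
  have hconst : ∀ (χ ξ : IrrCharacter G) (v u : PS), Orb E v u →
      Contribution.con hM hmax hab u χ ξ = Contribution.con hM hmax hab v χ ξ := fun χ ξ v u h =>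
    (Contribution.con_stab hM hmax hab ((hO v u).2 h)).1 χ ξ
  -- the count
  have hl := one_le_blockRank hM (isPBlock_principalBlock (M := M) (G := G))
  have hk : Nat.card (principalBlock M G) = blockRank 2 (principalBlock M G) + 7 := by
    have h := Watanabe.natCard_eq_sum hM hmax hab
    have e : ∀ x : PS, blockRank 2 (principalBlock M (cs (x : G))) = 3 →
        rk hM hmax hab x = 3 := fun x hx => by
      show ((blockRank 2 (blk hM hmax hab x.2) : ℕ) : ℂ) = 3
      rw [blk_eq hM S hab x.2, hx]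
      norm_num
    rw [Finset.sum_congr (Finset.ext fun x => iff_of_true (@Finset.mem_univ _ (_) x)
        (@Finset.mem_univ _ (_) x)) (fun _ _ => rfl),
      sum4 (fun v => rk hM hmax hab v) fun v u h =>
        (Contribution.con_stab hM hmax hab ((hO v u).2 h)).2,
      FreeSignRows.rk_at_one hM hmax hab, e a hla, e b hlb,
      show rk hM hmax hab w = 1 from hrkw] at h
    have : ((Nat.card (principalBlock M G) : ℕ) : ℂ) =
        ((blockRank 2 (principalBlock M G) + 7 : ℕ) : ℂ) := by
      rw [h]; push_cast; ring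
    exact_mod_cast this
  have hδ : ∀ χ ξ : IrrCharacter G, χ ∈ principalBlock M G → ξ ∈ principalBlock M G →
      Contribution.con hM hmax hab 1 χ ξ + Contribution.con hM hmax hab a χ ξ +
        Contribution.con hM hmax hab b χ ξ + Contribution.con hM hmax hab w χ ξ =
        if χ = ξ then 1 else 0 := by
    intro χ ξ hχ hξ
    have h := Contribution.classInner_star hM hmax hab (χ := χ) hξ (lam := fun _ => 1)
      (fun _ _ _ _ _ => rfl)
    rw [Star.star_one hM hmax hχ, CfsgLib.Char.irr_classInner χ.2 ξ.2] at h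
    simp only [one_mul, Subtype.coe_inj] at h
    rw [h, ← sum4 (fun v => Contribution.con hM hmax hab v χ ξ) (hconst χ ξ)]
    exact Finset.sum_congr (by ext; simp) fun _ _ => rfl
  have hρ1 : rho 2 (Set.univ : Set G) = 9 / 16 := by
    have h := hδ trivIrr trivIrr one_mem_principalBlock one_mem_principalBlock
    rw [if_pos rfl, con_triv hM S hab, con_triv hM S hab, con_triv hM S hab, con_triv hM S hab,
      hρa, hρb, hρw] at h
    have e : ((cs ((1 : PS) : G)) : Set G) = Set.univ := by
      ext g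
      simp [Subgroup.mem_centralizer_singleton_iff]
    rw [e] at h
    have h' : rho 2 (Set.univ : Set G) + 3 / 16 + 3 / 16 + ((16 : ℕ) : ℚ)⁻¹ = 1 := by
      exact_mod_cast h
    norm_num at h'
    linarith
  have hl1 : blockRank 2 (principalBlock M G) ≠ 1 := by
    intro h1
    have h := rank_one_bound hM h1
    rw [hρ1, hk, h1] at h
    norm_num at h
  -- integrality
  have hint : ∀ (x y : PS), Nat.card (st E y) = 3 →
      (∀ v, (∀ φ ∈ st E y, φ v = v) ↔ v = 1 ∨ Orb E y v) → y ≠ 1 → ¬ Orb E y x → ¬ Orb E x y →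
      (∀ f : PS → ℂ, (∀ v u : PS, Orb E v u → f u = f v) →
        ∑ v : PS, f v / ((orb M PS c (v : G)).card : ℂ) = f 1 + f x + f y + f w) → x ≠ 1 →
      ∀ χ ξ : IrrCharacter G, χ ∈ principalBlock M G → ξ ∈ principalBlock M G →
        ∃ q : ℤ, 4 * (Contribution.con hM hmax hab x χ ξ + Contribution.con hM hmax hab w χ ξ) = q := by
    intro x y hy3 hfy hy1 hyx hxy hs hx1 χ ξ hχ hξ
    let : CommGroup PS := { (inferInstance : Group PS) with
      mul_comm := fun u v => Subtype.ext (hab u u.2 v v.2) }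
    let Y : Subgroup PS := fixSub (st E y)
    have hY : ∀ v : PS, v ∈ Y ↔ v = 1 ∨ Orb E y v := hfy
    have hY4 : Y.index = 4 := by
      have h1 : Nat.card Y = 4 := by
        have : Nat.card Y = (insert (1 : PS) (Finset.univ.filter fun v => Orb E y v)).card := by
          rw [Nat.card_eq_fintype_card]
          exact Fintype.card_of_subtype _ fun v => by simp [hY v]
        rw [this, Finset.card_insert_of_notMem (by simpa using hno1 y hy1), ← Fintype.card_subtype,
          ← Nat.card_eq_fintype_card]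
        have h := card_orb_mul E y
        rw [hy3, hE] at h
        omega
      have h2 := Y.card_mul_index
      rw [h1, hP] at h2
      omega
    have := Fintype.ofFinite ((PS ⧸ Y) →* ℂˣ)
    have hcomm : commutator (PS ⧸ Y) = ⊥ := by
      rw [commutator_def, Subgroup.commutator_eq_bot_iff_le_centralizer]
      intro u _
      exact Subgroup.mem_centralizer_iff.2 fun v _ => mul_comm v u
    let lam : PS → ℂ := fun v => ∑ l ∈ (Finset.univ : Finset ((PS ⧸ Y) →* ℂˣ)).erase 1,
      ((l.comp (QuotientGroup.mk' Y)) v : ℂ)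
    have hchar : IsCharacter PS lam := by
      have : lam = ∑ l ∈ (Finset.univ : Finset ((PS ⧸ Y) →* ℂˣ)).erase 1,
          (fun v : PS => ((l.comp (QuotientGroup.mk' Y)) v : ℂ)) := by
        funext v
        simp [lam]
      rw [this]
      exact CfsgLib.Char.isCharacter_sum _ fun l _ =>
        CfsgLib.Char.irr_isCharacter (CfsgLib.Char.isIrrCharacter_linear _)
    have hval : ∀ v : PS, lam v = if v = 1 ∨ Orb E y v then 3 else -1 := by
      intro v
      have h := CfsgLib.Char.sum_linear_apply (QuotientGroup.mk' Y v)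
      rw [← Finset.add_sum_erase _ _ (Finset.mem_univ (1 : (PS ⧸ Y) →* ℂˣ)), hcomm,
        Subgroup.index_bot, ← Subgroup.index_eq_card, hY4] at h
      simp only [Subgroup.mem_bot, QuotientGroup.mk'_apply, QuotientGroup.eq_one_iff, hY,
        MonoidHom.one_apply, Units.val_one] at h
      have hlam : lam v = ∑ l ∈ (Finset.univ : Finset ((PS ⧸ Y) →* ℂˣ)).erase 1,
          (l (v : PS ⧸ Y) : ℂ) := rfl
      rw [hlam]
      split_ifs with hv
      · rw [if_pos hv] at h
        push_cast at h
        linear_combination h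
      · rw [if_neg hv] at h
        linear_combination h
    have horbconst : ∀ v u : PS, Orb E v u → lam u = lam v := by
      intro v u h
      rw [hval, hval]
      refine if_congr (or_congr ⟨fun e => ?_, fun e => ?_⟩ ⟨fun e => ?_, fun e => ?_⟩) rfl rfl
      · subst e; exact (horb1 v).1 (hsymm _ _ h)
      · subst e; exact (horb1 u).1 h
      · obtain ⟨φ, hφ, e1⟩ := h
        obtain ⟨ψ, hψ, e2⟩ := e
        exact ⟨φ⁻¹ * ψ, mul_mem (inv_mem hφ) hψ, by
          rw [MulAut.mul_apply, e2, ← e1]; exact φ.symm_apply_apply v⟩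
      · obtain ⟨φ, hφ, e1⟩ := h
        obtain ⟨ψ, hψ, e2⟩ := e
        exact ⟨φ * ψ, mul_mem hφ hψ, by rw [MulAut.mul_apply, e2, e1]⟩
    have hinv : ∀ t ∈ pairStab M PS c, ∀ u v : PS, t * (u : G) * t⁻¹ = v → lam v = lam u :=
      fun t ht u v h => horbconst u v ((hO u v).1 (mem_orb.2 ⟨t, ht, h⟩))
    obtain ⟨n, hn⟩ := Star.exists_int_classInner hM hmax hchar
      (isStable_of_invariant hM hmax hab hinv) χ ξ
    refine ⟨(if χ = ξ then 3 else 0) - n, ?_⟩
    have h := Contribution.classInner_star hM hmax hab (χ := χ) hξ hinv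
    rw [hn] at h
    have h' : (n : ℂ) = lam 1 * Contribution.con hM hmax hab 1 χ ξ +
        lam x * Contribution.con hM hmax hab x χ ξ + lam y * Contribution.con hM hmax hab y χ ξ +
        lam w * Contribution.con hM hmax hab w χ ξ := by
      rw [h, ← hs (fun v => lam v * Contribution.con hM hmax hab v χ ξ) fun v u huv => by
        rw [horbconst v u huv, hconst χ ξ v u huv]]
      exact Finset.sum_congr (by ext; simp) fun _ _ => rfl
    rw [hval 1, hval x, hval y, hval w, if_pos (show (1 : PS) = 1 ∨ Orb E y 1 from Or.inl rfl),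
      if_pos (show y = 1 ∨ Orb E y y from Or.inr ⟨1, one_mem E, rfl⟩),
      if_neg (show ¬ (x = 1 ∨ Orb E y x) from fun e => e.elim hx1 hyx),
      if_neg (show ¬ (w = 1 ∨ Orb E y w) from fun e => e.elim hw1 (hnw y hy3))] at h'
    have hd := hδ χ ξ hχ hξ
    have hs' : Contribution.con hM hmax hab 1 χ ξ + Contribution.con hM hmax hab x χ ξ +
        Contribution.con hM hmax hab y χ ξ + Contribution.con hM hmax hab w χ ξ =
        if χ = ξ then 1 else 0 := by
      rw [← hs (fun v => Contribution.con hM hmax hab v χ ξ) (hconst χ ξ),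
        sum4 (fun v => Contribution.con hM hmax hab v χ ξ) (hconst χ ξ), hd]
    push_cast
    split_ifs at hs' ⊢ with e
    · linear_combination h' + 3 * hs'
    · linear_combination h' + 3 * hs'
  have sum4' : ∀ f : PS → ℂ, (∀ v u : PS, Orb E v u → f u = f v) →
      ∑ v : PS, f v / ((orb M PS c (v : G)).card : ℂ) = f 1 + f b + f a + f w := fun f hf => by
    rw [sum4 f hf]; ring
  choose Q hQ using fun χ ξ : principalBlock M G =>
    hint a b hb3 hfb hb1 hnba hnab sum4 ha1 χ.1 ξ.1 χ.2 ξ.2
  choose Q' hQ' using fun χ ξ : principalBlock M G =>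
    hint b a ha3 hfa ha1 hnab hnba sum4' hb1 χ.1 ξ.1 χ.2 ξ.2
  have hmul : ∀ (v u : PS) (χ ξ : principalBlock M G),
      ∑ η : principalBlock M G, Contribution.con hM hmax hab v χ.1 η.1 *
        Contribution.con hM hmax hab u η.1 ξ.1 =
      if Orb E v u then Contribution.con hM hmax hab v χ.1 ξ.1 else 0 := by
    intro v u χ ξ
    have h := Contribution.sum_con_mul hM hmax hab (χ := χ.1) ξ.2 v u
    rw [Finset.sum_subtype _ (p := (· ∈ principalBlock M G))
      (F := (inferInstance : Fintype (principalBlock M G))) (by simp)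
      (fun η => Contribution.con hM hmax hab v χ.1 η * Contribution.con hM hmax hab u η ξ.1)] at h
    refine Eq.trans h ?_
    exact if_congr (hO v u) rfl rfl
  have hself : ∀ v : PS, Orb E v v := fun v => ⟨1, one_mem E, rfl⟩
  have hnaw := hnw a ha3
  have hnbw := hnw b hb3
  have hnwa : ¬ Orb E w a := fun h => hnaw (hsymm _ _ h)
  have hnwb : ¬ Orb E w b := fun h => hnbw (hsymm _ _ h)
  have hcw' : ∀ χ ξ : principalBlock M G,
      Contribution.con hM hmax hab w χ.1 ξ.1 = ((z χ.1 : ℂ) * (z ξ.1 : ℂ)) / 16 := fun χ ξ => by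
    have h := hcw χ.1 ξ.1
    push_cast at h
    exact h
  have hdiag : ∀ (x : PS) (q : principalBlock M G → principalBlock M G → ℤ),
      ¬ Orb E x w → ¬ Orb E w x →
      (∀ χ ξ : principalBlock M G, 4 * (Contribution.con hM hmax hab x χ.1 ξ.1 +
        Contribution.con hM hmax hab w χ.1 ξ.1) = q χ ξ) →
      (∀ χ ξ, q χ ξ = q ξ χ) ∧ (∀ χ ξ, ∑ η, q χ η * q η ξ = 4 * q χ ξ) ∧
      (rho 2 ((cs (x : G)) : Set G) = 3 / 16 →
        q ⟨trivIrr, one_mem_principalBlock⟩ ⟨trivIrr, one_mem_principalBlock⟩ = 1) := by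
    intro x q hxw hwx hq
    refine ⟨fun χ ξ => ?_, fun χ ξ => ?_, fun hρ => ?_⟩
    · have h := congrArg conj (hq χ ξ)
      simp only [map_mul, map_add, Contribution.conj_con, map_ofNat, map_intCast] at h
      exact_mod_cast h.symm.trans (hq ξ χ)
    · have h : ((∑ η, q χ η * q η ξ : ℤ) : ℂ) = ((4 * q χ ξ : ℤ) : ℂ) := by
        push_cast
        simp only [← hq]
        rw [Finset.sum_congr rfl fun η _ => show 4 * (Contribution.con hM hmax hab x χ.1 η.1 +
            Contribution.con hM hmax hab w χ.1 η.1) * (4 * (Contribution.con hM hmax hab x η.1 ξ.1 +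
            Contribution.con hM hmax hab w η.1 ξ.1)) =
          16 * (Contribution.con hM hmax hab x χ.1 η.1 * Contribution.con hM hmax hab x η.1 ξ.1) +
          16 * (Contribution.con hM hmax hab x χ.1 η.1 * Contribution.con hM hmax hab w η.1 ξ.1) +
          16 * (Contribution.con hM hmax hab w χ.1 η.1 * Contribution.con hM hmax hab x η.1 ξ.1) +
          16 * (Contribution.con hM hmax hab w χ.1 η.1 * Contribution.con hM hmax hab w η.1 ξ.1)
          by ring,
          Finset.sum_add_distrib, Finset.sum_add_distrib, Finset.sum_add_distrib, ← Finset.mul_sum,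
          ← Finset.mul_sum, ← Finset.mul_sum, ← Finset.mul_sum, hmul, hmul, hmul, hmul,
          if_pos (hself x), if_pos (hself w), if_neg hxw, if_neg hwx]
        ring
      exact_mod_cast h
    · have h := hq ⟨trivIrr, one_mem_principalBlock⟩ ⟨trivIrr, one_mem_principalBlock⟩
      rw [con_triv hM S hab, con_triv hM S hab, hρ, hρw] at h
      have h' : ((1 : ℤ) : ℂ) = ((q ⟨trivIrr, one_mem_principalBlock⟩
          ⟨trivIrr, one_mem_principalBlock⟩ : ℤ) : ℂ) := by
        rw [← h]
        push_cast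
        norm_num
      exact_mod_cast h'.symm
  obtain ⟨hsA, hqA, hoA⟩ := hdiag a Q hnaw hnwa hQ
  obtain ⟨hsB, hqB, hoB⟩ := hdiag b Q' hnbw hnwb hQ'
  have h16 : Fintype.card (principalBlock M G) = 16 := by
    refine NineRows.nine_rows (o := (⟨trivIrr, one_mem_principalBlock⟩ : principalBlock M G))
      (a := fun χ : principalBlock M G => z χ.1) hsA hsB hqA hqB (fun χ ξ => ?_) hz1 (hoA hρa)
      (hoB hρb) (fun χ => hz0 χ.1 χ.2) (fun χ => ?_) ?_
    · have h : ((∑ η, Q χ η * Q' η ξ : ℤ) : ℂ) = ((z χ.1 * z ξ.1 : ℤ) : ℂ) := by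
        push_cast
        simp only [← hQ, ← hQ']
        rw [Finset.sum_congr rfl fun η _ => show 4 * (Contribution.con hM hmax hab a χ.1 η.1 +
            Contribution.con hM hmax hab w χ.1 η.1) * (4 * (Contribution.con hM hmax hab b η.1 ξ.1 +
            Contribution.con hM hmax hab w η.1 ξ.1)) =
          16 * (Contribution.con hM hmax hab a χ.1 η.1 * Contribution.con hM hmax hab b η.1 ξ.1) +
          16 * (Contribution.con hM hmax hab a χ.1 η.1 * Contribution.con hM hmax hab w η.1 ξ.1) +
          16 * (Contribution.con hM hmax hab w χ.1 η.1 * Contribution.con hM hmax hab b η.1 ξ.1) +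
          16 * (Contribution.con hM hmax hab w χ.1 η.1 * Contribution.con hM hmax hab w η.1 ξ.1)
          by ring,
          Finset.sum_add_distrib, Finset.sum_add_distrib, Finset.sum_add_distrib, ← Finset.mul_sum,
          ← Finset.mul_sum, ← Finset.mul_sum, ← Finset.mul_sum, hmul, hmul, hmul, hmul,
          if_pos (hself w), if_neg hnab, if_neg hnaw, if_neg hnwb, hcw']
        ring
      exact_mod_cast h
    · obtain ⟨r, hr, hre⟩ := con_self_pos hM S hab (1 : PS) χ.2
      have hd := hδ χ.1 χ.1 χ.2 χ.2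
      rw [if_pos rfl, hre, hcw'] at hd
      have h1 := hQ χ χ
      have h2' := hQ' χ χ
      rw [hcw'] at h1 h2'
      have h : ((16 * r : ℝ) : ℂ) =
          (((16 + z χ.1 ^ 2 - 4 * Q χ χ - 4 * Q' χ χ : ℤ) : ℝ) : ℂ) := by
        push_cast
        linear_combination 16 * hd - 4 * h1 - 4 * h2'
      have hR := Complex.ofReal_inj.1 h
      have hpos : (0 : ℝ) < ((16 + z χ.1 ^ 2 - 4 * Q χ χ - 4 * Q' χ χ : ℤ) : ℝ) := by
        rw [← hR]; positivity
      have : (0 : ℤ) < 16 + z χ.1 ^ 2 - 4 * Q χ χ - 4 * Q' χ χ := by exact_mod_cast hpos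
      show 4 * Q χ χ + 4 * Q' χ χ < 16 + z χ.1 ^ 2
      linarith
    · rw [← Nat.card_eq_fintype_card]
      omega
  rw [← Nat.card_eq_fintype_card] at h16
  exact ⟨h16, by omega⟩

end CfsgLib.BlockA.NineBlock
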