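import Cfsg.Agent.Lib.BlockA.PrincipalLocal

/-!
The principal block of a subgroup containing the abelian Sylow subgroup, in terms of the group of
automorphisms it induces.
-/

set_option autoImplicit false
set_option linter.unusedSectionVars false
set_option maxHeartbeats 1000000

namespace CfsgLib.BlockA.NineLocal

open Cfsg CfsgLib.Block CfsgLib.BlockA CfsgLib.BlockB CfsgLib.BlockB.SubSum
  CfsgLib.BlockB.HeightBound AbelianSub AbelianTrace PrincipalLocal NineAction
open scoped ComplexConjugate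

universe u

variable {G : Type u} [Group G] [Fintype G] {p : ℕ} [Fact p.Prime] {M : Ideal AlgInt} [M.IsPrime]
  (hM : IsPModular p M) (S : Sylow p G)
  (hab : ∀ v ∈ (S : Subgroup G), ∀ w ∈ (S : Subgroup G), v * w = w * v)
  (H : Subgroup G) [Fintype H] (hSH : (S : Subgroup G) ≤ H)
  (F : Subgroup (MulAut (S : Subgroup G)))
  (hF : ∀ φ : MulAut (S : Subgroup G), φ ∈ F ↔
    ∃ t ∈ H, ∀ w : (S : Subgroup G), ((φ w : (S : Subgroup G)) : G) = t * w * t⁻¹)

local notation "cen" Q => Subgroup.centralizer ((Q : Subgroup G) : Set G)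
local notation "PS" => ((S : Subgroup G))
local notation "PH" => ((S.subtype hSH : Sylow p H) : Subgroup H)

set_option linter.unusedVariables false

omit [M.IsPrime] in
include hab hSH in
theorem hab_sub : ∀ v ∈ PH, ∀ w ∈ PH, v * w = w * v := fun v hv w hw =>
  Subtype.ext (hab _ hv _ hw)

/-- An element of the Sylow subgroup inside the subgroup. -/
def lift (v : PS) : PH := ⟨⟨(v : G), hSH v.2⟩, v.2⟩

theorem card_lift : Nat.card PH = Nat.card PS :=
  Nat.card_congr (Subgroup.subgroupOfEquivOfLe hSH).toEquiv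

theorem coe_lift (v : PS) : (((lift S H hSH v : PH) : H) : G) = v := rfl

include hF

theorem act_of_mem {t : H} (ht : t ∈ Subgroup.normalizer (PH : Set H)) :
    ∃ φ ∈ F, ∀ w : PS, ((φ w : PS) : G) = (t : G) * w * (t : G)⁻¹ := by
  have hn : (t : G) ∈ Subgroup.normalizer ((PS : Subgroup G) : Set G) := by
    rw [Subgroup.mem_normalizer_iff]
    intro x
    have h := Subgroup.mem_normalizer_iff.1 ht
    constructor
    · intro hx
      exact (h ⟨x, hSH hx⟩).1 hx
    · intro hx
      have hxH : x ∈ H := by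
        have h2 := mul_mem (mul_mem (inv_mem t.2) (hSH hx)) t.2
        simpa [mul_assoc] using h2
      exact (h ⟨x, hxH⟩).2 hx
  exact ⟨(PS).normalizerMonoidHom ⟨t, hn⟩, (hF _).2 ⟨t, t.2, fun _ => rfl⟩, fun _ => rfl⟩

theorem mem_of_act {φ : MulAut PS} (hφ : φ ∈ F) :
    ∃ t : H, t ∈ Subgroup.normalizer (PH : Set H) ∧
      ∀ w : PS, ((φ w : PS) : G) = (t : G) * w * (t : G)⁻¹ := by
  obtain ⟨t, ht, h⟩ := (hF φ).1 hφ
  refine ⟨⟨t, ht⟩, ?_, h⟩
  rw [Subgroup.mem_normalizer_iff]
  intro x
  constructor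
  · intro hx
    show t * (x : G) * t⁻¹ ∈ PS
    rw [← h ⟨x, hx⟩]
    exact SetLike.coe_mem _
  · intro hx
    have h2 := h (φ.symm ⟨t * (x : G) * t⁻¹, hx⟩)
    rw [MulEquiv.apply_symm_apply] at h2
    have h3 : (x : G) = ((φ.symm ⟨t * (x : G) * t⁻¹, hx⟩ : PS) : G) :=
      mul_left_cancel (mul_right_cancel h2)
    show (x : G) ∈ PS
    rw [h3]
    exact SetLike.coe_mem _

include hM

/-- The orbits are those of the induced automorphisms. -/
theorem orb_card (v : PS) :
    (orb M PH (principalBlock M (Subgroup.centralizer (PH : Set H))) ((lift S H hSH v : PH) : H)).card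
      = Nat.card {u // Orb F v u} := by
  classical
  have := Fintype.ofFinite PS
  rw [Nat.card_eq_fintype_card, Fintype.card_subtype,
    ← Finset.card_map ⟨(Subtype.val : H → G), Subtype.val_injective⟩,
    ← Finset.card_map (s := Finset.univ.filter fun u => Orb F v u)
      ⟨(Subtype.val : PS → G), Subtype.val_injective⟩]
  congr 1
  ext x
  simp only [Finset.mem_map, Finset.mem_filter, Finset.mem_univ, true_and,
    Function.Embedding.coeFn_mk, mem_orb, mem_pairStab hM (S.subtype hSH)]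
  constructor
  · rintro ⟨_, ⟨t, ht, rfl⟩, rfl⟩
    obtain ⟨φ, hφ, h⟩ := act_of_mem S H hSH F hF ht
    exact ⟨φ v, ⟨φ, hφ, rfl⟩, (h v).trans rfl⟩
  · rintro ⟨_, ⟨φ, hφ, rfl⟩, rfl⟩
    obtain ⟨t, ht, h⟩ := mem_of_act S H hSH F hF hφ
    exact ⟨_, ⟨t, ht, rfl⟩, (h v).symm⟩

omit hM in
/-- Free elements. -/
theorem free_fix {v : PS} (hv : st F v = ⊥) : ∀ t ∈ Subgroup.normalizer (PH : Set H),
    t * ((lift S H hSH v : PH) : H) * t⁻¹ = ((lift S H hSH v : PH) : H) →
      t ∈ Subgroup.centralizer (PH : Set H) := by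
  intro t ht htv
  obtain ⟨φ, hφ, h⟩ := act_of_mem S H hSH F hF ht
  have hmem : φ ∈ st F v := ⟨hφ, Subtype.ext ((h v).trans (congrArg Subtype.val htv))⟩
  rw [hv, Subgroup.mem_bot] at hmem
  rw [Subgroup.mem_centralizer_iff]
  intro x hx
  have h2 := h ⟨x, hx⟩
  rw [hmem] at h2
  refine Subtype.ext ?_
  show (x : G) * (t : G) = (t : G) * (x : G)
  exact mul_inv_eq_iff_eq_mul.1 h2.symm |>.symm

omit hM hF in
theorem rho_centralizer (v : PS) :
    rho p ((Subgroup.centralizer ({((lift S H hSH v : PH) : H)} : Set H)) : Set H) =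
      rho p ((H : Set G) ∩ (Subgroup.centralizer ({(v : G)} : Set G) : Set G)) := by
  rw [← rho_image]
  congr 1
  ext x
  simp only [Set.mem_image, SetLike.mem_coe, Subgroup.mem_centralizer_singleton_iff, Set.mem_inter_iff]
  constructor
  · rintro ⟨y, hy, rfl⟩
    exact ⟨y.2, congrArg Subtype.val hy⟩
  · rintro ⟨hxH, hx⟩
    exact ⟨⟨x, hxH⟩, Subtype.ext hx, rfl⟩

include hab hSH

/-- **The proportions in the subgroup.** -/
theorem local_sum [Fintype PS] :
    ∑ v : PS, rho p ((H : Set G) ∩ (Subgroup.centralizer ({(v : G)} : Set G) : Set G)) /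
      (Nat.card {u // Orb F v u} : ℚ) = 1 := by
  classical
  have := Fintype.ofFinite PH
  rw [← sum_rho hM (S.subtype hSH) (hab_sub S hab H hSH)]
  refine Fintype.sum_bijective (lift S H hSH) ⟨fun u v h => ?_, fun x => ⟨⟨_, x.2⟩, rfl⟩⟩ _ _
    fun v => ?_
  · exact Subtype.ext (congrArg (fun x : PH => ((x : H) : G)) h)
  · rw [rho_centralizer, orb_card hM S H hSH F hF]

/-- The proportion at a free involution. -/
theorem local_free {v : PS} (hv : st F v = ⊥) (hv2 : v * v = 1) :
    rho p ((H : Set G) ∩ (Subgroup.centralizer ({(v : G)} : Set G) : Set G)) =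
      (Nat.card PS : ℚ)⁻¹ := by
  obtain ⟨-, h, -⟩ := free_rows hM (S.subtype hSH) (hab_sub S hab H hSH)
    (lift S H hSH v).2 (Subtype.ext (congrArg Subtype.val hv2 :)) (free_fix S H hSH F hF hv)
  rw [rho_centralizer] at h
  rw [h, card_lift]

/-- The number of characters in a free element's terms. -/
theorem local_card_le {v : PS} (hv : st F v = ⊥) (hv2 : v * v = 1) :
    ∃ a : IrrCharacter H → ℤ, (∀ χ ∈ principalBlock M H, a χ ≠ 0) ∧
      ∑ χ ∈ (principalBlock M H).toFinite.toFinset, a χ ^ 2 = (Nat.card PS : ℤ) := by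
  obtain ⟨-, -, a, -, ha, -, hsum⟩ := free_rows hM (S.subtype hSH) (hab_sub S hab H hSH)
    (lift S H hSH v).2 (Subtype.ext (congrArg Subtype.val hv2 :)) (free_fix S H hSH F hF hv)
  exact ⟨a, ha, by rw [hsum, card_lift]⟩

/-- The counts when every element is fixed or free. -/
theorem local_counts [Fintype PS] [DecidablePred fun v : PS => ∀ φ ∈ F, φ v = v]
    (h2 : ∀ v : PS, v * v = 1)
    (hdich : ∀ v : PS, (∀ φ ∈ F, φ v = v) ∨ st F v = ⊥) :
    (Nat.card (principalBlock M H) : ℚ) =
      ((Finset.univ.filter fun v : PS => ∀ φ ∈ F, φ v = v).card : ℚ) *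
        (blockRank p (principalBlock M H) : ℚ) +
      ((Finset.univ.filter fun v : PS => ¬ ∀ φ ∈ F, φ v = v).card : ℚ) / (Nat.card F : ℚ) := by
  classical
  have := Fintype.ofFinite PH
  have habH := hab_sub S hab H hSH
  set hmax := isMaximal_principal hM (S.subtype hSH)
  have h := Watanabe.natCard_eq_sum hM hmax habH
  have hterm : ∀ v : PS, rk hM hmax habH (lift S H hSH v) /
      ((orb M PH (principalBlock M (Subgroup.centralizer (PH : Set H)))
        ((lift S H hSH v : PH) : H)).card : ℂ) =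
      ((if ∀ φ ∈ F, φ v = v then (blockRank p (principalBlock M H) : ℚ)
        else (Nat.card F : ℚ)⁻¹ : ℚ) : ℂ) := by
    intro v
    rw [orb_card hM S H hSH F hF]
    have hcard := card_orb_mul F v
    split_ifs with hfix
    · have hst : st F v = F := le_antisymm (st_le F v) fun φ hφ => ⟨hφ, hfix φ hφ⟩
      rw [hst] at hcard
      have h1 : Nat.card {u // Orb F v u} = 1 :=
        Nat.eq_of_mul_eq_mul_right Nat.card_pos (hcard.trans (one_mul _).symm)
      rw [h1, Nat.cast_one, div_one, Rat.cast_natCast]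
      have hT : ∀ t ∈ pairStab M PH (principalBlock M (Subgroup.centralizer (PH : Set H))),
          t * ((lift S H hSH v : PH) : H) * t⁻¹ = ((lift S H hSH v : PH) : H) := by
        intro t ht
        obtain ⟨φ, hφ, hw⟩ := act_of_mem S H hSH F hF ((mem_pairStab hM (S.subtype hSH)).1 ht)
        refine Subtype.ext ?_
        show (t : G) * (v : G) * (t : G)⁻¹ = (v : G)
        rw [← hw v, hfix φ hφ]
      obtain ⟨-, hin, -⟩ := Watanabe.blk_in hM hmax habH (lift S H hSH v).2
      show ((blockRank p (blk hM hmax habH (lift S H hSH v).2) : ℕ) : ℂ) = _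
      rw [(Watanabe.main p M hM _ H rfl _ _ _ hmax habH _ (lift S H hSH v).2 hT _ hin).1]
    · have hv := (hdich v).resolve_left hfix
      rw [hv, Subgroup.card_bot, mul_one] at hcard
      obtain ⟨hrk, -⟩ := free_rows hM (S.subtype hSH) habH (lift S H hSH v).2
        (Subtype.ext (congrArg Subtype.val (h2 v) :)) (free_fix S H hSH F hF hv)
      rw [hcard, show rk hM hmax habH (lift S H hSH v) = 1 from hrk, one_div]
      push_cast
      rfl
  have hsum := Fintype.sum_bijective (lift S H hSH)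
    ⟨fun u v h => Subtype.ext (congrArg (fun x : PH => ((x : H) : G)) h), fun x => ⟨⟨_, x.2⟩, rfl⟩⟩
    (fun v : PS => ((if ∀ φ ∈ F, φ v = v then (blockRank p (principalBlock M H) : ℚ)
      else (Nat.card F : ℚ)⁻¹ : ℚ) : ℂ))
    (fun x : PH => rk hM hmax habH x /
      ((orb M PH (principalBlock M (Subgroup.centralizer (PH : Set H))) (x : H)).card : ℂ))
    (fun v => (hterm v).symm)
  replace h := (h.trans (Finset.sum_congr (Finset.ext fun x =>
    iff_of_true (@Finset.mem_univ _ (_) x) (@Finset.mem_univ _ (_) x)) fun _ _ => rfl)).trans hsum.symm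
  rw [← Rat.cast_sum, Finset.sum_ite, Finset.sum_const,
    Finset.sum_const, nsmul_eq_mul, nsmul_eq_mul, ← Rat.cast_natCast] at h
  rw [Rat.cast_inj.1 h, div_eq_mul_inv]

end CfsgLib.BlockA.NineLocal
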