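import Cfsg.Agent.Lib.BlockA.RankGapOne
import Cfsg.Agent.Lib.BlockA.RankAddCard
import Cfsg.Agent.Lib.BlockA.AbelianTrace
import Cfsg.Agent.Lib.BlockA.TwoChars
import Cfsg.Agent.Lib.BlockA.RankOneSmall
import Cfsg.Agent.Lib.BlockA.NormalBlock
import Cfsg.Agent.Lib.BlockA.BlockFusion
import Cfsg.Agent.Lib.Block.NormalDefect
import Cfsg.Agent.Lib.Block.CentralDefect
import Cfsg.Agent.Lib.BlockB.InduceConstituent
import Cfsg.Agent.Lib.Clifford.RegularCosets
import Cfsg.Agent.Lib.Linear.RegularTwoClass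
import Cfsg.Agent.Lib.Char.CliffordApps

/-!
A block with normal abelian defect group and at most three characters, all of height zero, has a
defect group of order at most three.
-/

set_option autoImplicit false
set_option linter.unusedSectionVars false
set_option maxHeartbeats 1000000

namespace CfsgLib.BlockA.NormalThree

open Cfsg CfsgLib.Block CfsgLib.BlockA MonoidAlgebra
open CfsgLib.BlockA.AbelianTrace (carriers mem_carriers card_carriers mem_orb)
open scoped ComplexConjugate

universe u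

variable {G : Type u} [Group G] [Fintype G] {p : ℕ} [hp : Fact p.Prime] {M : Ideal AlgInt}
  [M.IsPrime] (hM : IsPModular p M) {B : Set (IrrCharacter G)} {A : Subgroup G} [hAn : A.Normal]
  {e : Set (IrrCharacter (Subgroup.centralizer (A : Set G)))}
  (hmax : IsMaximalBrauerPair p M B A e) (hab : ∀ v ∈ A, ∀ w ∈ A, v * w = w * v)

local notation "cenA" => Subgroup.centralizer (A : Set G)

/-- The linear form of the theorem on coprime transitive groups with two regular classes. -/
theorem natCard_eq_three_of_addAction {V : Type u} [AddCommGroup V] [Finite V] [Nontrivial V]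
    {E : Type u} [Group E] [Finite E] (hp2 : p ≠ 2) (hexp : ∀ a : V, p • a = 0)
    (φ : E → V ≃+ V) (hmul : ∀ s t v, φ (s * t) v = φ s (φ t v))
    (hφ : ∀ g, (∀ v, φ g v = v) → g = 1) (hpE : ¬ p ∣ Nat.card E)
    (htrans : ∀ v w : V, v ≠ 0 → w ≠ 0 → ∃ g : E, φ g v = w)
    (hreg : ∀ f g : E, f ≠ 1 → g ≠ 1 → IsCyclic (Subgroup.centralizer ({f} : Set E)) →
      IsCyclic (Subgroup.centralizer ({g} : Set E)) → IsConj f g)
    (hsq : ∃ a b : ℕ, Nat.card E = a ^ 2 + b ^ 2) : Nat.card V = 3 := by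
  let _ : Module (ZMod p) V := AddCommGroup.zmodModule (n := p) hexp
  have hone : ∀ v, φ 1 v = v := fun v => (φ 1).injective (by rw [← hmul, one_mul])
  let ρ : E →* (V ≃ₗ[ZMod p] V) :=
    { toFun := fun g => (φ g).toLinearEquiv fun c x => ZMod.map_smul (φ g).toAddMonoidHom c x
      map_one' := LinearEquiv.ext fun v => hone v
      map_mul' := fun s t => LinearEquiv.ext fun v => hmul s t v }
  have hρ : Function.Injective ρ := (injective_iff_map_eq_one ρ).2 fun g hg =>
    hφ g fun v => LinearEquiv.congr_fun hg v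
  exact CfsgLib.Linear.RegularTwoClass.natCard_eq_three (ρ := ρ) hp2 hρ hpE htrans hreg hsq

/-- The multiplicative form. -/
theorem natCard_eq_three_of_action {W : Type u} [CommGroup W] [Finite W] [Nontrivial W]
    {E : Type u} [Group E] [Finite E] (hp2 : p ≠ 2) (hexp : ∀ a : W, a ^ p = 1)
    (φ : E →* MulAut W) (hφ : Function.Injective φ) (hpE : ¬ p ∣ Nat.card E)
    (htrans : ∀ v w : W, v ≠ 1 → w ≠ 1 → ∃ g : E, φ g v = w)
    (hreg : ∀ f g : E, f ≠ 1 → g ≠ 1 → IsCyclic (Subgroup.centralizer ({f} : Set E)) →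
      IsCyclic (Subgroup.centralizer ({g} : Set E)) → IsConj f g)
    (hsq : ∃ a b : ℕ, Nat.card E = a ^ 2 + b ^ 2) : Nat.card W = 3 := by
  rw [← Nat.card_congr (Additive.toMul (α := W))]
  refine natCard_eq_three_of_addAction hp2
    (fun a => by rw [← ofMul_toMul a, ← ofMul_pow, hexp, ofMul_one])
    (fun g => MulEquiv.toAdditive (φ g))
    (fun s t v => congrArg Additive.ofMul (by rw [map_mul]; rfl :
      φ (s * t) (Additive.toMul v) = φ s (φ t (Additive.toMul v))))
    (fun g hg => hφ (MulEquiv.ext fun w => by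
      rw [map_one]
      exact congrArg Additive.toMul (hg (Additive.ofMul w))))
    hpE (fun v w hv hw => ?_) hreg hsq
  obtain ⟨g, hg⟩ := htrans (Additive.toMul v) (Additive.toMul w)
    (fun h => hv (Additive.toMul.injective h)) (fun h => hw (Additive.toMul.injective h))
  exact ⟨g, Additive.toMul.injective hg⟩

/-- A character with the trivial constituent on a normal subgroup is trivial on it. -/
theorem trivial_or (N : Subgroup G) [N.Normal] [Fintype N] (χ : IrrCharacter G)
    (h : classInner (fun n : N => (χ : G → ℂ) n) (fun _ : N => (1 : ℂ)) ≠ 0) :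
    ∀ a ∈ N, (χ : G → ℂ) a = (χ : G → ℂ) 1 := by
  intro a ha
  have h1 := CfsgLib.Clifford.restrict_eq_smul_of_invariant (N := N) χ.2
    (θ := fun _ : N => (1 : ℂ)) (trivIrr (G := N)).2 (fun g => rfl) h
  have ha' := congr_fun h1 ⟨a, ha⟩
  have h1' := congr_fun h1 1
  simp only [Pi.smul_apply, Subgroup.coe_one] at ha' h1'
  rw [ha', h1']

include hM hmax hab

theorem le_cen : A ≤ cenA := fun a ha =>
  Subgroup.mem_centralizer_iff.2 fun w hw => hab w hw a ha

theorem defect_cen : IsDefectGroup p M e (A.subgroupOf cenA) := by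
  have he := hmax.1.1
  have hF := isBlockFusionSystemOn_blockFusion hM hmax
  have h := (inf_isDefectGroup_iff hM (isBlockOver_cen he.2) le_rfl (centralizer_le_pairStab A e)
    he Relation.ReflTransGen.refl).2
    ((fullyCentralized_iff hM hF Relation.ReflTransGen.refl).1 ⟨le_rfl, fun R _ => by
      refine le_trans (Nat.le_of_dvd Nat.card_pos (Subgroup.card_dvd_of_le inf_le_left)) ?_
      exact le_of_eq (congrArg (fun H : Subgroup G => Nat.card H)
        (inf_eq_left.2 (le_cen hM hmax hab)).symm)⟩)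
  rwa [inf_eq_left.2 (le_cen hM hmax hab)] at h

theorem sup_cen : A.subgroupOf cenA ⊔ Subgroup.centralizer ((A.subgroupOf cenA : Subgroup cenA) :
    Set cenA) = ⊤ := by
  refine eq_top_iff.2 fun c _ => Subgroup.mem_sup_right (Subgroup.mem_centralizer_iff.2 fun w hw => ?_)
  exact Subtype.ext (Subgroup.mem_centralizer_iff.1 c.2 (w : G) hw)

/-- The canonical character. -/
theorem exists_theta : ∃ θ ∈ e, (∀ u : cenA, (u : G) ∈ A → (θ : cenA → ℂ) u = (θ : cenA → ℂ) 1) ∧
    ∀ η ∈ e, (∀ u : cenA, (u : G) ∈ A → (η : cenA → ℂ) u = (η : cenA → ℂ) 1) → η = θ := by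
  classical
  have hD := defect_cen hM hmax hab
  have hG := sup_cen hM hmax hab
  have := Fintype.ofFinite (A.subgroupOf cenA)
  obtain ⟨θ, hθ, hθc⟩ := (pConst_surjOn hG hM hmax.1.1.2 hD).1 (trivIrr (G := A.subgroupOf cenA))
  refine ⟨θ, hθ, fun u hu => ?_, fun η hη hηA => ?_⟩
  · have h1 := apply_coe_eq_pMult hG θ ⟨u, hu⟩
    rw [hθc] at h1
    rw [apply_one_eq_pMult hG θ, hθc]
    exact h1
  · refine pConst_injOn hG hM hmax.1.1.2 hD hη hθ ?_
    rw [hθc]
    have hm : (pMult hG η : ℂ) ≠ 0 := by exact_mod_cast (pMult_pos hG η).ne'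
    have hconst : ∀ u, (pConst hG η : A.subgroupOf cenA → ℂ) u =
        (pConst hG η : A.subgroupOf cenA → ℂ) 1 := fun u => by
      have h1 := apply_coe_eq_pMult hG η u
      rw [hηA u u.2, apply_one_eq_pMult hG η] at h1
      exact (mul_left_cancel₀ hm h1).symm
    by_contra hne
    have h := CfsgLib.Char.irr_classInner_ne (pConst hG η).2 (trivIrr (G := A.subgroupOf cenA)).2
      fun h => hne (Subtype.ext h)
    rw [CfsgLib.Char.classInner_def, Finset.sum_congr rfl
      (g := fun _ => (pConst hG η : A.subgroupOf cenA → ℂ) 1) fun u _ => by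
        rw [hconst u]; simp [trivIrr], Finset.sum_const, Finset.card_univ, nsmul_eq_mul,
      ← Nat.card_eq_fintype_card, inv_mul_cancel_left₀ CfsgLib.Char.natCard_ne_zero] at h
    exact CfsgLib.Char.irr_apply_one_ne_zero (pConst hG η).2 h

omit hab in
/-- Characters over the block of the centralizer lie in the block. -/
theorem mem_of_over [Fintype cenA] {χ : IrrCharacter G} {η : IrrCharacter cenA} (hη : η ∈ e)
    (h : classInner (fun c : cenA => (χ : G → ℂ) c) (η : cenA → ℂ) ≠ 0) : χ ∈ B := by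
  have hB : IsPBlock M B := hmax.1.2.1
  have hAp : IsPGroup p A := hmax.1.1.1
  refine (algHom_blkIdem_eq_one_iff hM hB χ).1 ?_
  rw [lam_eq_lam_resZ h _ fun x hx => by
    by_contra h'
    exact hx (mem_centralizer_of_coeff_blkIdem_ne_zero hM hAp hB h')]
  have h1 := (isBrauerPairOf_iff hM hmax.1.1 hB hη).1 hmax.1
  rw [pairVal_eq η (isCInv_of_isClassCoeff (isClassCoeff_center (blkIdem M B)))] at h1
  exact h1

/-- The stabilizer of the block is the inertia group of the canonical character. -/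
theorem inertia_eq [Fintype cenA] {θ : IrrCharacter cenA} (hθ : θ ∈ e)
    (hA : ∀ u : cenA, (u : G) ∈ A → (θ : cenA → ℂ) u = (θ : cenA → ℂ) 1)
    (huniq : ∀ η ∈ e, (∀ u : cenA, (u : G) ∈ A → (η : cenA → ℂ) u = (η : cenA → ℂ) 1) → η = θ)
    (g : G) : g ∈ pairStab M A e ↔ CfsgLib.Clifford.conjFn g (θ : cenA → ℂ) = θ := by
  have hgn : g ∈ Subgroup.normalizer (A : Set G) := by
    rw [Subgroup.normalizer_eq_top]; exact Subgroup.mem_top g
  have hfix : ∀ x : G, CfsgLib.Clifford.conjFn x (θ : cenA → ℂ) = θ ↔ conjIrr cenA θ x = θ :=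
    fun x => ⟨fun h => Subtype.ext h, fun h => congrArg Subtype.val h⟩
  have hmem : ∀ x : G, conjIrr cenA θ x ∈ e → conjIrr cenA θ x = θ := fun x hx =>
    huniq _ hx fun u hu => by
      rw [conjIrr_apply, conjIrr_apply, hA _ (hAn.conj_mem _ hu x)]
      exact congrArg (θ : cenA → ℂ) (Subtype.ext (by simp))
  have hst : g ∈ pairStab M A e ↔ StabilizesBlock cenA e g := by
    rw [stabilizesBlock_iff_coeff hM hmax.1.1.2 hgn]
    exact ⟨fun h => h.2, fun h => ⟨hgn, h⟩⟩
  rw [hst, hfix]
  constructor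
  · intro h
    have h' : ∀ y : G, StabilizesBlock cenA e y → conjIrr cenA θ y⁻¹ = θ := by
      intro y hy
      obtain ⟨η, hη, hη'⟩ := (stabilizesBlock_iff_conjIrr hmax.1.1.2 y).1 hy
      exact hmem _ (mem_of_sameBlock hmax.1.1.2 hη'
        (sameBlock_conjIrr (sameBlock_of_mem hmax.1.1.2 hη hθ) y⁻¹))
    have h1 := h' g h
    calc conjIrr cenA θ g = conjIrr cenA (conjIrr cenA θ g⁻¹) g := by rw [h1]
      _ = θ := by
        refine Subtype.ext (funext fun n => ?_)
        rw [conjIrr_apply, conjIrr_apply]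
        exact congrArg (θ : cenA → ℂ) (Subtype.ext (by simp [mul_assoc]))
  · intro h
    refine (stabilizesBlock_iff_conjIrr hmax.1.1.2 g).2 ⟨θ, hθ, ?_⟩
    have e1 : conjIrr cenA θ g⁻¹ = θ := by
      conv_lhs => rw [← h]
      refine Subtype.ext (funext fun n => ?_)
      rw [conjIrr_apply, conjIrr_apply]
      exact congrArg (θ : cenA → ℂ) (Subtype.ext (by simp [mul_assoc]))
    rw [e1]; exact hθ

/-- **The theorem.** -/
theorem natCard_le_three
    (hht : ∀ χ ∈ B, (charDegree (χ : G → ℂ)).factorization p = A.index.factorization p)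
    (hk : Nat.card B ≤ 3) : Nat.card A ≤ 3 := by
  classical
  have hB : IsPBlock M B := hmax.1.2.1
  have hAp : IsPGroup p A := hmax.1.1.1
  have hD : IsDefectGroup p M B A := (maximal_core hM hmax).1
  have hcardA := natCard_defectGroup hM hB hD
  by_contra h3
  have hA1 : ∃ a ∈ A, a ≠ 1 := by
    by_contra h
    push Not at h
    have : A = ⊥ := (Subgroup.eq_bot_iff_forall A).2 h
    rw [this, Subgroup.card_bot] at h3
    omega
  obtain ⟨a₀, ha₀, ha₀1⟩ := hA1
  have hl1 : 1 ≤ blockRank p B := one_le_blockRank hM hB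
  have hle1 : blockRank p B + 1 ≤ Nat.card B := by
    have := RankAddCard.rank_add_card_le hM hmax {a₀}
      (fun w hw => by rw [Finset.mem_singleton.1 hw]; exact ⟨ha₀, ha₀1⟩)
      fun w hw w' hw' _ _ _ => by rw [Finset.mem_singleton.1 hw, Finset.mem_singleton.1 hw']
    simpa using this
  have hk3 : Nat.card B = 3 := by
    by_contra hne
    have h2 : Nat.card B = 2 := by omega
    rw [hcardA, (card_two_iff hM hB).1 h2] at h3
    omega
  have hl : blockRank p B = 2 := by
    by_contra hne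
    have h1 : blockRank p B = 1 := by omega
    rw [hcardA, ← RankOneSmall.card_eq_pow_defect hM hB h1 (by omega), hk3] at h3
    omega
  -- transitivity
  have htrans : ∀ v ∈ A, v ≠ 1 → ∀ w ∈ A, w ≠ 1 → ∃ t ∈ pairStab M A e, t * v * t⁻¹ = w := by
    intro v hv hv1 w hw hw1
    by_contra hno
    push Not at hno
    have hvw : v ≠ w := fun h => hno 1 (one_mem _) (by simp [h])
    have hle := RankAddCard.rank_add_card_le hM hmax {v, w} (fun a ha => by
        rw [Finset.mem_insert, Finset.mem_singleton] at ha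
        rcases ha with rfl | rfl
        exacts [⟨hv, hv1⟩, ⟨hw, hw1⟩])
      fun a ha b hb g hg hβ => by
        have hmA : ∀ x ∈ ({v, w} : Finset G), x ∈ A := fun x hx => by
          rw [Finset.mem_insert, Finset.mem_singleton] at hx
          rcases hx with rfl | rfl <;> assumption
        have h1 : ((1 : G), (⟨b, hmA b hb⟩ : A)) ∈
            carriers hM hmax b (AbelianSub.beta hM hmax b) :=
          (mem_carriers hM hmax hab).2 ⟨by simp, by funext k; simp [CfsgLib.BlockB.SubSum.conjFun]⟩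
        have h2 : (g, (⟨a, hmA a ha⟩ : A)) ∈ carriers hM hmax b (AbelianSub.beta hM hmax b) :=
          (mem_carriers hM hmax hab).2 ⟨hg, hβ⟩
        obtain ⟨t, ht, hte⟩ := mem_orb.1 ((card_carriers hM hmax hab h1).2 _ h2)
        simp only at hte
        rw [Finset.mem_insert, Finset.mem_singleton] at ha hb
        rcases ha with rfl | rfl <;> rcases hb with rfl | rfl
        exacts [rfl, absurd (by rw [← hte]; group : t⁻¹ * a * t⁻¹⁻¹ = b) (hno _ (inv_mem ht)),
          absurd hte (hno t ht), rfl]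
    rw [Finset.card_pair hvw] at hle
    omega
  obtain ⟨θ, hθ, hθA, huniq⟩ := exists_theta hM hmax hab
  have := Fintype.ofFinite cenA
  have := Fintype.ofFinite A
  set T := pairStab M A e with hTdef
  have hT : ∀ g, g ∈ T ↔ CfsgLib.Clifford.conjFn g (θ : cenA → ℂ) = θ :=
    inertia_eq hM hmax hab hθ hθA huniq
  -- the members trivial on `A`
  set T₀ : Finset (IrrCharacter G) := B.toFinite.toFinset.filter
    (fun χ : IrrCharacter G => ∀ a ∈ A, (χ : G → ℂ) a = (χ : G → ℂ) 1) with hT₀
  set T₁ : Finset (IrrCharacter G) := B.toFinite.toFinset.filter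
    (fun χ : IrrCharacter G => ¬ ∀ a ∈ A, (χ : G → ℂ) a = (χ : G → ℂ) 1) with hT₁
  have hsplit : T₀.card + T₁.card = 3 := by
    rw [hT₀, hT₁, Finset.card_filter_add_card_filter_not, ← Nat.card_eq_card_finite_toFinset, hk3]
  have horth : ∑ χ ∈ B.toFinite.toFinset,
      (χ : G → ℂ) 1 * conj ((χ : G → ℂ) a₀) = 0 := by
    have h := sum_block_eq_zero_of_regular_singular hM hB (g := 1) (h := a₀)
      (by rw [orderOf_one]; exact hp.out.not_dvd_one) (by
        obtain ⟨k, hk'⟩ := IsPGroup.iff_orderOf.1 hAp ⟨a₀, ha₀⟩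
        rw [Subgroup.orderOf_mk] at hk'
        rw [hk']
        refine dvd_pow_self p ?_
        rintro rfl
        exact ha₀1 (orderOf_eq_one_iff.1 (by rwa [pow_zero] at hk')))
    rwa [finsum_mem_eq_finite_toFinset_sum _ B.toFinite] at h
  have hT₁ne : 1 ≤ T₁.card := by
    by_contra h
    have h0 : T₁ = ∅ := Finset.card_eq_zero.1 (by omega)
    have hsum : ∑ χ ∈ B.toFinite.toFinset, ((charDegree (χ : G → ℂ) ^ 2 : ℕ) : ℂ) = 0 := by
      rw [← horth]
      refine Finset.sum_congr rfl fun χ hχ => ?_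
      have : ∀ a ∈ A, (χ : G → ℂ) a = (χ : G → ℂ) 1 := by
        by_contra hn
        have : χ ∈ T₁ := Finset.mem_filter.2 ⟨hχ, hn⟩
        simp [h0] at this
      rw [this a₀ ha₀, ← CfsgLib.BlockB.irr_degree_cast χ, Complex.conj_natCast]
      push_cast; ring
    rw [← Nat.cast_sum, Nat.cast_eq_zero, Finset.sum_eq_zero_iff] at hsum
    obtain ⟨χ, hχ⟩ := isPBlock_nonempty hB
    have := hsum χ (B.toFinite.mem_toFinset.2 hχ)
    exact charDegree_ne_zero χ.2 (eq_zero_of_pow_eq_zero this)
  -- an exponent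
  have hexp : ∀ a ∈ A, a ^ p = 1 :=
    RankGapOne.pow_eq_one_of_isConj hAp fun v w hv hv1 hw hw1 => by
      obtain ⟨t, -, ht⟩ := htrans v hv hv1 w hw hw1
      exact isConj_iff.2 ⟨t, ht⟩
  rcases eq_or_ne p 2 with rfl | hp2
  · -- parity
    have hq : ∃ m : ℕ, Nat.card A = 2 * m + 4 := by
      obtain ⟨k, hk'⟩ := IsPGroup.iff_card.1 hAp
      refine ⟨(Nat.card A - 4) / 2, ?_⟩
      have : 2 ∣ Nat.card A := hk' ▸ dvd_pow_self 2 (by rintro rfl; rw [pow_zero] at hk'; omega)
      omega
    obtain ⟨m, hm⟩ := hq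
    have hval : ∀ χ ∈ T₁, ((Nat.card A : ℂ) - 1) * (χ : G → ℂ) a₀ = - (χ : G → ℂ) 1 := by
      intro χ hχ
      have hn := (Finset.mem_filter.1 hχ).2
      have h0 : classInner (fun n : A => (χ : G → ℂ) n) (fun _ : A => (1 : ℂ)) = 0 := by
        by_contra h
        exact hn (trivial_or A χ h)
      rw [CfsgLib.Char.classInner_def, mul_eq_zero] at h0
      have h1 := h0.resolve_left (inv_ne_zero CfsgLib.Char.natCard_ne_zero)
      rw [← Finset.add_sum_erase _ _ (Finset.mem_univ (1 : A)), Finset.sum_congr rfl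
        (g := fun _ => (χ : G → ℂ) a₀) fun a ha => by
          obtain ⟨t, -, ht⟩ := htrans a₀ ha₀ ha₀1 a a.2
            fun h => (Finset.mem_erase.1 ha).1 (Subtype.ext h)
          rw [← ht, map_one, mul_one]
          exact CfsgLib.Char.irr_isClassFunction χ.2 a₀ t,
        Finset.sum_const, Finset.card_erase_of_mem (Finset.mem_univ _), Finset.card_univ,
        ← Nat.card_eq_fintype_card, nsmul_eq_mul, Nat.cast_sub (by omega), map_one, mul_one,
        Subgroup.coe_one] at h1
      push_cast at h1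
      linear_combination h1
    have key : ((Nat.card A - 1) * ∑ χ ∈ T₀, charDegree (χ : G → ℂ) ^ 2 : ℕ) =
        ∑ χ ∈ T₁, charDegree (χ : G → ℂ) ^ 2 := by
      have h1 := horth
      rw [← Finset.sum_filter_add_sum_filter_not _
        (fun χ : IrrCharacter G => ∀ a ∈ A, (χ : G → ℂ) a = (χ : G → ℂ) 1)] at h1
      have h2 := congrArg (fun z : ℂ => ((Nat.card A : ℂ) - 1) * z) h1
      simp only [mul_zero, mul_add, Finset.mul_sum] at h2
      rw [Finset.sum_congr rfl (g := fun χ : IrrCharacter G =>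
          ((Nat.card A : ℂ) - 1) * (charDegree (χ : G → ℂ) : ℂ) ^ 2) fun χ hχ => by
          rw [(Finset.mem_filter.1 hχ).2 a₀ ha₀, ← CfsgLib.BlockB.irr_degree_cast χ,
            Complex.conj_natCast]; ring,
        Finset.sum_congr rfl (s₁ := Finset.filter (fun χ : IrrCharacter G =>
            ¬ ∀ a ∈ A, (χ : G → ℂ) a = (χ : G → ℂ) 1) B.toFinite.toFinset)
          (g := fun χ : IrrCharacter G => - (charDegree (χ : G → ℂ) : ℂ) ^ 2) fun χ hχ => by
          have h4 := congrArg (starRingEnd ℂ) (hval χ hχ)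
          rw [map_mul, map_sub, map_one, Complex.conj_natCast, map_neg,
            ← CfsgLib.BlockB.irr_degree_cast χ, Complex.conj_natCast] at h4
          rw [← CfsgLib.BlockB.irr_degree_cast χ, mul_left_comm, h4]; ring,
        Finset.sum_neg_distrib, ← Finset.mul_sum] at h2
      have h3' : (((Nat.card A - 1) * ∑ χ ∈ T₀, charDegree (χ : G → ℂ) ^ 2 : ℕ) : ℂ) =
          ((∑ χ ∈ T₁, charDegree (χ : G → ℂ) ^ 2 : ℕ) : ℂ) := by
        push_cast [Nat.cast_sub (show 1 ≤ Nat.card A from Nat.card_pos)]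
        rw [hT₀, hT₁]
        linear_combination h2
      exact_mod_cast h3'
    have hodd : ∀ χ ∈ B, ∃ o, charDegree (χ : G → ℂ) = 2 ^ A.index.factorization 2 * (2 * o + 1) := by
      intro χ hχ
      have hd := charDegree_ne_zero χ.2
      have h := Nat.not_dvd_ordCompl Nat.prime_two hd
      have h' := Nat.ordProj_mul_ordCompl_eq_self (charDegree (χ : G → ℂ)) 2
      rw [hht χ hχ] at h h'
      refine ⟨charDegree (χ : G → ℂ) / 2 ^ A.index.factorization 2 / 2, ?_⟩
      rw [← h', Nat.mul_div_cancel_left _ (Nat.two_pow_pos _)]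
      congr 1
      omega
    choose! o ho using hodd
    have hsum : ∀ S ⊆ B.toFinite.toFinset, ∃ n, ∑ χ ∈ S, charDegree (χ : G → ℂ) ^ 2 =
        (2 ^ A.index.factorization 2) ^ 2 * (2 * n + S.card) := by
      intro S hS
      refine ⟨∑ χ ∈ S, (2 * o χ ^ 2 + 2 * o χ), ?_⟩
      rw [Finset.card_eq_sum_ones S, Finset.mul_sum, ← Finset.sum_add_distrib, Finset.mul_sum]
      refine Finset.sum_congr rfl fun χ hχ => ?_
      rw [ho χ (B.toFinite.mem_toFinset.1 (hS hχ))]
      ring
    obtain ⟨n₀, h₀⟩ := hsum T₀ (Finset.filter_subset _ _)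
    obtain ⟨n₁, h₁⟩ := hsum T₁ (Finset.filter_subset _ _)
    rw [h₀, h₁, ← mul_left_comm, hm] at key
    have key' := mul_left_cancel₀ (by positivity : (2 ^ A.index.factorization 2 : ℕ) ^ 2 ≠ 0) key
    rw [show 2 * m + 4 - 1 = 2 * m + 3 by omega] at key'
    have he : ((2 * m + 3) * (2 * n₀ + T₀.card)) % 2 = (2 * n₁ + T₁.card) % 2 := by rw [key']
    rw [Nat.mul_mod, Nat.add_mod (2 * m), Nat.add_mod (2 * n₀), Nat.add_mod (2 * n₁)] at he
    simp only [Nat.mul_mod_right, zero_add, Nat.mod_mod] at he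
    omega
  -- the inertia group
  have hCT : cenA ≤ T := centralizer_le_pairStab A e
  set C := (cenA).subgroupOf T with hC
  have := Fintype.ofFinite T
  have := Fintype.ofFinite C
  let ε : C ≃* cenA := Subgroup.subgroupOfEquivOfLe hCT
  set θ' : C → ℂ := fun c => (θ : cenA → ℂ) (ε c) with hθ'def
  have hθ' : IsIrrCharacter C θ' :=
    CfsgLib.Char.isIrrCharacter_comp_surjective θ.2 ε.toMonoidHom ε.surjective
  have hinv : ∀ t : T, CfsgLib.Clifford.conjFn t θ' = θ' := fun t => funext fun c => by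
    refine Eq.trans ?_ (congr_fun ((hT t).1 t.2) (ε c))
    exact congrArg (θ : cenA → ℂ) (Subtype.ext rfl)
  have hover : ∀ ψ : T → ℂ, classInner (fun c : C => ψ c) θ' =
      classInner (fun c : cenA => ψ ⟨(c : G), hCT c.2⟩) (θ : cenA → ℂ) := fun ψ => by
    rw [CfsgLib.Char.classInner_def, CfsgLib.Char.classInner_def, Nat.card_congr ε.toEquiv]
    congr 1
    exact Fintype.sum_equiv ε.toEquiv _ _ fun m => rfl
  set S := {ψ : IrrCharacter T // classInner (fun c : C => (ψ : T → ℂ) c) θ' ≠ 0}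
  have hind : ∀ ψ : S, ∃ χ : IrrCharacter G, (χ : G → ℂ) = indFun T (ψ.1 : T → ℂ) ∧ χ ∈ T₀ := by
    intro ψ
    have h := ψ.2
    rw [hover] at h
    have hirr := CfsgLib.Clifford.indFun_inertia T hCT θ.2 hT ψ.1.2 h
    refine ⟨⟨_, hirr.1⟩, rfl, Finset.mem_filter.2 ⟨B.toFinite.mem_toFinset.2 ?_, fun a ha => ?_⟩⟩
    · refine mem_of_over hM hmax hθ ?_
      show classInner (fun c : cenA => indFun T (ψ.1 : T → ℂ) c) (θ : cenA → ℂ) ≠ 0
      rw [CfsgLib.Clifford.indFun_inertia_restrict T hCT θ.2 hT ψ.1.2 h]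
      exact h
    · show indFun T (ψ.1 : T → ℂ) a = indFun T (ψ.1 : T → ℂ) 1
      have hres := CfsgLib.Clifford.restrict_eq_smul_inertia T hCT θ.2 hT ψ.1.2 h
      rw [CfsgLib.Char.indFun_def, CfsgLib.Char.indFun_def]
      congr 1
      refine Finset.sum_congr rfl fun x _ => ?_
      have hx : x⁻¹ * a * x ∈ A := hAn.conj_mem' a ha x
      rw [show x⁻¹ * 1 * x = 1 by group,
        CfsgLib.Char.extendByZero_of_mem _ (hCT (le_cen hM hmax hab hx)),
        CfsgLib.Char.extendByZero_of_mem _ T.one_mem]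
      have e1 := congr_fun hres ⟨x⁻¹ * a * x, le_cen hM hmax hab hx⟩
      have e2 := congr_fun hres 1
      simp only [Pi.smul_apply] at e1 e2
      rw [hθA ⟨x⁻¹ * a * x, le_cen hM hmax hab hx⟩ hx] at e1
      exact e1.trans e2.symm
  choose χ hχe hχm using hind
  have hcard : Nat.card S ≤ 2 := by
    refine le_trans ?_ (show T₀.card ≤ 2 by omega)
    rw [← Nat.card_eq_finsetCard]
    refine Nat.card_le_card_of_injective (fun ψ => (⟨χ ψ, hχm ψ⟩ : T₀)) fun ψ ψ' h => ?_
    have hχχ : (χ ψ : G → ℂ) = χ ψ' := congrArg (fun x : T₀ => ((x : IrrCharacter G) : G → ℂ)) h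
    rw [hχe, hχe] at hχχ
    have h1 := ψ.2
    have h2 := ψ'.2
    rw [hover] at h1 h2
    refine Subtype.ext (Subtype.ext ((CfsgLib.Clifford.indFun_inertia T hCT θ.2 hT ψ.1.2 h1).2 _
      ψ'.1.2 h2 ?_))
    rw [← hχχ, CfsgLib.Char.irr_classInner_self
      (CfsgLib.Clifford.indFun_inertia T hCT θ.2 hT ψ.1.2 h1).1]
    exact one_ne_zero
  -- the quotient is prime to `p`
  have hpE : ¬ p ∣ Nat.card (T ⧸ C) := by
    have := Fintype.ofFinite (IrrCharacter T)
    choose m hm using fun ψ : IrrCharacter T => CfsgLib.Char.classInner_isCharacter_nat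
      (CfsgLib.Char.isCharacter_restrict (CfsgLib.Char.irr_isCharacter ψ.2) C)
      (CfsgLib.Char.irr_isCharacter hθ')
    have hsum := CfsgLib.Clifford.RegularCosets.sum_sq_eq_index C hθ' hinv hm
    set a := (Nat.card (T ⧸ C)).factorization p with ha
    have hdiv : ∀ ψ : IrrCharacter T, p ^ a ∣ m ψ := by
      intro ψ
      rcases eq_or_ne (m ψ) 0 with h0 | h0
      · rw [h0]; exact dvd_zero _
      have hψ : classInner (fun c : C => (ψ : T → ℂ) c) θ' ≠ 0 := by
        rw [hm]; exact_mod_cast h0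
      set s : S := ⟨ψ, hψ⟩
      have hχB := B.toFinite.mem_toFinset.1 (Finset.mem_filter.1 (hχm s)).1
      have hdeg := hht _ hχB
      rw [show ((χ s : IrrCharacter G) : G → ℂ) = indFun T (ψ : T → ℂ) from hχe s,
        CfsgLib.BlockB.charDegree_indFun T (CfsgLib.Char.irr_isCharacter ψ.2)] at hdeg
      have hres := congr_fun (CfsgLib.Clifford.restrict_eq_smul_of_invariant (N := C) ψ.2 hθ' hinv hψ) 1
      rw [hm] at hres
      simp only [Subgroup.coe_one, Pi.smul_apply, smul_eq_mul, hθ'def, map_one] at hres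
      have hθd : charDegree (θ : cenA → ℂ) ∣ (A.subgroupOf cenA).index := by
        obtain ⟨n, ρ, hρ, hρe⟩ := θ.2
        have : (A.subgroupOf cenA).Normal := Subgroup.Normal.subgroupOf hAn _
        have h := CfsgLib.Char.ito_degree_dvd_index ρ (A.subgroupOf cenA)
          fun x hx y hy => Subtype.ext (hab _ hx _ hy)
        have e1 : charDegree (θ : cenA → ℂ) = Module.finrank ℂ (Fin n → ℂ) := by
          apply Nat.cast_injective (R := ℂ)
          rw [CfsgLib.Block.charDegree_cast (CfsgLib.Char.irr_isCharacter θ.2), ← hρe,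
            Representation.char_one]
        rwa [e1]
      have hψd : charDegree (ψ : T → ℂ) = m ψ * charDegree (θ : cenA → ℂ) := by
        apply Nat.cast_injective (R := ℂ)
        rw [Nat.cast_mul, CfsgLib.BlockB.irr_degree_cast, CfsgLib.BlockB.irr_degree_cast, hres]
      have hindex : A.index = T.index * (C.index * (A.subgroupOf cenA).index) := by
        rw [← Subgroup.relIndex_mul_index (show A ≤ cenA from le_cen hM hmax hab),
          ← Subgroup.relIndex_mul_index hCT]
        show (A.subgroupOf cenA).index * (C.index * T.index) = _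
        ring
      have hd0 : charDegree (θ : cenA → ℂ) ≠ 0 := charDegree_ne_zero θ.2
      have hi0 : ∀ {X : Type u} [Group X] [Finite X] (H : Subgroup X), H.index ≠ 0 :=
        fun H => Subgroup.index_ne_zero_of_finite
      rw [hψd, hindex, Nat.factorization_mul (hi0 _) (mul_ne_zero h0 hd0),
        Nat.factorization_mul h0 hd0, Nat.factorization_mul (hi0 _) (mul_ne_zero (hi0 _) (hi0 _)),
        Nat.factorization_mul (hi0 _) (hi0 _)] at hdeg
      simp only [Finsupp.add_apply] at hdeg
      have hθle : (charDegree (θ : cenA → ℂ)).factorization p ≤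
          (A.subgroupOf cenA).index.factorization p :=
        (Nat.factorization_le_iff_dvd hd0 (hi0 _)).2 hθd p
      rw [hp.out.pow_dvd_iff_le_factorization h0, ha, ← Subgroup.index_eq_card]
      omega
    have h2a : p ^ (2 * a) ∣ Nat.card (T ⧸ C) := by
      rw [← hsum]
      refine Finset.dvd_sum fun ψ _ => ?_
      rw [mul_comm, pow_mul]
      exact pow_dvd_pow_of_dvd (hdiv ψ) 2
    have := (hp.out.pow_dvd_iff_le_factorization Nat.card_pos.ne').1 h2a
    intro hdvd
    have := hp.out.factorization_pos_of_dvd Nat.card_pos.ne' hdvd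
    omega
  -- the linear group
  let _ : CommGroup A := { (inferInstance : Group A) with
    mul_comm := fun a b => Subtype.ext (hab a a.2 b b.2) }
  let act : T →* MulAut A := (MulAut.conjNormal (H := A)).comp T.subtype
  have hact : ∀ (t : T) (x : A), ((act t x : A) : G) = t * (x : G) * (t : G)⁻¹ :=
    fun _ _ => rfl
  have hker : C ≤ act.ker := fun t ht => MulEquiv.ext fun x => Subtype.ext (by
    rw [hact]
    show (t : G) * (x : G) * (t : G)⁻¹ = (x : G)
    exact mul_inv_eq_iff_eq_mul.2 (Subgroup.mem_centralizer_iff.1 ht _ x.2).symm)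
  have hφ : Function.Injective (QuotientGroup.lift C act hker) := by
    refine (injective_iff_map_eq_one _).2 fun x => ?_
    obtain ⟨t, rfl⟩ := QuotientGroup.mk_surjective x
    intro h
    refine (QuotientGroup.eq_one_iff t).2 (Subgroup.mem_centralizer_iff.2 fun a ha => ?_)
    have h' : ((act t ⟨a, ha⟩ : A) : G) = a :=
      congrArg (fun f : MulAut A => ((f ⟨a, ha⟩ : A) : G)) h
    rw [hact] at h'
    exact (mul_inv_eq_iff_eq_mul.1 h').symm
  have : Nontrivial A := ⟨⟨⟨a₀, ha₀⟩, 1, fun h => ha₀1 (congrArg Subtype.val h)⟩⟩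
  have h := natCard_eq_three_of_action hp2 (fun a : A => Subtype.ext (hexp _ a.2))
    (QuotientGroup.lift C act hker) hφ hpE (fun v w hv hw => by
      obtain ⟨t, ht, hte⟩ := htrans _ v.2 (fun h => hv (Subtype.ext h)) _ w.2
        (fun h => hw (Subtype.ext h))
      exact ⟨((⟨t, ht⟩ : T) : T ⧸ C), Subtype.ext hte⟩)
    (fun f g hf hg hfc hgc =>
      CfsgLib.Clifford.RegularCosets.isConj_of_two C hθ' hinv hcard hf hg hfc hgc)
    (CfsgLib.Clifford.RegularCosets.exists_two_squares C hθ' hinv hcard)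
  omega

end CfsgLib.BlockA.NormalThree
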