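import Cfsg.Agent.Lib.BlockA.SqComm
import Cfsg.Agent.Lib.Invol.GLTwoTypes
import Cfsg.Agent.Lib.Classical.SLOrder
import Cfsg.Agent.Lib.Classical.AltOrder
import Cfsg.Agent.Lib.Geom.Symp
import Mathlib

/-! Sylow `2`-subgroups of symplectic and special linear groups: squares are commutators. -/

set_option autoImplicit false
set_option linter.unusedSectionVars false
set_option maxHeartbeats 1000000

namespace CfsgLib.BlockA.SylowSquares

open Matrix CfsgLib.BlockA.SqComm

universe u

variable {F : Type u} [Field F] {m : ℕ}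

local notation "G2" => GL (Fin 2) F
local notation "Blk" => Matrix (Fin 2 × Fin m) (Fin 2 × Fin m) F

/-- Block diagonal elements. -/
def diagHom : (Fin m → G2) →* GL (Fin 2 × Fin m) F :=
  (Units.map (Matrix.blockDiagonalRingHom (Fin 2) (Fin m) F).toMonoidHom).comp
    MulEquiv.piUnits.symm.toMonoidHom

theorem coe_diagHom (d : Fin m → G2) :
    (diagHom d : Blk) = Matrix.blockDiagonal fun i => (d i : Matrix (Fin 2) (Fin 2) F) := rfl

/-- Permutation of the blocks. -/
def pmat (σ : Equiv.Perm (Fin m)) : Blk :=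
  Matrix.of fun r c => if r = (c.1, σ c.2) then 1 else 0

theorem mul_pmat_apply (A : Blk) (σ : Equiv.Perm (Fin m)) (r c : Fin 2 × Fin m) :
    (A * (pmat σ : Blk)) r c = A r (c.1, σ c.2) := by
  simp [Matrix.mul_apply, pmat]

theorem pmat_mul_apply (A : Blk) (σ : Equiv.Perm (Fin m)) (r c : Fin 2 × Fin m) :
    ((pmat σ : Blk) * A) r c = A (r.1, σ.symm r.2) c := by
  rw [Matrix.mul_apply, Finset.sum_eq_single (r.1, σ.symm r.2)]
  · simp [pmat]
  · intro b _ hb
    simp only [pmat, Matrix.of_apply]
    rw [if_neg, zero_mul]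
    intro h
    apply hb
    rw [h]
    simp
  · simp

theorem pmat_one : pmat (1 : Equiv.Perm (Fin m)) = (1 : Blk) := by
  ext r c
  simp [pmat, Matrix.one_apply]

theorem pmat_mul (σ τ : Equiv.Perm (Fin m)) : (pmat σ * pmat τ : Blk) = pmat (σ * τ) := by
  ext r c
  rw [mul_pmat_apply]
  simp only [pmat, Matrix.of_apply, Equiv.Perm.coe_mul, Function.comp_apply]
  exact if_congr Iff.rfl rfl rfl

/-- Permutation of the blocks, as units. -/
def permHom : Equiv.Perm (Fin m) →* GL (Fin 2 × Fin m) F :=
  MonoidHom.toHomUnits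
    { toFun := pmat
      map_one' := pmat_one
      map_mul' := fun σ τ => (pmat_mul σ τ).symm }

theorem coe_permHom (σ : Equiv.Perm (Fin m)) : ((permHom σ : GL (Fin 2 × Fin m) F) : Blk) = pmat σ :=
  rfl

theorem permHom_conj (σ : Equiv.Perm (Fin m)) (d : Fin m → G2) :
    diagHom (permAut m G2 σ d) = permHom σ * diagHom d * (permHom σ)⁻¹ := by
  rw [eq_mul_inv_iff_mul_eq]
  refine Units.ext ?_
  ext r c
  rw [Units.val_mul, Units.val_mul, coe_permHom, mul_pmat_apply, pmat_mul_apply, coe_diagHom,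
    coe_diagHom, Matrix.blockDiagonal_apply, Matrix.blockDiagonal_apply]
  simp only [Equiv.symm_apply_eq]
  rfl

/-- The monomial block embedding. -/
def monHom : Wr m G2 →* GL (Fin 2 × Fin m) F :=
  SemidirectProduct.lift diagHom permHom fun σ => by
    refine MonoidHom.ext fun d => ?_
    simpa using permHom_conj σ d

theorem monHom_apply (x : Wr m G2) : monHom x = diagHom x.left * permHom x.right := rfl

theorem monHom_injective : Function.Injective (monHom : Wr m G2 → GL (Fin 2 × Fin m) F) := by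
  rw [injective_iff_map_eq_one]
  intro x hx
  have h : ∀ r c : Fin 2 × Fin m,
      (if r.2 = x.right c.2 then ((x.left r.2 : G2) : Matrix (Fin 2) (Fin 2) F) r.1 c.1 else 0) =
        (1 : Blk) r c := by
    intro r c
    have h' := congrArg (fun g : GL (Fin 2 × Fin m) F => (g : Blk) r c) hx
    simpa [monHom_apply, coe_permHom, mul_pmat_apply, coe_diagHom, Matrix.blockDiagonal_apply]
      using h'
  have hr : ∀ i, x.right i = i := by
    intro i
    by_contra hne
    have h0 : ∀ a b, ((x.left (x.right i) : G2) : Matrix (Fin 2) (Fin 2) F) a b = 0 := fun a b => by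
      have := h (a, x.right i) (b, i)
      rwa [if_pos rfl, Matrix.one_apply_ne (fun e => hne (congrArg Prod.snd e))] at this
    have := (x.left (x.right i)).ne_zero
    exact this (by ext a b; simp [h0 a b])
  refine SemidirectProduct.ext (funext fun i => Units.ext ?_) (Equiv.ext hr)
  ext a b
  have := h (a, i) (b, i)
  rw [hr, if_pos rfl] at this
  rw [this]
  simp [Matrix.one_apply]

theorem det_permHom (σ : Equiv.Perm (Fin m)) : (pmat σ : Blk).det = 1 := by
  have he : (pmat σ : Blk) = Equiv.Perm.permMatrix F (Equiv.prodCongrRight fun _ : Fin 2 => σ⁻¹) := by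
    ext r c
    simp only [pmat, Matrix.of_apply, Equiv.Perm.permMatrix, PEquiv.toMatrix_apply,
      Equiv.toPEquiv_apply, Option.mem_def, Option.some.injEq]
    refine if_congr ?_ rfl rfl
    rw [Equiv.prodCongrRight_apply, Prod.ext_iff, Prod.ext_iff]
    constructor
    · rintro ⟨h1, h2⟩
      exact ⟨h1, by rw [h2]; simp⟩
    · rintro ⟨h1, h2⟩
      exact ⟨h1, by rw [← h2]; simp⟩
  rw [he, Matrix.det_permutation, Equiv.Perm.sign_prodCongrRight, Finset.prod_const,
    Finset.card_univ, Fintype.card_fin, Int.units_sq]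
  simp

/-- The determinant of a monomial element. -/
def detW : Wr m G2 →* Fˣ := GeneralLinearGroup.det.comp monHom

theorem detW_inl (d : Fin m → G2) :
    detW (SemidirectProduct.inl d) = ∏ i, GeneralLinearGroup.det (d i) := by
  refine Units.ext ?_
  rw [detW, MonoidHom.comp_apply, GeneralLinearGroup.val_det_apply, monHom,
    SemidirectProduct.lift_inl, coe_diagHom, Matrix.det_blockDiagonal, Units.coe_prod]
  rfl

theorem detW_inr (σ : Equiv.Perm (Fin m)) : detW (F := F) (SemidirectProduct.inr σ) = 1 := by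
  refine Units.ext ?_
  rw [detW, MonoidHom.comp_apply, GeneralLinearGroup.val_det_apply, monHom,
    SemidirectProduct.lift_inr, coe_permHom, det_permHom]
  rfl

section Counting

variable [Fintype F]

theorem odd_part (hodd : Odd (Fintype.card F)) (k : ℕ) :
    padicValNat 2 (Fintype.card F ^ (2 * k + 1) - 1) = padicValNat 2 (Fintype.card F - 1) := by
  set q := Fintype.card F
  have hq : 1 < q := Fintype.one_lt_card
  rw [← geom_sum_mul_of_one_le (by omega : 1 ≤ q) (2 * k + 1)]
  have ho : Odd (∑ i ∈ Finset.range (2 * k + 1), q ^ i) := by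
    rw [Finset.odd_sum_iff_odd_card_odd, Finset.filter_true_of_mem fun i _ => hodd.pow,
      Finset.card_range]
    exact odd_two_mul_add_one k
  rw [padicValNat.mul ho.pos.ne' (by omega),
    padicValNat.eq_zero_of_not_dvd ho.not_two_dvd_nat, zero_add]

theorem even_part (hodd : Odd (Fintype.card F)) {i : ℕ} (hi : i ≠ 0) :
    padicValNat 2 (Fintype.card F ^ (2 * i) - 1) =
      padicValNat 2 (Fintype.card F ^ 2 - 1) + padicValNat 2 i := by
  set q := Fintype.card F
  have hq : 1 < q := Fintype.one_lt_card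
  haveI := Fact.mk Nat.prime_two
  have h1 := padicValNat.pow_two_sub_one hq hodd.not_two_dvd_nat (n := 2 * i) (by omega)
    (even_two_mul i)
  have h2 := padicValNat.pow_two_sub_one hq hodd.not_two_dvd_nat (n := 2) two_ne_zero even_two
  rw [padicValNat.mul two_ne_zero hi] at h1
  omega

theorem val_pow_prod (hodd : Odd (Fintype.card F)) (n : ℕ) :
    padicValNat 2 (∏ i ∈ Finset.range n, (Fintype.card F ^ (2 * (i + 1)) - 1)) =
      n * padicValNat 2 (Fintype.card F ^ 2 - 1) + padicValNat 2 n.factorial := by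
  have hq : 1 < Fintype.card F := Fintype.one_lt_card
  haveI := Fact.mk Nat.prime_two
  induction n with
  | zero => simp
  | succ n ih =>
    rw [Finset.prod_range_succ, padicValNat.mul
      (Finset.prod_ne_zero_iff.2 fun i _ => (Nat.sub_pos_of_lt (Nat.one_lt_pow (by omega) hq)).ne')
      (Nat.sub_pos_of_lt (Nat.one_lt_pow (by omega) hq)).ne', ih, even_part hodd (by omega),
      Nat.factorial_succ, padicValNat.mul (by omega) n.factorial_ne_zero]
    ring

theorem val_sp (hodd : Odd (Fintype.card F)) (n : ℕ) :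
    (Nat.card (Matrix.symplecticGroup (Fin n) F)).factorization 2 =
      n * padicValNat 2 (Fintype.card F ^ 2 - 1) + padicValNat 2 n.factorial := by
  have hq : 1 < Fintype.card F := Fintype.one_lt_card
  haveI := Fact.mk Nat.prime_two
  rw [← Nat.card_congr (CfsgLib.Geom.spEquiv n F).toEquiv,
    CfsgLib.Classical.card_formIsoms_alt (CfsgLib.Geom.sympBilin n F) CfsgLib.Geom.sympBilin_self
      CfsgLib.Geom.sympBilin_sep n (by simp; omega), Nat.factorization_def _ Nat.prime_two,
    padicValNat.mul (pow_ne_zero _ (by omega))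
      (Finset.prod_ne_zero_iff.2 fun i _ => (Nat.sub_pos_of_lt (Nat.one_lt_pow (by omega) hq)).ne'),
    padicValNat.eq_zero_of_not_dvd (fun h => hodd.not_two_dvd_nat (Nat.prime_two.dvd_of_dvd_pow h)),
    zero_add, val_pow_prod hodd]

/-- The product of the `q ^ k - 1`. -/
theorem val_gl (hodd : Odd (Fintype.card F)) (k : ℕ) :
    padicValNat 2 (∏ i ∈ Finset.range k, (Fintype.card F ^ (i + 1) - 1)) =
      (k - k / 2) * padicValNat 2 (Fintype.card F - 1) +
        (k / 2 * padicValNat 2 (Fintype.card F ^ 2 - 1) + padicValNat 2 (k / 2).factorial) := by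
  have hq : 1 < Fintype.card F := Fintype.one_lt_card
  haveI := Fact.mk Nat.prime_two
  induction k with
  | zero => simp
  | succ k ih =>
    rw [Finset.prod_range_succ, padicValNat.mul
      (Finset.prod_ne_zero_iff.2 fun i _ => (Nat.sub_pos_of_lt (Nat.one_lt_pow (by omega) hq)).ne')
      (Nat.sub_pos_of_lt (Nat.one_lt_pow (by omega) hq)).ne', ih]
    obtain ⟨j, rfl | rfl⟩ := Nat.even_or_odd' k
    · rw [odd_part hodd j, show 2 * j / 2 = j by omega, show (2 * j + 1) / 2 = j by omega,
        show 2 * j - j = j by omega, show 2 * j + 1 - j = j + 1 by omega]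
      ring
    · rw [show 2 * j + 1 + 1 = 2 * (j + 1) by ring, even_part hodd (by omega),
        show (2 * j + 1) / 2 = j by omega, show 2 * (j + 1) / 2 = j + 1 by omega,
        show 2 * (j + 1) - (j + 1) = j + 1 by omega, show 2 * j + 1 - j = j + 1 by omega,
        Nat.factorial_succ, padicValNat.mul (by omega) j.factorial_ne_zero]
      ring

theorem val_card_gl (hodd : Odd (Fintype.card F)) (k : ℕ) :
    (Nat.card (GL (Fin k) F)).factorization 2 =
      (k - k / 2) * padicValNat 2 (Fintype.card F - 1) +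
        (k / 2 * padicValNat 2 (Fintype.card F ^ 2 - 1) + padicValNat 2 (k / 2).factorial) := by
  have hq : 1 < Fintype.card F := Fintype.one_lt_card
  haveI := Fact.mk Nat.prime_two
  rw [← val_gl hodd k, Nat.factorization_def _ Nat.prime_two, Matrix.card_GL_field,
    Fin.prod_univ_eq_prod_range (fun i => Fintype.card F ^ k - Fintype.card F ^ i) k]
  rw [Finset.prod_congr rfl (g := fun i => Fintype.card F ^ i * (Fintype.card F ^ (k - i) - 1))
    (fun i hi => by
      rw [Nat.mul_sub, ← pow_add, Nat.add_sub_cancel' (Finset.mem_range.1 hi).le, mul_one])]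
  rw [Finset.prod_mul_distrib, padicValNat.mul
    (Finset.prod_ne_zero_iff.2 fun i _ => pow_ne_zero _ (by omega))
    (Finset.prod_ne_zero_iff.2 fun i hi =>
      (Nat.sub_pos_of_lt (Nat.one_lt_pow (by rw [Finset.mem_range] at hi; omega) hq)).ne'),
    Finset.prod_pow_eq_pow_sum,
    padicValNat.eq_zero_of_not_dvd (fun h => hodd.not_two_dvd_nat (Nat.prime_two.dvd_of_dvd_pow h)),
    zero_add, ← Finset.prod_range_reflect]
  congr 1
  refine Finset.prod_congr rfl fun i hi => ?_
  rw [Finset.mem_range] at hi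
  congr 2
  omega

theorem val_card_sl (k : ℕ) :
    (Nat.card (Matrix.SpecialLinearGroup (Fin (k + 1)) F)).factorization 2 +
      padicValNat 2 (Fintype.card F - 1) = (Nat.card (GL (Fin (k + 1)) F)).factorization 2 := by
  haveI := Fact.mk Nat.prime_two
  rw [← CfsgLib.Classical.card_units_mul_card_sl, Nat.card_units, Nat.card_eq_fintype_card (α := F),
    Nat.factorization_mul (Nat.sub_pos_of_lt Fintype.one_lt_card).ne' Nat.card_pos.ne',
    Finsupp.add_apply, Nat.factorization_def (Fintype.card F - 1) Nat.prime_two, add_comm]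

end Counting

theorem sqComm_comap {G H : Type*} [Group G] [Group H] {f : G →* H} (hf : Function.Injective f)
    {S : Subgroup H} (hS : S ≤ f.range) (h : SqComm S) : SqComm (S.comap f) := by
  intro x hx
  have h1 := h (f x) hx
  rw [← Subgroup.map_comap_eq_self hS, ← Subgroup.map_commutator, ← map_pow,
    Subgroup.mem_map_iff_mem hf] at h1
  exact h1

theorem card_comap {G H : Type*} [Group G] [Group H] {f : G →* H} (hf : Function.Injective f)
    {S : Subgroup H} (hS : S ≤ f.range) : Nat.card (S.comap f) = Nat.card S := by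
  conv_rhs => rw [← Subgroup.map_comap_eq_self hS]
  exact Nat.card_congr ((S.comap f).equivMapOfInjective f hf).toEquiv

/-- The two by two data. -/
theorem exists_local [Fintype F] (hodd : Odd (Fintype.card F)) :
    ∃ (D : Subgroup G2) (h : G2) (z : Fˣ), h ∈ D ∧ GeneralLinearGroup.det h = z ∧
      orderOf z = 2 ^ padicValNat 2 (Fintype.card F - 1) ∧
      (z = -1 → h ^ 2 = 1) ∧
      (∀ e ∈ D, GeneralLinearGroup.det e ∈ Subgroup.zpowers (GeneralLinearGroup.det h)) ∧
      Nat.card D = 2 ^ (padicValNat 2 (Fintype.card F - 1) + padicValNat 2 (Fintype.card F ^ 2 - 1)) ∧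
      SqComm (D ⊓ GeneralLinearGroup.det.ker) ∧
      Nat.card (D ⊓ GeneralLinearGroup.det.ker : Subgroup G2) =
        2 ^ padicValNat 2 (Fintype.card F ^ 2 - 1) := by
  classical
  haveI := Fact.mk Nat.prime_two
  set c := padicValNat 2 (Fintype.card F - 1) with hc
  obtain ⟨z, hz⟩ := CfsgLib.Invol.exists_unit_orderOf (F := F) (d := 2 ^ c)
    (by rw [hc]; exact pow_padicValNat_dvd)
  set h : G2 := CfsgLib.Invol.diag2 (z, 1) with hh
  have hdet : GeneralLinearGroup.det h = z := Units.ext (by
    rw [GeneralLinearGroup.val_det_apply, hh, CfsgLib.Invol.diag2_coe, Matrix.det_fin_two_of]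
    simp)
  have hord : orderOf h = 2 ^ c := by
    rw [hh, orderOf_injective _ CfsgLib.Invol.diag2_injective, Prod.orderOf]
    simp [hz]
  have hhp : IsPGroup 2 (Subgroup.zpowers h) :=
    IsPGroup.of_card (n := c) (by rw [Nat.card_zpowers, hord])
  obtain ⟨D, hD⟩ := hhp.exists_le_sylow
  have hDcard : Nat.card (D : Subgroup G2) =
      2 ^ (c + padicValNat 2 (Fintype.card F ^ 2 - 1)) := by
    rw [D.card_eq_multiplicity, val_card_gl hodd]
    congr 1
    simp [hc]
  have himg : ∀ e ∈ (D : Subgroup G2),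
      GeneralLinearGroup.det e ∈ Subgroup.zpowers (GeneralLinearGroup.det h) := by
    intro e he
    obtain ⟨k, hk⟩ := (D.isPGroup' ⟨e, he⟩)
    have he1 : (GeneralLinearGroup.det e) ^ 2 ^ k = 1 := by
      rw [← map_pow, show e ^ 2 ^ k = 1 from by simpa using congrArg Subtype.val hk, map_one]
    obtain ⟨j, -, hj⟩ := (Nat.dvd_prime_pow Nat.prime_two).1 (orderOf_dvd_of_pow_eq_one he1)
    have hdc : orderOf (GeneralLinearGroup.det e) ∣ 2 ^ c := by
      rw [hj]
      refine Nat.pow_dvd_pow 2 ?_
      rw [hc, ← padicValNat_dvd_iff_le (Nat.sub_pos_of_lt Fintype.one_lt_card).ne', ← hj,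
        ← Fintype.card_units]
      exact orderOf_dvd_card
    haveI : NeZero (2 ^ c) := ⟨pow_ne_zero _ two_ne_zero⟩
    have hzp : IsPrimitiveRoot (z : F) (2 ^ c) := by
      have := IsPrimitiveRoot.orderOf (z : F)
      rwa [orderOf_units, hz] at this
    obtain ⟨i, -, hi⟩ := hzp.eq_pow_of_pow_eq_one (ξ := (GeneralLinearGroup.det e : F)) (by
        rw [← Units.val_pow_eq_pow_val, orderOf_dvd_iff_pow_eq_one.1 hdc, Units.val_one])
    rw [hdet]
    exact ⟨i, Units.ext (by simpa using hi)⟩
  have hhD : h ∈ (D : Subgroup G2) := hD (Subgroup.mem_zpowers h)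
  have hQcard : Nat.card ((D : Subgroup G2) ⊓ GeneralLinearGroup.det.ker : Subgroup G2) =
      2 ^ padicValNat 2 (Fintype.card F ^ 2 - 1) := by
    let f := (GeneralLinearGroup.det : G2 →* Fˣ).comp (D : Subgroup G2).subtype
    have hf : f.range = Subgroup.zpowers (GeneralLinearGroup.det h) := le_antisymm
      (by rintro _ ⟨e, rfl⟩; exact himg e e.2) (Subgroup.zpowers_le.2 ⟨⟨h, hhD⟩, rfl⟩)
    have h1 := f.ker.index_mul_card
    rw [Subgroup.index_ker, hf, Nat.card_zpowers, hdet, hz, hDcard, pow_add] at h1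
    have h2 := Nat.eq_of_mul_eq_mul_left (pow_pos two_pos c) h1
    rw [← h2]
    refine (Nat.card_congr ?_).symm
    exact { toFun := fun x => ⟨(x.1 : G2), x.1.2, x.2⟩
            invFun := fun x => ⟨⟨(x : G2), x.2.1⟩, x.2.2⟩
            left_inv := fun x => rfl
            right_inv := fun x => rfl }
  refine ⟨D, h, z, hhD, hdet, hz, fun hz1 => ?_, himg, hDcard, ?_, hQcard⟩
  · rw [hh, ← map_pow, show ((z, 1) : Fˣ × Fˣ) ^ 2 = 1 from Prod.ext (by simp [hz1]) (by simp),
      map_one]
  have hle : (D : Subgroup G2) ⊓ GeneralLinearGroup.det.ker ≤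
      (Matrix.SpecialLinearGroup.toGL : Matrix.SpecialLinearGroup (Fin 2) F →* G2).range := by
    intro x hx
    exact ⟨⟨(x : Matrix (Fin 2) (Fin 2) F), by simpa using congrArg Units.val hx.2⟩,
      Units.ext rfl⟩
  have hinj := Matrix.SpecialLinearGroup.toGL_injective (n := Fin 2) (R := F)
  have hv : (Nat.card (Matrix.SpecialLinearGroup (Fin 2) F)).factorization 2 =
      padicValNat 2 (Fintype.card F ^ 2 - 1) := by
    have h1 : (Nat.card (Matrix.SpecialLinearGroup (Fin 2) F)).factorization 2 +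
        padicValNat 2 (Fintype.card F - 1) = (Nat.card (GL (Fin 2) F)).factorization 2 := val_card_sl 1
    rw [val_card_gl hodd, show 2 / 2 = 1 from rfl, show 2 - 1 = 1 from rfl, Nat.factorial_one,
      padicValNat.one] at h1
    omega
  have h0 := sqComm_sl_two hodd (Sylow.ofCard
    (((D : Subgroup G2) ⊓ GeneralLinearGroup.det.ker).comap Matrix.SpecialLinearGroup.toGL)
    (by rw [card_comap hinj hle, hQcard, hv]))
  rw [Sylow.coe_ofCard] at h0
  rw [← Subgroup.map_comap_eq_self hle]
  exact sqComm_map h0 _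

theorem card_sylow_perm (R : Sylow 2 (Equiv.Perm (Fin m))) :
    Nat.card (R : Subgroup (Equiv.Perm (Fin m))) = 2 ^ padicValNat 2 m.factorial := by
  haveI := Fact.mk Nat.prime_two
  rw [R.card_eq_multiplicity, Nat.card_perm, Nat.card_fin, Nat.factorization_def _ Nat.prime_two]

variable [Fintype F]

/-- Symplectic groups. -/
theorem sp_sq (hodd : Odd (Fintype.card F)) (P : Sylow 2 (Matrix.symplecticGroup (Fin m) F)) :
    ∀ x : (P : Subgroup (Matrix.symplecticGroup (Fin m) F)),
      x ^ 2 ∈ commutator (P : Subgroup (Matrix.symplecticGroup (Fin m) F)) := by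
  classical
  obtain ⟨D, h, z, -, -, -, -, -, -, hQ, hQc⟩ := exists_local (F := F) hodd
  obtain ⟨R⟩ : Nonempty (Sylow 2 (Equiv.Perm (Fin m))) := inferInstance
  set E := D ⊓ GeneralLinearGroup.det.ker with hE
  set S := sub (R : Subgroup (Equiv.Perm (Fin m))) E with hS
  let e : Fin 2 × Fin m ≃ Fin m ⊕ Fin m :=
    ((Equiv.prodCongrLeft fun _ => finTwoEquiv).trans (Equiv.boolProdEquivSum _))
  let J2 : Matrix (Fin 2) (Fin 2) F := !![0, -1; 1, 0]
  have hJ : Matrix.reindex e e (Matrix.blockDiagonal fun _ : Fin m => J2) = Matrix.J (Fin m) F := by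
    ext r c
    rcases r with i | i <;> rcases c with j | j <;>
      simp [e, J2, Matrix.J, Matrix.blockDiagonal_apply, Matrix.one_apply, Equiv.boolProdEquivSum,
        finTwoEquiv, apply_ite Neg.neg] <;> split_ifs <;> simp
  have hmem : ∀ x ∈ S, Matrix.reindex e e ((monHom x : GL (Fin 2 × Fin m) F) :
      Matrix (Fin 2 × Fin m) (Fin 2 × Fin m) F) ∈ Matrix.symplecticGroup (Fin m) F := by
    intro x hx
    rw [SymplecticGroup.mem_iff, ← hJ]
    simp only [Matrix.reindex_apply, Matrix.transpose_submatrix, Matrix.submatrix_mul_equiv]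
    congr 1
    rw [monHom_apply, Units.val_mul, coe_permHom, coe_diagHom, Matrix.transpose_mul]
    have hP : (pmat x.right : Blk) * Matrix.blockDiagonal (fun _ : Fin m => J2) *
        (pmat x.right)ᵀ = Matrix.blockDiagonal fun _ : Fin m => J2 := by
      have h1 : ((pmat x.right)ᵀ : Blk) = pmat x.right⁻¹ := by
        ext r c
        simp only [Matrix.transpose_apply, pmat, Matrix.of_apply]
        refine if_congr ?_ rfl rfl
        rw [Prod.ext_iff, Prod.ext_iff]
        constructor
        · rintro ⟨h1, h2⟩; exact ⟨h1.symm, by rw [h2]; simp⟩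
        · rintro ⟨h1, h2⟩; exact ⟨h1.symm, by rw [h2]; simp⟩
      rw [h1]
      ext r c
      rw [mul_pmat_apply, pmat_mul_apply, Matrix.blockDiagonal_apply, Matrix.blockDiagonal_apply]
      simp
    rw [mul_assoc, mul_assoc, ← mul_assoc (pmat x.right), ← mul_assoc (pmat x.right * _), hP,
      Matrix.blockDiagonal_transpose, ← Matrix.blockDiagonal_mul, ← Matrix.blockDiagonal_mul]
    congr 1
    funext i
    have hd : ((x.left i : G2) : Matrix (Fin 2) (Fin 2) F).det = 1 := by
      simpa using congrArg Units.val (hx.2 i).2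
    rw [Matrix.det_fin_two] at hd
    rw [Matrix.eta_fin_two ((x.left i : G2) : Matrix (Fin 2) (Fin 2) F)]
    ext a b
    fin_cases a <;> fin_cases b <;>
      simp [J2, Matrix.mul_apply, Fin.sum_univ_two, Matrix.vecMul, dotProduct] <;>
      first
      | linear_combination hd
      | linear_combination -hd
      | linear_combination 2 * hd
      | linear_combination -2 * hd
      | ring
  let f : S →* Matrix.symplecticGroup (Fin m) F :=
    MonoidHom.codRestrict ((Matrix.reindexAlgEquiv F F e).toMonoidHom.comp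
      ((Units.coeHom _).comp (monHom.comp S.subtype))) _ fun x => hmem x x.2
  have hf : Function.Injective f := fun a b hab => by
    have h1 : Matrix.reindexAlgEquiv F F e ((monHom (a : Wr m G2) : GL (Fin 2 × Fin m) F) :
        Matrix (Fin 2 × Fin m) (Fin 2 × Fin m) F) =
        Matrix.reindexAlgEquiv F F e (monHom (b : Wr m G2) : GL (Fin 2 × Fin m) F) :=
      congrArg Subtype.val hab
    exact Subtype.ext (monHom_injective (Units.ext ((Matrix.reindexAlgEquiv F F e).injective h1)))
  refine sylow_sq ((⊤ : Subgroup S).map f) ?_ (sqComm_map ?_ f) P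
  · rw [← Nat.card_congr ((⊤ : Subgroup S).equivMapOfInjective f hf).toEquiv,
      Nat.card_congr Subgroup.topEquiv.toEquiv, card_sub, hQc, card_sylow_perm, ← pow_mul, ← pow_add,
      val_sp hodd, mul_comm]
  · have h0 := sqComm_comap S.subtype_injective (S := S) (by simp) (sqComm_sub (sqComm_perm R) hQ)
    rwa [Subgroup.comap_subtype, Subgroup.subgroupOf_self] at h0

/-- A Sylow subgroup of the permutation group containing the regular translations. -/
theorem exists_sylow_swaps (j : ℕ) : ∃ (R : Sylow 2 (Equiv.Perm (Fin (2 ^ j)))) (i₀ : Fin (2 ^ j)),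
    ∀ i, i ≠ i₀ → ∃ σ ∈ (R : Subgroup (Equiv.Perm (Fin (2 ^ j)))), σ i = i₀ ∧ σ i₀ = i := by
  classical
  haveI := Fact.mk Nat.prime_two
  let e : Fin (2 ^ j) ≃ Multiplicative (Fin j → ZMod 2) :=
    (Fintype.equivFinOfCardEq (by simp)).symm
  let T : Multiplicative (Fin j → ZMod 2) →* Equiv.Perm (Fin (2 ^ j)) :=
    { toFun := fun v => (e.trans (Equiv.mulRight v)).trans e.symm
      map_one' := by ext i; simp
      map_mul' := fun v w => Equiv.ext fun i => by simp [mul_assoc, mul_comm v w] }
  have hp : IsPGroup 2 T.range := by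
    refine IsPGroup.of_surjective ?_ T.rangeRestrict T.rangeRestrict_surjective
    exact IsPGroup.of_card (n := j) (by simp)
  obtain ⟨R, hR⟩ := hp.exists_le_sylow
  have hsq : ∀ v : Multiplicative (Fin j → ZMod 2), v⁻¹ = v := fun v => by
    apply Multiplicative.toAdd.injective
    funext k
    exact ZMod.neg_eq_self_mod_two _
  refine ⟨R, ⟨0, pow_pos two_pos j⟩, fun i _ => ⟨T ((e i)⁻¹ * e ⟨0, pow_pos two_pos j⟩),
    hR ⟨_, rfl⟩, ?_, ?_⟩⟩
  · show e.symm (e i * ((e i)⁻¹ * e _)) = _
    rw [mul_inv_cancel_left, Equiv.symm_apply_apply]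
  · show e.symm (e _ * ((e i)⁻¹ * e _)) = i
    rw [mul_comm ((e i)⁻¹) _, ← mul_assoc]
    nth_rewrite 1 [← hsq (e ⟨0, _⟩)]
    rw [inv_mul_cancel, one_mul, hsq, Equiv.symm_apply_apply]

theorem orderOf_neg_one_case (hodd : Odd (Fintype.card F)) (h4 : 4 ∣ Fintype.card F + 1) {z : Fˣ}
    (hz : orderOf z = 2 ^ padicValNat 2 (Fintype.card F - 1)) : z = -1 := by
  haveI := Fact.mk Nat.prime_two
  have h2 : (Fintype.card F - 1).factorization 2 = 1 := by
    have := hodd
    rw [Nat.odd_iff] at this
    exact CfsgLib.Classical.factorization_two_of_mod_four (by omega)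
  rw [Nat.factorization_def _ Nat.prime_two] at h2
  rw [h2, pow_one] at hz
  have h1 : (z : F) ^ 2 = 1 := by
    rw [← Units.val_pow_eq_pow_val, ← hz, pow_orderOf_eq_one, Units.val_one]
  rcases sq_eq_one_iff.1 h1 with h | h
  · rw [show z = 1 from Units.ext h, orderOf_one] at hz
    omega
  · exact Units.ext (by simpa using h)

/-- Special linear groups of even degree. -/
theorem sl_even_sq (hodd : Odd (Fintype.card F)) (hm : 1 ≤ m)
    (hq : 4 ∣ Fintype.card F + 1 ∨ ∃ j : ℕ, m = 2 ^ j)
    (P : Sylow 2 (Matrix.SpecialLinearGroup (Fin (2 * m)) F)) :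
    ∀ x : (P : Subgroup (Matrix.SpecialLinearGroup (Fin (2 * m)) F)),
      x ^ 2 ∈ commutator (P : Subgroup (Matrix.SpecialLinearGroup (Fin (2 * m)) F)) := by
  classical
  haveI := Fact.mk Nat.prime_two
  obtain ⟨D, h, z, hhD, hdet, hz, hinv, himg, hDc, hQ, -⟩ := exists_local (F := F) hodd
  obtain ⟨R, i₀, hy⟩ : ∃ (R : Sylow 2 (Equiv.Perm (Fin m))) (i₀ : Fin m), h ^ 2 = 1 ∨
      ∀ i, i ≠ i₀ → ∃ σ ∈ (R : Subgroup (Equiv.Perm (Fin m))), σ i = i₀ ∧ σ i₀ = i := by
    rcases hq with h4 | ⟨j, rfl⟩
    · obtain ⟨R⟩ : Nonempty (Sylow 2 (Equiv.Perm (Fin m))) := inferInstance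
      exact ⟨R, ⟨0, hm⟩, Or.inl (hinv (orderOf_neg_one_case hodd h4 hz))⟩
    · obtain ⟨R, i₀, hR⟩ := exists_sylow_swaps j
      exact ⟨R, i₀, Or.inr hR⟩
  set U := sub (R : Subgroup (Equiv.Perm (Fin m))) D with hU
  set S := U ⊓ (detW (F := F) (m := m)).ker with hS
  have hSsq := sqComm_sub_ker (m := m) (GeneralLinearGroup.det : G2 →* Fˣ)
    (detW (F := F) (m := m)) detW_inl detW_inr (R := (R : Subgroup (Equiv.Perm (Fin m))))
    (sqComm_perm R) (E := D) hQ (h := h) hhD himg i₀ hy
  have hScard : Nat.card S * 2 ^ padicValNat 2 (Fintype.card F - 1) = Nat.card U := by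
    let f := (detW (F := F) (m := m)).comp U.subtype
    have hf : f.range = Subgroup.zpowers (GeneralLinearGroup.det h) := by
      refine le_antisymm ?_ (Subgroup.zpowers_le.2 ⟨⟨single i₀ h, ?_⟩, ?_⟩)
      · rintro _ ⟨x, rfl⟩
        show detW (x : Wr m G2) ∈ _
        rw [← SemidirectProduct.inl_left_mul_inr_right (x : Wr m G2), map_mul, detW_inl, detW_inr,
          mul_one]
        exact Subgroup.prod_mem _ fun i _ => himg _ (x.2.2 i)
      · refine ⟨(R : Subgroup (Equiv.Perm (Fin m))).one_mem, fun i => ?_⟩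
        show (Pi.mulSingle i₀ h : Fin m → G2) i ∈ D
        rw [Pi.mulSingle_apply]
        split_ifs
        · exact hhD
        · exact one_mem _
      · show detW (SemidirectProduct.inl (Pi.mulSingle i₀ h)) = _
        rw [detW_inl, Fintype.prod_eq_single i₀ fun i hi => by
          rw [Pi.mulSingle_eq_of_ne hi, map_one], Pi.mulSingle_eq_same]
    have h1 := f.ker.index_mul_card
    rw [Subgroup.index_ker, hf, Nat.card_zpowers, hdet, hz, mul_comm] at h1
    rw [← h1]
    congr 1
    exact Nat.card_congr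
      { toFun := fun x => ⟨⟨(x : Wr m G2), x.2.1⟩, x.2.2⟩
        invFun := fun x => ⟨(x.1 : Wr m G2), x.1.2, x.2⟩
        left_inv := fun x => rfl
        right_inv := fun x => rfl }
  set g : Wr m G2 →* GL (Fin (2 * m)) F :=
    (Units.map (Matrix.reindexAlgEquiv F F finProdFinEquiv).toMonoidHom).comp monHom with hg
  have hginj : Function.Injective g := fun a b hab =>
    monHom_injective (Units.ext ((Matrix.reindexAlgEquiv F F finProdFinEquiv).injective
      (congrArg Units.val hab)))
  have hrange : S.map g ≤ (Matrix.SpecialLinearGroup.toGL :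
      Matrix.SpecialLinearGroup (Fin (2 * m)) F →* GL (Fin (2 * m)) F).range := by
    rintro _ ⟨x, hx, rfl⟩
    refine ⟨⟨(g x : Matrix (Fin (2 * m)) (Fin (2 * m)) F), ?_⟩, Units.ext rfl⟩
    show (Matrix.reindexAlgEquiv F F finProdFinEquiv _).det = 1
    rw [Matrix.det_reindexAlgEquiv]
    exact congrArg Units.val hx.2
  have hinj := Matrix.SpecialLinearGroup.toGL_injective (n := Fin (2 * m)) (R := F)
  refine sylow_sq ((S.map g).comap Matrix.SpecialLinearGroup.toGL) ?_
    (sqComm_comap hinj hrange (sqComm_map hSsq g)) P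
  rw [card_comap hinj hrange, ← Nat.card_congr (S.equivMapOfInjective g hginj).toEquiv]
  refine Nat.eq_of_mul_eq_mul_right (pow_pos two_pos (padicValNat 2 (Fintype.card F - 1))) ?_
  rw [hScard, hU, card_sub, hDc, card_sylow_perm, ← pow_mul, ← pow_add, ← pow_add]
  obtain ⟨n, hn⟩ : ∃ n, 2 * m = n + 1 := ⟨2 * m - 1, by omega⟩
  have h1 := val_card_sl (F := F) n
  rw [← hn, val_card_gl hodd, show 2 * m / 2 = m by omega, show 2 * m - m = m by omega] at h1
  rw [h1]
  ring_nf

/-- Special linear groups of odd degree. -/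
theorem sl_odd_sq (hodd : Odd (Fintype.card F)) (h4 : 4 ∣ Fintype.card F + 1)
    (P : Sylow 2 (Matrix.SpecialLinearGroup (Fin (2 * m + 1)) F)) :
    ∀ x : (P : Subgroup (Matrix.SpecialLinearGroup (Fin (2 * m + 1)) F)),
      x ^ 2 ∈ commutator (P : Subgroup (Matrix.SpecialLinearGroup (Fin (2 * m + 1)) F)) := by
  classical
  haveI := Fact.mk Nat.prime_two
  obtain ⟨D, h, z, hhD, hdet, hz, hinv, himg, hDc, hQ, -⟩ := exists_local (F := F) hodd
  obtain ⟨R⟩ : Nonempty (Sylow 2 (Equiv.Perm (Fin m))) := inferInstance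
  have hD : SqComm D := by
    refine of_closure (T := {x | x ∈ D ⊓ GeneralLinearGroup.det.ker} ∪ {h}) ?_ ?_ ?_
    · rintro x (hx | rfl)
      · exact hx.1
      · exact hhD
    · intro x hx
      obtain ⟨k, hk⟩ := Subgroup.mem_zpowers_iff.1 (himg x hx)
      have hhT : h ∈ ({x | x ∈ D ⊓ GeneralLinearGroup.det.ker} ∪ {h} : Set G2) := Or.inr rfl
      have hh' : h ^ k ∈ Subgroup.closure ({x | x ∈ D ⊓ GeneralLinearGroup.det.ker} ∪ {h}) :=
        Subgroup.zpow_mem _ (Subgroup.subset_closure hhT) _
      have hq' : x * (h ^ k)⁻¹ ∈ Subgroup.closure ({x | x ∈ D ⊓ GeneralLinearGroup.det.ker} ∪ {h}) :=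
        Subgroup.subset_closure (Or.inl ⟨D.mul_mem hx (D.inv_mem (D.zpow_mem hhD k)),
          MonoidHom.mem_ker.2 (by rw [map_mul, map_inv, map_zpow, hk, mul_inv_cancel])⟩)
      have := mul_mem hq' hh'
      rwa [inv_mul_cancel_right] at this
    · rintro x (hx | rfl)
      · exact Subgroup.commutator_mono inf_le_left inf_le_left (hQ x hx)
      · rw [hinv (orderOf_neg_one_case hodd h4 hz)]
        exact one_mem _
  set U := sub (R : Subgroup (Equiv.Perm (Fin m))) D with hU
  let ext₁ : GL (Fin 2 × Fin m) F →* Matrix.SpecialLinearGroup ((Fin 2 × Fin m) ⊕ Unit) F :=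
    { toFun := fun A => ⟨Matrix.fromBlocks (A : Blk) 0 0
          (Matrix.diagonal fun _ => (((GeneralLinearGroup.det A)⁻¹ : Fˣ) : F)), by
        rw [Matrix.det_fromBlocks_zero₁₂, Matrix.det_diagonal, Fintype.prod_unique,
          ← GeneralLinearGroup.val_det_apply, Units.mul_inv]⟩
      map_one' := Subtype.ext (by simp [Matrix.fromBlocks_one])
      map_mul' := fun A B => Subtype.ext (by
        show Matrix.fromBlocks _ _ _ _ = Matrix.fromBlocks _ _ _ _ * Matrix.fromBlocks _ _ _ _
        simp [Matrix.fromBlocks_multiply, Matrix.diagonal_mul_diagonal, mul_comm]) }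
  let e : (Fin 2 × Fin m) ⊕ Unit ≃ Fin (2 * m + 1) :=
    (Equiv.sumCongr finProdFinEquiv finOneEquiv.symm).trans finSumFinEquiv
  let ext₂ : Matrix.SpecialLinearGroup ((Fin 2 × Fin m) ⊕ Unit) F →*
      Matrix.SpecialLinearGroup (Fin (2 * m + 1)) F :=
    { toFun := fun A => ⟨Matrix.reindexAlgEquiv F F e A.1, by
        rw [Matrix.det_reindexAlgEquiv]; exact A.2⟩
      map_one' := Subtype.ext (map_one (Matrix.reindexAlgEquiv F F e))
      map_mul' := fun A B => Subtype.ext (map_mul (Matrix.reindexAlgEquiv F F e) A.1 B.1) }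
  set g := ext₂.comp (ext₁.comp monHom) with hg
  have hginj : Function.Injective g := fun a b hab => by
    have h1 := (Matrix.reindexAlgEquiv F F e).injective (congrArg Subtype.val hab)
    exact monHom_injective (Units.ext (Matrix.fromBlocks_inj.1 h1).1)
  refine sylow_sq (U.map g) ?_ (sqComm_map (sqComm_sub (sqComm_perm R) hD) g) P
  rw [← Nat.card_congr (U.equivMapOfInjective g hginj).toEquiv, hU, card_sub, hDc, card_sylow_perm,
    ← pow_mul, ← pow_add]
  congr 1
  have h1 := val_card_sl (F := F) (2 * m)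
  rw [val_card_gl hodd, show (2 * m + 1) / 2 = m by omega,
    show 2 * m + 1 - m = m + 1 by omega] at h1
  have h2 : (m + 1) * padicValNat 2 (Fintype.card F - 1) =
      m * padicValNat 2 (Fintype.card F - 1) + padicValNat 2 (Fintype.card F - 1) := by ring
  rw [Nat.add_mul, mul_comm (padicValNat 2 (Fintype.card F - 1)) m,
    mul_comm (padicValNat 2 (Fintype.card F ^ 2 - 1)) m]
  omega

end CfsgLib.BlockA.SylowSquares
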