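import Cfsg.Prelude.Def_G2
import Cfsg.Agent.Lib.BlockA.SylowSquares
import Mathlib

/-!
A Sylow `2`-subgroup of the automorphism group of the split octonions in odd characteristic: the
centralizer of an involution is the image of the pairs of invertible `2 × 2` matrices with the same
determinant.
-/

set_option autoImplicit false
set_option linter.unusedSectionVars false
set_option maxHeartbeats 1000000

namespace CfsgLib.BlockA.OctonionSylow

open Matrix CfsgLib.BlockA.SqComm CfsgLib.BlockA.SylowSquares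
open scoped commutatorElement

universe u

variable {F : Type u} [Field F]

local notation "M2" => Matrix (Fin 2) (Fin 2) F
local notation "L2" => GL (Fin 2) F
local notation "V8" => (Fin 8 → F)

/-- The quaternion half. -/
def toA (x : V8) : M2 := !![x 0, x 1; x 4, x 7]

/-- The orthogonal half. -/
def toB (x : V8) : M2 := !![x 2, x 6; x 3, -x 5]

/-- The octonion with given halves. -/
def ofPair (A B : M2) : V8 := ![A 0 0, A 0 1, B 0 0, B 1 0, A 1 0, -B 1 1, B 0 1, A 1 1]

theorem toA_ofPair (A B : M2) : toA (ofPair A B) = A := by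
  ext i j; fin_cases i <;> fin_cases j <;> simp [toA, ofPair]

theorem toB_ofPair (A B : M2) : toB (ofPair A B) = B := by
  ext i j; fin_cases i <;> fin_cases j <;> simp [toB, ofPair]

theorem ofPair_toA_toB (x : V8) : ofPair (toA x) (toB x) = x := by
  funext i; fin_cases i <;> simp [toA, toB, ofPair]

theorem ext_pair {x y : V8} (hA : toA x = toA y) (hB : toB x = toB y) : x = y := by
  rw [← ofPair_toA_toB x, hA, hB, ofPair_toA_toB]

theorem toA_add (x y : V8) : toA (x + y) = toA x + toA y := by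
  ext i j; fin_cases i <;> fin_cases j <;> simp [toA]

theorem toB_add (x y : V8) : toB (x + y) = toB x + toB y := by
  ext i j; fin_cases i <;> fin_cases j <;> simp [toB] <;> ring

theorem toA_smul (c : F) (x : V8) : toA (c • x) = c • toA x := by
  ext i j; fin_cases i <;> fin_cases j <;> simp [toA]

theorem toB_smul (c : F) (x : V8) : toB (c • x) = c • toB x := by
  ext i j; fin_cases i <;> fin_cases j <;> simp [toB]

theorem toA_mul (x y : V8) :
    toA (Cfsg.Lie.zornMul x y) = toA x * toA y - adjugate (toB y) * toB x := by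
  rw [Matrix.adjugate_fin_two]
  ext i j
  fin_cases i <;> fin_cases j <;>
    simp [toA, toB, Cfsg.Lie.zornMul, Cfsg.Lie.dot3, Cfsg.Lie.cross3, Cfsg.Lie.zA, Cfsg.Lie.zB,
      Matrix.mul_apply, Fin.sum_univ_two] <;> ring

theorem toB_mul (x y : V8) :
    toB (Cfsg.Lie.zornMul x y) = toB y * toA x + toB x * adjugate (toA y) := by
  rw [Matrix.adjugate_fin_two]
  ext i j
  fin_cases i <;> fin_cases j <;>
    simp [toA, toB, Cfsg.Lie.zornMul, Cfsg.Lie.dot3, Cfsg.Lie.cross3, Cfsg.Lie.zA, Cfsg.Lie.zB,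
      Matrix.mul_apply, Fin.sum_univ_two] <;> ring

/-- The action of a pair of invertible matrices. -/
def act (p : L2 × L2) : V8 →ₗ[F] V8 where
  toFun x := ofPair ((p.1 : M2) * toA x * ((p.1⁻¹ : L2) : M2))
    ((p.2 : M2) * toB x * ((p.1⁻¹ : L2) : M2))
  map_add' x y := by
    apply ext_pair <;>
      simp only [toA_add, toB_add, toA_ofPair, toB_ofPair, Matrix.mul_add, Matrix.add_mul]
  map_smul' c x := by
    apply ext_pair <;>
      simp only [toA_smul, toB_smul, toA_ofPair, toB_ofPair, RingHom.id_apply, Matrix.mul_smul,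
        Matrix.smul_mul]

theorem act_apply (p : L2 × L2) (x : V8) : act p x =
    ofPair ((p.1 : M2) * toA x * ((p.1⁻¹ : L2) : M2))
      ((p.2 : M2) * toB x * ((p.1⁻¹ : L2) : M2)) := rfl

theorem act_one : act (1 : L2 × L2) = LinearMap.id := by
  refine LinearMap.ext fun x => ?_
  rw [act_apply, LinearMap.id_apply]
  simp [ofPair_toA_toB]

theorem act_mul (p r : L2 × L2) : act (p * r) = (act p).comp (act r) := by
  refine LinearMap.ext fun x => ?_
  rw [LinearMap.comp_apply, act_apply, act_apply, act_apply, toA_ofPair, toB_ofPair]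
  simp only [Prod.fst_mul, Prod.snd_mul, Units.val_mul, _root_.mul_inv_rev, Matrix.mul_assoc]

/-- The pairs as matrices. -/
noncomputable def Φ : L2 × L2 →* GL (Fin 8) F :=
  MonoidHom.toHomUnits
    { toFun := fun p => LinearMap.toMatrix' (act p)
      map_one' := by rw [act_one, LinearMap.toMatrix'_id]
      map_mul' := fun p r => by rw [act_mul, LinearMap.toMatrix'_comp] }

theorem Φ_mulVec (p : L2 × L2) (x : V8) : ((Φ p : GL (Fin 8) F) : Matrix (Fin 8) (Fin 8) F) *ᵥ x = act p x :=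
  LinearMap.toMatrix'_mulVec _ _

/-- The pairs with equal determinants. -/
def pairs (F : Type u) [Field F] : Subgroup (GL (Fin 2) F × GL (Fin 2) F) :=
  ((GeneralLinearGroup.det (n := Fin 2) (R := F)).comp (MonoidHom.fst _ _)).eqLocus
    ((GeneralLinearGroup.det (n := Fin 2) (R := F)).comp (MonoidHom.snd _ _))

theorem mem_pairs {p : L2 × L2} :
    p ∈ pairs F ↔ GeneralLinearGroup.det p.1 = GeneralLinearGroup.det p.2 := Iff.rfl

theorem adjugate_gl (g : L2) : adjugate (g : M2) = (g : M2).det • ((g⁻¹ : L2) : M2) := by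
  have h := adjugate_mul (g : M2)
  calc adjugate (g : M2) = adjugate (g : M2) * ((g : M2) * ((g⁻¹ : L2) : M2)) := by
        rw [← Units.val_mul, mul_inv_cancel, Units.val_one, Matrix.mul_one]
    _ = _ := by rw [← Matrix.mul_assoc, h, Matrix.smul_mul, Matrix.one_mul]

theorem Φ_mem {p : L2 × L2} (hp : p ∈ pairs F) : Φ p ∈ Cfsg.Lie.G2 F := by
  intro x y
  show ((Φ p : GL (Fin 8) F) : Matrix (Fin 8) (Fin 8) F) *ᵥ _ =
    Cfsg.Lie.zornMul (((Φ p : GL (Fin 8) F) : Matrix (Fin 8) (Fin 8) F) *ᵥ x)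
      (((Φ p : GL (Fin 8) F) : Matrix (Fin 8) (Fin 8) F) *ᵥ y)
  rw [Φ_mulVec, Φ_mulVec, Φ_mulVec]
  obtain ⟨a, b⟩ := p
  have hd : (a : M2).det = (b : M2).det := congrArg Units.val (mem_pairs.1 hp)
  have hd0 : (a : M2).det ≠ 0 := (GeneralLinearGroup.det a).ne_zero
  have hai : ((a⁻¹ : L2) : M2).det = (a : M2).det⁻¹ := by
    refine eq_inv_of_mul_eq_one_left ?_
    rw [← Matrix.det_mul, ← Units.val_mul, inv_mul_cancel, Units.val_one, Matrix.det_one]
  have e1 : ((a⁻¹ : L2) : M2) * (a : M2) = 1 := by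
    rw [← Units.val_mul, inv_mul_cancel, Units.val_one]
  have e2 : ((b⁻¹ : L2) : M2) * (b : M2) = 1 := by
    rw [← Units.val_mul, inv_mul_cancel, Units.val_one]
  apply ext_pair
  · rw [act_apply, toA_ofPair, toA_mul, toA_mul, act_apply, act_apply, toA_ofPair, toA_ofPair,
      toB_ofPair, toB_ofPair, adjugate_mul_distrib, adjugate_mul_distrib, adjugate_gl, adjugate_gl,
      inv_inv, hai]
    simp only [Matrix.mul_sub, Matrix.sub_mul, Matrix.smul_mul, Matrix.mul_smul, smul_smul]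
    congr 1
    · simp only [← Matrix.mul_assoc]
      rw [Matrix.mul_assoc _ ((a⁻¹ : L2) : M2) (a : M2), e1, Matrix.mul_one]
    · simp only [← Matrix.mul_assoc]
      rw [Matrix.mul_assoc _ ((b⁻¹ : L2) : M2) (b : M2), e2, Matrix.mul_one, hd,
        mul_inv_cancel₀ (hd ▸ hd0), one_smul]
  · rw [act_apply, toB_ofPair, toB_mul, toB_mul, act_apply, act_apply, toA_ofPair, toA_ofPair,
      toB_ofPair, toB_ofPair, adjugate_mul_distrib, adjugate_mul_distrib, adjugate_gl, adjugate_gl,
      inv_inv, hai]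
    simp only [Matrix.mul_add, Matrix.add_mul, Matrix.smul_mul, Matrix.mul_smul, smul_smul]
    congr 1
    · simp only [← Matrix.mul_assoc]
      rw [Matrix.mul_assoc _ ((a⁻¹ : L2) : M2) (a : M2), e1, Matrix.mul_one]
    · simp only [← Matrix.mul_assoc]
      rw [Matrix.mul_assoc _ ((a⁻¹ : L2) : M2) (a : M2), e1, Matrix.mul_one,
        mul_inv_cancel₀ hd0, one_smul]

/-- The pairs inside `G₂`. -/
noncomputable def φ : pairs F →* Cfsg.Lie.G2 F :=
  (Φ.comp (pairs F).subtype).codRestrict (Cfsg.Lie.G2 F) fun p => Φ_mem p.2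

theorem φ_mulVec (p : pairs F) (x : V8) :
    (((φ p : Cfsg.Lie.G2 F) : GL (Fin 8) F) : Matrix (Fin 8) (Fin 8) F) *ᵥ x =
      act (p : L2 × L2) x := Φ_mulVec _ x

theorem G2_ext {g g' : Cfsg.Lie.G2 F} (h : ∀ x : V8,
    (((g : Cfsg.Lie.G2 F) : GL (Fin 8) F) : Matrix (Fin 8) (Fin 8) F) *ᵥ x =
    (((g' : Cfsg.Lie.G2 F) : GL (Fin 8) F) : Matrix (Fin 8) (Fin 8) F) *ᵥ x) : g = g' :=
  Subtype.ext (Units.ext (Matrix.ext_iff_mulVec.2 h))

/-- The pair giving the central involution. -/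
noncomputable def zPair (F : Type u) [Field F] : pairs F :=
  ⟨(1, -1), by rw [mem_pairs]; exact Units.ext (by simp [Matrix.det_fin_two])⟩

theorem φ_zPair (x : V8) :
    (((φ (zPair F) : Cfsg.Lie.G2 F) : GL (Fin 8) F) : Matrix (Fin 8) (Fin 8) F) *ᵥ x =
      ofPair (toA x) (-toB x) := by
  rw [φ_mulVec]
  simp [act_apply, zPair]

theorem zPair_comm (p : pairs F) : p * zPair F = zPair F * p :=
  Subtype.ext (Prod.ext (by simp [zPair]) (by simp [zPair]))

theorem scalar_of_commute {A : M2} (h : ∀ X : M2, A * X = X * A) : ∃ c : F, A = c • 1 := by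
  have h1 := h !![0, 1; 0, 0]
  have h2 := h !![0, 0; 1, 0]
  have a1 := congrFun (congrFun h1 0) 1
  have a2 := congrFun (congrFun h1 0) 0
  have a3 := congrFun (congrFun h2 0) 0
  simp [Matrix.mul_apply, Fin.sum_univ_two] at a1 a2 a3
  refine ⟨A 0 0, ?_⟩
  ext i j
  fin_cases i <;> fin_cases j <;> simp [a1, a2.symm, a3]

/-- The kernel is the diagonal scalars. -/
theorem φ_eq_one {p : pairs F} (h : φ p = 1) :
    (∃ c : F, ((p : L2 × L2).1 : M2) = c • 1) ∧ (p : L2 × L2).2 = (p : L2 × L2).1 := by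
  obtain ⟨⟨a, b⟩, hp⟩ := p
  have hx : ∀ x : V8, act (a, b) x = x := fun x => by
    rw [← φ_mulVec ⟨(a, b), hp⟩ x, h]
    simp
  have e1 : (a : M2) * ((a⁻¹ : L2) : M2) = 1 := by
    rw [← Units.val_mul, mul_inv_cancel, Units.val_one]
  have e2 : ((a⁻¹ : L2) : M2) * (a : M2) = 1 := by
    rw [← Units.val_mul, inv_mul_cancel, Units.val_one]
  refine ⟨scalar_of_commute fun X => ?_, ?_⟩
  · have h1 := congrArg toA (hx (ofPair X 0))
    rw [act_apply, toA_ofPair, toA_ofPair] at h1
    calc (a : M2) * X = (a : M2) * X * ((a⁻¹ : L2) : M2) * (a : M2) := by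
          rw [Matrix.mul_assoc _ ((a⁻¹ : L2) : M2), e2, Matrix.mul_one]
      _ = X * (a : M2) := by rw [h1]
  · have h1 := congrArg toB (hx (ofPair 0 1))
    rw [act_apply, toB_ofPair, toB_ofPair, Matrix.mul_one] at h1
    exact mul_inv_eq_one.1 (Units.ext h1)

theorem adjugate_mul_eq_det_smul (B : M2) : adjugate B * B = B.det • 1 := adjugate_mul B

/-- **The centralizer of the involution.** -/
theorem mem_range_of_commute (h2 : (2 : F) ≠ 0) {g : Cfsg.Lie.G2 F}
    (hg : g * φ (zPair F) = φ (zPair F) * g) : ∃ p : pairs F, φ p = g := by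
  classical
  set L : V8 →ₗ[F] V8 :=
    Matrix.mulVecLin ((g : GL (Fin 8) F) : Matrix (Fin 8) (Fin 8) F) with hL
  have hLx : ∀ x, L x = ((g : GL (Fin 8) F) : Matrix (Fin 8) (Fin 8) F) *ᵥ x := fun x => rfl
  have hmul : ∀ x y, L (Cfsg.Lie.zornMul x y) = Cfsg.Lie.zornMul (L x) (L y) := fun x y => g.2 x y
  have hinj : Function.Injective L := fun x y h => by
    have h' := congrArg (fun v => (((g⁻¹ : Cfsg.Lie.G2 F) : GL (Fin 8) F) :
      Matrix (Fin 8) (Fin 8) F) *ᵥ v) h
    simpa [hLx, Matrix.mulVec_mulVec, ← Units.val_mul] using h'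
  have hcomm : ∀ x, L (ofPair (toA x) (-toB x)) = ofPair (toA (L x)) (-toB (L x)) := fun x => by
    rw [← φ_zPair x, ← φ_zPair (L x), hLx, hLx, Matrix.mulVec_mulVec, Matrix.mulVec_mulVec,
      ← Units.val_mul, ← Units.val_mul, ← Subgroup.coe_mul, ← Subgroup.coe_mul, hg]
  have hneg : ∀ M : M2, M = -M → M = 0 := fun M h => by
    ext i j
    have h' : M i j = -M i j := congrFun (congrFun h i) j
    have : (2 : F) * M i j = 0 := by linear_combination h'
    exact (mul_eq_zero.1 this).resolve_left h2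
  have hH : ∀ X : M2, toB (L (ofPair X 0)) = 0 := by
    intro X
    have h1 := hcomm (ofPair X 0)
    rw [toA_ofPair, toB_ofPair, neg_zero] at h1
    refine hneg _ ?_
    conv_lhs => rw [h1, toB_ofPair]
  have hP : ∀ Y : M2, toA (L (ofPair 0 Y)) = 0 := by
    intro Y
    have h1 := hcomm (ofPair 0 Y)
    rw [toA_ofPair, toB_ofPair] at h1
    have h2' : ofPair (0 : M2) (-Y) = -(ofPair (0 : M2) Y) := ext_pair
      (by rw [toA_ofPair, ← neg_one_smul F (ofPair (0 : M2) Y), toA_smul, toA_ofPair, smul_zero])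
      (by rw [toB_ofPair, ← neg_one_smul F (ofPair (0 : M2) Y), toB_smul, toB_ofPair, neg_one_smul])
    rw [h2', map_neg] at h1
    have h3 := congrArg toA h1
    rw [toA_ofPair, ← neg_one_smul F (L (ofPair (0 : M2) Y)), toA_smul, neg_one_smul] at h3
    exact hneg _ h3.symm
  -- the action on the quaternion half
  let ψ : M2 →ₗ[F] M2 :=
    { toFun := fun X => toA (L (ofPair X 0))
      map_add' := fun X Y => by
        rw [← toA_add, ← map_add]
        congr 2
        exact ext_pair (by rw [toA_add, toA_ofPair, toA_ofPair, toA_ofPair])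
          (by rw [toB_add, toB_ofPair, toB_ofPair, toB_ofPair, add_zero])
      map_smul' := fun c X => by
        rw [RingHom.id_apply, ← toA_smul, ← map_smul]
        congr 2
        exact ext_pair (by rw [toA_smul, toA_ofPair, toA_ofPair])
          (by rw [toB_smul, toB_ofPair, toB_ofPair, smul_zero]) }
  have hψ : ∀ X, L (ofPair X 0) = ofPair (ψ X) 0 := fun X =>
    ext_pair (by rw [toA_ofPair]; rfl) (by rw [toB_ofPair, hH])
  have hψinj : Function.Injective ψ := fun X Y h => by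
    have h1 : L (ofPair X 0) = L (ofPair Y 0) := by rw [hψ, hψ, h]
    simpa [toA_ofPair] using congrArg toA (hinj h1)
  have hψmul : ∀ X Y, ψ (X * Y) = ψ X * ψ Y := by
    intro X Y
    have h1 : Cfsg.Lie.zornMul (ofPair X 0) (ofPair Y 0) = ofPair (X * Y) 0 := ext_pair
      (by simp [toA_mul, toA_ofPair, toB_ofPair])
      (by simp [toB_mul, toA_ofPair, toB_ofPair])
    have h2 := congrArg toA (hmul (ofPair X 0) (ofPair Y 0))
    rw [h1, hψ, hψ, hψ, toA_ofPair, toA_mul, toA_ofPair, toA_ofPair, toB_ofPair, toB_ofPair] at h2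
    simpa using h2
  have hψbij : Function.Bijective ψ := ⟨hψinj, LinearMap.surjective_of_injective hψinj⟩
  have hψ1 : ψ 1 = 1 := by
    obtain ⟨X, hX⟩ := hψbij.2 1
    have := hψmul 1 X
    rw [one_mul, hX, mul_one] at this
    exact this.symm
  let e : M2 ≃ₐ[F] M2 := AlgEquiv.ofLinearEquiv (LinearEquiv.ofBijective ψ hψbij) hψ1 hψmul
  let E : Module.End F (Fin 2 → F) ≃ₐ[F] Module.End F (Fin 2 → F) :=
    (Matrix.toLinAlgEquiv'.symm.trans e).trans Matrix.toLinAlgEquiv'
  obtain ⟨T, hT⟩ := AlgEquiv.eq_linearEquivConjAlgEquiv E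
  let A : L2 :=
    { val := LinearMap.toMatrix' (T : (Fin 2 → F) →ₗ[F] Fin 2 → F)
      inv := LinearMap.toMatrix' (T.symm : (Fin 2 → F) →ₗ[F] Fin 2 → F)
      val_inv := by rw [← LinearMap.toMatrix'_comp, LinearEquiv.comp_symm, LinearMap.toMatrix'_id]
      inv_val := by rw [← LinearMap.toMatrix'_comp, LinearEquiv.symm_comp, LinearMap.toMatrix'_id] }
  have hψA : ∀ X : M2, ψ X = (A : M2) * X * ((A⁻¹ : L2) : M2) := by
    intro X
    have h1 : E (Matrix.toLinAlgEquiv' X) = T.conjAlgEquiv F (Matrix.toLinAlgEquiv' X) := by rw [hT]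
    simp only [E, AlgEquiv.trans_apply, AlgEquiv.symm_apply_apply] at h1
    apply (Matrix.toLinAlgEquiv' (R := F) (n := Fin 2)).injective
    rw [map_mul, map_mul]
    refine h1.trans (LinearMap.ext fun v => ?_)
    simp only [LinearEquiv.conjAlgEquiv_apply, LinearMap.comp_apply, Module.End.mul_apply,
      Matrix.toLinAlgEquiv'_apply, LinearEquiv.coe_coe]
    show T (X *ᵥ T.symm v) = LinearMap.toMatrix' (T : (Fin 2 → F) →ₗ[F] Fin 2 → F) *ᵥ
      (X *ᵥ (LinearMap.toMatrix' (T.symm : (Fin 2 → F) →ₗ[F] Fin 2 → F) *ᵥ v))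
    rw [LinearMap.toMatrix'_mulVec, LinearMap.toMatrix'_mulVec]
    rfl
  -- the other half
  set b : M2 := toB (L (ofPair 0 1)) with hb
  have hL01 : L (ofPair 0 1) = ofPair 0 b := ext_pair (by rw [toA_ofPair, hP]) (by rw [toB_ofPair])
  have hL0Y : ∀ Y : M2, toB (L (ofPair 0 Y)) = b * ψ Y := by
    intro Y
    have h1 : Cfsg.Lie.zornMul (ofPair Y 0) (ofPair 0 1) = ofPair 0 Y := ext_pair
      (by simp [toA_mul, toA_ofPair, toB_ofPair])
      (by simp [toB_mul, toA_ofPair, toB_ofPair])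
    have h2 := congrArg toB (hmul (ofPair Y 0) (ofPair 0 1))
    rw [h1, hψ, hL01, toB_mul, toA_ofPair, toA_ofPair, toB_ofPair, toB_ofPair] at h2
    simpa using h2
  have hdet : b.det = 1 := by
    have h1 : Cfsg.Lie.zornMul (ofPair (0 : M2) 1) (ofPair 0 1) = ofPair (-1) 0 := ext_pair
      (by simp [toA_mul, toA_ofPair, toB_ofPair])
      (by simp [toB_mul, toA_ofPair, toB_ofPair])
    have h2 := congrArg toA (hmul (ofPair 0 1) (ofPair 0 1))
    rw [h1, hψ, hL01, toA_ofPair, toA_mul, toA_ofPair, toB_ofPair, map_neg, hψ1,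
      adjugate_mul_eq_det_smul] at h2
    have h3 := congrFun (congrFun h2 0) 0
    simpa using h3.symm
  let bu : L2 := GeneralLinearGroup.mkOfDetNeZero b (by rw [hdet]; exact one_ne_zero)
  refine ⟨⟨(A, bu * A), ?_⟩, G2_ext fun x => ?_⟩
  · rw [mem_pairs, map_mul, show GeneralLinearGroup.det bu = 1 from Units.ext hdet, one_mul]
  rw [φ_mulVec, ← hLx, act_apply]
  have hx : x = ofPair (toA x) 0 + ofPair 0 (toB x) := ext_pair
    (by rw [toA_add, toA_ofPair, toA_ofPair, add_zero])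
    (by rw [toB_add, toB_ofPair, toB_ofPair, zero_add])
  apply ext_pair
  · rw [toA_ofPair]
    conv_rhs => rw [hx, map_add, toA_add, hψ, toA_ofPair, hP, add_zero, hψA]
  · rw [toB_ofPair]
    conv_rhs => rw [hx, map_add, toB_add, hH, zero_add, hL0Y, hψA]
    rw [Units.val_mul, show (bu : M2) = b from rfl]
    simp only [Matrix.mul_assoc]

variable [Fintype F]

/-- The rotation by a quarter turn. -/
def qturn (F : Type u) [Field F] : GL (Fin 2) F :=
  { val := !![0, 1; -1, 0]
    inv := !![0, -1; 1, 0]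
    val_inv := by ext i j; fin_cases i <;> fin_cases j <;> simp [Matrix.mul_apply, Fin.sum_univ_two]
    inv_val := by ext i j; fin_cases i <;> fin_cases j <;> simp [Matrix.mul_apply, Fin.sum_univ_two] }

theorem qturn_coe : ((qturn F : L2) : M2) = !![0, 1; -1, 0] := rfl

theorem qturn_conj (a b : Fˣ) :
    qturn F * CfsgLib.Invol.diag2 (a, b) * (qturn F)⁻¹ = CfsgLib.Invol.diag2 (b, a) := by
  rw [mul_inv_eq_iff_eq_mul]
  refine Units.ext ?_
  rw [Units.val_mul, Units.val_mul, qturn_coe, CfsgLib.Invol.diag2_coe, CfsgLib.Invol.diag2_coe]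
  ext i j
  fin_cases i <;> fin_cases j <;> simp [Matrix.mul_apply, Fin.sum_univ_two]

/-- A Sylow `2`-subgroup of `GL₂` with the monomial elements. -/
theorem exists_local_monomial (hodd : Odd (Fintype.card F)) :
    ∃ (D : Sylow 2 (GL (Fin 2) F)) (z : Fˣ),
      CfsgLib.Invol.diag2 (z, 1) ∈ (D : Subgroup L2) ∧ qturn F ∈ (D : Subgroup L2) ∧
      (∀ e ∈ (D : Subgroup L2), GeneralLinearGroup.det e ∈ Subgroup.zpowers z) ∧
      SqComm ((D : Subgroup L2) ⊓ GeneralLinearGroup.det.ker) ∧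
      Nat.card ((D : Subgroup L2).map GeneralLinearGroup.det) =
        2 ^ padicValNat 2 (Fintype.card F - 1) ∧
      Nat.card ((D : Subgroup L2) ⊓ GeneralLinearGroup.det.ker : Subgroup L2) =
        2 ^ padicValNat 2 (Fintype.card F ^ 2 - 1) := by
  classical
  haveI := Fact.mk Nat.prime_two
  set c := padicValNat 2 (Fintype.card F - 1) with hc
  obtain ⟨z, hz⟩ := CfsgLib.Invol.exists_unit_orderOf (F := F) (d := 2 ^ c)
    (by rw [hc]; exact pow_padicValNat_dvd)
  set h : L2 := CfsgLib.Invol.diag2 (z, 1) with hh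
  have hdet : GeneralLinearGroup.det h = z := Units.ext (by
    rw [GeneralLinearGroup.val_det_apply, hh, CfsgLib.Invol.diag2_coe, Matrix.det_fin_two_of]
    simp)
  set T₀ : Subgroup L2 :=
    ((Subgroup.zpowers z).prod (Subgroup.zpowers z)).map CfsgLib.Invol.diag2 with hT₀
  have hzp : IsPGroup 2 (Subgroup.zpowers z) :=
    IsPGroup.of_card (n := c) (by rw [Nat.card_zpowers, hz])
  have hT₀p : IsPGroup 2 T₀ := by
    refine IsPGroup.map ?_ _
    refine IsPGroup.of_card (n := c + c) ?_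
    rw [Nat.card_congr (Subgroup.prodEquiv _ _).toEquiv, Nat.card_prod, Nat.card_zpowers, hz,
      pow_add]
  have hsp : IsPGroup 2 (Subgroup.zpowers (qturn F)) := by
    intro ⟨x, hx⟩
    obtain ⟨j, rfl⟩ := Subgroup.mem_zpowers_iff.1 hx
    refine ⟨2, Subtype.ext ?_⟩
    rw [SubgroupClass.coe_pow]
    show (qturn F ^ j) ^ (4 : ℕ) = 1
    have h4 : qturn F ^ (4 : ℕ) = 1 := by
      refine Units.ext ?_
      rw [Units.val_pow_eq_pow_val, qturn_coe, Units.val_one,
        show (4 : ℕ) = 2 + 2 from rfl, pow_add, pow_two]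
      ext i k
      fin_cases i <;> fin_cases k <;> simp [Matrix.mul_apply, Fin.sum_univ_two]
    rw [← zpow_natCast, ← _root_.zpow_mul, mul_comm, _root_.zpow_mul, zpow_natCast, h4,
      _root_.one_zpow]
  have hnorm : Subgroup.zpowers (qturn F) ≤ Subgroup.normalizer (T₀ : Set L2) := by
    rw [Subgroup.zpowers_le, Subgroup.mem_normalizer_iff]
    have hfwd : ∀ x ∈ T₀, qturn F * x * (qturn F)⁻¹ ∈ T₀ := by
      rintro _ ⟨⟨a, b⟩, ⟨ha, hb⟩, rfl⟩
      rw [qturn_conj]
      exact ⟨(b, a), ⟨hb, ha⟩, rfl⟩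
    refine fun x => ⟨hfwd x, fun hx => ?_⟩
    obtain ⟨⟨a, b⟩, ⟨ha, hb⟩, hab⟩ := hx
    have h1 := qturn_conj b a
    rw [hab, mul_left_inj, mul_right_inj] at h1
    exact ⟨(b, a), ⟨hb, ha⟩, h1⟩
  have hK : IsPGroup 2 (Subgroup.zpowers (qturn F) ⊔ T₀ : Subgroup L2) :=
    hsp.to_sup_of_normal_right' hT₀p hnorm
  obtain ⟨D, hD⟩ := hK.exists_le_sylow
  have hhD : h ∈ (D : Subgroup L2) :=
    hD (Subgroup.mem_sup_right ⟨(z, 1), ⟨Subgroup.mem_zpowers z, Subgroup.one_mem _⟩, rfl⟩)
  have hDcard : Nat.card (D : Subgroup L2) =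
      2 ^ (c + padicValNat 2 (Fintype.card F ^ 2 - 1)) := by
    rw [D.card_eq_multiplicity, val_card_gl hodd]
    congr 1
    simp [hc]
  have himg : ∀ e ∈ (D : Subgroup L2), GeneralLinearGroup.det e ∈ Subgroup.zpowers z := by
    intro e he
    obtain ⟨k, hk⟩ := (D.isPGroup' ⟨e, he⟩)
    have he1 : (GeneralLinearGroup.det e) ^ 2 ^ k = 1 := by
      rw [← map_pow, show e ^ 2 ^ k = 1 from by simpa using congrArg Subtype.val hk, map_one]
    obtain ⟨j, -, hj⟩ := (Nat.dvd_prime_pow Nat.prime_two).1 (orderOf_dvd_of_pow_eq_one he1)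
    have hdc : orderOf (GeneralLinearGroup.det e) ∣ 2 ^ c := by
      rw [hj]
      refine Nat.pow_dvd_pow 2 ?_
      rw [hc, ← padicValNat_dvd_iff_le (Nat.sub_pos_of_lt Fintype.one_lt_card).ne', ← hj,
        ← Fintype.card_units]
      exact orderOf_dvd_card
    haveI : NeZero (2 ^ c) := ⟨pow_ne_zero _ two_ne_zero⟩
    have hzprim : IsPrimitiveRoot (z : F) (2 ^ c) := by
      have := IsPrimitiveRoot.orderOf (z : F)
      rwa [orderOf_units, hz] at this
    obtain ⟨i, -, hi⟩ := hzprim.eq_pow_of_pow_eq_one (ξ := (GeneralLinearGroup.det e : F)) (by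
        rw [← Units.val_pow_eq_pow_val, orderOf_dvd_iff_pow_eq_one.1 hdc, Units.val_one])
    exact ⟨i, Units.ext (by simpa using hi)⟩
  have hrange : (D : Subgroup L2).map GeneralLinearGroup.det = Subgroup.zpowers z := le_antisymm
    (by rintro _ ⟨e, he, rfl⟩; exact himg e he) (Subgroup.zpowers_le.2 ⟨h, hhD, hdet⟩)
  have hQcard : Nat.card ((D : Subgroup L2) ⊓ GeneralLinearGroup.det.ker : Subgroup L2) =
      2 ^ padicValNat 2 (Fintype.card F ^ 2 - 1) := by
    let f := (GeneralLinearGroup.det : L2 →* Fˣ).comp (D : Subgroup L2).subtype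
    have hf : f.range = Subgroup.zpowers z := by
      rw [MonoidHom.range_comp, Subgroup.range_subtype]
      exact hrange
    have h1 := f.ker.index_mul_card
    rw [Subgroup.index_ker, hf, Nat.card_zpowers, hz, hDcard, pow_add] at h1
    have h2 := Nat.eq_of_mul_eq_mul_left (pow_pos two_pos c) h1
    rw [← h2]
    refine (Nat.card_congr ?_).symm
    exact { toFun := fun x => ⟨(x.1 : L2), x.1.2, x.2⟩
            invFun := fun x => ⟨⟨(x : L2), x.2.1⟩, x.2.2⟩
            left_inv := fun x => rfl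
            right_inv := fun x => rfl }
  refine ⟨D, z, hhD, hD (Subgroup.mem_sup_left (Subgroup.mem_zpowers _)), himg, ?_, ?_, hQcard⟩
  · have hle : (D : Subgroup L2) ⊓ GeneralLinearGroup.det.ker ≤
        (Matrix.SpecialLinearGroup.toGL : Matrix.SpecialLinearGroup (Fin 2) F →* L2).range := by
      intro x hx
      exact ⟨⟨(x : M2), by simpa using congrArg Units.val hx.2⟩, Units.ext rfl⟩
    have hinj := Matrix.SpecialLinearGroup.toGL_injective (n := Fin 2) (R := F)
    have hv : (Nat.card (Matrix.SpecialLinearGroup (Fin 2) F)).factorization 2 =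
        padicValNat 2 (Fintype.card F ^ 2 - 1) := by
      have h1 : (Nat.card (Matrix.SpecialLinearGroup (Fin 2) F)).factorization 2 +
          padicValNat 2 (Fintype.card F - 1) = (Nat.card (GL (Fin 2) F)).factorization 2 := val_card_sl 1
      rw [val_card_gl hodd, show 2 / 2 = 1 from rfl, show 2 - 1 = 1 from rfl, Nat.factorial_one,
        padicValNat.one] at h1
      omega
    have h0 := sqComm_sl_two hodd (Sylow.ofCard
      (((D : Subgroup L2) ⊓ GeneralLinearGroup.det.ker).comap Matrix.SpecialLinearGroup.toGL)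
      (by rw [card_comap hinj hle, hQcard, hv]))
    rw [Sylow.coe_ofCard] at h0
    rw [← Subgroup.map_comap_eq_self hle]
    exact sqComm_map h0 _
  · rw [hrange, Nat.card_zpowers, hz]

/-- The pairs over a subgroup, counted through the determinant. -/
theorem natCard_pairs_inf (A : Subgroup L2) :
    Nat.card (A.prod A ⊓ pairs F : Subgroup (L2 × L2)) =
      Nat.card (A.map GeneralLinearGroup.det) *
        Nat.card (A ⊓ GeneralLinearGroup.det.ker : Subgroup L2) ^ 2 := by
  set S : Subgroup (L2 × L2) := A.prod A ⊓ pairs F with hS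
  let f : S →* Fˣ :=
    ((GeneralLinearGroup.det (n := Fin 2) (R := F)).comp (MonoidHom.fst _ _)).comp S.subtype
  have hr : f.range = A.map GeneralLinearGroup.det := by
    refine le_antisymm ?_ ?_
    · rintro _ ⟨⟨⟨a, b⟩, hab⟩, rfl⟩
      exact ⟨a, hab.1.1, rfl⟩
    · rintro _ ⟨a, ha, rfl⟩
      exact ⟨⟨(a, a), ⟨⟨ha, ha⟩, rfl⟩⟩, rfl⟩
  rw [← f.ker.index_mul_card, Subgroup.index_ker, hr, pow_two,
    ← Nat.card_prod (A ⊓ GeneralLinearGroup.det.ker : Subgroup L2)
      (A ⊓ GeneralLinearGroup.det.ker : Subgroup L2)]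
  congr 1
  refine Nat.card_congr ?_
  exact
    { toFun := fun x => (⟨(x.1 : L2 × L2).1, x.1.2.1.1, x.2⟩,
        ⟨(x.1 : L2 × L2).2, x.1.2.1.2, (mem_pairs.1 x.1.2.2).symm.trans x.2⟩)
      invFun := fun y => ⟨⟨((y.1 : L2), (y.2 : L2)), ⟨⟨y.1.2.1, y.2.2.1⟩,
        y.1.2.2.trans (Eq.symm y.2.2.2)⟩⟩, y.1.2.2⟩
      left_inv := fun x => rfl
      right_inv := fun y => rfl }

/-- **The Sylow `2`-subgroups of `G₂(q)`, `q` odd: squares are commutators.** -/
theorem sylow_sq_G2 (hodd : Odd (Fintype.card F)) (P : Sylow 2 (Cfsg.Lie.G2 F)) :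
    ∀ x : (P : Subgroup (Cfsg.Lie.G2 F)), x ^ 2 ∈ commutator (P : Subgroup (Cfsg.Lie.G2 F)) := by
  classical
  haveI := Fact.mk Nat.prime_two
  have h2 : (2 : F) ≠ 0 := fun h0 => by
    have : CharP F 2 := CharTwo.of_one_ne_zero_of_two_eq_zero one_ne_zero h0
    have h2' := FiniteField.even_card_of_char_two (F := F) (ringChar.eq F 2)
    rw [Nat.odd_iff] at hodd
    omega
  obtain ⟨D, z, hzD, hsD, himg, hsq, hcmap, hcker⟩ := exists_local_monomial (F := F) hodd
  set A : Subgroup L2 := (D : Subgroup L2) with hA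
  set T : Subgroup L2 := A ⊓ GeneralLinearGroup.det.ker with hT
  set S₀ : Subgroup (pairs F) := (A.prod A).subgroupOf (pairs F) with hS₀
  -- the Sylow subgroup of the pairs
  have hS₀card : Nat.card S₀ = 2 ^ (Nat.card (pairs F)).factorization 2 := by
    have h1 : Nat.card S₀ = Nat.card (A.prod A ⊓ pairs F : Subgroup (L2 × L2)) := by
      rw [hS₀, ← Subgroup.inf_subgroupOf_right, Nat.card_congr
        (Subgroup.subgroupOfEquivOfLe inf_le_right).toEquiv]
    have h3 : Nat.card (pairs F) =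
        Nat.card Fˣ * Nat.card (GeneralLinearGroup.det (n := Fin 2) (R := F)).ker ^ 2 := by
      have h4 := natCard_pairs_inf (F := F) ⊤
      rw [Subgroup.top_prod_top, top_inf_eq, top_inf_eq] at h4
      rw [h4, Subgroup.map_top_of_surjective _ GeneralLinearGroup.det_surjective, Subgroup.card_top]
    have hgl : (Nat.card (GL (Fin 2) F)).factorization 2 =
        padicValNat 2 (Fintype.card F - 1) + padicValNat 2 (Fintype.card F ^ 2 - 1) := by
      rw [val_card_gl hodd]
      simp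
    have hker := (GeneralLinearGroup.det (n := Fin 2) (R := F)).ker.index_mul_card
    rw [Subgroup.index_ker, MonoidHom.range_eq_top.2 GeneralLinearGroup.det_surjective,
      Subgroup.card_top] at hker
    rw [← hker, Nat.factorization_mul Nat.card_pos.ne' Nat.card_pos.ne', Finsupp.add_apply] at hgl
    have hu : (Nat.card Fˣ).factorization 2 = padicValNat 2 (Fintype.card F - 1) := by
      rw [Nat.card_units, Nat.card_eq_fintype_card, Nat.factorization_def _ Nat.prime_two]
    rw [h1, natCard_pairs_inf, hcmap, hcker, h3,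
      Nat.factorization_mul Nat.card_pos.ne' (pow_ne_zero _ Nat.card_pos.ne'), Finsupp.add_apply,
      Nat.factorization_pow, Finsupp.smul_apply, smul_eq_mul, ← pow_mul, ← pow_add]
    congr 1
    omega
  let P₀ : Sylow 2 (pairs F) := Sylow.ofCard S₀ hS₀card
  set z₀ : Cfsg.Lie.G2 F := φ (zPair F) with hz₀
  set C : Subgroup (Cfsg.Lie.G2 F) := Subgroup.centralizer ({z₀} : Set (Cfsg.Lie.G2 F)) with hC
  have hφC : ∀ p, φ p ∈ C := fun p => Subgroup.mem_centralizer_singleton_iff.2 (by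
    rw [hz₀, ← map_mul, ← map_mul, zPair_comm])
  let φC : pairs F →* C := φ.codRestrict C hφC
  have hsurj : Function.Surjective φC := by
    rintro ⟨g, hg⟩
    obtain ⟨p, hp⟩ := mem_range_of_commute h2 (Subgroup.mem_centralizer_singleton_iff.1 hg)
    exact ⟨p, Subtype.ext hp⟩
  set S : Subgroup (Cfsg.Lie.G2 F) := S₀.map φ with hS
  have hSC : S ≤ C := by
    rintro _ ⟨p, -, rfl⟩
    exact hφC p
  -- generators and their squares
  have hqdet : GeneralLinearGroup.det (qturn F) = 1 := Units.ext (by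
    rw [GeneralLinearGroup.val_det_apply, qturn_coe, Matrix.det_fin_two_of]; simp)
  have hqT : qturn F ∈ T := ⟨hsD, hqdet⟩
  have hTdet : ∀ t ∈ T, GeneralLinearGroup.det t = 1 := fun t ht => ht.2
  let ι₁ : T →* pairs F :=
    { toFun := fun t => ⟨((t : L2), 1), by rw [mem_pairs, hTdet t t.2, map_one]⟩
      map_one' := rfl
      map_mul' := fun a b => Subtype.ext (Prod.ext rfl (one_mul 1).symm) }
  let ι₂ : T →* pairs F :=
    { toFun := fun t => ⟨(1, (t : L2)), by rw [mem_pairs, hTdet t t.2, map_one]⟩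
      map_one' := rfl
      map_mul' := fun a b => Subtype.ext (Prod.ext (one_mul 1).symm rfl) }
  have hι₁ : ∀ t, ι₁ t ∈ S₀ := fun t => ⟨t.2.1, A.one_mem⟩
  have hι₂ : ∀ t, ι₂ t ∈ S₀ := fun t => ⟨A.one_mem, t.2.1⟩
  let hh : L2 := CfsgLib.Invol.diag2 (z, 1)
  let w : pairs F := ⟨(hh, hh), mem_pairs.2 rfl⟩
  have hw : w ∈ S₀ := ⟨hzD, hzD⟩
  have hTsq : ∀ t : T, t ^ 2 ∈ commutator T := sqComm_iff.1 hsq
  have hιsq : ∀ (ι : T →* pairs F), (∀ t, ι t ∈ S₀) → ∀ t, φ (ι t) ^ 2 ∈ ⁅S, S⁆ := by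
    intro ι hι t
    have h1 : (φ.comp ι) (t ^ 2) ∈ (commutator T).map (φ.comp ι) :=
      Subgroup.mem_map_of_mem _ (hTsq t)
    rw [commutator_def, Subgroup.map_commutator, map_pow] at h1
    have hle : (⊤ : Subgroup T).map (φ.comp ι) ≤ S := by
      rintro _ ⟨t', -, rfl⟩
      exact Subgroup.mem_map_of_mem φ (hι t')
    exact Subgroup.commutator_mono hle hle h1
  have hSsq : SqComm S := by
    refine of_closure (T := φ '' (Set.range ι₁ ∪ Set.range ι₂ ∪ {w})) ?_ ?_ ?_
    · rintro _ ⟨p, ((⟨t, rfl⟩ | ⟨t, rfl⟩) | rfl), rfl⟩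
      · exact Subgroup.mem_map_of_mem φ (hι₁ t)
      · exact Subgroup.mem_map_of_mem φ (hι₂ t)
      · exact Subgroup.mem_map_of_mem φ hw
    · rw [hS, ← MonoidHom.map_closure]
      refine Subgroup.map_mono ?_
      rintro ⟨⟨a, b⟩, hab⟩ ⟨ha, hb⟩
      obtain ⟨i, hi⟩ := Subgroup.mem_zpowers_iff.1 (himg a ha)
      have hdh : GeneralLinearGroup.det hh = z := Units.ext (by
        rw [GeneralLinearGroup.val_det_apply]
        simp [hh, CfsgLib.Invol.diag2_coe, Matrix.det_fin_two_of])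
      have hat : a * (hh ^ i)⁻¹ ∈ T := by
        refine ⟨A.mul_mem ha (A.inv_mem (A.zpow_mem hzD i)), ?_⟩
        show GeneralLinearGroup.det _ = 1
        rw [map_mul, map_inv, map_zpow, hdh, hi, mul_inv_cancel]
      have hbt : b * (hh ^ i)⁻¹ ∈ T := by
        refine ⟨A.mul_mem hb (A.inv_mem (A.zpow_mem hzD i)), ?_⟩
        show GeneralLinearGroup.det _ = 1
        rw [map_mul, map_inv, map_zpow, hdh, hi, ← (mem_pairs.1 hab), mul_inv_cancel]
      have e : (⟨(a, b), hab⟩ : pairs F) = ι₁ ⟨_, hat⟩ * ι₂ ⟨_, hbt⟩ * w ^ i := by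
        refine Subtype.ext (Prod.ext ?_ ?_) <;> simp [ι₁, ι₂, w]
      rw [e]
      exact mul_mem (mul_mem (Subgroup.subset_closure (Or.inl (Or.inl ⟨_, rfl⟩)))
        (Subgroup.subset_closure (Or.inl (Or.inr ⟨_, rfl⟩))))
        (Subgroup.zpow_mem _ (Subgroup.subset_closure
          (show w ∈ (Set.range ι₁ ∪ Set.range ι₂ ∪ {w} : Set (pairs F)) from Or.inr rfl)) i)
    · rintro _ ⟨p, ((⟨t, rfl⟩ | ⟨t, rfl⟩) | rfl), rfl⟩
      · exact hιsq ι₁ hι₁ t
      · exact hιsq ι₂ hι₂ t
      · let cc : L2 := CfsgLib.Invol.diag2 (z, z)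
        let cw : pairs F := ⟨(cc, cc), mem_pairs.2 rfl⟩
        have hcc : φ cw = 1 := G2_ext fun x => by
          rw [φ_mulVec]
          have e : (cc : M2) = (z : F) • 1 := by
            ext i j; fin_cases i <;> fin_cases j <;> simp [cc, CfsgLib.Invol.diag2_coe]
          have e2 : ((cc⁻¹ : L2) : M2) = (z : F)⁻¹ • 1 := by
            rw [← map_inv]
            ext i j; fin_cases i <;> fin_cases j <;> simp [CfsgLib.Invol.diag2_coe]
          simp [act_apply, cw, e, e2, smul_smul, ofPair_toA_toB]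
        have hkey : hh * hh = cc * ⁅hh, qturn F⁆ := by
          rw [commutatorElement_def,
            show hh * qturn F * hh⁻¹ * (qturn F)⁻¹ = hh * (qturn F * hh⁻¹ * (qturn F)⁻¹) by group,
            ← map_inv, Prod.inv_mk, qturn_conj, ← map_mul, ← map_mul, ← map_mul]
          exact congrArg _ (Prod.ext (by simp [mul_assoc]) (by simp))
        have e : w ^ 2 = cw * (⁅w, ι₁ ⟨qturn F, hqT⟩⁆ * ⁅w, ι₂ ⟨qturn F, hqT⟩⁆) := by
          refine Subtype.ext (Prod.ext ?_ ?_) <;>
            simp [pow_two, w, cw, ι₁, ι₂, hkey, commutatorElement_def]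
        rw [← map_pow, e, map_mul, hcc, one_mul, map_mul, map_commutatorElement,
          map_commutatorElement]
        exact mul_mem
          (Subgroup.commutator_mem_commutator (Subgroup.mem_map_of_mem φ hw)
            (Subgroup.mem_map_of_mem φ (hι₁ _)))
          (Subgroup.commutator_mem_commutator (Subgroup.mem_map_of_mem φ hw)
            (Subgroup.mem_map_of_mem φ (hι₂ _)))
  -- elements commuting with `T` are scalar
  have hcen : ∀ a : L2, (∀ t ∈ T, a * t = t * a) → ∃ c : F, (a : M2) = c • 1 := by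
    intro a ha
    have h1 := congrArg Units.val (ha _ hqT)
    rw [Units.val_mul, Units.val_mul, qturn_coe] at h1
    have a1 := congrFun (congrFun h1 0) 0
    have a2 := congrFun (congrFun h1 0) 1
    simp [Matrix.mul_apply, Fin.sum_univ_two] at a1 a2
    by_cases hr : (a : M2) 0 1 = 0
    · refine ⟨(a : M2) 0 0, ?_⟩
      ext i j
      fin_cases i <;> fin_cases j <;> simp [hr, ← a2]
      linear_combination -a1 - hr
    exfalso
    have hform : ∀ t ∈ T, (t : M2) 1 0 = -(t : M2) 0 1 ∧ (t : M2) 1 1 = (t : M2) 0 0 := by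
      intro t ht
      have h3 := congrArg Units.val (ha t ht)
      rw [Units.val_mul, Units.val_mul] at h3
      have b1 := congrFun (congrFun h3 0) 0
      have b2 := congrFun (congrFun h3 0) 1
      simp [Matrix.mul_apply, Fin.sum_univ_two] at b1 b2
      constructor
      · refine mul_left_cancel₀ hr ?_
        linear_combination b1 - (t : M2) 0 1 * a1
      · refine mul_left_cancel₀ hr ?_
        linear_combination b2 - (t : M2) 0 1 * a2
    have hcomm : ∀ s ∈ T, ∀ t ∈ T, ⁅s, t⁆ = 1 := by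
      intro s hs t ht
      rw [commutatorElement_eq_one_iff_mul_comm]
      obtain ⟨s1, s2⟩ := hform s hs
      obtain ⟨t1, t2⟩ := hform t ht
      refine Units.ext ?_
      ext i j
      fin_cases i <;> fin_cases j <;>
        simp [Matrix.mul_apply, Fin.sum_univ_two, s1, s2, t1, t2] <;> ring
    have hbot : ⁅T, T⁆ = ⊥ := le_bot_iff.1 (Subgroup.commutator_le.2 fun s hs t ht =>
      Subgroup.mem_bot.2 (hcomm s hs t ht))
    have h4 := hsq _ hqT
    rw [hbot, Subgroup.mem_bot] at h4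
    have h5' := congrArg Units.val h4
    rw [Units.val_pow_eq_pow_val, qturn_coe, pow_two] at h5'
    have h5 := congrFun (congrFun h5' 0) 0
    simp [Matrix.mul_apply, Fin.sum_univ_two] at h5
    exact h2 (by linear_combination -h5)
  -- the centre of `S`
  have hzS : z₀ ∈ S := by
    refine Subgroup.mem_map_of_mem φ ⟨Subgroup.one_mem _, ?_⟩
    show (-1 : L2) ∈ A
    have : (-1 : L2) = qturn F * qturn F := by
      refine Units.ext ?_
      rw [Units.val_mul, qturn_coe]
      ext i j; fin_cases i <;> fin_cases j <;> simp [Matrix.mul_apply, Fin.sum_univ_two]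
    rw [this]
    exact mul_mem hsD hsD
  have hcenter : ∀ y ∈ S, (∀ s ∈ S, y * s = s * y) → y = 1 ∨ y = z₀ := by
    rintro _ ⟨⟨⟨a, b⟩, hab⟩, hy, rfl⟩ hc
    have hker : ∀ q : pairs F, q ∈ S₀ →
        φ (⁅(⟨(a, b), hab⟩ : pairs F), q⁆) = 1 := fun q hq => by
      rw [map_commutatorElement, commutatorElement_eq_one_iff_mul_comm]
      exact hc _ (Subgroup.mem_map_of_mem φ hq)
    have ha' : ∀ t ∈ T, a * t = t * a := fun t ht => by
      have h3 := (φ_eq_one (hker _ (hι₁ ⟨t, ht⟩))).2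
      simp [ι₁, commutatorElement_def] at h3
      rw [← commutatorElement_eq_one_iff_mul_comm, commutatorElement_def]
      exact h3.symm
    have hb' : ∀ t ∈ T, b * t = t * b := fun t ht => by
      have h3 := (φ_eq_one (hker _ (hι₂ ⟨t, ht⟩))).2
      simp [ι₂, commutatorElement_def] at h3
      rw [← commutatorElement_eq_one_iff_mul_comm, commutatorElement_def]
      exact h3
    obtain ⟨ca, hca⟩ := hcen a ha'
    obtain ⟨cb, hcb⟩ := hcen b hb'
    have hd : ca * ca = cb * cb := by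
      have h3 : (a : M2).det = (b : M2).det := congrArg Units.val (mem_pairs.1 hab)
      rw [hca, hcb, Matrix.det_smul, Matrix.det_smul, Matrix.det_one, Fintype.card_fin] at h3
      linear_combination h3
    have hca0 : ca ≠ 0 := fun h0 => (GeneralLinearGroup.det a).ne_zero (by
      rw [GeneralLinearGroup.val_det_apply, hca, h0, zero_smul, Matrix.det_zero])
    have hai : ((a⁻¹ : L2) : M2) = ca⁻¹ • 1 := by
      have e1 : (a : M2) * ((a⁻¹ : L2) : M2) = 1 := by
        rw [← Units.val_mul, mul_inv_cancel, Units.val_one]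
      rw [hca, Matrix.smul_mul, Matrix.one_mul] at e1
      rw [← e1, smul_smul, inv_mul_cancel₀ hca0, one_smul]
    rcases mul_self_eq_mul_self_iff.1 hd.symm with hcc | hcc
    · left
      refine G2_ext fun x => ?_
      rw [φ_mulVec]
      simp [act_apply, hca, hcb, hai, hcc, smul_smul, hca0, ofPair_toA_toB]
    · right
      refine G2_ext fun x => ?_
      rw [φ_mulVec, hz₀, φ_zPair]
      simp [act_apply, hca, hcb, hai, hcc, smul_smul, hca0]
  -- `S` is a Sylow subgroup
  have hSp : IsPGroup 2 S := (IsPGroup.of_card hS₀card).map φ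
  obtain ⟨R, hR⟩ := hSp.exists_le_sylow
  have hSR : S = (R : Subgroup (Cfsg.Lie.G2 F)) := by
    by_contra hne
    haveI : Group.IsNilpotent (R : Subgroup (Cfsg.Lie.G2 F)) := R.isPGroup'.isNilpotent
    set S' := S.subgroupOf (R : Subgroup (Cfsg.Lie.G2 F)) with hS'
    have hlt : S' < ⊤ := lt_top_iff_ne_top.2 fun h =>
      hne (le_antisymm hR (Subgroup.subgroupOf_eq_top.1 h))
    obtain ⟨g, hg, hgS⟩ := SetLike.exists_of_lt
      ((normalizerCondition_of_isNilpotent (G := (R : Subgroup (Cfsg.Lie.G2 F)))) S' hlt)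
    have hgn : ∀ y ∈ S, (g : Cfsg.Lie.G2 F) * y * (g : Cfsg.Lie.G2 F)⁻¹ ∈ S := fun y hy =>
      (Subgroup.mem_normalizer_iff.1 hg ⟨y, hR hy⟩).1 hy
    have hgn' : ∀ y ∈ S, (g : Cfsg.Lie.G2 F)⁻¹ * y * (g : Cfsg.Lie.G2 F) ∈ S := fun y hy =>
      (Subgroup.mem_normalizer_iff''.1 hg ⟨y, hR hy⟩).1 hy
    have hgz : (g : Cfsg.Lie.G2 F) * z₀ * (g : Cfsg.Lie.G2 F)⁻¹ = z₀ := by
      rcases hcenter _ (hgn _ hzS) (fun s hs => by
        have h3 : (g : Cfsg.Lie.G2 F)⁻¹ * s * g ∈ C := hSC (hgn' s hs)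
        rw [hC, Subgroup.mem_centralizer_singleton_iff] at h3
        calc (g : Cfsg.Lie.G2 F) * z₀ * (g : Cfsg.Lie.G2 F)⁻¹ * s
            = g * (z₀ * ((g : Cfsg.Lie.G2 F)⁻¹ * s * g)) * (g : Cfsg.Lie.G2 F)⁻¹ := by group
          _ = g * (((g : Cfsg.Lie.G2 F)⁻¹ * s * g) * z₀) * (g : Cfsg.Lie.G2 F)⁻¹ := by rw [h3]
          _ = s * (g * z₀ * (g : Cfsg.Lie.G2 F)⁻¹) := by group) with h | h
      · exfalso
        have hz1 : z₀ = 1 := by
          have : z₀ = (g : Cfsg.Lie.G2 F)⁻¹ * (g * z₀ * (g : Cfsg.Lie.G2 F)⁻¹) * g := by group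
          rw [this, h]; group
        have h3 := congrFun (congrArg toB (φ_zPair (F := F) (ofPair 0 1))) 0
        rw [show φ (zPair F) = (1 : Cfsg.Lie.G2 F) from hz1] at h3
        simp [toB_ofPair] at h3
        have h4 := congrFun h3 0
        simp at h4
        exact h2 (by linear_combination h4)
      · exact h
    have hgC : (g : Cfsg.Lie.G2 F) ∈ C :=
      Subgroup.mem_centralizer_singleton_iff.2 (mul_inv_eq_iff_eq_mul.1 hgz)
    have hRC : IsPGroup 2 ((R : Subgroup (Cfsg.Lie.G2 F)).subgroupOf C) :=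
      R.isPGroup'.comap_of_injective C.subtype C.subtype_injective
    have hle : ((P₀.mapSurjective hsurj : Sylow 2 C) : Subgroup C) ≤
        (R : Subgroup (Cfsg.Lie.G2 F)).subgroupOf C := by
      rintro _ ⟨p, hp, rfl⟩
      exact hR ⟨p, hp, rfl⟩
    have heq := (P₀.mapSurjective hsurj).is_maximal' hRC hle
    have hgmem : (⟨g, hgC⟩ : C) ∈ (R : Subgroup (Cfsg.Lie.G2 F)).subgroupOf C := g.2
    rw [heq] at hgmem
    obtain ⟨p, hp, hpg⟩ := hgmem
    exact hgS ⟨p, hp, congrArg Subtype.val hpg⟩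
  refine sylow_sq S ?_ hSsq P
  rw [hSR]
  exact R.card_eq_multiplicity

end CfsgLib.BlockA.OctonionSylow
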