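import Cfsg.Agent.Lib.Solvable.Nilpotent
import Cfsg.Agent.Lib.Solvable.Frattini2
import Cfsg.Agent.Lib.Solvable.PCore
import Cfsg.Agent.Lib.Transfer.Tate
import Cfsg.Agent.Lib.Complement.FpfNilpotent
import Cfsg.Agent.Lib.OddLocal.Stab
import Cfsg.Agent.Lib.ClassK.Zsigmondy
import Cfsg.Agent.Lib.FT.OddOrder
import Cfsg.Agent.Lib.Char.Column

/-!
# Groups whose derived subgroup is a normal subgroup plus one conjugacy class

Let `K` be normal in `G` with `K < G'` such that `G' \ K` is a single conjugacy class and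
every element central modulo `K` lies in `G'`.  Then `G` is solvable.  The coset classes have
centralizers of order `|G : K|/(|G' : K| - 1)`, so `K ∩ P ≤ Φ(P)` and Tate gives a normal
`p`-complement of `K`; for odd `p` an element of a complement centralises `K ∩ P` by a
primitive-prime argument, so `G' \ K` has elements of order `p` acting without fixed points.
-/

set_option autoImplicit false

namespace CfsgLib.BlockA.OneClass

open Subgroup
open scoped commutatorElement

universe u

variable {G : Type u} [Group G] [Finite G]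

/-- The quotient situation: `V` is the derived subgroup, abelian, one nontrivial class. -/
theorem centralizer_eq_of_oneClass (V : Subgroup G) [V.Normal] (hV : commutator G ≤ V)
    (hab : ∀ a ∈ V, ∀ b ∈ V, a * b = b * a) (v : G) (hv : v ∈ V) (hv1 : v ≠ 1)
    (hcl : ∀ y ∈ V, y ≠ 1 → IsConj v y) (hbig : 2 < Nat.card V) (hZ : center G ≤ V) :
    centralizer ({v} : Set G) = V := by
  classical
  have hcom : ∀ a b : G, ⁅a, b⁆ ∈ V := fun a b => hV (commutator_mem_commutator (mem_top a) (mem_top b))
  -- the centralizer of `v` centralizes `V`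
  have hCV : ∀ f ∈ centralizer ({v} : Set G), ∀ y ∈ V, f * y = y * f := by
    intro f hf y hy
    by_cases hy1 : y = 1
    · subst hy1; simp
    obtain ⟨u, rfl⟩ := isConj_iff.mp (hcl y hy hy1)
    have hfv : f * v = v * f := mem_centralizer_singleton_iff.mp hf
    set c : G := ⁅f, u⁆ with hc
    have hcV : c ∈ V := hcom f u
    have hfu : f * u = c * (u * f) := by rw [hc, commutatorElement_def]; group
    calc f * (u * v * u⁻¹) = (f * u) * v * u⁻¹ := by group
      _ = c * u * (f * v) * u⁻¹ := by rw [hfu]; group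
      _ = c * (u * v * u⁻¹) * (u * f * u⁻¹) := by rw [hfv]; group
      _ = (u * v * u⁻¹) * (c * (u * f) * u⁻¹) := by rw [hab c hcV _ hy]; group
      _ = (u * v * u⁻¹) * f := by rw [← hfu]; group
  have hV1 : ∀ y ∈ V, y ∈ center G → y = 1 := by
    intro y hy hyc
    by_contra hy1
    obtain ⟨a, ha, b, hb, hab', ha1, hb1⟩ : ∃ a ∈ V, ∃ b ∈ V, a ≠ b ∧ a ≠ 1 ∧ b ≠ 1 := by
      by_contra hcon
      push Not at hcon
      have hsub : (V : Set G) ⊆ {1, y} := by
        intro a ha
        by_cases ha1 : a = 1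
        · exact Or.inl ha1
        · by_contra h
          exact h (Or.inr (by
            by_contra hay
            exact hy1 (hcon a ha y hy hay ha1)))
      have h2 := Set.ncard_le_ncard hsub (Set.toFinite _)
      have h3 : ({1, y} : Set G).ncard ≤ 2 := (Set.ncard_insert_le _ _).trans (by simp)
      rw [← Nat.card_coe_set_eq] at h2
      exact absurd (show Nat.card V ≤ 2 from h2.trans h3) (by omega)
    have hfix : ∀ z ∈ V, z ≠ 1 → z = y := by
      intro z hz hz1
      obtain ⟨u, hu⟩ := isConj_iff.mp (((hcl y hy hy1).symm).trans (hcl z hz hz1))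
      rw [← hu, mem_center_iff.mp hyc u]
      group
    exact hab' ((hfix a ha ha1).trans (hfix b hb hb1).symm)
  have hcenter : center G = ⊥ := by
    rw [eq_bot_iff]
    exact fun z hz => mem_bot.mpr (hV1 z (hZ hz) hz)
  -- an element outside the centralizer
  obtain ⟨l, hl⟩ : ∃ l : G, l * v ≠ v * l := by
    by_contra hcon
    push Not at hcon
    exact hv1 (hV1 v hv (mem_center_iff.mpr hcon))
  have hfpf : ∀ y ∈ V, l * y = y * l → y = 1 := by
    intro y hy hly
    by_contra hy1
    obtain ⟨u, hu⟩ := isConj_iff.mp ((hcl y hy hy1).symm)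
    have hc : ⁅l, u⁆ ∈ V := hcom l u
    apply hl
    have hfu : l * u = ⁅l, u⁆ * (u * l) := by rw [commutatorElement_def]; group
    subst hu
    calc l * (u * y * u⁻¹) = (l * u) * y * u⁻¹ := by group
      _ = ⁅l, u⁆ * u * (l * y) * u⁻¹ := by rw [hfu]; group
      _ = ⁅l, u⁆ * (u * y * u⁻¹) * (u * l * u⁻¹) := by rw [hly]; group
      _ = (u * y * u⁻¹) * (⁅l, u⁆ * (u * l) * u⁻¹) := by rw [hab _ hc _ hv]; group
      _ = (u * y * u⁻¹) * l := by rw [← hfu]; group
  refine le_antisymm (fun f hf => ?_) (fun y hy => mem_centralizer_singleton_iff.mpr (hab y hy v hv))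
  -- adjust `f` so that it commutes with `l`
  let Φ : V → V := fun y => ⟨⁅l, (y : G)⁆, hcom _ _⟩
  have hΦ : Function.Injective Φ := by
    intro a b e
    have e' : ⁅l, (a : G)⁆ = ⁅l, (b : G)⁆ := congrArg Subtype.val e
    refine Subtype.ext (mul_inv_eq_one.mp (hfpf _ (V.mul_mem a.2 (V.inv_mem b.2)) ?_))
    have e2 : l * (a : G) * l⁻¹ * (a : G)⁻¹ = l * (b : G) * l⁻¹ * (b : G)⁻¹ := by
      simpa [commutatorElement_def] using e'
    have h3 : l * (a : G) * l⁻¹ = (l * (b : G) * l⁻¹) * ((b : G)⁻¹ * (a : G)) := by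
      calc l * (a : G) * l⁻¹ = (l * (a : G) * l⁻¹ * (a : G)⁻¹) * (a : G) := by group
        _ = _ := by rw [e2]; group
    have hlb : l * (b : G) * l⁻¹ ∈ V := Normal.conj_mem inferInstance _ b.2 l
    have h4 : (b : G)⁻¹ * (a : G) = (a : G) * (b : G)⁻¹ :=
      hab _ (V.inv_mem b.2) _ a.2
    calc l * ((a : G) * (b : G)⁻¹)
        = (l * (a : G) * l⁻¹) * (l * (b : G) * l⁻¹)⁻¹ * l := by group
      _ = ((a : G) * (b : G)⁻¹) * (l * (b : G) * l⁻¹) * (l * (b : G) * l⁻¹)⁻¹ * l := by
          rw [h3, hab _ hlb _ (V.mul_mem (V.inv_mem b.2) a.2), h4]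
      _ = _ := by group
  obtain ⟨⟨y, hy⟩, hyf⟩ := (Finite.injective_iff_surjective.mp hΦ) ⟨⁅f, l⁆, hcom f l⟩
  have hyf' : ⁅l, y⁆ = ⁅f, l⁆ := congrArg Subtype.val hyf
  set f' := y * f with hf'
  have hf'C : ∀ z ∈ V, f' * z = z * f' := fun z hz => by
    rw [hf', mul_assoc, hCV f hf z hz, ← mul_assoc, hab y hy z hz, mul_assoc]
  have hf'l : f' * l = l * f' := by
    have h5 : l * y = ⁅f, l⁆ * (y * l) := by
      rw [← hyf', commutatorElement_def]; group
    have h6 : f * l = ⁅f, l⁆ * (l * f) := by rw [commutatorElement_def]; group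
    calc f' * l = y * (f * l) := by rw [hf']; group
      _ = ⁅f, l⁆ * (y * l) * f := by rw [h6, ← mul_assoc, hab y hy _ (hcom f l)]; group
      _ = l * f' := by rw [← h5, hf']; group
  have hf'c : f' ∈ center G := by
    rw [mem_center_iff]
    intro h
    set w : G := ⁅f', h⁆ with hw
    have hwV : w ∈ V := hcom f' h
    set c : G := ⁅h, l⁆ with hcdef
    have hcV : c ∈ V := hcom h l
    have e1 : h * l = c * (l * h) := by rw [hcdef, commutatorElement_def]; group
    have e2 : f' * h = w * (h * f') := by rw [hw, commutatorElement_def]; group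
    have e3 : f' * (h * l) = f' * (c * (l * h)) := by rw [e1]
    have e4 : f' * (h * l) = w * c * (l * h) * f' := by
      calc f' * (h * l) = (f' * h) * l := by group
        _ = w * h * (f' * l) := by rw [e2]; group
        _ = w * (h * l) * f' := by rw [hf'l]; group
        _ = _ := by rw [e1]; group
    have e5 : f' * (c * (l * h)) = c * (l * w) * h * f' := by
      calc f' * (c * (l * h)) = (f' * c) * l * h := by group
        _ = c * (f' * l) * h := by rw [hf'C c hcV]; group
        _ = c * l * (f' * h) := by rw [hf'l]; group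
        _ = _ := by rw [e2]; group
    have e6 : w * c * l = c * (l * w) := by
      have := e4.symm.trans (e3.trans e5)
      exact mul_right_cancel (b := h * f') (by simpa only [mul_assoc] using this)
    have : l * w = w * l := by
      have e7 : c * (w * l) = c * (l * w) := by
        rw [← e6, hab w hwV c hcV]; group
      exact (mul_left_cancel e7).symm
    have hw1 := hfpf w hwV this
    rw [hw, commutatorElement_eq_one_iff_mul_comm] at hw1
    exact hw1.symm
  rw [hcenter, mem_bot, hf'] at hf'c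
  rw [show f = y⁻¹ from eq_inv_of_mul_eq_one_right hf'c]
  exact V.inv_mem hy

omit [Finite G] in
/-- A proper commutator with a nilpotent overgroup. -/
theorem commutator_lt_of_nilpotent {P A : Subgroup G} (hP : Group.IsNilpotent P) (hAP : A ≤ P)
    (hn : ∀ y ∈ P, ∀ a ∈ A, y * a * y⁻¹ ∈ A) (hA : A ≠ ⊥) : ⁅A, P⁆ < A := by
  have hle : ⁅A, P⁆ ≤ A := Subgroup.commutator_le.mpr fun a ha y hy => by
    rw [commutatorElement_def, mul_assoc, mul_assoc, ← mul_assoc y]
    exact A.mul_mem ha (hn y hy _ (A.inv_mem ha))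
  refine lt_of_le_of_ne hle fun he => hA ?_
  obtain ⟨n, hn'⟩ := (Subgroup.isNilpotent_iff_lowerCentralSeries (S := P)).mp hP
  have key : ∀ i, A ≤ P.lowerCentralSeries i := by
    intro i
    induction i with
    | zero => simpa using hAP
    | succ i ih =>
      rw [Subgroup.lowerCentralSeries_succ, ← he]
      exact Subgroup.commutator_mono ih le_rfl
  exact le_bot_iff.mp (hn' ▸ key n)

/-- A permutation whose square is free has a multiple of four points when its order is a power of
two. -/
theorem four_dvd_of_sq_free {C X : Type*} [Group C] [MulAction C X] [Finite X] (hC : IsPGroup 2 C)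
    (y : C) (hfree : ∀ a : X, (y * y) • a ≠ a) : 4 ∣ Nat.card X := by
  classical
  have := Fintype.ofFinite X
  rw [Nat.card_congr (MulAction.selfEquivSigmaOrbits C X), Nat.card_sigma]
  refine Finset.dvd_sum fun ω _ => ?_
  set a := Quotient.out ω with ha
  obtain ⟨n, hn⟩ := hC.card_orbit a
  rw [hn]
  rcases Nat.lt_or_ge n 2 with h2 | h2
  · exfalso
    have h1 : y • a ≠ a := fun e => hfree a (by rw [mul_smul, e, e])
    have hsub : ({a, y • a, (y * y) • a} : Set X) ⊆ MulAction.orbit C a := by
      rintro z (rfl | rfl | rfl)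
      · exact MulAction.mem_orbit_self a
      · exact ⟨y, rfl⟩
      · exact ⟨y * y, rfl⟩
    have h3 : ({a, y • a, (y * y) • a} : Set X).ncard = 3 :=
      Set.ncard_eq_three.mpr ⟨a, y • a, (y * y) • a, h1.symm, (hfree a).symm, fun e => h1 (by
        rw [mul_smul] at e
        exact (MulAction.injective y e).symm), rfl⟩
    have h4 := Set.ncard_le_ncard hsub (Set.toFinite _)
    rw [h3, ← Nat.card_coe_set_eq, hn] at h4
    have : 2 ^ n ≤ 2 := by
      calc 2 ^ n ≤ 2 ^ 1 := Nat.pow_le_pow_right (by norm_num) (by omega)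
        _ = 2 := by norm_num
    omega
  · exact dvd_trans (by norm_num) (pow_dvd_pow 2 h2)

omit [Finite G] in
theorem conj_mem_of_mem_normalizer {P : Subgroup G} {n y : G} (hn : n ∈ normalizer (P : Set G))
    (hy : y ∈ P) : n * y * n⁻¹ ∈ P :=
  (mem_normalizer_iff.mp hn y).mp hy

omit [Finite G] in
theorem conj_commutator_mem {A P : Subgroup G} {n : G} (hA : ∀ a ∈ A, n * a * n⁻¹ ∈ A)
    (hP : ∀ a ∈ P, n * a * n⁻¹ ∈ P) : ∀ b ∈ ⁅A, P⁆, n * b * n⁻¹ ∈ ⁅A, P⁆ := by
  intro b hb
  have h1 : (⁅A, P⁆).map (MulAut.conj n).toMonoidHom ≤ ⁅A, P⁆ := by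
    rw [map_commutator]
    exact commutator_mono (by rintro _ ⟨a, ha, rfl⟩; exact hA a ha)
      (by rintro _ ⟨a, ha, rfl⟩; exact hP a ha)
  exact h1 ⟨b, hb, rfl⟩

/-- A subgroup normalised by `l` is centralised when its fixed points are large. -/
theorem le_centralizer_of_primitive {p r e : ℕ} [Fact p.Prime] [Fact r.Prime]
    (hr : ∀ k : ℕ, 0 < k → k < e → ¬ r ∣ p ^ k - 1) (hrp : r ≠ p) (l : G)
    (hl : ∃ i, orderOf l = r ^ i) (A : Subgroup G) (hA : IsPGroup p A)
    (hlA : ∀ a ∈ A, ∀ c ∈ zpowers l, c * a * c⁻¹ ∈ A)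
    (hsmall : Nat.card A < Nat.card (A ⊓ centralizer ({l} : Set G) : Subgroup G) * p ^ e) :
    A ≤ centralizer ({l} : Set G) := by
  classical
  let : MulAction (zpowers l) A :=
    { smul := fun c a => ⟨(c : G) * (a : G) * (c : G)⁻¹, hlA a a.2 c c.2⟩
      one_smul := fun a => Subtype.ext (by show (1 : G) * a * 1⁻¹ = a; simp)
      mul_smul := fun c d a => Subtype.ext (by
        show ((c : G) * d) * a * ((c : G) * d)⁻¹ = c * (d * a * (d : G)⁻¹) * (c : G)⁻¹
        group) }
  obtain ⟨i, hi⟩ := hl
  have hC : IsPGroup r (zpowers l) := IsPGroup.of_card (n := i) (by rw [Nat.card_zpowers, hi])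
  have hfix : Nat.card (MulAction.fixedPoints (zpowers l) A) =
      Nat.card (A ⊓ centralizer ({l} : Set G) : Subgroup G) := by
    refine Nat.card_congr
      { toFun := fun a => ⟨(a.1 : G), a.1.2, mem_centralizer_singleton_iff.mpr (by
          have h : l * (a.1 : G) * l⁻¹ = a.1 := congrArg Subtype.val (a.2 ⟨l, mem_zpowers l⟩)
          rw [mul_inv_eq_iff_eq_mul] at h
          exact h.symm)⟩
        invFun := fun a => ⟨⟨a.1, a.2.1⟩, fun c => Subtype.ext (by
          obtain ⟨j, hj⟩ := c.2
          show (c : G) * a.1 * (c : G)⁻¹ = a.1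
          rw [← hj]
          have hc : Commute l (a : G) := (mem_centralizer_singleton_iff.mp a.2.2).symm
          show l ^ j * a.1 * (l ^ j)⁻¹ = a.1
          rw [(hc.zpow_left j).eq, mul_inv_cancel_right])⟩
        left_inv := fun a => rfl
        right_inv := fun a => rfl }
  obtain ⟨α, hα⟩ := IsPGroup.iff_card.mp hA
  obtain ⟨β, hβ⟩ := IsPGroup.iff_card.mp (hA.to_le (inf_le_left : A ⊓ centralizer ({l} : Set G) ≤ A))
  have hmod := hC.card_modEq_card_fixedPoints A
  rw [hfix, hα, hβ] at hmod
  rw [hα, hβ, ← pow_add] at hsmall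
  have hαe := (Nat.pow_lt_pow_iff_right (Fact.out : p.Prime).one_lt).mp hsmall
  have hβα : β ≤ α := by
    have h := card_le_of_le (inf_le_left : A ⊓ centralizer ({l} : Set G) ≤ A)
    rw [hα, hβ] at h
    exact (Nat.pow_le_pow_iff_right (Fact.out : p.Prime).one_lt).mp h
  have heq : β = α := by
    by_contra hne
    have hd : r ∣ p ^ β * (p ^ (α - β) - 1) := by
      rw [Nat.mul_sub, mul_one, ← pow_add, Nat.add_sub_cancel' hβα]
      exact (Nat.modEq_iff_dvd' (Nat.pow_le_pow_right (Fact.out : p.Prime).pos hβα)).mp hmod.symm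
    rcases (Fact.out : r.Prime).dvd_mul.mp hd with h | h
    · exact hrp ((Nat.prime_dvd_prime_iff_eq Fact.out Fact.out).mp ((Fact.out : r.Prime).dvd_of_dvd_pow h))
    · exact hr _ (by omega) (by omega) h
  have := eq_of_le_of_card_ge (inf_le_left : A ⊓ centralizer ({l} : Set G) ≤ A)
    (by rw [hα, hβ, heq])
  exact this ▸ inf_le_right

/-- The exceptional case `e = 2`, `p + 1` a power of two. -/
theorem le_centralizer_of_four {p k : ℕ} [Fact p.Prime] (hp : p ≠ 2) (hk : p + 1 = 2 ^ k) (y : G)
    (hy : ∃ i, orderOf y = 2 ^ i) (A : Subgroup G) (hA : IsPGroup p A)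
    (hlA : ∀ a ∈ A, ∀ c ∈ zpowers y, c * a * c⁻¹ ∈ A)
    (hsmall : Nat.card A < Nat.card (A ⊓ centralizer ({y * y} : Set G) : Subgroup G) * p ^ 2) :
    A ≤ centralizer ({y * y} : Set G) := by
  classical
  set F := A ⊓ centralizer ({y * y} : Set G) with hF
  have hyF : ∀ c ∈ zpowers y, ∀ a : G, a ∈ centralizer ({y * y} : Set G) →
      c * a * c⁻¹ ∈ centralizer ({y * y} : Set G) := by
    rintro c ⟨j, rfl⟩ a ha
    rw [mem_centralizer_singleton_iff] at ha ⊢
    have h : Commute (y ^ j) (y * y) := ((Commute.refl y).zpow_left j).mul_right ((Commute.refl y).zpow_left j)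
    calc y ^ j * a * (y ^ j)⁻¹ * (y * y) = y ^ j * (a * (y * y)) * (y ^ j)⁻¹ := by
          rw [mul_assoc _ (y ^ j)⁻¹, h.inv_left.eq]; group
      _ = (y * y) * (y ^ j * a * (y ^ j)⁻¹) := by rw [ha, ← mul_assoc (y ^ j), h.eq]; group
  let X := {a : A // (a : G) ∉ centralizer ({y * y} : Set G)}
  let : MulAction (zpowers y) X :=
    { smul := fun c a => ⟨⟨(c : G) * (a.1 : G) * (c : G)⁻¹, hlA a.1 a.1.2 c c.2⟩, fun h => a.2 (by
        have := hyF _ ((zpowers y).inv_mem c.2) _ h
        simpa [mul_assoc] using this)⟩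
      one_smul := fun a => Subtype.ext (Subtype.ext (by show (1 : G) * a.1 * 1⁻¹ = a.1; simp))
      mul_smul := fun c d a => Subtype.ext (Subtype.ext (by
        show ((c : G) * d) * a.1 * ((c : G) * d)⁻¹ = c * (d * a.1 * (d : G)⁻¹) * (c : G)⁻¹
        group)) }
  obtain ⟨i, hi⟩ := hy
  have hC : IsPGroup 2 (zpowers y) := IsPGroup.of_card (n := i) (by rw [Nat.card_zpowers, hi])
  have h4 : 4 ∣ Nat.card X := four_dvd_of_sq_free hC ⟨y, mem_zpowers y⟩ fun a h => a.2 (by
    have h' : y * y * (a.1 : G) * (y * y)⁻¹ = a.1 := congrArg (fun z : X => ((z.1 : A) : G)) h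
    rw [mul_inv_eq_iff_eq_mul] at h'
    exact mem_centralizer_singleton_iff.mpr h'.symm)
  have hX : Nat.card F + Nat.card X = Nat.card A := by
    rw [← Nat.card_congr (Equiv.sumCompl fun a : A => (a : G) ∈ centralizer ({y * y} : Set G)),
      Nat.card_sum]
    congr 1
    exact Nat.card_congr
      { toFun := fun a => ⟨⟨a.1, a.2.1⟩, a.2.2⟩
        invFun := fun a => ⟨(a.1 : G), a.1.2, a.2⟩
        left_inv := fun a => rfl
        right_inv := fun a => rfl }
  obtain ⟨α, hα⟩ := IsPGroup.iff_card.mp hA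
  obtain ⟨β, hβ⟩ := IsPGroup.iff_card.mp (hA.to_le (inf_le_left : F ≤ A))
  rw [hα, hβ, ← pow_add] at hsmall
  have hαe := (Nat.pow_lt_pow_iff_right (Fact.out : p.Prime).one_lt).mp hsmall
  have hβα : β ≤ α := by
    have h := card_le_of_le (inf_le_left : F ≤ A)
    rw [hα, hβ] at h
    exact (Nat.pow_le_pow_iff_right (Fact.out : p.Prime).one_lt).mp h
  have heq : β = α := by
    by_contra hne
    obtain rfl : α = β + 1 := by omega
    rw [hα, hβ, pow_succ] at hX
    have h5 : Nat.card X = p ^ β * (p - 1) := by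
      rw [Nat.mul_sub, mul_one]; omega
    rw [h5] at h4
    have hpo : Odd p := (Fact.out : p.Prime).odd_of_ne_two hp
    have hcop : Nat.Coprime 4 (p ^ β) := by
      rw [show (4 : ℕ) = 2 ^ 2 by norm_num]
      exact Nat.Coprime.pow_left _ (Nat.coprime_two_left.mpr hpo.pow)
    have h6 : 4 ∣ p - 1 := hcop.dvd_of_dvd_mul_left h4
    have h3 : 3 ≤ p := by have := (Fact.out : p.Prime).two_le; omega
    have h7 : 2 ≤ k := by
      by_contra h
      have : 2 ^ k ≤ 2 ^ 1 := Nat.pow_le_pow_right (by norm_num) (by omega)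
      omega
    obtain ⟨t, ht⟩ := pow_dvd_pow 2 h7
    obtain ⟨s, hs⟩ := h6
    omega
  have := eq_of_le_of_card_ge (inf_le_left : F ≤ A) (by rw [hα, hβ, heq])
  exact this ▸ inf_le_right

set_option maxHeartbeats 1000000 in
/-- The derived subgroup is a normal subgroup plus one class: the group is solvable. -/
theorem isSolvable_of_oneClass (K : Subgroup G) [K.Normal] (hK : K ≤ commutator G) (g : G)
    (hgM : g ∈ commutator G) (hgK : g ∉ K)
    (hcl : ∀ x ∈ commutator G, x ∉ K → IsConj g x)
    (hZ : ∀ z : G, (∀ h : G, ⁅z, h⁆ ∈ K) → z ∈ commutator G) : Group.IsSolvable G := by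
  classical
  have := Fintype.ofFinite G
  set M := commutator G with hMdef
  set π := QuotientGroup.mk' K with hπdef
  have hπsurj : Function.Surjective π := QuotientGroup.mk'_surjective K
  have hker : ∀ x : G, π x = 1 ↔ x ∈ K := fun x => by
    rw [← MonoidHom.mem_ker, hπdef, QuotientGroup.ker_mk']
  set V := M.map π with hVdef
  have hVn : V.Normal := Normal.map inferInstance π hπsurj
  have hcomap : ∀ x : G, π x ∈ V ↔ x ∈ M := by
    intro x
    refine ⟨?_, fun hx => mem_map_of_mem π hx⟩
    rintro ⟨y, hy, e⟩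
    have h : y⁻¹ * x ∈ K := (hker _).mp (by rw [map_mul, map_inv, e, inv_mul_cancel])
    simpa using M.mul_mem hy (hK h)
  have hclass : ∀ x : G, IsConj g x → x ∈ M ∧ x ∉ K := by
    intro x hx
    obtain ⟨u, rfl⟩ := isConj_iff.mp hx
    refine ⟨Normal.conj_mem inferInstance g hgM u, fun h => hgK ?_⟩
    simpa [mul_assoc] using Normal.conj_mem inferInstance _ h u⁻¹
  have hgV : π g ∈ V := mem_map_of_mem π hgM
  have hg1 : π g ≠ 1 := fun h => hgK ((hker g).mp h)
  have hVcl : ∀ y ∈ V, y ≠ 1 → IsConj (π g) y := by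
    rintro y ⟨x, hx, rfl⟩ hy1
    exact π.map_isConj (hcl x hx fun h => hy1 ((hker x).mpr h))
  have : Nontrivial V := ⟨⟨⟨π g, hgV⟩, 1, fun h => hg1 (congrArg Subtype.val h)⟩⟩
  obtain ⟨p, hp, hpV⟩ := Nat.exists_prime_and_dvd (show Nat.card V ≠ 1 from Finite.one_lt_card.ne')
  have : Fact p.Prime := ⟨hp⟩
  -- `V` is elementary abelian
  have hexp : ∀ y ∈ V, y ^ p = 1 := by
    obtain ⟨x, hx⟩ := exists_prime_orderOf_dvd_card' (G := V) p hpV
    have hxG : orderOf (x : G ⧸ K) = p := by rw [orderOf_coe]; exact hx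
    have hx1 : (x : G ⧸ K) ≠ 1 := fun h => hp.ne_one (by rw [← hxG, h, orderOf_one])
    intro y hy
    by_cases hy1 : y = 1
    · rw [hy1, one_pow]
    obtain ⟨u, hu⟩ := isConj_iff.mp ((hVcl _ x.2 hx1).symm.trans (hVcl y hy hy1))
    rw [← hu, conj_pow, ← hxG, pow_orderOf_eq_one]
    group
  have hVp : IsPGroup p V := fun y => ⟨1, Subtype.ext (by rw [pow_one]; exact hexp y y.2)⟩
  have hab : ∀ a ∈ V, ∀ b ∈ V, a * b = b * a := by
    have := hVp.center_nontrivial
    obtain ⟨⟨z, hzc⟩, hz1⟩ := exists_ne (1 : center V)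
    have hz : ∀ b ∈ V, (z : G ⧸ K) * b = b * z := fun b hb =>
      (congrArg Subtype.val (mem_center_iff.mp hzc ⟨b, hb⟩)).symm
    have hz1' : (z : G ⧸ K) ≠ 1 := fun h => hz1 (Subtype.ext (Subtype.ext h))
    intro a ha b hb
    by_cases ha1 : a = 1
    · rw [ha1]; group
    obtain ⟨u, hu⟩ := isConj_iff.mp ((hVcl _ z.2 hz1').symm.trans (hVcl a ha ha1))
    have h := hz _ (by simpa using Normal.conj_mem hVn b hb u⁻¹ : u⁻¹ * b * u ∈ V)
    rw [← hu]
    calc u * (z : G ⧸ K) * u⁻¹ * b = u * ((z : G ⧸ K) * (u⁻¹ * b * u)) * u⁻¹ := by group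
      _ = b * (u * z * u⁻¹) := by rw [h]; group
  -- a Sylow subgroup
  obtain ⟨P⟩ := (inferInstance : Nonempty (Sylow p G))
  set PQ : Sylow p (G ⧸ K) := P.mapSurjective (f := π) hπsurj with hPQdef
  have hPQcoe : (PQ : Subgroup (G ⧸ K)) = (P : Subgroup G).map π := rfl
  have hVP : V ≤ (PQ : Subgroup (G ⧸ K)) := Solvable.normal_pgroup_le_sylow hVp PQ
  have := PQ.2.isNilpotent
  obtain ⟨⟨z, hzP⟩, ⟨hzV, hzc⟩, hz1⟩ := SetLike.exists_of_lt (bot_lt_iff_ne_bot.mpr
    (Solvable.normal_inf_center_ne_bot (V.subgroupOf (PQ : Subgroup (G ⧸ K))) (fun h => by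
      rw [subgroupOf_eq_bot] at h
      exact hg1 (mem_bot.mp (h.eq_bot ▸ (mem_inf.mpr ⟨hgV, hVP hgV⟩ : π g ∈ V ⊓ PQ))))))
  obtain ⟨x, hxP, hxz⟩ := (hPQcoe ▸ hzP : z ∈ (P : Subgroup G).map π)
  have hxM : x ∈ M := (hcomap x).mp (hxz ▸ hzV)
  have hxK : x ∉ K := fun h => hz1 (mem_bot.mpr (Subtype.ext (hxz ▸ (hker x).mpr h)))
  have hgx : IsConj g x := hcl x hxM hxK
  have hxcent : ∀ y ∈ (P : Subgroup G), x⁻¹ * y * x * y⁻¹ ∈ K := by
    intro y hy
    refine (hker _).mp ?_
    have h : π y * z = z * π y := congrArg Subtype.val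
      (mem_center_iff.mp hzc ⟨π y, hPQcoe.symm ▸ mem_map_of_mem π hy⟩)
    rw [map_mul, map_mul, map_mul, map_inv, map_inv, hxz, mul_assoc _ (π y), h]
    group
  -- the class
  have hcard : Nat.card (centralizer ({x} : Set G)) * (Nat.card V - 1) = K.index := by
    have h1 : (ConjClasses.mk x).carrier = (M : Set G) \ K := by
      ext y
      rw [ConjClasses.mem_carrier_iff_mk_eq, ConjClasses.mk_eq_mk_iff_isConj]
      exact ⟨fun h => hclass y (hgx.trans h.symm), fun h => ((hcl y h.1 h.2).symm.trans hgx)⟩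
    have h2 := Char.natCard_carrier_mul_centralizer x
    rw [Nat.card_coe_set_eq, h1, Set.ncard_sdiff (by exact_mod_cast hK) (Set.toFinite _),
      ← Nat.card_coe_set_eq, ← Nat.card_coe_set_eq] at h2
    have h3 : Nat.card M = Nat.card K * Nat.card V := by
      have e1 := card_eq_card_quotient_mul_card_subgroup (K.subgroupOf M)
      rw [Nat.card_congr (subgroupOfEquivOfLe hK).toEquiv] at e1
      rw [e1, mul_comm]
      congr 1
      have e2 : (π.comp M.subtype).ker = K.subgroupOf M := by
        ext y; exact hker (y : G)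
      rw [← e2, Nat.card_congr (QuotientGroup.quotientKerEquivRange _).toEquiv,
        MonoidHom.range_comp, range_subtype]
    have h4 : Nat.card (↥M : Type u) - Nat.card K = Nat.card K * (Nat.card V - 1) := by
      rw [Nat.mul_sub, mul_one, h3]
    have h5 : (Nat.card (M : Set G) - Nat.card (K : Set G)) = Nat.card K * (Nat.card V - 1) := h4
    rw [h5, ← K.card_mul_index] at h2
    exact Nat.eq_of_mul_eq_mul_left Nat.card_pos (by rw [← h2]; ring)
  -- `K ∩ P` lies in the derived subgroup of `P`
  have hKP : K.subgroupOf (P : Subgroup G) ≤ frattini (P : Subgroup G) := by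
    set T := (P : Subgroup G) ⊓ centralizer ({x} : Set G) with hT
    have hTle : Nat.card T ≤ Nat.card (PQ : Subgroup (G ⧸ K)) := by
      obtain ⟨t, ht⟩ := IsPGroup.iff_card.mp (P.2.to_le (inf_le_left : T ≤ _))
      have h1 : p ^ t ∣ Nat.card (G ⧸ K) := by
        rw [← ht, ← index_eq_card, ← hcard]
        exact dvd_mul_of_dvd_left (card_dvd_of_le inf_le_right) _
      rw [ht, PQ.card_eq_multiplicity]
      exact Nat.pow_le_pow_right hp.pos ((hp.pow_dvd_iff_le_factorization Nat.card_pos.ne').mp h1)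
    set S := K.subgroupOf (P : Subgroup G) with hS
    have hPcard : Nat.card (P : Subgroup G) = Nat.card (PQ : Subgroup (G ⧸ K)) * Nat.card S := by
      have e2 : (π.comp (P : Subgroup G).subtype).ker = S := by
        ext y; exact hker (y : G)
      rw [card_eq_card_quotient_mul_card_subgroup S, ← e2,
        Nat.card_congr (QuotientGroup.quotientKerEquivRange _).toEquiv, MonoidHom.range_comp,
        range_subtype, hPQcoe]
    let f : ↥(P : Subgroup G) → S := fun y =>
      ⟨(⟨x, hxP⟩ : (P : Subgroup G))⁻¹ * y * ⟨x, hxP⟩ * y⁻¹, hxcent y y.2⟩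
    have hfib : ∀ a : S, (Finset.univ.filter fun y => f y = a).card ≤ Nat.card T := by
      intro a
      rcases (Finset.univ.filter fun y => f y = a).eq_empty_or_nonempty with h | ⟨y₀, hy₀⟩
      · rw [h]; exact Nat.zero_le _
      rw [← Nat.card_eq_finsetCard]
      refine Nat.card_le_card_of_injective
        (fun y => (⟨(y₀ : G)⁻¹ * ((y.1 : (P : Subgroup G)) : G),
          Subgroup.mul_mem _ (Subgroup.inv_mem _ y₀.2) y.1.2, ?_⟩ : T)) ?_
      · have e : x⁻¹ * (y.1 : G) * x * (y.1 : G)⁻¹ = x⁻¹ * (y₀ : G) * x * (y₀ : G)⁻¹ :=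
          congrArg (fun z : S => ((z : (P : Subgroup G)) : G))
            ((Finset.mem_filter.mp y.2).2.trans (Finset.mem_filter.mp hy₀).2.symm)
        rw [mul_assoc, mul_assoc, mul_assoc, mul_assoc, mul_right_inj, ← mul_assoc, ← mul_assoc] at e
        show _ ∈ centralizer ({x} : Set G)
        rw [mem_centralizer_singleton_iff]
        calc (y₀ : G)⁻¹ * (y.1 : G) * x = (y₀ : G)⁻¹ * ((y.1 : G) * x * (y.1 : G)⁻¹) * (y.1 : G) := by
              group
          _ = x * ((y₀ : G)⁻¹ * (y.1 : G)) := by rw [e]; group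
      · intro a b h
        exact Subtype.ext (Subtype.ext (mul_left_cancel (congrArg Subtype.val h)))
    have himg : Nat.card S ≤ (Finset.univ.image f).card := by
      have h1 := Finset.card_le_mul_card_image (f := f) Finset.univ (Nat.card T) fun a _ => hfib a
      rw [Finset.card_univ, ← Nat.card_eq_fintype_card, hPcard] at h1
      exact Nat.le_of_mul_le_mul_left (h1.trans (Nat.mul_le_mul_right _ hTle)) Nat.card_pos
    intro u hu
    have hsurj : Finset.univ.image f = Finset.univ := Finset.eq_univ_of_card _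
      (le_antisymm (Finset.card_le_univ _) (by rwa [← Nat.card_eq_fintype_card]))
    obtain ⟨y, -, hy⟩ := Finset.mem_image.mp (hsurj ▸ Finset.mem_univ (⟨u, hu⟩ : S))
    have := P.2.isNilpotent
    refine Solvable.commutator_le_frattini ?_
    have e : u = ⁅(⟨x, hxP⟩ : (P : Subgroup G))⁻¹, y⁆ := by
      rw [commutatorElement_def, inv_inv]
      exact (congrArg Subtype.val hy).symm
    rw [e, _root_.commutator_def]
    exact commutator_mem_commutator (mem_top _) (mem_top _)
  obtain ⟨S, N', hN'n, hcompl⟩ := Transfer.tate P K hKP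
  have hN'cop : (Nat.card N').Coprime p := by
    have h2 : (S : Subgroup K).index = Nat.card N' := hcompl.index_eq_card
    exact ((hp.coprime_iff_not_dvd).mpr (h2 ▸ S.not_dvd_index)).symm
  set N := N'.map K.subtype with hNdef
  have hNK : N ≤ K := map_subtype_le N'
  have hNcard : Nat.card N = Nat.card N' := card_map_of_injective K.subtype_injective
  have hmemN : ∀ y ∈ K, (orderOf y).Coprime p → y ∈ N := by
    intro y hy hcop
    refine ⟨⟨y, hy⟩, ?_, rfl⟩
    rw [SetLike.mem_coe, ← QuotientGroup.eq_one_iff, ← orderOf_eq_one_iff]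
    obtain ⟨s, hs⟩ := IsPGroup.iff_card.mp S.2
    have h1 : orderOf (QuotientGroup.mk ⟨y, hy⟩ : K ⧸ N') ∣ p ^ s := by
      refine (_root_.orderOf_dvd_natCard _).trans ?_
      rw [← index_eq_card, hcompl.symm.index_eq_card, hs]
    have h2 : orderOf (QuotientGroup.mk ⟨y, hy⟩ : K ⧸ N') ∣ orderOf y := by
      rw [← Subgroup.orderOf_mk y hy]
      exact orderOf_map_dvd (QuotientGroup.mk' N') ⟨y, hy⟩
    exact Nat.eq_one_of_dvd_coprimes (hcop.pow_right s) h2 h1
  have hNn : N.Normal := by
    refine ⟨fun y hy u => hmemN _ (Normal.conj_mem inferInstance y (hNK hy) u) ?_⟩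
    have h1 : (orderOf y).Coprime p :=
      (hNcard ▸ hN'cop).coprime_dvd_left (Subgroup.orderOf_dvd_natCard _ hy)
    have h2 : orderOf (u * y * u⁻¹) = orderOf y := (SemiconjBy.conj_mk u y).orderOf_eq _ |>.symm
    rwa [h2]
  have hpelt : ∃ i, orderOf g = p ^ i := by
    obtain ⟨i, hi⟩ := IsPGroup.iff_orderOf.mp P.2 ⟨x, hxP⟩
    rw [Subgroup.orderOf_mk] at hi
    obtain ⟨u, hu⟩ := isConj_iff.mp hgx
    exact ⟨i, ((SemiconjBy.conj_mk u g).orderOf_eq _).trans (by rw [hu, hi])⟩
  -- it suffices to show that `N` is solvable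
  suffices hNs : Group.IsSolvable N' by
    have hKs : Group.IsSolvable K := by
      rw [Group.isSolvable_iff_subgroup_quotient N']
      obtain ⟨s, hs⟩ := IsPGroup.iff_card.mp S.2
      have hq : IsPGroup p (K ⧸ N') := IsPGroup.of_card (n := s)
        (by rw [← index_eq_card, hcompl.symm.index_eq_card, hs])
      have := hq.isNilpotent
      exact ⟨hNs, inferInstance⟩
    have hMs : Group.IsSolvable M := by
      rw [Group.isSolvable_iff_subgroup_quotient (K.subgroupOf M)]
      have hq : IsPGroup p (M ⧸ K.subgroupOf M) := fun y => by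
        obtain ⟨y, rfl⟩ := QuotientGroup.mk_surjective y
        refine ⟨1, ?_⟩
        rw [pow_one, ← QuotientGroup.mk_pow, QuotientGroup.eq_one_iff, mem_subgroupOf,
          SubmonoidClass.coe_pow, ← hker, map_pow]
        exact hexp _ (mem_map_of_mem π y.2)
      have := hq.isNilpotent
      exact ⟨Group.isSolvable_of_isSolvable_injective (subgroupOfEquivOfLe hK).injective
        (f := (subgroupOfEquivOfLe hK).toMonoidHom), inferInstance⟩
    rw [Group.isSolvable_iff_subgroup_quotient M]
    exact ⟨hMs, Group.isSolvable_of_comm fun a b => by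
      obtain ⟨a, rfl⟩ := QuotientGroup.mk_surjective a
      obtain ⟨b, rfl⟩ := QuotientGroup.mk_surjective b
      rw [← QuotientGroup.mk_mul, ← QuotientGroup.mk_mul, QuotientGroup.eq]
      have e : (a * b)⁻¹ * (b * a) = ⁅b⁻¹, a⁻¹⁆ := by rw [commutatorElement_def]; group
      rw [e]
      exact commutator_mem_commutator (mem_top _) (mem_top _)⟩
  by_cases hp2 : p = 2
  · subst hp2
    exact FT.odd_order_solvable (Nat.coprime_two_right.mp hN'cop)
  -- `g` has order `p`
  have hord : g ^ p = 1 := by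
    by_contra hgp
    have hnone : ∀ y ∈ M, y ^ p = 1 → y ∈ K := by
      intro y hy hyp
      by_contra hyK
      obtain ⟨u, hu⟩ := isConj_iff.mp (hcl y hy hyK)
      rw [← hu, conj_pow, conj_eq_one_iff] at hyp
      exact hgp hyp
    have hbig : 2 < Nat.card V := by
      have := Nat.le_of_dvd Nat.card_pos hpV
      have := hp.two_le
      omega
    have hZQ : center (G ⧸ K) ≤ V := by
      intro w hw
      obtain ⟨w, rfl⟩ := hπsurj w
      refine (hcomap w).mpr (hZ w fun h => (hker _).mp ?_)
      rw [map_commutatorElement, commutatorElement_eq_one_iff_mul_comm]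
      exact (mem_center_iff.mp hw (π h)).symm
    have hcomQ : commutator (G ⧸ K) ≤ V := by
      rw [hVdef, hMdef, _root_.commutator_def, _root_.commutator_def, map_commutator,
        ← MonoidHom.range_eq_map, MonoidHom.range_eq_top.mpr hπsurj]
    have hCV : ∀ v ∈ V, v ≠ 1 → centralizer ({v} : Set (G ⧸ K)) = V := fun v hv hv1 =>
      centralizer_eq_of_oneClass V hcomQ hab v hv hv1
        (fun y hy hy1 => (hVcl v hv hv1).symm.trans (hVcl y hy hy1)) hbig hZQ
    have hreg : ∀ l : G, l ∉ M → ∀ v ∈ V, v ≠ 1 → π l * v ≠ v * π l := by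
      intro l hl v hv hv1 hc
      exact hl ((hcomap l).mp (hCV v hv hv1 ▸ mem_centralizer_singleton_iff.mpr hc))
    have := Fintype.ofFinite (G ⧸ K)
    have hVidx : V.index = Nat.card V - 1 := by
      rw [← hCV (π g) hgV hg1, ← Char.natCard_carrier_eq_index, Nat.card_coe_set_eq]
      have h1 : (ConjClasses.mk (π g)).carrier = (V : Set (G ⧸ K)) \ {1} := by
        ext y
        rw [ConjClasses.mem_carrier_iff_mk_eq, ConjClasses.mk_eq_mk_iff_isConj]
        refine ⟨fun h => ?_, fun h => (hVcl y h.1 h.2).symm⟩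
        obtain ⟨u, hu⟩ := isConj_iff.mp h.symm
        refine ⟨hu ▸ Normal.conj_mem hVn _ hgV u, fun e => hg1 ?_⟩
        rw [Set.mem_singleton_iff] at e
        rwa [e, conj_eq_one_iff] at hu
      rw [h1, Set.ncard_sdiff (by simp [V.one_mem]) (Set.toFinite _), Set.ncard_singleton,
        ← Nat.card_coe_set_eq, hCV (π g) hgV hg1]
      rfl
    have hMidx : M.index = Nat.card V - 1 := by
      rw [← hVidx, hVdef, index_map_eq M hπsurj (by rw [hπdef, QuotientGroup.ker_mk']; exact hK)]
    have hc : Nat.card (centralizer ({x} : Set G)) = Nat.card V := by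
      have h1 : K.index = Nat.card V * (Nat.card V - 1) := by
        have h2 := V.card_mul_index
        rw [hVidx] at h2
        rw [index_eq_card, ← h2]
      rw [h1] at hcard
      exact Nat.eq_of_mul_eq_mul_right (by omega) hcard
    obtain ⟨e, he⟩ := IsPGroup.iff_card.mp hVp
    have he1 : 1 ≤ e := by
      rcases Nat.eq_zero_or_pos e with rfl | h
      · rw [he] at hbig; simp at hbig
      · exact h
    have hidx' : M.index = p ^ e - 1 := by rw [hMidx, he]
    have hidx : ¬ p ∣ M.index := by
      rw [hidx']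
      intro h
      have h1 : p ∣ p ^ e := dvd_pow_self p (by omega)
      have h2 : p ∣ p ^ e - (p ^ e - 1) := Nat.dvd_sub h1 h
      rw [Nat.sub_sub_self (Nat.one_le_pow e p hp.pos)] at h2
      exact hp.not_dvd_one h2
    have hPM : (P : Subgroup G) ≤ M := by
      intro y hy
      rw [← QuotientGroup.eq_one_iff, ← orderOf_eq_one_iff]
      obtain ⟨i, hi⟩ := IsPGroup.iff_orderOf.mp P.2 ⟨y, hy⟩
      rw [Subgroup.orderOf_mk] at hi
      exact Nat.eq_one_of_dvd_coprimes ((Nat.Coprime.pow_left i (hp.coprime_iff_not_dvd.mpr hidx)))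
        (hi ▸ orderOf_map_dvd (QuotientGroup.mk' M) y)
        (by rw [index_eq_card]; exact _root_.orderOf_dvd_natCard _)
    have hlift : ∀ y : G, ∃ n ∈ normalizer ((P : Subgroup G) : Set G),
        (QuotientGroup.mk n : G ⧸ M) = QuotientGroup.mk y := by
      intro y
      have h1 := Sylow.normalizer_sup_eq_top (P.subtype hPM)
      rw [Sylow.coe_subtype, subgroupOf_map_subtype, inf_of_le_left hPM] at h1
      obtain ⟨n, hn, k, hk, e⟩ := mem_sup_of_normal_right.mp (h1 ▸ mem_top y)
      exact ⟨n, hn, by rw [QuotientGroup.eq, ← e]; simpa using hk⟩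
    -- an element outside `M` centralising every invariant subgroup of `P ∩ K`
    obtain ⟨l, hlN, hlM, hlcop, hlA⟩ : ∃ l : G, l ∈ normalizer ((P : Subgroup G) : Set G) ∧ l ∉ M ∧
        (orderOf l).Coprime p ∧ ∀ A : Subgroup G, A ≤ (P : Subgroup G) →
          (∀ n ∈ normalizer ((P : Subgroup G) : Set G), ∀ a ∈ A, n * a * n⁻¹ ∈ A) →
          Nat.card A < Nat.card (A ⊓ centralizer ({l} : Set G) : Subgroup G) * p ^ e →
          A ≤ centralizer ({l} : Set G) := by
      by_cases hmers : e = 2 ∧ ∃ k : ℕ, p + 1 = 2 ^ k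
      · obtain ⟨rfl, k, hk⟩ := hmers
        have h4 : 2 ^ 2 ∣ Nat.card (G ⧸ M) := by
          rw [← index_eq_card, hidx']
          obtain ⟨j, hj⟩ := hp.odd_of_ne_two hp2
          refine ⟨j * (j + 1), ?_⟩
          subst hj
          have : (2 * j + 1) ^ 2 = 2 ^ 2 * (j * (j + 1)) + 1 := by ring
          omega
        obtain ⟨S4, hS4⟩ := Sylow.exists_subgroup_card_pow_prime 2 (G := G ⧸ M) h4
        have hinv : ∀ t : G, t * t ∈ M → t ∉ M → ∀ v ∈ V, π t * v * (π t)⁻¹ = v⁻¹ := by
          intro t ht2 htM v hv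
          have hw : π t * v * (π t)⁻¹ ∈ V := Normal.conj_mem hVn v hv _
          have h2 : π t * π t * v = v * (π t * π t) := by
            rw [← map_mul]; exact hab _ (mem_map_of_mem π ht2) v hv
          have hfix : π t * (v * (π t * v * (π t)⁻¹)) = v * (π t * v * (π t)⁻¹) * π t := by
            calc π t * (v * (π t * v * (π t)⁻¹)) = π t * v * (π t)⁻¹ * (π t * π t * v) * (π t)⁻¹ := by
                  group
              _ = (π t * v * (π t)⁻¹) * v * π t := by rw [h2]; group
              _ = v * (π t * v * (π t)⁻¹) * π t := by rw [hab _ hw v hv]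
          by_contra hne
          refine hreg t htM _ (V.mul_mem hv hw) (fun h1 => hne ?_) hfix
          exact eq_inv_of_mul_eq_one_right h1
        obtain ⟨s, hsS, hs⟩ : ∃ s ∈ S4, s * s ≠ 1 := by
          by_contra hcon
          push Not at hcon
          have hle : (S4 : Set (G ⧸ M)).ncard ≤ 2 := by
            rcases Set.eq_empty_or_nonempty {s | s ∈ S4 ∧ s ≠ 1} with h | ⟨t, ht, ht1⟩
            · refine le_trans (Set.ncard_le_ncard (t := {1}) (fun s hs => ?_) (Set.toFinite _))
                (by simp)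
              by_contra h1
              exact (Set.eq_empty_iff_forall_notMem.mp h s) ⟨hs, h1⟩
            refine le_trans (Set.ncard_le_ncard (t := {1, t}) (fun s hs => ?_) (Set.toFinite _))
              ((Set.ncard_insert_le _ _).trans (by simp))
            by_contra hst
            rw [Set.mem_insert_iff, Set.mem_singleton_iff, not_or] at hst
            obtain ⟨s, rfl⟩ := QuotientGroup.mk_surjective s
            obtain ⟨t, rfl⟩ := QuotientGroup.mk_surjective t
            have hsM : s ∉ M := fun h => hst.1 ((QuotientGroup.eq_one_iff s).mpr h)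
            have htM : t ∉ M := fun h => ht1 ((QuotientGroup.eq_one_iff t).mpr h)
            have hsq : ∀ r : G, (QuotientGroup.mk r : G ⧸ M) ∈ S4 → r * r ∈ M := fun r hr =>
              (QuotientGroup.eq_one_iff _).mp (by rw [QuotientGroup.mk_mul]; exact hcon _ hr)
            have hts : t⁻¹ * s ∈ M := by
              by_contra hns
              refine hreg _ hns (π g) hgV hg1 ?_
              have a1 := hinv s (hsq s hs) hsM _ hgV
              have a2 := hinv t (hsq t ht) htM _ hgV
              rw [map_mul, map_inv]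
              calc (π t)⁻¹ * π s * π g = (π t)⁻¹ * (π s * π g * (π s)⁻¹) * π s := by group
                _ = π g * ((π t)⁻¹ * π s) := by rw [a1, ← a2]; group
            exact hst.2 ((QuotientGroup.eq.mpr hts).symm)
          rw [← Nat.card_coe_set_eq] at hle
          have : Nat.card S4 ≤ 2 := hle
          rw [hS4] at this
          norm_num at this
        obtain ⟨s, rfl⟩ := QuotientGroup.mk_surjective s
        obtain ⟨n, hn, hns⟩ := hlift s
        obtain ⟨i, j, hj, hij⟩ := Nat.exists_eq_pow_mul_and_not_dvd (orderOf_pos n).ne' 2 (by norm_num)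
        set y := n ^ j with hy
        have hyord : ∃ i, orderOf y = 2 ^ i := by
          obtain ⟨i', -, h⟩ := (Nat.dvd_prime_pow Nat.prime_two).mp (orderOf_dvd_of_pow_eq_one
            (x := y) (n := 2 ^ i) (by rw [hy, ← pow_mul, mul_comm, ← hij, pow_orderOf_eq_one]))
          exact ⟨i', h⟩
        have hyN : y ∈ normalizer ((P : Subgroup G) : Set G) := Subgroup.pow_mem _ hn j
        have hy2 : y * y ∉ M := by
          intro h
          apply hs
          have h1 : ((QuotientGroup.mk s : G ⧸ M) * QuotientGroup.mk s) ^ j = 1 := by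
            rw [← hns, ← QuotientGroup.mk_mul, ← QuotientGroup.mk_pow, QuotientGroup.eq_one_iff,
              ← sq, ← pow_mul, mul_comm, pow_mul, ← hy, sq]
            exact h
          have h2 : ((QuotientGroup.mk s : G ⧸ M) * QuotientGroup.mk s) ^ 2 = 1 := by
            rw [← sq, ← pow_mul]
            exact orderOf_dvd_iff_pow_eq_one.mp ((Subgroup.orderOf_dvd_natCard S4 hsS).trans
              (by rw [hS4]; norm_num))
          exact orderOf_eq_one_iff.mp (Nat.eq_one_of_dvd_coprimes
            ((Nat.prime_two.coprime_iff_not_dvd).mpr hj)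
            (orderOf_dvd_of_pow_eq_one h2) (orderOf_dvd_of_pow_eq_one h1))
        obtain ⟨i', hi'⟩ := hyord
        refine ⟨y * y, Subgroup.mul_mem _ hyN hyN, hy2, ?_, fun A hAP hAn hsmall => ?_⟩
        · have h1 : orderOf (y * y) ∣ 2 ^ i' := by rw [← hi', ← sq]; exact orderOf_pow_dvd 2
          exact Nat.Coprime.coprime_dvd_left h1
            (Nat.Coprime.pow_left _ ((Nat.coprime_primes Nat.prime_two hp).mpr (Ne.symm hp2)))
        · exact le_centralizer_of_four hp2 hk y ⟨i', hi'⟩ A (P.2.to_le hAP)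
            (fun a ha c hc => hAn c ((zpowers_le.mpr hyN) hc) a ha) hsmall
      · obtain ⟨r, hr, hrd, hrprim⟩ : ∃ r : ℕ, r.Prime ∧ r ∣ p ^ e - 1 ∧
            ∀ k : ℕ, 0 < k → k < e → ¬ r ∣ p ^ k - 1 := by
          rcases Nat.lt_or_ge 1 e with h | h
          · exact ClassK.zsigmondy hp.one_lt h (fun h' => hp2 h'.1) hmers
          · obtain rfl : e = 1 := by omega
            obtain ⟨r, hr, hrd⟩ := Nat.exists_prime_and_dvd (show p ^ 1 - 1 ≠ 1 by
              rw [pow_one]; have := hp.two_le; omega)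
            exact ⟨r, hr, hrd, fun k h1 h2 => by omega⟩
        have : Fact r.Prime := ⟨hr⟩
        have hrp : r ≠ p := fun h => hidx (by rw [hidx', ← h]; exact h ▸ hrd)
        obtain ⟨s, hs⟩ := exists_prime_orderOf_dvd_card' (G := G ⧸ M) r
          (by rw [← index_eq_card, hidx']; exact hrd)
        obtain ⟨s, rfl⟩ := QuotientGroup.mk_surjective s
        obtain ⟨n, hn, hns⟩ := hlift s
        obtain ⟨i, j, hj, hij⟩ := Nat.exists_eq_pow_mul_and_not_dvd (orderOf_pos n).ne' r hr.ne_one
        have hlord : ∃ i, orderOf (n ^ j) = r ^ i := by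
          obtain ⟨i', -, h⟩ := (Nat.dvd_prime_pow hr).mp (orderOf_dvd_of_pow_eq_one
            (x := n ^ j) (n := r ^ i) (by rw [← pow_mul, mul_comm, ← hij, pow_orderOf_eq_one]))
          exact ⟨i', h⟩
        refine ⟨n ^ j, Subgroup.pow_mem _ hn j, fun h => hj ?_, ?_, fun A hAP hAn hsmall => ?_⟩
        · rw [← hs, ← hns]
          exact orderOf_dvd_of_pow_eq_one (by rwa [← QuotientGroup.mk_pow, QuotientGroup.eq_one_iff])
        · obtain ⟨i', hi'⟩ := hlord
          rw [hi']
          exact Nat.Coprime.pow_left _ ((Nat.coprime_primes hr hp).mpr hrp)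
        · exact le_centralizer_of_primitive hrprim hrp _ hlord A (P.2.to_le hAP)
            (fun a ha c hc => hAn c ((zpowers_le.mpr (Subgroup.pow_mem _ hn j)) hc) a ha) hsmall
    -- `l` centralises `P ∩ K`
    have hall : ∀ (c : ℕ) (A : Subgroup G), Nat.card A = c → A ≤ (P : Subgroup G) ⊓ K →
        (∀ n ∈ normalizer ((P : Subgroup G) : Set G), ∀ a ∈ A, n * a * n⁻¹ ∈ A) →
        A ≤ centralizer ({l} : Set G) := by
      intro c
      induction c using Nat.strong_induction_on with
      | _ c ih =>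
        intro A hc' hAPK hAn
        by_cases hA1 : A = ⊥
        · rw [hA1]; exact bot_le
        have hAP : A ≤ (P : Subgroup G) := hAPK.trans inf_le_left
        set B := ⁅A, (P : Subgroup G)⁆ with hB
        have hBlt : B < A := commutator_lt_of_nilpotent P.2.isNilpotent hAP
          (fun y hy a ha => hAn y (le_normalizer hy) a ha) hA1
        have hBn : ∀ n ∈ normalizer ((P : Subgroup G) : Set G), ∀ b ∈ B, n * b * n⁻¹ ∈ B :=
          fun n hn => conj_commutator_mem (hAn n hn) fun a ha => conj_mem_of_mem_normalizer hn ha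
        have hBl : B ≤ centralizer ({l} : Set G) := ih _ (hc' ▸ Set.Finite.card_lt_card
          (Set.toFinite _) hBlt) B rfl (hBlt.le.trans hAPK) hBn
        refine hlA A hAP hAn ?_
        -- the count
        let D := {y : G // y ∈ (P : Subgroup G) ∧ ⁅y, x⁆ ∈ B}
        have : Fintype D := Fintype.ofFinite D
        let f : D → B := fun y => ⟨⁅(y.1 : G), x⁆, y.2.2⟩
        have hfib : ∀ b : B, (Finset.univ.filter fun y => f y = b).card ≤ p ^ e := by
          intro b
          rcases (Finset.univ.filter fun y => f y = b).eq_empty_or_nonempty with h | ⟨y₀, hy₀⟩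
          · rw [h]; exact Nat.zero_le _
          rw [← Nat.card_eq_finsetCard, ← he, ← hc]
          refine Nat.card_le_card_of_injective
            (fun y => (⟨(y₀.1 : G)⁻¹ * (y.1.1 : G), ?_⟩ : centralizer ({x} : Set G))) ?_
          · have e' : ⁅(y.1.1 : G), x⁆ = ⁅(y₀.1 : G), x⁆ :=
              congrArg Subtype.val ((Finset.mem_filter.mp y.2).2.trans (Finset.mem_filter.mp hy₀).2.symm)
            rw [commutatorElement_def, commutatorElement_def, mul_left_inj] at e'
            rw [mem_centralizer_singleton_iff]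
            calc (y₀.1 : G)⁻¹ * y.1.1 * x = (y₀.1 : G)⁻¹ * (y.1.1 * x * (y.1.1 : G)⁻¹) * y.1.1 := by
                  group
              _ = x * ((y₀.1 : G)⁻¹ * y.1.1) := by rw [e']; group
          · intro a b h
            exact Subtype.ext (Subtype.ext (mul_left_cancel (congrArg Subtype.val h)))
        have h1 : Nat.card D ≤ p ^ e * Nat.card B := by
          have h := Finset.card_le_mul_card_image (f := f) Finset.univ (p ^ e) fun b _ => hfib b
          rw [Finset.card_univ, ← Nat.card_eq_fintype_card] at h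
          refine h.trans (Nat.mul_le_mul_left _ ((Finset.card_le_univ _).trans ?_))
          rw [Nat.card_eq_fintype_card]
        have h2 : Nat.card A < Nat.card D := by
          let ι : A → D := fun a => ⟨a, hAP a.2, commutator_mem_commutator a.2 hxP⟩
          refine lt_of_le_of_ne (Nat.card_le_card_of_injective ι fun a b h =>
            Subtype.ext (congrArg (fun d : D => d.1) h)) fun heq => ?_
          obtain ⟨a, ha⟩ := ((Nat.bijective_iff_injective_and_card ι).mpr
            ⟨fun a b h => Subtype.ext (congrArg (fun d : D => d.1) h), heq⟩).2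
            ⟨x, hxP, by rw [commutatorElement_self]; exact B.one_mem⟩
          have hax : (a : G) = x := congrArg (fun d : D => d.1) ha
          exact hxK (hax ▸ (hAPK a.2).2)
        calc Nat.card A < Nat.card D := h2
          _ ≤ p ^ e * Nat.card B := h1
          _ ≤ _ := by
            rw [mul_comm]
            exact Nat.mul_le_mul_right _ (card_le_of_le (le_inf hBlt.le hBl))
    have hPKl : (P : Subgroup G) ⊓ K ≤ centralizer ({l} : Set G) := hall _ _ rfl le_rfl
      fun n hn a ha => ⟨conj_mem_of_mem_normalizer hn ha.1, Normal.conj_mem inferInstance a ha.2 n⟩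
    have hlP : zpowers l ≤ centralizer ((P : Subgroup G) : Set G) := by
      refine OddLocal.le_centralizer_of_fixes_order_p hp2 P.2 (zpowers_le.mpr hlN)
        (by rw [Nat.card_zpowers]; exact hlcop) ?_
      intro w hw hwp a ha
      obtain ⟨j, rfl⟩ := ha
      have hc : Commute l w :=
        (mem_centralizer_singleton_iff.mp (hPKl ⟨hw, hnone w (hPM hw) hwp⟩)).symm
      show l ^ j * w * (l ^ j)⁻¹ = w
      rw [(hc.zpow_left j).eq, mul_inv_cancel_right]
    have hlx : x * l = l * x := mem_centralizer_iff.mp (hlP (mem_zpowers l)) x hxP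
    exact hreg l hlM (π x) (mem_map_of_mem π hxM) (fun h => hxK ((hker x).mp h))
      (by rw [← map_mul, ← map_mul, hlx])
  -- Thompson
  let φ : MulAut N := MulAut.conjNormal g
  have hN'iso : Group.IsNilpotent N := by
    refine Complement.isNilpotent_of_fpf N φ p hp ?_ ?_
    · show (MulAut.conjNormal g) ^ p = 1
      rw [← map_pow, hord, map_one]
    · intro y hy
      have hgy : g * (y : G) * g⁻¹ = y := by
        have := congrArg Subtype.val hy
        rwa [MulAut.conjNormal_apply] at this
      have hcomm : Commute g (y : G) := mul_inv_eq_iff_eq_mul.mp hgy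
      have hyK : (y : G) ∈ K := hNK y.2
      have hcj : IsConj g (g * (y : G)) := hcl _ (M.mul_mem hgM (hK hyK)) fun h => hgK (by
        simpa using K.mul_mem h (K.inv_mem hyK))
      obtain ⟨u, hu⟩ := isConj_iff.mp hcj
      obtain ⟨i, hi⟩ := hpelt
      have hyc : (orderOf (y : G)).Coprime p :=
        (hNcard ▸ hN'cop).coprime_dvd_left (Subgroup.orderOf_dvd_natCard _ y.2)
      have h1 : orderOf (g * (y : G)) = orderOf g * orderOf (y : G) :=
        hcomm.orderOf_mul_eq_mul_orderOf_of_coprime (hi ▸ (hyc.pow_right i).symm)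
      have h2 : orderOf g = orderOf (g * (y : G)) :=
        ((SemiconjBy.conj_mk u g).orderOf_eq _).trans (by rw [hu])
      rw [← h2] at h1
      have h3 : orderOf (y : G) = 1 := by
        have := orderOf_pos g
        nlinarith
      exact Subtype.ext (orderOf_eq_one_iff.mp h3)
  exact Group.isSolvable_of_isSolvable_injective
    (f := (N'.equivMapOfInjective _ K.subtype_injective).toMonoidHom)
    (N'.equivMapOfInjective _ K.subtype_injective).injective

end CfsgLib.BlockA.OneClass
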