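import Cfsg.Agent.Lib.BlockA.ReflOmega
import Cfsg.Agent.Lib.Geom.FormClass
import Cfsg.Agent.Lib.Classical.OrthOmega
import Mathlib

/-! Sylow `2`-subgroups of `Ω` in odd characteristic, via sums of squares. -/

set_option autoImplicit false
set_option linter.unusedSectionVars false
set_option maxHeartbeats 1000000

namespace CfsgLib.BlockA.OrthBlocks

open Matrix CfsgLib.Geom CfsgLib.BlockA.SqComm CfsgLib.BlockA.SylowSquares CfsgLib.BlockA.ReflOmega
open CfsgLib.Classical
open QuadraticMap (polar)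

universe u

variable {F : Type u} [Field F]

theorem sqClass_congr' {a b : F} (h : a = b) (ha : a ≠ 0) (hb : b ≠ 0) :
    sqClass ha = sqClass hb := by subst h; rfl

theorem zmod2_mul_self : ∀ z : Multiplicative (ZMod 2), z * z = 1 := by decide

theorem zmod2_ne :
    Multiplicative.ofAdd (1 : ZMod 2) ≠ Multiplicative.ofAdd 1 * Multiplicative.ofAdd 1 := by decide

section Weighted

variable {ι : Type} [Fintype ι] [DecidableEq ι]

/-- Weighted sums of squares. -/
noncomputable def wq (w : ι → F) : QuadraticForm F (ι → F) :=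
  QuadraticMap.weightedSumSquares F w

theorem wq_apply (w : ι → F) (v : ι → F) : wq w v = ∑ i, w i * (v i * v i) := by
  simp [wq]

theorem wq_polar (w : ι → F) (u v : ι → F) : polar (wq w) u v = ∑ i, 2 * w i * (u i * v i) := by
  simp only [QuadraticMap.polar, wq_apply, Pi.add_apply, ← Finset.sum_sub_distrib]
  exact Finset.sum_congr rfl fun i _ => by ring

theorem wq_single (w : ι → F) (i : ι) (t : F) : wq w (Pi.single i t) = w i * (t * t) := by
  rw [wq_apply, Fintype.sum_eq_single i (fun j hj => by simp [Pi.single_eq_of_ne hj]),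
    Pi.single_eq_same]

theorem wq_sep (h2 : (2 : F) ≠ 0) (w : ι → F) (hw : ∀ i, w i ≠ 0) (x : ι → F)
    (hx : ∀ y, polar (wq w) x y = 0) : x = 0 := by
  funext i
  have h := hx (Pi.single i 1)
  rw [wq_polar, Fintype.sum_eq_single i (fun j hj => by simp [Pi.single_eq_of_ne hj]),
    Pi.single_eq_same, mul_one] at h
  exact (mul_eq_zero.1 h).resolve_left (mul_ne_zero h2 (hw i))

/-- The discriminant. -/
noncomputable def disc (Q : QuadraticForm F (ι → F)) : F :=
  (LinearMap.toMatrix₂' F Q.polarBilin).det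

theorem disc_ne_zero (Q : QuadraticForm F (ι → F)) (hQ : ∀ x, (∀ y, polar Q x y = 0) → x = 0) :
    disc Q ≠ 0 := by
  intro h
  obtain ⟨v, hv0, hv⟩ := Matrix.exists_vecMul_eq_zero_iff.2 h
  refine hv0 (hQ v fun y => ?_)
  rw [← QuadraticMap.polarBilin_apply_apply,
    ← Matrix.toLinearMap₂'_toMatrix' (R := F) Q.polarBilin, Matrix.toLinearMap₂'_apply',
    Matrix.dotProduct_mulVec, hv, zero_dotProduct]

theorem exists_isometry [Finite F] {κ : Type} [Fintype κ] [DecidableEq κ] (h2 : (2 : F) ≠ 0)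
    (Q : QuadraticForm F (ι → F)) (hQ : ∀ x, (∀ y, polar Q x y = 0) → x = 0) (w : κ → F)
    (hw : ∀ i, w i ≠ 0) (σ : ι ≃ κ) (hsq : IsSquare (disc Q * ∏ i, 2 * w i)) :
    ∃ e : (ι → F) ≃ₗ[F] (κ → F), ∀ v, wq w (e v) = Q v := by
  refine exists_isometry_of_disc Q (wq w) h2 hQ (wq_sep h2 w hw) (Pi.basisFun F ι)
    ((Pi.basisFun F κ).reindex σ.symm) ?_
  have h1 : (LinearMap.toMatrix₂ (Pi.basisFun F ι) (Pi.basisFun F ι) Q.polarBilin).det = disc Q := by
    rw [disc]
    congr 1
  rw [h1, toMatrix₂_orth (wq w) _ (fun i j hij => by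
    rw [wq_polar]
    refine Finset.sum_eq_zero fun k _ => ?_
    simp only [Module.Basis.coe_reindex, Function.comp_apply, Pi.basisFun_apply, Equiv.symm_symm,
      Pi.single_apply]
    by_cases h : k = σ i
    · rw [if_neg (fun e : k = σ j => hij (σ.injective (h.symm.trans e))), mul_zero, mul_zero]
    · rw [if_neg h, zero_mul, mul_zero])]
  convert hsq using 2
  refine Fintype.prod_equiv σ _ _ fun i => ?_
  rw [Module.Basis.coe_reindex, Function.comp_apply, Equiv.symm_symm, Pi.basisFun_apply, wq_single,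
    mul_one, mul_one]

/-- Isometric forms have isomorphic groups. -/
noncomputable def isomsEquiv {κ : Type} [Fintype κ] [DecidableEq κ] (Q : QuadraticForm F (ι → F))
    (Q' : QuadraticForm F (κ → F)) (e : (ι → F) ≃ₗ[F] (κ → F)) (he : ∀ v, Q' (e v) = Q v) :
    quadIsoms Q' ≃* quadIsoms Q where
  toFun g := ⟨(e.trans g.1).trans e.symm, fun v => by
    rw [← he]
    simp only [LinearEquiv.trans_apply, LinearEquiv.apply_symm_apply]
    rw [mem_quadIsoms.1 g.2, he]⟩
  invFun g := ⟨(e.symm.trans g.1).trans e, fun v => by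
    simp only [LinearEquiv.trans_apply]
    rw [he, mem_quadIsoms.1 g.2, ← he, LinearEquiv.apply_symm_apply]⟩
  left_inv g := Subtype.ext (LinearEquiv.ext fun v => by simp)
  right_inv g := Subtype.ext (LinearEquiv.ext fun v => by simp)
  map_mul' g h := Subtype.ext (LinearEquiv.ext fun v => by simp)

theorem isometryGroup_congr {κ : Type} [Fintype κ] [DecidableEq κ] (Q : QuadraticForm F (ι → F))
    (Q' : QuadraticForm F (κ → F)) (e : (ι → F) ≃ₗ[F] (κ → F)) (he : ∀ v, Q' (e v) = Q v) :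
    Nonempty (Cfsg.isometryGroup F (⇑Q') ≃* Cfsg.isometryGroup F (⇑Q)) :=
  ⟨((orEquiv Q').symm.trans (isomsEquiv Q Q' e he)).trans (orEquiv Q)⟩

/-- Transfer of a good subgroup along an isometry. -/
theorem sylow_sq_of_isometry [Finite F] {κ : Type} [Fintype κ] [DecidableEq κ]
    (Q : QuadraticForm F (ι → F))
    (Q' : QuadraticForm F (κ → F)) (φ : Cfsg.isometryGroup F (⇑Q') ≃* Cfsg.isometryGroup F (⇑Q))
    (hS : ∃ S : Subgroup (Cfsg.Omega F (⇑Q')),
      Nat.card S = 2 ^ (Nat.card (Cfsg.Omega F (⇑Q'))).factorization 2 ∧ SqComm S)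
    (P : Sylow 2 (Cfsg.Omega F (⇑Q))) :
    ∀ x : (P : Subgroup (Cfsg.Omega F (⇑Q))), x ^ 2 ∈ commutator (P : Subgroup _) := by
  obtain ⟨S, hcard, hS⟩ := hS
  let ψ : Cfsg.Omega F (⇑Q') ≃* Cfsg.Omega F (⇑Q) :=
    (φ.subgroupMap (Cfsg.Omega F (⇑Q'))).trans (MulEquiv.subgroupCongr (by
      show (commutator _).map φ.toMonoidHom = commutator _
      rw [commutator_def, Subgroup.map_commutator,
        Subgroup.map_top_of_surjective φ.toMonoidHom φ.surjective, ← commutator_def]))
  refine sylow_sq (S.map ψ.toMonoidHom) ?_ (sqComm_map hS _) P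
  rw [← Nat.card_congr (S.equivMapOfInjective ψ.toMonoidHom ψ.injective).toEquiv, hcard,
    Nat.card_congr ψ.toEquiv]

end Weighted

section Model

variable {k : ℕ} {ε : Type} [Fintype ε] [DecidableEq ε]

local notation "G2" => GL (Fin 2) F
local notation "Idx" => (Fin 2 × Fin k) ⊕ ε

/-- Monomial elements and signs. -/
noncomputable def big : Wr k G2 × (ε → ℤˣ) →* GL Idx F :=
  MonoidHom.toHomUnits
    { toFun := fun x => Matrix.fromBlocks
        ((monHom x.1 : GL (Fin 2 × Fin k) F) : Matrix (Fin 2 × Fin k) (Fin 2 × Fin k) F) 0 0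
        (Matrix.diagonal fun e => (((x.2 e : ℤˣ) : ℤ) : F))
      map_one' := by simp [Matrix.fromBlocks_one]
      map_mul' := fun x y => by
        simp [Matrix.fromBlocks_multiply, Matrix.diagonal_mul_diagonal] }

theorem big_mulVec (x : Wr k G2 × (ε → ℤˣ)) (v : Idx → F) :
    ((big x : GL Idx F) : Matrix Idx Idx F) *ᵥ v = Sum.elim
      (fun r => ∑ b, (x.1.left r.2 : Matrix (Fin 2) (Fin 2) F) r.1 b *
        v (Sum.inl (b, x.1.right.symm r.2)))
      (fun e => (((x.2 e : ℤˣ) : ℤ) : F) * v (Sum.inr e)) := by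
  show Matrix.fromBlocks _ _ _ _ *ᵥ v = _
  rw [Matrix.fromBlocks_mulVec]
  congr 1
  · funext r
    rw [Matrix.zero_mulVec, add_zero, monHom_apply, Units.val_mul, ← Matrix.mulVec_mulVec,
      coe_permHom, coe_diagHom]
    have hP : ∀ r : Fin 2 × Fin k, (pmat x.1.right *ᵥ (v ∘ Sum.inl)) r =
        v (Sum.inl (r.1, x.1.right.symm r.2)) := fun r => by
      rw [Matrix.mulVec, dotProduct, Finset.sum_eq_single (r.1, x.1.right.symm r.2)]
      · simp [pmat]
      · intro b _ hb
        simp only [pmat, Matrix.of_apply]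
        rw [if_neg, zero_mul]
        intro h
        apply hb
        rw [h]
        simp
      · simp
    rw [Matrix.mulVec, dotProduct, Fintype.sum_prod_type]
    simp only [hP, Matrix.blockDiagonal_apply, ite_mul, zero_mul, Finset.sum_ite_eq, Finset.mem_univ,
      if_true]
  · funext e
    rw [Matrix.zero_mulVec, zero_add, Matrix.mulVec_diagonal]
    rfl

theorem big_injective (h2 : (2 : F) ≠ 0) :
    Function.Injective (big : Wr k G2 × (ε → ℤˣ) → GL Idx F) := by
  rintro ⟨a, s⟩ ⟨b, t⟩ h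
  obtain ⟨h1, -, -, h4⟩ := Matrix.fromBlocks_inj.1 (congrArg Units.val h)
  refine Prod.ext (monHom_injective (Units.ext h1)) (funext fun e => ?_)
  have := congrFun (Matrix.diagonal_injective h4) e
  rcases Int.units_eq_one_or (s e) with hs | hs <;> rcases Int.units_eq_one_or (t e) with ht | ht <;>
    simp [hs, ht] at this ⊢
  · exact h2 (by linear_combination this)
  · exact h2 (by linear_combination -this)

/-- The weights. -/
noncomputable def wt (k : ℕ) (c : ε → F) : (Fin 2 × Fin k) ⊕ ε → F := Sum.elim (fun _ => 1) c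

theorem wt_ne_zero {c : ε → F} (hc : ∀ e, c e ≠ 0) (x : Idx) : wt k c x ≠ 0 := by
  rcases x with x | e
  · exact one_ne_zero
  · exact hc e

/-- The binary sum of squares. -/
noncomputable def q2 (F : Type*) [Field F] : QuadraticForm F (Fin 2 → F) := wq (fun _ => 1)

theorem q2_apply (v : Fin 2 → F) : q2 F v = v 0 * v 0 + v 1 * v 1 := by
  simp [q2, wq_apply, Fin.sum_univ_two]

theorem q2_polar (u v : Fin 2 → F) : polar (q2 F) u v = 2 * (u 0 * v 0) + 2 * (u 1 * v 1) := by
  simp [q2, wq_polar, Fin.sum_univ_two]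

/-- A vector in a single block. -/
def emb (i : Fin k) (u : Fin 2 → F) : Idx → F :=
  Sum.elim (fun r => if r.2 = i then u r.1 else 0) 0

theorem wq_emb (c : ε → F) (i : Fin k) (u : Fin 2 → F) : wq (wt k c) (emb i u) = q2 F u := by
  rw [wq_apply, Fintype.sum_sum_type, Fintype.sum_prod_type]
  simp [emb, wt, q2, wq_apply]

theorem polar_emb (c : ε → F) (i : Fin k) (u : Fin 2 → F) (z : Idx → F) :
    polar (wq (wt k c)) (emb i u) z = polar (q2 F) u (fun a => z (Sum.inl (a, i))) := by
  rw [wq_polar, Fintype.sum_sum_type, Fintype.sum_prod_type]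
  simp [emb, wt, q2, wq_polar, ite_mul, mul_ite]

/-- Vectors supported in a block or on an extra axis. -/
def Loc (v : Idx → F) : Prop :=
  (∃ i u, v = emb i u) ∨ ∃ (e : ε) (t : F), v = Pi.single (Sum.inr e) t

variable [Fintype F]

theorem exists_refl_of_det (h2 : (2 : F) ≠ 0) (d : Cfsg.isometryGroup F (⇑(q2 F)))
    (hdet : ((d : G2) : Matrix (Fin 2) (Fin 2) F).det = -1) :
    ∃ (v : Fin 2 → F) (hv : q2 F v ≠ 0), refl (q2 F) v hv = d := by
  set M := ((d : G2) : Matrix (Fin 2) (Fin 2) F) with hM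
  have hiso : ∀ u, q2 F (M *ᵥ u) = q2 F u := (mem_isometryGroup_iff _ _).1 d.2
  have e1 := hiso ![1, 0]
  have e2 := hiso ![0, 1]
  have e3 := hiso ![1, 1]
  simp [q2_apply, Matrix.mulVec, dotProduct, Fin.sum_univ_two] at e1 e2 e3
  rw [Matrix.det_fin_two] at hdet
  set a := M 0 0 with ha
  set b := M 1 0 with hb
  set c := M 0 1 with hc
  set e := M 1 1 with he
  have h3 : a * c + b * e = 0 := by
    have : 2 * (a * c + b * e) = 0 := by linear_combination e3 - e1 - e2
    exact (mul_eq_zero.1 this).resolve_left h2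
  have hcb : c = b := by linear_combination (-c) * e1 - b * hdet + a * h3
  have hea : e = -a := by linear_combination (-e) * e1 + a * hdet + b * h3
  have hab : a * a + b * b = 1 := by linear_combination e1
  by_cases ha1 : a = 1
  · have hb0 : b = 0 := by
      rw [ha1] at hab
      exact mul_self_eq_zero.1 (by linear_combination hab)
    have hv : q2 F ![0, 1] ≠ 0 := by simp [q2_apply]
    refine ⟨![0, 1], hv, Subtype.ext (Units.ext (Matrix.ext_iff_mulVec.2 fun z => ?_))⟩
    rw [refl_mulVec, ← hM]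
    funext i
    fin_cases i
    · simp [q2_apply, q2_polar, Matrix.mulVec, dotProduct, Fin.sum_univ_two, ← ha, ← hc, hcb, hb0, ha1]
    · simp [q2_apply, q2_polar, Matrix.mulVec, dotProduct, Fin.sum_univ_two, ← hb, ← he, hea, hb0, ha1]
      ring
  · have hd : (a - 1) * (a - 1) + b * b = 2 * (1 - a) := by linear_combination hab
    have hv : q2 F ![a - 1, b] ≠ 0 := by
      simp only [q2_apply, Matrix.cons_val_zero, Matrix.cons_val_one, Matrix.head_cons]
      rw [hd]
      exact mul_ne_zero h2 (sub_ne_zero.2 (Ne.symm ha1))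
    refine ⟨![a - 1, b], hv, Subtype.ext (Units.ext (Matrix.ext_iff_mulVec.2 fun z => ?_))⟩
    rw [refl_mulVec, ← hM]
    have hQv : q2 F ![a - 1, b] = 2 * (1 - a) := by
      simp [q2_apply, hd]
    have hp : polar (q2 F) ![a - 1, b] z = 2 * ((a - 1) * z 0) + 2 * (b * z 1) := by
      simp [q2_polar]
    rw [hQv, hp]
    have h1a : (1 - a) ≠ 0 := sub_ne_zero.2 (Ne.symm ha1)
    funext i
    fin_cases i
    · simp [Matrix.mulVec, dotProduct, Fin.sum_univ_two, ← ha, ← hc, hcb]
      field_simp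
      ring
    · simp [Matrix.mulVec, dotProduct, Fin.sum_univ_two, ← hb, ← he, hea]
      field_simp
      linear_combination (-z 1) * hab

theorem two_ne_zero' (hodd : Odd (Fintype.card F)) : (2 : F) ≠ 0 :=
  Classical.two_ne_zero_of_odd (F := F) hodd

theorem isSquare_neg_one_iff (hodd : Odd (Fintype.card F)) :
    IsSquare (-1 : F) ↔ Fintype.card F % 4 = 1 := by
  rw [FiniteField.isSquare_neg_one_iff]
  rw [Nat.odd_iff] at hodd
  omega

theorem val_sq_sub_one (hodd : Odd (Fintype.card F)) :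
    padicValNat 2 (Fintype.card F ^ 2 - 1) =
      padicValNat 2 (Fintype.card F - 1) + padicValNat 2 (Fintype.card F + 1) := by
  have hq : 1 < Fintype.card F := Fintype.one_lt_card
  haveI := Fact.mk Nat.prime_two
  rw [show Fintype.card F ^ 2 - 1 = (Fintype.card F + 1) * (Fintype.card F - 1) by
    simpa [sq] using Nat.sq_sub_sq (Fintype.card F) 1, padicValNat.mul (by omega) (by omega), add_comm]

theorem val_of_mod_four {n : ℕ} (h : n % 4 = 2) : padicValNat 2 n = 1 := by
  rw [← Nat.factorization_def _ Nat.prime_two]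
  exact Classical.factorization_two_of_mod_four h

theorem val_o2 (hodd : Odd (Fintype.card F)) :
    (Nat.card (Cfsg.isometryGroup F (⇑(q2 F)))).factorization 2 =
      padicValNat 2 (Fintype.card F ^ 2 - 1) := by
  have h2 := two_ne_zero' hodd
  haveI := Fact.mk Nat.prime_two
  have hq : 1 < Fintype.card F := Fintype.one_lt_card
  have hodd' := Nat.odd_iff.1 hodd
  rw [val_sq_sub_one hodd, Nat.factorization_def _ Nat.prime_two]
  by_cases hs : IsSquare (-1 : F)
  · have h4 := (isSquare_neg_one_iff hodd).1 hs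
    obtain ⟨e, he⟩ := exists_isometry h2 (qfPlus 1 F) (qfPlus_sep 1) (fun _ : Fin 2 => (1 : F))
      (fun _ => one_ne_zero) (finSumFinEquiv : Fin 1 ⊕ Fin 1 ≃ Fin 2) (by
        rw [disc, qfPlus_eq_plusForm, plusForm_disc, pow_one, Fin.prod_univ_two, mul_one]
        exact hs.mul ⟨2, rfl⟩)
    obtain ⟨φ⟩ := isometryGroup_congr (qfPlus 1 F) (q2 F) e he
    have hc : Nat.card (quadIsoms (qfPlus 1 F)) = 2 * (Fintype.card F - 1) := by
      simpa using card_qfPlus_isoms (F := F) 0
    rw [Nat.card_congr φ.toEquiv, ← Nat.card_congr (orEquiv (qfPlus 1 F)).toEquiv, hc,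
      padicValNat.mul two_ne_zero (by omega), padicValNat.self one_lt_two,
      val_of_mod_four (n := Fintype.card F + 1) (by omega)]
    ring
  · have h4 : Fintype.card F % 4 = 3 := by
      have := mt (isSquare_neg_one_iff hodd).2 hs
      omega
    have hab : ∀ z₁ z₂ : F, z₁ ^ 2 + 0 * z₁ * z₂ + 1 * z₂ ^ 2 = 0 → z₁ = 0 ∧ z₂ = 0 := by
      intro x y h
      by_cases hy : y = 0
      · subst hy; simpa using h
      · exact absurd ⟨x / y, by field_simp; linear_combination -h⟩ hs
    let σ : (Fin 0 ⊕ Fin 0) ⊕ Fin 2 ≃ Fin 2 := Equiv.emptySum (Fin 0 ⊕ Fin 0) (Fin 2)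
    obtain ⟨e, he⟩ := exists_isometry h2 (qfMinus 0 F 0 1) (qfMinus_sep 0 hab)
      (fun _ : Fin 2 => (1 : F)) (fun _ => one_ne_zero) σ (by
        rw [disc, qfMinus_eq_minusForm, minusForm_disc, Fin.prod_univ_two]
        exact ⟨4, by ring⟩)
    obtain ⟨φ⟩ := isometryGroup_congr (qfMinus 0 F 0 1) (q2 F) e he
    have hc : Nat.card (quadIsoms (qfMinus 0 F (0 : F) 1)) = 2 * (Fintype.card F + 1) := by
      simpa using card_qfMinus_isoms hab 0
    rw [Nat.card_congr φ.toEquiv, ← Nat.card_congr (orEquiv (qfMinus 0 F 0 1)).toEquiv, hc,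
      padicValNat.mul two_ne_zero (by omega), padicValNat.self one_lt_two,
      val_of_mod_four (n := Fintype.card F - 1) (by omega)]

theorem exists_surjective_sylow {G A : Type*} [Group G] [Finite G] [Group A]
    (f : G →* A) (hf : Function.Surjective f) {n : ℕ} (hA : Nat.card A = 2 ^ n) (P : Sylow 2 G) :
    ∀ z : A, ∃ x ∈ (P : Subgroup G), f x = z := by
  haveI := Fact.mk Nat.prime_two
  have h1 : ((P : Subgroup G) ⊔ f.ker).index ∣ (P : Subgroup G).index :=
    Subgroup.index_dvd_of_le le_sup_left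
  have h2 : ((P : Subgroup G) ⊔ f.ker).index ∣ 2 ^ n := by
    refine (Subgroup.index_dvd_of_le le_sup_right).trans ?_
    rw [Subgroup.index_ker, MonoidHom.range_eq_top.2 hf, Subgroup.card_top, hA]
  have h3 : ((P : Subgroup G) ⊔ f.ker).index = 1 :=
    Nat.eq_one_of_dvd_coprimes (Nat.Coprime.pow_left n
      ((Nat.prime_two.coprime_iff_not_dvd).2 P.not_dvd_index)).symm h1 h2
  intro z
  obtain ⟨g, rfl⟩ := hf z
  have hg : g ∈ (P : Subgroup G) ⊔ f.ker := by rw [Subgroup.index_eq_one.1 h3]; trivial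
  have hg' : f g ∈ ((P : Subgroup G) ⊔ f.ker).map f := Subgroup.mem_map_of_mem f hg
  rw [Subgroup.map_sup, (Subgroup.map_eq_bot_iff _).2 le_rfl, sup_bot_eq] at hg'
  exact hg'

/-- The main construction. -/
theorem model_sq (hodd : Odd (Fintype.card F)) (hk : 2 ≤ k) {c : ε → F} (hc : ∀ e, c e ≠ 0)
    (hv : (Nat.card (Cfsg.isometryGroup F (⇑(wq (wt k c))))).factorization 2 =
      k * padicValNat 2 (Fintype.card F ^ 2 - 1) + padicValNat 2 k.factorial + Fintype.card ε) :
    ∃ S : Subgroup (Cfsg.Omega F (⇑(wq (wt k c)))),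
      Nat.card S = 2 ^ (Nat.card (Cfsg.Omega F (⇑(wq (wt k c))))).factorization 2 ∧ SqComm S := by
  classical
  haveI := Fact.mk Nat.prime_two
  have h2 := two_ne_zero' hodd
  have hQ := wq_sep h2 (wt k c) (wt_ne_zero hc)
  set Q := wq (wt k c) with hQdef
  have hq2 : ∀ x, (∀ y, polar (q2 F) x y = 0) → x = 0 := wq_sep h2 _ fun _ => one_ne_zero
  -- the block group
  have hr0 : q2 F ![1, 0] ≠ 0 := by simp [q2_apply]
  set r₀ := refl (q2 F) ![1, 0] hr0 with hr₀
  have hr₀p : IsPGroup 2 (Subgroup.zpowers r₀) := by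
    intro ⟨x, hx⟩
    obtain ⟨j, rfl⟩ := Subgroup.mem_zpowers_iff.1 hx
    exact ⟨1, Subtype.ext (by
      rw [pow_one, SubgroupClass.coe_pow]
      show (r₀ ^ j) ^ 2 = 1
      rw [pow_two, ← _root_.zpow_add, ← two_mul, _root_.zpow_mul, _root_.zpow_two, hr₀, refl_mul_self, _root_.one_zpow])⟩
  obtain ⟨D₀, hD₀⟩ := hr₀p.exists_le_sylow
  have hD₀c : Nat.card (D₀ : Subgroup (Cfsg.isometryGroup F (⇑(q2 F)))) =
      2 ^ padicValNat 2 (Fintype.card F ^ 2 - 1) := by
    rw [D₀.card_eq_multiplicity, val_o2 hodd]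
  set D : Subgroup G2 := (D₀ : Subgroup (Cfsg.isometryGroup F (⇑(q2 F)))).map
    (Cfsg.isometryGroup F (⇑(q2 F))).subtype with hD
  obtain ⟨R⟩ : Nonempty (Sylow 2 (Equiv.Perm (Fin k))) := inferInstance
  set U : Subgroup (Wr k G2 × (ε → ℤˣ)) :=
    (sub (R : Subgroup (Equiv.Perm (Fin k))) D).prod ⊤ with hU
  have hUiso : ∀ x ∈ U, big x ∈ Cfsg.isometryGroup F (⇑Q) := by
    intro x hx
    rw [mem_isometryGroup_iff]
    intro v
    rw [big_mulVec, hQdef, wq_apply, wq_apply, Fintype.sum_sum_type, Fintype.sum_sum_type]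
    congr 1
    · rw [Fintype.sum_prod_type_right, Fintype.sum_prod_type_right]
      refine Fintype.sum_equiv x.1.right.symm _ _ fun i => ?_
      obtain ⟨d, hd, hde⟩ := hx.1.2 i
      have h := (mem_isometryGroup_iff _ _).1 d.2 (fun b => v (Sum.inl (b, x.1.right.symm i)))
      rw [q2_apply, q2_apply] at h
      simp only [wt, Sum.elim_inl, Fin.sum_univ_two, one_mul]
      rw [← hde]
      simp only [Matrix.mulVec, dotProduct, Fin.sum_univ_two] at h
      exact h
    · refine Finset.sum_congr rfl fun e _ => ?_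
      simp only [Sum.elim_inr]
      rcases Int.units_eq_one_or (x.2 e) with h | h <;> simp [h]
  set W := (U.map big).comap (Cfsg.isometryGroup F (⇑Q)).subtype with hW
  have hUle : U.map big ≤ (Cfsg.isometryGroup F (⇑Q)).subtype.range := by
    rw [Subgroup.range_subtype]
    rintro _ ⟨x, hx, rfl⟩
    exact hUiso x hx
  have hWcard : Nat.card W = 2 ^ (Nat.card (Cfsg.isometryGroup F (⇑Q))).factorization 2 := by
    rw [hW, card_comap (Subgroup.subtype_injective _) hUle,
      ← Nat.card_congr (U.equivMapOfInjective big (big_injective h2)).toEquiv, hU,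
      Nat.card_congr (Subgroup.prodEquiv _ _).toEquiv, Nat.card_prod, Subgroup.card_top, card_sub,
      hD, ← Nat.card_congr (((D₀ : Subgroup (Cfsg.isometryGroup F (⇑(q2 F))))).equivMapOfInjective
        (Cfsg.isometryGroup F (⇑(q2 F))).subtype (Subgroup.subtype_injective _)).toEquiv,
      hD₀c, card_sylow_perm, ← pow_mul, ← pow_add, hv, Nat.card_fun, Nat.card_eq_fintype_card (α := ℤˣ),
      Fintype.card_units_int, Nat.card_eq_fintype_card (α := ε), ← pow_add, mul_comm]
  -- elements of `W`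
  have hmemW : ∀ (g : Cfsg.isometryGroup F (⇑Q)) (x : Wr k G2 × (ε → ℤˣ)), x ∈ U →
      (g : GL Idx F) = big x → g ∈ W := fun g x hx hg => ⟨x, hx, hg.symm⟩
  -- block reflections
  have hblock : ∀ (i : Fin k) (u : Fin 2 → F) (hu : q2 F u ≠ 0),
      (refl Q (emb i u) (by rw [hQdef, wq_emb]; exact hu) : GL Idx F) =
        big (SqComm.single i ((refl (q2 F) u hu : Cfsg.isometryGroup F (⇑(q2 F))) : G2), 1) := by
    intro i u hu
    refine Units.ext (Matrix.ext_iff_mulVec.2 fun z => ?_)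
    rw [refl_mulVec, big_mulVec, hQdef, wq_emb, polar_emb]
    funext r
    rcases r with ⟨a, j⟩ | e
    · simp only [Pi.sub_apply, Pi.smul_apply, smul_eq_mul, Sum.elim_inl, SqComm.single, MonoidHom.comp_apply,
        MonoidHom.mulSingle_apply, SemidirectProduct.left_inl, SemidirectProduct.right_inl, emb]
      by_cases hj : j = i
      · subst hj
        rw [if_pos rfl, Pi.mulSingle_eq_same]
        have h := congrFun (refl_mulVec (q2 F) u hu (fun b => z (Sum.inl (b, j)))) a
        simp only [Pi.sub_apply, Pi.smul_apply, smul_eq_mul] at h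
        rw [← h]
        rfl
      · rw [if_neg hj, mul_zero, sub_zero, Pi.mulSingle_eq_of_ne hj]
        simp [Matrix.one_apply, Equiv.Perm.one_def]
    · simp [emb]
  have hDrefl : ∀ d ∈ (D₀ : Subgroup (Cfsg.isometryGroup F (⇑(q2 F)))),
      ((d : G2) : Matrix (Fin 2) (Fin 2) F).det = -1 →
      ∀ i : Fin k, ∃ (u : Fin 2 → F) (hu : q2 F u ≠ 0),
        refl (q2 F) u hu = d ∧ refl Q (emb i u) (by rw [hQdef, wq_emb]; exact hu) ∈ W := by
    intro d hd hdet i
    obtain ⟨u, hu, rfl⟩ := exists_refl_of_det h2 d hdet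
    refine ⟨u, hu, rfl, hmemW _ _ ⟨?_, trivial⟩ (hblock i u hu)⟩
    refine (inl_mem_iff _ _ _).2 fun j => ?_
    rw [MonoidHom.mulSingle_apply, Pi.mulSingle_apply]
    split_ifs
    · exact Subgroup.mem_map_of_mem _ hd
    · exact one_mem _
  have haxis : ∀ e : ε, ∃ hv : Q (Pi.single (Sum.inr e) 1) ≠ 0,
      (refl Q (Pi.single (Sum.inr e) 1) hv : GL Idx F) = big (1, Pi.mulSingle e (-1)) := by
    intro e
    have hve : Q (Pi.single (Sum.inr e) 1) = c e := by
      rw [hQdef, wq_single, mul_one, mul_one]; rfl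
    have hv : Q (Pi.single (Sum.inr e) 1) ≠ 0 := by rw [hve]; exact hc e
    refine ⟨hv, Units.ext (Matrix.ext_iff_mulVec.2 fun z => ?_)⟩
    rw [refl_mulVec, big_mulVec, hve]
    have hp : polar Q (Pi.single (Sum.inr e) 1) z = 2 * c e * z (Sum.inr e) := by
      rw [hQdef, wq_polar, Fintype.sum_eq_single (Sum.inr e : Idx) (fun j hj => by
        rw [Pi.single_eq_of_ne hj]; ring), Pi.single_eq_same, one_mul]
      rfl
    rw [hp, show (c e)⁻¹ * (2 * c e * z (Sum.inr e)) = 2 * z (Sum.inr e) by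
      field_simp [hc e]]
    funext r
    rcases r with ⟨a, j⟩ | e'
    · simp [Matrix.one_apply, Equiv.Perm.one_def]
    · by_cases he : e' = e
      · subst he; simp; ring
      · simp [he]
  set X : Set (Idx → F) := {v | Loc v ∧ ∃ h : Q v ≠ 0, refl Q v h ∈ W} with hX
  have hX0 : ∀ v ∈ X, Q v ≠ 0 := fun v hv => hv.2.choose
  have hXW : ∀ v (hv : v ∈ X), refl Q v (hX0 v hv) ∈ W := fun v hv => hv.2.choose_spec
  have hXinv : ∀ g ∈ W, ∀ v ∈ X,
      ((g : GL Idx F) : Matrix Idx Idx F) *ᵥ v ∈ X := by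
    intro g hg v hv
    refine ⟨?_, by rw [map_eq_val]; exact hX0 v hv, ?_⟩
    · obtain ⟨x, hx, hxg⟩ := hg
      rw [show ((g : GL Idx F) : Matrix Idx Idx F) = (big x : GL Idx F) from
        congrArg Units.val hxg.symm, big_mulVec]
      rcases hv.1 with ⟨i, u, rfl⟩ | ⟨e, t, rfl⟩
      · refine Or.inl ⟨x.1.right i,
          fun a => ∑ b, (x.1.left (x.1.right i) : Matrix (Fin 2) (Fin 2) F) a b * u b, ?_⟩
        funext r
        rcases r with ⟨a, j⟩ | e
        · simp only [Sum.elim_inl, emb]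
          by_cases hj : j = x.1.right i
          · subst hj; simp
          · rw [if_neg hj]
            refine Finset.sum_eq_zero fun b _ => ?_
            rw [if_neg (fun h => hj (by rw [← h, Equiv.apply_symm_apply])), mul_zero]
        · simp [emb]
      · refine Or.inr ⟨e, (((x.2 e : ℤˣ) : ℤ) : F) * t, ?_⟩
        funext r
        rcases r with ⟨a, j⟩ | e'
        · simp
        · by_cases he : e' = e
          · subst he; simp
          · simp [he]
    · have h := W.mul_mem (W.mul_mem hg (hXW v hv)) (W.inv_mem hg)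
      rwa [refl_conj] at h
  -- permutations
  set Y : Set (Cfsg.isometryGroup F (⇑Q)) :=
    {g | g * g = 1 ∧ ∃ σ ∈ (R : Subgroup (Equiv.Perm (Fin k))),
      (g : GL Idx F) = big (SemidirectProduct.inr σ, 1)} with hY
  have hexGen := ReflOmega.exGen (F := F) (ι := Idx) h2
  set ψ := spinorHom Q hQ hexGen with hψ
  have hsq : ∀ z : Multiplicative (ZMod 2) × SqClass F, z * z = 1 := by
    rintro ⟨z, s⟩
    refine Prod.ext ?_ (sqClass_mul_self s)
    exact zmod2_mul_self z
  have hYΩ : Y ⊆ Cfsg.Omega F (⇑Q) := by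
    rintro g ⟨-, σ, -, hg⟩
    rw [SetLike.mem_coe, omega_eq_ker_spinorHom Q hQ hexGen, MonoidHom.mem_ker, ← hψ]
    -- coordinate permutations
    have hcp : ∀ π : Equiv.Perm (Fin 2 × Fin k), ∃ h : Cfsg.isometryGroup F (⇑Q), ∀ z : Idx → F,
        ((h : GL Idx F) : Matrix Idx Idx F) *ᵥ z =
          Sum.elim (fun r => z (Sum.inl (π.symm r))) (fun e => z (Sum.inr e)) := by
      intro π
      let L : (Idx → F) ≃ₗ[F] (Idx → F) :=
        LinearEquiv.funCongrLeft F F (Equiv.sumCongr π.symm (Equiv.refl ε))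
      have hL : L ∈ quadIsoms Q := fun z => by
        rw [hQdef, wq_apply, wq_apply]
        refine Fintype.sum_equiv (Equiv.sumCongr π.symm (Equiv.refl ε)) _ _ fun r => ?_
        rcases r with r | e <;> simp [L, wt]
      refine ⟨orEquiv Q ⟨L, hL⟩, fun z => (orEquiv_mulVec Q _ z).trans ?_⟩
      funext r
      rcases r with r | e <;> rfl
    let πx : Equiv.Perm (Fin 2 × Fin k) :=
      Equiv.prodCongrRight fun a : Fin 2 => if a = 0 then σ else 1
    let πy : Equiv.Perm (Fin 2 × Fin k) :=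
      Equiv.prodCongrRight fun a : Fin 2 => if a = 1 then σ else 1
    let πs : Equiv.Perm (Fin 2 × Fin k) := Equiv.prodCongrLeft fun _ => Equiv.swap 0 1
    obtain ⟨gx, hgx⟩ := hcp πx
    obtain ⟨gy, hgy⟩ := hcp πy
    obtain ⟨gs, hgs⟩ := hcp πs
    have hext : ∀ a b : Cfsg.isometryGroup F (⇑Q), (∀ z : Idx → F,
        ((a : GL Idx F) : Matrix Idx Idx F) *ᵥ z = ((b : GL Idx F) : Matrix Idx Idx F) *ᵥ z) →
        a = b := fun a b h => Subtype.ext (Units.ext (Matrix.ext_iff_mulVec.2 h))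
    have h1 : g = gx * gy := hext _ _ fun z => by
      rw [Subgroup.coe_mul, Units.val_mul, ← Matrix.mulVec_mulVec, hgy, hgx, hg, big_mulVec]
      funext r
      rcases r with ⟨a, j⟩ | e
      · fin_cases a <;> simp [πx, πy, Matrix.one_apply, Equiv.Perm.one_def]
      · simp
    have h2' : gy * gs = gs * gx := hext _ _ fun z => by
      rw [Subgroup.coe_mul, Subgroup.coe_mul, Units.val_mul, Units.val_mul, ← Matrix.mulVec_mulVec,
        ← Matrix.mulVec_mulVec, hgs, hgy, hgx, hgs]
      funext r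
      rcases r with ⟨a, j⟩ | e
      · fin_cases a <;> simp [πx, πy, πs, Equiv.Perm.one_def]
      · simp
    have h3 := congrArg ψ h2'
    rw [map_mul, map_mul, mul_comm (ψ gs)] at h3
    rw [h1, map_mul, mul_right_cancel h3, hsq]
  have hYW : Y ⊆ W := by
    rintro g ⟨-, σ, hσ, hg⟩
    exact hmemW g (SemidirectProduct.inr σ, 1) ⟨⟨hσ, fun _ => one_mem _⟩, trivial⟩ hg
  -- generation
  have hgen : W ≤ Subgroup.closure
      ({g | ∃ (v : Idx → F) (hv : v ∈ X), refl Q v (hX0 v hv) = g} ∪ Y) := by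
    set T := {g | ∃ (v : Idx → F) (hv : v ∈ X), refl Q v (hX0 v hv) = g} ∪ Y with hT
    set C := (Subgroup.closure T).map (Cfsg.isometryGroup F (⇑Q)).subtype with hC
    suffices h : ∀ x ∈ U, big x ∈ C by
      rintro g ⟨x, hx, hxg⟩
      obtain ⟨y, hy, hyg⟩ := h x hx
      have : y = g := Subtype.ext (hyg.trans hxg)
      rwa [← this]
    have hRefl : ∀ v (hv : v ∈ X), (refl Q v (hX0 v hv) : GL Idx F) ∈ C := fun v hv =>
      Subgroup.mem_map_of_mem (Cfsg.isometryGroup F (⇑Q)).subtype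
        (Subgroup.subset_closure (k := T) (Or.inl ⟨v, hv, rfl⟩))
    intro x hx
    have hsplit : x = (SemidirectProduct.inl x.1.left, 1) * (SemidirectProduct.inr x.1.right, 1) *
        (1, x.2) := by
      refine Prod.ext ?_ ?_
      · simp [SemidirectProduct.inl_left_mul_inr_right]
      · simp
    rw [hsplit, map_mul, map_mul]
    refine C.mul_mem (C.mul_mem ?_ ?_) ?_
    · -- blocks
      let f : Fin k → D₀ →* GL Idx F := fun i =>
        big.comp ((MonoidHom.inl (Wr k G2) (ε → ℤˣ)).comp ((SqComm.single i).comp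
          ((Cfsg.isometryGroup F (⇑(q2 F))).subtype.comp (D₀ : Subgroup (Cfsg.isometryGroup F (⇑(q2 F)))).subtype)))
      have hf : ∀ (i : Fin k) (d : D₀), f i d ∈ C := by
        intro i d
        have hdet : ∀ d : D₀, (((d : Cfsg.isometryGroup F (⇑(q2 F))) : G2) :
            Matrix (Fin 2) (Fin 2) F).det = -1 → f i d ∈ C := by
          intro d hd
          obtain ⟨u, hu, hud, huW⟩ := hDrefl _ d.2 hd i
          have hmem : emb i u ∈ X := ⟨Or.inl ⟨i, u, rfl⟩, _, huW⟩
          have := hRefl _ hmem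
          rw [hblock i u hu, hud] at this
          exact this
        have h1 : (((⟨r₀, hD₀ (Subgroup.mem_zpowers r₀)⟩ : D₀) :
            Cfsg.isometryGroup F (⇑(q2 F))) : G2).val.det = -1 := by
          show ((r₀ : G2) : Matrix (Fin 2) (Fin 2) F).det = -1
          rw [hr₀, show ((refl (q2 F) ![1, 0] hr0 : G2) : Matrix (Fin 2) (Fin 2) F) = _ from
            glOfEquiv_reflEquiv (q2 F) ![1, 0] hr0, det_reflectionMatrix _ hr0]
        rcases isometry_det (q2 F) ⟨fun x hx => hq2 x (by simpa using hx), fun x hx => hq2 x (fun y => by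
            rw [QuadraticMap.polar_comm]; simpa using hx y)⟩ _
          ((mem_isometryGroup_iff _ _).1 (d : Cfsg.isometryGroup F (⇑(q2 F))).2) with hd | hd
        · have h3 : f i (d * ⟨r₀, hD₀ (Subgroup.mem_zpowers r₀)⟩) ∈ C := hdet _ (by
            rw [Subgroup.coe_mul, Subgroup.coe_mul, Units.val_mul, Matrix.det_mul, hd, h1, one_mul])
          rw [map_mul] at h3
          exact (Subgroup.mul_mem_cancel_right _ (hdet _ h1)).1 h3
        · exact hdet d hd
      have h4 : (Subgroup.pi Set.univ fun _ : Fin k => D) ≤ C.comap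
          (big.comp ((MonoidHom.inl (Wr k G2) (ε → ℤˣ)).comp SemidirectProduct.inl)) := by
        rw [Subgroup.pi_le_iff]
        intro i
        rintro _ ⟨e, he, rfl⟩
        obtain ⟨d, hd, rfl⟩ := he
        exact hf i ⟨d, hd⟩
      exact h4 ((Subgroup.mem_pi _).2 fun i _ => hx.1.2 i)
    · -- permutations
      have h4 : (R : Subgroup (Equiv.Perm (Fin k))) ≤ C.comap
          (big.comp ((MonoidHom.inl (Wr k G2) (ε → ℤˣ)).comp SemidirectProduct.inr)) := by
        refine (SylowSymGen.genOrd_sylow_perm k R).trans ((Subgroup.closure_le _).2 ?_)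
        rintro σ ⟨hσ, hσ2⟩
        set g : Cfsg.isometryGroup F (⇑Q) := ⟨big (SemidirectProduct.inr σ, 1),
          hUiso _ ⟨⟨hσ, fun _ => one_mem _⟩, trivial⟩⟩ with hg
        refine ⟨g, Subgroup.subset_closure (Or.inr ⟨Subtype.ext ?_, σ, hσ, rfl⟩), rfl⟩
        show big _ * big _ = 1
        rw [← map_mul, Prod.mk_mul_mk, ← map_mul, ← pow_two, hσ2, map_one, mul_one]
        exact map_one big
      exact h4 hx.1.1
    · -- signs
      have h4 : (Subgroup.pi Set.univ fun _ : ε => (⊤ : Subgroup ℤˣ)) ≤ C.comap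
          (big.comp (MonoidHom.inr (Wr k G2) (ε → ℤˣ))) := by
        rw [Subgroup.pi_le_iff]
        intro e
        rintro _ ⟨t, -, rfl⟩
        rcases Int.units_eq_one_or t with rfl | rfl
        · rw [map_one]; exact Subgroup.one_mem _
        · obtain ⟨hv, he⟩ := haxis e
          have hW' : refl Q _ hv ∈ W :=
            hmemW _ _ ⟨Subgroup.one_mem _, trivial⟩ he
          have := hRefl _ ⟨Or.inr ⟨e, 1, rfl⟩, hv, hW'⟩
          rw [he] at this
          exact this
      exact h4 ((Subgroup.mem_pi _).2 fun _ _ => trivial)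
  -- both classes in every block
  have hD₀surj : ∀ s : SqClass F, ∀ i : Fin k, ∃ (u : Fin 2 → F) (hu : q2 F u ≠ 0)
      (hX' : emb i u ∈ X), sqClass (hX0 _ hX') = s := by
    intro s i
    have hex2 := ReflOmega.exGen (F := F) (ι := Fin 2) h2
    have hcardA : Nat.card (Multiplicative (ZMod 2) × SqClass F) = 2 ^ 2 := by
      rw [Nat.card_prod, card_sqClass_odd h2]; simp
    obtain ⟨x, hx, hxs⟩ := exists_surjective_sylow (spinorHom (q2 F) hq2 hex2)
      (spinorHom_surjective_odd (q2 F) hq2 hex2 h2 (by simp)) hcardA D₀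
      (Multiplicative.ofAdd 1, s)
    have hdet : ((x : G2) : Matrix (Fin 2) (Fin 2) F).det = -1 := by
      rcases isometry_det (q2 F) ⟨fun x hx => hq2 x (by simpa using hx), fun x hx => hq2 x (fun y => by
          rw [QuadraticMap.polar_comm]; simpa using hx y)⟩ _
        ((mem_isometryGroup_iff _ _).1 x.2) with hd | hd
      · exfalso
        -- a rotation is a product of two reflections
        obtain ⟨u, hu, hux⟩ := exists_refl_of_det h2 (x * r₀) (by
          rw [Subgroup.coe_mul, Units.val_mul, Matrix.det_mul, hd, one_mul, hr₀,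
            show ((refl (q2 F) ![1, 0] hr0 : G2) : Matrix (Fin 2) (Fin 2) F) = _ from
              glOfEquiv_reflEquiv (q2 F) ![1, 0] hr0, det_reflectionMatrix _ hr0])
        have h5 := congrArg (spinorHom (q2 F) hq2 hex2) hux
        rw [map_mul, hxs, hr₀, spinor_refl _ hq2 h2, spinor_refl _ hq2 h2] at h5
        have h6 := congrArg Prod.fst h5
        exact zmod2_ne h6
      · exact hd
    obtain ⟨u, hu, hux, huW⟩ := hDrefl x hx hdet i
    refine ⟨u, hu, ⟨Or.inl ⟨i, u, rfl⟩, _, huW⟩, ?_⟩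
    have h5 := hxs
    rw [← hux, spinor_refl _ hq2 h2] at h5
    refine (sqClass_congr' (wq_emb c i u) _ hu).trans (congrArg Prod.snd h5 : _)
  have hcomp : ∀ (u v : Idx → F) (hu : u ∈ X) (hv : v ∈ X),
      sqClass (hX0 u hu) = sqClass (hX0 v hv) →
      polar Q u v = 0 ∨ ∃ (w : Idx → F) (hw : w ∈ X),
        sqClass (hX0 w hw) = sqClass (hX0 u hu) ∧ polar Q u w = 0 ∧ polar Q w v = 0 := by
    intro u v hu hv _
    have hother : ∀ i : Fin k, ∃ l : Fin k, l ≠ i := fun i => by
      haveI : Nontrivial (Fin k) := Fin.nontrivial_iff_two_le.2 hk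
      exact exists_ne i
    rcases hu.1 with ⟨i, u', rfl⟩ | ⟨e, t, rfl⟩
    · rcases hv.1 with ⟨j, v', rfl⟩ | ⟨e, t, rfl⟩
      · by_cases hij : i = j
        · subst hij
          obtain ⟨l, hl⟩ := hother i
          obtain ⟨w', hw', hwX, hws⟩ := hD₀surj (sqClass (hX0 _ hu)) l
          refine Or.inr ⟨_, hwX, hws, ?_, ?_⟩
          · rw [hQdef, polar_emb, q2_polar]; simp [emb, Ne.symm hl]
          · rw [hQdef, polar_emb, q2_polar]; simp [emb, hl]
        · exact Or.inl (by rw [hQdef, polar_emb, q2_polar]; simp [emb, hij])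
      · exact Or.inl (by rw [hQdef, polar_emb, q2_polar]; simp)
    · rcases hv.1 with ⟨j, v', rfl⟩ | ⟨e', t', rfl⟩
      · exact Or.inl (by rw [QuadraticMap.polar_comm, hQdef, polar_emb, q2_polar]; simp)
      · by_cases hee : e = e'
        · subst hee
          obtain ⟨w', hw', hwX, hws⟩ := hD₀surj (sqClass (hX0 _ hu)) ⟨0, by omega⟩
          refine Or.inr ⟨_, hwX, hws, ?_, ?_⟩
          · rw [QuadraticMap.polar_comm, hQdef, polar_emb, q2_polar]; simp
          · rw [hQdef, polar_emb, q2_polar]; simp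
        · refine Or.inl ?_
          rw [hQdef, wq_polar, Fintype.sum_eq_single (Sum.inr e : Idx) (fun j hj => by
            rw [Pi.single_eq_of_ne hj]; ring),
            Pi.single_eq_of_ne (show (Sum.inr e : Idx) ≠ Sum.inr e' from
              fun h => hee (Sum.inr_injective h))]
          ring
  obtain ⟨s, hs0, hs⟩ := exists_not_square (F := F) h2
  obtain ⟨ua, _, haX, has⟩ := hD₀surj 1 ⟨0, by omega⟩
  obtain ⟨ub, _, hbX, hbs⟩ := hD₀surj (sqClass hs0) ⟨0, by omega⟩
  refine omega_sq_of_refl Q hQ h2 (by simp; omega) W X hX0 hXW hXinv Y hYW hYΩ (fun y hy => hy.1)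
    hgen hcomp haX hbX ?_ hWcard
  rw [has, hbs]
  exact fun h => hs ((sqClass_eq_one_iff hs0).1 h.symm)

end Model

section Targets

variable [Fintype F]

theorem val_prod (hodd : Odd (Fintype.card F)) (n e x : ℕ) (hx : x ≠ 0) :
    padicValNat 2 (2 * Fintype.card F ^ e * x *
      ∏ i ∈ Finset.range n, (Fintype.card F ^ (2 * (i + 1)) - 1)) =
      1 + padicValNat 2 x + (n * padicValNat 2 (Fintype.card F ^ 2 - 1) + padicValNat 2 n.factorial) := by
  have hq : 1 < Fintype.card F := Fintype.one_lt_card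
  haveI := Fact.mk Nat.prime_two
  rw [padicValNat.mul (mul_ne_zero (mul_ne_zero two_ne_zero (pow_ne_zero _ (by omega))) hx)
      (Finset.prod_ne_zero_iff.2 fun i _ => (Nat.sub_pos_of_lt (Nat.one_lt_pow (by omega) hq)).ne'),
    padicValNat.mul (mul_ne_zero two_ne_zero (pow_ne_zero _ (by omega))) hx,
    padicValNat.mul two_ne_zero (pow_ne_zero _ (by omega)), padicValNat.self one_lt_two,
    padicValNat.eq_zero_of_not_dvd (fun h => hodd.not_two_dvd_nat (Nat.prime_two.dvd_of_dvd_pow h)),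
    val_pow_prod hodd, add_zero]

theorem isSquare_two_pow (n : ℕ) (x : F) : IsSquare (x * ((2 : F) ^ n * (x * 2 ^ n))) :=
  ⟨x * 2 ^ n, by ring⟩

theorem sq_odd (hodd : Odd (Fintype.card F)) (m : ℕ) (hm : 2 ≤ m)
    (P : Sylow 2 (Cfsg.Omega F (Cfsg.quadFormOdd m F))) :
    ∀ x : (P : Subgroup (Cfsg.Omega F (Cfsg.quadFormOdd m F))),
      x ^ 2 ∈ commutator (P : Subgroup (Cfsg.Omega F (Cfsg.quadFormOdd m F))) := by
  classical
  have h2 := two_ne_zero' hodd
  have hsep := qfOdd_sep (F := F) h2 m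
  set d := disc (qfOdd m F) with hd
  have hd0 : d ≠ 0 := disc_ne_zero _ hsep
  set c : Fin 1 → F := fun _ => d * 2 ^ (2 * m + 1) with hc
  have hc0 : ∀ e, c e ≠ 0 := fun _ => mul_ne_zero hd0 (pow_ne_zero _ h2)
  let σ : Unit ⊕ (Fin m ⊕ Fin m) ≃ (Fin 2 × Fin m) ⊕ Fin 1 :=
    Fintype.equivOfCardEq (by simp; omega)
  obtain ⟨e, he⟩ := exists_isometry h2 (qfOdd m F) hsep (wt m c) (wt_ne_zero hc0) σ (by
    rw [Finset.prod_mul_distrib, Fintype.prod_sum_type]
    simp [wt, c, ← hd]
    exact ⟨d * 2 ^ (2 * m + 1), by ring⟩)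
  obtain ⟨φ⟩ := isometryGroup_congr (qfOdd m F) (wq (wt m c)) e he
  have hS := model_sq (k := m) hodd hm hc0 (by
    rw [Nat.card_congr φ.toEquiv, ← Nat.card_congr (orEquiv (qfOdd m F)).toEquiv, card_qfOdd_isoms h2,
      Nat.factorization_def _ Nat.prime_two]
    have h := val_prod hodd m (m ^ 2) 1 one_ne_zero
    rw [mul_one, padicValNat.one] at h
    rw [h, Fintype.card_fin]
    ring)
  revert P
  rw [← qfOdd_coe]
  exact fun P => sylow_sq_of_isometry _ _ φ hS P

theorem pow_mod_four (n : ℕ) (hodd : Odd (Fintype.card F)) :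
    IsSquare ((-1 : F) ^ n) ↔ Fintype.card F ^ n % 4 = 1 :=
  Geom.isSquare_neg_one_pow_iff (two_ne_zero' hodd) n

theorem sq_plus (hodd : Odd (Fintype.card F)) (m : ℕ) (hm : 1 ≤ m) (hm' : Even m ∨ 4 ≤ m)
    (P : Sylow 2 (Cfsg.Omega F (Cfsg.quadFormPlus m F))) :
    ∀ x : (P : Subgroup (Cfsg.Omega F (Cfsg.quadFormPlus m F))),
      x ^ 2 ∈ commutator (P : Subgroup (Cfsg.Omega F (Cfsg.quadFormPlus m F))) := by
  classical
  haveI := Fact.mk Nat.prime_two
  have h2 := two_ne_zero' hodd
  have hq : 1 < Fintype.card F := Fintype.one_lt_card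
  have hodd' := Nat.odd_iff.1 hodd
  obtain ⟨n, rfl⟩ : ∃ n, m = n + 1 := ⟨m - 1, by omega⟩
  have hsep := qfPlus_sep (F := F) (n + 1)
  have hdisc : disc (qfPlus (n + 1) F) = (-1) ^ (n + 1) := by
    rw [disc, qfPlus_eq_plusForm, plusForm_disc]
  by_cases hs : IsSquare ((-1 : F) ^ (n + 1))
  · set c : Fin 0 → F := fun e => e.elim0 with hc
    have hc0 : ∀ e, c e ≠ 0 := fun e => e.elim0
    let σ : Fin (n + 1) ⊕ Fin (n + 1) ≃ (Fin 2 × Fin (n + 1)) ⊕ Fin 0 :=
      Fintype.equivOfCardEq (by simp; omega)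
    obtain ⟨e, he⟩ := exists_isometry h2 (qfPlus (n + 1) F) hsep (wt (n + 1) c) (wt_ne_zero hc0) σ (by
      rw [hdisc, Finset.prod_mul_distrib, Fintype.prod_sum_type]
      simp [wt]
      exact hs.mul ⟨2 ^ (n + 1), by rw [← pow_add]; congr 1; omega⟩)
    obtain ⟨φ⟩ := isometryGroup_congr (qfPlus (n + 1) F) (wq (wt (n + 1) c)) e he
    have hk : 2 ≤ n + 1 := by
      rcases hm' with ⟨r, hr⟩ | h <;> omega
    have hv : padicValNat 2 (Fintype.card F ^ (n + 1) - 1) + 1 =
        padicValNat 2 (Fintype.card F ^ 2 - 1) + padicValNat 2 (n + 1) := by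
      rcases Nat.even_or_odd' (n + 1) with ⟨j, hj | hj⟩
      · have hj0 : j ≠ 0 := by omega
        rw [hj, even_part hodd hj0, padicValNat.mul two_ne_zero hj0, padicValNat.self one_lt_two]
        ring
      · rw [hj, odd_part hodd, val_sq_sub_one hodd]
        have h4 := (pow_mod_four (n + 1) hodd).1 hs
        rw [hj] at h4
        have h41 : Fintype.card F % 4 = 1 := by
          have := (Geom.even_pow_mod_four (m := 2 * j + 1) hodd).1.1 h4
          rcases this with h | h
          · exact h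
          · exact absurd h (Nat.not_even_iff_odd.2 (odd_two_mul_add_one j))
        rw [val_of_mod_four (n := Fintype.card F + 1) (by omega),
          padicValNat.eq_zero_of_not_dvd (show ¬ 2 ∣ 2 * j + 1 by omega), add_zero]
    have hS := model_sq (k := n + 1) hodd hk hc0 (by
      rw [Nat.card_congr φ.toEquiv, ← Nat.card_congr (orEquiv (qfPlus (n + 1) F)).toEquiv,
        card_qfPlus_isoms, Nat.factorization_def _ Nat.prime_two,
        val_prod hodd n ((n + 1) * n) _ (Nat.sub_pos_of_lt (Nat.one_lt_pow (by omega) hq)).ne',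
        Fintype.card_fin, Nat.factorial_succ, padicValNat.mul (by omega) n.factorial_ne_zero]
      rw [Nat.add_mul, one_mul]
      omega)
    revert P
    rw [← qfPlus_coe]
    exact fun P => sylow_sq_of_isometry _ _ φ hS P
  · set c : Fin 2 → F := ![1, (-1) ^ (n + 1)] with hc
    have hc0 : ∀ e, c e ≠ 0 := fun e => by
      fin_cases e <;> simp [c]
    let σ : Fin (n + 1) ⊕ Fin (n + 1) ≃ (Fin 2 × Fin n) ⊕ Fin 2 :=
      Fintype.equivOfCardEq (by simp; omega)
    obtain ⟨e, he⟩ := exists_isometry h2 (qfPlus (n + 1) F) hsep (wt n c) (wt_ne_zero hc0) σ (by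
      rw [hdisc, Finset.prod_mul_distrib, Fintype.prod_sum_type]
      simp [wt, c]
      exact ⟨(-1) ^ (n + 1) * 2 ^ (n + 1), by ring⟩)
    obtain ⟨φ⟩ := isometryGroup_congr (qfPlus (n + 1) F) (wq (wt n c)) e he
    have h4 := mt (pow_mod_four (n + 1) hodd).2 hs
    have hno : ¬ Even (n + 1) := fun he => h4 ((Geom.even_pow_mod_four hodd).1.2 (Or.inr he))
    have hk : 2 ≤ n := by
      rcases hm' with h | h
      · exact absurd h hno
      · omega
    have hv : padicValNat 2 (Fintype.card F ^ (n + 1) - 1) = 1 := by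
      refine val_of_mod_four ?_
      have := Nat.odd_iff.1 (hodd.pow (n := n + 1))
      omega
    have hS := model_sq (k := n) hodd hk hc0 (by
      rw [Nat.card_congr φ.toEquiv, ← Nat.card_congr (orEquiv (qfPlus (n + 1) F)).toEquiv,
        card_qfPlus_isoms, Nat.factorization_def _ Nat.prime_two,
        val_prod hodd n ((n + 1) * n) _ (Nat.sub_pos_of_lt (Nat.one_lt_pow (by omega) hq)).ne', hv,
        Fintype.card_fin]
      omega)
    revert P
    rw [← qfPlus_coe]
    exact fun P => sylow_sq_of_isometry _ _ φ hS P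

theorem sq_minus (hodd : Odd (Fintype.card F)) (n : ℕ) (hn : 3 ≤ n) (a b : F)
    (hab : ∀ z₁ z₂ : F, z₁ ^ 2 + a * z₁ * z₂ + b * z₂ ^ 2 = 0 → z₁ = 0 ∧ z₂ = 0)
    (P : Sylow 2 (Cfsg.Omega F (Cfsg.quadFormMinus n F a b))) :
    ∀ x : (P : Subgroup (Cfsg.Omega F (Cfsg.quadFormMinus n F a b))),
      x ^ 2 ∈ commutator (P : Subgroup (Cfsg.Omega F (Cfsg.quadFormMinus n F a b))) := by
  classical
  haveI := Fact.mk Nat.prime_two
  have h2 := two_ne_zero' hodd
  have hq : 1 < Fintype.card F := Fintype.one_lt_card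
  have hodd' := Nat.odd_iff.1 hodd
  have hsep := qfMinus_sep (F := F) n hab
  have hdisc : disc (qfMinus n F a b) = (-1) ^ n * (4 * b - a * a) := by
    rw [disc, qfMinus_eq_minusForm, minusForm_disc]
  have hns := not_isSquare_disc h2 a b hab
  have hd0 : a * a - 4 * b ≠ 0 := fun h => hns (by rw [h]; exact ⟨0, by ring⟩)
  have hiff : IsSquare (disc (qfMinus n F a b)) ↔ ¬ IsSquare ((-1 : F) ^ (n + 1)) := by
    rw [hdisc, show (-1 : F) ^ n * (4 * b - a * a) = (-1) ^ (n + 1) * (a * a - 4 * b) by ring]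
    have h0 : ((-1 : F) ^ (n + 1)) ≠ 0 := pow_ne_zero _ (neg_ne_zero.2 one_ne_zero)
    rw [← sqClass_eq_one_iff (mul_ne_zero h0 hd0), ← sqClass_eq_one_iff h0, sqClass_mul h0 hd0]
    have hd1 : sqClass hd0 ≠ 1 := fun h => hns ((sqClass_eq_one_iff hd0).1 h)
    constructor
    · intro h h'
      rw [h', one_mul] at h
      exact hd1 h
    · intro h
      rw [sqClass_two _ _ h hd1, sqClass_mul_self]
  by_cases hs : IsSquare ((-1 : F) ^ (n + 1))
  · set c : Fin 2 → F := ![1, disc (qfMinus n F a b)] with hc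
    have hc0 : ∀ e, c e ≠ 0 := fun e => by
      fin_cases e <;> simp [c, disc_ne_zero _ hsep]
    let σ : (Fin n ⊕ Fin n) ⊕ Fin 2 ≃ (Fin 2 × Fin n) ⊕ Fin 2 :=
      Fintype.equivOfCardEq (by simp; omega)
    obtain ⟨e, he⟩ := exists_isometry h2 (qfMinus n F a b) hsep (wt n c) (wt_ne_zero hc0) σ (by
      rw [Finset.prod_mul_distrib, Fintype.prod_sum_type]
      simp [wt, c]
      exact ⟨disc (qfMinus n F a b) * 2 ^ (n + 1), by ring⟩)
    obtain ⟨φ⟩ := isometryGroup_congr (qfMinus n F a b) (wq (wt n c)) e he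
    have hv : padicValNat 2 (Fintype.card F ^ (n + 1) + 1) = 1 := by
      refine val_of_mod_four ?_
      have := (pow_mod_four (n + 1) hodd).1 hs
      omega
    have hS := model_sq (k := n) hodd (by omega) hc0 (by
      rw [Nat.card_congr φ.toEquiv, ← Nat.card_congr (orEquiv (qfMinus n F a b)).toEquiv,
        card_qfMinus_isoms hab, Nat.factorization_def _ Nat.prime_two,
        val_prod hodd n ((n + 1) * n) _ (by omega), hv, Fintype.card_fin]
      omega)
    revert P
    rw [← qfMinus_coe]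
    exact fun P => sylow_sq_of_isometry _ _ φ hS P
  · set c : Fin 0 → F := fun e => e.elim0 with hc
    have hc0 : ∀ e, c e ≠ 0 := fun e => e.elim0
    let σ : (Fin n ⊕ Fin n) ⊕ Fin 2 ≃ (Fin 2 × Fin (n + 1)) ⊕ Fin 0 :=
      Fintype.equivOfCardEq (by simp; omega)
    obtain ⟨e, he⟩ := exists_isometry h2 (qfMinus n F a b) hsep (wt (n + 1) c) (wt_ne_zero hc0) σ (by
      rw [Finset.prod_mul_distrib, Fintype.prod_sum_type]
      simp [wt]
      exact (hiff.2 hs).mul ⟨2 ^ (n + 1), by rw [← pow_add]; congr 1; omega⟩)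
    obtain ⟨φ⟩ := isometryGroup_congr (qfMinus n F a b) (wq (wt (n + 1) c)) e he
    have h4 := mt (pow_mod_four (n + 1) hodd).2 hs
    have hno : Odd (n + 1) := Nat.not_even_iff_odd.1 fun he =>
      h4 ((Geom.even_pow_mod_four hodd).1.2 (Or.inr he))
    obtain ⟨j, hj⟩ := hno
    have hv : padicValNat 2 (Fintype.card F ^ (n + 1) + 1) + 1 =
        padicValNat 2 (Fintype.card F ^ 2 - 1) := by
      have e1 := even_part hodd (i := n + 1) (by omega)
      have hP1 : 1 < Fintype.card F ^ (n + 1) := Nat.one_lt_pow (by omega) hq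
      have e2 : Fintype.card F ^ (2 * (n + 1)) - 1 =
          (Fintype.card F ^ (n + 1) + 1) * (Fintype.card F ^ (n + 1) - 1) := by
        rw [two_mul, pow_add]
        simpa [sq] using Nat.sq_sub_sq (Fintype.card F ^ (n + 1)) 1
      rw [e2, padicValNat.mul (by omega) (by omega),
        val_of_mod_four (n := Fintype.card F ^ (n + 1) - 1) (by
          have := Nat.odd_iff.1 (hodd.pow (n := n + 1))
          omega), padicValNat.eq_zero_of_not_dvd (show ¬ 2 ∣ n + 1 by omega), add_zero] at e1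
      exact e1
    have hS := model_sq (k := n + 1) hodd (by omega) hc0 (by
      rw [Nat.card_congr φ.toEquiv, ← Nat.card_congr (orEquiv (qfMinus n F a b)).toEquiv,
        card_qfMinus_isoms hab, Nat.factorization_def _ Nat.prime_two,
        val_prod hodd n ((n + 1) * n) _ (by omega), Fintype.card_fin, Nat.factorial_succ,
        padicValNat.mul (by omega) n.factorial_ne_zero,
        padicValNat.eq_zero_of_not_dvd (show ¬ 2 ∣ n + 1 by omega)]
      rw [Nat.add_mul, one_mul]
      omega)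
    revert P
    rw [← qfMinus_coe]
    exact fun P => sylow_sq_of_isometry _ _ φ hS P

end Targets

end CfsgLib.BlockA.OrthBlocks
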