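import Cfsg.Agent.Lib.Block.FirstMain
import Cfsg.Agent.Lib.Block.LamZero
import Cfsg.Agent.Lib.Block.DefectOrder
import Cfsg.Agent.Lib.Block.DefectOneGalois
import Cfsg.Agent.Lib.BlockB.PModular
import Cfsg.Agent.Lib.BlockB.ClassMul
import Cfsg.Agent.Lib.BlockA.Galois
import Cfsg.Agent.Lib.Char.Linear
import Cfsg.Agent.Lib.Char.Integral

/-! The number of `p`-conjugates of a character times its degree. -/

set_option autoImplicit false
set_option linter.unusedSectionVars false
set_option maxHeartbeats 1000000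

namespace CfsgLib.BlockA.PConjugate

open Cfsg CfsgLib.Block
open scoped ComplexConjugate

universe u

variable {p a q : ℕ}

section Units

/-- The units congruent to one modulo the `p'`-part. -/
def gal (p a q : ℕ) : Subgroup (ZMod (p ^ a * q))ˣ :=
  (ZMod.unitsMap (Dvd.intro_left (p ^ a) rfl : q ∣ p ^ a * q)).ker

variable (hp : p.Prime) (ha : 1 ≤ a) (hq : q ≠ 0) (hpq : ¬ p ∣ q)

include hp hq hpq in
theorem mem_gal {u : (ZMod (p ^ a * q))ˣ} :
    u ∈ gal p a q ↔ (u : ZMod (p ^ a * q)).val ≡ 1 [MOD q] := by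
  haveI : NeZero (p ^ a * q) := ⟨mul_ne_zero (pow_ne_zero _ hp.ne_zero) hq⟩
  rw [gal, MonoidHom.mem_ker, Units.ext_iff, ← ZMod.natCast_eq_natCast_iff]
  simp [ZMod.unitsMap_def]

include hp hq hpq in
theorem coprime_pow : (p ^ a).Coprime q :=
  Nat.Coprime.pow_left _ (hp.coprime_iff_not_dvd.2 hpq)

include hp ha hq hpq in
theorem sum_gal [Fintype (gal p a q)] {R : Type*} [AddCommMonoid R] (F : ℕ → R) :
    ∑ u : gal p a q, F ((((u : (ZMod (p ^ a * q))ˣ) : ZMod (p ^ a * q)).val) % p ^ a) =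
      ∑ i ∈ (Finset.range (p ^ a)).filter (fun i => ¬ p ∣ i), F i := by
  haveI : NeZero (p ^ a * q) := ⟨mul_ne_zero (pow_ne_zero _ hp.ne_zero) hq⟩
  have hco := coprime_pow (a := a) hp hq hpq
  have hpa : 0 < p ^ a := pow_pos hp.pos a
  refine Finset.sum_bij (fun u _ => (((u : (ZMod (p ^ a * q))ˣ) : ZMod (p ^ a * q)).val) % p ^ a)
    ?_ ?_ ?_ (fun _ _ => rfl)
  · intro u _
    refine Finset.mem_filter.2 ⟨Finset.mem_range.2 (Nat.mod_lt _ hpa), fun hd => ?_⟩
    rw [Nat.dvd_mod_iff (dvd_pow_self p (by omega))] at hd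
    have h1 := ZMod.val_coe_unit_coprime (u : (ZMod (p ^ a * q))ˣ)
    exact hp.coprime_iff_not_dvd.1
      (h1.symm.coprime_dvd_left ((dvd_pow_self p (by omega)).mul_right q)) hd
  · intro u _ v _ h
    refine Subtype.ext (Units.ext (ZMod.val_injective _ ?_))
    have h1 := (mem_gal hp hq hpq).1 u.2
    have h2 := (mem_gal hp hq hpq).1 v.2
    exact ((Nat.modEq_and_modEq_iff_modEq_mul hco).1 ⟨h, h1.trans h2.symm⟩).eq_of_lt_of_lt
      (ZMod.val_lt _) (ZMod.val_lt _)
  · intro i hi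
    obtain ⟨hi1, hi2⟩ := Finset.mem_filter.1 hi
    obtain ⟨k, hk1, hk2⟩ := Nat.chineseRemainder hco i 1
    have hkc : k.Coprime (p ^ a * q) := by
      refine Nat.Coprime.mul_right (Nat.Coprime.pow_right _ ?_) ?_
      · rw [Nat.Coprime, (hk1.of_dvd (dvd_pow_self p (by omega))).gcd_eq]
        exact (hp.coprime_iff_not_dvd.2 hi2).symm
      · rw [Nat.Coprime, hk2.gcd_eq]
        exact Nat.gcd_one_left _
    have hval : ((ZMod.unitOfCoprime k hkc : (ZMod (p ^ a * q))ˣ) : ZMod (p ^ a * q)).val ≡ k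
        [MOD p ^ a * q] := by
      rw [ZMod.coe_unitOfCoprime, ZMod.val_natCast]
      exact Nat.mod_modEq _ _
    refine ⟨⟨ZMod.unitOfCoprime k hkc, (mem_gal hp hq hpq).2
      ((hval.of_dvd (Dvd.intro_left _ rfl)).trans hk2)⟩, Finset.mem_univ _, ?_⟩
    have h3 : _ ≡ i [MOD p ^ a] := (hval.of_dvd (Dvd.intro _ rfl)).trans hk1
    exact (Nat.mod_eq_of_lt (Finset.mem_range.1 hi1)) ▸ h3

include hp ha hq hpq in
theorem card_gal : Nat.card (gal p a q) = p ^ (a - 1) * (p - 1) := by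
  classical
  haveI : NeZero (p ^ a * q) := ⟨mul_ne_zero (pow_ne_zero _ hp.ne_zero) hq⟩
  rw [Nat.card_eq_fintype_card, ← Nat.totient_prime_pow hp (by omega), Nat.totient_eq_card_coprime,
    ← Finset.card_univ, Finset.card_eq_sum_ones, Finset.card_eq_sum_ones,
    sum_gal hp ha hq hpq (fun _ => 1)]
  refine Finset.sum_congr (Finset.filter_congr fun i _ => ?_) fun _ _ => rfl
  rw [Nat.coprime_pow_left_iff (by omega), hp.coprime_iff_not_dvd]

include hp ha in
theorem sum_prime_pow (ζ : ℂ) (hζ : ζ ^ p ^ a = 1) :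
    ∑ i ∈ (Finset.range (p ^ a)).filter (fun i => ¬ p ∣ i), ζ ^ i =
      (if ζ = 1 then ((p ^ a : ℕ) : ℂ) else 0) -
        (if ζ ^ p = 1 then ((p ^ (a - 1) : ℕ) : ℂ) else 0) := by
  have hgeom : ∀ (z : ℂ) (n : ℕ), z ^ n = 1 →
      ∑ i ∈ Finset.range n, z ^ i = if z = 1 then (n : ℂ) else 0 := by
    intro z n hz
    by_cases h : z = 1
    · simp [h]
    · rw [if_neg h, geom_sum_eq h, hz, sub_self, zero_div]
  have hpa : p ^ a = p * p ^ (a - 1) := by rw [← pow_succ', Nat.sub_add_cancel ha]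
  have hsplit := Finset.sum_filter_add_sum_filter_not (Finset.range (p ^ a)) (p ∣ ·) (fun i => ζ ^ i)
  have hdiv : ∑ i ∈ (Finset.range (p ^ a)).filter (p ∣ ·), ζ ^ i =
      ∑ j ∈ Finset.range (p ^ (a - 1)), (ζ ^ p) ^ j := by
    symm
    refine Finset.sum_bij' (fun j _ => p * j) (fun i _ => i / p) ?_ ?_ ?_ ?_ ?_
    · intro j hj
      simp only [Finset.mem_range] at hj
      simp only [Finset.mem_filter, Finset.mem_range]
      exact ⟨by rw [hpa]; exact Nat.mul_lt_mul_of_pos_left hj hp.pos, dvd_mul_right p j⟩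
    · intro i hi
      simp only [Finset.mem_filter, Finset.mem_range] at hi ⊢
      exact Nat.div_lt_of_lt_mul (hpa ▸ hi.1)
    · intro j _
      exact Nat.mul_div_cancel_left j hp.pos
    · intro i hi
      exact Nat.mul_div_cancel' (Finset.mem_filter.1 hi).2
    · intro j _
      rw [← pow_mul]
  rw [hdiv, hgeom ζ _ hζ, hgeom (ζ ^ p) _ (by rw [← pow_mul, ← hpa, hζ])] at hsplit
  linear_combination hsplit

/-- The reduced Galois sum of a root of unity. -/
noncomputable def sfun (p : ℕ) (ζ ω : ℂ) : ℂ :=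
  ω * ((if ζ = 1 then (p : ℂ) else 0) - (if ζ ^ p = 1 then 1 else 0))

include hp ha hq hpq in
theorem exists_reduced_sum [Fintype (gal p a q)] (μ ν : ℂ) (hμ : μ ^ (p ^ a * q) = 1)
    (hν : ν ^ p = 1) :
    ∃ x y : ℂ, IsIntegral ℤ x ∧ IsIntegral ℤ y ∧
      ∑ u : gal p a q, μ ^ ((u : (ZMod (p ^ a * q))ˣ) : ZMod (p ^ a * q)).val =
        ((p ^ (a - 1) : ℕ) : ℂ) * x ∧
      ∑ u : gal p a q, (ν * μ) ^ ((u : (ZMod (p ^ a * q))ˣ) : ZMod (p ^ a * q)).val =
        ((p ^ (a - 1) : ℕ) : ℂ) * (x + (p : ℂ) * y) := by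
  have hco := coprime_pow (a := a) hp hq hpq
  obtain ⟨e₁, he1a, he1b⟩ := Nat.chineseRemainder hco 1 0
  obtain ⟨e₂, he2a, he2b⟩ := Nat.chineseRemainder hco 0 1
  have hpa : p ^ a = p * p ^ (a - 1) := by rw [← pow_succ', Nat.sub_add_cancel ha]
  have key : ∀ m : ℂ, m ^ (p ^ a * q) = 1 →
      (m ^ e₁) ^ p ^ a = 1 ∧
      ∑ u : gal p a q, m ^ ((u : (ZMod (p ^ a * q))ˣ) : ZMod (p ^ a * q)).val =
        ((p ^ (a - 1) : ℕ) : ℂ) * sfun p (m ^ e₁) (m ^ e₂) := by
    intro m hm
    have hcong : ∀ i j : ℕ, i ≡ j [MOD p ^ a * q] → m ^ i = m ^ j := fun i j h => by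
      rw [pow_eq_pow_mod i hm, pow_eq_pow_mod j hm]
      exact congrArg _ h
    have h1 : (m ^ e₁) ^ p ^ a = 1 := by
      obtain ⟨c, hc⟩ := Nat.modEq_zero_iff_dvd.1 he1b
      rw [← pow_mul, hc, show q * c * p ^ a = p ^ a * q * c by ring, pow_mul, hm, one_pow]
    refine ⟨h1, ?_⟩
    have hterm : ∀ u : gal p a q, m ^ ((u : (ZMod (p ^ a * q))ˣ) : ZMod (p ^ a * q)).val =
        m ^ e₂ * (m ^ e₁) ^ (((u : (ZMod (p ^ a * q))ˣ) : ZMod (p ^ a * q)).val % p ^ a) := by
      intro u
      rw [← pow_eq_pow_mod _ h1, ← pow_mul, ← pow_add]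
      refine hcong _ _ ((Nat.modEq_and_modEq_iff_modEq_mul hco).1 ⟨?_, ?_⟩)
      · simpa using (he2a.add (he1a.mul_right _)).symm
      · exact ((mem_gal hp hq hpq).1 u.2).trans
          (by simpa using (he2b.add (he1b.mul_right _)).symm)
    rw [Finset.sum_congr rfl fun u _ => hterm u, ← Finset.mul_sum,
      sum_gal hp ha hq hpq (fun i => (m ^ e₁) ^ i), sum_prime_pow hp ha _ h1, sfun]
    have : ((p ^ a : ℕ) : ℂ) = ((p ^ (a - 1) : ℕ) : ℂ) * (p : ℂ) := by rw [hpa]; push_cast; ring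
    split_ifs <;> first | (rw [this]; ring) | ring
  have hν2 : ν ^ e₂ = 1 := by
    obtain ⟨c, hc⟩ := Nat.modEq_zero_iff_dvd.1 he2a
    rw [hc, hpa, mul_assoc, pow_mul, hν, one_pow]
  have hint : IsIntegral ℤ μ :=
    IsIntegral.of_pow (Nat.pos_of_ne_zero (mul_ne_zero (pow_ne_zero _ hp.ne_zero) hq))
      (hμ ▸ isIntegral_one)
  have hpI : IsIntegral ℤ (p : ℂ) := isIntegral_algebraMap (R := ℤ) (x := (p : ℤ))
  have hs : IsIntegral ℤ (sfun p (μ ^ e₁) (μ ^ e₂)) := by
    refine (hint.pow _).mul (IsIntegral.sub ?_ ?_) <;> split_ifs <;>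
      first | exact isIntegral_zero | exact isIntegral_one | exact hpI
  have hνμ : (ν * μ) ^ (p ^ a * q) = 1 := by
    rw [mul_pow, hμ, hpa, mul_assoc, pow_mul, hν, one_pow, one_mul]
  refine ⟨_, μ ^ e₂ * ((if ν ^ e₁ * μ ^ e₁ = 1 then 1 else 0) - (if μ ^ e₁ = 1 then 1 else 0)),
    hs, ?_, (key μ hμ).2, ?_⟩
  · refine (hint.pow _).mul (IsIntegral.sub ?_ ?_) <;> split_ifs <;>
      first | exact isIntegral_zero | exact isIntegral_one
  rw [(key _ hνμ).2, mul_pow, mul_pow, hν2, one_mul, sfun, sfun]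
  congr 1
  have hp' : (ν ^ e₁ * μ ^ e₁) ^ p = (μ ^ e₁) ^ p := by
    rw [mul_pow, ← pow_mul, mul_comm e₁ p, pow_mul, hν, one_pow, one_mul]
  rw [hp']
  split_ifs <;> ring

end Units

section Characters

variable {G : Type u} [Group G] [Finite G] (hp : p.Prime) (ha : 1 ≤ a) (hq : q ≠ 0)
  (hpq : ¬ p ∣ q) (hG : Nat.card G = p ^ a * q)

/-- The Galois sum of a class function. -/
noncomputable def galSum (p a q : ℕ) [Fintype (gal p a q)] (χ : G → ℂ) (g : G) : ℂ :=
  ∑ u : gal p a q, χ (g ^ ((u : (ZMod (p ^ a * q))ˣ) : ZMod (p ^ a * q)).val)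

include hp ha hq hpq hG in
theorem exists_galSum [Fintype (gal p a q)] {χ : G → ℂ} (hχ : IsCharacter G χ) {z g : G}
    (hzg : Commute z g) (hz : z ^ p = 1) :
    ∃ x y : ℂ, IsIntegral ℤ x ∧ IsIntegral ℤ y ∧
      galSum p a q χ g = ((p ^ (a - 1) : ℕ) : ℂ) * x ∧
      galSum p a q χ (z * g) = ((p ^ (a - 1) : ℕ) : ℂ) * (x + (p : ℂ) * y) := by
  set A := Subgroup.closure ({z, g} : Set G) with hA
  haveI : IsMulCommutative A := Subgroup.isMulCommutative_closure (fun x hx y hy => by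
    rcases hx with rfl | rfl <;> rcases hy with rfl | rfl <;>
      first | rfl | exact hzg | exact hzg.symm)
  have hcomm : ∀ x y : A, x * y = y * x := fun x y => mul_comm' x y
  let zA : A := ⟨z, Subgroup.subset_closure (Set.mem_insert _ _)⟩
  let gA : A := ⟨g, Subgroup.subset_closure (Set.mem_insert_of_mem _ rfl)⟩
  obtain ⟨l, hl, hsum⟩ := Char.isCharacter_exists_multiset (Char.isCharacter_comp hχ A.subtype)
  have h : ∀ m : Multiset (A → ℂ), (∀ ψ ∈ m, IsIrrCharacter A ψ) →
      ∃ x y : ℂ, IsIntegral ℤ x ∧ IsIntegral ℤ y ∧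
        galSum p a q m.sum gA = ((p ^ (a - 1) : ℕ) : ℂ) * x ∧
        galSum p a q m.sum (zA * gA) = ((p ^ (a - 1) : ℕ) : ℂ) * (x + (p : ℂ) * y) := by
    intro m
    induction m using Multiset.induction with
    | empty => exact fun _ => ⟨0, 0, isIntegral_zero, isIntegral_zero, by simp [galSum],
        by simp [galSum]⟩
    | cons ψ m ih =>
      intro hm
      obtain ⟨x, y, hx, hy, e1, e2⟩ := ih fun φ hφ => hm φ (Multiset.mem_cons_of_mem hφ)
      have hψ := hm ψ (Multiset.mem_cons_self _ _)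
      obtain ⟨lam, rfl⟩ := Char.exists_hom_of_degree_one (Char.irr_isCharacter hψ)
        (Char.irr_degree_one_of_comm hcomm hψ)
      obtain ⟨x', y', hx', hy', f1, f2⟩ := exists_reduced_sum hp ha hq hpq (lam gA : ℂ) (lam zA : ℂ)
        (by
          rw [← Units.val_pow_eq_pow_val, ← map_pow, ← hG]
          rw [show gA ^ Nat.card G = 1 from Subtype.ext (pow_card_eq_one' (x := g)), map_one,
            Units.val_one])
        (by rw [← Units.val_pow_eq_pow_val, ← map_pow, show zA ^ p = 1 from Subtype.ext hz,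
          map_one, Units.val_one])
      refine ⟨x' + x, y' + y, hx'.add hx, hy'.add hy, ?_, ?_⟩
      · simp only [galSum, Multiset.sum_cons, Pi.add_apply, Finset.sum_add_distrib,
          map_pow, Units.val_pow_eq_pow_val] at e1 f1 ⊢
        rw [e1, f1]
        ring
      · simp only [galSum, Multiset.sum_cons, Pi.add_apply, Finset.sum_add_distrib,
          map_pow, map_mul, Units.val_pow_eq_pow_val, Units.val_mul] at e2 f2 ⊢
        rw [e2, f2]
        ring
  obtain ⟨x, y, hx, hy, e1, e2⟩ := h l hl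
  rw [← hsum] at e1 e2
  exact ⟨x, y, hx, hy, e1, e2⟩

end Characters

section Brauer

variable {G : Type u} [Group G] [Finite G] {M : Ideal AlgInt} [M.IsPrime]

/-- A central element whose coefficients on the centralizer of a defect group are invariant under
a central element of order `p` of that group has central character zero. -/
theorem lam_eq_zero_of_invariant (hM : IsPModular p M) {B : Set (IrrCharacter G)}
    (hB : IsPBlock M B) {D : Subgroup G} (hD : IsDefectGroup p M B D) {z : G} (hzo : orderOf z = p)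
    (hzD : z ∈ D) (hzC : z ∈ Subgroup.centralizer (D : Set G))
    (Z : Subalgebra.center (kres M) (MonoidAlgebra (kres M) G))
    (hinvZ : ∀ c ∈ Subgroup.centralizer (D : Set G),
      (Z : MonoidAlgebra (kres M) G).coeff (z * c) = (Z : MonoidAlgebra (kres M) G).coeff c)
    {χ : IrrCharacter G} (hχ : χ ∈ B) : lam M χ Z = 0 := by
  classical
  have := Fact.mk hM.1
  have := charP_kres hM
  have := Fintype.ofFinite G
  have hDp : IsPGroup p D := isPGroup_defectGroup hM hB hD
  obtain ⟨b, hb, -, hind⟩ := firstMain_exists hM hB hD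
  obtain ⟨ξ, hξ⟩ := isPBlock_nonempty hb
  have hCN := Subgroup.centralizer_le_normalizer (D : Set G)
  rw [← (isInducedBlock_iff _ hb hB hξ hχ).1 hind,
    lam_resZ_eq_brHom hM hDp Subgroup.le_normalizer hCN le_rfl]
  set W := brHom hDp hCN le_rfl Z with hW
  have hWc : ∀ c : Subgroup.normalizer (D : Set G),
      (W : MonoidAlgebra (kres M) (Subgroup.normalizer (D : Set G))).coeff c =
        if (c : G) ∈ Subgroup.centralizer (D : Set G) then
          (Z : MonoidAlgebra (kres M) G).coeff (c : G) else 0 := by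
    intro c
    rw [hW, coe_brHom]
    split_ifs with h1'
    · rw [coeff_brRes_of_mem _ h1']
    · rw [coeff_brRes_of_not_mem _ h1']
  let zN : Subgroup.normalizer (D : Set G) := ⟨z, hCN hzC⟩
  have hzNo : orderOf zN = p := by
    rw [← hzo]; exact (Subgroup.orderOf_coe zN).symm
  have hsq : W * W = 0 := by
    apply Subtype.ext
    ext c
    have := Fintype.ofFinite (Subgroup.normalizer (D : Set G))
    rw [MulMemClass.coe_mul, coeff_mul_eq]
    have hZp : IsPGroup p (Subgroup.zpowers zN) :=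
      IsPGroup.of_card (n := 1) (by rw [Nat.card_zpowers, hzNo, pow_one])
    set f := fun x : Subgroup.normalizer (D : Set G) =>
      (W : MonoidAlgebra (kres M) _).coeff x * (W : MonoidAlgebra (kres M) _).coeff (x⁻¹ * c)
    change ∑ x, f x = 0
    have hco : ∀ x : Subgroup.normalizer (D : Set G),
        (W : MonoidAlgebra (kres M) _).coeff (zN * x) =
          (W : MonoidAlgebra (kres M) _).coeff x := by
      intro x
      rw [hWc, hWc]
      have hiff : ((zN * x : Subgroup.normalizer (D : Set G)) : G) ∈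
          Subgroup.centralizer (D : Set G) ↔ (x : G) ∈ Subgroup.centralizer (D : Set G) :=
        Subgroup.mul_mem_cancel_left _ hzC
      by_cases hx : (x : G) ∈ Subgroup.centralizer (D : Set G)
      · rw [if_pos hx, if_pos (hiff.2 hx)]
        exact hinvZ _ hx
      · rw [if_neg hx, if_neg (fun h => hx (hiff.1 h))]
    have hstep : ∀ (x : Subgroup.normalizer (D : Set G)), f (zN * x) = f x := by
      intro x
      simp only [f]
      rw [hco]
      by_cases hx : (x : G) ∈ Subgroup.centralizer (D : Set G)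
      · congr 1
        have hcm : Commute zN x :=
          Subtype.ext (Subgroup.mem_centralizer_iff.1 hx z hzD)
        conv_rhs => rw [show x⁻¹ * c = zN * ((zN * x)⁻¹ * c) by
          rw [mul_inv_rev, ← (hcm.inv_inv).eq]; group, hco]
      · rw [hWc x, if_neg hx, zero_mul, zero_mul]
    have hinv : ∀ (u : Subgroup.zpowers zN) (x : Subgroup.normalizer (D : Set G)),
        f (u • x) = f x := by
      rintro ⟨u, hu⟩ x
      obtain ⟨n, rfl⟩ := mem_powers_iff_mem_zpowers.2 hu
      change f (zN ^ n * x) = f x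
      induction n with
      | zero => simp
      | succ n ih => rw [pow_succ', mul_assoc, hstep, ih (Subgroup.pow_mem _ (Subgroup.mem_zpowers _) n)]
    rw [sum_eq_sum_fixed hZp (p := p) (fun w => by simp [nsmul_eq_mul]) f hinv]
    refine Finset.sum_eq_zero fun x hx => ?_
    exfalso
    have h2 : zN * x = x := (Finset.mem_filter.1 hx).2 ⟨zN, Subgroup.mem_zpowers zN⟩
    rw [mul_eq_right] at h2
    rw [h2, orderOf_one] at hzNo
    exact hM.1.one_lt.ne hzNo
  have h3 := congrArg (lam M ξ) hsq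
  rw [map_mul, map_zero] at h3
  exact mul_self_eq_zero.1 h3

end Brauer

section Main

variable {G : Type u} [Group G] [Finite G]

theorem card_conjugates (hp : p.Prime) (ha : 1 ≤ a) (hq : q ≠ 0) (hpq : ¬ p ∣ q)
    (hG : Nat.card G = p ^ a * q) (χ : IrrCharacter G) (r : ℕ)
    (hr : Nat.card {ψ : IrrCharacter G // ∃ σ : ℂ ≃+* ℂ,
      σ (Complex.exp (2 * Real.pi * Complex.I / (q : ℕ))) =
        Complex.exp (2 * Real.pi * Complex.I / (q : ℕ)) ∧
      (ψ : G → ℂ) = fun g => σ ((χ : G → ℂ) g)} = r)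
    [Fintype (gal p a q)] [Fintype G] :
    ∃ h : ℕ, r * h = p ^ (a - 1) * (p - 1) ∧
      ∑ g : G, galSum p a q (χ : G → ℂ) g * (χ : G → ℂ) g⁻¹ = (Nat.card G : ℂ) * h := by
  classical
  haveI : NeZero (p ^ a * q) := ⟨mul_ne_zero (pow_ne_zero _ hp.ne_zero) hq⟩
  have hmod : ∀ (x : G) (i j : ℕ), i ≡ j [MOD p ^ a * q] → x ^ i = x ^ j := fun x i j h =>
    pow_eq_pow_iff_modEq.2 (h.of_dvd (hG ▸ orderOf_dvd_natCard x))
  have hco : ∀ u : (ZMod (p ^ a * q))ˣ, ((u : ZMod (p ^ a * q)).val).Coprime (Nat.card G) :=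
    fun u => by rw [hG]; exact ZMod.val_coe_unit_coprime u
  let pw : gal p a q → (G → ℂ) := fun u g =>
    (χ : G → ℂ) (g ^ ((u : (ZMod (p ^ a * q))ˣ) : ZMod (p ^ a * q)).val)
  have hirr : ∀ u, IsIrrCharacter G (pw u) := fun u =>
    CfsgLib.BlockA.isIrrCharacter_comp_pow (hco _) χ.2
  have hmul : ∀ (u v : gal p a q) (g : G), g ^ (((u * v : gal p a q) : (ZMod (p ^ a * q))ˣ) :
      ZMod (p ^ a * q)).val = (g ^ ((u : (ZMod (p ^ a * q))ˣ) : ZMod (p ^ a * q)).val) ^
        ((v : (ZMod (p ^ a * q))ˣ) : ZMod (p ^ a * q)).val := by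
    intro u v g
    rw [← pow_mul]
    refine hmod g _ _ ?_
    rw [Subgroup.coe_mul, Units.val_mul, ZMod.val_mul]
    exact Nat.mod_modEq _ _
  have hone : ∀ g : G, g ^ (((1 : gal p a q) : (ZMod (p ^ a * q))ˣ) : ZMod (p ^ a * q)).val = g := by
    intro g
    conv_rhs => rw [← pow_one g]
    refine hmod g _ _ ?_
    rw [OneMemClass.coe_one, Units.val_one, ← Nat.cast_one, ZMod.val_natCast]
    exact Nat.mod_modEq _ _
  let H : Subgroup (gal p a q) :=
    { carrier := {u | pw u = (χ : G → ℂ)}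
      one_mem' := funext fun g => by simp only [pw]; rw [hone]
      mul_mem' := fun {u v} hu hv => funext fun g => by
        simp only [pw] at hu hv ⊢
        rw [hmul, congrFun hv, congrFun hu]
      inv_mem' := fun {u} hu => funext fun g => by
        simp only [pw] at hu ⊢
        have h := congrFun hu (g ^ (((u⁻¹ : gal p a q) : (ZMod (p ^ a * q))ˣ) :
          ZMod (p ^ a * q)).val)
        rw [← hmul, inv_mul_cancel, hone] at h
        exact h.symm }
  have hpw : ∀ u v : gal p a q, u⁻¹ * v ∈ H ↔ pw u = pw v := by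
    intro u v
    constructor
    · intro h
      funext g
      have h' := congrFun (show pw (u⁻¹ * v) = (χ : G → ℂ) from h)
        (g ^ ((u : (ZMod (p ^ a * q))ˣ) : ZMod (p ^ a * q)).val)
      simp only [pw] at h' ⊢
      rw [← hmul, mul_inv_cancel_left] at h'
      exact h'.symm
    · intro h
      show pw (u⁻¹ * v) = (χ : G → ℂ)
      funext g
      have h' := congrFun h (g ^ (((u⁻¹ : gal p a q) : (ZMod (p ^ a * q))ˣ) :
        ZMod (p ^ a * q)).val)
      simp only [pw] at h' ⊢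
      rw [← hmul, ← hmul, inv_mul_cancel, hone] at h'
      exact h'.symm
  have hz := Complex.isPrimitiveRoot_exp q hq
  have hzN : (Complex.exp (2 * Real.pi * Complex.I / (q : ℕ))) ^ (p ^ a * q) = 1 := by
    rw [pow_mul', hz.pow_eq_one, one_pow]
  have hmem : ∀ u : gal p a q, ∃ σ : ℂ ≃+* ℂ,
      σ (Complex.exp (2 * Real.pi * Complex.I / (q : ℕ))) =
        Complex.exp (2 * Real.pi * Complex.I / (q : ℕ)) ∧ pw u = fun g => σ ((χ : G → ℂ) g) := by
    intro u
    obtain ⟨σ, hσ⟩ := exists_ringEquiv_pow (p ^ a * q) (NeZero.pos _)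
      (ZMod.val_coe_unit_coprime (u : (ZMod (p ^ a * q))ˣ))
    obtain ⟨m, -, hm, hχσ⟩ := exists_pow_of_ringEquiv (G := G) σ
    refine ⟨σ, ?_, funext fun g => ?_⟩
    · rw [hσ _ hzN]
      conv_rhs => rw [← pow_one (Complex.exp (2 * Real.pi * Complex.I / (q : ℕ)))]
      rw [pow_eq_pow_mod _ hz.pow_eq_one, pow_eq_pow_mod 1 hz.pow_eq_one]
      exact congrArg _ ((mem_gal hp hq hpq).1 u.2)
    · rw [hχσ _ (Char.irr_isCharacter χ.2) g]
      simp only [pw]
      refine congrArg (χ : G → ℂ) (hmod g _ _ ?_)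
      have hzz := Complex.isPrimitiveRoot_exp (p ^ a * q) (NeZero.ne _)
      have h1 := hm _ (by rw [hG]; exact hzz.pow_eq_one)
      rw [hσ _ hzz.pow_eq_one, pow_eq_pow_mod m hzz.pow_eq_one, pow_eq_pow_mod
        ((u : (ZMod (p ^ a * q))ˣ) : ZMod (p ^ a * q)).val hzz.pow_eq_one] at h1
      exact hzz.pow_inj (Nat.mod_lt _ (NeZero.pos _)) (Nat.mod_lt _ (NeZero.pos _)) h1
  let F : gal p a q ⧸ H → {ψ : IrrCharacter G // ∃ σ : ℂ ≃+* ℂ,
      σ (Complex.exp (2 * Real.pi * Complex.I / (q : ℕ))) =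
        Complex.exp (2 * Real.pi * Complex.I / (q : ℕ)) ∧
      (ψ : G → ℂ) = fun g => σ ((χ : G → ℂ) g)} :=
    fun c => ⟨⟨pw c.out, hirr _⟩, hmem _⟩
  have hF : Function.Bijective F := by
    refine ⟨fun c d h => ?_, fun ψ => ?_⟩
    · rw [← QuotientGroup.out_eq' c, ← QuotientGroup.out_eq' d, QuotientGroup.eq, hpw]
      exact congrArg Subtype.val (congrArg Subtype.val h)
    · obtain ⟨σ, hσ, hψ⟩ := ψ.2
      obtain ⟨m, hmc, hm, hχσ⟩ := exists_pow_of_ringEquiv (G := G) σ
      have hmq : m ≡ 1 [MOD q] := by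
        have h1 := hm _ (by rw [hG]; exact hzN)
        rw [hσ, pow_eq_pow_mod m hz.pow_eq_one] at h1
        nth_rewrite 1 [← pow_one (Complex.exp (2 * Real.pi * Complex.I / (q : ℕ)))] at h1
        rw [pow_eq_pow_mod 1 hz.pow_eq_one] at h1
        exact (hz.pow_inj (Nat.mod_lt _ (Nat.pos_of_ne_zero hq))
          (Nat.mod_lt _ (Nat.pos_of_ne_zero hq)) h1).symm
      rw [hG] at hmc
      have hval : ((ZMod.unitOfCoprime m hmc : (ZMod (p ^ a * q))ˣ) : ZMod (p ^ a * q)).val ≡ m
          [MOD p ^ a * q] := by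
        rw [ZMod.coe_unitOfCoprime, ZMod.val_natCast]
        exact Nat.mod_modEq _ _
      set u : gal p a q := ⟨ZMod.unitOfCoprime m hmc, (mem_gal hp hq hpq).2
        ((hval.of_dvd (Dvd.intro_left _ rfl)).trans hmq)⟩
      refine ⟨(u : gal p a q ⧸ H), Subtype.ext (Subtype.ext ?_)⟩
      show pw _ = (ψ.1 : G → ℂ)
      have h2 : pw (Quotient.out (u : gal p a q ⧸ H)) = pw u := by
        rw [← hpw, ← QuotientGroup.eq, QuotientGroup.out_eq']
      rw [h2, hψ]
      funext g
      rw [hχσ _ (Char.irr_isCharacter χ.2) g]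
      simp only [pw]
      exact congrArg (χ : G → ℂ) (hmod g _ _ hval)
  refine ⟨Nat.card H, ?_, ?_⟩
  · rw [← card_gal hp ha hq hpq, ← hr, ← Nat.card_eq_of_bijective F hF, ← H.index_mul_card]
    rfl
  simp only [galSum, Finset.sum_mul]
  rw [Finset.sum_comm]
  have hinner : ∀ u : gal p a q, ∑ g : G, pw u g * (χ : G → ℂ) g⁻¹ =
      (Nat.card G : ℂ) * if u ∈ H then 1 else 0 := by
    intro u
    have h := Char.irr_classInner (hirr u) χ.2
    rw [Char.classInner_def] at h
    simp only [← Char.char_inv (Char.irr_isCharacter χ.2)] at h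
    have hne : (Nat.card G : ℂ) ≠ 0 := Nat.cast_ne_zero.2 Nat.card_pos.ne'
    rw [inv_mul_eq_iff_eq_mul₀ hne] at h
    rw [h]
    congr 1
    by_cases hu : pw u = (χ : G → ℂ)
    · rw [if_pos hu, if_pos (show u ∈ H from hu)]
    · rw [if_neg hu, if_neg (show u ∉ H from hu)]
  rw [Finset.sum_congr rfl fun u _ => hinner u, ← Finset.mul_sum, Finset.sum_boole,
    Nat.card_eq_fintype_card (α := H)]
  congr 2
  exact (Fintype.card_subtype _).symm

theorem degree_bound (hp : p.Prime) (χ : IrrCharacter G) (r : ℕ)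
    (hr : Nat.card {ψ : IrrCharacter G // ∃ σ : ℂ ≃+* ℂ,
      σ (Complex.exp (2 * Real.pi * Complex.I /
          ((Nat.card G / p ^ (Nat.card G).factorization p : ℕ) : ℕ))) =
        Complex.exp (2 * Real.pi * Complex.I /
          ((Nat.card G / p ^ (Nat.card G).factorization p : ℕ) : ℕ)) ∧
      (ψ : G → ℂ) = fun g => σ ((χ : G → ℂ) g)} = r)
    (ha : 1 ≤ (Nat.card G).factorization p) :
    (r * charDegree (χ : G → ℂ)).factorization p ≤ (Nat.card G).factorization p ∧
      (p ^ (Nat.card G).factorization p ∣ r * charDegree (χ : G → ℂ) →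
        p ^ (Nat.card G).factorization p ∣ charDegree (χ : G → ℂ)) := by
  classical
  have := Fact.mk hp
  have := Fintype.ofFinite G
  set a := (Nat.card G).factorization p with hadef
  set q := Nat.card G / p ^ a with hqdef
  have hG : Nat.card G = p ^ a * q := (Nat.ordProj_mul_ordCompl_eq_self _ _).symm
  have hq : q ≠ 0 := fun h => Nat.card_pos.ne' (by rw [hG, h, mul_zero])
  have hpq : ¬ p ∣ q := Nat.not_dvd_ordCompl hp Nat.card_pos.ne'
  haveI : NeZero (p ^ a * q) := ⟨mul_ne_zero (pow_ne_zero _ hp.ne_zero) hq⟩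
  have := Fintype.ofFinite (gal p a q)
  obtain ⟨h, hrh, hsum⟩ := card_conjugates hp ha hq hpq hG χ r hr
  have hχc := Char.irr_isCharacter χ.2
  set P : ℂ := ((p ^ (a - 1) : ℕ) : ℂ) with hPdef
  have hP0 : P ≠ 0 := Nat.cast_ne_zero.2 (pow_ne_zero _ hp.ne_zero)
  set θ : G → ℂ := fun g => galSum p a q (χ : G → ℂ) g / P with hθ
  have hθz : ∀ z g : G, Commute z g → z ^ p = 1 → ∃ y : ℂ, IsIntegral ℤ (θ g) ∧ IsIntegral ℤ y ∧
      θ (z * g) = θ g + (p : ℂ) * y := by
    intro z g hzg hz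
    obtain ⟨x, y, hx, hy, e1, e2⟩ := exists_galSum hp ha hq hpq hG hχc hzg hz
    refine ⟨y, ?_, hy, ?_⟩
    · simp only [hθ, e1]; rwa [mul_div_cancel_left₀ _ hP0]
    · simp only [hθ, e1, e2]; rw [mul_div_cancel_left₀ _ hP0, mul_div_cancel_left₀ _ hP0]
  have hθI : ∀ g, IsIntegral ℤ (θ g) := fun g =>
    (hθz 1 g (Commute.one_left g) (one_pow p)).choose_spec.1
  have hclass : ∀ g x : G, θ (x * g * x⁻¹) = θ g := by
    intro g x
    simp only [hθ, galSum]
    congr 1
    refine Finset.sum_congr rfl fun u _ => ?_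
    rw [conj_pow]
    exact Char.irr_isClassFunction χ.2 _ _
  obtain ⟨M, hM⟩ := CfsgLib.BlockB.exists_isPModular (p := p) hp
  have := isPrime_of_pmodular hM
  set X : MonoidAlgebra ℂ G := mkGA fun g => θ g⁻¹ with hX
  have hXloc : IsLocalCentral M X := by
    refine ⟨fun g x => ?_, fun g => ?_⟩
    · simp only [hX, coeff_mkGA]
      rw [show (x * g * x⁻¹)⁻¹ = x * g⁻¹ * x⁻¹ by group, hclass]
    · rw [hX, coeff_mkGA]
      exact memLocalRing_of_isIntegral (hθI _)
  have hd0 : (charDegree (χ : G → ℂ) : ℂ) ≠ 0 := Nat.cast_ne_zero.2 (charDegree_ne_zero χ.2)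
  have hω : omegaC (χ : G → ℂ) X =
      ((Nat.card G * h : ℕ) : ℂ) / ((p ^ (a - 1) * charDegree (χ : G → ℂ) : ℕ) : ℂ) := by
    rw [omegaC_eq, ← Fintype.sum_equiv (Equiv.inv G) (fun g => θ g * (χ : G → ℂ) g⁻¹) _
      (fun g => by simp [hX])]
    rw [← charDegree_cast hχc]
    simp only [hθ, div_mul_eq_mul_div, ← Finset.sum_div, hsum]
    push_cast
    rw [hPdef]
    push_cast
    rw [div_div]
  have hI : IsIntegral ℤ (omegaC (χ : G → ℂ) X) := by
    have : Finite (ConjClasses G) := Finite.of_surjective ConjClasses.mk ConjClasses.mk_surjective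
    have := Fintype.ofFinite (ConjClasses G)
    rw [omegaC_eq_sum_classes (Char.irr_isClassFunction χ.2) hXloc.1]
    refine IsIntegral.sum _ fun C _ => IsIntegral.mul ?_ (CfsgLib.BlockB.irr_centralChar_isIntegral χ _)
    rw [hX, coeff_mkGA]
    exact hθI _
  rw [hω] at hI
  have hpos : 0 < p ^ (a - 1) * charDegree (χ : G → ℂ) :=
    Nat.mul_pos (pow_pos hp.pos _) (Nat.pos_of_ne_zero (charDegree_ne_zero χ.2))
  have hdvd := Char.dvd_of_isIntegral_div hpos hI
  have hr0 : r ≠ 0 := by rintro rfl; rw [zero_mul] at hrh; exact absurd hrh.symm (mul_ne_zero (pow_ne_zero _ hp.ne_zero) (Nat.sub_pos_of_lt hp.one_lt).ne')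
  have hh0 : h ≠ 0 := by rintro rfl; rw [mul_zero] at hrh; exact absurd hrh.symm (mul_ne_zero (pow_ne_zero _ hp.ne_zero) (Nat.sub_pos_of_lt hp.one_lt).ne')
  have hfr : r.factorization p + h.factorization p = a - 1 := by
    have h1 := congrArg (fun n : ℕ => n.factorization p) hrh
    simp only [Nat.factorization_mul hr0 hh0, Nat.factorization_mul (pow_ne_zero _ hp.ne_zero)
      (Nat.sub_pos_of_lt hp.one_lt).ne', Finsupp.add_apply, hp.factorization_pow,
      Finsupp.single_eq_same] at h1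
    rw [Nat.factorization_eq_zero_of_not_dvd (n := p - 1) (fun hd => by
      have := Nat.le_of_dvd (Nat.sub_pos_of_lt hp.one_lt) hd
      have := hp.one_lt
      omega)] at h1
    simpa using h1
  obtain ⟨k, hk⟩ := hdvd
  have hk0 : k ≠ 0 := by
    rintro rfl; rw [mul_zero] at hk; exact mul_ne_zero Nat.card_pos.ne' hh0 hk
  have hv : a + h.factorization p =
      (a - 1) + (charDegree (χ : G → ℂ)).factorization p + k.factorization p := by
    have h1 := congrArg (fun n : ℕ => n.factorization p) hk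
    simp only [Nat.factorization_mul Nat.card_pos.ne' hh0, Nat.factorization_mul hpos.ne' hk0,
      Nat.factorization_mul (pow_ne_zero _ hp.ne_zero) (charDegree_ne_zero χ.2), Finsupp.add_apply,
      hp.factorization_pow, Finsupp.single_eq_same, ← hadef] at h1
    exact h1
  have hrd : (r * charDegree (χ : G → ℂ)).factorization p =
      r.factorization p + (charDegree (χ : G → ℂ)).factorization p := by
    rw [Nat.factorization_mul hr0 (charDegree_ne_zero χ.2), Finsupp.add_apply]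
  refine ⟨by omega, fun hdiv => ?_⟩
  rw [hp.pow_dvd_iff_le_factorization (mul_ne_zero hr0 (charDegree_ne_zero χ.2)), hrd] at hdiv
  rw [hp.pow_dvd_iff_le_factorization (charDegree_ne_zero χ.2)]
  by_contra hlt
  have hk1 : ¬ p ∣ k := fun hd => by
    have := hp.factorization_pos_of_dvd hk0 hd
    omega
  set B := blockOf M (χ : G → ℂ) with hBdef
  have hB : IsPBlock M B := ⟨χ, rfl⟩
  have hχB : χ ∈ B := sameBlock_refl _
  obtain ⟨D, hD⟩ := exists_isDefectGroup hM hB
  have hDp : IsPGroup p D := isPGroup_defectGroup hM hB hD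
  have hDne : Nontrivial D := by
    rw [← Finite.one_lt_card_iff_nontrivial, natCard_defectGroup hM hB hD]
    refine Nat.one_lt_pow ?_ hp.one_lt
    have h1 := sInf_degree_add_blockDefect hM hB
    have h2 : sInf ((fun φ : IrrCharacter G => (charDegree (φ : G → ℂ)).factorization p) '' B) ≤
        (charDegree (χ : G → ℂ)).factorization p := Nat.sInf_le ⟨χ, hχB, rfl⟩
    rw [← hadef] at h1
    omega
  obtain ⟨v, hv'⟩ : ∃ v : Subgroup.center D, orderOf v = p := by
    have := hDp.center_nontrivial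
    obtain ⟨n, hn, hcard⟩ := (hDp.to_subgroup (Subgroup.center D)).nontrivial_iff_card.1 this
    exact exists_prime_orderOf_dvd_card' p (hcard ▸ dvd_pow_self p (by omega))
  set z : G := ((v : D) : G) with hzdef
  have hzo : orderOf z = p := by rw [hzdef, Subgroup.orderOf_coe, Subgroup.orderOf_coe, hv']
  have hzC : z ∈ Subgroup.centralizer (D : Set G) := by
    rw [Subgroup.mem_centralizer_iff]
    intro w hw
    exact congrArg Subtype.val (Subgroup.mem_center_iff.1 v.2 ⟨w, hw⟩)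
  set Z : Subalgebra.center (kres M) (MonoidAlgebra (kres M) G) :=
    ⟨redA M X, isClassCoeff_iff_mem_center.1 (redA_isClassCoeff hXloc.1)⟩
  have hlam : lam M χ Z = 0 := by
    refine lam_eq_zero_of_invariant hM hB hD hzo (v : D).2 hzC Z (fun c hc => ?_) hχB
    have hcz : Commute z c := Subgroup.mem_centralizer_iff.1 hc z (v : D).2
    have hzp : z⁻¹ ^ p = 1 := by rw [inv_pow, ← hzo, pow_orderOf_eq_one, inv_one]
    obtain ⟨y, hy1, hy2, hy3⟩ := hθz z⁻¹ c⁻¹ hcz.inv_inv hzp
    simp only [Z, redA, coeff_mkGA, hX]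
    rw [mul_inv_rev, ← (hcz.inv_inv).eq, hy3, redC_add (memLocalRing_of_isIntegral hy1)
      (memLocalRing_mul (memLocalRing_natCast p) (memLocalRing_of_isIntegral hy2)),
      redC_mul (memLocalRing_natCast p) (memLocalRing_of_isIntegral hy2), redC_natCast]
    have := charP_kres hM
    rw [CharP.cast_eq_zero, zero_mul, add_zero]
  rw [lam_apply χ hXloc Z rfl, hω, hk, Nat.cast_mul, mul_div_cancel_left₀ _
    (Nat.cast_ne_zero.2 hpos.ne'), redC_natCast] at hlam
  have := charP_kres hM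
  exact hk1 ((CharP.cast_eq_zero_iff (kres M) p k).1 hlam)

end Main

end CfsgLib.BlockA.PConjugate
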