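import Mathlib.GroupTheory.Nilpotent
import Mathlib.GroupTheory.PGroup
import Mathlib.GroupTheory.Abelianization.Defs
import Mathlib.Tactic

/-! Groups of order p^4: small facts about derived subgroup, centre and class. -/

namespace CfsgLib.BlockA

open scoped commutatorElement

variable {P : Type*} [Group P] [Finite P] {p : ℕ} [Fact p.Prime]

theorem lt_index_of_not_mem {H K : Subgroup P} (hHK : H ≤ K) {a : P} (ha : a ∈ K) (haH : a ∉ H)
    {n k : ℕ} (hP : Nat.card P = p ^ n) (hH : p ^ k ≤ Nat.card H) : p ^ (k + 1) ≤ Nat.card K := by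
  have hp := (Fact.out : p.Prime)
  obtain ⟨i, -, hi⟩ := (Nat.dvd_prime_pow hp).1 (hP ▸ Subgroup.card_subgroup_dvd_card H)
  obtain ⟨j, -, hj⟩ := (Nat.dvd_prime_pow hp).1 (hP ▸ Subgroup.card_subgroup_dvd_card K)
  have hlt : Nat.card H < Nat.card K := by
    refine lt_of_le_of_ne (Subgroup.card_le_of_le hHK) fun h => haH ?_
    rw [Subgroup.eq_of_le_of_card_ge hHK h.ge]; exact ha
  rw [hi] at hlt hH; rw [hj] at hlt ⊢
  have h1 := (Nat.pow_lt_pow_iff_right hp.one_lt).1 hlt
  have h2 := (Nat.pow_le_pow_iff_right hp.one_lt).1 hH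
  exact Nat.pow_le_pow_right hp.pos (by omega)

/-- The number of conjugates of an element is at most the order of the derived subgroup. -/
theorem centralizer_index_le_card_commutator {G : Type*} [Group G] [Finite G] (a : G) :
    (Subgroup.centralizer ({a} : Set G)).index ≤ Nat.card (commutator G) := by
  rw [Subgroup.index_eq_card]
  let f : G ⧸ Subgroup.centralizer ({a} : Set G) → commutator G :=
    Quotient.lift (fun x => (⟨⁅x, a⁆, by
      rw [commutator_def]
      exact Subgroup.commutator_mem_commutator (Subgroup.mem_top _) (Subgroup.mem_top _)⟩ :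
        commutator G)) (by
      intro x y hxy
      have h := QuotientGroup.leftRel_apply.1 hxy
      rw [Subgroup.mem_centralizer_singleton_iff] at h
      apply Subtype.ext
      show ⁅x, a⁆ = ⁅y, a⁆
      have hy : y = x * (x⁻¹ * y) := by group
      have hc : (x⁻¹ * y) * a * (x⁻¹ * y)⁻¹ = a := by rw [h, mul_inv_cancel_right]
      conv_rhs => rw [hy]
      simp only [commutatorElement_def]
      calc x * a * x⁻¹ * a⁻¹ = x * ((x⁻¹ * y) * a * (x⁻¹ * y)⁻¹) * x⁻¹ * a⁻¹ := by rw [hc]
        _ = _ := by group)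
  refine Nat.card_le_card_of_injective f ?_
  intro u v
  induction u using Quotient.inductionOn with | _ x => ?_
  induction v using Quotient.inductionOn with | _ y => ?_
  intro h
  refine Quotient.sound (QuotientGroup.leftRel_apply.2 ?_)
  rw [Subgroup.mem_centralizer_singleton_iff]
  have h1 : x * a * x⁻¹ = y * a * y⁻¹ := by
    have h2 : ⁅x, a⁆ = ⁅y, a⁆ := congrArg Subtype.val h
    simpa [commutatorElement_def] using h2
  calc x⁻¹ * y * a = x⁻¹ * (y * a * y⁻¹) * y := by group
    _ = x⁻¹ * (x * a * x⁻¹) * y := by rw [h1]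
    _ = a * (x⁻¹ * y) := by group

theorem commutator_le_center_of_center_index_sq (hZ : (Subgroup.center P).index = p ^ 2) :
    commutator P ≤ Subgroup.center P := by
  rw [commutator_def, Subgroup.commutator_le]
  intro x _ y _
  rw [← QuotientGroup.eq_one_iff, ← QuotientGroup.mk'_apply, map_commutatorElement,
    commutatorElement_eq_one_iff_mul_comm]
  exact IsPGroup.commutative_of_card_eq_prime_sq (G := P ⧸ Subgroup.center P)
    (by rw [← Subgroup.index_eq_card]; exact hZ) _ _

theorem card_commutator_of_center_index_sq (hP : Nat.card P = p ^ 4)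
    (hZ : (Subgroup.center P).index = p ^ 2) : Nat.card (commutator P) = p := by
  classical
  have hp := (Fact.out : p.Prime)
  have hle := commutator_le_center_of_center_index_sq hZ
  set Z := Subgroup.center P with hZdef
  have hZcard : Nat.card Z = p ^ 2 := by
    have h := Subgroup.card_mul_index Z
    rw [hZ, hP] at h
    exact Nat.eq_of_mul_eq_mul_right (pow_pos hp.pos _) (h.trans (by ring))
  have hZC : ∀ x : P, Z ≤ Subgroup.centralizer ({x} : Set P) := fun x z hz => by
    rw [Subgroup.mem_centralizer_singleton_iff]; exact ((Subgroup.mem_center_iff.1 hz) x).symm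
  obtain ⟨a, ha⟩ : ∃ a, a ∉ Z := by
    by_contra! h
    have hT : Z = ⊤ := eq_top_iff.2 (fun x _ => h x)
    rw [hT, Subgroup.index_top] at hZ
    nlinarith [hp.two_le]
  obtain ⟨b, hb⟩ : ∃ b, b ∉ Subgroup.centralizer ({a} : Set P) := by
    by_contra! h
    exact ha (Subgroup.mem_center_iff.2 fun g => Subgroup.mem_centralizer_singleton_iff.1 (h g))
  have haC : a ∈ Subgroup.centralizer ({a} : Set P) := Subgroup.mem_centralizer_singleton_iff.2 rfl
  have hS1 : p ^ 3 ≤ Nat.card (Z ⊔ Subgroup.zpowers a : Subgroup P) :=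
    lt_index_of_not_mem le_sup_left (Subgroup.mem_sup_right (Subgroup.mem_zpowers a)) ha hP hZcard.ge
  have hS1C : Z ⊔ Subgroup.zpowers a ≤ Subgroup.centralizer ({a} : Set P) :=
    sup_le (hZC a) (Subgroup.zpowers_le.2 haC)
  have hCa : Nat.card (Subgroup.centralizer ({a} : Set P)) ≤ p ^ 3 := by
    obtain ⟨i, hi4, hi⟩ := (Nat.dvd_prime_pow hp).1 (hP ▸ Subgroup.card_subgroup_dvd_card (Subgroup.centralizer ({a} : Set P)))
    rw [hi]
    refine Nat.pow_le_pow_right hp.pos ?_
    rcases Nat.lt_or_ge i 4 with h | h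
    · omega
    · exfalso
      have ht := Subgroup.eq_top_of_card_eq _ (hi.trans (show p ^ i = Nat.card P by rw [hP]; congr 1; omega))
      exact hb (ht ▸ Subgroup.mem_top b)
  have hS1eq : Z ⊔ Subgroup.zpowers a = Subgroup.centralizer ({a} : Set P) :=
    Subgroup.eq_of_le_of_card_ge hS1C (hCa.trans hS1)
  have htop : (Z ⊔ Subgroup.zpowers a) ⊔ Subgroup.zpowers b = ⊤ := by
    apply Subgroup.eq_top_of_le_card
    rw [hP]
    exact lt_index_of_not_mem le_sup_left (Subgroup.mem_sup_right (Subgroup.mem_zpowers b))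
      (hS1eq ▸ hb) hP hS1
  set c := ⁅b, a⁆ with hc
  have hcC : c ∈ commutator P := by
    rw [commutator_def]
    exact Subgroup.commutator_mem_commutator (Subgroup.mem_top _) (Subgroup.mem_top _)
  have hcZ : c ∈ Z := hle hcC
  have hcne : c ≠ 1 := fun h => hb (Subgroup.mem_centralizer_singleton_iff.2
    (commutatorElement_eq_one_iff_mul_comm.1 h))
  haveI : (Subgroup.zpowers c).Normal := by
    refine ⟨fun x hx g => ?_⟩
    have : x ∈ Z := (Subgroup.zpowers_le.2 hcZ) hx
    rw [(Subgroup.mem_center_iff.1 this) g, mul_inv_cancel_right]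
    exact hx
  have hC' : commutator P ≤ Subgroup.zpowers c := by
    rw [commutator_def, Subgroup.commutator_le]
    intro x _ y _
    rw [← QuotientGroup.eq_one_iff, ← QuotientGroup.mk'_apply, map_commutatorElement,
      commutatorElement_eq_one_iff_mul_comm]
    set π := QuotientGroup.mk' (Subgroup.zpowers c)
    let T : Set (P ⧸ Subgroup.zpowers c) := π '' (Z : Set P) ∪ {π a, π b}
    have hab : π b * π a = π a * π b := by
      rw [← commutatorElement_eq_one_iff_mul_comm, ← map_commutatorElement]
      exact (QuotientGroup.eq_one_iff _).2 (Subgroup.mem_zpowers c)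
    have hT : ∀ u ∈ T, ∀ v ∈ T, u * v = v * u := by
      have hcent : ∀ z ∈ Z, ∀ g : P, π z * π g = π g * π z := fun z hz g => by
        rw [← map_mul, ← map_mul, (Subgroup.mem_center_iff.1 hz) g]
      rintro u (⟨z, hz, rfl⟩ | rfl | rfl) v (⟨w, hw, rfl⟩ | rfl | rfl)
      all_goals first
        | exact hcent _ hz _
        | exact (hcent _ hw _).symm
        | exact hab
        | exact hab.symm
        | rfl
    have hall : ∀ g, π g ∈ Subgroup.closure T := by
      intro g
      have hg : g ∈ (Z ⊔ Subgroup.zpowers a) ⊔ Subgroup.zpowers b := by rw [htop]; trivial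
      refine (sup_le (sup_le ?_ ?_) ?_ :
        (Z ⊔ Subgroup.zpowers a) ⊔ Subgroup.zpowers b ≤ (Subgroup.closure T).comap π) hg
      · exact fun z hz => Subgroup.subset_closure (Or.inl ⟨z, hz, rfl⟩)
      · exact Subgroup.zpowers_le.2 (Subgroup.subset_closure (Or.inr (Or.inl rfl)))
      · exact Subgroup.zpowers_le.2 (Subgroup.subset_closure (Or.inr (Or.inr rfl)))
    haveI := Subgroup.isMulCommutative_closure hT
    exact congrArg Subtype.val (IsMulCommutative.is_comm.comm
      (⟨π x, hall x⟩ : Subgroup.closure T) ⟨π y, hall y⟩)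
  have hap : a ^ p ∈ Z := by
    haveI : Z.Normal := inferInstance
    have h1 : (Z.subgroupOf (Subgroup.centralizer ({a} : Set P))).index = p := by
      have h := Subgroup.card_mul_index (Z.subgroupOf (Subgroup.centralizer ({a} : Set P)))
      rw [Nat.card_congr (Subgroup.subgroupOfEquivOfLe (hZC a)).toEquiv, hZcard,
        show Nat.card (Subgroup.centralizer ({a} : Set P)) = p ^ 3 from
          le_antisymm hCa (hS1.trans (Subgroup.card_le_of_le hS1C))] at h
      exact Nat.eq_of_mul_eq_mul_left (pow_pos hp.pos _) (h.trans (by ring))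
    have h2 := Subgroup.pow_index_mem (Z.subgroupOf (Subgroup.centralizer ({a} : Set P))) ⟨a, haC⟩
    rw [h1] at h2
    exact h2
  have hcp : c ^ p = 1 := by
    have hpow : ∀ n : ℕ, ⁅b, a ^ n⁆ = c ^ n := by
      intro n
      induction n with
      | zero => simp [commutatorElement_def]
      | succ n ih =>
        rw [pow_succ c, ← ih, pow_succ a]
        have hcomm : c * (a ^ n)⁻¹ = (a ^ n)⁻¹ * c := ((Subgroup.mem_center_iff.1 hcZ) _).symm
        calc ⁅b, a ^ n * a⁆ = b * a ^ n * b⁻¹ * (c * (a ^ n)⁻¹) := by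
              simp only [hc, commutatorElement_def]; group
          _ = b * a ^ n * b⁻¹ * ((a ^ n)⁻¹ * c) := by rw [hcomm]
          _ = ⁅b, a ^ n⁆ * c := by simp only [commutatorElement_def]; group
    rw [← hpow, commutatorElement_eq_one_iff_mul_comm]
    exact (Subgroup.mem_center_iff.1 hap) b
  have hord : orderOf c = p := orderOf_eq_prime hcp hcne
  refine le_antisymm ?_ ?_
  · calc _ ≤ _ := Subgroup.card_le_of_le hC'
      _ = p := by rw [Nat.card_zpowers, hord]
  · calc p = Nat.card (Subgroup.zpowers c) := by rw [Nat.card_zpowers, hord]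
      _ ≤ _ := Subgroup.card_le_of_le (Subgroup.zpowers_le.2 hcC)

theorem center_index_sq_of_card_commutator (hP : Nat.card P = p ^ 4)
    (h : Nat.card (commutator P) = p) : (Subgroup.center P).index = p ^ 2 := by
  classical
  have hp := (Fact.out : p.Prime)
  set Z := Subgroup.center P with hZdef
  have hCa : ∀ a : P, p ^ 3 ≤ Nat.card (Subgroup.centralizer ({a} : Set P)) := by
    intro a
    have h1 := centralizer_index_le_card_commutator a
    have h2 := Subgroup.card_mul_index (Subgroup.centralizer ({a} : Set P))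
    rw [h] at h1
    rw [hP] at h2
    nlinarith [Nat.mul_le_mul_left (Nat.card (Subgroup.centralizer ({a} : Set P))) h1, hp.pos]
  obtain ⟨a, ha⟩ : ∃ a, a ∉ Z := by
    by_contra! hall
    have : commutator P = ⊥ := by
      rw [commutator_def, Subgroup.commutator_eq_bot_iff_le_centralizer]
      intro x _
      rw [Subgroup.mem_centralizer_iff]
      intro y _
      exact (Subgroup.mem_center_iff.1 (hall x) y)
    rw [this, Subgroup.card_bot] at h
    exact hp.one_lt.ne h
  obtain ⟨b, hb⟩ : ∃ b, b ∉ Subgroup.centralizer ({a} : Set P) := by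
    by_contra! hall
    exact ha (Subgroup.mem_center_iff.2 fun g => Subgroup.mem_centralizer_singleton_iff.1 (hall g))
  set D := Subgroup.centralizer ({a} : Set P) ⊓ Subgroup.centralizer ({b} : Set P) with hD
  have hDle : p ^ 2 ≤ Nat.card D := by
    have h1 : (Subgroup.centralizer ({a} : Set P)).index ≤ p := h ▸ centralizer_index_le_card_commutator a
    have h2 : (Subgroup.centralizer ({b} : Set P)).index ≤ p := h ▸ centralizer_index_le_card_commutator b
    have h3 : D.index ≤ p * p := Subgroup.index_inf_le.trans (Nat.mul_le_mul h1 h2)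
    have h4 := Subgroup.card_mul_index D
    rw [hP] at h4
    nlinarith [Nat.mul_le_mul_left (Nat.card D) h3, hp.pos]
  have haC : a ∈ Subgroup.centralizer ({a} : Set P) := Subgroup.mem_centralizer_singleton_iff.2 rfl
  have haD : a ∉ D := fun hh => hb (Subgroup.mem_centralizer_singleton_iff.2
    (Subgroup.mem_centralizer_singleton_iff.1 hh.2).symm)
  have hD2 : Nat.card D ≤ p ^ 2 := by
    by_contra hlt
    push Not at hlt
    obtain ⟨i, -, hi⟩ := (Nat.dvd_prime_pow hp).1 (hP ▸ Subgroup.card_subgroup_dvd_card D)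
    rw [hi] at hlt
    have h3 : p ^ 3 ≤ Nat.card D := by
      rw [hi]; exact Nat.pow_le_pow_right hp.pos ((Nat.pow_lt_pow_iff_right hp.one_lt).1 hlt)
    have h4 : p ^ 4 ≤ Nat.card (Subgroup.centralizer ({a} : Set P)) :=
      lt_index_of_not_mem inf_le_left haC haD hP h3
    have ht : Subgroup.centralizer ({a} : Set P) = ⊤ := Subgroup.eq_top_of_le_card _ (hP ▸ h4)
    exact hb (ht ▸ Subgroup.mem_top b)
  have hDZ : D ≤ Z := by
    intro d hd
    rw [hZdef, Subgroup.mem_center_iff]
    have hS1 : D ⊔ Subgroup.zpowers a = Subgroup.centralizer ({a} : Set P) := by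
      refine Subgroup.eq_of_le_of_card_ge (sup_le inf_le_left (Subgroup.zpowers_le.2 haC)) ?_
      have h3 : p ^ 3 ≤ Nat.card (D ⊔ Subgroup.zpowers a : Subgroup P) :=
        lt_index_of_not_mem le_sup_left (Subgroup.mem_sup_right (Subgroup.mem_zpowers a)) haD hP hDle
      obtain ⟨i, hi4, hi⟩ := (Nat.dvd_prime_pow hp).1 (hP ▸ Subgroup.card_subgroup_dvd_card (Subgroup.centralizer ({a} : Set P)))
      refine le_trans ?_ h3
      rw [hi]
      refine Nat.pow_le_pow_right hp.pos ?_
      by_contra hh
      have ht := Subgroup.eq_top_of_card_eq _ (hi.trans (show p ^ i = Nat.card P by rw [hP]; congr 1; omega))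
      exact hb (ht ▸ Subgroup.mem_top b)
    have hcomm : IsMulCommutative D := by
      exact ⟨⟨IsPGroup.commutative_of_card_eq_prime_sq (le_antisymm hD2 hDle)⟩⟩
    have hle : Subgroup.centralizer ({a} : Set P) ⊔ Subgroup.zpowers b ≤
        Subgroup.centralizer ({d} : Set P) := by
      rw [← hS1]
      refine sup_le (sup_le (fun e he => ?_) (Subgroup.zpowers_le.2 ?_)) (Subgroup.zpowers_le.2 ?_)
      · rw [Subgroup.mem_centralizer_singleton_iff]
        exact congrArg Subtype.val (hcomm.is_comm.comm (⟨e, he⟩ : D) ⟨d, hd⟩)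
      · exact Subgroup.mem_centralizer_singleton_iff.2
          (Subgroup.mem_centralizer_singleton_iff.1 hd.1).symm
      · exact Subgroup.mem_centralizer_singleton_iff.2
          (Subgroup.mem_centralizer_singleton_iff.1 hd.2).symm
    have h5 : Subgroup.centralizer ({a} : Set P) ⊔ Subgroup.zpowers b = ⊤ := by
      apply Subgroup.eq_top_of_le_card
      rw [hP]
      exact lt_index_of_not_mem le_sup_left (Subgroup.mem_sup_right (Subgroup.mem_zpowers b)) hb hP (hCa a)
    intro g
    exact Subgroup.mem_centralizer_singleton_iff.1 (hle (h5 ▸ Subgroup.mem_top g))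
  have hZD : Z ≤ D := fun z hz => ⟨Subgroup.mem_centralizer_singleton_iff.2 ((Subgroup.mem_center_iff.1 hz) a).symm,
    Subgroup.mem_centralizer_singleton_iff.2 ((Subgroup.mem_center_iff.1 hz) b).symm⟩
  have hcard : Nat.card Z = p ^ 2 := by rw [le_antisymm hZD hDZ]; exact le_antisymm hD2 hDle
  have h6 := Subgroup.card_mul_index Z
  rw [hcard, hP] at h6
  exact Nat.eq_of_mul_eq_mul_left (pow_pos hp.pos _) (h6.trans (by ring))

/-- A nilpotent finite group is cyclic-by-derived only if it is abelian. -/
theorem commutative_of_commutator_sup_zpowers [Group.IsNilpotent P] (x : P)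
    (h : commutator P ⊔ Subgroup.zpowers x = ⊤) : commutator P = ⊥ := by
  have hx : Subgroup.zpowers x = ⊤ := by
    by_contra hne
    obtain ⟨K, hK, hxK⟩ := (eq_top_or_exists_le_coatom (Subgroup.zpowers x)).resolve_left hne
    haveI : K.Normal := Subgroup.NormalizerCondition.normal_of_coatom K Group.normalizerCondition_of_isNilpotent hK
    apply hK.1
    rw [eq_top_iff, ← h]
    refine sup_le ?_ hxK
    rw [commutator_def, Subgroup.commutator_le]
    intro a _ b _
    have hs : IsSimpleGroup (P ⧸ K) := by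
      haveI : Nontrivial (P ⧸ K) := QuotientGroup.nontrivial_iff.2 hK.1
      refine ⟨fun H _ => ?_⟩
      have hle : K ≤ H.comap (QuotientGroup.mk' K) := by
        intro k hk
        rw [Subgroup.mem_comap, QuotientGroup.mk'_apply, (QuotientGroup.eq_one_iff k).2 hk]
        exact H.one_mem
      have hm := Subgroup.map_comap_eq_self_of_surjective (QuotientGroup.mk'_surjective K) H
      rcases hK.le_iff.1 hle with h1 | h1
      · right; rw [← hm, h1]; exact Subgroup.map_top_of_surjective _ (QuotientGroup.mk'_surjective K)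
      · left; rw [← hm, h1]; exact QuotientGroup.map_mk'_self K
    rw [← QuotientGroup.eq_one_iff, ← QuotientGroup.mk'_apply, map_commutatorElement,
      commutatorElement_eq_one_iff_mul_comm]
    exact IsSimpleGroup.comm_iff_isSolvable.2 inferInstance _ _
  rw [commutator_def, Subgroup.commutator_eq_bot_iff_le_centralizer]
  intro a _
  rw [Subgroup.mem_centralizer_iff]
  intro b _
  obtain ⟨i, rfl⟩ := Subgroup.mem_zpowers_iff.1 (hx ▸ Subgroup.mem_top a)
  obtain ⟨j, rfl⟩ := Subgroup.mem_zpowers_iff.1 (hx ▸ Subgroup.mem_top b)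
  exact zpow_mul_comm x j i

end CfsgLib.BlockA
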