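import Cfsg.Prelude.Def_BlockLocal
import Cfsg.Agent.Lib.BlockA.SubsectionCount
import Cfsg.Agent.Lib.BlockA.HeightZero
import Cfsg.Agent.Lib.Block.ResidueSpan

/-!
Combinations with local coefficients of the columns of a block, and a criterion for a signed
bijection to be a perfect isometry.
-/

set_option autoImplicit false
set_option linter.unusedSectionVars false

namespace CfsgLib.BlockA.PerfectSpan

open Cfsg CfsgLib.Block CfsgLib.BlockA
open scoped ComplexConjugate

universe u v

variable {G : Type u} [Group G] [Fintype G] {p : ℕ} {M : Ideal AlgInt} [M.IsPrime]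

/-- A vector indexed by `B` is a combination with local coefficients of columns of `B`. -/
def InSpan (M : Ideal AlgInt) (B : Set (IrrCharacter G)) (w : IrrCharacter G → ℂ) : Prop :=
  ∃ r : G → ℂ, (∀ g, MemLocalRing M (r g)) ∧ ∀ χ ∈ B, w χ = ∑ g : G, r g * (χ : G → ℂ) g

variable {B : Set (IrrCharacter G)}

theorem inSpan_congr {w w' : IrrCharacter G → ℂ} (h : InSpan M B w) (he : ∀ χ ∈ B, w' χ = w χ) :
    InSpan M B w' := by
  obtain ⟨r, hr, hw⟩ := h
  exact ⟨r, hr, fun χ hχ => (he χ hχ).trans (hw χ hχ)⟩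

theorem inSpan_zero : InSpan M B (fun _ => 0) :=
  ⟨fun _ => 0, fun _ => (lring M).zero_mem, fun χ _ => by simp⟩

theorem inSpan_col {c : ℂ} (hc : MemLocalRing M c) (g : G) :
    InSpan M B (fun χ => c * (χ : G → ℂ) g) := by
  classical
  refine ⟨fun k => if k = g then c else 0, fun k => ?_, fun χ _ => by simp⟩
  show MemLocalRing M (if k = g then c else 0)
  split_ifs
  · exact hc
  · exact (lring M).zero_mem

theorem inSpan_smul {c : ℂ} (hc : MemLocalRing M c) {w : IrrCharacter G → ℂ}
    (h : InSpan M B w) : InSpan M B (fun χ => c * w χ) := by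
  obtain ⟨r, hr, hw⟩ := h
  refine ⟨fun g => c * r g, fun g => memLocalRing_mul hc (hr g), fun χ hχ => ?_⟩
  simp only [hw χ hχ, Finset.mul_sum, mul_assoc]

theorem inSpan_sum {ι : Type*} (s : Finset ι) (w : ι → IrrCharacter G → ℂ)
    (h : ∀ i ∈ s, InSpan M B (w i)) : InSpan M B (fun χ => ∑ i ∈ s, w i χ) := by
  classical
  induction s using Finset.induction_on with
  | empty => simpa using inSpan_zero
  | insert i s hi ih =>
    obtain ⟨r, hr, hw⟩ := h i (Finset.mem_insert_self i s)
    obtain ⟨r', hr', hw'⟩ := ih fun j hj => h j (Finset.mem_insert_of_mem hj)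
    refine ⟨fun g => r g + r' g, fun g => (lring M).add_mem (hr g) (hr' g), fun χ hχ => ?_⟩
    show ∑ j ∈ insert i s, w j χ = _
    rw [Finset.sum_insert hi]
    simp only [add_mul, Finset.sum_add_distrib, ← hw χ hχ]
    exact congrArg _ (hw' χ hχ)

variable (hM : IsPModular p M) (hB : IsPBlock M B)
include hM hB

/-- The products of two columns of a block are divisible by the centralizer orders. -/
theorem pair_div (x g : G) :
    MemLocalRing M ((∑ χ ∈ B.toFinite.toFinset, (χ : G → ℂ) x * (χ : G → ℂ) g) /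
      (Nat.card (Subgroup.centralizer ({x} : Set G)) : ℂ)) := by
  classical
  have := Fintype.ofFinite (IrrCharacter G)
  set F : G → ℂ := fun h => ∑ χ : IrrCharacter G, (χ : G → ℂ) x * (χ : G → ℂ) h with hF
  have hcl : IsClassFunction G F := fun a b => by
    simp only [hF, CfsgLib.Char.irr_isClassFunction (Subtype.property _) a b]
  have e : blockPart B F g = ∑ χ ∈ B.toFinite.toFinset, (χ : G → ℂ) x * (χ : G → ℂ) g := by
    rw [hF, blockPart_sum_smul]
    simp only [blockPart_irr, mul_ite, mul_zero]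
    rw [← Finset.sum_filter]
    exact Finset.sum_congr (by ext; simp) fun _ _ => rfl
  rw [← e, blockPart_eq_sum B hcl, Finset.sum_div]
  refine memLocalRing_sum _ _ fun k _ => ?_
  rw [mul_div_assoc]
  refine memLocalRing_mul (blockCoeff_memLocalRing hM hB k) ?_
  have h1 : F (k * g) = if IsConj x (k * g)⁻¹
      then (Nat.card (Subgroup.centralizer ({x} : Set G)) : ℂ) else 0 := by
    rw [← CfsgLib.Char.column_orthogonality x (k * g)⁻¹]
    refine Finset.sum_congr rfl fun χ _ => ?_
    rw [irr_conj_eq χ.2, inv_inv]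
  rw [h1]
  split_ifs
  · rw [div_self (Nat.cast_ne_zero.2 Nat.card_pos.ne')]
    exact (lring M).one_mem
  · rw [zero_div]
    exact (lring M).zero_mem

/-- The same for a combination. -/
theorem span_div {w : IrrCharacter G → ℂ} (h : InSpan M B w) (x : G) :
    MemLocalRing M ((∑ χ ∈ B.toFinite.toFinset, (χ : G → ℂ) x * w χ) /
      (Nat.card (Subgroup.centralizer ({x} : Set G)) : ℂ)) := by
  obtain ⟨r, hr, hw⟩ := h
  have e : (∑ χ ∈ B.toFinite.toFinset, (χ : G → ℂ) x * w χ) =
      ∑ g : G, r g * ∑ χ ∈ B.toFinite.toFinset, (χ : G → ℂ) x * (χ : G → ℂ) g := by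
    simp only [Finset.mul_sum]
    rw [Finset.sum_comm]
    refine Finset.sum_congr rfl fun χ hχ => ?_
    rw [hw χ (B.toFinite.mem_toFinset.1 hχ), Finset.mul_sum]
    exact Finset.sum_congr rfl fun g _ => by ring
  rw [e, Finset.sum_div]
  refine memLocalRing_sum _ _ fun g _ => ?_
  rw [mul_div_assoc]
  exact memLocalRing_mul (hr g) (pair_div hM hB x g)

omit hB in
/-- **Vectors giving functions that vanish at singular elements are local combinations.** -/
theorem inSpan_of_vanishing {w : IrrCharacter G → ℂ} (hw : ∀ χ ∈ B, MemLocalRing M (w χ))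
    (hsing : ∀ g : G, p ∣ orderOf g → ∑ χ ∈ B.toFinite.toFinset, w χ * (χ : G → ℂ) g = 0) :
    InSpan M B w := by
  classical
  have := Fact.mk hM.1
  have := Fintype.ofFinite (IrrCharacter G)
  have := Finite.of_surjective _ (ConjClasses.mk_surjective (α := G))
  have := Fintype.ofFinite (ConjClasses G)
  set S := B.toFinite.toFinset with hS
  set Φ : G → ℂ := fun g => ∑ χ ∈ S, w χ * (χ : G → ℂ) g with hΦ
  have hcl : IsClassFunction G Φ := fun a b => by
    simp only [hΦ, CfsgLib.Char.irr_isClassFunction (Subtype.property _) a b]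
  -- locality
  have hloc : ∀ g : G,
      MemLocalRing M (Φ g / (Nat.card (Subgroup.centralizer ({g} : Set G)) : ℂ)) := by
    intro g
    by_cases hg : p ∣ orderOf g
    · rw [show Φ g = 0 from hsing g hg, zero_div]
      exact (lring M).zero_mem
    set C := Subgroup.centralizer ({g} : Set G) with hC
    obtain ⟨Q⟩ : Nonempty (Sylow p C) := inferInstance
    set T : Subgroup G := (Q : Subgroup C).map C.subtype with hT
    have hTy : ∀ s ∈ T, Commute g s := by
      rintro _ ⟨s, -, rfl⟩
      exact (Subgroup.mem_centralizer_singleton_iff.1 s.2).symm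
    have hTcard : Nat.card T = p ^ (Nat.card C).factorization p := by
      rw [hT, Nat.card_congr ((Q : Subgroup C).equivMapOfInjective C.subtype
        C.subtype_injective).symm.toEquiv, Q.card_eq_multiplicity]
    have hTp : IsPGroup p T := IsPGroup.of_card hTcard
    have havg : MemLocalRing M ((Nat.card T : ℂ)⁻¹ * ∑ s : T, Φ (g * (s : G))) := by
      simp only [hΦ]
      rw [Finset.sum_comm, Finset.mul_sum]
      refine memLocalRing_sum _ _ fun χ hχ => ?_
      rw [← Finset.mul_sum, mul_left_comm]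
      exact memLocalRing_mul (hw χ (B.toFinite.mem_toFinset.1 hχ)) (memLocalRing_of_isIntegral
        (isIntegral_average (CfsgLib.Char.irr_isCharacter χ.2) T hTy))
    rw [Finset.sum_eq_single (1 : T) (fun s _ hs => hsing _ ?_) (fun h => absurd (Finset.mem_univ _) h),
      Subgroup.coe_one, mul_one] at havg
    · rw [← Nat.ordProj_mul_ordCompl_eq_self (Nat.card C) p, Nat.cast_mul, ← hTcard,
        ← div_div, div_eq_mul_inv (Φ g / _)]
      refine memLocalRing_mul (by rwa [div_eq_inv_mul]) (inv_memLocalRing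
        (memLocalRing_natCast _) fun h => ?_)
      refine Nat.not_dvd_ordCompl hM.1 (Nat.card_pos (α := C)).ne' ?_
      rw [← hTcard]
      exact (memLocalIdeal_natCast_iff hM _).1 h
    · obtain ⟨k, hk⟩ := IsPGroup.iff_orderOf.1 hTp s
      have hk1 : k ≠ 0 := fun h => hs (orderOf_eq_one_iff.1 (by rw [hk, h, pow_zero]))
      have hco : (orderOf g).Coprime (orderOf (s : G)) := by
        rw [Subgroup.orderOf_coe, hk]
        exact Nat.Coprime.pow_right k (hM.1.coprime_iff_not_dvd.2 hg).symm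
      rw [(hTy s s.2).orderOf_mul_eq_mul_orderOf_of_coprime hco, Subgroup.orderOf_coe, hk]
      exact dvd_mul_of_dvd_right (dvd_pow_self p hk1) _
  -- the coefficients
  let r : G → ℂ := fun g =>
    if g = Quotient.out (ConjClasses.mk g) then
      Φ g⁻¹ / (Nat.card (Subgroup.centralizer ({g⁻¹} : Set G)) : ℂ) else 0
  refine ⟨r, fun g => ?_, fun χ hχ => ?_⟩
  · show MemLocalRing M (if _ then _ else _)
    split_ifs
    · exact hloc _
    · exact (lring M).zero_mem
  have hinner : classInner Φ (χ : G → ℂ) = w χ := by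
    have hΦ' : Φ = ∑ ξ ∈ S, w ξ • (ξ : G → ℂ) := by
      funext g
      simp [hΦ, Finset.sum_apply]
    rw [hΦ', CfsgLib.Char.classInner_sum_left]
    simp only [CfsgLib.Char.classInner_smul_left, CfsgLib.Char.irr_classInner (Subtype.property _) χ.2,
      Subtype.coe_inj, mul_ite, mul_one, mul_zero]
    rw [Finset.sum_ite_eq', if_pos (B.toFinite.mem_toFinset.2 hχ)]
  have hF : IsClassFunction G (fun g => Φ g⁻¹ * (χ : G → ℂ) g) := fun a b => by
    simp only
    rw [show (b * a * b⁻¹)⁻¹ = b * a⁻¹ * b⁻¹ by group, hcl, CfsgLib.Char.irr_isClassFunction χ.2]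
  calc w χ = (Nat.card G : ℂ)⁻¹ * ∑ g : G, Φ g⁻¹ * (χ : G → ℂ) g := by
        rw [← hinner, CfsgLib.Char.classInner_def]
        congr 1
        refine Fintype.sum_equiv (Equiv.inv G) _ _ fun g => ?_
        rw [Equiv.inv_apply, inv_inv, irr_conj_eq χ.2]
    _ = ∑ K : ConjClasses G, Φ (Quotient.out K)⁻¹ /
          (Nat.card (Subgroup.centralizer ({(Quotient.out K)⁻¹} : Set G)) : ℂ) *
            (χ : G → ℂ) (Quotient.out K) := by
        rw [CfsgLib.BlockB.sum_eq_sum_conjClasses hF, Finset.mul_sum]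
        refine Finset.sum_congr rfl fun K _ => ?_
        have hc : Subgroup.centralizer ({(Quotient.out K)⁻¹} : Set G) =
            Subgroup.centralizer ({Quotient.out K} : Set G) := by
          ext x
          simp only [Subgroup.mem_centralizer_singleton_iff]
          exact ⟨fun h => (Commute.inv_left_iff.1 h.symm).symm,
            fun h => (Commute.inv_left_iff.2 h.symm).symm⟩
        rw [hc]
        have h2 : ((Subgroup.centralizer ({Quotient.out K} : Set G)).index : ℂ) *
            (Nat.card (Subgroup.centralizer ({Quotient.out K} : Set G)) : ℂ) = Nat.card G := by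
          exact_mod_cast Subgroup.index_mul_card _
        have h3 : ((Subgroup.centralizer ({Quotient.out K} : Set G)).index : ℂ) ≠ 0 :=
          Nat.cast_ne_zero.2 Subgroup.index_ne_zero_of_finite
        have h4 : (Nat.card (Subgroup.centralizer ({Quotient.out K} : Set G)) : ℂ) ≠ 0 :=
          Nat.cast_ne_zero.2 Nat.card_pos.ne'
        rw [← h2]
        field_simp
    _ = ∑ g ∈ Finset.univ.filter (fun g : G => g = Quotient.out (ConjClasses.mk g)),
          Φ g⁻¹ / (Nat.card (Subgroup.centralizer ({g⁻¹} : Set G)) : ℂ) * (χ : G → ℂ) g := by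
        refine Finset.sum_nbij' (fun K => Quotient.out K) (fun g => ConjClasses.mk g)
          (fun K _ => ?_) (fun _ _ => Finset.mem_univ _) (fun K _ => Quotient.out_eq K)
          (fun g hg => ((Finset.mem_filter.1 hg).2).symm) (fun _ _ => rfl)
        exact Finset.mem_filter.2 ⟨Finset.mem_univ _, congrArg Quotient.out (Quotient.out_eq K).symm⟩
    _ = _ := by
        rw [Finset.sum_filter]
        exact Finset.sum_congr rfl fun g _ => by simp only [r, ite_mul, zero_mul]

omit hB

/-- A family of vectors spanning the columns at singular elements, orthogonal to the others. -/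
structure SignData (p : ℕ) (M : Ideal AlgInt) (B : Set (IrrCharacter G)) {ι : Type*} [Fintype ι]
    (a : ι → IrrCharacter G → ℤ) : Prop where
  span : ∀ i, InSpan M B fun χ => (a i χ : ℂ)
  sing : ∀ g : G, p ∣ orderOf g → ∃ r : ι → ℂ, (∀ i, MemLocalRing M (r i)) ∧
    ∀ χ ∈ B, (χ : G → ℂ) g = ∑ i, r i * (a i χ : ℂ)
  orth : ∀ i, ∀ g : G, ¬ p ∣ orderOf g →
    ∑ χ ∈ B.toFinite.toFinset, (χ : G → ℂ) g * (a i χ : ℂ) = 0

variable {H : Type u} [Group H] [Fintype H] {c : Set (IrrCharacter H)}

omit hM in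
theorem sum_reindex {I : IrrCharacter H → IrrCharacter G} (hI : Set.BijOn I c B)
    (f : IrrCharacter G → ℂ) :
    ∑ χ ∈ B.toFinite.toFinset, f χ = ∑ η ∈ c.toFinite.toFinset, f (I η) := by
  rw [← finsum_mem_eq_finite_toFinset_sum f B.toFinite,
    ← finsum_mem_eq_finite_toFinset_sum (fun η => f (I η)) c.toFinite]
  exact (finsum_mem_eq_of_bijOn I hI fun η _ => rfl).symm

/-- The transported columns of a signed bijection respecting the two families. -/
theorem col_transport {ι κ : Type*} [Fintype ι] [Fintype κ] {a : ι → IrrCharacter G → ℤ}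
    {a' : κ → IrrCharacter H → ℤ} (hd : SignData p M B a) (hd' : SignData p M c a')
    {I : IrrCharacter H → IrrCharacter G} {ε : IrrCharacter H → ℤ} (hI : Set.BijOn I c B)
    (h1 : ∀ i, ∃ j, ∃ σ : ℤ, ∀ η ∈ c, ε η * a' i η = σ * a j (I η))
    (h2 : ∀ j, ∃ i, ∃ σ : ℤ, ∀ η ∈ c, ε η * a j (I η) = σ * a' i η) (y : H) :
    ∃ w : IrrCharacter G → ℂ, InSpan M B w ∧
      (∀ η ∈ c, w (I η) = (ε η : ℂ) * (η : H → ℂ) y) ∧
      (p ∣ orderOf y → ∀ x : G, ¬ p ∣ orderOf x →
        ∑ χ ∈ B.toFinite.toFinset, (χ : G → ℂ) x * w χ = 0) := by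
  classical
  have : Nonempty (IrrCharacter H) := ⟨trivIrr⟩
  let J := Function.invFunOn I c
  have hJ : ∀ η ∈ c, J (I η) = η := fun η hη => hI.injOn.leftInvOn_invFunOn hη
  let w : IrrCharacter G → ℂ := fun χ => (ε (J χ) : ℂ) * (J χ : H → ℂ) y
  have hwI : ∀ η ∈ c, w (I η) = (ε η : ℂ) * (η : H → ℂ) y := fun η hη => by
    show (ε (J (I η)) : ℂ) * (J (I η) : H → ℂ) y = _
    rw [hJ η hη]
  by_cases hy : p ∣ orderOf y
  · obtain ⟨r, hr, hη⟩ := hd'.sing y hy
    choose j σ hσ using h1
    have hw : ∀ χ ∈ B, w χ = ∑ i, (r i * (σ i : ℂ)) * (a (j i) χ : ℂ) := by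
      intro χ hχ
      obtain ⟨η, hηc, rfl⟩ := hI.surjOn hχ
      rw [hwI η hηc, hη η hηc, Finset.mul_sum]
      refine Finset.sum_congr rfl fun i _ => ?_
      have h := congrArg (fun z : ℤ => (z : ℂ)) (hσ i η hηc)
      push_cast at h
      rw [mul_left_comm, h]
      ring
    refine ⟨w, inSpan_congr (inSpan_sum Finset.univ _ fun i _ =>
      inSpan_smul (memLocalRing_mul (hr i) (memLocalRing_intCast (σ i))) (hd.span (j i))) hw, hwI,
      fun _ x hx => ?_⟩
    rw [Finset.sum_congr rfl fun χ hχ => by rw [hw χ (B.toFinite.mem_toFinset.1 hχ), Finset.mul_sum],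
      Finset.sum_comm]
    refine Finset.sum_eq_zero fun i _ => ?_
    rw [Finset.sum_congr rfl (g := fun χ : IrrCharacter G =>
      (r i * (σ i : ℂ)) * ((χ : G → ℂ) x * (a (j i) χ : ℂ))) fun χ _ => by ring, ← Finset.mul_sum,
      hd.orth (j i) x hx, mul_zero]
  · refine ⟨w, inSpan_of_vanishing hM (fun χ _ => memLocalRing_mul (memLocalRing_intCast _)
      (memLocalRing_irr_apply _ _)) (fun g hg => ?_), hwI, fun h => absurd h hy⟩
    obtain ⟨r, -, hχ⟩ := hd.sing g hg
    rw [Finset.sum_congr rfl fun χ hc => by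
      rw [hχ χ (B.toFinite.mem_toFinset.1 hc), Finset.mul_sum], Finset.sum_comm]
    refine Finset.sum_eq_zero fun i _ => ?_
    obtain ⟨i', σ, hσ⟩ := h2 i
    rw [Finset.sum_congr rfl (g := fun χ : IrrCharacter G => r i * (w χ * (a i χ : ℂ)))
      fun χ _ => by ring, ← Finset.mul_sum, sum_reindex hI]
    refine mul_eq_zero_of_right _ ?_
    rw [Finset.sum_congr rfl (g := fun η : IrrCharacter H =>
      (σ : ℂ) * ((η : H → ℂ) y * (a' i' η : ℂ))) fun η hη => ?_, ← Finset.mul_sum,
      hd'.orth i' y hy, mul_zero]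
    rw [Set.Finite.mem_toFinset] at hη
    have h := congrArg (fun z : ℤ => (z : ℂ)) (hσ η hη)
    push_cast at h
    rw [hwI η hη]
    linear_combination (η : H → ℂ) y * h

/-- **A signed bijection respecting the two families is a perfect isometry.** -/
theorem isPerfectIsometry {ι κ : Type*} [Fintype ι] [Fintype κ] {a : ι → IrrCharacter G → ℤ}
    {a' : κ → IrrCharacter H → ℤ} (hB : IsPBlock M B) (hc : IsPBlock M c)
    (hd : SignData p M B a) (hd' : SignData p M c a')
    {I : IrrCharacter H → IrrCharacter G} {ε : IrrCharacter H → ℤ} (hI : Set.BijOn I c B)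
    (hε : ∀ η ∈ c, ε η = 1 ∨ ε η = -1)
    (h1 : ∀ i, ∃ j, ∃ σ : ℤ, ∀ η ∈ c, ε η * a' i η = σ * a j (I η))
    (h2 : ∀ j, ∃ i, ∃ σ : ℤ, ∀ η ∈ c, ε η * a j (I η) = σ * a' i η) :
    IsPerfectIsometry p M c B I ε := by
  classical
  have : Nonempty (IrrCharacter H) := ⟨trivIrr⟩
  let J := Function.invFunOn I c
  have hJ : ∀ η ∈ c, J (I η) = η := fun η hη => hI.injOn.leftInvOn_invFunOn hη
  have hJB : Set.BijOn J B c :=
    (Set.InvOn.symm ⟨fun η hη => hJ η hη, fun χ hχ => Function.invFunOn_eq (hI.surjOn hχ)⟩).bijOn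
      (fun χ hχ => Function.invFunOn_mem (hI.surjOn hχ)) hI.mapsTo
  have hK : ∀ x : G, ∀ y : H, signedBijectionKernel c I ε x y =
      ∑ η ∈ c.toFinite.toFinset, (ε η : ℂ) * (I η : G → ℂ) x * (η : H → ℂ) y := fun x y =>
    finsum_mem_eq_finite_toFinset_sum _ c.toFinite
  refine ⟨hI, hε, fun x y => ?_⟩
  obtain ⟨w, hw, hwI, hw0⟩ := col_transport hM hd hd' hI h1 h2 y
  obtain ⟨w', hw', hwJ, hw0'⟩ := col_transport hM hd' hd (ε := fun χ => ε (J χ)) hJB
    (fun j => by
      obtain ⟨i, σ, hσ⟩ := h2 j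
      exact ⟨i, σ, fun χ hχ => by
        obtain ⟨η, hη, rfl⟩ := hI.surjOn hχ
        rw [hJ η hη]
        exact hσ η hη⟩)
    (fun i => by
      obtain ⟨j, σ, hσ⟩ := h1 i
      exact ⟨j, σ, fun χ hχ => by
        obtain ⟨η, hη, rfl⟩ := hI.surjOn hχ
        rw [hJ η hη]
        exact hσ η hη⟩) x
  have e1 : signedBijectionKernel c I ε x y =
      ∑ χ ∈ B.toFinite.toFinset, (χ : G → ℂ) x * w χ := by
    rw [hK, sum_reindex hI]
    refine Finset.sum_congr rfl fun η hη => ?_
    rw [hwI η (c.toFinite.mem_toFinset.1 hη)]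
    ring
  have e2 : signedBijectionKernel c I ε x y =
      ∑ η ∈ c.toFinite.toFinset, (η : H → ℂ) y * w' η := by
    rw [hK]
    refine Finset.sum_congr rfl fun η hη => ?_
    rw [Set.Finite.mem_toFinset] at hη
    have h := hwJ (I η) (hI.mapsTo hη)
    rw [hJ η hη] at h
    rw [h]
    ring
  refine ⟨e1 ▸ span_div hM hB hw x, e2 ▸ span_div hM hc hw' y, ?_⟩
  by_cases hx : p ∣ orderOf x
  · by_cases hy : p ∣ orderOf y
    · exact Or.inl ⟨fun h => absurd hx h, fun h => absurd hy h⟩
    · exact Or.inr (e2 ▸ hw0' hx y hy)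
  · by_cases hy : p ∣ orderOf y
    · exact Or.inr (e1 ▸ hw0 hy x hx)
    · exact Or.inl ⟨fun _ => hy, fun _ => hx⟩

end CfsgLib.BlockA.PerfectSpan
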