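import Cfsg.Agent.Lib.BlockA.FreeSignRows
import Cfsg.Agent.Lib.BlockA.NineAction
import Cfsg.Agent.S0936
import Cfsg.Agent.Lib.BlockA.PrincipalNilp

/-!
The principal block of a group with abelian Sylow subgroup: the proportions of regular elements in
the centralizers, the contributions at the trivial character and the coordinates at free involutions.
-/

set_option autoImplicit false
set_option linter.unusedSectionVars false
set_option maxHeartbeats 1000000

namespace CfsgLib.BlockA.PrincipalLocal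

open Cfsg CfsgLib.Block CfsgLib.BlockA CfsgLib.BlockB CfsgLib.BlockB.SubSum
  CfsgLib.BlockB.HeightBound AbelianSub AbelianTrace
open scoped ComplexConjugate

universe u

variable {G : Type u} [Group G]

/-- The proportion of regular elements. -/
noncomputable def rho (p : ℕ) (s : Set G) : ℚ :=
  (Nat.card {x : G // x ∈ s ∧ ¬ p ∣ orderOf x} : ℚ) / (Nat.card s : ℚ)

theorem rho_nonneg (p : ℕ) (s : Set G) : 0 ≤ rho p s := by
  unfold rho
  positivity

theorem rho_image (p : ℕ) {H : Subgroup G} (s : Set H) :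
    rho p (Subtype.val '' s) = rho p s := by
  unfold rho
  have e1 : Nat.card {x : G // x ∈ Subtype.val '' s ∧ ¬ p ∣ orderOf x} =
      Nat.card {x : H // x ∈ s ∧ ¬ p ∣ orderOf x} := by
    refine (Nat.card_congr (Equiv.ofBijective
      (fun x : {x : H // x ∈ s ∧ ¬ p ∣ orderOf x} =>
        (⟨(x.1 : G), ⟨x.1, x.2.1, rfl⟩, by rw [Subgroup.orderOf_coe]; exact x.2.2⟩ :
          {x : G // x ∈ Subtype.val '' s ∧ ¬ p ∣ orderOf x})) ⟨fun x y h => ?_, ?_⟩)).symm
    · have e := congrArg Subtype.val h
      exact Subtype.ext (Subtype.ext e)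
    · rintro ⟨_, ⟨x, hx, rfl⟩, hx'⟩
      exact ⟨⟨x, hx, by rwa [Subgroup.orderOf_coe] at hx'⟩, rfl⟩
  rw [e1, Nat.card_image_of_injective Subtype.val_injective]

variable [Fintype G] {p : ℕ} [Fact p.Prime] {M : Ideal AlgInt} [M.IsPrime]
  (hM : IsPModular p M) (S : Sylow p G)
  (hab : ∀ v ∈ (S : Subgroup G), ∀ w ∈ (S : Subgroup G), v * w = w * v)
include hM hab

local notation "cs" z => Subgroup.centralizer (Singleton.singleton z : Set G)
local notation "cen" Q => Subgroup.centralizer ((Q : Subgroup G) : Set G)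
local notation "PS" => ((S : Subgroup G))

omit hab in
/-- Every element of the normalizer stabilizes the principal pair. -/
theorem mem_pairStab {t : G} :
    t ∈ pairStab M PS (principalBlock M (cen PS)) ↔ t ∈ Subgroup.normalizer (PS : Set G) := by
  refine ⟨fun h => h.1, fun h => ⟨h, ?_⟩⟩
  exact (stabilizesBlock_iff_coeff hM isPBlock_principalBlock h).1
    ((stabilizesBlock_iff isPBlock_principalBlock t).2
      ⟨normalizer_le_normalizer_centralizer hM PS h, blockMap_principalBlock _⟩)

/-- The blocks of the centralizers are principal. -/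
theorem blk_eq {v : G} (hv : v ∈ (S : Subgroup G)) :
    blk hM (isMaximal_principal hM S) hab hv = principalBlock M (cs v) :=
  (Cfsg.Agent.S0936.result p M hM _ _ ⟨_, (blk_spec hM (isMaximal_principal hM S) hab hv).1⟩).1
    (blk_spec hM (isMaximal_principal hM S) hab hv).1

theorem triv_mem_blk {v : G} (hv : v ∈ (S : Subgroup G)) :
    (trivIrr : IrrCharacter (cs v)) ∈ blk hM (isMaximal_principal hM S) hab hv := by
  rw [blk_eq hM S hab hv]
  exact one_mem_principalBlock

/-- The contribution at the trivial character. -/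
theorem con_triv (v : PS) :
    Contribution.con hM (isMaximal_principal hM S) hab v trivIrr trivIrr =
      (rho p ((cs (v : G)) : Set G) : ℂ) := by
  classical
  have hb := triv_mem_blk hM S hab v.2
  have hbp : ∀ y : (cs (v : G)), blockPart (blk hM (isMaximal_principal hM S) hab v.2)
      (fun c : (cs (v : G)) => ((trivIrr : IrrCharacter G) : G → ℂ) ((v : G) * (c : G))) y = 1 := by
    intro y
    show blockPart _ (((trivIrr : IrrCharacter (cs (v : G))) : (cs (v : G)) → ℂ)) y = 1
    rw [blockPart_irr, if_pos hb]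
    rfl
  rw [Contribution.con, Contribution.secPair, Finset.sum_congr rfl (g := fun _ => (1 : ℂ))
    fun y _ => by rw [hbp, map_one, mul_one], Finset.sum_const, nsmul_eq_mul, mul_one, rho]
  have hcard : Nat.card {x : G // x ∈ ((cs (v : G)) : Set G) ∧ ¬ p ∣ orderOf x} =
      (Finset.univ.filter fun y : (cs (v : G)) => ¬ p ∣ orderOf y).card := by
    rw [← Fintype.card_subtype, ← Nat.card_eq_fintype_card]
    exact Nat.card_congr
      { toFun := fun x => ⟨⟨x.1, x.2.1⟩, by rw [← Subgroup.orderOf_coe]; exact x.2.2⟩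
        invFun := fun y => ⟨(y.1 : G), y.1.2, by rw [Subgroup.orderOf_coe]; exact y.2⟩
        left_inv := fun _ => rfl
        right_inv := fun _ => rfl }
  rw [hcard, SetLike.coe_sort_coe, Rat.cast_div, Rat.cast_natCast, Rat.cast_natCast,
    div_eq_inv_mul]

/-- **The regular proportions add up to one.** -/
theorem sum_rho [Fintype PS] :
    ∑ v : PS, rho p ((cs (v : G)) : Set G) /
      ((orb M PS (principalBlock M (cen PS)) (v : G)).card : ℚ) = 1 := by
  have h := Contribution.sum_con hM (isMaximal_principal hM S) hab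
    (χ := (trivIrr : IrrCharacter G)) one_mem_principalBlock
  simp only [con_triv hM S hab] at h
  have h' : ((∑ v : PS, rho p ((cs (v : G)) : Set G) /
      ((orb M PS (principalBlock M (cen PS)) (v : G)).card : ℚ) : ℚ) : ℂ) = ((1 : ℚ) : ℂ) := by
    push_cast
    exact h
  exact_mod_cast h'

/-- Diagonal contributions are positive. -/
theorem con_self_pos (v : PS) {χ : IrrCharacter G} (hχ : χ ∈ principalBlock M G) :
    ∃ r : ℝ, 0 < r ∧ Contribution.con hM (isMaximal_principal hM S) hab v χ χ = (r : ℂ) := by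
  classical
  have := Fintype.ofFinite (IrrCharacter G)
  refine ⟨(Nat.card (cs (v : G)) : ℝ)⁻¹ *
    ∑ y : (cs (v : G)) with ¬ p ∣ orderOf y, Complex.normSq (blockPart
      (blk hM (isMaximal_principal hM S) hab v.2)
      (fun c : (cs (v : G)) => (χ : G → ℂ) ((v : G) * (c : G))) y), ?_, ?_⟩
  swap
  · rw [Contribution.con, Contribution.secPair]
    push_cast
    simp only [Complex.mul_conj]
  refine lt_of_le_of_ne (mul_nonneg (by positivity)
    (Finset.sum_nonneg fun y _ => Complex.normSq_nonneg _)) fun h0 => ?_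
  obtain ⟨k, hk⟩ := IsPGroup.iff_orderOf.1 S.2 v
  rw [← Subgroup.orderOf_coe] at hk
  refine AbelianRankCount.subEntry_self_ne_zero hM ⟨k, hk⟩
    (blk_spec hM (isMaximal_principal hM S) hab v.2).1
    (exists_blk hM (isMaximal_principal hM S) hab v.2).choose_spec.2.2 hχ ?_
  rw [Contribution.subEntry_eq_con hM (isMaximal_principal hM S) hab v, Contribution.con,
    Contribution.secPair]
  have h1 := congrArg (fun r : ℝ => (r : ℂ)) h0
  push_cast at h1
  simp only [Complex.mul_conj]
  rw [← h1, mul_zero]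

/-- **The coordinates at a free involution.** -/
theorem free_rows {v : G} (hv : v ∈ (S : Subgroup G)) (hv2 : v * v = 1)
    (hfix : ∀ t ∈ Subgroup.normalizer (PS : Set G), t * v * t⁻¹ = v → t ∈ (cen PS)) :
    rk hM (isMaximal_principal hM S) hab ⟨v, hv⟩ = 1 ∧
      rho p ((cs v) : Set G) = (Nat.card PS : ℚ)⁻¹ ∧
      ∃ a : IrrCharacter G → ℤ, a trivIrr = 1 ∧ (∀ χ ∈ principalBlock M G, a χ ≠ 0) ∧
        (∀ χ ξ, Contribution.con hM (isMaximal_principal hM S) hab ⟨v, hv⟩ χ ξ =
          ((a χ * a ξ : ℤ) : ℂ) / (Nat.card PS : ℂ)) ∧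
        ∑ χ ∈ (principalBlock M G).toFinite.toFinset, a χ ^ 2 = (Nat.card PS : ℤ) := by
  classical
  set hmax := isMaximal_principal hM S
  have hfix' : ∀ t ∈ pairStab M PS (principalBlock M (cen PS)), t * v * t⁻¹ = v → t ∈ (cen PS) :=
    fun t ht => hfix t ((mem_pairStab hM S).1 ht)
  have := Fintype.ofFinite (cs v)
  have hrk : rk hM hmax hab ⟨v, hv⟩ = 1 := by
    show ((blockRank p (blk hM hmax hab hv) : ℕ) : ℂ) = 1
    rw [(FreeSignDatum.blk_shape hM hmax hab hv hfix').1, Nat.cast_one]
  have hint : ∀ χ : IrrCharacter G, ∃ n : ℤ,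
      FreeSignDatum.aSec v (blk hM hmax hab hv) (χ : G → ℂ) = n := by
    intro χ
    have hterm : ∀ κ : IrrCharacter (cs v), ∃ n : ℤ,
        classInner (fun k : (cs v) => (χ : G → ℂ) k) (κ : (cs v) → ℂ) *
          ((κ : (cs v) → ℂ) ⟨v, Subgroup.mem_centralizer_singleton_iff.2 rfl⟩ /
            (κ : (cs v) → ℂ) 1) = n := by
      intro κ
      obtain ⟨m, hm⟩ := CfsgLib.Char.classInner_isCharacter_nat
        (CfsgLib.Char.isCharacter_restrict (CfsgLib.Char.irr_isCharacter χ.2) (cs v))
        (CfsgLib.Char.irr_isCharacter κ.2)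
      set z : (cs v) := ⟨v, Subgroup.mem_centralizer_singleton_iff.2 rfl⟩ with hz
      have h1 := CfsgLib.Char.irr_apply_one_ne_zero κ.2
      have h2 := FreeSignDatum.apply_central_mul κ (FreeSignDatum.central_self v) z
      rw [show z * z = 1 from Subtype.ext hv2, ← hz] at h2
      have h3 : ((κ : (cs v) → ℂ) z / (κ : (cs v) → ℂ) 1) ^ 2 = 1 := by
        rw [div_pow, div_eq_one_iff_eq (pow_ne_zero 2 h1)]
        field_simp at h2
        linear_combination -h2
      rw [hm]
      rcases sq_eq_one_iff.1 h3 with e | e <;> rw [e]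
      · exact ⟨m, by simp⟩
      · exact ⟨-m, by simp⟩
    choose n hn using hterm
    exact ⟨∑ κ ∈ (blk hM hmax hab hv).toFinite.toFinset, n κ, by
      rw [FreeSignDatum.aSec, Finset.sum_congr rfl fun κ _ => hn κ]
      push_cast
      rfl⟩
  choose a ha using hint
  have hcon : ∀ χ ξ, Contribution.con hM hmax hab ⟨v, hv⟩ χ ξ =
      ((a χ * a ξ : ℤ) : ℂ) / (Nat.card PS : ℂ) := by
    intro χ ξ
    rw [FreeSignDatum.con_eq hM hmax hab hv hfix', ha, ha, map_intCast, div_eq_inv_mul,
      Int.cast_mul]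
  have ha1 : a trivIrr = 1 := by
    have h := ha (trivIrr : IrrCharacter G)
    have hb := triv_mem_blk hM S hab hv
    rw [FreeSignDatum.aSec, Finset.sum_eq_single_of_mem (trivIrr : IrrCharacter (cs v))
      ((Set.Finite.mem_toFinset _).2 hb)] at h
    · rw [show (fun k : (cs v) => ((trivIrr : IrrCharacter G) : G → ℂ) k) =
        ((trivIrr : IrrCharacter (cs v)) : (cs v) → ℂ) from rfl,
        CfsgLib.Char.irr_classInner_self (trivIrr : IrrCharacter (cs v)).2] at h
      simp [trivIrr] at h
      exact_mod_cast h.symm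
    · intro κ _ hne
      rw [show (fun k : (cs v) => ((trivIrr : IrrCharacter G) : G → ℂ) k) =
        ((trivIrr : IrrCharacter (cs v)) : (cs v) → ℂ) from rfl,
        CfsgLib.Char.irr_classInner_ne (trivIrr : IrrCharacter (cs v)).2 κ.2
          (fun e => hne (Subtype.ext e.symm)), zero_mul]
  refine ⟨hrk, ?_, a, ha1, fun χ hχ h0 => ?_, hcon, ?_⟩
  · have h := hcon trivIrr trivIrr
    rw [con_triv hM S hab, ha1] at h
    have h' : ((rho p ((cs v) : Set G) : ℚ) : ℂ) = (((Nat.card PS : ℚ)⁻¹ : ℚ) : ℂ) := by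
      rw [h]
      push_cast
      ring
    exact_mod_cast h'
  · obtain ⟨r, hr, hre⟩ := con_self_pos hM S hab ⟨v, hv⟩ hχ
    rw [hcon, h0] at hre
    simp at hre
    exact hr.ne (by exact_mod_cast hre)
  · have h := Contribution.sum_con_self hM hmax hab ⟨v, hv⟩
    rw [hrk, Finset.sum_congr rfl fun χ _ => hcon χ χ, ← Finset.sum_div,
      div_eq_one_iff_eq (Nat.cast_ne_zero.2 Nat.card_pos.ne')] at h
    have h' : ((∑ χ ∈ (principalBlock M G).toFinite.toFinset, a χ * a χ : ℤ) : ℂ) =
        ((Nat.card PS : ℤ) : ℂ) := by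
      push_cast at h ⊢
      exact h
    rw [← Int.cast_inj (α := ℂ), ← h']
    simp only [pow_two]

omit hab in
/-- **Rank one.** -/
theorem rank_one_bound (h : blockRank p (principalBlock M G) = 1) :
    rho p (Set.univ : Set G) * (Nat.card (principalBlock M G) : ℚ) ≤ 1 := by
  classical
  have hB : IsPBlock M (principalBlock M G) := isPBlock_principalBlock
  have hs := blockRank_eq_sum hM hB
  rw [h, Nat.cast_one] at hs
  have hterm : ∀ χ ∈ (principalBlock M G).toFinite.toFinset,
      classInner (fun x => regInd p x * (χ : G → ℂ) x) (χ : G → ℂ) =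
        (((charDegree (χ : G → ℂ) : ℚ) ^ 2 * rho p (Set.univ : Set G) : ℚ) : ℂ) := by
    intro χ hχ
    rw [Set.Finite.mem_toFinset] at hχ
    have hval : ∀ x : G, ¬ p ∣ orderOf x → (χ : G → ℂ) x = (charDegree (χ : G → ℂ) : ℂ) := by
      intro x hx
      have h1 := proportional_of_rank_one h hχ (one_mem_principalBlock (G := G)) hx
      simp only [mul_one] at h1
      rw [h1, CfsgLib.Block.charDegree_cast (CfsgLib.Char.irr_isCharacter χ.2)]
    have hcard : Nat.card {x : G // x ∈ (Set.univ : Set G) ∧ ¬ p ∣ orderOf x} =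
        (Finset.univ.filter fun x : G => ¬ p ∣ orderOf x).card := by
      rw [← Fintype.card_subtype, ← Nat.card_eq_fintype_card]
      exact Nat.card_congr (Equiv.subtypeEquivRight fun x => by simp)
    rw [CfsgLib.Char.classInner_def, rho, hcard, Nat.card_univ, Finset.sum_congr rfl
      (g := fun x => if ¬ p ∣ orderOf x then ((charDegree (χ : G → ℂ) : ℂ) ^ 2) else 0) fun x _ => ?_,
      ← Finset.sum_filter, Finset.sum_const, nsmul_eq_mul]
    · push_cast
      ring
    · simp only [regInd]
      by_cases hx : p ∣ orderOf x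
      · simp [hx]
      · rw [if_neg hx, if_pos hx, one_mul, hval x hx, Complex.conj_natCast, pow_two]
  rw [Finset.sum_congr rfl hterm, ← Rat.cast_sum] at hs
  have hs' : (1 : ℚ) = ∑ χ ∈ (principalBlock M G).toFinite.toFinset,
      (charDegree (χ : G → ℂ) : ℚ) ^ 2 * rho p (Set.univ : Set G) := by exact_mod_cast hs
  rw [hs', Nat.card_eq_card_finite_toFinset, mul_comm, ← nsmul_eq_mul]
  refine Finset.card_nsmul_le_sum _ _ _ fun χ _ => ?_
  have h1 : (1 : ℚ) ≤ (charDegree (χ : G → ℂ) : ℚ) :=
    Nat.one_le_cast.2 (Nat.pos_of_ne_zero (charDegree_ne_zero χ.2))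
  exact le_mul_of_one_le_left (rho_nonneg _ _) (one_le_pow₀ h1)

end CfsgLib.BlockA.PrincipalLocal
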