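import Cfsg.Prelude.Def_BlockRank
import Cfsg.Agent.Lib.BlockB.StarLift
import Cfsg.Agent.Lib.BlockB.IdemCount
import Cfsg.Agent.Lib.Block.ResidueSpan
import Cfsg.Agent.Lib.Char.Brauer
import Cfsg.Agent.Lib.Char.Inner
import Cfsg.Agent.Lib.Complement.FpfNilpotent
import Mathlib

/-!
The lattice of generalized characters vanishing on the singular elements: it is spanned by the
vectors of multiplicities of lifted primitive idempotents, which are independent.
-/

set_option autoImplicit false
set_option linter.unusedSectionVars false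
set_option linter.style.haveILetI false

namespace CfsgLib.BlockA.ProjLattice

open Cfsg CfsgLib.Block CfsgLib.BlockB CfsgLib.BlockB.StarTrace CfsgLib.BlockB.StarLift
  CfsgLib.BlockB.IdemCount MonoidAlgebra
open scoped ComplexConjugate

universe u

variable {G : Type u} [Group G] [Fintype G] {p : ℕ} [hp : Fact p.Prime] {M : Ideal AlgInt}
  [M.IsPrime]

/-- The image in the complex group algebra. -/
noncomputable def toC : MonoidAlgebra (lring M) G →+* MonoidAlgebra ℂ G :=
  mapRingHom G (lring M).subtype

theorem coeff_toC (a : MonoidAlgebra (lring M) G) (x : G) :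
    (toC a).coeff x = ((a.coeff x : lring M) : ℂ) := by rw [toC, coeff_mapRingHom]; rfl

theorem tval_eq_sum (χ : G → ℂ) (a : MonoidAlgebra (lring M) G) :
    tval χ 1 a = ∑ g, (toC a).coeff g * χ g := by simp [tval, coeff_toC]

/-- The value at an idempotent is a multiplicity. -/
theorem exists_nat_tval (χ : IrrCharacter G) {e : MonoidAlgebra (lring M) G} (he : e * e = e) :
    ∃ n : ℕ, tval (χ : G → ℂ) 1 e = (n : ℂ) := by
  obtain ⟨χ, n, ρ, hρ, rfl⟩ := χ
  set A : Module.End ℂ (Fin n → ℂ) := ρ.asAlgebraHom (toC e) with hA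
  have hAA : A * A = A := by rw [hA, ← map_mul, ← map_mul, he]
  have htr := ((LinearMap.isProj_range_iff_isIdempotentElem _).2 hAA).trace
  exact ⟨Module.finrank ℂ (LinearMap.range A), by
    rw [tval_eq_sum, ← htr, hA, trace_asAlgebraHom]⟩

theorem redC_tval (χ : IrrCharacter G) (e : MonoidAlgebra (lring M) G) :
    redC M (tval (χ : G → ℂ) 1 e) = ∑ g, (redG e).coeff g * redC M ((χ : G → ℂ) g) := by
  rw [tval_eq_sum, redC_sum _ _ (fun g _ => memLocalRing_mul
    (by rw [coeff_toC]; exact (e.coeff g).2) (memLocalRing_irr_apply χ g))]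
  refine Finset.sum_congr rfl fun g _ => ?_
  rw [redC_mul (by rw [coeff_toC]; exact (e.coeff g).2) (memLocalRing_irr_apply χ g), coeff_toC,
    redC_coe, coeff_redG]

variable (hM : IsPModular p M)

/-- A class functional on the residue group algebra seeing only `p`-regular parts is a combination
of reduced characters. -/
theorem exists_expansion (hM : IsPModular p M) [Fintype (IrrCharacter G)]
    (τ : MonoidAlgebra (kres M) G →ₗ[kres M] kres M)
    (hpel : ∀ (y z : G), Commute y z → (∃ m : ℕ, y ^ p ^ m = 1) →
      τ (of (kres M) G (y * z)) = τ (of (kres M) G z))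
    (hcomm : ∀ a c : MonoidAlgebra (kres M) G, τ (a * c) = τ (c * a)) :
    ∃ c : IrrCharacter G → kres M,
      ∀ g, τ (of (kres M) G g) = ∑ χ, c χ * redC M ((χ : G → ℂ) g) := by
  classical
  have : Finite (ConjClasses G) := Finite.of_surjective ConjClasses.mk ConjClasses.mk_surjective
  have := Fintype.ofFinite (ConjClasses G)
  choose part hpart using fun g : G => exists_isPPart (p := p) hp.out g
  choose reg hregeq hregc hregp hregr using hpart
  have hτreg : ∀ g, τ (of (kres M) G g) = τ (of (kres M) G (reg g)) := fun g => by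
    obtain ⟨m, hm⟩ := hregp g
    conv_lhs => rw [← hregeq g]
    exact hpel _ _ (hregc g) ⟨m, by rw [← hm, pow_orderOf_eq_one]⟩
  have hredreg : ∀ (χ : IrrCharacter G) g,
      redC M ((χ : G → ℂ) g) = redC M ((χ : G → ℂ) (reg g)) := fun χ g => by
    conv_lhs => rw [← hregeq g]
    exact redC_char_mul_pelement hM (CfsgLib.Char.irr_isCharacter χ.2) (hregc g) (hregp g)
  choose cd hcd using fun y : G => exists_delta_reduced (p := p) hM y
  have hout : ∀ z : G, IsConj (ConjClasses.mk z).out z := fun z =>
    ConjClasses.mk_eq_mk_iff_isConj.1 (Quotient.out_eq _)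
  refine ⟨fun χ => ∑ C : ConjClasses G,
    if p ∣ orderOf C.out then 0 else τ (of (kres M) G C.out) * cd C.out χ, fun g => ?_⟩
  rw [hτreg, Finset.sum_congr rfl fun χ _ => by rw [hredreg χ g]]
  obtain ⟨z, hz, hzg⟩ : ∃ z, ¬ p ∣ orderOf z ∧ reg g = z := ⟨_, hregr g, rfl⟩
  rw [hzg]
  obtain ⟨a, ha⟩ := isConj_iff.1 (hout z)
  have hor : ¬ p ∣ orderOf (ConjClasses.mk z).out := by
    rw [← ha] at hz
    rwa [show orderOf (a * (ConjClasses.mk z).out * a⁻¹) = orderOf (ConjClasses.mk z).out from
      orderOf_injective (MulAut.conj a).toMonoidHom (MulAut.conj a).injective _] at hz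
  simp only [Finset.sum_mul]
  rw [Finset.sum_comm, Finset.sum_eq_single (ConjClasses.mk z)]
  · simp only [if_neg hor, mul_assoc, ← Finset.mul_sum]
    rw [hcd _ z hz hor, if_pos (hout z), mul_one]
    conv_lhs => rw [← ha, map_mul, hcomm, ← map_mul, ← mul_assoc, inv_mul_cancel, one_mul]
  · intro C _ hC
    by_cases hC' : p ∣ orderOf C.out
    · simp [hC']
    · simp only [if_neg hC', mul_assoc, ← Finset.mul_sum]
      rw [hcd _ z hz hC', if_neg, mul_zero]
      intro h
      apply hC
      rw [← ConjClasses.mk_eq_mk_iff_isConj.2 h]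
      exact (Quotient.out_eq C).symm
  · intro h; exact absurd (Finset.mem_univ _) h

theorem apply_eq_sum_redC [Fintype (IrrCharacter G)]
    {τ : MonoidAlgebra (kres M) G →ₗ[kres M] kres M} {c : IrrCharacter G → kres M}
    (hc : ∀ g, τ (of (kres M) G g) = ∑ χ, c χ * redC M ((χ : G → ℂ) g))
    (e : MonoidAlgebra (lring M) G) :
    τ (redG e) = ∑ χ, c χ * redC M (tval (χ : G → ℂ) 1 e) := by
  conv_lhs => rw [← MonoidAlgebra.sum_coeff_single (redG e),
    Finsupp.sum_fintype _ _ (fun _ => by simp), map_sum]
  have hterm : ∀ g : G, τ (single g ((redG e).coeff g)) =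
      ∑ χ : IrrCharacter G, c χ * ((redG e).coeff g * redC M ((χ : G → ℂ) g)) := fun g => by
    rw [show single g ((redG e).coeff g) = (redG e).coeff g • of (kres M) G g by
      rw [of_apply, smul_single, smul_eq_mul, mul_one], map_smul, smul_eq_mul, hc, Finset.mul_sum]
    exact Finset.sum_congr rfl fun χ _ => mul_left_comm _ _ _
  rw [Finset.sum_congr rfl fun g _ => hterm g, Finset.sum_comm]
  refine Finset.sum_congr rfl fun χ _ => ?_
  rw [← Finset.mul_sum, redC_tval]

include hM

theorem tval_eq_zero_of_redG {χ : G → ℂ} (hχ : IsClassFunction G χ)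
    {a : MonoidAlgebra (lring M) G} (ha : a * a = a) (h : redG a = 0) : tval χ 1 a = 0 := by
  refine tval_idem_eq_zero hM hχ (u := 1) ?_ ha (fun x => by simp) (fun c _ => ?_)
  · exact ⟨1, one_mul 1, Commute.refl 1, ⟨0, by simp⟩,
      by simpa using hp.out.not_dvd_one⟩
  · rw [← coeff_redG, h]; simp

theorem tval_eq_of_redG {χ : G → ℂ} (hχ : IsClassFunction G χ) {e f : MonoidAlgebra (lring M) G}
    (he : e * e = e) (hf : f * f = f) (h : redG e = redG f) : tval χ 1 e = tval χ 1 f := by
  have : Algebra.IsIntegral (lring M) (MonoidAlgebra (lring M) G) := Algebra.IsIntegral.of_finite _ _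
  have hr : redG f * redG f = redG f := by rw [← map_mul, hf]
  have hab : redG e = redG (e * f) * redG (f * e) := by
    rw [map_mul, map_mul, h, hr, hr]
  obtain ⟨e₁, y, he₁, hee₁, he₁e, hψ, hab1, hid, hred⟩ :=
    Hensel.exists_equiv (Hensel.lringSplit hM) (redG (M := M)) redG_algebraMap he hab
  set f₁ := f * e * y * (e₁ * (e * f)) with hf₁
  have h1 : f * f₁ = f₁ := by rw [hf₁]; simp only [← mul_assoc, hf]
  have h2 : f₁ * f = f₁ := by rw [hf₁]; simp only [mul_assoc, hf]
  have hd1 : (e - e₁) * (e - e₁) = e - e₁ := by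
    rw [sub_mul, mul_sub, mul_sub, he, hee₁, he₁e, he₁]; simp
  have hd2 : (f - f₁) * (f - f₁) = f - f₁ := by
    rw [sub_mul, mul_sub, mul_sub, hf, h1, h2, show f₁ * f₁ = f₁ from hid]; simp
  have z1 : tval χ 1 (e - e₁) = 0 :=
    tval_eq_zero_of_redG hM hχ hd1 (by rw [map_sub, sub_eq_zero]; exact hψ.symm)
  have z2 : tval χ 1 (f - f₁) = 0 := tval_eq_zero_of_redG hM hχ hd2 (by
    rw [map_sub, sub_eq_zero, hred, map_mul, map_mul, h, hr, hr, hr])
  rw [tval_sub, sub_eq_zero] at z1 z2
  rw [z1, z2, hf₁, ← tval_mul_comm hχ (e₁ * (e * f)) (f * e * y) (fun x => by simp), hab1]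

theorem exists_idem_lift {j : MonoidAlgebra (kres M) G} (hj : j * j = j) :
    ∃ e : MonoidAlgebra (lring M) G, e * e = e ∧ redG e = j := by
  obtain ⟨e, -, he, hr⟩ := exists_lift hM (Y := ⊥) (H := ⊤) (j := j)
    (fun u hu x => by rw [Subgroup.mem_bot] at hu; subst hu; simp) (fun x hx => by simp at hx) hj
  exact ⟨e, he, hr⟩

omit hM in
open Classical in
/-- The multiplicities of a lift of an idempotent. -/
noncomputable def mult (j : MonoidAlgebra (kres M) G) : IrrCharacter G → ℂ :=
  if h : ∃ e : MonoidAlgebra (lring M) G, e * e = e ∧ redG e = j then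
    fun χ => tval (χ : G → ℂ) 1 h.choose else 0

theorem mult_eq {j : MonoidAlgebra (kres M) G} {e : MonoidAlgebra (lring M) G} (he : e * e = e)
    (hr : redG e = j) (χ : IrrCharacter G) : mult j χ = tval (χ : G → ℂ) 1 e := by
  have h : ∃ e : MonoidAlgebra (lring M) G, e * e = e ∧ redG e = j := ⟨e, he, hr⟩
  rw [mult, dif_pos h]
  exact tval_eq_of_redG hM (CfsgLib.Char.irr_isClassFunction χ.2) h.choose_spec.1 he
    (h.choose_spec.2.trans hr.symm)

theorem mult_zero : mult (0 : MonoidAlgebra (kres M) G) = 0 := funext fun χ => by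
  rw [mult_eq hM (e := 0) (by simp) (map_zero _) χ, tval_zero]; rfl

theorem mult_add (a b : MonoidAlgebra (kres M) G) (ha : a * a = a) (hb : b * b = b)
    (hab : a * b = 0) (hba : b * a = 0) : mult (a + b) = mult a + mult b := by
  obtain ⟨e, he, hre⟩ := exists_idem_lift hM ha
  obtain ⟨f, -, hf, hrf, hef, hfe⟩ := exists_lift_orth hM (Y := ⊥) (H := ⊤) (j := b) (e := e)
    (fun u hu x => by rw [Subgroup.mem_bot] at hu; subst hu; simp) (fun x hx => by simp at hx) hb
    ⟨fun u hu x => by rw [Subgroup.mem_bot] at hu; subst hu; simp, fun x hx => by simp at hx⟩ he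
    (by rw [hre, hab]) (by rw [hre, hba])
  funext χ
  have hsum : (e + f) * (e + f) = e + f := by
    rw [add_mul, mul_add, mul_add, he, hf, hef, hfe]; simp
  rw [mult_eq hM hsum (by rw [map_add, hre, hrf]) χ, Pi.add_apply, mult_eq hM he hre χ,
    mult_eq hM hf hrf χ, tval_add]

theorem mult_swap (a b : MonoidAlgebra (kres M) G) (hab : a * b * (a * b) = a * b)
    (hba : b * a * (b * a) = b * a) : mult (a * b) = mult (b * a) := by
  have : Algebra.IsIntegral (lring M) (MonoidAlgebra (lring M) G) := Algebra.IsIntegral.of_finite _ _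
  obtain ⟨e, he, hre⟩ := exists_idem_lift hM hab
  obtain ⟨e₁, y, he₁, -, -, hψ, hab1, hid, hred⟩ :=
    Hensel.exists_equiv (Hensel.lringSplit hM) (redG (M := M)) redG_algebraMap he
      (a := lift0 a) (b := lift0 b) (by rw [hre, redG_lift0, redG_lift0])
  have hr2 : redG (lift0 b * y * (e₁ * lift0 a)) = b * a := by
    rw [hred, hre, redG_lift0, redG_lift0, ← hba]; simp only [mul_assoc]
  funext χ
  rw [mult_eq hM he₁ (hψ.trans hre) χ, mult_eq hM hid hr2 χ,
    ← tval_mul_comm (CfsgLib.Char.irr_isClassFunction χ.2) (e₁ * lift0 a) (lift0 b * y)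
      (fun x => by simp), hab1]

theorem exists_nat_mult {j : MonoidAlgebra (kres M) G} (hj : j * j = j) (χ : IrrCharacter G) :
    ∃ n : ℕ, mult j χ = (n : ℂ) := by
  obtain ⟨e, he, hre⟩ := exists_idem_lift hM hj
  rw [mult_eq hM he hre χ]
  exact exists_nat_tval χ he

section Split

variable [IsAlgClosed (kres M)] (S : SplitData (k := kres M) (MonoidAlgebra (kres M) G))

theorem mult_expansion {j : MonoidAlgebra (kres M) G} (hj : j * j = j) :
    mult j = ∑ i, rk S i j • mult (prim S i) :=
  eq_sum_rk S (mult_add hM) (mult_swap hM) (mult_zero hM) _ j hj rfl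

theorem exists_dual (j : Fin S.n) [Fintype (IrrCharacter G)] :
    ∃ c : IrrCharacter G → kres M, ∀ i (e : MonoidAlgebra (lring M) G), redG e = prim S i →
      ∑ χ, c χ * redC M (tval (χ : G → ℂ) 1 e) = if i = j then 1 else 0 := by
  classical
  have := charP_kres hM
  let τ : MonoidAlgebra (kres M) G →ₗ[kres M] kres M :=
    ((LinearMap.trace (kres M) (Fin (S.d j) → kres M)).comp (LinearMap.proj j)).comp S.π.toLinearMap
  have hτ : ∀ a, τ a = LinearMap.trace (kres M) _ (S.π a j) := fun a => rfl
  have hpel : ∀ (y z : G), Commute y z → (∃ m : ℕ, y ^ p ^ m = 1) →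
      τ (of (kres M) G (y * z)) = τ (of (kres M) G z) := by
    rintro y z hyz ⟨m, hm⟩
    haveI : CharP (MonoidAlgebra (kres M) G) p :=
      charP_of_injective_algebraMap (algebraMap (kres M) (MonoidAlgebra (kres M) G)).injective p
    haveI : ExpChar (MonoidAlgebra (kres M) G) p := ExpChar.prime hp.out
    have hn : (of (kres M) G y - 1) ^ p ^ m = 0 := by
      rw [sub_pow_expChar_pow_of_commute _ _ (Commute.one_right _), ← map_pow, hm, map_one, one_pow,
        sub_self]
    have hc : Commute (of (kres M) G y - 1) (of (kres M) G z) :=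
      Commute.sub_left (hyz.map (of (kres M) G)) (Commute.one_left _)
    have hnil : IsNilpotent ((of (kres M) G y - 1) * of (kres M) G z) :=
      hc.isNilpotent_mul_right ⟨_, hn⟩
    have e1 : of (kres M) G (y * z) =
        (of (kres M) G y - 1) * of (kres M) G z + of (kres M) G z := by
      rw [sub_mul, one_mul, map_mul, sub_add_cancel]
    have h0 : τ ((of (kres M) G y - 1) * of (kres M) G z) = 0 := by
      rw [hτ]
      refine (LinearMap.isNilpotent_trace_of_isNilpotent ?_).eq_zero
      exact hnil.map ((Pi.evalRingHom _ j).comp S.π.toRingHom)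
    rw [e1, map_add, h0, zero_add]
  have hcomm : ∀ a c, τ (a * c) = τ (c * a) := fun a c => by
    rw [hτ, hτ, map_mul, map_mul, Pi.mul_apply, Pi.mul_apply, LinearMap.trace_mul_comm]
  obtain ⟨c, hc⟩ := exists_expansion hM τ hpel hcomm
  refine ⟨c, fun i e he => ?_⟩
  rw [← apply_eq_sum_redC hc e, he, hτ, pi_prim]
  rcases eq_or_ne i j with rfl | hij
  · rw [Pi.single_eq_same, if_pos rfl, one', LinearMap.trace_smulRight, φ0_v0]
  · rw [Pi.single_eq_of_ne hij.symm, map_zero, if_neg hij]

/-- The multiplicity vectors of the primitive idempotents are independent. -/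
theorem coeff_eq_zero (c : Fin S.n → ℤ)
    (h : ∀ χ : IrrCharacter G, ∑ i, (c i : ℂ) * mult (prim S i) χ = 0) : c = 0 := by
  classical
  have := Fintype.ofFinite (IrrCharacter G)
  have := charP_kres hM
  have hstep : ∀ c : Fin S.n → ℤ,
      (∀ χ : IrrCharacter G, ∑ i, (c i : ℂ) * mult (prim S i) χ = 0) → ∀ j, (p : ℤ) ∣ c j := by
    intro c h j
    choose e he hre using fun i => exists_idem_lift hM (prim_idem S i)
    obtain ⟨d, hd⟩ := exists_dual hM S j
    have key : ∑ i, (c i : kres M) * (∑ χ, d χ * redC M (tval (χ : G → ℂ) 1 (e i))) = 0 := by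
      simp only [Finset.mul_sum]
      rw [Finset.sum_comm]
      refine Finset.sum_eq_zero fun χ _ => ?_
      simp only [mul_left_comm _ (d χ), ← Finset.mul_sum]
      refine mul_eq_zero_of_right _ ?_
      choose n hn using fun i => exists_nat_tval χ (he i)
      simp only [hn, redC_natCast]
      have h0 : ∑ i, c i * (n i : ℤ) = 0 := by
        have h1 := h χ
        simp only [mult_eq hM (he _) (hre _), hn] at h1
        exact_mod_cast h1
      have := congrArg (fun z : ℤ => (z : kres M)) h0
      simpa using this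
    simp only [hd _ _ (hre _), mul_ite, mul_one, mul_zero, Finset.sum_ite_eq',
      Finset.mem_univ, if_true] at key
    exact (CharP.intCast_eq_zero_iff (kres M) p _).1 key
  have hall : ∀ N : ℕ, ∀ j, (p : ℤ) ^ N ∣ c j := by
    intro N
    induction N with
    | zero => simp
    | succ N ih =>
      choose c' hc' using ih
      have hpN : ((p : ℂ) ^ N) ≠ 0 := pow_ne_zero _ (Nat.cast_ne_zero.2 hp.out.ne_zero)
      have := hstep c' (fun χ => by
        refine (mul_eq_zero.1 (?_ : (p : ℂ) ^ N * _ = 0)).resolve_left hpN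
        rw [Finset.mul_sum, ← h χ]
        exact Finset.sum_congr rfl fun i _ => by rw [hc' i]; push_cast; ring)
      intro j
      rw [hc' j, pow_succ]
      exact mul_dvd_mul_left _ (this j)
  funext j
  by_contra hne
  have h1 := Int.natAbs_dvd_natAbs.2 (hall (c j).natAbs j)
  rw [Int.natAbs_pow, Int.natAbs_natCast] at h1
  exact absurd (Nat.le_of_dvd (Int.natAbs_pos.2 hne) h1)
    (not_le.2 (Nat.lt_pow_self hp.out.one_lt))

end Split

omit hM in
/-- The group generated by the multiplicity vectors. -/
def multSpan (M : Ideal AlgInt) [M.IsPrime] (G : Type u) [Group G] [Fintype G] :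
    AddSubgroup (IrrCharacter G → ℂ) :=
  AddSubgroup.closure (mult (M := M) (G := G) '' {j | j * j = j})

theorem mem_multSpan_linear {K : Type u} [Group K] [Fintype K] (hK : ¬ p ∣ Nat.card K)
    (ι : K →* G) (ν : K →* ℂˣ) :
    (fun χ : IrrCharacter G => classInner (fun k => (ν k : ℂ)) (fun k => (χ : G → ℂ) (ι k))) ∈
      multSpan M G := by
  classical
  have hν : ∀ k, MemLocalRing M (ν k : ℂ) := fun k => memLocalRing_of_isIntegral
    (IsIntegral.of_pow (orderOf_pos k)
      (by rw [← Units.val_pow_eq_pow_val, ← map_pow, pow_orderOf_eq_one, map_one, Units.val_one]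
          exact isIntegral_one))
  set c : lring M := ⟨(Nat.card K : ℂ)⁻¹, memLocalRing_inv_natCast hM hK⟩ with hc
  let w : K → lring M := fun k => ⟨(ν k⁻¹ : ℂ), hν _⟩
  set e : MonoidAlgebra (lring M) G := ∑ k : K, single (ι k) (c * w k) with he
  have hw : ∀ k l, w k * w l = w (k * l) := fun k l => Subtype.ext (by
    show (ν k⁻¹ : ℂ) * (ν l⁻¹ : ℂ) = (ν (k * l)⁻¹ : ℂ)
    rw [mul_inv_rev, map_mul, Units.val_mul, mul_comm])
  have hcc : (Nat.card K : lring M) * c = 1 := Subtype.ext (by
    push_cast [hc]
    exact mul_inv_cancel₀ (Nat.cast_ne_zero.2 Nat.card_pos.ne'))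
  have hee : e * e = e := by
    rw [he, Finset.sum_mul]
    simp only [Finset.mul_sum, single_mul_single]
    have h1 : ∀ k : K, ∑ l : K, single (ι k * ι l) (c * w k * (c * w l)) =
        ∑ m : K, single (ι m) (c * (c * w m)) := fun k => by
      refine Fintype.sum_equiv (Equiv.mulLeft k) _ _ fun l => ?_
      simp only [Equiv.coe_mulLeft, map_mul, ← hw]
      congr 1
      ring
    simp only [h1, Finset.sum_const, Finset.card_univ]
    rw [Finset.smul_sum]
    refine Finset.sum_congr rfl fun m _ => ?_
    rw [smul_single, nsmul_eq_mul, ← mul_assoc, ← Nat.card_eq_fintype_card, hcc, one_mul]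
  refine AddSubgroup.subset_closure ⟨redG e, ?_, ?_⟩
  · show redG e * redG e = redG e
    rw [← map_mul, hee]
  · funext χ
    rw [mult_eq hM hee rfl χ, he, tval_sum, CfsgLib.Char.classInner_def, Finset.mul_sum]
    refine Fintype.sum_equiv (Equiv.inv K) _ _ fun k => ?_
    have hs : tval (χ : G → ℂ) 1 (single (ι k) (c * w k)) =
        ((c * w k : lring M) : ℂ) * (χ : G → ℂ) (ι k) := by
      rw [tval, Finset.sum_eq_single (ι k)] <;> simp +contextual [coeff_single, Finsupp.single_apply]
    rw [hs]
    simp [hc, w, map_inv, irr_conj_eq χ.2, mul_assoc]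

theorem mem_multSpan_elementary {C : Type u} [Group C] [Fintype C] {q : ℕ} (hq : q.Prime)
    (hC : Cfsg.IsElementary q C) (hpC : ¬ p ∣ Nat.card C) (ι : C →* G) {η : C → ℂ}
    (hη : IsGeneralizedCharacter C η) :
    (fun χ : IrrCharacter G => classInner η (fun k => (χ : G → ℂ) (ι k))) ∈ multSpan M G := by
  classical
  have hirr : ∀ lam : C → ℂ, IsIrrCharacter C lam →
      (fun χ : IrrCharacter G => classInner lam (fun k => (χ : G → ℂ) (ι k))) ∈ multSpan M G := by
    intro lam hlam
    obtain ⟨K, ν, rfl⟩ := CfsgLib.Char.monomial_of_isCyclicByNilpotent C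
      (CfsgLib.Char.isCyclicByNilpotent_of_isElementary hq hC) lam hlam
    have := Fintype.ofFinite K
    have h := mem_multSpan_linear hM (fun h => hpC (h.trans (Subgroup.card_subgroup_dvd_card K)))
      (ι.comp K.subtype) ν
    convert h using 1
    funext χ
    exact CfsgLib.Char.frobenius_reciprocity K _ _
      (CfsgLib.Char.isCharacter_isClassFunction
        (CfsgLib.Char.isCharacter_comp (CfsgLib.Char.irr_isCharacter χ.2) ι))
  have hchar : ∀ a : C → ℂ, IsCharacter C a →
      (fun χ : IrrCharacter G => classInner a (fun k => (χ : G → ℂ) (ι k))) ∈ multSpan M G := by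
    intro a ha
    obtain ⟨l, hl, rfl⟩ := CfsgLib.Char.isCharacter_exists_multiset ha
    clear ha
    induction l using Multiset.induction with
    | empty =>
      convert (multSpan M G).zero_mem using 1
      funext χ
      simp [CfsgLib.Char.classInner_def]
    | cons a s ih =>
      convert (multSpan M G).add_mem (hirr a (hl a (Multiset.mem_cons_self a s)))
        (ih fun ψ hψ => hl ψ (Multiset.mem_cons_of_mem hψ)) using 1
      funext χ
      simp [CfsgLib.Char.classInner_def, add_mul, Finset.sum_add_distrib, mul_add]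
  obtain ⟨a, b, ha, hb, rfl⟩ := hη
  convert (multSpan M G).sub_mem (hchar a ha) (hchar b hb) using 1
  funext χ
  simp [CfsgLib.Char.classInner_def, sub_mul, Finset.sum_sub_distrib, mul_sub]

/-- **Saturation**: a generalized character vanishing on the singular elements lies in the span of
the multiplicity vectors. -/
theorem mem_multSpan_of_singular {f : G → ℂ} (hf : IsGeneralizedCharacter G f)
    (h0 : ∀ g, p ∣ orderOf g → f g = 0) :
    (fun χ : IrrCharacter G => classInner f (χ : G → ℂ)) ∈ multSpan M G := by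
  classical
  have key : ∀ h ∈ CfsgLib.Char.brauerSpan
      (fun A : Subgroup G => ∃ q : ℕ, q.Prime ∧ Cfsg.IsElementary q A),
      (fun χ : IrrCharacter G => classInner (h * f) (χ : G → ℂ)) ∈ multSpan M G := by
    intro h hh
    induction hh using AddSubgroup.closure_induction with
    | zero =>
      convert (multSpan M G).zero_mem using 1
      funext χ; simp [CfsgLib.Char.classInner_def]
    | add y z _ _ hy hz =>
      convert (multSpan M G).add_mem hy hz using 1
      funext χ; simp [CfsgLib.Char.classInner_def, add_mul, Finset.sum_add_distrib, mul_add]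
    | neg y _ hy =>
      convert (multSpan M G).neg_mem hy using 1
      funext χ; simp [CfsgLib.Char.classInner_def, neg_mul, Finset.sum_neg_distrib, mul_neg]
    | mem x hx =>
      obtain ⟨E, μ, ⟨q, hq, hE⟩, rfl⟩ := hx
      have := Fintype.ofFinite E
      rw [CfsgLib.Char.indFun_mul E _ (CfsgLib.Char.isGeneralized_isClassFunction hf)]
      set θ : E → ℂ := (fun e : E => (μ e : ℂ)) * fun e : E => f e with hθ
      have hθg : IsGeneralizedCharacter E θ := by
        refine CfsgLib.Char.isGeneralized_mul (CfsgLib.Char.isGeneralized_of_isCharacter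
          (CfsgLib.Char.irr_isCharacter (CfsgLib.Char.isIrrCharacter_linear μ))) ?_
        obtain ⟨a, b, ha, hb, rfl⟩ := hf
        exact ⟨_, _, CfsgLib.Char.isCharacter_restrict ha E, CfsgLib.Char.isCharacter_restrict hb E,
          rfl⟩
      haveI : Fact q.Prime := ⟨hq⟩
      haveI hnil : Group.IsNilpotent E := by
        obtain ⟨x, hx, -, k, hk⟩ := hE
        have hle : Subgroup.zpowers x ≤ Subgroup.center E := Subgroup.zpowers_le.2 hx
        haveI : (Subgroup.zpowers x).Normal := ⟨fun n hn g => by
          rw [Subgroup.mem_center_iff.mp (hle hn) g, mul_inv_cancel_right]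
          exact hn⟩
        haveI : Group.IsNilpotent (E ⧸ Subgroup.zpowers x) :=
          (IsPGroup.of_card (p := q) (n := k) (by rw [← Subgroup.index_eq_card, hk])).isNilpotent
        exact Subgroup.isNilpotent_of_ker_le_center (QuotientGroup.mk' (Subgroup.zpowers x))
          (by rwa [QuotientGroup.ker_mk'])
      obtain ⟨P, N, hN, hcomp⟩ :=
        CfsgLib.Complement.hasNormalPComplement_of_isNilpotent (p := p) hnil
      haveI := hN
      have := Fintype.ofFinite N
      haveI : (P : Subgroup E).Normal :=
        Sylow.normal_of_normalizerCondition (Group.normalizerCondition_of_isNilpotent (G := E)) P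
      have hNp : ¬ p ∣ Nat.card N := fun hd => by
        have h1 := CfsgLib.Transfer.coprime_card_of_inf_sylow_eq_bot P hcomp.disjoint.eq_bot
        exact hp.out.coprime_iff_not_dvd.1 h1.symm hd
      have hbij : Function.Bijective ((QuotientGroup.mk' (P : Subgroup E)).comp N.subtype) := by
        constructor
        · rw [← MonoidHom.ker_eq_bot_iff, eq_bot_iff]
          intro x hx
          have h1 : (x : E) ∈ N ⊓ (P : Subgroup E) := ⟨x.2, (QuotientGroup.eq_one_iff _).1 hx⟩
          rw [hcomp.disjoint.eq_bot, Subgroup.mem_bot] at h1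
          exact Subgroup.mem_bot.2 (Subtype.ext h1)
        · intro y
          obtain ⟨x, rfl⟩ := QuotientGroup.mk'_surjective _ y
          obtain ⟨⟨n, s⟩, hns⟩ := hcomp.2 x
          refine ⟨n, ?_⟩
          show QuotientGroup.mk' (P : Subgroup E) (n : E) = QuotientGroup.mk' _ x
          rw [← hns, map_mul]
          simp
      let π : E →* N := (MulEquiv.ofBijective _ hbij).symm.toMonoidHom.comp
        (QuotientGroup.mk' (P : Subgroup E))
      have hπ : ∀ c : N, π c = c := fun c =>
        (MulEquiv.ofBijective _ hbij).symm_apply_apply c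
      have hreg : ∀ x : E, x ∉ N → θ x = 0 := by
        intro x hx
        have hdiv : p ∣ orderOf (x : G) := by
          rw [Subgroup.orderOf_coe]
          by_contra hnd
          apply hx
          rw [← QuotientGroup.eq_one_iff]
          refine orderOf_eq_one_iff.1 (Nat.eq_one_of_dvd_coprimes ?_
            (orderOf_map_dvd (QuotientGroup.mk' N) x) (orderOf_dvd_natCard _))
          rw [← Subgroup.index_eq_card, hcomp.symm.index_eq_card, P.card_eq_multiplicity]
          exact ((hp.out.coprime_iff_not_dvd.2 hnd).symm).pow_right _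
        simp [hθ, h0 _ hdiv]
      have hsum : ∀ ξ : E → ℂ, classInner θ ξ =
          classInner (fun c : N => θ c / (N.index : ℂ)) (fun c : N => ξ c) := by
        intro ξ
        rw [CfsgLib.Char.classInner_def, CfsgLib.Char.classInner_def, Finset.mul_sum,
          Finset.mul_sum, ← Finset.sum_subtype (Finset.univ.filter (· ∈ N)) (p := (· ∈ N)) (by simp)
            (fun x : E => (Nat.card N : ℂ)⁻¹ * (θ x / (N.index : ℂ) * conj (ξ x))),
          Finset.sum_filter]
        refine Finset.sum_congr rfl fun x _ => ?_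
        split_ifs with hx
        · rw [← N.index_mul_card]
          push_cast
          rw [mul_inv]
          ring
        · rw [hreg x hx]; ring
      have hη : IsGeneralizedCharacter N (fun c : N => θ c / (N.index : ℂ)) := by
        refine CfsgLib.Char.isGeneralized_of_int (fun g h => ?_) fun lam hlam => ?_
        · simp only [Subgroup.coe_mul, Subgroup.coe_inv,
            CfsgLib.Char.isGeneralized_isClassFunction hθg (g : E) h]
        · have h1 := hsum (fun x => lam (π x))
          simp only [hπ] at h1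
          rw [← h1]
          exact CfsgLib.Char.classInner_isGeneralized_int hθg
            (CfsgLib.Char.isGeneralized_of_isCharacter
              (CfsgLib.Char.isCharacter_comp (CfsgLib.Char.irr_isCharacter hlam) π))
      have h2 := mem_multSpan_elementary hM hq (CfsgLib.Char.isElementary_subgroup hq hE N) hNp
        (E.subtype.comp N.subtype) hη
      convert h2 using 1
      funext χ
      rw [CfsgLib.Char.frobenius_reciprocity E θ _ (CfsgLib.Char.irr_isClassFunction χ.2), hsum]
      rfl
  have h := key _ (CfsgLib.Char.one_mem_brauerSpan (G := G))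
  have e : (fun _ : G => (1 : ℂ)) * f = f := funext fun g => one_mul _
  rwa [e] at h

end CfsgLib.BlockA.ProjLattice
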