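import Cfsg.Agent.Lib.BlockA.QuatRot
import Cfsg.Agent.Lib.BlockA.DihedralExpansion
import Cfsg.Agent.Lib.BlockA.CentralDefect
import Cfsg.Agent.Lib.BlockA.SectionNonzero

/-!
A block with quaternion defect group: the subsections at the generators of the rotations give an
integral row of norm four which is odd at every character of height zero.
-/

set_option autoImplicit false
set_option linter.unusedSectionVars false
set_option maxHeartbeats 1000000

namespace CfsgLib.BlockA.QuatDefect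

open Cfsg CfsgLib.Block CfsgLib.BlockA CfsgLib.BlockB CfsgLib.BlockB.SubSum
  CfsgLib.BlockB.HeightBound AbelianSub SectionOrth NilpotentSection MonoidAlgebra CfsgLib.Fusion
open scoped ComplexConjugate

universe u

variable {G : Type u} [Group G] [Fintype G] {M : Ideal AlgInt} [M.IsPrime]

/-- Some value of a character of height zero at a section is not in the local ideal. -/
theorem exists_blockPart_not_memLocalIdeal {p : ℕ} (hM : IsPModular p M)
    {B : Set (IrrCharacter G)} {χ : IrrCharacter G} (hχ : χ ∈ B)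
    (h0 : blockHeight p B (χ : G → ℂ) = 0) {x : G} (hx : ∃ k : ℕ, orderOf x = p ^ k)
    {b : Set (IrrCharacter (Subgroup.centralizer ({x} : Set G)))}
    (hb : IsInducedBlock M (Subgroup.centralizer ({x} : Set G)) b B) :
    ∃ y : Subgroup.centralizer ({x} : Set G), ¬ p ∣ orderOf y ∧
      ¬ MemLocalIdeal M (blockPart b
        (fun c : Subgroup.centralizer ({x} : Set G) => (χ : G → ℂ) (x * (c : G))) y) := by
  classical
  have := Fintype.ofFinite (Subgroup.centralizer ({x} : Set G))
  by_contra hne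
  push Not at hne
  set θ : Subgroup.centralizer ({x} : Set G) → ℂ := fun c => (χ : G → ℂ) c with hθdef
  have hθc : IsCharacter _ θ :=
    CfsgLib.Char.isCharacter_restrict (CfsgLib.Char.irr_isCharacter χ.2) _
  have hθ := CfsgLib.Char.isCharacter_isClassFunction hθc
  have hcl : IsClassFunction (Subgroup.centralizer ({x} : Set G))
      (fun c : Subgroup.centralizer ({x} : Set G) => (χ : G → ℂ) (x * (c : G))) :=
    isClassFunction_shift hM hx χ
  obtain ⟨ξ, hξ⟩ := isPBlock_nonempty hb.1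
  have hne0 := (lam_regZ_restrict_ne_zero_iff hM hb hξ χ).2 ⟨hχ, h0⟩
  rw [lam_regZ] at hne0
  refine hne0 ((redC_eq_zero_iff (memLocalRing_omegaC ξ.2 (isLocalCentral_regSum hθc))).2 ?_)
  rw [← omegaC_regSum_blockPart hM hb.1 hθ hξ]
  refine memLocalIdeal_omegaC ξ.2 (regSum_isClassCoeff ?_) fun g => ?_
  · intro g h
    rw [blockPart_eq_sum b hθ, blockPart_eq_sum b hθ]
    refine Fintype.sum_equiv (MulAut.conj h⁻¹).toEquiv _ _ fun k => ?_
    simp only [MulEquiv.toEquiv_eq_coe, MulEquiv.coe_toEquiv, MulAut.conj_apply, inv_inv]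
    congr 1
    · have h2 := blockSum_isClassCoeff b k h⁻¹
      simp only [blockSum, coeff_mkGA, inv_inv] at h2
      exact h2.symm
    · rw [← hθ (h⁻¹ * k * h * g) h]
      congr 1
      group
  · rw [coeff_regSum]
    split_ifs with hg
    · exact memLocalIdeal_zero
    have hg' : ¬ p ∣ orderOf g⁻¹ := by rwa [orderOf_inv]
    have hloc : ∀ (t : G) (k : Subgroup.centralizer ({x} : Set G)),
        MemLocalRing M (blockCoeff b k * (χ : G → ℂ) t) := fun t k =>
      memLocalRing_mul (blockCoeff_memLocalRing hM hb.1 k) (memLocalRing_irr_apply χ t)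
    have hmem : MemLocalRing M (blockPart b θ g⁻¹) := by
      rw [blockPart_eq_sum b hθ]
      exact memLocalRing_sum _ _ fun k _ => hloc _ k
    rw [← redC_eq_zero_iff hmem]
    have hz := hne g⁻¹ hg'
    rw [blockPart_eq_sum b hcl, ← redC_eq_zero_iff (memLocalRing_sum _ _ fun k _ => hloc _ k),
      redC_sum _ _ fun k _ => hloc _ k] at hz
    rw [blockPart_eq_sum b hθ, redC_sum _ _ fun k _ => hloc _ k, ← hz]
    refine Finset.sum_congr rfl fun k _ => ?_
    rw [redC_mul (blockCoeff_memLocalRing hM hb.1 k) (memLocalRing_irr_apply χ _),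
      redC_mul (blockCoeff_memLocalRing hM hb.1 k) (memLocalRing_irr_apply χ _)]
    congr 1
    exact (redC_char_mul_pelement hM (CfsgLib.Char.irr_isCharacter χ.2)
      (Subgroup.mem_centralizer_singleton_iff.1 (k * g⁻¹).2).symm hx).symm

namespace QRot

variable {P : Subgroup G} {r : G} {h : ℕ} (hQ : QRot P r h)
include hQ

/-- In `P` an element of maximal order has only its powers as centralizer. -/
theorem mem_zpowers_of_commute {y w : G} (hy : y ∈ P) (ho : orderOf y = 2 * h) (hw : w ∈ P)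
    (hc : Commute w y) : w ∈ Subgroup.zpowers y := by
  have := hQ.two_le
  by_cases hyr : y ∈ Subgroup.zpowers r
  · have hgen : Subgroup.zpowers y = Subgroup.zpowers r :=
      Subgroup.eq_of_le_of_card_ge (Subgroup.zpowers_le.2 hyr)
        (by rw [Nat.card_zpowers, Nat.card_zpowers, ho, hQ.orderOf_eq])
    obtain ⟨i, hi⟩ := Subgroup.mem_zpowers_iff.1
      (hgen.symm ▸ Subgroup.mem_zpowers r : r ∈ Subgroup.zpowers y)
    rw [hgen]
    refine hQ.mem_of_commute hw (l := 1) (fun h1 => ?_) (by rw [pow_one, ← hi]; exact hc.zpow_right i)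
    have := Nat.le_of_dvd Nat.one_pos h1
    omega
  · obtain ⟨hyy, -⟩ := hQ.outside y hy hyr
    have hsmall : ∀ v ∈ Subgroup.zpowers r, Commute v y → v ∈ Subgroup.zpowers y := by
      intro v hv hvy
      obtain ⟨i, rfl⟩ := Subgroup.mem_zpowers_iff.1 hv
      have h1 : y * r ^ i * y⁻¹ = (r ^ i)⁻¹ := by
        rw [← conj_zpow, (hQ.outside y hy hyr).2, inv_zpow]
      rw [← hvy.eq, mul_inv_cancel_right] at h1
      have h2 : r ^ (i + i) = 1 := by
        rw [zpow_add]
        nth_rw 1 [h1]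
        exact inv_mul_cancel _
      rw [← orderOf_dvd_iff_zpow_eq_one, hQ.orderOf_eq] at h2
      obtain ⟨d, hd⟩ := h2
      push_cast at hd
      rcases Int.even_or_odd' d with ⟨e, rfl | rfl⟩
      · rw [show r ^ i = 1 from orderOf_dvd_iff_zpow_eq_one.1
          (by rw [hQ.orderOf_eq]; exact ⟨e, by push_cast; linarith⟩)]
        exact one_mem _
      · rw [show r ^ i = y * y from ?_]
        · exact mul_mem (Subgroup.mem_zpowers _) (Subgroup.mem_zpowers _)
        rw [hyy, ← zpow_natCast r h, zpow_eq_zpow_iff_modEq, hQ.orderOf_eq, Int.modEq_iff_dvd]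
        exact ⟨-e, by push_cast; linarith⟩
    by_cases hwr : w ∈ Subgroup.zpowers r
    · exact hsmall w hwr hc
    · have h1 := hsmall _ (hQ.mul_inv_mem hw hy hwr hyr)
        ((hc.mul_left (Commute.refl y).inv_left))
      have h2 := mul_mem h1 (Subgroup.mem_zpowers y)
      rwa [inv_mul_cancel_right] at h2

end QRot

variable {B : Set (IrrCharacter G)} {P : Subgroup G}
  {c : Set (IrrCharacter (Subgroup.centralizer (P : Set G)))} {r : G} {h : ℕ}

/-- The combination of the multiplicities with the powers of the central roots. -/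
noncomputable def rowW (r : G) (b : Set (IrrCharacter (Subgroup.centralizer ({r} : Set G))))
    (χ : IrrCharacter G) (l : ℕ) : ℂ :=
  ∑ θ ∈ b.toFinite.toFinset, (resMult r χ θ : ℂ) * centralRoot r θ ^ l

open Classical in
/-- The sign attached to a root. -/
noncomputable def rootSign (ω : ℂ) : ℤ := if ω = -1 then 1 else if ω = 1 then -1 else 0

/-- The integral row. -/
noncomputable def rowU (r : G) (b : Set (IrrCharacter (Subgroup.centralizer ({r} : Set G))))
    (χ : IrrCharacter G) : ℤ :=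
  ∑ θ ∈ b.toFinite.toFinset, (resMult r χ θ : ℤ) * rootSign (centralRoot r θ)

variable (hM : IsPModular 2 M) (hmax : IsMaximalBrauerPair 2 M B P c) (hQ : QRot P r h)
include hM hmax hQ

theorem defect_eq_zpowers {b : Set (IrrCharacter (Subgroup.centralizer ({r} : Set G)))}
    (hb : IsInducedBlock M (Subgroup.centralizer ({r} : Set G)) b B)
    {D : Subgroup (Subgroup.centralizer ({r} : Set G))} (hD : IsDefectGroup 2 M b D) :
    D = (Subgroup.zpowers r).subgroupOf (Subgroup.centralizer ({r} : Set G)) := by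
  classical
  have hrT : r ∈ (Subgroup.centralizer ({r} : Set G)) := Subgroup.mem_centralizer_singleton_iff.2 rfl
  have hc : ∀ t : (Subgroup.centralizer ({r} : Set G)), (t : G) * r = r * (t : G) := fun t =>
    Subgroup.mem_centralizer_singleton_iff.1 t.2
  set R := (Subgroup.zpowers r).subgroupOf (Subgroup.centralizer ({r} : Set G)) with hRdef
  have hRle : Subgroup.zpowers r ≤ (Subgroup.centralizer ({r} : Set G)) := Subgroup.zpowers_le.2 hrT
  have hn : R.Normal := ⟨fun n hn g => by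
    obtain ⟨i, hi⟩ := Subgroup.mem_subgroupOf.1 hn
    refine Subgroup.mem_subgroupOf.2 ⟨i, ?_⟩
    push_cast
    rw [← hi, ((Commute.zpow_right (show Commute (g : G) r from hc g)) i).eq,
      mul_inv_cancel_right]⟩
  have hRp : IsPGroup 2 R := (hQ.isTwoGroup.to_le hQ.zpowers_le).of_equiv
    (Subgroup.subgroupOfEquivOfLe hRle).symm
  have hRD : R ≤ D := normal_le_defectGroup hM hRp hb.1 hD
  refine le_antisymm ?_ hRD
  obtain ⟨E, hE, hDE⟩ := exists_map_subtype_le_defect hM hb hD
  obtain ⟨x, hx⟩ := defectGroup_exists_conj hM hmax.1.2.1 (maximal_core hM hmax).1 hE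
  intro d hd
  have hrE : r ∈ E := hDE ⟨⟨r, hrT⟩, hRD (Subgroup.mem_zpowers r), rfl⟩
  have hdE : (d : G) ∈ E := hDE ⟨d, hd, rfl⟩
  rw [hx, mem_map_conj_iff] at hrE hdE
  have hord : orderOf (x⁻¹ * r * x) = 2 * h := by
    rw [← hQ.orderOf_eq]
    have := MulEquiv.orderOf_eq (MulAut.conj x⁻¹) r
    simpa using this
  have hwy : Commute (x⁻¹ * (d : G) * x) (x⁻¹ * r * x) := by
    show _ = _
    calc x⁻¹ * (d : G) * x * (x⁻¹ * r * x) = x⁻¹ * ((d : G) * r) * x := by group
      _ = _ := by rw [hc d]; group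
  obtain ⟨i, hi⟩ := hQ.mem_zpowers_of_commute hrE hord hdE hwy
  refine Subgroup.mem_subgroupOf.2 ⟨i, ?_⟩
  calc r ^ i = x * (x⁻¹ * r * x) ^ i * x⁻¹ := by
        rw [← conj_zpow]
        congr 1
        group
    _ = (d : G) := by
        rw [show (x⁻¹ * r * x) ^ i = x⁻¹ * (d : G) * x from hi]
        group

theorem beta_odd {l : ℕ} (hl : Odd l) : beta hM hmax (r ^ l) = beta hM hmax r := by
  obtain ⟨f, hf, hfle⟩ := AbelianSub.exists_below hM hmax hQ.mem
  rw [← beta_eq_of_below hM hmax hQ.mem rfl hfle,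
    ← beta_eq_of_below hM hmax (P.pow_mem hQ.mem l) (hQ.zpowers_odd hl).symm hfle]

/-- The subsections at the rotations are fused only to their inverses. -/
theorem fus_rot {a : G} {l m : ℕ} (hd : ¬ h ∣ l) (hl : l < 2 * h)
    (hm : m < 2 * h) (ha : a * r ^ l * a⁻¹ = r ^ m)
    (hβ : conjFun a (beta hM hmax (r ^ l)) = beta hM hmax (r ^ m)) :
    m = l ∨ m = 2 * h - l := by
  classical
  have := Fact.mk hM.1
  have he := hmax.1.1
  have hl0 : 0 < l := Nat.pos_of_ne_zero fun e => hd (e ▸ dvd_zero h)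
  have ho : orderOf (r ^ l) = orderOf (r ^ m) := by
    rw [← ha]
    exact (MulEquiv.orderOf_eq (MulAut.conj a) _).symm
  set Q := Subgroup.zpowers (r ^ l) with hQdef
  have hQle : Q ≤ P := Subgroup.zpowers_le.2 (P.pow_mem hQ.mem l)
  have hQm : Subgroup.zpowers (r ^ m) = Q := by
    have key : ∀ k : ℕ, Subgroup.zpowers (r ^ k) = Subgroup.zpowers (r ^ Nat.gcd (orderOf r) k) := by
      intro k
      obtain ⟨q, hq⟩ := Nat.gcd_dvd_right (orderOf r) k
      refine Subgroup.eq_of_le_of_card_ge (Subgroup.zpowers_le.2 ?_) ?_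
      · rw [show r ^ k = (r ^ Nat.gcd (orderOf r) k) ^ q by rw [← pow_mul, ← hq]]
        exact Subgroup.npow_mem_zpowers _ q
      · rw [Nat.card_zpowers, Nat.card_zpowers, orderOf_pow, orderOf_pow,
          Nat.gcd_eq_right (Nat.gcd_dvd_left (orderOf r) k)]
    have hg : Nat.gcd (orderOf r) l = Nat.gcd (orderOf r) m := by
      rw [orderOf_pow, orderOf_pow] at ho
      have hpos := orderOf_pos r
      have e1 := Nat.div_mul_cancel (Nat.gcd_dvd_left (orderOf r) l)
      have e2 := Nat.div_mul_cancel (Nat.gcd_dvd_left (orderOf r) m)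
      rw [← ho] at e2
      refine Nat.eq_of_mul_eq_mul_left (Nat.pos_of_ne_zero fun e => ?_) (e1.trans e2.symm)
      rw [e, zero_mul] at e1
      omega
    rw [hQdef, key m, key l, hg]
  have hmap : Q.map (MulAut.conj a).toMonoidHom = Q := by
    rw [hQdef, MonoidHom.map_zpowers]
    show Subgroup.zpowers (a * r ^ l * a⁻¹) = _
    rw [ha, hQm]
  obtain ⟨f, hf, hfle⟩ := AbelianSub.exists_below hM hmax (P.pow_mem hQ.mem l)
  have hfb := isBrauerPair_of_subpairLE he hfle
  have hfb' : subgroupBlockCoeff (Subgroup.centralizer (Q : Set G)) f = beta hM hmax (r ^ m) :=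
    beta_eq_of_below hM hmax (P.pow_mem hQ.mem m) hQm.symm hfle
  have hfl : subgroupBlockCoeff (Subgroup.centralizer (Q : Set G)) f = beta hM hmax (r ^ l) :=
    beta_eq_of_below hM hmax (P.pow_mem hQ.mem l) rfl hfle
  have hidx : (⟨Q.map (MulAut.conj a).toMonoidHom, conjBlock Q a f⟩ : BrauerPairIdx G) =
      ⟨Q, f⟩ := by
    refine pairIdx_ext hM hmap (isBrauerPair_conj hM hfb a).2 hfb.2 ?_
    ext g
    rw [coeff_sIdem_conjBlock hM]
    have hcoef : ∀ (H : Subgroup G) (c : Set (IrrCharacter H)) (g : G),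
        (sIdem M H c).coeff g = redC M (subgroupBlockCoeff H c g) := by
      intro H c g
      by_cases hg : g ∈ H
      · rw [show g = ((⟨g, hg⟩ : H) : G) from rfl, sIdem, coeff_inclSub_of_mem, coeff_blkIdem,
          subgroupBlockCoeff, dif_pos hg]
      · rw [sIdem, coeff_inclSub_of_not_mem _ _ hg, subgroupBlockCoeff, dif_neg hg, redC_zero]
    rw [hcoef, hcoef]
    conv_rhs => rw [hfb', ← hβ, ← hfl]
    rfl
  have hfus : IsFus 2 M P c Q a := by
    refine ⟨hmap.le.trans hQle, f, hfle, ?_⟩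
    unfold SubpairLE at hfle ⊢
    rwa [hidx]
  have haN : a ∈ Subgroup.normalizer (Q : Set G) := mem_normalizer_of_map_le hmap.le
  set F := blockFusion hM he
  have hF := isBlockFusionSystemOn_blockFusion hM hmax
  have hS : IsPGroup 2 P := he.1
  have hcase : ∀ w ∈ P, w * r ^ l * w⁻¹ = r ^ l ∨ w * r ^ l * w⁻¹ = (r ^ l)⁻¹ := fun w hw => by
    by_cases hwr : w ∈ Subgroup.zpowers r
    · left
      obtain ⟨i, rfl⟩ := hwr
      rw [((Commute.refl r).zpow_left i).pow_right l |>.eq, mul_inv_cancel_right]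
    · exact Or.inr (hQ.conj_pow_eq hw hwr l)
  have hPN : P ≤ Subgroup.normalizer (Q : Set G) := fun w hw => by
    refine mem_normalizer_of_map_le ?_
    rw [hQdef, MonoidHom.map_zpowers]
    refine Subgroup.zpowers_le.2 ?_
    show w * r ^ l * w⁻¹ ∈ Subgroup.zpowers (r ^ l)
    rcases hcase w hw with e | e <;> rw [e]
    exacts [Subgroup.mem_zpowers _, inv_mem (Subgroup.mem_zpowers _)]
  have hFN : F.IsFullyNormalized Q := by
    refine ⟨hQle, fun R _ => ?_⟩
    rw [show FusionSystem.normalizerIn P Q = P from inf_eq_left.2 hPN]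
    exact Subgroup.card_le_of_le inf_le_left
  let α : MulAut Q := Q.normalizerMonoidHom ⟨a, haN⟩
  have hα : α ∈ F.autGroup Q := by
    refine (autGroup_iff_isMap hQle (f := fun x => a * x * a⁻¹) fun x => rfl).2 ?_
    exact (isMap_iff hM hF).2 ⟨hQle, a, fun _ _ => rfl, hfus⟩
  obtain ⟨T, hT⟩ := (fullyAutomized_of_fullyNormalized hS (isSaturated_block hM hF) hFN).2
  have hAut : IsPGroup 2 (F.autGroup Q) := by
    have : IsCyclic Q := Subgroup.isCyclic_zpowers _
    obtain ⟨i, hi⟩ := hQ.exists_two_pow l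
    have hc : Nat.card Q = 2 ^ i := by rw [hQdef, Nat.card_zpowers, hi]
    refine IsPGroup.to_subgroup ?_ _
    rcases i with _ | i
    · rw [pow_zero, orderOf_eq_one_iff] at hi
      exact absurd hi (hQ.pow_ne_one hl0 hl)
    · refine IsPGroup.of_card (n := i) ?_
      rw [IsCyclic.card_mulAut, hc, Nat.totient_prime_pow_succ Nat.prime_two]
      simp
  have htop : (T : Subgroup (F.autGroup Q)) = ⊤ :=
    T.is_maximal' (hAut.of_equiv Subgroup.topEquiv.symm) le_top |>.symm
  have hmem : (⟨α, hα⟩ : F.autGroup Q) ∈ (T : Subgroup (F.autGroup Q)) :=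
    htop ▸ Subgroup.mem_top _
  rw [hT, Subgroup.mem_subgroupOf] at hmem
  let g₀ : Q := ⟨r ^ l, Subgroup.mem_zpowers _⟩
  have hpm : α g₀ = g₀ ∨ α g₀ = g₀⁻¹ := by
    have key : ∀ β ∈ autInducedBy P Q, β g₀ = g₀ ∨ β g₀ = g₀⁻¹ := by
      intro β hβ'
      induction hβ' using Subgroup.closure_induction with
      | mem β hβ' =>
        obtain ⟨w, hw, hwβ⟩ := hβ'
        rcases hcase w hw with e | e
        · exact Or.inl (Subtype.ext (by rw [hwβ]; exact e))
        · exact Or.inr (Subtype.ext (by rw [hwβ]; exact e))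
      | one => exact Or.inl rfl
      | mul β γ _ _ hb hg =>
        rw [MulAut.mul_apply]
        rcases hg with hg | hg <;> rw [hg] <;> rcases hb with hb | hb <;> simp [hb]
      | inv β _ hb =>
        rcases hb with hb | hb
        · exact Or.inl (β.injective (by simp [hb]))
        · exact Or.inr (β.injective (by simp [hb]))
    exact key α hmem
  rcases hpm with e | e
  · left
    have e' : a * r ^ l * a⁻¹ = r ^ l := congrArg Subtype.val e
    rw [ha] at e'
    exact hQ.pow_inj hm hl e'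
  · right
    have e' : a * r ^ l * a⁻¹ = (r ^ l)⁻¹ := congrArg Subtype.val e
    rw [ha, ← hQ.pow_sub hl.le] at e'
    exact hQ.pow_inj hm (by omega) e'

/-- **The integral row at the generators of the rotations.** -/
theorem exists_odd_row : ∃ u : IrrCharacter G → ℤ,
    (∑ χ ∈ B.toFinite.toFinset, u χ * u χ = 4) ∧
      ∀ χ ∈ B, blockHeight 2 B (χ : G → ℂ) = 0 → Odd (u χ) := by
  classical
  have := Fact.mk hM.1
  have hh0 := hQ.h_pos
  set T := Subgroup.centralizer ({r} : Set G) with hTdef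
  have := Fintype.ofFinite T
  have := Fintype.ofFinite (IrrCharacter G)
  have hr2 : ∃ k : ℕ, orderOf r = 2 ^ k := by simpa using hQ.exists_two_pow 1
  obtain ⟨b, hb, hbβ⟩ := exists_block_below hM hmax hQ.mem (K := T) rfl
  set s := b.toFinite.toFinset with hs
  obtain ⟨θ₀, hθ₀⟩ := isPBlock_nonempty hb.1
  obtain ⟨D, hD⟩ := exists_isDefectGroup (p := 2) hM hb.1
  have hDeq := defect_eq_zpowers hM hmax hQ hb hD
  have hDZ : D ≤ Subgroup.center T := by
    rw [hDeq]
    intro x hx
    obtain ⟨i, hi⟩ := Subgroup.mem_subgroupOf.1 hx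
    refine Subgroup.mem_center_iff.2 fun t => Subtype.ext ?_
    push_cast
    rw [← hi]
    exact (Commute.zpow_right (Subgroup.mem_centralizer_singleton_iff.1 t.2) i).eq
  have hDcard : Nat.card D = 2 * h := by
    rw [hDeq, Nat.card_congr (Subgroup.subgroupOfEquivOfLe
      (Subgroup.zpowers_le.2 (Subgroup.mem_centralizer_singleton_iff.2 rfl))).toEquiv,
      hQ.natCard_rot]
  have hscard : s.card = 2 * h := by
    rw [hs, ← Nat.card_eq_card_finite_toFinset, natCard_block_of_central_defect hM hb.1 hD hDZ,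
      hDcard]
  have hreg : ∀ θ ∈ s, ∀ y : T, ¬ 2 ∣ orderOf y → (θ : T → ℂ) y = (θ₀ : T → ℂ) y :=
    fun θ hθ y hy => regular_eq_of_central_defect hM hb.1 hD hDZ (b.toFinite.mem_toFinset.1 hθ)
      hθ₀ hy
  have h1T : ¬ 2 ∣ orderOf (1 : T) := by rw [orderOf_one]; norm_num
  set d : ℂ := (θ₀ : T → ℂ) 1 with hd
  have hd0 : d ≠ 0 := CfsgLib.Char.irr_apply_one_ne_zero θ₀.2
  have hdr : conj d = d := by rw [hd, ← CfsgLib.BlockB.irr_degree_cast, Complex.conj_natCast]
  set ω : IrrCharacter T → ℂ := fun θ => centralRoot r θ with hω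
  set mult : IrrCharacter G → IrrCharacter T → ℕ := fun χ θ => resMult r χ θ with hmult
  let rT : T := ⟨r, Subgroup.mem_centralizer_singleton_iff.2 rfl⟩
  have hspec := fun θ : IrrCharacter T => centralRoot_spec hM hr2 θ
  have hωpow : ∀ θ, ω θ ^ (2 * h) = 1 := fun θ => hQ.orderOf_eq ▸ (hspec θ).2.1
  have hωconj : ∀ θ, ω θ * conj (ω θ) = 1 := fun θ => by
    rw [hω, Complex.mul_conj', (hspec θ).1]; simp
  have hshiftθ : ∀ (θ : IrrCharacter T) (l : ℕ) (v : T),
      (θ : T → ℂ) (rT ^ l * v) = ω θ ^ l * (θ : T → ℂ) v := by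
    intro θ l
    induction l with
    | zero => intro v; simp
    | succ l ih =>
      intro v
      rw [pow_succ, mul_assoc, ih, (hspec θ).2.2, pow_succ]
      simp only [hω]
      ring
  have hinner : ∀ (χ : IrrCharacter G) (θ : IrrCharacter T) (l : ℕ),
      classInner (fun t : T => (χ : G → ℂ) (r ^ l * (t : G))) (θ : T → ℂ) =
        ω θ ^ l * (mult χ θ : ℂ) := by
    intro χ θ l
    rw [hmult, ← resMult_cast hM hr2, CfsgLib.Char.classInner_def, CfsgLib.Char.classInner_def,
      mul_left_comm]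
    congr 1
    rw [Finset.mul_sum]
    refine Fintype.sum_equiv (Equiv.mulLeft (rT ^ l)) _ _ fun t => ?_
    simp only [Equiv.coe_mulLeft, Subgroup.coe_mul, hshiftθ, map_mul, map_pow]
    have h4 : ω θ ^ l * conj (ω θ) ^ l = 1 := by rw [← mul_pow, hωconj, one_pow]
    rw [show ((rT ^ l : T) : G) = r ^ l from by push_cast; rfl]
    linear_combination -((χ : G → ℂ) (r ^ l * (t : G)) * conj ((θ : T → ℂ) t)) * h4
  have hpart : ∀ (χ : IrrCharacter G) (l : ℕ) (t : T), ¬ 2 ∣ orderOf t →
      blockPart b (fun k : T => (χ : G → ℂ) (r ^ l * (k : G))) t =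
        rowW r b χ l * (θ₀ : T → ℂ) t := by
    intro χ l t ht
    rw [blockPart, finsum_mem_eq_finite_toFinset_sum _ b.toFinite, rowW, Finset.sum_mul]
    refine Finset.sum_congr rfl fun θ hθ => ?_
    rw [show (Fintype.ofFinite T) = (inferInstance : Fintype T) from Subsingleton.elim _ _,
      hinner, hreg θ hθ t ht]
    ring
  -- the reflection
  obtain ⟨w, hwP, hwr⟩ := hQ.exists_outside
  obtain ⟨hww, hwconj⟩ := hQ.outside w hwP hwr
  have hwr' : w⁻¹ * r * w = r⁻¹ := by
    have := hQ.conj_pow_eq (inv_mem hwP) (fun e => hwr (inv_mem_iff.1 e)) 1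
    simpa using this
  have hnorm : ∀ {t : G}, t ∈ T → w * t * w⁻¹ ∈ T ∧ w⁻¹ * t * w ∈ T := by
    intro t ht
    have hc : Commute t r := Subgroup.mem_centralizer_singleton_iff.1 ht
    refine ⟨Subgroup.mem_centralizer_singleton_iff.2 ?_,
      Subgroup.mem_centralizer_singleton_iff.2 ?_⟩
    · calc w * t * w⁻¹ * r = w * (t * (w⁻¹ * r * w)) * w⁻¹ := by group
        _ = w * ((w⁻¹ * r * w) * t) * w⁻¹ := by rw [hwr', hc.inv_right.eq]
        _ = r * (w * t * w⁻¹) := by group
    · calc w⁻¹ * t * w * r = w⁻¹ * (t * (w * r * w⁻¹)) * w := by group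
        _ = w⁻¹ * ((w * r * w⁻¹) * t) * w := by rw [hwconj, hc.inv_right.eq]
        _ = r * (w⁻¹ * t * w) := by group
  let φ : T ≃* T :=
    { toFun := fun t => ⟨w⁻¹ * (t : G) * w, (hnorm t.2).2⟩
      invFun := fun t => ⟨w * (t : G) * w⁻¹, (hnorm t.2).1⟩
      left_inv := fun t => Subtype.ext (by simp [mul_assoc])
      right_inv := fun t => Subtype.ext (by simp [mul_assoc])
      map_mul' := fun s t => Subtype.ext (by simp [mul_assoc]) }
  have hcoeff : subgroupBlockCoeff T (blockMap φ b) = subgroupBlockCoeff T b := by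
    have h1 : conjFun w (beta hM hmax r) = beta hM hmax r := by
      rw [(beta_stab hM hmax hQ.mem (le_pairStab (M := M) P c hwP)).2, hwconj,
        show r⁻¹ = r ^ (2 * h - 1) by rw [hQ.pow_sub (by omega), pow_one],
        beta_odd hM hmax hQ ⟨h - 1, by omega⟩]
    rw [← hbβ] at h1
    refine Eq.trans ?_ h1
    funext k
    unfold conjFun subgroupBlockCoeff
    by_cases hk : k ∈ T
    · rw [dif_pos hk, dif_pos (hnorm hk).2, blockCoeff_blockMap]
      rfl
    · rw [dif_neg hk, dif_neg fun h2 => hk ?_]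
      simpa [mul_assoc] using (hnorm h2).1
  have hφb : blockMap φ b = b :=
    subgroupBlockCoeff_injective hM (isPBlock_blockMap φ hb.1) hb.1 hcoeff
  have hφs : ∀ θ ∈ s, irrMap φ θ ∈ s := fun θ hθ => by
    rw [hs, Set.Finite.mem_toFinset] at hθ ⊢
    rw [← hφb]
    exact ⟨θ, hθ, rfl⟩
  have hφφ : ∀ θ, irrMap φ (irrMap φ θ) = θ := fun θ => Subtype.ext (funext fun t => by
    show (θ : T → ℂ) (φ (φ t)) = (θ : T → ℂ) t
    refine congrArg (θ : T → ℂ) (Subtype.ext ?_)
    show w⁻¹ * (w⁻¹ * (t : G) * w) * w = t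
    have hc : Commute (t : G) (w * w) := by
      rw [hww]
      exact (show Commute (t : G) r from Subgroup.mem_centralizer_singleton_iff.1 t.2).pow_right h
    calc w⁻¹ * (w⁻¹ * (t : G) * w) * w = (w * w)⁻¹ * ((t : G) * (w * w)) := by group
      _ = t := by rw [hc.eq, inv_mul_cancel_left])
  have hφω : ∀ θ, ω (irrMap φ θ) = conj (ω θ) := fun θ => by
    show _ / _ = conj (_ / _)
    rw [map_div₀, irr_conj_eq θ.2, irr_conj_eq θ.2, inv_one, irrMap_apply, irrMap_apply, map_one]
    rw [show φ ⟨r, Subgroup.mem_centralizer_singleton_iff.2 rfl⟩ =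
      (⟨r, Subgroup.mem_centralizer_singleton_iff.2 rfl⟩ : T)⁻¹ from Subtype.ext hwr']
  have hφmult : ∀ χ θ, mult χ (irrMap φ θ) = mult χ θ := fun χ θ => by
    refine Nat.cast_injective (R := ℂ) ?_
    simp only [hmult]
    rw [← resMult_cast hM hr2, ← resMult_cast hM hr2, CfsgLib.Char.classInner_def,
      CfsgLib.Char.classInner_def]
    congr 1
    refine Fintype.sum_equiv φ.toEquiv _ _ fun t => ?_
    simp only [irrMap_apply, MulEquiv.toEquiv_eq_coe, MulEquiv.coe_toEquiv]
    congr 1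
    show _ = (χ : G → ℂ) (w⁻¹ * (t : G) * w)
    conv_rhs => rw [show w⁻¹ * (t : G) * w = w⁻¹ * (t : G) * w⁻¹⁻¹ by rw [inv_inv]]
    rw [CfsgLib.Char.irr_isClassFunction χ.2]
  have hWreal : ∀ χ l, conj (rowW r b χ l) = rowW r b χ l := by
    intro χ l
    rw [rowW, map_sum]
    refine Finset.sum_nbij' (irrMap φ) (irrMap φ) hφs hφs (fun θ _ => hφφ θ) (fun θ _ => hφφ θ)
      fun θ _ => ?_
    show conj ((mult χ θ : ℂ) * ω θ ^ l) = (mult χ (irrMap φ θ) : ℂ) * ω (irrMap φ θ) ^ l
    rw [hφmult, hφω, map_mul, map_pow, Complex.conj_natCast]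
  have hWsymm : ∀ χ l, l ≤ 2 * h → rowW r b χ (2 * h - l) = rowW r b χ l := by
    intro χ l hl
    refine Eq.trans ?_ (hWreal χ l)
    rw [rowW, rowW, map_sum]
    refine Finset.sum_congr rfl fun θ _ => ?_
    show (mult χ θ : ℂ) * ω θ ^ (2 * h - l) = conj ((mult χ θ : ℂ) * ω θ ^ l)
    rw [map_mul, map_pow, Complex.conj_natCast]
    congr 1
    have hne : ω θ ^ l ≠ 0 := pow_ne_zero _ fun e => by simpa [e] using hωconj θ
    refine mul_left_cancel₀ hne ?_
    rw [← mul_pow, hωconj, one_pow, ← pow_add, Nat.add_sub_cancel' hl, hωpow]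
  -- orthogonality
  have key : ∀ (T' : Subgroup G), T' = T → ∃ b' : Set (IrrCharacter T'),
      IsInducedBlock M T' b' B ∧ subgroupBlockCoeff T' b' = beta hM hmax r ∧
      (∀ (χ : IrrCharacter G) (l : ℕ),
        blockPart b' (fun k : T' => (χ : G → ℂ) (r ^ l * (k : G))) 1 = rowW r b χ l * d) ∧
      ∑ θ ∈ b'.toFinite.toFinset, conj ((θ : T' → ℂ) 1) * (θ : T' → ℂ) 1 =
        ((2 * h : ℕ) : ℂ) * (d * d) := by
    rintro _ rfl
    refine ⟨b, hb, hbβ, fun χ l => hpart χ l 1 h1T, ?_⟩
    rw [Finset.sum_congr rfl (g := fun _ => d * d) fun θ hθ => by rw [hreg θ hθ 1 h1T, ← hd, hdr],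
      Finset.sum_const, nsmul_eq_mul, ← hs, hscard]
  have h1 : ∀ (H : Subgroup G), ¬ 2 ∣ orderOf (1 : H) := fun H => by rw [orderOf_one]; norm_num
  have hTl : ∀ {l : ℕ}, Odd l → Subgroup.centralizer ({r ^ l} : Set G) = T := fun hl => by
    rw [hTdef, ← cen_zpowers, ← cen_zpowers, hQ.zpowers_odd hl]
  have horth : ∀ l m, Odd l → Odd m → l < 2 * h → m < 2 * h →
      ∑ χ ∈ B.toFinite.toFinset, rowW r b χ l * rowW r b χ m =
        if m = l ∨ m = 2 * h - l then ((2 * h : ℕ) : ℂ) else 0 := by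
    intro l m hlo hmo hl hm
    refine mul_right_cancel₀ (mul_ne_zero hd0 hd0) ?_
    obtain ⟨b₁, hb₁, hb₁β, hbp₁, hn₁⟩ := key _ (hTl hlo)
    split_ifs with hpm
    · have he : ∀ χ, rowW r b χ m = rowW r b χ l := fun χ => by
        rcases hpm with rfl | rfl
        · rfl
        · exact hWsymm χ l hl.le
      have h2 := sum_bp_same hM (hQ.exists_two_pow l) hb₁.2.1 hb₁ hb₁.1 (h1 _) (h1 _)
      rw [if_pos rfl, hn₁] at h2
      rw [← h2, Finset.sum_mul]
      refine Finset.sum_congr rfl fun χ _ => ?_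
      rw [bp, hbp₁, he, map_mul, hWreal, hdr]
      ring
    · obtain ⟨b₂, hb₂, hb₂β, hbp₂, -⟩ := key _ (hTl hmo)
      have h2 := DihedralDefect.sum_bp_eq_zero_of_ne hM hmax (hQ.exists_two_pow l)
        (hQ.exists_two_pow m) hb₁ hb₂ fun a ha e => hpm (fus_rot hM hmax hQ (fun e => (Nat.not_odd_iff_even.2 (even_iff_two_dvd.2 (hQ.h_even.two_dvd.trans e))) hlo) hl hm ha
          (by rw [beta_odd hM hmax hQ hlo, beta_odd hM hmax hQ hmo, ← hb₁β, e, hb₂β, ← hb₁β]))
      rw [zero_mul, ← h2, Finset.sum_mul]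
      refine Finset.sum_congr rfl fun χ _ => ?_
      rw [bp, bp, hbp₁, hbp₂, map_mul, hWreal, hdr]
      ring
  -- the row
  have hgeom : ∀ θ, ∑ j ∈ Finset.range h, ω θ ^ (2 * j + 1) =
      -((h : ℂ) * (rootSign (ω θ) : ℂ)) := by
    intro θ
    have hp : ∀ j, ω θ ^ (2 * j + 1) = (ω θ ^ 2) ^ j * ω θ := fun j => by rw [pow_succ, pow_mul]
    simp only [hp, ← Finset.sum_mul]
    by_cases h1' : ω θ = -1
    · rw [rootSign, if_pos h1', h1']
      simp
    by_cases h2' : ω θ = 1
    · rw [rootSign, if_neg h1', if_pos h2', h2']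
      simp
    rw [rootSign, if_neg h1', if_neg h2', geom_sum_eq (fun e => ?_), ← pow_mul, hωpow, sub_self,
      zero_div, zero_mul]
    · simp
    · rcases mul_self_eq_one_iff.1 ((pow_two (ω θ)).symm.trans e) with e | e
      exacts [h2' e, h1' e]
  have hU : ∀ χ, (h : ℂ) * (rowU r b χ : ℂ) =
      -∑ j ∈ Finset.range h, rowW r b χ (2 * j + 1) := by
    intro χ
    simp only [rowW]
    rw [Finset.sum_comm, rowU]
    push_cast
    rw [Finset.mul_sum, ← Finset.sum_neg_distrib]
    refine Finset.sum_congr rfl fun θ _ => ?_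
    rw [← Finset.mul_sum, show ∑ j ∈ Finset.range h, centralRoot r θ ^ (2 * j + 1) =
      -((h : ℂ) * (rootSign (centralRoot r θ) : ℂ)) from hgeom θ]
    ring
  refine ⟨rowU r b, ?_, fun χ hχ h0 => ?_⟩
  · have hinner' : ∀ i ∈ Finset.range h, ∑ j ∈ Finset.range h,
        ∑ χ ∈ B.toFinite.toFinset, rowW r b χ (2 * i + 1) * rowW r b χ (2 * j + 1) =
          ((4 * h : ℕ) : ℂ) := by
      intro i hi
      have hi' := Finset.mem_range.1 hi
      rw [Finset.sum_congr rfl fun j hj => horth _ _ ⟨i, rfl⟩ ⟨j, rfl⟩ (by omega)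
        (by have := Finset.mem_range.1 hj; omega)]
      rw [← Finset.sum_filter, Finset.sum_const, nsmul_eq_mul]
      have e : (Finset.range h).filter
          (fun j => 2 * j + 1 = 2 * i + 1 ∨ 2 * j + 1 = 2 * h - (2 * i + 1)) = {i, h - 1 - i} := by
        ext j
        simp only [Finset.mem_filter, Finset.mem_range, Finset.mem_insert, Finset.mem_singleton]
        omega
      rw [e, Finset.card_pair (by obtain ⟨k, hk⟩ := hQ.h_even; omega)]
      push_cast
      ring
    have hh : (h : ℂ) ≠ 0 := Nat.cast_ne_zero.2 hh0.ne'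
    refine Int.cast_injective (α := ℂ) (mul_left_cancel₀ (mul_ne_zero hh hh) ?_)
    push_cast
    rw [Finset.mul_sum]
    calc ∑ χ ∈ B.toFinite.toFinset, (h : ℂ) * h * ((rowU r b χ : ℂ) * (rowU r b χ : ℂ))
        = ∑ χ ∈ B.toFinite.toFinset, ∑ i ∈ Finset.range h, ∑ j ∈ Finset.range h,
            rowW r b χ (2 * i + 1) * rowW r b χ (2 * j + 1) := by
          refine Finset.sum_congr rfl fun χ _ => ?_
          rw [← Finset.sum_mul_sum,
            show (h : ℂ) * h * ((rowU r b χ : ℂ) * (rowU r b χ : ℂ)) =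
              ((h : ℂ) * (rowU r b χ : ℂ)) * ((h : ℂ) * (rowU r b χ : ℂ)) by ring, hU, neg_mul_neg]
      _ = _ := by
          rw [Finset.sum_comm, Finset.sum_congr rfl (g := fun _ => ((4 * h : ℕ) : ℂ)) fun i hi => by
            rw [Finset.sum_comm]; exact hinner' i hi]
          rw [Finset.sum_const, Finset.card_range, nsmul_eq_mul]
          push_cast
          ring
  · have hpar : ((rowU r b χ : ℤ) : ZMod 2) = ∑ θ ∈ s, (mult χ θ : ZMod 2) := by
      rw [rowU]
      push_cast
      rw [← sub_eq_zero, ← Finset.sum_sub_distrib]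
      refine Finset.sum_involution (fun θ _ => irrMap φ θ) (fun θ _ => ?_) (fun θ _ hne => ?_) hφs
        fun θ _ => hφφ θ
      · show (mult χ θ : ZMod 2) * (rootSign (ω θ) : ZMod 2) - (mult χ θ : ZMod 2) +
          ((mult χ (irrMap φ θ) : ZMod 2) * (rootSign (ω (irrMap φ θ)) : ZMod 2) -
            (mult χ (irrMap φ θ) : ZMod 2)) = 0
        have hs' : rootSign (conj (ω θ)) = rootSign (ω θ) := by
          unfold rootSign
          have e1 : conj (ω θ) = -1 ↔ ω θ = -1 :=
            ⟨fun e => by simpa using congrArg conj e, fun e => by rw [e]; simp⟩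
          have e2 : conj (ω θ) = 1 ↔ ω θ = 1 :=
            ⟨fun e => by simpa using congrArg conj e, fun e => by rw [e]; simp⟩
          simp only [e1, e2]
        rw [hφmult, hφω, hs']
        exact CharTwo.add_self_eq_zero _
      · intro e
        have e2 : conj (ω θ) = ω θ := by rw [← hφω θ, e]
        have e3 : ω θ * ω θ = 1 := by
          nth_rw 2 [← e2]
          exact hωconj θ
        apply hne
        show (mult χ θ : ZMod 2) * (rootSign (ω θ) : ZMod 2) - (mult χ θ : ZMod 2) = 0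
        have hm1 : (-1 : ZMod 2) = 1 := CharTwo.neg_eq 1
        rcases mul_self_eq_one_iff.1 e3 with e4 | e4 <;> rw [e4] <;> norm_num [rootSign, hm1]
    by_contra hev
    rw [Int.not_odd_iff_even, ← ZMod.intCast_eq_zero_iff_even, hpar, ← Nat.cast_sum,
      ZMod.natCast_eq_zero_iff_even] at hev
    obtain ⟨y, hy, hyne⟩ := exists_blockPart_not_memLocalIdeal hM hχ h0 hr2 hb
    refine hyne ?_
    have h2 := hpart χ 1 y hy
    simp only [pow_one] at h2
    rw [h2]
    refine memLocalIdeal_mul_right (memLocalRing_irr_apply θ₀ y) ?_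
    have e : rowW r b χ 1 = ∑ θ ∈ s, (mult χ θ : ℂ) * (ω θ - 1) +
        ((∑ θ ∈ s, mult χ θ : ℕ) : ℂ) := by
      push_cast
      rw [← Finset.sum_add_distrib, rowW]
      refine Finset.sum_congr rfl fun θ _ => ?_
      show (mult χ θ : ℂ) * ω θ ^ 1 = _
      ring
    rw [e]
    refine memLocalIdeal_add (memLocalIdeal_sum _ _ fun θ _ => ?_)
      ((memLocalIdeal_natCast_iff hM _).2 hev.two_dvd)
    obtain ⟨k, hk⟩ := hQ.two_pow
    exact memLocalIdeal_mul_left (memLocalRing_natCast _)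
      (memLocalIdeal_root_sub_one hM (n := k + 1) (by rw [pow_succ', ← hk]; exact hωpow θ))

/-- At most four characters have height zero. -/
theorem card_height_zero_le :
    (B.toFinite.toFinset.filter fun χ : IrrCharacter G => blockHeight 2 B (χ : G → ℂ) = 0).card ≤ 4
    := by
  obtain ⟨u, hu, hodd⟩ := exists_odd_row hM hmax hQ
  have h1 : ∀ χ ∈ B.toFinite.toFinset.filter fun χ : IrrCharacter G =>
      blockHeight 2 B (χ : G → ℂ) = 0, (1 : ℤ) ≤ u χ * u χ := fun χ hχ => by
    rw [Finset.mem_filter, Set.Finite.mem_toFinset] at hχ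
    obtain ⟨k, hk⟩ := hodd χ hχ.1 hχ.2
    rw [hk]
    have : (0 : ℤ) ≤ k * (k + 1) := by rcases le_or_gt 0 k with e | e <;> nlinarith
    nlinarith
  have h2 := Finset.sum_le_sum h1
  rw [Finset.sum_const, nsmul_eq_mul, mul_one] at h2
  have h3 := h2.trans (Finset.sum_le_sum_of_subset_of_nonneg (Finset.filter_subset _ _)
    fun χ _ _ => mul_self_nonneg (u χ))
  rw [hu] at h3
  exact_mod_cast h3

end CfsgLib.BlockA.QuatDefect
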