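import Cfsg.Agent.Lib.BlockB.RegRank
import Cfsg.Agent.Lib.BlockA.Dominated

/-!
The integral regular matrix of a block divided by the common part of the degrees.
-/

set_option autoImplicit false
set_option linter.unusedSectionVars false

namespace CfsgLib.BlockA.QuatDefect

open Cfsg CfsgLib.Block CfsgLib.BlockA CfsgLib.BlockB
open scoped ComplexConjugate

universe u

variable {G : Type u} [Group G] [Fintype G] {p : ℕ} [Fact p.Prime] {M : Ideal AlgInt} [M.IsPrime]

/-- The exponent of the least `p`-part of the degrees. -/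
noncomputable def minExp (p : ℕ) (B : Set (IrrCharacter G)) : ℕ :=
  sInf ((fun φ : IrrCharacter G => (charDegree (φ : G → ℂ)).factorization p) '' B)

/-- The entries of the regular matrix divided by the common `p`-part. -/
noncomputable def scaled (p : ℕ) (B : Set (IrrCharacter G)) (x y : IrrCharacter G) : ℤ :=
  regEntry p x y / ((p ^ minExp p B : ℕ) : ℤ)

theorem scaled_symm (B : Set (IrrCharacter G)) (x y : IrrCharacter G) :
    scaled p B x y = scaled p B y x := by rw [scaled, scaled, regEntry_symm]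

variable (hM : IsPModular p M) {B : Set (IrrCharacter G)} (hB : IsPBlock M B)
include hM hB

theorem degree_exp {y : IrrCharacter G} (hy : y ∈ B) :
    (charDegree (y : G → ℂ)).factorization p = blockHeight p B (y : G → ℂ) + minExp p B := by
  have : minExp p B ≤ (charDegree (y : G → ℂ)).factorization p := Nat.sInf_le ⟨y, hy, rfl⟩
  simp only [blockHeight, minExp] at this ⊢
  omega

theorem pow_mul_scaled {x y : IrrCharacter G} (hy : y ∈ B) :
    ((p ^ minExp p B : ℕ) : ℤ) * scaled p B x y = regEntry p x y := by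
  refine Int.mul_ediv_cancel' (dvd_trans ?_ (pow_dvd_regEntry hM x y))
  exact_mod_cast Nat.pow_dvd_pow p (show minExp p B ≤ (charDegree (y : G → ℂ)).factorization p by
    rw [degree_exp hM hB hy]; omega)

theorem dvd_scaled_iff {x y : IrrCharacter G} (hy : y ∈ B) (j : ℕ) :
    ((p ^ j : ℕ) : ℤ) ∣ scaled p B x y ↔ ((p ^ (j + minExp p B) : ℕ) : ℤ) ∣ regEntry p x y := by
  rw [pow_add, Nat.cast_mul, mul_comm ((p ^ j : ℕ) : ℤ), ← pow_mul_scaled hM hB hy]
  exact (mul_dvd_mul_iff_left (by exact_mod_cast pow_ne_zero _ hM.1.ne_zero)).symm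

theorem scaled_dvd {x y : IrrCharacter G} (hy : y ∈ B) :
    ((p ^ blockHeight p B (y : G → ℂ) : ℕ) : ℤ) ∣ scaled p B x y := by
  rw [dvd_scaled_iff hM hB hy, ← degree_exp hM hB hy]
  exact pow_dvd_regEntry hM x y

theorem scaled_exact {x y : IrrCharacter G} (hx : x ∈ B) (hy : y ∈ B) :
    ((p ^ (blockHeight p B (y : G → ℂ) + 1) : ℕ) : ℤ) ∣ scaled p B x y ↔
      blockHeight p B (x : G → ℂ) ≠ 0 := by
  rw [dvd_scaled_iff hM hB hy, Nat.add_right_comm, ← degree_exp hM hB hy]
  exact pow_succ_dvd_regEntry_iff hM hB hx hy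

omit hM hB in
theorem isClassFunction_reg (x : IrrCharacter G) :
    IsClassFunction G (fun g : G => if p ∣ orderOf g then (0 : ℂ)
      else ((p ^ (Nat.card G).factorization p : ℕ) : ℂ) * (x : G → ℂ) g) := by
  intro g h
  have ho : orderOf (h * g * h⁻¹) = orderOf g :=
    orderOf_injective (MulAut.conj h).toMonoidHom (MulAut.conj h).injective g
  simp only [ho, CfsgLib.Char.irr_isClassFunction x.2 g h]

/-- The regular matrix is a multiple of a projection. -/
theorem sum_regEntry_mul {x z : IrrCharacter G} (hx : x ∈ B) :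
    ∑ y ∈ B.toFinite.toFinset, regEntry p x y * regEntry p y z =
      ((p ^ (Nat.card G).factorization p : ℕ) : ℤ) * regEntry p x z := by
  classical
  have := Fintype.ofFinite (IrrCharacter G)
  set f : IrrCharacter G → G → ℂ := fun x g => if p ∣ orderOf g then (0 : ℂ)
    else ((p ^ (Nat.card G).factorization p : ℕ) : ℂ) * (x : G → ℂ) g with hf
  have hsum := CfsgLib.Char.classInner_eq_sum_mul (isClassFunction_reg (p := p) x) (f z)
  have hall : ∀ w y : IrrCharacter G, Cfsg.classInner (f w) (y : G → ℂ) = (regEntry p w y : ℂ) :=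
    fun w y => (regEntry_cast w y).symm
  have hleft : Cfsg.classInner (f x) (f z) =
      ((p ^ (Nat.card G).factorization p : ℕ) : ℂ) * (regEntry p x z : ℂ) := by
    rw [← hall, CfsgLib.Char.classInner_def, CfsgLib.Char.classInner_def, mul_left_comm,
      Finset.mul_sum (a := ((p ^ (Nat.card G).factorization p : ℕ) : ℂ))]
    congr 1
    refine Finset.sum_congr rfl fun g _ => ?_
    simp only [hf]
    split_ifs
    · simp
    · rw [map_mul, Complex.conj_natCast]; ring
  change classInner (f x) (f z) = ∑ i : IrrCharacter G,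
    classInner (f x) (i : G → ℂ) * conj (classInner (f z) (i : G → ℂ)) at hsum
  rw [hleft] at hsum
  simp only [hall, map_intCast] at hsum
  rw [← Finset.sum_subset (Finset.subset_univ B.toFinite.toFinset) (fun y _ hy => by
    rw [regEntry_eq_zero hM hB hx (fun h => hy (B.toFinite.mem_toFinset.2 h)), Int.cast_zero,
      zero_mul])] at hsum
  refine Int.cast_injective (α := ℂ) ?_
  push_cast
  push_cast at hsum
  rw [hsum]
  exact Finset.sum_congr rfl fun y _ => by rw [regEntry_symm y z]

theorem sum_scaled_mul {x z : IrrCharacter G} (hx : x ∈ B) (hz : z ∈ B) :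
    ∑ y ∈ B.toFinite.toFinset, scaled p B x y * scaled p B y z =
      ((p ^ blockDefect p B : ℕ) : ℤ) * scaled p B x z := by
  have hq : ((p ^ minExp p B : ℕ) : ℤ) ≠ 0 := by exact_mod_cast pow_ne_zero _ hM.1.ne_zero
  have h := sum_regEntry_mul hM hB (z := z) hx
  rw [← pow_mul_scaled hM hB hz,
    show (Nat.card G).factorization p = minExp p B + blockDefect p B from
      (sInf_degree_add_blockDefect hM hB).symm, pow_add, Nat.cast_mul] at h
  refine mul_left_cancel₀ (mul_ne_zero hq hq) ?_
  rw [Finset.mul_sum]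
  refine Eq.trans (Finset.sum_congr rfl fun y hy => ?_) (h.trans (by ring))
  rw [← pow_mul_scaled hM hB (B.toFinite.mem_toFinset.1 hy), ← pow_mul_scaled hM hB hz]
  ring

theorem sum_scaled_self :
    ∑ y ∈ B.toFinite.toFinset, scaled p B y y =
      ((p ^ blockDefect p B : ℕ) : ℤ) * (blockRank p B : ℤ) := by
  have hq : ((p ^ minExp p B : ℕ) : ℤ) ≠ 0 := by exact_mod_cast pow_ne_zero _ hM.1.ne_zero
  have h := blockRank_mul_pow hM hB
  rw [show (Nat.card G).factorization p = minExp p B + blockDefect p B from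
      (sInf_degree_add_blockDefect hM hB).symm, pow_add, Nat.cast_mul] at h
  refine mul_left_cancel₀ hq ?_
  rw [Finset.mul_sum, ← mul_assoc, h]
  exact Finset.sum_congr rfl fun y hy => pow_mul_scaled hM hB (B.toFinite.mem_toFinset.1 hy)

omit hM hB in
/-- Linear relations on the regular elements pass to the entries. -/
theorem sum_mul_regEntry_eq_zero {ι : Type*} (s : Finset ι) (c : ι → ℤ) (e : ι → IrrCharacter G)
    (hrel : ∀ g : G, ¬ p ∣ orderOf g → ∑ i ∈ s, (c i : ℂ) * (e i : G → ℂ) g = 0)
    (y : IrrCharacter G) : ∑ i ∈ s, c i * regEntry p (e i) y = 0 := by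
  have hm : ((ordCompl[p] (Nat.card G) : ℕ) : ℂ) ≠ 0 :=
    Nat.cast_ne_zero.2 (Nat.ordCompl_pos p Nat.card_pos.ne').ne'
  refine Int.cast_injective (α := ℂ) (mul_left_cancel₀ hm ?_)
  push_cast
  rw [mul_zero, Finset.mul_sum, Finset.sum_congr rfl fun i _ => by
    rw [mul_left_comm, ordCompl_mul_regEntry]]
  unfold regPair
  simp only [Finset.mul_sum]
  rw [Finset.sum_comm]
  refine Finset.sum_eq_zero fun g _ => ?_
  unfold regInd
  by_cases hg : p ∣ orderOf g
  · simp [hg]
  · simp only [if_neg hg, one_mul]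
    calc ∑ i ∈ s, (c i : ℂ) * ((e i : G → ℂ) g * (y : G → ℂ) g⁻¹)
        = (∑ i ∈ s, (c i : ℂ) * (e i : G → ℂ) g) * (y : G → ℂ) g⁻¹ := by
          rw [Finset.sum_mul]
          exact Finset.sum_congr rfl fun i _ => by ring
      _ = 0 := by rw [hrel g hg, zero_mul]

theorem sum_mul_scaled_eq_zero {ι : Type*} (s : Finset ι) (c : ι → ℤ) (e : ι → IrrCharacter G)
    (hrel : ∀ g : G, ¬ p ∣ orderOf g → ∑ i ∈ s, (c i : ℂ) * (e i : G → ℂ) g = 0)
    {y : IrrCharacter G} (hy : y ∈ B) : ∑ i ∈ s, c i * scaled p B (e i) y = 0 := by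
  have hq : ((p ^ minExp p B : ℕ) : ℤ) ≠ 0 := by exact_mod_cast pow_ne_zero _ hM.1.ne_zero
  refine mul_left_cancel₀ hq ?_
  rw [mul_zero, ← sum_mul_regEntry_eq_zero s c e hrel y, Finset.mul_sum]
  exact Finset.sum_congr rfl fun i _ => by rw [← pow_mul_scaled hM hB hy]; ring

end CfsgLib.BlockA.QuatDefect
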