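import Mathlib.Algebra.BigOperators.Ring.Finset
import Mathlib.Algebra.BigOperators.Fin
import Mathlib.Algebra.Order.BigOperators.Group.Finset
import Mathlib.Algebra.Ring.Int.Parity
import Mathlib.Data.ZMod.Basic
import Mathlib.Tactic

/-!
The arithmetic of the integral rows of a block with quaternion defect group.
-/

set_option autoImplicit false
set_option linter.unusedSectionVars false

namespace CfsgLib.BlockA.QuatDefect

open Finset

/-- An integral matrix `E` with `E² = khE` written through orthogonal vectors. -/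
structure Shape {ι : Type*} (F : Finset ι) (E : ι → ι → ℤ) (h e : ℕ) (k : ℤ) (s : ι → ℤ)
    (A : Fin e → ι → ℤ) : Prop where
  eq : ∀ x ∈ F, ∀ y ∈ F, E x y = s x * s y + ((h / 2 : ℕ) : ℤ) * ∑ i, A i x * A i y
  ss : ∑ x ∈ F, s x * s x = k * (h : ℤ)
  AA : ∀ i j, ∑ x ∈ F, A i x * A j x = if i = j then 2 * k else 0
  sA : ∀ i, ∑ x ∈ F, s x * A i x = 0
  parity : ∀ i, ∀ x ∈ F, Even (A i x - s x)

/-- The rows attached to the characters. -/
structure Rows {α : Type*} (B : Finset α) (ht : α → ℕ) (h e : ℕ) (s : α → ℤ)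
    (a : Fin e → α → ℤ) : Prop where
  ss : ∑ x ∈ B, s x * s x = 4 * (h : ℤ)
  aa : ∀ i j, ∑ x ∈ B, a i x * a j x = if i = j then 8 else 0
  sa : ∀ i, ∑ x ∈ B, s x * a i x = 0
  parity : ∀ i, ∀ x ∈ B, Even (a i x - s x)
  dvd : ∀ x ∈ B, ∀ y ∈ B, (2 : ℤ) ^ ht x ∣ s x * s y + ((h / 2 : ℕ) : ℤ) * ∑ i, a i x * a i y
  exact : ∀ x ∈ B, ∀ y ∈ B, ht y = 0 →
    ¬ (2 : ℤ) ^ (ht x + 1) ∣ s x * s y + ((h / 2 : ℕ) : ℤ) * ∑ i, a i x * a i y
  exists_zero : ∃ x ∈ B, ht x = 0
  zero_le : (B.filter fun x => ht x = 0).card ≤ 4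
  le_two : e ≤ 2
  two_le : 2 ≤ h
  h_even : Even h
  mod_two : Even (h / 2) ∨ Even e

section Shape

/-- The coordinates with respect to two eigenvectors. -/
theorem pair_of_eigen {ι α : Type*} {F : Finset ι} {E : ι → ι → ℤ} {B : Finset α}
    {n : α → ι → ℤ} {c d : ℤ} (hc : c ≠ 0)
    (hgram : ∀ y ∈ F, ∀ y' ∈ F,
      ∑ x ∈ B, (∑ i ∈ F, n x i * E i y) * (∑ i ∈ F, n x i * E i y') = d * E y y')
    {u v : ι → ℤ} (hu : ∀ x ∈ F, ∑ y ∈ F, E x y * u y = c * u x)
    (hv : ∀ x ∈ F, ∑ y ∈ F, E x y * v y = c * v x) :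
    c * ∑ x ∈ B, (∑ i ∈ F, n x i * u i) * (∑ i ∈ F, n x i * v i) = d * ∑ i ∈ F, u i * v i := by
  have hL : ∀ (w : ι → ℤ), (∀ x ∈ F, ∑ y ∈ F, E x y * w y = c * w x) → ∀ x,
      ∑ y ∈ F, (∑ i ∈ F, n x i * E i y) * w y = c * ∑ i ∈ F, n x i * w i := by
    intro w hw x
    simp only [Finset.sum_mul]
    rw [Finset.sum_comm, Finset.mul_sum]
    refine Finset.sum_congr rfl fun i hi => ?_
    simp only [mul_assoc, ← Finset.mul_sum]
    rw [hw i hi]
    ring
  have h1 : ∑ x ∈ B, (c * ∑ i ∈ F, n x i * u i) * (c * ∑ i ∈ F, n x i * v i) =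
      ∑ y ∈ F, u y * (d * ∑ y' ∈ F, E y y' * v y') := by
    rw [Finset.sum_congr rfl fun x _ => by rw [← hL u hu x, ← hL v hv x, Finset.sum_mul_sum],
      Finset.sum_comm]
    refine Finset.sum_congr rfl fun y hy => ?_
    rw [Finset.sum_comm, Finset.mul_sum, Finset.mul_sum]
    refine Finset.sum_congr rfl fun y' hy' => ?_
    rw [← mul_assoc d, ← hgram y hy y' hy', Finset.sum_mul, Finset.mul_sum]
    exact Finset.sum_congr rfl fun x _ => by ring
  rw [Finset.sum_congr rfl (s₁ := F) fun y hy => by rw [hv y hy]] at h1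
  refine mul_left_cancel₀ hc ?_
  rw [Finset.mul_sum, Finset.mul_sum, Finset.mul_sum, Finset.mul_sum]
  refine (Finset.sum_congr rfl fun x _ => ?_).trans (h1.trans (Finset.sum_congr rfl fun y _ => ?_))
  all_goals ring

variable {ι : Type*} {F : Finset ι} {E : ι → ι → ℤ} {h e : ℕ} {k : ℤ} {s : ι → ℤ}
  {A : Fin e → ι → ℤ}

theorem Shape.apply_s (hS : Shape F E h e k s A) {x : ι} (hx : x ∈ F) :
    ∑ y ∈ F, E x y * s y = k * (h : ℤ) * s x := by
  rw [Finset.sum_congr rfl (g := fun y => s x * (s y * s y) +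
    ((h / 2 : ℕ) : ℤ) * ∑ i, A i x * (s y * A i y)) fun y hy => ?_]
  · rw [Finset.sum_add_distrib, ← Finset.mul_sum, hS.ss, ← Finset.mul_sum, Finset.sum_comm]
    simp only [← Finset.mul_sum, hS.sA, mul_zero, Finset.sum_const_zero, add_zero]
    ring
  · rw [hS.eq x hx y hy, add_mul, mul_assoc ((h / 2 : ℕ) : ℤ), Finset.sum_mul]
    congr 1
    · ring
    · congr 1
      exact Finset.sum_congr rfl fun i _ => by ring

theorem Shape.apply_A (hS : Shape F E h e k s A) (hh : Even h) {x : ι} (hx : x ∈ F) (j : Fin e) :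
    ∑ y ∈ F, E x y * A j y = k * (h : ℤ) * A j x := by
  rw [Finset.sum_congr rfl (g := fun y => s x * (s y * A j y) +
    ((h / 2 : ℕ) : ℤ) * ∑ i, A i x * (A i y * A j y)) fun y hy => ?_]
  · rw [Finset.sum_add_distrib, ← Finset.mul_sum, hS.sA, ← Finset.mul_sum, Finset.sum_comm]
    simp only [← Finset.mul_sum, hS.AA, mul_ite, mul_zero, Finset.sum_ite_eq', Finset.mem_univ,
      if_true, zero_add]
    obtain ⟨i, rfl⟩ := hh
    rw [show (i + i) / 2 = i by omega]
    push_cast
    ring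
  · rw [hS.eq x hx y hy, add_mul, mul_assoc ((h / 2 : ℕ) : ℤ), Finset.sum_mul]
    congr 1
    · ring
    · congr 1
      exact Finset.sum_congr rfl fun i _ => by ring

/-- **The coordinates of the rows.** -/
theorem Shape.coords (hS : Shape F E h e k s A) (hh : Even h) (h0 : 0 < h) (hk : k ≠ 0)
    {α : Type*} (B : Finset α) (n : α → ι → ℤ)
    (hgram : ∀ y ∈ F, ∀ y' ∈ F,
      ∑ c ∈ B, (∑ x ∈ F, n c x * E x y) * (∑ x ∈ F, n c x * E x y') = 4 * (h : ℤ) * E y y') :
    Shape B (fun c c' => ∑ x ∈ F, ∑ y ∈ F, n c x * n c' y * E x y) h e 4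
      (fun c => ∑ x ∈ F, n c x * s x) (fun i c => ∑ x ∈ F, n c x * A i x) := by
  have hc : k * (h : ℤ) ≠ 0 := mul_ne_zero hk (by omega)
  refine ⟨fun c _ c' _ => ?_, ?_, fun i j => ?_, fun i => ?_, fun i c _ => ?_⟩
  · rw [Finset.sum_congr rfl fun x hx => Finset.sum_congr rfl fun y hy =>
      show n c x * n c' y * E x y = (n c x * s x) * (n c' y * s y) +
        ((h / 2 : ℕ) : ℤ) * ∑ i, (n c x * A i x) * (n c' y * A i y) by
      rw [hS.eq x hx y hy, mul_add, Finset.mul_sum, Finset.mul_sum, Finset.mul_sum]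
      congr 1
      · ring
      · exact Finset.sum_congr rfl fun i _ => by ring]
    simp only [Finset.sum_add_distrib, ← Finset.mul_sum, ← Finset.sum_mul]
    congr 2
    rw [Finset.sum_congr rfl fun x _ => Finset.sum_comm, Finset.sum_comm]
    refine Finset.sum_congr rfl fun i _ => ?_
    rw [Finset.sum_mul]
    exact Finset.sum_congr rfl fun x _ => (Finset.mul_sum _ _ _).symm
  · refine mul_left_cancel₀ hc ((pair_of_eigen hc hgram (fun x hx => hS.apply_s hx)
      fun x hx => hS.apply_s hx).trans ?_)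
    rw [hS.ss]
    ring
  · refine mul_left_cancel₀ hc ((pair_of_eigen hc hgram (fun x hx => hS.apply_A hh hx i)
      fun x hx => hS.apply_A hh hx j).trans ?_)
    rw [hS.AA]
    split_ifs <;> ring
  · refine mul_left_cancel₀ hc ((pair_of_eigen hc hgram (fun x hx => hS.apply_s hx)
      fun x hx => hS.apply_A hh hx i).trans ?_)
    rw [hS.sA]
    ring
  · simp only [← Finset.sum_sub_distrib, ← mul_sub]
    exact even_iff_two_dvd.2 (Finset.dvd_sum fun x hx => (hS.parity i x hx).two_dvd.mul_left _)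

/-- The rows of a shape with the divisibility facts. -/
theorem Shape.rows (hS : Shape F E h e 4 s A) (ht : ι → ℕ)
    (hdvd : ∀ x ∈ F, ∀ y ∈ F, (2 : ℤ) ^ ht x ∣ E x y)
    (hexact : ∀ x ∈ F, ∀ y ∈ F, ht y = 0 → ¬ (2 : ℤ) ^ (ht x + 1) ∣ E x y)
    (hex : ∃ x ∈ F, ht x = 0) (hzero : (F.filter fun x => ht x = 0).card ≤ 4) (he : e ≤ 2)
    (h2 : 2 ≤ h) (hev : Even h) (hmod : Even (h / 2) ∨ Even e) : Rows F ht h e s A :=
  ⟨hS.ss, fun i j => by rw [hS.AA]; rfl, hS.sA, hS.parity,
    fun x hx y hy => hS.eq x hx y hy ▸ hdvd x hx y hy,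
    fun x hx y hy hy0 => hS.eq x hx y hy ▸ hexact x hx y hy hy0, hex, hzero, he, h2, hev, hmod⟩

end Shape

theorem eq_of_exact {T : ℤ} {a b : ℕ} (h1 : (2 : ℤ) ^ a ∣ T) (h2 : ¬ (2 : ℤ) ^ (a + 1) ∣ T)
    (h3 : (2 : ℤ) ^ b ∣ T) (h4 : ¬ (2 : ℤ) ^ (b + 1) ∣ T) : a = b := by
  rcases lt_trichotomy a b with e | e | e
  · exact absurd ((pow_dvd_pow 2 (show a + 1 ≤ b by omega)).trans h3) h2
  · exact e
  · exact absurd ((pow_dvd_pow 2 (show b + 1 ≤ a by omega)).trans h1) h4

namespace Rows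

variable {α : Type*} {B : Finset α} {ht : α → ℕ} {h e : ℕ} {s : α → ℤ} {a : Fin e → α → ℤ}
  (hR : Rows B ht h e s a)
include hR

theorem T_mod_two {x y : α} (hx : x ∈ B) (hy : y ∈ B) :
    Even (s x * s y + ((h / 2 : ℕ) : ℤ) * ∑ i, a i x * a i y) ↔ Even (s x * s y) := by
  have h1 : Even (((h / 2 : ℕ) : ℤ) * ∑ i, a i x * a i y) := by
    rcases hR.mod_two with h2 | h2
    · exact (Int.even_coe_nat _ |>.2 h2).mul_right _
    refine Even.mul_left ?_ _
    rw [← ZMod.intCast_eq_zero_iff_even, Int.cast_sum]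
    rw [Finset.sum_congr rfl (g := fun _ => ((s x * s y : ℤ) : ZMod 2)) fun i _ => by
      have e1 := ZMod.intCast_eq_zero_iff_even.2 (hR.parity i x hx)
      have e2 := ZMod.intCast_eq_zero_iff_even.2 (hR.parity i y hy)
      push_cast at e1 e2 ⊢
      rw [sub_eq_zero.1 e1, sub_eq_zero.1 e2], Finset.sum_const, Finset.card_univ,
      Fintype.card_fin, nsmul_eq_mul, ZMod.natCast_eq_zero_iff_even.2 h2, zero_mul]
  rw [Int.even_add]
  exact ⟨fun h' => h'.2 h1, fun h' => iff_of_true h' h1⟩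

theorem height_zero_iff {x : α} (hx : x ∈ B) : ht x = 0 ↔ Odd (s x) := by
  obtain ⟨y, hy, hy0⟩ := hR.exists_zero
  have hex : ∀ z ∈ B, ht z = 0 → Odd (s z * s y + ((h / 2 : ℕ) : ℤ) * ∑ i, a i z * a i y) := by
    intro z hz hz0
    have := hR.exact z hz y hy hy0
    rw [hz0, zero_add, pow_one] at this
    rw [← Int.not_even_iff_odd, even_iff_two_dvd]
    exact this
  have hsy : Odd (s y) := by
    have h1 := hex y hy hy0
    rw [← Int.not_even_iff_odd, hR.T_mod_two hy hy, Int.not_even_iff_odd, Int.odd_mul] at h1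
    exact h1.1
  constructor
  · intro h0
    have h1 := hex x hx h0
    rw [← Int.not_even_iff_odd, hR.T_mod_two hx hy, Int.not_even_iff_odd, Int.odd_mul] at h1
    exact h1.1
  · intro hs
    by_contra h0
    have h1 : (2 : ℤ) ∣ s x * s y + ((h / 2 : ℕ) : ℤ) * ∑ i, a i x * a i y :=
      (dvd_pow_self 2 h0).trans (hR.dvd x hx y hy)
    rw [← even_iff_two_dvd, hR.T_mod_two hx hy] at h1
    exact absurd h1 (Int.not_even_iff_odd.2 (hs.mul hsy))

theorem card_odd : (B.filter fun x => Odd (s x)).card = 4 := by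
  have hle : (B.filter fun x => Odd (s x)).card ≤ 4 := by
    refine le_trans (le_of_eq ?_) hR.zero_le
    congr 1
    exact Finset.filter_congr fun x hx => (hR.height_zero_iff hx).symm
  have hpos : 0 < (B.filter fun x => Odd (s x)).card := by
    obtain ⟨y, hy, hy0⟩ := hR.exists_zero
    exact Finset.card_pos.2 ⟨y, Finset.mem_filter.2 ⟨hy, (hR.height_zero_iff hy).1 hy0⟩⟩
  have hd : (4 : ℤ) ∣ ∑ x ∈ B, (s x * s x - if Odd (s x) then 1 else 0) := by
    refine Finset.dvd_sum fun x _ => ?_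
    rcases Int.even_or_odd (s x) with ⟨k, hk⟩ | ⟨k, hk⟩
    · rw [if_neg (by rw [Int.not_odd_iff_even]; exact ⟨k, hk⟩), hk]
      exact ⟨k * k, by ring⟩
    · rw [if_pos ⟨k, hk⟩, hk]
      exact ⟨k * k + k, by ring⟩
  rw [Finset.sum_sub_distrib, hR.ss, Finset.sum_boole] at hd
  have : (4 : ℤ) ∣ ((B.filter fun x => Odd (s x)).card : ℤ) :=
    (dvd_sub_right (dvd_mul_right _ _)).1 hd
  omega

/-- The shape of one of the short vectors. -/
theorem short (i : Fin e) :
    (∀ x ∈ B, Odd (s x) → a i x = 1 ∨ a i x = -1) ∧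
      ∃ c ∈ B, ¬ Odd (s c) ∧ (a i c = 2 ∨ a i c = -2) ∧
        ∀ x ∈ B, ¬ Odd (s x) → x ≠ c → a i x = 0 := by
  classical
  have hodd : ∀ x ∈ B, Odd (s x) → 1 ≤ a i x * a i x := by
    intro x hx hs
    have h1 : Odd (a i x) := by
      have := (hR.parity i x hx).add_odd hs
      rwa [sub_add_cancel] at this
    rcases le_or_gt (a i x) 0 with e' | e'
    · have : a i x ≤ -1 := by rcases h1 with ⟨k, hk⟩; omega
      nlinarith
    · nlinarith
  have heven : ∀ x ∈ B, ¬ Odd (s x) → a i x ≠ 0 → 4 ≤ a i x * a i x := by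
    intro x hx hs hne
    obtain ⟨k, hk⟩ := (hR.parity i x hx).add (Int.not_odd_iff_even.1 hs)
    rw [sub_add_cancel] at hk
    rcases lt_or_gt_of_ne hne with e' | e'
    · have : a i x ≤ -2 := by omega
      nlinarith
    · have : 2 ≤ a i x := by omega
      nlinarith
  have hsum := hR.aa i i
  rw [if_pos rfl, ← Finset.sum_filter_add_sum_filter_not B (fun x => Odd (s x))] at hsum
  have hF : (4 : ℤ) ≤ ∑ x ∈ B.filter (fun x => Odd (s x)), a i x * a i x := by
    have := Finset.card_nsmul_le_sum (B.filter fun x => Odd (s x)) (fun x => a i x * a i x) 1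
      fun x hx => hodd x (Finset.mem_filter.1 hx).1 (Finset.mem_filter.1 hx).2
    rw [hR.card_odd] at this
    simpa using this
  have h1 : ∀ x ∈ B, Odd (s x) → a i x = 1 ∨ a i x = -1 := by
    intro x hx hs
    have h2 : a i x * a i x ≤ 8 := by
      refine le_trans (Finset.single_le_sum (f := fun x => a i x * a i x)
        (fun _ _ => mul_self_nonneg _)
        (show x ∈ B.filter (fun x => Odd (s x)) from Finset.mem_filter.2 ⟨hx, hs⟩)) ?_
      have : (0 : ℤ) ≤ ∑ x ∈ B.filter (fun x => ¬ Odd (s x)), a i x * a i x :=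
        Finset.sum_nonneg fun x _ => mul_self_nonneg _
      linarith
    obtain ⟨k, hk⟩ : Odd (a i x) := by
      have := (hR.parity i x hx).add_odd hs
      rwa [sub_add_cancel] at this
    have : -3 < a i x ∧ a i x < 3 := by constructor <;> nlinarith
    omega
  refine ⟨h1, ?_⟩
  have hF4 : ∑ x ∈ B.filter (fun x => Odd (s x)), a i x * a i x = 4 := by
    rw [Finset.sum_congr rfl (g := fun _ => (1 : ℤ)) fun x hx => ?_, Finset.sum_const, hR.card_odd]
    · rfl
    · rcases h1 x (Finset.mem_filter.1 hx).1 (Finset.mem_filter.1 hx).2 with e' | e' <;> rw [e'] <;>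
        norm_num
  rw [hF4] at hsum
  have hrest : ∑ x ∈ B.filter (fun x => ¬ Odd (s x)), a i x * a i x = 4 := by linarith
  obtain ⟨c, hc, hc0⟩ := Finset.exists_ne_zero_of_sum_ne_zero
    (show ∑ x ∈ B.filter (fun x => ¬ Odd (s x)), a i x * a i x ≠ 0 by rw [hrest]; norm_num)
  have hc' := Finset.mem_filter.1 hc
  have hc4 := heven c hc'.1 hc'.2 (fun e' => hc0 (by rw [e', mul_zero]))
  rw [← Finset.add_sum_erase _ _ hc] at hrest
  have h0 : (0 : ℤ) ≤ ∑ x ∈ (B.filter (fun x => ¬ Odd (s x))).erase c, a i x * a i x :=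
    Finset.sum_nonneg fun x _ => mul_self_nonneg _
  refine ⟨c, hc'.1, hc'.2, mul_self_eq_mul_self_iff.1 (show a i c * a i c = 2 * 2 by linarith),
    fun x hx hs hne => ?_⟩
  exact mul_self_eq_zero.1 ((Finset.sum_eq_zero_iff_of_nonneg fun x _ => mul_self_nonneg _).1
    (by linarith) x (Finset.mem_erase.2 ⟨hne, Finset.mem_filter.2 ⟨hx, hs⟩⟩))

/-- **The basic shape.** -/
theorem basic : ∃ c : Fin e → α, Function.Injective c ∧
    (∀ i, c i ∈ B ∧ ¬ Odd (s (c i)) ∧ (a i (c i) = 2 ∨ a i (c i) = -2) ∧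
      ∀ x ∈ B, ¬ Odd (s x) → x ≠ c i → a i x = 0) ∧
    (∀ x ∈ B, s x = 0 → ∃ i, x = c i) ∧
    4 * (B.filter fun x => ¬ Odd (s x) ∧ s x ≠ 0).card + 4 ≤ 4 * h := by
  classical
  choose c hcB hcs hca hc0 using fun i => (hR.short i).2
  obtain ⟨y₀, hy₀, hy00⟩ := hR.exists_zero
  have hne : ∀ x ∈ B, s x * s y₀ + ((h / 2 : ℕ) : ℤ) * ∑ i, a i x * a i y₀ ≠ 0 := fun x hx h0 =>
    hR.exact x hx y₀ hy₀ hy00 (by rw [h0]; exact dvd_zero _)
  have hinj : Function.Injective c := by
    intro i j hij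
    by_contra hne'
    have huniv : (Finset.univ : Finset (Fin e)) = {i, j} := by
      refine (Finset.eq_of_subset_of_card_le (Finset.subset_univ _) ?_).symm
      rw [Finset.card_univ, Fintype.card_fin, Finset.card_pair hne']
      exact hR.le_two
    set x := c i with hx
    have hai := hca i
    have haj := hca j
    rw [← hij] at haj
    rw [← hx] at hai
    have hjo : ∀ y ∈ B, ¬ Odd (s y) → y ≠ x → a j y = 0 := fun y hy hs hny =>
      hc0 j y hy hs (by rwa [← hij])
    have hsplit : ∀ f : α → ℤ, (∀ y ∈ B, ¬ Odd (s y) → y ≠ x → f y = 0) →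
        ∑ y ∈ B, f y = f x + ∑ y ∈ B.filter (fun y => Odd (s y)), f y := by
      intro f hf
      rw [← Finset.sum_filter_add_sum_filter_not B (fun y => Odd (s y)), add_comm]
      congr 1
      exact Finset.sum_eq_single_of_mem x (Finset.mem_filter.2 ⟨hcB i, hcs i⟩) fun y hy hyx =>
        hf y (Finset.mem_filter.1 hy).1 (Finset.mem_filter.1 hy).2 hyx
    have h1 := hR.aa i j
    rw [if_neg hne', hsplit _ fun y hy hs hny => by rw [hjo y hy hs hny, mul_zero]] at h1
    obtain ⟨σ, hσ, hjσ⟩ : ∃ σ : ℤ, (σ = 1 ∨ σ = -1) ∧ a j x = σ * a i x := by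
      rcases hai with e1 | e1 <;> rcases haj with e2 | e2 <;> rw [e1, e2]
      exacts [⟨1, by norm_num⟩, ⟨-1, by norm_num⟩, ⟨-1, by norm_num⟩, ⟨1, by norm_num⟩]
    have hii : a i x * a i x = 4 := by rcases hai with e1 | e1 <;> rw [e1] <;> norm_num
    have hall : ∀ y ∈ B.filter (fun y => Odd (s y)), a j y = -σ * a i y := by
      intro y hy
      have hy' := Finset.mem_filter.1 hy
      have hone : ∀ z ∈ B.filter (fun y => Odd (s y)), 0 ≤ 1 + σ * (a i z * a j z) := by
        intro z hz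
        have hz' := Finset.mem_filter.1 hz
        rcases (hR.short i).1 z hz'.1 hz'.2 with e1 | e1 <;>
          rcases (hR.short j).1 z hz'.1 hz'.2 with e2 | e2 <;> rcases hσ with e3 | e3 <;>
          rw [e1, e2, e3] <;> norm_num
      have hz : ∑ z ∈ B.filter (fun y => Odd (s y)), (1 + σ * (a i z * a j z)) = 0 := by
        rw [Finset.sum_add_distrib, Finset.sum_const, hR.card_odd, ← Finset.mul_sum]
        rw [show ∑ z ∈ B.filter (fun y => Odd (s y)), a i z * a j z = -(σ * 4) by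
          rw [hjσ] at h1
          linear_combination h1 - σ * hii]
        rcases hσ with e3 | e3 <;> rw [e3] <;> norm_num
      have h2 := (Finset.sum_eq_zero_iff_of_nonneg hone).1 hz y hy
      rcases (hR.short i).1 y hy'.1 hy'.2 with e1 | e1 <;>
        rcases (hR.short j).1 y hy'.1 hy'.2 with e2 | e2 <;> rcases hσ with e3 | e3 <;>
        simp [e1, e2, e3] at h2 ⊢
    have h2 : ∑ y ∈ B, (s y * a j y + σ * (s y * a i y)) = 0 := by
      rw [Finset.sum_add_distrib, ← Finset.mul_sum, hR.sa, hR.sa]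
      ring
    rw [hsplit _ fun y hy hs hny => by rw [hjo y hy hs hny, hc0 i y hy hs hny]; ring,
      Finset.sum_eq_zero fun y hy => by rw [hall y hy]; ring, add_zero, hjσ] at h2
    have hs0 : s x = 0 := by
      rcases hai with e1 | e1 <;> rcases hσ with e3 | e3 <;> rw [e1, e3] at h2 <;> linarith
    refine hne x (hcB i) ?_
    rw [hs0, zero_mul, zero_add, huniv, Finset.sum_pair hne',
      hall y₀ (Finset.mem_filter.2 ⟨hy₀, (hR.height_zero_iff hy₀).1 hy00⟩), hjσ]
    rcases hσ with e3 | e3 <;> rw [e3] <;> ring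
  refine ⟨c, hinj, fun i => ⟨hcB i, hcs i, hca i, hc0 i⟩, fun x hx hs => ?_, ?_⟩
  · by_contra hno
    push Not at hno
    refine hne x hx ?_
    rw [hs, zero_mul, zero_add, Finset.sum_eq_zero fun i _ => by
      rw [hc0 i x hx (by rw [hs]; exact Int.not_odd_zero) (hno i), zero_mul], mul_zero]
  · have h1 := hR.ss
    rw [← Finset.sum_filter_add_sum_filter_not B (fun x => Odd (s x))] at h1
    have hF : (4 : ℤ) ≤ ∑ x ∈ B.filter (fun x => Odd (s x)), s x * s x := by
      have := Finset.card_nsmul_le_sum (B.filter fun x => Odd (s x)) (fun x => s x * s x) 1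
        fun x hx => by
          obtain ⟨k, hk⟩ := (Finset.mem_filter.1 hx).2
          rw [hk]
          rcases le_or_gt 0 k with e' | e' <;> nlinarith
      rw [hR.card_odd] at this
      simpa using this
    have hS : (4 : ℤ) * (B.filter fun x => ¬ Odd (s x) ∧ s x ≠ 0).card ≤
        ∑ x ∈ B.filter (fun x => ¬ Odd (s x)), s x * s x := by
      refine le_trans ?_ (Finset.sum_le_sum_of_subset_of_nonneg
        (s := B.filter fun x => ¬ Odd (s x) ∧ s x ≠ 0) (fun x hx => ?_)
        fun x _ _ => mul_self_nonneg _)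
      · rw [mul_comm, ← nsmul_eq_mul]
        refine Finset.card_nsmul_le_sum _ (fun x => s x * s x) 4 fun x hx => ?_
        obtain ⟨-, hs, hs0⟩ := Finset.mem_filter.1 hx
        obtain ⟨k, hk⟩ := Int.not_odd_iff_even.1 hs
        rw [hk]
        rcases lt_trichotomy k 0 with e' | e' | e'
        · nlinarith
        · exact absurd (by omega) hs0
        · nlinarith
      · simp only [Finset.mem_filter] at hx ⊢
        exact ⟨hx.1, hx.2.1⟩
    omega

/-- An upper bound for the number of characters. -/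
theorem card_le : B.card ≤ h + 3 + e := by
  classical
  obtain ⟨c, -, hc, hE, hS⟩ := hR.basic
  have hsub : B ⊆ (B.filter fun x => Odd (s x)) ∪
      ((B.filter fun x => ¬ Odd (s x) ∧ s x ≠ 0) ∪ Finset.univ.image c) := by
    intro x hx
    by_cases ho : Odd (s x)
    · exact Finset.mem_union_left _ (Finset.mem_filter.2 ⟨hx, ho⟩)
    refine Finset.mem_union_right _ ?_
    by_cases h0 : s x = 0
    · obtain ⟨i, rfl⟩ := hE x hx h0
      exact Finset.mem_union_right _ (Finset.mem_image_of_mem c (Finset.mem_univ i))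
    · exact Finset.mem_union_left _ (Finset.mem_filter.2 ⟨hx, ho, h0⟩)
  have h1 := (Finset.card_le_card hsub).trans ((Finset.card_union_le _ _).trans
    (Nat.add_le_add_left (Finset.card_union_le _ _) _))
  rw [hR.card_odd] at h1
  have h2 := (Finset.card_image_le (s := (Finset.univ : Finset (Fin e))) (f := c)).trans
    (le_of_eq (Finset.card_fin e))
  omega

/-- **The invariants.** -/
theorem invariants {l m : ℕ} (hm : h = 2 ^ m) (hl : B.card = l + h + 2) (hl1 : 1 ≤ l)
    (hone : l = 1 → ∑ x ∈ B, 4 ^ ht x ≤ 4 * h) :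
    l ≤ 3 ∧ (B.filter fun x => ht x = 0).card = 4 ∧
      (∀ x ∈ B, ht x = 0 ∨ ht x = 1 ∨ ht x = m) ∧
      (2 ≤ m → (B.filter fun x => ht x = 1).card = h - 1) := by
  classical
  obtain ⟨c, hinj, hc, hE, hS⟩ := hR.basic
  obtain ⟨y₀, hy₀, hy00⟩ := hR.exists_zero
  have hys := (hR.height_zero_iff hy₀).1 hy00
  have hm1 : 1 ≤ m := by
    by_contra hm0
    have := hR.two_le
    rw [hm, show m = 0 by omega] at this
    norm_num at this
  set F := B.filter fun x => Odd (s x) with hFdef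
  set S := B.filter fun x => ¬ Odd (s x) ∧ s x ≠ 0 with hSdef
  set Z := B.filter fun x => s x = 0 with hZdef
  have hcard : B.card = F.card + S.card + Z.card := by
    rw [← Finset.card_union_of_disjoint, ← Finset.card_union_of_disjoint]
    · congr 1
      ext x
      simp only [hFdef, hSdef, hZdef, Finset.mem_union, Finset.mem_filter]
      tauto
    · simp only [hFdef, hSdef, hZdef, Finset.disjoint_left, Finset.mem_union, Finset.mem_filter]
      rintro x (⟨-, h1⟩ | ⟨-, -, h1⟩) ⟨-, h2⟩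
      · rw [h2] at h1; exact Int.not_odd_zero h1
      · exact h1 h2
    · simp only [hFdef, hSdef, Finset.disjoint_left, Finset.mem_filter]
      exact fun x h1 h2 => h2.2.1 h1.2
  have hZe : Z.card ≤ e := by
    refine le_trans (Finset.card_le_card (t := Finset.univ.image c) fun x hx => ?_)
      (Finset.card_image_le.trans (le_of_eq (Finset.card_fin e)))
    obtain ⟨i, rfl⟩ := hE x (Finset.mem_filter.1 hx).1 (Finset.mem_filter.1 hx).2
    exact Finset.mem_image_of_mem c (Finset.mem_univ i)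
  rw [hR.card_odd] at hcard
  have he2 := hR.le_two
  -- the heights at zero
  have hZh : ∀ x ∈ Z, ht x = m := by
    intro x hx
    obtain ⟨hxB, hx0⟩ := Finset.mem_filter.1 hx
    obtain ⟨i, hi⟩ := hE x hxB hx0
    have hns : ¬ Odd (s x) := by rw [hx0]; exact Int.not_odd_zero
    have hT : s x * s y₀ + ((h / 2 : ℕ) : ℤ) * ∑ j, a j x * a j y₀ = h ∨
        s x * s y₀ + ((h / 2 : ℕ) : ℤ) * ∑ j, a j x * a j y₀ = -h := by
      rw [hx0, zero_mul, zero_add, Finset.sum_eq_single i (fun j _ hj => by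
        rw [(hc j).2.2.2 x hxB hns (fun e' => hj (hinj (e'.symm.trans hi))), zero_mul])
        (fun hn => absurd (Finset.mem_univ i) hn)]
      obtain ⟨k, hk⟩ := hR.h_even
      have hk' : ((h / 2 : ℕ) : ℤ) * 2 = h := by rw [hk, show (k + k) / 2 = k by omega]; omega
      rcases (hR.short i).1 y₀ hy₀ hys with e1 | e1 <;> rcases hi ▸ (hc i).2.2.1 with e2 | e2 <;>
        rw [e1, e2] <;> omega
    have key : ∀ j, (2 : ℤ) ^ j ∣ s x * s y₀ + ((h / 2 : ℕ) : ℤ) * ∑ j, a j x * a j y₀ ↔ j ≤ m := by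
      intro j
      rw [← Nat.pow_dvd_pow_iff_le_right (show 1 < 2 by norm_num), ← Int.natCast_dvd_natCast]
      rcases hT with e1 | e1 <;> rw [e1, hm] <;> push_cast
      · rfl
      · exact dvd_neg
    have h1 := (key _).1 (hR.dvd x hxB y₀ hy₀)
    have h2 : ¬ ht x + 1 ≤ m := fun h' => hR.exact x hxB y₀ hy₀ hy00 ((key _).2 h')
    omega
  -- the excess of the squares
  have hss := hR.ss
  rw [← Finset.sum_filter_add_sum_filter_not B (fun x => Odd (s x)), ← hFdef] at hss
  have hSsum : ∑ x ∈ B.filter (fun x => ¬ Odd (s x)), s x * s x = ∑ x ∈ S, s x * s x := by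
    refine (Finset.sum_subset (fun x hx => ?_) fun x hx hn => ?_).symm
    · obtain ⟨h1, h2, -⟩ := Finset.mem_filter.1 hx
      exact Finset.mem_filter.2 ⟨h1, h2⟩
    · obtain ⟨h1, h2⟩ := Finset.mem_filter.1 hx
      have : s x = 0 := by
        by_contra h3
        exact hn (Finset.mem_filter.2 ⟨h1, h2, h3⟩)
      rw [this, mul_zero]
  rw [hSsum] at hss
  have hFex : ∀ x ∈ F, 0 ≤ s x * s x - 1 ∧ (8 : ℤ) ∣ s x * s x - 1 := by
    intro x hx
    obtain ⟨k, hk⟩ := (Finset.mem_filter.1 hx).2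
    rw [hk]
    refine ⟨by rcases le_or_gt 0 k with e' | e' <;> nlinarith, ?_⟩
    obtain ⟨t, ht'⟩ := Int.even_mul_succ_self k
    exact ⟨t, by linear_combination 4 * ht'⟩
  have hSex : ∀ x ∈ S, s x * s x - 4 = 0 ∨ 12 ≤ s x * s x - 4 := by
    intro x hx
    obtain ⟨-, h2, h3⟩ := Finset.mem_filter.1 hx
    obtain ⟨k, hk⟩ := Int.not_odd_iff_even.1 h2
    have : k ≤ -2 ∨ k = -1 ∨ k = 1 ∨ 2 ≤ k := by omega
    rw [hk]
    rcases this with e' | e' | e' | e'
    · right; nlinarith
    · left; rw [e']; norm_num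
    · left; rw [e']; norm_num
    · right; nlinarith
  have hexc : ∑ x ∈ F, (s x * s x - 1) + ∑ x ∈ S, (s x * s x - 4) =
      4 * ((h : ℤ) - 1 - S.card) := by
    rw [Finset.sum_sub_distrib, Finset.sum_sub_distrib, Finset.sum_const, Finset.sum_const,
      hR.card_odd]
    simp only [nsmul_eq_mul]
    push_cast
    linarith
  have h8 : (8 : ℤ) ∣ ∑ x ∈ F, (s x * s x - 1) := Finset.dvd_sum fun x hx => (hFex x hx).2
  have hFnn : (0 : ℤ) ≤ ∑ x ∈ F, (s x * s x - 1) := Finset.sum_nonneg fun x hx => (hFex x hx).1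
  have hSnn : ∀ x ∈ S, (0 : ℤ) ≤ s x * s x - 4 := fun x hx => by
    rcases hSex x hx with e' | e' <;> linarith
  have hS0 : ∑ x ∈ S, (s x * s x - 4) = 0 := by
    refine Finset.sum_eq_zero fun x hx => ?_
    rcases hSex x hx with e' | e'
    · exact e'
    have h1 := Finset.single_le_sum hSnn hx
    have h2 : (S.card : ℤ) + Z.card ≥ (h : ℤ) - 1 := by
      have := hl1; omega
    omega
  have hfull : S.card = h - 1 := by
    by_contra hne
    rw [hS0, add_zero] at hexc
    have hl1' : l = 1 := by omega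
    have hd : S.card + 3 ≤ h := by omega
    have hZ2 : 2 ≤ Z.card := by omega
    have h1 : ∑ x ∈ Z, 4 ^ ht x ≤ ∑ x ∈ B, 4 ^ ht x :=
      Finset.sum_le_sum_of_subset (Finset.filter_subset _ _)
    rw [Finset.sum_congr rfl (g := fun _ => 4 ^ m) fun x hx => by rw [hZh x hx],
      Finset.sum_const, smul_eq_mul] at h1
    have h2 := h1.trans (hone hl1')
    have h3 : 4 ^ m = h * h := by rw [hm, ← mul_pow]; rfl
    rw [h3] at h2
    nlinarith
  have hF1 : ∀ x ∈ F, s x = 1 ∨ s x = -1 := fun x hx => mul_self_eq_mul_self_iff.1 (by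
    have h1 := Finset.single_le_sum (fun y hy => (hFex y hy).1) hx
    have h2 := (hFex x hx).1
    omega)
  have hS2 : ∀ x ∈ S, s x = 2 ∨ s x = -2 := fun x hx => mul_self_eq_mul_self_iff.1 (by
    have h1 := (Finset.sum_eq_zero_iff_of_nonneg hSnn).1 hS0 x hx
    linarith)
  have hSh : ∀ x ∈ S, ht x = 1 := by
    intro x hx
    obtain ⟨hxB, hxo, hx0⟩ := Finset.mem_filter.1 hx
    by_cases hh : h = 2
    · -- a single character remains and its row is too long otherwise
      subst hh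
      have hm' : m = 1 := by
        rcases m with _ | _ | m
        · omega
        · rfl
        · rw [pow_succ, pow_succ] at hm
          have := Nat.one_le_two_pow (n := m)
          omega
      by_cases hex : ∃ i, x = c i
      · exfalso
        obtain ⟨i, hi⟩ := hex
        have hsing : ∀ y, ∑ j, a j x * a j y = a i x * a i y := fun y =>
          Finset.sum_eq_single i (fun j _ hj => by
            rw [(hc j).2.2.2 x hxB hxo (fun e' => hj (hinj (e'.symm.trans hi))), zero_mul])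
            (fun hn => absurd (Finset.mem_univ i) hn)
        have hax : a i x = 2 ∨ a i x = -2 := hi ▸ (hc i).2.2.1
        have hT2 : ∑ y ∈ B, (s x * s y + ((2 / 2 : ℕ) : ℤ) * ∑ j, a j x * a j y) *
            (s x * s y + ((2 / 2 : ℕ) : ℤ) * ∑ j, a j x * a j y) = 64 := by
          rw [Finset.sum_congr rfl (g := fun y => (s x * s x) * (s y * s y) +
            2 * (s x * a i x) * (s y * a i y) + (a i x * a i x) * (a i y * a i y)) fun y _ => by
              rw [hsing]; norm_num; ring]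
          rw [Finset.sum_add_distrib, Finset.sum_add_distrib, ← Finset.mul_sum, ← Finset.mul_sum,
            ← Finset.mul_sum, hR.ss, hR.sa, hR.aa, if_pos rfl]
          rcases hS2 x hx with e1 | e1 <;> rcases hax with e2 | e2 <;> rw [e1, e2] <;> norm_num
        have hxx : x ∉ F := fun hxF => hxo (Finset.mem_filter.1 hxF).2
        have hle : ∑ y ∈ insert x F, (s x * s y + ((2 / 2 : ℕ) : ℤ) * ∑ j, a j x * a j y) *
            (s x * s y + ((2 / 2 : ℕ) : ℤ) * ∑ j, a j x * a j y) ≤ 64 :=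
          hT2 ▸ Finset.sum_le_sum_of_subset_of_nonneg
            (Finset.insert_subset hxB (Finset.filter_subset _ _)) fun y _ _ => mul_self_nonneg _
        rw [Finset.sum_insert hxx,
          Finset.sum_congr (s₁ := F) rfl (g := fun _ => (16 : ℤ)) fun y hy => ?_,
          hsing, Finset.sum_const, hR.card_odd] at hle
        · rcases hS2 x hx with e1 | e1 <;> rcases hax with e2 | e2 <;> rw [e1, e2] at hle <;>
            norm_num at hle
        · have hy' := Finset.mem_filter.1 hy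
          have hne : s x * s y + ((2 / 2 : ℕ) : ℤ) * ∑ j, a j x * a j y ≠ 0 := fun h0 =>
            hR.exact x hxB y hy'.1 ((hR.height_zero_iff hy'.1).2 hy'.2) (by
              rw [h0]; exact dvd_zero _)
          rw [hsing] at hne ⊢
          rcases hS2 x hx with e1 | e1 <;> rcases hax with e2 | e2 <;>
            rcases (hR.short i).1 y hy'.1 hy'.2 with e3 | e3 <;> rcases hF1 y hy with e4 | e4 <;>
            simp [e1, e2, e3, e4] at hne ⊢
      · push Not at hex
        have hz : ∑ j, a j x * a j y₀ = 0 := Finset.sum_eq_zero fun j _ => by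
          rw [(hc j).2.2.2 x hxB hxo (hex j), zero_mul]
        have h1 := hR.dvd x hxB y₀ hy₀
        have h2 := hR.exact x hxB y₀ hy₀ hy00
        rw [hz, mul_zero, add_zero] at h1 h2
        refine eq_of_exact h1 h2 ?_ ?_ <;>
          rcases hS2 x hx with e1 | e1 <;>
          rcases hF1 y₀ (Finset.mem_filter.2 ⟨hy₀, hys⟩) with e2 | e2 <;> rw [e1, e2] <;> norm_num
    · have h4 : (4 : ℤ) ∣ ((h / 2 : ℕ) : ℤ) * ∑ j, a j x * a j y₀ := by
        have h2 : 2 ≤ m := by
          by_contra hlt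
          exact hh (by rw [hm, show m = 1 by omega]; rfl)
        rw [show (4 : ℤ) = 2 * 2 from rfl]
        refine mul_dvd_mul ?_ (Finset.dvd_sum fun j _ => ?_)
        · show ((2 : ℕ) : ℤ) ∣ ((h / 2 : ℕ) : ℤ)
          rw [Int.natCast_dvd_natCast, hm, show m = (m - 2) + 2 by omega, pow_add]
          exact ⟨2 ^ (m - 2), by omega⟩
        · refine Dvd.dvd.mul_right (even_iff_two_dvd.1 ?_) _
          have := (hR.parity j x hxB).add (Int.not_odd_iff_even.1 hxo)
          rwa [sub_add_cancel] at this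
      obtain ⟨q, hq⟩ := h4
      refine eq_of_exact (hR.dvd x hxB y₀ hy₀) (hR.exact x hxB y₀ hy₀ hy00) ?_ ?_ <;>
        rcases hS2 x hx with e1 | e1 <;>
        rcases hF1 y₀ (Finset.mem_filter.2 ⟨hy₀, hys⟩) with e2 | e2 <;> rw [e1, e2, hq] <;>
        norm_num <;> omega
  have htri : ∀ x ∈ B, x ∈ F ∨ x ∈ S ∨ x ∈ Z := fun x hx => by
    simp only [hFdef, hSdef, hZdef, Finset.mem_filter]
    tauto
  refine ⟨by omega, ?_, fun x hx => ?_, fun h2 => ?_⟩
  · rw [Finset.filter_congr fun x hx => hR.height_zero_iff hx]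
    exact hR.card_odd
  · rcases htri x hx with h' | h' | h'
    · exact Or.inl ((hR.height_zero_iff hx).2 (Finset.mem_filter.1 h').2)
    · exact Or.inr (Or.inl (hSh x h'))
    · exact Or.inr (Or.inr (hZh x h'))
  · rw [← hfull]
    congr 1
    ext x
    rw [Finset.mem_filter]
    refine ⟨fun ⟨hx, h1⟩ => ?_, fun hx => ⟨(Finset.mem_filter.1 hx).1, hSh x hx⟩⟩
    rcases htri x hx with h' | h' | h'
    · rw [(hR.height_zero_iff hx).2 (Finset.mem_filter.1 h').2] at h1
      exact absurd h1 (by norm_num)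
    · exact h'
    · rw [hZh x h'] at h1
      omega

end Rows

end CfsgLib.BlockA.QuatDefect
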