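import Cfsg.Agent.Lib.BlockA.DihedralInvariants
import Cfsg.Agent.Lib.BlockA.KleinDefect
import Cfsg.Agent.Lib.BlockA.QuatScaled
import Cfsg.Agent.Lib.BlockA.QuatShape

/-!
Blocks with dihedral or four-group defect group: the regular matrix through three short vectors.
-/

set_option autoImplicit false
set_option linter.unusedSectionVars false
set_option maxHeartbeats 2000000

namespace CfsgLib.BlockA.QuatDefect

open Cfsg CfsgLib.Block CfsgLib.BlockA CfsgLib.BlockB CfsgLib.BlockA.DihedralBlock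
  CfsgLib.BlockA.DihedralDefect
open scoped ComplexConjugate

universe u

variable {G : Type u} [Group G] [Fintype G] {M : Ideal AlgInt} [M.IsPrime]
  {B : Set (IrrCharacter G)} {P : Subgroup G}

/-- Four characters of height zero, the others of height one, and the regular relations. -/
structure Config (B : Set (IrrCharacter G)) (h : ℕ) (σ : IrrCharacter G → ℤ)
    (p q a b : IrrCharacter G) (L : Finset (IrrCharacter G)) : Prop where
  sign : ∀ x, σ x = 1 ∨ σ x = -1
  npq : p ≠ q
  npa : p ≠ a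
  npb : p ≠ b
  nqa : q ≠ a
  nqb : q ≠ b
  nab : a ≠ b
  notMem : p ∉ L ∧ q ∉ L ∧ a ∉ L ∧ b ∉ L
  mem : ∀ x, x ∈ B ↔ (x = p ∨ x = q ∨ x = a ∨ x = b) ∨ x ∈ L
  card : L.card + 1 = h
  ht0 : ∀ x, (x = p ∨ x = q ∨ x = a ∨ x = b) → blockHeight 2 B (x : G → ℂ) = 0
  ht1 : ∀ x ∈ L, blockHeight 2 B (x : G → ℂ) = 1
  rel : ∀ g : G, ¬ 2 ∣ orderOf g → (σ p : ℂ) * (p : G → ℂ) g + (σ q : ℂ) * (q : G → ℂ) g +
    (σ a : ℂ) * (a : G → ℂ) g + (σ b : ℂ) * (b : G → ℂ) g = 0
  relL : ∀ x ∈ L, ∀ g : G, ¬ 2 ∣ orderOf g → (σ p : ℂ) * (p : G → ℂ) g +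
    (σ q : ℂ) * (q : G → ℂ) g + (σ x : ℂ) * (x : G → ℂ) g = 0

theorem exists_config {c : Set (IrrCharacter (Subgroup.centralizer (P : Set G)))} {r : G} {h : ℕ}
    [Fintype (cz r h)] [Fintype (IrrCharacter (P.subgroupOf (cz r h)))]
    (hR : Rot P r h) (S : Setup M P c r h) (hM : IsPModular 2 M)
    (hmax : IsMaximalBrauerPair 2 M B P c) :
    ∃ σ p q a b L, Config B h σ p q a b L := by
  classical
  have := Fact.mk hM.1
  have hB : IsPBlock M B := hmax.1.2.1
  have hPD : IsDefectGroup 2 M B P := (maximal_core hM hmax).1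
  have hh2 := hR.two_le
  have hh3 : h ≠ 3 := by
    obtain ⟨k, hk⟩ := hR.two_pow
    intro e
    rcases k with _ | k
    · simp at hk; omega
    · rw [pow_succ] at hk; omega
  obtain ⟨ζ, hζ⟩ : ∃ ζ : ℂ, IsPrimitiveRoot ζ (2 * h) :=
    ⟨_, Complex.isPrimitiveRoot_exp (2 * h) (by omega)⟩
  obtain ⟨u, hu0, hus, hu, hexp⟩ := exists_diff hR S hζ
  set T := B.toFinite.toFinset with hTdef
  have hmT : ∀ {χ}, χ ∈ T ↔ χ ∈ B := B.toFinite.mem_toFinset
  have hhalf : ζ ^ h = -1 := by
    have h1 : ζ ^ h * ζ ^ h = 1 := by rw [← pow_add, ← two_mul, hζ.pow_eq_one]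
    rcases mul_self_eq_one_iff.1 h1 with e | e
    · have := Nat.le_of_dvd hR.h_pos ((hζ.pow_eq_one_iff_dvd h).1 e)
      omega
    · exact e
  -- the column at the involution
  let F : IrrCharacter G → ℤ := fun χ => ∑ i ∈ Finset.range (2 * h), u i χ * (-1) ^ i
  have hF : ∀ χ, col hR S χ h = (F χ : ℂ) := fun χ => by
    rw [hexp χ h (fun e => by have := Nat.le_of_dvd hR.h_pos e; omega)]
    simp only [F]
    push_cast
    refine Finset.sum_congr rfl fun i _ => ?_
    rw [← pow_mul, mul_comm i, pow_mul, hhalf]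
  have hfull : ∀ χ i, 0 < i → i < 2 * h →
      u i χ = u (if i ≤ h then i else 2 * h - i) χ := fun χ i hi0 hi => by
    split_ifs with e
    · rfl
    · exact (hus χ i hi0 hi).symm
  have hidx : ∀ i, 0 < i → i < 2 * h → (if i ≤ h then i else 2 * h - i) ∈ Finset.Icc 1 h :=
    fun i hi0 hi => Finset.mem_Icc.2 (by split_ifs <;> omega)
  -- the configuration
  obtain ⟨s, σ, hσ, hs3, hs4, hint, hTs, hval⟩ := exists_supports T hh2 u
    (fun χ => (charDegree (χ : G → ℂ) : ℤ))
    (fun χ _ => by have := Nat.pos_of_ne_zero (charDegree_ne_zero χ.2); omega)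
    (fun j hj => by
      have h0 := diff_regular hR S hu hM hmax (j := j)
        (by have := (Finset.mem_Icc.1 hj).2; omega) (ρ := (1 : G)) (by rw [orderOf_one]; norm_num)
      refine Int.cast_injective (α := ℂ) ?_
      push_cast
      rw [← h0]
      refine Finset.sum_congr rfl fun χ _ => ?_
      rw [CfsgLib.BlockB.irr_degree_cast χ, mul_comm])
    (fun i hi j hj => diff_gram hR S hζ hu hM hmax (Finset.mem_Icc.1 hi).1 (Finset.mem_Icc.1 hi).2
      (Finset.mem_Icc.1 hj).1 (Finset.mem_Icc.1 hj).2)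
    (fun χ hχ => by
      by_contra hn
      push Not at hn
      have hz : F χ = 0 := by
        refine Finset.sum_eq_zero fun i hi => ?_
        rcases Nat.eq_zero_or_pos i with rfl | hi0
        · rw [hu0, zero_mul]
        · rw [hfull χ i hi0 (Finset.mem_range.1 hi), hn _ (hidx i hi0 (Finset.mem_range.1 hi)),
            zero_mul]
      exact (col_height hR S hM hmax hPD (hmT.1 hχ) 0 (by rw [hF, hz])).1 rfl)
  rcases exists_cores T hh2 hh3 s hs3 hs4 hint hTs with hsun | hex
  swap
  · exact (DihedralDefect.not_exceptional hR S hζ hu hu0 hus hexp hM hmax s σ hσ hval hex).elim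
  obtain ⟨p, q, a, b, l, npq, npa, npb, nqa, nqb, nab, hl, hinj, hsj, hsh, hT⟩ := hsun
  have hhm : h ∈ Finset.Icc 1 h := Finset.mem_Icc.2 ⟨by omega, le_rfl⟩
  have hcore : ∀ {x}, x ∈ ({p, q, a, b} : Finset (IrrCharacter G)) → x ∈ T := fun {x} hx => by
    rw [hT]; exact Finset.mem_union_left _ hx
  have hleaf : ∀ j ∈ Finset.Ico 1 h, l j ∈ T := fun j hj => by
    rw [hT]; exact Finset.mem_union_right _ (Finset.mem_image_of_mem l hj)
  have hI : ∀ {j}, j ∈ Finset.Ico 1 h → j ∈ Finset.Icc 1 h := fun hj =>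
    Finset.Ico_subset_Icc_self hj
  have hmemj : ∀ i ∈ Finset.Icc 1 h, i = h ∨ i ∈ Finset.Ico 1 h := fun i hi => by
    rw [Finset.mem_Icc] at hi; rw [Finset.mem_Ico]; omega
  -- the values of the column at the involution
  have hFp : ∀ x, x = p ∨ x = q → F x = -σ x := fun x hx => by
    have hxT : x ∈ T := hcore (by rcases hx with rfl | rfl <;> simp)
    have hx' : ∀ i ∈ Finset.Icc 1 h, x ∈ s i := fun i hi => by
      rcases hmemj i hi with rfl | hi'
      · rw [hsh]; rcases hx with rfl | rfl <;> simp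
      · rw [hsj i hi']; rcases hx with rfl | rfl <;> simp
    calc F x = ∑ i ∈ Finset.range (2 * h), (σ x * (-1) ^ i - if i = 0 then σ x else 0) := by
          refine Finset.sum_congr rfl fun i hi => ?_
          rcases Nat.eq_zero_or_pos i with rfl | hi0
          · simp [hu0]
          · rw [hfull x i hi0 (Finset.mem_range.1 hi),
              hval _ (hidx i hi0 (Finset.mem_range.1 hi)) x hxT,
              if_pos (hx' _ (hidx i hi0 (Finset.mem_range.1 hi))), if_neg hi0.ne', sub_zero]
      _ = -σ x := by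
          rw [Finset.sum_sub_distrib, ← Finset.mul_sum, neg_one_geom_sum, if_pos (even_two_mul h),
            Finset.sum_ite_eq', if_pos (Finset.mem_range.2 (by omega))]
          ring
  have hFa : ∀ x, x = a ∨ x = b → F x = σ x * (-1) ^ h := fun x hx => by
    have hxT : x ∈ T := hcore (by rcases hx with rfl | rfl <;> simp)
    have hx' : ∀ i ∈ Finset.Icc 1 h, x ∈ s i ↔ i = h := fun i hi => by
      rcases hmemj i hi with rfl | hi'
      · simp only [hsh, iff_true]; rcases hx with rfl | rfl <;> simp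
      · have hne : i ≠ h := (Finset.mem_Ico.1 hi').2.ne
        simp only [hsj i hi', hne, iff_false, Finset.mem_insert, Finset.mem_singleton, not_or]
        rcases hx with rfl | rfl
        · exact ⟨npa.symm, nqa.symm, (hl i hi').2.2.1.symm⟩
        · exact ⟨npb.symm, nqb.symm, (hl i hi').2.2.2.symm⟩
    refine (Finset.sum_eq_single h (fun i hi hne => ?_) (fun hn => absurd
      (Finset.mem_range.2 (by omega)) hn)).trans ?_
    · rcases Nat.eq_zero_or_pos i with rfl | hi0
      · rw [hu0, zero_mul]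
      · have hi2 := Finset.mem_range.1 hi
        rw [hfull x i hi0 hi2, hval _ (hidx i hi0 hi2) x hxT, if_neg, zero_mul]
        rw [hx' _ (hidx i hi0 hi2)]
        split_ifs <;> omega
    · rw [hval h hhm x hxT, if_pos ((hx' h hhm).2 rfl)]
  have hFl : ∀ j ∈ Finset.Ico 1 h, F (l j) = 2 * σ (l j) * (-1) ^ j := fun j hj => by
    have hj' := Finset.mem_Ico.1 hj
    have hx' : ∀ i ∈ Finset.Icc 1 h, l j ∈ s i ↔ i = j := fun i hi => by
      rcases hmemj i hi with rfl | hi'
      · simp only [hsh, Finset.mem_insert, Finset.mem_singleton]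
        simp [(hl j hj).1, (hl j hj).2.1, (hl j hj).2.2.1, (hl j hj).2.2.2, hj'.2.ne']
      · rw [hsj i hi']
        simp only [Finset.mem_insert, Finset.mem_singleton, (hl j hj).1, (hl j hj).2.1, false_or]
        exact ⟨fun e => (hinj hj hi' e).symm, fun e => by rw [e]⟩
    calc F (l j) = ∑ i ∈ Finset.range (2 * h), ((if i = j then σ (l j) * (-1) ^ j else 0) +
          (if i = 2 * h - j then σ (l j) * (-1) ^ j else 0)) := by
          refine Finset.sum_congr rfl fun i hi => ?_
          rcases Nat.eq_zero_or_pos i with rfl | hi0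
          · rw [hu0, zero_mul, if_neg (by omega), if_neg (by omega), add_zero]
          · have hi2 := Finset.mem_range.1 hi
            rw [hfull _ i hi0 hi2, hval _ (hidx i hi0 hi2) _ (hleaf j hj)]
            simp only [hx' _ (hidx i hi0 hi2)]
            rcases eq_or_ne i j with rfl | e1
            · rw [if_pos (if_pos hj'.2.le), if_pos rfl, if_neg (by omega), add_zero]
            rcases eq_or_ne i (2 * h - j) with rfl | e2
            · rw [if_pos (by split_ifs <;> omega), if_neg e1, if_pos rfl, zero_add]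
              congr 1
              rw [neg_one_pow_eq_pow_mod_two, neg_one_pow_eq_pow_mod_two (n := j)]
              congr 1
              omega
            · rw [if_neg (by split_ifs <;> omega), if_neg e1, if_neg e2, add_zero, zero_mul]
      _ = 2 * σ (l j) * (-1) ^ j := by
          rw [Finset.sum_add_distrib, Finset.sum_ite_eq', Finset.sum_ite_eq',
            if_pos (Finset.mem_range.2 (by omega)), if_pos (Finset.mem_range.2 (by omega))]
          ring
  -- the heights
  have hht0 : ∀ x ∈ ({p, q, a, b} : Finset (IrrCharacter G)),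
      blockHeight 2 B (x : G → ℂ) = 0 := fun x hx => by
    obtain ⟨-, h1, h2⟩ := col_height hR S hM hmax hPD (hmT.1 (hcore hx)) (F x) (hF x)
    refine DihedralDefect.height_of_dvd h1 h2 ?_
    simp only [Finset.mem_insert, Finset.mem_singleton] at hx
    rcases hx with e | e | e | e
    · rw [hFp x (Or.inl e)]; rcases hσ x with v | v <;> simp [v]
    · rw [hFp x (Or.inr e)]; rcases hσ x with v | v <;> simp [v]
    · rw [hFa x (Or.inl e)]
      rcases hσ x with v | v <;> rcases neg_one_pow_eq_or ℤ h with w | w <;> simp [v, w]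
    · rw [hFa x (Or.inr e)]
      rcases hσ x with v | v <;> rcases neg_one_pow_eq_or ℤ h with w | w <;> simp [v, w]
  have hht1 : ∀ j ∈ Finset.Ico 1 h, blockHeight 2 B ((l j : IrrCharacter G) : G → ℂ) = 1 :=
    fun j hj => by
    obtain ⟨-, h1, h2⟩ := col_height hR S hM hmax hPD (hmT.1 (hleaf j hj)) (F (l j)) (hF _)
    refine DihedralDefect.height_of_dvd h1 h2 ?_
    rw [hFl j hj]
    rcases hσ (l j) with v | v <;> rcases neg_one_pow_eq_or ℤ j with w | w <;> simp [v, w]
  have hcard4 : ({p, q, a, b} : Finset (IrrCharacter G)).card = 4 := by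
    rw [Finset.card_insert_of_notMem (by simp [npq, npa, npb]),
      Finset.card_insert_of_notMem (by simp [nqa, nqb]), Finset.card_pair nab]
  have hpair : ∀ i ∈ Finset.Icc 1 h, ∀ g : G, ¬ 2 ∣ orderOf g →
      ∑ χ ∈ s i, (σ χ : ℂ) * (χ : G → ℂ) g = 0 := by
    intro i hi g hg
    rw [← diff_regular hR S hu hM hmax (j := i) (by have := (Finset.mem_Icc.1 hi).2; omega) hg,
      ← Finset.sum_subset (s₁ := s i) (s₂ := T) (fun χ hχ => (hTs χ).2 ⟨i, hi, hχ⟩)
        (fun χ hχ hn => by rw [hval i hi χ hχ, if_neg hn, Int.cast_zero, mul_zero])]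
    refine Finset.sum_congr rfl fun χ hχ => ?_
    rw [hval i hi χ ((hTs χ).2 ⟨i, hi, hχ⟩), if_pos hχ]
    ring
  refine ⟨σ, p, q, a, b, (Finset.Ico 1 h).image l, hσ, npq, npa, npb, nqa, nqb, nab, ?_, fun x => ?_,
    ?_, fun x hx => hht0 x (by rcases hx with rfl | rfl | rfl | rfl <;> simp), ?_, fun g hg => ?_, ?_⟩
  · simp only [Finset.mem_image, not_exists, not_and]
    exact ⟨fun j hj => (hl j hj).1, fun j hj => (hl j hj).2.1, fun j hj => (hl j hj).2.2.1,
      fun j hj => (hl j hj).2.2.2⟩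
  · rw [← hmT, hT, Finset.mem_union]
    simp only [Finset.mem_insert, Finset.mem_singleton]
  · rw [Finset.card_image_of_injOn hinj, Nat.card_Ico]
    omega
  · intro x hx
    obtain ⟨j, hj, rfl⟩ := Finset.mem_image.1 hx
    exact hht1 j hj
  · have e := hpair h hhm g hg
    rw [hsh, Finset.sum_insert (by simp [npq, npa, npb]), Finset.sum_insert (by simp [nqa, nqb]),
      Finset.sum_pair nab] at e
    linear_combination e
  · intro x hx g hg
    obtain ⟨j, hj, rfl⟩ := Finset.mem_image.1 hx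
    have e := hpair j (hI hj) g hg
    rw [hsj j hj, Finset.sum_insert (by simp [npq, (hl j hj).1.symm]),
      Finset.sum_pair (hl j hj).2.1.symm] at e
    linear_combination e

/-- The regular matrix in the case where the short vectors split. -/
structure BadShape {ι : Type*} (F : Finset ι) (E : ι → ι → ℤ) (ht : ι → ℕ) (h : ℕ) (s V : ι → ℤ) :
    Prop where
  eq : ∀ x ∈ F, ∀ y ∈ F, E x y = s x * s y + (h : ℤ) * (V x * V y)
  ss : ∑ x ∈ F, s x * s x = 2 * (h : ℤ)
  VV : ∑ x ∈ F, V x * V x = 2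
  sV : ∑ x ∈ F, s x * V x = 0
  vanish : ∃ x ∈ F, ht x = 0 ∧ V x = 0

/-- A good shape, or the split one. -/
def HasShape (B : Set (IrrCharacter G)) (h : ℕ) : Prop :=
  (∃ (e : ℕ) (s : IrrCharacter G → ℤ) (A : Fin e → IrrCharacter G → ℤ), e ≤ 2 ∧
    blockRank 2 B = e + 1 ∧ (Even (h / 2) ∨ Even e) ∧
    Shape B.toFinite.toFinset (scaled 2 B) h e 2 s A) ∨
  (4 ≤ h ∧ blockRank 2 B = 2 ∧ ∃ s V : IrrCharacter G → ℤ,
    BadShape B.toFinite.toFinset (scaled 2 B) (fun x => blockHeight 2 B (x : G → ℂ)) h s V)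

theorem range_of_square {a b c : ℤ} (hc : 0 ≤ c) (h : a * a + b * b = c * a) : 0 ≤ a ∧ a ≤ c := by
  constructor <;> nlinarith [mul_self_nonneg b]

theorem two_pow_split : ∀ (k : ℕ) (i c : ℤ), 0 ≤ i → i ≤ 2 ^ k → c * c = i * (2 ^ k - i) →
    i = 0 ∨ i = 2 ^ k ∨ 2 * i = 2 ^ k
  | 0, i, c, h0, h1, _ => by norm_num at h1 ⊢; omega
  | k + 1, i, c, h0, h1, hc => by
    rcases Int.even_or_odd' i with ⟨j, rfl | rfl⟩
    · have hce : Even (c * c) := ⟨j * (2 ^ (k + 1) - 2 * j), by rw [hc]; ring⟩
      rw [Int.even_mul, or_self] at hce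
      obtain ⟨d, rfl⟩ := hce
      rw [pow_succ] at h1 hc ⊢
      have := two_pow_split k j d (by omega) (by omega) (by linarith)
      omega
    · rcases k with _ | k
      · norm_num at h1 ⊢
        omega
      · exfalso
        rw [pow_succ, pow_succ] at hc
        rcases Int.even_or_odd' c with ⟨d, rfl | rfl⟩
        · have e1 : 4 * (d * d + j * j + j - (2 * j + 1) * 2 ^ k) = -1 := by linear_combination hc
          omega
        · have e1 : 4 * (d * d + d + j * j + j - (2 * j + 1) * 2 ^ k) = -2 := by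
            linear_combination hc
          omega

/-- Five-term sums over the members. -/
theorem Config.sum_eq {h : ℕ} {σ : IrrCharacter G → ℤ} {p q a b : IrrCharacter G}
    {L : Finset (IrrCharacter G)} (hc : Config B h σ p q a b L) (f : IrrCharacter G → ℤ) :
    ∑ x ∈ B.toFinite.toFinset, f x = f p + f q + f a + f b + ∑ x ∈ L, f x := by
  classical
  have hT : B.toFinite.toFinset = ({p, q, a, b} : Finset (IrrCharacter G)) ∪ L := by
    ext x
    simp only [Set.Finite.mem_toFinset, hc.mem, Finset.mem_union, Finset.mem_insert,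
      Finset.mem_singleton]
  obtain ⟨h1, h2, h3, h4⟩ := hc.notMem
  rw [hT, Finset.sum_union (by simp [Finset.disjoint_insert_left, h1, h2, h3, h4]),
    Finset.sum_insert (by simp [hc.npq, hc.npa, hc.npb]),
    Finset.sum_insert (by simp [hc.nqa, hc.nqb]), Finset.sum_pair hc.nab]
  ring

/-- **The shape for a dihedral defect group.** -/
theorem hasShape_of_config (hM : IsPModular 2 M) (hB : IsPBlock M B) {h : ℕ} {σ : IrrCharacter G → ℤ}
    {p q a b : IrrCharacter G} {L : Finset (IrrCharacter G)} (hc : Config B h σ p q a b L)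
    (h2 : 2 ≤ h) (hpow : ∃ k : ℕ, h = 2 ^ k) (hd : 2 ^ blockDefect 2 B = 4 * h) :
    HasShape B (2 * h) ∧ Nat.card B = h + 3 := by
  classical
  have := Fact.mk hM.1
  set T := B.toFinite.toFinset with hTdef
  set E := scaled 2 B with hE
  obtain ⟨nLp, nLq, nLa, nLb⟩ := hc.notMem
  have hσ : ∀ x, σ x * σ x = 1 := fun x => by rcases hc.sign x with e | e <;> rw [e] <;> norm_num
  have hmT : ∀ {x}, x ∈ T ↔ x ∈ B := B.toFinite.mem_toFinset
  have hp := (hc.mem p).2 (by simp)
  have hq := (hc.mem q).2 (by simp)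
  have ha := (hc.mem a).2 (by simp)
  have hb := (hc.mem b).2 (by simp)
  have hL : ∀ {x}, x ∈ L → x ∈ B := fun hx => (hc.mem _).2 (Or.inr hx)
  have hsq : ∀ {x z}, x ∈ B → z ∈ B → ∑ y ∈ T, E x y * E y z = 4 * (h : ℤ) * E x z := by
    intro x z hx hz
    rw [sum_scaled_mul hM hB hx hz, hd]
    push_cast
    rfl
  have htr : ∑ y ∈ T, E y y = 4 * (h : ℤ) * blockRank 2 B := by
    rw [sum_scaled_self hM hB, hd]
    push_cast
    rfl
  have r4 : ∀ {y}, y ∈ B → σ p * E p y + σ q * E q y + σ a * E a y + σ b * E b y = 0 := by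
    intro y hy
    have h0 := sum_mul_scaled_eq_zero hM hB (Finset.univ : Finset (Fin 4)) (fun i => σ (![p, q, a, b] i))
      ![p, q, a, b] (fun g hg => by simpa [Fin.sum_univ_four] using hc.rel g hg) hy
    simpa [Fin.sum_univ_four] using h0
  have rL : ∀ {x y}, x ∈ L → y ∈ B → σ p * E p y + σ q * E q y + σ x * E x y = 0 := by
    intro x y hx hy
    have h0 := sum_mul_scaled_eq_zero hM hB (Finset.univ : Finset (Fin 3)) (fun i => σ (![p, q, x] i))
      ![p, q, x] (fun g hg => by simpa [Fin.sum_univ_three] using hc.relL x hx g hg) hy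
    simpa [Fin.sum_univ_three] using h0
  have hpodd : Odd (E p p) := by
    rw [← Int.not_even_iff_odd, even_iff_two_dvd]
    intro hd'
    refine (scaled_exact hM hB hp hp).1 ?_ (hc.ht0 p (Or.inl rfl))
    simpa [hc.ht0 p (Or.inl rfl)] using hd'
  let s : IrrCharacter G → ℤ := fun x =>
    if x ∈ L then -2 * σ x else if x = p ∨ x = q then σ x else -σ x
  let V₁ : IrrCharacter G → ℤ := fun x => if x = p then σ p else if x = q then -σ q else 0
  let V₂ : IrrCharacter G → ℤ := fun x => if x = a then σ a else if x = b then -σ b else 0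
  have sp : s p = σ p := by simp [s, nLp]
  have sq : s q = σ q := by simp [s, nLq]
  have sa : s a = -σ a := by simp [s, nLa, hc.npa.symm, hc.nqa.symm]
  have sb : s b = -σ b := by simp [s, nLb, hc.npb.symm, hc.nqb.symm]
  have sL : ∀ {x}, x ∈ L → s x = -2 * σ x := fun hx => if_pos hx
  have hne : ∀ {x}, x ∈ L → x ≠ p ∧ x ≠ q ∧ x ≠ a ∧ x ≠ b := fun hx =>
    ⟨fun e => nLp (e ▸ hx), fun e => nLq (e ▸ hx), fun e => nLa (e ▸ hx), fun e => nLb (e ▸ hx)⟩
  have v1p : V₁ p = σ p := by simp [V₁]
  have v1q : V₁ q = -σ q := by simp [V₁, hc.npq.symm]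
  have v1a : V₁ a = 0 := by simp [V₁, hc.npa.symm, hc.nqa.symm]
  have v1b : V₁ b = 0 := by simp [V₁, hc.npb.symm, hc.nqb.symm]
  have v1L : ∀ {x}, x ∈ L → V₁ x = 0 := fun hx => by simp [V₁, (hne hx).1, (hne hx).2.1]
  have v2p : V₂ p = 0 := by simp [V₂, hc.npa, hc.npb]
  have v2q : V₂ q = 0 := by simp [V₂, hc.nqa, hc.nqb]
  have v2a : V₂ a = σ a := by simp [V₂]
  have v2b : V₂ b = -σ b := by simp [V₂, hc.nab.symm]
  have v2L : ∀ {x}, x ∈ L → V₂ x = 0 := fun hx => by simp [V₂, (hne hx).2.2.1, (hne hx).2.2.2]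
  have hLc : (L.card : ℤ) = (h : ℤ) - 1 := by have := hc.card; omega
  have sums : ∀ u v w u' v' w' : ℤ, ∑ y ∈ T, (u * s y + v * V₁ y + w * V₂ y) *
      (u' * s y + v' * V₁ y + w' * V₂ y) = 4 * (h : ℤ) * (u * u') + 2 * (v * v') + 2 * (w * w') := by
    intro u v w u' v' w'
    rw [hc.sum_eq, Finset.sum_congr rfl (g := fun _ => 4 * (u * u')) fun x hx => by
      rw [sL hx, v1L hx, v2L hx]; linear_combination 4 * (u * u') * hσ x,
      Finset.sum_const, nsmul_eq_mul, hLc, sp, sq, sa, sb, v1p, v1q, v1a, v1b, v2p, v2q, v2a, v2b]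
    linear_combination ((u + v) * (u' + v')) * hσ p + ((u - v) * (u' - v')) * hσ q +
      ((w - u) * (w' - u')) * hσ a + ((u + w) * (u' + w')) * hσ b
  -- the leaves
  have hleafL : ∀ x ∈ L, ∀ y ∈ B, E x y = s x * s y := by
    intro l hl y hy
    have hlB := hL hl
    set t := E l l with ht
    have h4t : (4 : ℤ) ∣ t := by
      have := (scaled_exact hM hB hlB hlB).2 (by rw [hc.ht1 l hl]; norm_num)
      rw [hc.ht1 l hl] at this
      simpa using this
    set X := σ p * E p l with hX
    set Y := σ q * E q l with hY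
    have hXY : X + Y + σ l * t = 0 := rL hl hlB
    have hrowL : ∀ x ∈ L, σ x * E x l = σ l * t := fun x hx => by
      have := rL hx hlB
      linarith
    have hwz : σ a * E a l + σ b * E b l = σ l * t := by
      have := r4 hlB
      linarith
    have hrow : ∑ y ∈ T, E l y * E y l = 4 * (h : ℤ) * t := hsq hlB hlB
    rw [hc.sum_eq] at hrow
    simp only [hE, scaled_symm B l] at hrow
    rw [← hE] at hrow
    rw [Finset.sum_congr rfl (g := fun _ => t * t) fun x hx => ?_, Finset.sum_const, nsmul_eq_mul,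
      hLc] at hrow
    swap
    · calc E x l * E x l = (σ x * E x l) * (σ x * E x l) := by linear_combination -(E x l * E x l) * hσ x
        _ = t * t := by rw [hrowL x hx]; linear_combination t * t * hσ l
    set W := σ a * E a l with hW
    set U := σ b * E b l with hU
    have hrow' : X * X + Y * Y + W * W + U * U + ((h : ℤ) - 1) * (t * t) = 4 * (h : ℤ) * t := by
      rw [hX, hY, hW, hU]
      linear_combination hrow + E p l * E p l * hσ p + E q l * E q l * hσ q +
        E a l * E a l * hσ a + E b l * E b l * hσ b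
    have hkey : (X - Y) ^ 2 + (W - U) ^ 2 + 2 * (h : ℤ) * (t * (t - 4)) = 0 := by
      have e1 : (X + Y) * (X + Y) = t * t := by
        rw [show X + Y = -(σ l * t) by linarith]; linear_combination t * t * hσ l
      have e2 : (W + U) * (W + U) = t * t := by rw [hwz]; linear_combination t * t * hσ l
      linear_combination 2 * hrow' - e1 - e2
    have hpos : (0 : ℤ) < 2 * h := by positivity
    have htt : t * (t - 4) ≤ 0 := by nlinarith [sq_nonneg (X - Y), sq_nonneg (W - U)]
    have ht04 : t = 0 ∨ t = 4 := by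
      obtain ⟨k, hk⟩ := h4t
      rw [hk] at htt ⊢
      rcases le_or_gt k 0 with e | e
      · left
        nlinarith
      · right
        nlinarith
    have hdiff : X = Y ∧ W = U := by
      rcases ht04 with e | e <;> rw [e] at hkey <;> norm_num at hkey <;>
        exact ⟨by nlinarith [sq_nonneg (X - Y), sq_nonneg (W - U)],
          by nlinarith [sq_nonneg (X - Y), sq_nonneg (W - U)]⟩
    have ht4 : t = 4 := by
      rcases ht04 with e | e
      · exfalso
        rw [e] at hXY
        have hx0 : X = 0 := by linarith [hdiff.1]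
        rw [hX, mul_eq_zero] at hx0
        rcases hx0 with e' | e'
        · rcases hc.sign p with s' | s' <;> omega
        · exact regEntry_ne_zero hM hB hp hlB (hc.ht0 p (Or.inl rfl))
            (by rw [← pow_mul_scaled hM hB hlB, ← hE, e', mul_zero])
      · exact e
    rw [ht4] at hXY hwz hrowL
    rw [hE, scaled_symm, ← hE, sL hl]
    rcases (hc.mem y).1 hy with (rfl | rfl | rfl | rfl) | hy'
    · have e1 : X = -2 * σ l := by linarith [hdiff.1]
      rw [sp]; linear_combination σ y * e1 - E y l * hσ y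
    · have e1 : Y = -2 * σ l := by linarith [hdiff.1]
      rw [sq]; linear_combination σ y * e1 - E y l * hσ y
    · have e1 : W = 2 * σ l := by linarith [hdiff.2]
      rw [sa]; linear_combination σ y * e1 - E y l * hσ y
    · have e1 : U = 2 * σ l := by linarith [hdiff.2]
      rw [sb]; linear_combination σ y * e1 - E y l * hσ y
    · rw [sL hy']; linear_combination σ y * hrowL y hy' - E y l * hσ y
  -- the rest of the matrix
  set D : IrrCharacter G → IrrCharacter G → ℤ := fun x y => E x y - s x * s y with hD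
  have hDsymm : ∀ x y, D x y = D y x := fun x y => by
    simp only [hD, hE, scaled_symm B x y]; ring
  obtain ⟨l₀, hl₀⟩ : L.Nonempty := Finset.card_pos.1 (by have := hc.card; omega)
  have hD1 : ∀ {x y}, x ∈ B → y ∈ B → D x y = V₁ x * (σ p * D p y) + V₂ x * (σ a * D a y) := by
    intro x y hx hy
    rcases (hc.mem x).1 hx with (rfl | rfl | rfl | rfl) | hx'
    · rw [v1p, v2p]; linear_combination -(D x y) * hσ x
    · rw [v1q, v2q]
      have e1 := rL hl₀ hy
      have e2 := hleafL l₀ hl₀ y hy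
      simp only [hD, sp, sq]
      rw [e2, sL hl₀] at e1
      linear_combination σ x * e1 - (E x y) * hσ x + 2 * σ x * s y * hσ l₀ - σ x * s y * hσ p
    · rw [v1a, v2a]; linear_combination -(D x y) * hσ x
    · rw [v1b, v2b]
      have e1 := rL hl₀ hy
      have e2 := hleafL l₀ hl₀ y hy
      have e3 := r4 hy
      simp only [hD, sa, sb]
      rw [e2, sL hl₀] at e1
      linear_combination σ x * (e3 - e1) - (E x y) * hσ x - 2 * σ x * s y * hσ l₀ +
        σ x * s y * hσ a
    · rw [v1L hx', v2L hx']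
      simp only [hD, hleafL x hx' y hy]
      ring
  set a11 := D p p with h11
  set a12 := σ p * σ a * D a p with h12
  set a22 := D a a with h22
  have hform : ∀ {x y}, x ∈ B → y ∈ B → E x y = s x * s y + a11 * (V₁ x * V₁ y) +
      a12 * (V₁ x * V₂ y + V₂ x * V₁ y) + a22 * (V₂ x * V₂ y) := by
    intro x y hx hy
    have e := hD1 hx hy
    rw [hDsymm p y, hDsymm a y, hD1 hy hp, hD1 hy ha, hDsymm p a, ← h11, ← h22] at e
    rw [h12]
    have e' : E x y = s x * s y + D x y := by simp only [hD]; ring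
    rw [e', e]
    linear_combination a11 * V₁ x * V₁ y * hσ p + a22 * V₂ x * V₂ y * hσ a
  clear_value a11 a12 a22 D s V₁ V₂
  have hEp : ∀ {y}, y ∈ B → E p y = σ p * s y + (σ p * a11) * V₁ y + (σ p * a12) * V₂ y ∧
      E a y = (-σ a) * s y + (σ a * a12) * V₁ y + (σ a * a22) * V₂ y := fun hy => by
    constructor
    · rw [hform hp hy, sp, v1p, v2p]; ring
    · rw [hform ha hy, sa, v1a, v2a]; ring
  have hsymm' : ∀ x y, E x y = E y x := fun x y => scaled_symm B x y
  have q11 : a11 * a11 + a12 * a12 = 2 * (h : ℤ) * a11 := by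
    have e := hsq hp hp
    rw [Finset.sum_congr rfl fun y hy => by
      rw [hsymm' y p, (hEp (hmT.1 hy)).1], sums, (hEp hp).1, sp, v1p, v2p] at e
    have e' : 2 * (a11 * a11 + a12 * a12) = 2 * (2 * (h : ℤ) * a11) := by
      linear_combination e - 2 * (a11 * a11 + a12 * a12 - 2 * (h : ℤ) * a11) * hσ p
    linarith
  have q22 : a22 * a22 + a12 * a12 = 2 * (h : ℤ) * a22 := by
    have e := hsq ha ha
    rw [Finset.sum_congr rfl fun y hy => by
      rw [hsymm' y a, (hEp (hmT.1 hy)).2], sums, (hEp ha).2, sa, v1a, v2a] at e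
    have e' : 2 * (a22 * a22 + a12 * a12) = 2 * (2 * (h : ℤ) * a22) := by
      linear_combination e - 2 * (a22 * a22 + a12 * a12 - 2 * (h : ℤ) * a22) * hσ a
    linarith
  have q12 : a12 * (a11 + a22) = 2 * (h : ℤ) * a12 := by
    have e := hsq hp ha
    rw [Finset.sum_congr rfl fun y hy => by
      rw [hsymm' y a, (hEp (hmT.1 hy)).1, (hEp (hmT.1 hy)).2], sums, (hEp ha).1, sa, v1a, v2a] at e
    have e' : 2 * (a12 * (a11 + a22)) = 2 * (2 * (h : ℤ) * a12) := by
      linear_combination σ p * σ a * e -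
        2 * (a12 * (a11 + a22) - 2 * (h : ℤ) * a12) * (σ a * σ a * hσ p + hσ a)
    linarith
  have qtr : a11 + a22 = 2 * (h : ℤ) * ((blockRank 2 B : ℤ) - 1) := by
    have e := htr
    rw [Finset.sum_congr rfl (g := fun x => s x * s x + a11 * (V₁ x * V₁ x) +
      (2 * a12) * (V₁ x * V₂ x) + a22 * (V₂ x * V₂ x)) fun x hx => by
        rw [hform (hmT.1 hx) (hmT.1 hx)]; ring,
      Finset.sum_add_distrib, Finset.sum_add_distrib, Finset.sum_add_distrib, ← Finset.mul_sum,
      ← Finset.mul_sum, ← Finset.mul_sum] at e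
    have e1 := sums 1 0 0 1 0 0
    have e2 := sums 0 1 0 0 1 0
    have e3 := sums 0 1 0 0 0 1
    have e4 := sums 0 0 1 0 0 1
    simp only [one_mul, zero_mul, mul_zero, add_zero, zero_add, mul_one] at e1 e2 e3 e4
    rw [e1, e2, e3, e4] at e
    linarith
  have heven : Even a11 := by
    have e : E p p = 1 + a11 := by rw [(hEp hp).1, sp, v1p, v2p]; linear_combination (1 + a11) * hσ p
    rw [e, Int.odd_add'] at hpodd
    simpa using hpodd
  have hcard : Nat.card B = h + 3 := by
    have e : ((T.card : ℤ)) = 4 + L.card := by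
      rw [Finset.card_eq_sum_ones, Nat.cast_sum, hc.sum_eq, Finset.sum_const, nsmul_eq_mul]
      push_cast
      ring
    rw [Nat.card_eq_card_finite_toFinset B.toFinite, ← hTdef]
    omega
  refine ⟨?_, hcard⟩
  -- assembling
  have hss : ∑ y ∈ T, s y * s y = 2 * ((2 * h : ℕ) : ℤ) := by
    have e1 := sums 1 0 0 1 0 0
    simp only [one_mul, zero_mul, add_zero, mul_zero, mul_one] at e1
    rw [e1]; push_cast; ring
  have hpar : ∀ (α β : ℤ), Odd α → Odd β → ∀ x ∈ T, Even (α * V₁ x + β * V₂ x - s x) := by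
    intro α β hα hβ x hx
    have ho : ∀ y, Odd (σ y) := fun y => by rcases hc.sign y with e | e <;> rw [e] <;> decide
    rcases (hc.mem x).1 (hmT.1 hx) with (rfl | rfl | rfl | rfl) | hx'
    · rw [sp, v1p, v2p, mul_zero, add_zero]; exact (hα.mul (ho _)).sub_odd (ho _)
    · rw [sq, v1q, v2q, mul_zero, add_zero]; exact (hα.mul (ho _).neg).sub_odd (ho _)
    · rw [sa, v1a, v2a, mul_zero, zero_add]; exact (hβ.mul (ho _)).sub_odd (ho _).neg
    · rw [sb, v1b, v2b, mul_zero, zero_add]; exact (hβ.mul (ho _).neg).sub_odd (ho _).neg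
    · rw [sL hx', v1L hx', v2L hx']; exact ⟨σ x, by ring⟩
  have hmk : ∀ (u v : ℤ), ∑ y ∈ T, s y * (u * V₁ y + v * V₂ y) = 0 := fun u v => by
    have e := sums 1 0 0 0 u v
    simpa using e
  have hmk2 : ∀ (u v u' v' : ℤ), ∑ y ∈ T, (u * V₁ y + v * V₂ y) * (u' * V₁ y + v' * V₂ y) =
      2 * (u * u') + 2 * (v * v') := fun u v u' v' => by
    simpa using sums 0 u v 0 u' v'
  have hh' : ((2 * h / 2 : ℕ) : ℤ) = h := by omega
  have hEh : Even (2 * h / 2) := by
    obtain ⟨k, hk⟩ := hpow
    rcases k with _ | k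
    · norm_num at hk; omega
    · exact ⟨2 ^ k, by rw [pow_succ] at hk; omega⟩
  have ha11 : 0 ≤ a11 ∧ a11 ≤ 2 * h := range_of_square (by omega) q11
  have ha22 : 0 ≤ a22 ∧ a22 ≤ 2 * h := range_of_square (by omega) q22
  have hl1 := one_le_blockRank hM hB
  have hl3 : blockRank 2 B ≤ 3 := by
    by_contra hlt
    have h3 : (3 : ℤ) ≤ (blockRank 2 B : ℤ) - 1 := by omega
    have h5 := mul_le_mul_of_nonneg_left h3 (show (0 : ℤ) ≤ 2 * (h : ℤ) by omega)
    linarith only [h5, qtr, ha11.2, ha22.2, show (2 : ℤ) ≤ (h : ℤ) by exact_mod_cast h2]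
  interval_cases hl : blockRank 2 B
  · left
    have e0 : a11 = 0 ∧ a22 = 0 := by push_cast at qtr; constructor <;> linarith [ha11.1, ha22.1]
    have e1 : a12 = 0 := by rw [e0.1] at q11; simpa using q11
    refine ⟨0, s, Fin.elim0, by omega, by omega, Or.inl hEh, fun x hx y hy => ?_, hss,
      fun i => i.elim0, fun i => i.elim0, fun i => i.elim0⟩
    show E x y = _
    rw [hform (hmT.1 hx) (hmT.1 hy), e0.1, e0.2, e1]
    simp
  · push_cast at qtr
    have hi : a12 * a12 = a11 * (2 * (h : ℤ) - a11) := by linarith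
    obtain ⟨k, hk⟩ := hpow
    have hk2 : (2 : ℤ) ^ (k + 1) = 2 * (h : ℤ) := by rw [hk, pow_succ]; push_cast; ring
    rw [← hk2] at hi
    have hcases := two_pow_split (k + 1) a11 a12 ha11.1 (by omega) hi
    rw [hk2] at hcases hi
    have e22 : a22 = 2 * (h : ℤ) - a11 := by linarith
    rcases hcases with e | e | e
    · right
      have e1 : a12 = 0 := by rw [e] at hi; simpa using hi
      refine ⟨by omega, hl, s, V₂, fun x hx y hy => ?_, hss, ?_, ?_,
        ⟨p, hmT.2 hp, hc.ht0 p (Or.inl rfl), v2p⟩⟩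
      · show E x y = _
        rw [hform (hmT.1 hx) (hmT.1 hy), e22, e, e1]; push_cast; ring
      · simpa using hmk2 0 1 0 1
      · simpa using hmk 0 1
    · right
      have e1 : a12 = 0 := by rw [e] at hi; simpa using hi
      refine ⟨by omega, hl, s, V₁, fun x hx y hy => ?_, hss, ?_, ?_,
        ⟨a, hmT.2 ha, hc.ht0 a (by simp), v1a⟩⟩
      · show E x y = _
        rw [hform (hmT.1 hx) (hmT.1 hy), e22, e, e1]; push_cast; ring
      · simpa using hmk2 1 0 1 0
      · simpa using hmk 1 0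
    · left
      have e11 : a11 = (h : ℤ) := by linarith
      obtain ⟨ε, hε, e12⟩ : ∃ ε : ℤ, (ε = 1 ∨ ε = -1) ∧ a12 = ε * h := by
        have : a12 * a12 = (h : ℤ) * h := by rw [hi, e11]; ring
        rcases mul_self_eq_mul_self_iff.1 this with e' | e'
        exacts [⟨1, Or.inl rfl, by rw [e']; ring⟩, ⟨-1, Or.inr rfl, by rw [e']; ring⟩]
      have hε2 : ε * ε = 1 := by rcases hε with e' | e' <;> rw [e'] <;> norm_num
      refine ⟨1, s, fun _ x => 1 * V₁ x + ε * V₂ x, by omega, hl, Or.inl hEh,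
        fun x hx y hy => ?_, hss, fun i j => ?_, fun i => hmk 1 ε,
        fun i x hx => hpar 1 ε odd_one (by rcases hε with e' | e' <;> rw [e'] <;> decide) x hx⟩
      · show E x y = _
        rw [hform (hmT.1 hx) (hmT.1 hy), Fin.sum_univ_one, e22, e11, e12, hh']
        linear_combination -((h : ℤ) * (V₂ x * V₂ y)) * hε2
      · rw [if_pos (Subsingleton.elim i j), hmk2]
        linear_combination 2 * hε2
  · left
    push_cast at qtr
    have e11 : a11 = 2 * (h : ℤ) := by linarith [ha11.2, ha22.2]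
    have e22 : a22 = 2 * (h : ℤ) := by linarith [ha11.2, ha22.2]
    have e12 : a12 = 0 := by rw [e11] at q11; nlinarith
    refine ⟨2, s, ![fun x => 1 * V₁ x + 1 * V₂ x, fun x => 1 * V₁ x + (-1) * V₂ x], le_rfl, hl,
      Or.inr even_two, fun x hx y hy => ?_, hss, fun i j => ?_, fun i => ?_, fun i x hx => ?_⟩
    · show E x y = _
      rw [hform (hmT.1 hx) (hmT.1 hy), Fin.sum_univ_two, e11, e22, e12, hh']
      simp
      ring
    · fin_cases i <;> fin_cases j <;> simp only [Matrix.cons_val_zero, Matrix.cons_val_one,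
        Fin.zero_eta, Fin.mk_one, if_pos rfl] <;> rw [hmk2] <;> norm_num
    · fin_cases i <;> simp only [Matrix.cons_val_zero, Matrix.cons_val_one, Fin.zero_eta,
        Fin.mk_one] <;> exact hmk _ _
    · fin_cases i <;> simp only [Matrix.cons_val_zero, Matrix.cons_val_one, Fin.zero_eta,
        Fin.mk_one]
      · exact hpar 1 1 odd_one odd_one x hx
      · exact hpar 1 (-1) odd_one odd_one.neg x hx

/-- A symmetric matrix on four points with odd entries, of trace four and square four times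
itself, has rank one. -/
theorem rankone_four {ι : Type*} (T : Finset ι) (hT : T.card = 4) (N : ι → ι → ℤ)
    (hs : ∀ x y, N x y = N y x) (ho : ∀ x ∈ T, ∀ y ∈ T, Odd (N x y))
    (hsq : ∀ x ∈ T, ∀ z ∈ T, ∑ y ∈ T, N x y * N y z = 4 * N x z)
    (htr : ∑ x ∈ T, N x x = 4) :
    ∃ v : ι → ℤ, (∀ x ∈ T, v x = 1 ∨ v x = -1) ∧ ∀ x ∈ T, ∀ y ∈ T, N x y = v x * v y := by
  classical
  have h1 : ∀ x ∈ T, ∀ y ∈ T, 1 ≤ N x y * N x y := fun x hx y hy => by
    obtain ⟨k, hk⟩ := ho x hx y hy
    rw [hk]
    rcases le_or_gt 0 k with e | e <;> nlinarith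
  have hdiag : ∀ x ∈ T, 1 ≤ N x x := fun x hx => by
    have h2 := Finset.card_nsmul_le_sum T (fun y => N x y * N y x) 1 fun y hy => by
      rw [hs y x]; exact h1 x hx y hy
    rw [hT, hsq x hx x hx] at h2
    simp only [nsmul_eq_mul] at h2
    push_cast at h2
    linarith
  have hone : ∀ x ∈ T, N x x = 1 := fun x hx => by
    have h2 := Finset.sum_le_sum (s := T.erase x) fun y hy => hdiag y (Finset.mem_of_mem_erase hy)
    rw [Finset.sum_const, Finset.card_erase_of_mem hx, hT, nsmul_eq_mul] at h2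
    rw [← Finset.add_sum_erase T _ hx] at htr
    have := hdiag x hx
    push_cast at h2
    linarith
  have hpm : ∀ x ∈ T, ∀ y ∈ T, N x y = 1 ∨ N x y = -1 := fun x hx y hy => by
    refine mul_self_eq_one_iff.1 (le_antisymm ?_ (h1 x hx y hy))
    have h2 := hsq x hx x hx
    rw [hone x hx, ← Finset.add_sum_erase T _ hy, hs y x] at h2
    have h3 := Finset.card_nsmul_le_sum (T.erase y) (fun z => N x z * N z x) 1 fun z hz => by
      rw [hs z x]; exact h1 x hx z (Finset.mem_of_mem_erase hz)
    rw [Finset.card_erase_of_mem hy, hT, nsmul_eq_mul] at h3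
    push_cast at h3
    linarith
  obtain ⟨x₀, hx₀⟩ : T.Nonempty := Finset.card_pos.1 (by omega)
  refine ⟨N x₀, hpm x₀ hx₀, fun x hx y hy => ?_⟩
  have h2 := hsq x hx y hy
  have hall : ∀ z ∈ T, 0 ≤ 1 - N x y * (N x z * N z y) := fun z hz => by
    rcases hpm x hx y hy with a | a <;> rcases hpm x hx z hz with b | b <;>
      rcases hpm z hz y hy with c | c <;> rw [a, b, c] <;> norm_num
  have hz : ∑ z ∈ T, (1 - N x y * (N x z * N z y)) = 0 := by
    rw [Finset.sum_sub_distrib, ← Finset.mul_sum, h2, Finset.sum_const, hT]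
    rcases hpm x hx y hy with a | a <;> rw [a] <;> norm_num
  have h3 := (Finset.sum_eq_zero_iff_of_nonneg hall).1 hz x₀ hx₀
  rw [hs x₀ x]
  rcases hpm x hx y hy with a | a <;> rcases hpm x hx x₀ hx₀ with b | b <;>
    rcases hpm x₀ hx₀ y hy with c | c <;> simp [a, b, c] at h3 ⊢

/-- **The shape for a four-group.** -/
theorem hasShape_klein (hM : IsPModular 2 M) (hV : IsKleinFour P)
    {c : Set (IrrCharacter (Subgroup.centralizer (P : Set G)))}
    (hmax : IsMaximalBrauerPair 2 M B P c) : HasShape B 2 ∧ Nat.card B = 4 := by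
  classical
  have := Fact.mk hM.1
  have hB : IsPBlock M B := hmax.1.2.1
  obtain ⟨he, hk, hl⟩ := KleinDefect.klein_invariants hM hmax hV
  have hPD : IsDefectGroup 2 M B P := (maximal_core hM hmax).1
  have hdef : blockDefect 2 B = 2 := by
    have h := natCard_defectGroup hM hB hPD
    rw [hV.card_four] at h
    exact (Nat.pow_right_injective le_rfl (h : 2 ^ 2 = 2 ^ blockDefect 2 B)).symm
  have hht : ∀ x ∈ B, blockHeight 2 B (x : G → ℂ) = 0 := by
    have hab : ∀ v ∈ P, ∀ w ∈ P, v * w = w * v := fun v hv w hw =>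
      congrArg Subtype.val
        ((IsKleinFour.isMulCommutative (G := P)).is_comm.comm ⟨v, hv⟩ ⟨w, hw⟩)
    have : Nontrivial P := Finite.one_lt_card_iff_nontrivial.1 (by rw [hV.card_four]; norm_num)
    obtain ⟨z, hz⟩ := exists_ne (1 : P)
    have hz2 := CfsgLib.Invol.klein_orderOf hV z.2 (fun e => hz (Subtype.ext e))
    obtain ⟨b, hb, -, hbd⟩ := AbelianSub.exists_blk hM hmax hab z.2
    have := Fintype.ofFinite (Subgroup.centralizer ({(z : G)} : Set G))
    have := Fintype.ofFinite (IrrCharacter G)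
    exact (KleinDefect.natCard_eq_four hM hz2 hb hbd hdef
      (KleinDefect.rank_one_of_major hM hz2 hb.1 (hbd.trans hdef))).2
  set T := B.toFinite.toFinset with hTdef
  have hmT : ∀ {x}, x ∈ T ↔ x ∈ B := B.toFinite.mem_toFinset
  have hT4 : T.card = 4 := by rw [hTdef, ← Nat.card_eq_card_finite_toFinset]; exact hk
  set E := scaled 2 B with hE
  have ho : ∀ x ∈ T, ∀ y ∈ T, Odd (E x y) := fun x hx y hy => by
    rw [← Int.not_even_iff_odd, even_iff_two_dvd]
    intro hd'
    refine (scaled_exact hM hB (hmT.1 hx) (hmT.1 hy)).1 ?_ (hht x (hmT.1 hx))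
    simpa [hht y (hmT.1 hy)] using hd'
  have hsq : ∀ x ∈ T, ∀ z ∈ T, ∑ y ∈ T, E x y * E y z = 4 * E x z := fun x hx z hz => by
    rw [sum_scaled_mul hM hB (hmT.1 hx) (hmT.1 hz), hdef]
    rfl
  have htr : ∑ x ∈ T, E x x = 4 * (blockRank 2 B : ℤ) := by
    rw [sum_scaled_self hM hB, hdef]
    rfl
  refine ⟨Or.inl ?_, hk⟩
  have hpm1 : ∀ {w : ℤ}, (w = 1 ∨ w = -1) → w * w = 1 := fun h => by
    rcases h with e | e <;> rw [e] <;> norm_num
  rw [← hl] at he
  rcases he with hl1 | hl3
  · rw [hl1] at htr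
    obtain ⟨v, hv, hN⟩ := rankone_four T hT4 E (scaled_symm B) ho hsq (by simpa using htr)
    refine ⟨0, v, Fin.elim0, by omega, hl1, Or.inr Even.zero, fun x hx y hy => ?_, ?_,
      fun i => i.elim0, fun i => i.elim0, fun i => i.elim0⟩
    · show E x y = _
      rw [hN x hx y hy]; simp
    · rw [Finset.sum_congr rfl fun x hx => hpm1 (hv x hx), Finset.sum_const, hT4]
      norm_num
  · rw [hl3] at htr
    let N : IrrCharacter G → IrrCharacter G → ℤ := fun x y => (if x = y then 4 else 0) - E x y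
    obtain ⟨v, hv, hN⟩ := rankone_four T hT4 N
      (fun x y => by simp only [N, scaled_symm B x y, hE, eq_comm])
      (fun x hx y hy => by
        simp only [N]
        split_ifs
        · exact (show Even (4 : ℤ) from ⟨2, rfl⟩).sub_odd (ho x hx y hy)
        · exact Even.zero.sub_odd (ho x hx y hy))
      (fun x hx z hz => by
        simp only [N, sub_mul, mul_sub, ite_mul, mul_ite, zero_mul, mul_zero, Finset.sum_sub_distrib,
          Finset.sum_ite_eq, Finset.sum_ite_eq', hx, hz, if_true, hsq x hx z hz]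
        ring)
      (by
        simp only [N, if_true, Finset.sum_sub_distrib, Finset.sum_const, hT4, htr]
        norm_num)
    have hkey : ∀ x ∈ T, ∀ y ∈ T, E x y = (if x = y then 4 else 0) - v x * v y := fun x hx y hy => by
      rw [← hN x hx y hy]; simp [N]
    obtain ⟨p, q, a, b, npq, npa, npb, nqa, nqb, nab, hT⟩ : ∃ p q a b, p ≠ q ∧ p ≠ a ∧ p ≠ b ∧
        q ≠ a ∧ q ≠ b ∧ a ≠ b ∧ T = {p, q, a, b} := Finset.card_eq_four.1 hT4
    have hsum : ∀ f : IrrCharacter G → ℤ, ∑ x ∈ T, f x = f p + f q + f a + f b := fun f => by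
      rw [hT, Finset.sum_insert (by simp [npq, npa, npb]), Finset.sum_insert (by simp [nqa, nqb]),
        Finset.sum_pair nab]
      ring
    have hmem : p ∈ T ∧ q ∈ T ∧ a ∈ T ∧ b ∈ T := by rw [hT]; simp
    obtain ⟨v0, v1, v2, v3⟩ := And.intro (hpm1 (hv p hmem.1)) (And.intro (hpm1 (hv q hmem.2.1))
      (And.intro (hpm1 (hv a hmem.2.2.1)) (hpm1 (hv b hmem.2.2.2))))
    let t : ℤ → ℤ → ℤ → IrrCharacter G → ℤ := fun α β γ x =>
      (if x = q then α else if x = a then β else if x = b then γ else 1) * v x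
    have tp : ∀ α β γ, t α β γ p = v p := fun α β γ => by simp [t, npq, npa, npb]
    have tq : ∀ α β γ, t α β γ q = α * v q := fun α β γ => by simp [t]
    have ta : ∀ α β γ, t α β γ a = β * v a := fun α β γ => by simp [t, nqa.symm]
    have tb : ∀ α β γ, t α β γ b = γ * v b := fun α β γ => by simp [t, nqb.symm, nab.symm]
    have hdot : ∀ α β γ α' β' γ', ∑ x ∈ T, t α β γ x * t α' β' γ' x = 1 + α * α' + β * β' + γ * γ' := by
      intro α β γ α' β' γ'
      rw [hsum, tp, tp, tq, tq, ta, ta, tb, tb]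
      linear_combination v0 + α * α' * v1 + β * β' * v2 + γ * γ' * v3
    refine ⟨2, t 1 (-1) (-1), ![t (-1) 1 (-1), t (-1) (-1) 1], le_rfl, hl3, Or.inr even_two,
      fun x hx y hy => ?_, by rw [hdot]; norm_num, fun i j => ?_, fun i => ?_, fun i x hx => ?_⟩
    · show E x y = _
      rw [hkey x hx y hy, Fin.sum_univ_two]
      simp only [Matrix.cons_val_zero, Matrix.cons_val_one]
      rw [← hTdef] at hx hy
      rw [hT] at hx hy
      simp only [Finset.mem_insert, Finset.mem_singleton] at hx hy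
      rcases hx with rfl | rfl | rfl | rfl <;> rcases hy with rfl | rfl | rfl | rfl <;>
        simp only [tp, tq, ta, tb, if_true, npq, npa, npb, nqa, nqb, nab, npq.symm, npa.symm,
          npb.symm, nqa.symm, nqb.symm, nab.symm, if_false] <;>
        norm_num <;> ring_nf <;>
        nlinarith [v0, v1, v2, v3]
    · fin_cases i <;> fin_cases j <;> simp only [Matrix.cons_val_zero, Matrix.cons_val_one,
        Fin.zero_eta, Fin.mk_one] <;> rw [hdot] <;> norm_num
    · fin_cases i <;> simp only [Matrix.cons_val_zero, Matrix.cons_val_one, Fin.zero_eta,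
        Fin.mk_one] <;> rw [hdot] <;> norm_num
    · rw [← hTdef, hT] at hx
      simp only [Finset.mem_insert, Finset.mem_singleton] at hx
      fin_cases i <;> rcases hx with rfl | rfl | rfl | rfl <;>
        simp only [Matrix.cons_val_zero, Matrix.cons_val_one, Fin.zero_eta, Fin.mk_one, tp, tq, ta,
          tb] <;> ring_nf <;> simp [parity_simps]

/-- **The shape of a block with dihedral or four-group defect group.** -/
theorem exists_shape (hM : IsPModular 2 M) (hB : IsPBlock M B) (hPD : IsDefectGroup 2 M B P)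
    {h : ℕ} (hcase : (h = 2 ∧ IsKleinFour P) ∨ (Even h ∧ ∃ r : G, Rot P r (h / 2))) :
    HasShape B h ∧ Nat.card B = h / 2 + 3 := by
  classical
  have := Fact.mk hM.1
  obtain ⟨c, hmax⟩ := DefectOneStar.exists_maximal_pair hM hB hPD
  rcases hcase with ⟨rfl, hV⟩ | ⟨hev, r, hR⟩
  · exact hasShape_klein hM hV hmax
  · have := Fintype.ofFinite (cz r (h / 2))
    have := Fintype.ofFinite (IrrCharacter (P.subgroupOf (cz r (h / 2))))
    obtain ⟨S⟩ := exists_setup hM hmax hPD hR
    obtain ⟨σ, p, q, a, b, L, hc⟩ := exists_config hR S hM hmax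
    have hd : 2 ^ blockDefect 2 B = 4 * (h / 2) := by
      rw [← natCard_defectGroup hM hB hPD, hR.card_eq]
    have := hasShape_of_config hM hB hc hR.two_le hR.two_pow hd
    rwa [Nat.two_mul_div_two_of_even hev] at this

end CfsgLib.BlockA.QuatDefect
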