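import Cfsg.Agent.Lib.BlockA.RegularClassesTwo
import Cfsg.Agent.Lib.BlockB.CosetFunctions
import Cfsg.Agent.Lib.BlockA.CoreBlock
import Cfsg.Agent.Lib.Block.Fong
import Cfsg.Agent.Lib.Block.PSolvable
import Cfsg.Agent.Lib.PLength.DerivedBound

/-!
A solvable group has no `2`-block of rank three whose defect group has a cyclic maximal subgroup
and only `2`-automorphisms.
-/

set_option autoImplicit false
set_option linter.unusedSectionVars false
set_option maxHeartbeats 1000000

namespace CfsgLib.BlockA.SolvableRank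

open Cfsg CfsgLib.Block CfsgLib.BlockA MonoidAlgebra

universe u

/-- The shape of the defect group. -/
def Shape (S : Type u) [Group S] : Prop :=
  IsPGroup 2 (MulAut S) ∧
    ∃ x y : S, ∀ w : S, w ∈ Subgroup.zpowers x ∨ w * y⁻¹ ∈ Subgroup.zpowers x

theorem Shape.congr {S T : Type u} [Group S] [Group T] (h : Shape S) (e : S ≃* T) : Shape T := by
  obtain ⟨h1, x, y, h2⟩ := h
  refine ⟨h1.of_equiv (MulAut.congr e), e x, e y, fun w => ?_⟩
  have hmap : ∀ v : S, v ∈ Subgroup.zpowers x → e v ∈ Subgroup.zpowers (e x) := by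
    intro v hv
    obtain ⟨i, rfl⟩ := Subgroup.mem_zpowers_iff.1 hv
    exact Subgroup.mem_zpowers_iff.2 ⟨i, (map_zpow e x i).symm⟩
  rcases h2 (e.symm w) with h | h
  · exact Or.inl (by simpa using hmap _ h)
  · exact Or.inr (by simpa using hmap _ h)

section Induce

variable {G : Type u} [Group G] [Fintype G] (p : ℕ) (T : Subgroup G)

/-- Regular parts of induced functions only see regular parts. -/
theorem pRegularPart_indFun (f : T → ℂ) :
    pRegularPart p (indFun T f) = pRegularPart p (indFun T (pRegularPart p f)) := by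
  classical
  funext g
  unfold pRegularPart
  split_ifs with hg
  · unfold indFun
    congr 1
    refine Finset.sum_congr rfl fun x _ => ?_
    unfold extendByZero
    by_cases hx : x⁻¹ * g * x ∈ T
    · have hreg : IsPRegular p (⟨x⁻¹ * g * x, hx⟩ : T) := by
        show ¬ p ∣ orderOf _
        have h1 : orderOf (x⁻¹ * g * x) = orderOf g := by
          have := CfsgLib.Invol.orderOf_conj_eq x⁻¹ g
          rwa [inv_inv] at this
        rw [Subgroup.orderOf_mk, h1]
        exact hg
      rw [show x⁻¹ * g * x = Subtype.val (⟨x⁻¹ * g * x, hx⟩ : T) from rfl,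
        Subtype.val_injective.extend_apply, Subtype.val_injective.extend_apply, if_pos hreg]
    · rw [Function.extend_apply' _ _ _ (fun ⟨a, ha⟩ => hx (ha ▸ a.2)),
        Function.extend_apply' _ _ _ (fun ⟨a, ha⟩ => hx (ha ▸ a.2))]
  · rfl

/-- A block of induced characters has at most the rank of its source. -/
theorem blockRank_le_of_induced {B : Set (IrrCharacter G)} {B' : Set (IrrCharacter T)}
    (h : ∀ χ ∈ B, ∃ ψ ∈ B', (χ : G → ℂ) = indFun T (ψ : T → ℂ)) :
    blockRank p B ≤ blockRank p B' := by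
  classical
  let L : (T → ℂ) →ₗ[ℂ] (G → ℂ) :=
    { toFun := fun f => pRegularPart p (indFun T f)
      map_add' := fun f f' => by
        funext g
        simp only [pRegularPart, CfsgLib.Char.indFun_add, Pi.add_apply]
        split_ifs <;> simp
      map_smul' := fun c f => by
        funext g
        simp only [pRegularPart, CfsgLib.Char.indFun_smul, Pi.smul_apply, RingHom.id_apply]
        split_ifs <;> simp }
  unfold blockRank
  refine le_trans (Submodule.finrank_mono ?_) (Submodule.finrank_map_le L _)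
  rw [Submodule.span_le]
  rintro _ ⟨χ, hχ, rfl⟩
  obtain ⟨ψ, hψ, e⟩ := h χ hχ
  refine ⟨_, Submodule.subset_span ⟨ψ, hψ, rfl⟩, ?_⟩
  show pRegularPart p (indFun T (pRegularPart p (ψ : T → ℂ))) = pRegularPart p (χ : G → ℂ)
  rw [e, ← pRegularPart_indFun]

end Induce

section Stable

variable {G : Type u} [Group G] [Fintype G] {M : Ideal AlgInt} [M.IsPrime]

/-- The stable case. -/
theorem rank_le_two_of_invariant (hM : IsPModular 2 M) (hsol : Group.IsSolvable G)
    {K : Subgroup G} [hKn : K.Normal] [Fintype K] (hK : K = pPrimeCore 2 G)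
    {B : Set (IrrCharacter G)} (hB : IsPBlock M B) {D : Subgroup G} (hD : IsDefectGroup 2 M B D)
    (hS : Shape D) {θ : IrrCharacter K} (hinv : ∀ g : G, conjIrr K θ g = θ)
    {χ₀ : IrrCharacter G} (hχ₀ : χ₀ ∈ B)
    (hθ : classInner (fun k : K => (χ₀ : G → ℂ) k) (θ : K → ℂ) ≠ 0) : blockRank 2 B ≤ 2 := by
  classical
  have : Fact (Nat.Prime 2) := ⟨Nat.prime_two⟩
  have hKc : (Nat.card K).Coprime 2 := hK ▸ CfsgLib.Solvable.pPrimeCore_coprime (G := G) 2
  have hKp : ¬ 2 ∣ Nat.card K := fun h =>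
    (Nat.Prime.coprime_iff_not_dvd Nat.prime_two).1 hKc.symm h
  have hdisj : ∀ (P : Subgroup G), IsPGroup 2 P → ∀ v ∈ P, v ∈ K → v = 1 := by
    intro P hP v hvP hvK
    obtain ⟨k, hk⟩ := IsPGroup.iff_orderOf.1 hP ⟨v, hvP⟩
    rw [Subgroup.orderOf_mk] at hk
    rcases k with _ | k
    · rw [pow_zero, orderOf_eq_one_iff] at hk; exact hk
    · exact absurd ((hk ▸ dvd_pow_self 2 (Nat.succ_ne_zero k) : 2 ∣ orderOf v).trans
        (Subgroup.orderOf_dvd_natCard K hvK)) hKp
  have := Fintype.ofFinite (G ⧸ K)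
  set π := QuotientGroup.mk' K with hπ
  -- the 2-core of the quotient
  set Qb := pCore 2 (G ⧸ K) with hQb
  have hQbn : Qb.Normal := CfsgLib.Solvable.pCore_normal 2 _
  have hQbp : IsPGroup 2 Qb := CfsgLib.Solvable.pCore_isPGroup 2
  have : Group.IsSolvable (G ⧸ K) :=
    solvable_of_surjective (f := π) (QuotientGroup.mk'_surjective K)
  have hcore : pPrimeCore 2 (G ⧸ K) = ⊥ := by
    subst hK
    exact CfsgLib.Solvable.pPrimeCore_quotient_eq_bot 2
  have hC : Subgroup.centralizer (Qb : Set (G ⧸ K)) ≤ Qb :=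
    CfsgLib.Block.centralizer_pCore_le_of_isPSolvable
      (CfsgLib.PLength.isPSolvable_of_isSolvable (p := 2) _ (G ⧸ K) le_rfl
        inferInstance).choose_spec.isPSolvable hcore
  set L := Qb.comap π with hL
  have := Fintype.ofFinite L
  have hKL : K ≤ L := fun k hk => by
    rw [hL, Subgroup.mem_comap, hπ, QuotientGroup.mk'_apply, (QuotientGroup.eq_one_iff k).2 hk]
    exact one_mem _
  have hrel : K.relIndex L = Nat.card Qb := by
    have h1 : L.map π = Qb :=
      Subgroup.map_comap_eq_self_of_surjective (QuotientGroup.mk'_surjective K) _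
    conv_rhs => rw [← h1]
    rw [← Subgroup.relIndex_bot_left, ← Subgroup.relIndex_comap, MonoidHom.comap_bot, hπ,
      QuotientGroup.ker_mk']
  obtain ⟨a, ha⟩ := IsPGroup.iff_card.1 hQbp
  let Q₀ : Sylow 2 L := Classical.arbitrary _
  set Q := (Q₀ : Subgroup L).map L.subtype with hQ
  have hQp : IsPGroup 2 Q := Q₀.2.map _
  have hQL : Q ≤ L := Subgroup.map_subtype_le _
  have hQmap : Q.map π = Qb := by
    refine Subgroup.eq_of_le_of_card_ge ((Subgroup.map_mono hQL).trans (Subgroup.map_comap_le _ _)) ?_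
    have h1 : Nat.card (Q.map π) = Nat.card Q := (Nat.card_congr
      (Equiv.ofBijective (π.subgroupMap Q) ⟨by
        rw [injective_iff_map_eq_one]
        intro v hv
        exact Subtype.ext (hdisj Q hQp v v.2
          ((QuotientGroup.eq_one_iff _).1 (congrArg Subtype.val hv))),
        π.subgroupMap_surjective Q⟩)).symm
    rw [h1, hQ, Subgroup.card_map_of_injective (Subgroup.subtype_injective L),
      Q₀.card_eq_multiplicity]
    refine le_of_eq ?_
    rw [ha]
    congr 1
    have h2 : Nat.card L = Nat.card K * 2 ^ a := by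
      rw [← ha, ← hrel, ← Nat.card_congr (Subgroup.subgroupOfEquivOfLe hKL).toEquiv]
      exact ((K.subgroupOf L).card_mul_index).symm
    rw [h2, Nat.factorization_mul Nat.card_pos.ne' (pow_ne_zero _ two_ne_zero), Finsupp.add_apply,
      Nat.factorization_eq_zero_of_not_dvd hKp, Nat.Prime.factorization_pow Nat.prime_two,
      Finsupp.single_eq_same, zero_add]
  have hreg : ∀ x ∈ Subgroup.centralizer (Q : Set G), ¬ 2 ∣ orderOf x → x ∈ L := by
    intro x hx hxo
    have hxb : π x ∈ Qb := hC (Subgroup.mem_centralizer_iff.2 fun q hq => by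
      rw [SetLike.mem_coe, ← hQmap] at hq
      obtain ⟨v, hv, rfl⟩ := hq
      rw [← map_mul, ← map_mul, Subgroup.mem_centralizer_iff.1 hx v hv])
    exact hxb
  have hbr : ∃ x : K, (x : G) ∈ Subgroup.centralizer (Q : Set G) ∧
      redC M (blockCoeff ({θ} : Set (IrrCharacter K)) x) ≠ 0 := by
    set C := Subgroup.centralizer (Q : Set G) with hCdef
    have := Fintype.ofFinite (K.subgroupOf C)
    obtain ⟨β, s, hs, hβ⟩ := exists_glauberman_coeff hM hKp hQp θ (fun r _ => hinv r) (C := C) rfl
    obtain ⟨x, hx⟩ := exists_blockCoeff_ne_zero hM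
      (isPBlock_singleton hM (fun h => hKp (h.trans
        ⟨K.relIndex C * 0 + Nat.card K / Nat.card (K.subgroupOf C), by
          rw [Nat.mul_zero, Nat.zero_add, Nat.mul_div_cancel']
          exact (Subgroup.card_comap_dvd_of_injective K C.subtype (Subgroup.subtype_injective C))⟩)) β)
    refine ⟨⟨((x : C) : G), x.2⟩, (x : C).2, ?_⟩
    rw [hβ x]
    exact mul_ne_zero hs hx
  have hidx : ∃ k : ℕ, K.relIndex L = 2 ^ k := ⟨a, hrel.trans ha⟩
  -- a single block over `θ`
  have hone : ∀ χ : IrrCharacter G,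
      classInner (fun k : K => (χ : G → ℂ) k) (θ : K → ℂ) ≠ 0 → χ ∈ B := fun χ hχ =>
    mem_of_sameBlock hB hχ₀ (sameBlock_of_core hM hKL hKp hidx θ hinv hQp hQL hbr hreg hθ hχ)
  have hover : ∀ χ ∈ B, classInner (fun k : K => (χ : G → ℂ) k) (θ : K → ℂ) ≠ 0 := fun χ hχ =>
    constituent_of_sameBlock_of_coprime hM hKp (sameBlock_of_mem hB hχ₀ hχ) hθ
  -- the defect group maps onto a Sylow subgroup
  obtain ⟨hodd, -, -⟩ := fong_covering hM (isPBlock_singleton hM hKp θ)
    (fun θ' hθ' g => by rw [Set.mem_singleton_iff.1 hθ', hinv]; rfl) hB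
    ⟨χ₀, hχ₀, θ, rfl, hθ⟩ (fun B' hB' ⟨χ, hχ, θ', hθ', h⟩ => by
      rw [Set.mem_singleton_iff.1 hθ'] at h
      rw [isPBlock_eq_of_mem hB' hB hχ (hone χ h)]) hD
  set Db := D.map π with hDb
  have hDbidx : ¬ 2 ∣ Db.index := by
    rw [hDb, Subgroup.index_map, hπ, QuotientGroup.ker_mk',
      MonoidHom.range_eq_top.2 (QuotientGroup.mk'_surjective K), Subgroup.index_top, mul_one]
    exact hodd
  let Sb : Sylow 2 (G ⧸ K) := ((isPGroup_defectGroup hM hB hD).map π).toSylow hDbidx
  have hShape : Shape (Sb : Subgroup (G ⧸ K)) := by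
    have hinj : Function.Injective (π.subgroupMap D) :=
      (injective_iff_map_eq_one (π.subgroupMap D)).2 fun v hv =>
        Subtype.ext (hdisj D (isPGroup_defectGroup hM hB hD) v v.2
          ((QuotientGroup.eq_one_iff _).1 (congrArg Subtype.val hv)))
    exact hS.congr (MulEquiv.ofBijective (π.subgroupMap D) ⟨hinj, π.subgroupMap_surjective D⟩)
  obtain ⟨hSaut, x, y, hxy⟩ := hShape
  have hcov : ∀ w ∈ (Sb : Subgroup (G ⧸ K)),
      w ∈ Subgroup.zpowers (x : G ⧸ K) ∨ w * (y : G ⧸ K)⁻¹ ∈ Subgroup.zpowers (x : G ⧸ K) := by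
    intro w hw
    rcases hxy ⟨w, hw⟩ with h | h <;> obtain ⟨i, hi⟩ := Subgroup.mem_zpowers_iff.1 h
    · refine Or.inl (Subgroup.mem_zpowers_iff.2 ⟨i, ?_⟩)
      have := congrArg Subtype.val hi
      push_cast at this
      exact this
    · refine Or.inr (Subgroup.mem_zpowers_iff.2 ⟨i, ?_⟩)
      have := congrArg Subtype.val hi
      push_cast at this
      exact this
  refine le_trans (CfsgLib.BlockB.McKay.blockRank_le_classes K θ.2 (fun t => ?_) 2 B hover)
    (RegularClassesTwo.card_regular_classes_le Sb hSaut hcov Qb hQbp hC)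
  exact congrArg Subtype.val (hinv t)

end Stable

/-- **Solvable groups: rank at most two.** -/
theorem rank_le_two (n : ℕ) : ∀ (G : Type u) [Group G] [Fintype G], Nat.card G ≤ n →
    Group.IsSolvable G → ∀ (M : Ideal AlgInt) [M.IsPrime], IsPModular 2 M →
    ∀ B : Set (IrrCharacter G), IsPBlock M B → ∀ D : Subgroup G, IsDefectGroup 2 M B D →
    Shape D → blockRank 2 B ≤ 2 := by
  classical
  induction n with
  | zero =>
    intro G _ _ h
    exact absurd h (Nat.not_le.2 Nat.card_pos)
  | succ n ih =>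
    intro G _ _ hn hsol M _ hM B hB D hD hS
    have : Fact (Nat.Prime 2) := ⟨Nat.prime_two⟩
    set K := pPrimeCore 2 G with hK
    have hKn : K.Normal := CfsgLib.Solvable.pPrimeCore_normal 2 G
    have := Fintype.ofFinite K
    have hKp : ¬ 2 ∣ Nat.card K := fun h => (Nat.Prime.coprime_iff_not_dvd Nat.prime_two).1
      (CfsgLib.Solvable.pPrimeCore_coprime (G := G) 2).symm h
    obtain ⟨χ₀, hχ₀⟩ := isPBlock_nonempty hB
    obtain ⟨θ, hθ⟩ := exists_constituent_res (N := K) χ₀
    by_cases hinv : ∀ g : G, conjIrr K θ g = θ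
    · exact rank_le_two_of_invariant hM hsol hK hB hD hS hinv hχ₀ hθ
    let T : Subgroup G :=
      { carrier := {g | conjIrr K θ g = θ}
        one_mem' := conjIrr_one θ
        mul_mem' := fun {g h} (hg : conjIrr K θ g = θ) (hh : conjIrr K θ h = θ) => by
          show conjIrr K θ (g * h) = θ
          rw [← conjIrr_conjIrr, hg, hh]
        inv_mem' := fun {g} (hg : conjIrr K θ g = θ) => by
          show conjIrr K θ g⁻¹ = θ
          conv_lhs => rw [← hg]
          rw [conjIrr_conjIrr, mul_inv_cancel, conjIrr_one] }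
    have hT : ∀ g : G, g ∈ T ↔ ∀ θ' ∈ ({θ} : Set (IrrCharacter K)),
        conjIrr K θ' g ∈ ({θ} : Set (IrrCharacter K)) := fun g =>
      ⟨fun hg θ' h => by rw [Set.mem_singleton_iff.1 h]; exact hg,
        fun h => Set.mem_singleton_iff.1 (h θ rfl)⟩
    have hKT : K ≤ T := fun k hk => by
      show conjIrr K θ k = θ
      refine Subtype.ext (funext fun m => ?_)
      rw [conjIrr_apply]
      exact CfsgLib.Char.irr_isClassFunction θ.2 m ⟨k, hk⟩
    have := Fintype.ofFinite T
    have hb := isPBlock_singleton hM hKp θ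
    obtain ⟨B', hB', ⟨ψ₀, hψ₀, h₀⟩, hind⟩ :=
      stab_surjective hKT hM hb hT hB hχ₀ (Set.mem_singleton θ) hθ
    obtain ⟨A, hA, -, -, -, hAmem⟩ := exists_induced_stab hKT hM hb hT hB' hψ₀ h₀
    obtain rfl : A = B := isInducedBlock_unique T hA hind
    obtain ⟨D', hD'⟩ := exists_isDefectGroup (p := 2) hM hB'
    obtain ⟨x, hx⟩ := defectGroup_exists_conj hM hB hD (defect_stab hKT hM hb hT hB' hind hψ₀ h₀ hD')
    have hS' : Shape D' := hS.congr
      (((D.equivMapOfInjective (MulAut.conj x).toMonoidHom (MulAut.conj x).injective).trans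
        (MulEquiv.subgroupCongr hx.symm)).trans
          (D'.equivMapOfInjective T.subtype T.subtype_injective).symm)
    have hcard : Nat.card T ≤ n := by
      have hne : T ≠ ⊤ := fun e => hinv fun g => (e ▸ Subgroup.mem_top g : g ∈ T)
      have := Subgroup.card_le_card_group T
      have h2 : Nat.card T ≠ Nat.card G := fun e => hne (Subgroup.eq_top_of_card_eq T e)
      omega
    exact (blockRank_le_of_induced 2 T fun χ hχ => (hAmem χ).1 hχ).trans
      (ih T hcard inferInstance M hM B' hB' D' hD' hS')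

end CfsgLib.BlockA.SolvableRank
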