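import Cfsg.Agent.Lib.BlockA.RankAddCard
import Cfsg.Agent.Lib.BlockA.DefectOneStar
import Cfsg.Agent.Lib.BlockA.FongReynolds
import Cfsg.Agent.Lib.BlockA.SolvableRank
import Cfsg.Agent.Lib.BlockA.FewPrincipal
import Cfsg.Agent.Lib.PLength.Series
import Cfsg.Agent.Lib.PLength.Primitive
import Cfsg.Agent.S4492
import Mathlib.GroupTheory.FixedPointFree

/-!
Blocks with `k(B) ≤ l(B) + 1`: the nontrivial elements of a defect group are conjugate; the defect
group is elementary abelian for the principal block and for `p`-solvable groups.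
-/

set_option autoImplicit false
set_option linter.unusedSectionVars false
set_option maxHeartbeats 1000000

namespace CfsgLib.BlockA.RankGapOne

open Cfsg CfsgLib.Block CfsgLib.BlockA

universe u

variable {G : Type u} [Group G] [Fintype G] {p : ℕ} {M : Ideal AlgInt} [M.IsPrime]

/-- **The nontrivial elements of the defect group are conjugate.** -/
theorem isConj_of_gap [Fact p.Prime] (hM : IsPModular p M) {B : Set (IrrCharacter G)}
    (hB : IsPBlock M B) {D : Subgroup G} (hD : IsDefectGroup p M B D)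
    (hk : Nat.card B ≤ blockRank p B + 1) {v w : G} (hv : v ∈ D) (hv1 : v ≠ 1) (hw : w ∈ D)
    (hw1 : w ≠ 1) : IsConj v w := by
  classical
  by_contra hn
  obtain ⟨c, hmax⟩ := DefectOneStar.exists_maximal_pair hM hB hD
  have hne : v ≠ w := fun e => hn (e ▸ IsConj.refl v)
  have hle : blockRank p B + ({v, w} : Finset G).card ≤ Nat.card B := by
    refine RankAddCard.rank_add_card_le hM hmax {v, w} (fun a ha => ?_) fun a ha b hb g hg _ => ?_
    · rw [Finset.mem_insert, Finset.mem_singleton] at ha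
      rcases ha with rfl | rfl
      exacts [⟨hv, hv1⟩, ⟨hw, hw1⟩]
    · have hc : IsConj a b := isConj_iff.2 ⟨g, hg⟩
      rw [Finset.mem_insert, Finset.mem_singleton] at ha hb
      rcases ha with rfl | rfl <;> rcases hb with rfl | rfl
      exacts [rfl, absurd hc hn, absurd hc.symm hn, rfl]
  rw [Finset.card_pair hne] at hle
  omega

/-- Subgroups of prime power order with conjugate nontrivial elements have exponent `p`. -/
theorem pow_eq_one_of_isConj [Fact p.Prime] {D : Subgroup G} (hDp : IsPGroup p D)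
    (h : ∀ v w : G, v ∈ D → v ≠ 1 → w ∈ D → w ≠ 1 → IsConj v w) : ∀ a ∈ D, a ^ p = 1 := by
  intro a ha
  by_contra hap
  have ha1 : a ≠ 1 := fun e => hap (by rw [e, one_pow])
  obtain ⟨g, hg⟩ := isConj_iff.1 (h a (a ^ p) ha ha1 (D.pow_mem ha p) hap)
  have h1 : orderOf (a ^ p) = orderOf a := by
    rw [← hg, CfsgLib.Invol.orderOf_conj_eq]
  obtain ⟨k, hk⟩ := IsPGroup.iff_orderOf.1 hDp ⟨a, ha⟩
  rw [Subgroup.orderOf_mk] at hk
  rcases k with _ | k
  · exact ha1 (orderOf_eq_one_iff.1 (by rwa [pow_zero] at hk))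
  · rw [orderOf_pow' a (Fact.out : p.Prime).ne_zero, hk, pow_succ,
      Nat.gcd_eq_right (dvd_mul_left p _), Nat.mul_div_cancel _ (Fact.out : p.Prime).pos] at h1
    have hpk := pow_pos (Fact.out : p.Prime).pos k
    have hp2 := (Fact.out : p.Prime).two_le
    nlinarith

/-- Exponent two gives commutativity. -/
theorem comm_of_sq_eq_one {D : Subgroup G} (h : ∀ a ∈ D, a ^ 2 = 1) :
    IsMulCommutative D := by
  refine ⟨⟨fun a b => Subtype.ext ?_⟩⟩
  have hinv : ∀ c ∈ D, c⁻¹ = c := fun c hc =>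
    inv_eq_of_mul_eq_one_right (by rw [← pow_two]; exact h c hc)
  have h1 := hinv _ (D.mul_mem a.2 b.2)
  rw [mul_inv_rev, hinv _ a.2, hinv _ b.2] at h1
  exact h1.symm

/-- The regular elements of the centralizer of `w` commute with the `p`-elements they normalise. -/
def NilAt (p : ℕ) (w : G) : Prop :=
  ∀ a b : G, a * w = w * a → b * w = w * b → ¬ p ∣ orderOf a → (∃ k : ℕ, orderOf b = p ^ k) →
    (∃ k : ℕ, orderOf (a * b * a⁻¹ * b⁻¹) = p ^ k) → a * b = b * a

theorem NilAt.conj {w : G} (h : NilAt p w) (c : G) : NilAt p (c * w * c⁻¹) := by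
  intro a b ha hb hao hbo habo
  have tr : ∀ e : G, e * (c * w * c⁻¹) = c * w * c⁻¹ * e →
      c⁻¹ * e * c * w = w * (c⁻¹ * e * c) := fun e he => by
    have := congrArg (fun z => c⁻¹ * z * c) he
    simp only [mul_assoc, inv_mul_cancel, mul_one] at this ⊢
    simpa [mul_assoc] using this
  have ho : ∀ e : G, orderOf (c⁻¹ * e * c) = orderOf e := fun e => by
    have := CfsgLib.Invol.orderOf_conj_eq c⁻¹ e
    rwa [inv_inv] at this
  have h1 := h (c⁻¹ * a * c) (c⁻¹ * b * c) (tr a ha) (tr b hb) (by rwa [ho])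
    (by rwa [ho]) (by
      rw [show c⁻¹ * a * c * (c⁻¹ * b * c) * (c⁻¹ * a * c)⁻¹ * (c⁻¹ * b * c)⁻¹ =
        c⁻¹ * (a * b * a⁻¹ * b⁻¹) * c by group, ho]
      exact habo)
  have h2 := congrArg (fun z => c * z * c⁻¹) h1
  simpa [mul_assoc] using h2

theorem nilAt_of_complement [Fact p.Prime] {w : G}
    (h : HasNormalPComplement p (Subgroup.centralizer ({w} : Set G))) : NilAt p w := by
  intro a b ha hb hao hbo habo
  obtain ⟨-, hreg⟩ := FewPrincipal.core_of_complement h
  have := CfsgLib.Solvable.pPrimeCore_normal p (Subgroup.centralizer ({w} : Set G))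
  set a' : Subgroup.centralizer ({w} : Set G) :=
    ⟨a, Subgroup.mem_centralizer_singleton_iff.2 ha⟩
  set b' : Subgroup.centralizer ({w} : Set G) :=
    ⟨b, Subgroup.mem_centralizer_singleton_iff.2 hb⟩
  have haK : a' ∈ pPrimeCore p (Subgroup.centralizer ({w} : Set G)) :=
    hreg a' (by rwa [Subgroup.orderOf_mk])
  have hcK : a' * b' * a'⁻¹ * b'⁻¹ ∈ pPrimeCore p (Subgroup.centralizer ({w} : Set G)) := by
    rw [show a' * b' * a'⁻¹ * b'⁻¹ = a' * (b' * a'⁻¹ * b'⁻¹) by group]
    exact mul_mem haK (this.conj_mem _ (inv_mem haK) b')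
  obtain ⟨k, hk⟩ := habo
  have h1 : orderOf (a * b * a⁻¹ * b⁻¹) ∣ Nat.card (pPrimeCore p (Subgroup.centralizer ({w} : Set G))) := by
    have := Subgroup.orderOf_dvd_natCard _ hcK
    rwa [← Subgroup.orderOf_coe] at this
  have h2 : a * b * a⁻¹ * b⁻¹ = 1 := by
    rw [← orderOf_eq_one_iff]
    exact Nat.eq_one_of_dvd_coprimes
      ((CfsgLib.Solvable.pPrimeCore_coprime p).pow_right k) h1 (dvd_of_eq hk)
  exact mul_inv_eq_iff_eq_mul.1 (mul_inv_eq_one.1 h2)

/-- **The principal block.** -/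
theorem principal_comm [Fact p.Prime] (hM : IsPModular p M)
    (hk : Nat.card (principalBlock M G) ≤ blockRank p (principalBlock M G) + 1) (S : Sylow p G)
    (hodd : p ≠ 2) : IsMulCommutative (S : Subgroup G) := by
  classical
  by_cases hS : (S : Subgroup G) = ⊥
  · rw [hS]; exact ⟨⟨fun a b => Subsingleton.elim _ _⟩⟩
  have : Nontrivial (S : Subgroup G) := (Subgroup.nontrivial_iff_ne_bot _).2 hS
  have := S.isPGroup'.center_nontrivial
  obtain ⟨⟨z, hzZ⟩, hz1⟩ := exists_ne (1 : Subgroup.center (S : Subgroup G))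
  have hz1' : (z : G) ≠ 1 := fun e => hz1 (Subtype.ext (Subtype.ext e))
  have hB : IsPBlock M (principalBlock M G) := isPBlock_principalBlock
  have hDS : IsDefectGroup p M (principalBlock M G) (S : Subgroup G) :=
    (isDefectGroup_principal_iff hM _).2 ⟨S, rfl⟩
  have hconjS : ∀ v w : G, v ∈ (S : Subgroup G) → v ≠ 1 → w ∈ (S : Subgroup G) → w ≠ 1 →
      IsConj v w := fun v w => isConj_of_gap hM hB hDS hk
  have hexp := pow_eq_one_of_isConj S.isPGroup' hconjS
  have hpow : ∀ v ∈ (S : Subgroup G), ∃ k : ℕ, orderOf v = p ^ k := fun v hv => by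
    obtain ⟨k, hk⟩ := IsPGroup.iff_orderOf.1 S.isPGroup' ⟨v, hv⟩
    exact ⟨k, by rw [← hk, Subgroup.orderOf_mk]⟩
  -- one term in the count
  obtain ⟨X, hXp, hXcov, -, hcount⟩ := FewPrincipal.exists_count (G := G) hM
  obtain ⟨u, hu, huc⟩ := hXcov (z : G) hz1' (hpow _ z.2)
  have hlu : blockRank p (principalBlock M (Subgroup.centralizer ({u} : Set G))) = 1 := by
    have h1 := one_le_blockRank hM
      (isPBlock_principalBlock (M := M) (G := Subgroup.centralizer ({u} : Set G)))
    have h2 := Finset.single_le_sum (f := fun u => blockRank p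
      (principalBlock M (Subgroup.centralizer ({u} : Set G)))) (fun _ _ => Nat.zero_le _) hu
    omega
  obtain ⟨c, hc⟩ := isConj_iff.1 huc.symm
  have hnz : NilAt p (z : G) := hc ▸
    (nilAt_of_complement (complement_of_blockRank_principal hM hlu)).conj c
  have hnil : ∀ v ∈ (S : Subgroup G), v ≠ 1 → NilAt p v := fun v hv hv1 => by
    obtain ⟨d, hd⟩ := isConj_iff.1 (hconjS _ v z.2 hz1' hv hv1)
    exact hd ▸ hnz.conj d
  have hzc : ∀ v ∈ (S : Subgroup G), v * (z : G) = (z : G) * v := fun v hv =>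
    congrArg Subtype.val (Subgroup.mem_center_iff.1 hzZ ⟨v, hv⟩)
  -- an element inverting `z`
  obtain ⟨n, hn, hnz'⟩ : ∃ n ∈ Subgroup.normalizer ((S : Subgroup G) : Set G),
      n * (z : G) * n⁻¹ = (z : G)⁻¹ := by
    obtain ⟨g, hg⟩ := isConj_iff.1
      (hconjS _ _ z.2 hz1' ((S : Subgroup G).inv_mem z.2) (inv_ne_one.2 hz1'))
    obtain ⟨n, hn, hn'⟩ := Sylow.conj_eq_normalizer_conj_of_mem_centralizer S (z : G) g⁻¹
      (Subgroup.mem_centralizer_iff.2 fun v hv => hzc v hv)
      (by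
        rw [inv_inv, show g * (z : G) * g⁻¹ = (z : G)⁻¹ from hg]
        exact Subgroup.mem_centralizer_iff.2 fun v hv =>
          ((Commute.inv_right (show Commute v (z : G) from hzc v hv))).eq)
    refine ⟨n⁻¹, Subgroup.inv_mem _ hn, ?_⟩
    rw [inv_inv] at hn' ⊢
    rw [← hn', hg]
  obtain ⟨a, m, hm, hord⟩ := Nat.exists_eq_pow_mul_and_not_dvd (orderOf_pos n).ne' 2 (by norm_num)
  have hmodd : Odd m := Nat.not_even_iff_odd.1 fun h => hm h.two_dvd
  set t := n ^ m with ht
  have hto : orderOf t ∣ 2 ^ a := orderOf_dvd_of_pow_eq_one (by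
    rw [ht, ← pow_mul, mul_comm, ← hord, pow_orderOf_eq_one])
  have htreg : ∀ j : ℕ, ¬ p ∣ orderOf (t ^ j) := fun j h => by
    have h1 : p ∣ 2 ^ a := h.trans ((orderOf_pow_dvd j).trans hto)
    exact hodd ((Nat.prime_dvd_prime_iff_eq hM.1 Nat.prime_two).1 (hM.1.dvd_of_dvd_pow h1))
  have htN : t ∈ Subgroup.normalizer ((S : Subgroup G) : Set G) := Subgroup.pow_mem _ hn m
  have hiter : ∀ j : ℕ, n ^ j * (z : G) * (n ^ j)⁻¹ = if Even j then (z : G) else (z : G)⁻¹ := by
    intro j
    induction j with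
    | zero => simp
    | succ j ih =>
      rw [pow_succ' n j, show n * n ^ j * (z : G) * (n * n ^ j)⁻¹ =
        n * (n ^ j * (z : G) * (n ^ j)⁻¹) * n⁻¹ by group, ih]
      rcases Nat.even_or_odd j with he | he
      · rw [if_pos he, if_neg (by simpa [Nat.even_add_one] using he), hnz']
      · have hj := Nat.not_even_iff_odd.2 he
        rw [if_neg hj, if_pos (by simpa [Nat.even_add_one] using hj), ← conj_inv, hnz', inv_inv]
  have htz : t * (z : G) * t⁻¹ = (z : G)⁻¹ := by
    rw [ht, hiter m, if_neg (Nat.not_even_iff_odd.2 hmodd)]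
  have htmem : ∀ v ∈ (S : Subgroup G), t * v * t⁻¹ ∈ (S : Subgroup G) := fun v hv =>
    (Subgroup.mem_normalizer_iff.1 htN v).1 hv
  have htt : ∀ v ∈ (S : Subgroup G), t * (t * v * t⁻¹) * t⁻¹ = v := by
    intro v hv
    have h2z : t ^ 2 * (z : G) = (z : G) * t ^ 2 := by
      have : t * (t * (z : G) * t⁻¹) * t⁻¹ = z := by rw [htz, ← conj_inv, htz, inv_inv]
      rw [← mul_inv_eq_iff_eq_mul, pow_two, mul_inv_rev]
      simpa [mul_assoc] using this
    have h := hnz (t ^ 2) v h2z (hzc v hv) (htreg 2) (hpow v hv) (hpow _ (by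
      refine mul_mem ?_ ((S : Subgroup G).inv_mem hv)
      exact (Subgroup.mem_normalizer_iff.1 (Subgroup.pow_mem _ htN 2) v).1 hv))
    rw [show t * (t * v * t⁻¹) * t⁻¹ = t ^ 2 * v * (t ^ 2)⁻¹ by rw [pow_two]; group, h,
      mul_inv_cancel_right]
  let φ : (S : Subgroup G) →* (S : Subgroup G) :=
    { toFun := fun v => ⟨t * (v : G) * t⁻¹, htmem v v.2⟩
      map_one' := Subtype.ext (by simp)
      map_mul' := fun v w => Subtype.ext (by simp [mul_assoc]) }
  have hfree : MonoidHom.FixedPointFree φ := by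
    intro v hv
    by_contra hv1
    have hv' : t * (v : G) * t⁻¹ = v := congrArg Subtype.val hv
    have hr := hnil v v.2 (fun e => hv1 (Subtype.ext e)) t (z : G) (mul_inv_eq_iff_eq_mul.1 hv')
      (hzc v v.2).symm (by simpa using htreg 1) (hpow _ z.2)
      (hpow _ (by rw [htz]; exact mul_mem ((S : Subgroup G).inv_mem z.2) ((S : Subgroup G).inv_mem z.2)))
    have h2 : (z : G)⁻¹ = z := by rw [← htz, hr, mul_inv_cancel_right]
    have h3 : orderOf (z : G) ∣ 2 := orderOf_dvd_of_pow_eq_one (by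
      rw [pow_two]
      nth_rewrite 1 [← h2]
      exact inv_mul_cancel _)
    have h4 : orderOf (z : G) = p := orderOf_eq_prime (hexp _ z.2) hz1'
    exact hodd ((Nat.prime_dvd_prime_iff_eq hM.1 Nat.prime_two).1 (h4 ▸ h3))
  exact ⟨⟨fun v w => hfree.commute_all_of_involutive (fun x => Subtype.ext (htt x x.2)) v w⟩⟩

/-- A group with a normal `p`-subgroup containing a central element and conjugate `p`-elements. -/
theorem comm_of_conj_core {H : Type u} [Group H] [Finite H] [Fact p.Prime] (P : Sylow p H)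
    (hcore : pCore p H ≠ ⊥)
    (h : ∀ v w : H, v ∈ (P : Subgroup H) → v ≠ 1 → w ∈ (P : Subgroup H) → w ≠ 1 → IsConj v w) :
    IsMulCommutative (P : Subgroup H) := by
  have hQn : (pCore p H).Normal := CfsgLib.Solvable.pCore_normal p H
  have hQp : IsPGroup p (pCore p H) := CfsgLib.Solvable.pCore_isPGroup p
  have hQle : pCore p H ≤ (P : Subgroup H) := hQp.le_sylow_of_normal P
  have : Nontrivial (pCore p H) := (Subgroup.nontrivial_iff_ne_bot _).2 hcore
  have := hQp.center_nontrivial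
  obtain ⟨⟨z, hzZ⟩, hz1⟩ := exists_ne (1 : Subgroup.center (pCore p H))
  have hz1' : (z : H) ≠ 1 := fun e => hz1 (Subtype.ext (Subtype.ext e))
  -- the center of the core is normal
  have hZn : ((Subgroup.center (pCore p H)).map (pCore p H).subtype).Normal :=
    ConjAct.normal_of_characteristic_of_normal
  have hall : ∀ v ∈ (P : Subgroup H), v ≠ 1 →
      v ∈ (Subgroup.center (pCore p H)).map (pCore p H).subtype := by
    intro v hv hv1
    obtain ⟨g, hg⟩ := isConj_iff.1 (h z v (hQle z.2) hz1' hv hv1)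
    rw [← hg]
    exact hZn.conj_mem _ ⟨z, hzZ, rfl⟩ g
  refine ⟨⟨fun a b => Subtype.ext ?_⟩⟩
  rcases eq_or_ne (a : H) 1 with ha | ha
  · push_cast; rw [ha, one_mul, mul_one]
  rcases eq_or_ne (b : H) 1 with hb | hb
  · push_cast; rw [hb, one_mul, mul_one]
  obtain ⟨a', ha', ea⟩ := hall a a.2 ha
  obtain ⟨b', -, eb⟩ := hall b b.2 hb
  push_cast
  rw [← ea, ← eb]
  exact (congrArg Subtype.val (Subgroup.mem_center_iff.1 ha' b') :).symm

/-- **`p`-solvable groups.** -/
theorem solvable_comm (n : ℕ) : ∀ (G : Type u) [Group G] [Fintype G], Nat.card G ≤ n →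
    ∀ (p : ℕ) [Fact p.Prime], IsPSolvable p G → ∀ (M : Ideal AlgInt) [M.IsPrime],
    IsPModular p M → ∀ B : Set (IrrCharacter G), IsPBlock M B → ∀ D : Subgroup G,
    IsDefectGroup p M B D → Nat.card B ≤ blockRank p B + 1 → IsMulCommutative D := by
  classical
  induction n with
  | zero =>
    intro G _ _ h
    exact absurd h (Nat.not_le.2 Nat.card_pos)
  | succ n ih =>
    intro G _ _ hn p _ hsol M _ hM B hB D hD hk
    have hconjD : ∀ v w : G, v ∈ D → v ≠ 1 → w ∈ D → w ≠ 1 → IsConj v w := fun v w =>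
      isConj_of_gap hM hB hD hk
    set K := pPrimeCore p G with hK
    have hKn : K.Normal := CfsgLib.Solvable.pPrimeCore_normal p G
    have := Fintype.ofFinite K
    have hKp : ¬ p ∣ Nat.card K :=
      hM.1.coprime_iff_not_dvd.1 (CfsgLib.Solvable.pPrimeCore_coprime (G := G) p).symm
    obtain ⟨χ₀, hχ₀⟩ := isPBlock_nonempty hB
    obtain ⟨θ, hθ⟩ := exists_constituent_res (N := K) χ₀
    by_cases hinv : ∀ g : G, conjIrr K θ g = θ
    · obtain ⟨B₀, hB₀, hmem, -, hsyl⟩ := Cfsg.Agent.S4492.result p M hM hsol K hK θ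
        (fun g m => by
          have := congrFun (congrArg Subtype.val (hinv g)) m
          rw [conjIrr_apply] at this
          exact this)
      obtain rfl : B₀ = B := isPBlock_eq_of_mem hB₀ hB ((hmem χ₀).2 hθ) hχ₀
      obtain ⟨P, rfl⟩ := hsyl D hD
      set π := QuotientGroup.mk' K with hπ
      have hsurj : Function.Surjective π := QuotientGroup.mk'_surjective K
      by_cases hP1 : (P : Subgroup G) = ⊥
      · rw [hP1]; exact ⟨⟨fun a b => Subsingleton.elim _ _⟩⟩
      have hinj : ∀ v ∈ (P : Subgroup G), π v = 1 → v = 1 := fun v hv e => by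
        obtain ⟨k, hk'⟩ := IsPGroup.iff_orderOf.1 P.isPGroup' ⟨v, hv⟩
        rw [Subgroup.orderOf_mk] at hk'
        refine orderOf_eq_one_iff.1 (Nat.eq_one_of_dvd_coprimes
          ((CfsgLib.Solvable.pPrimeCore_coprime (G := G) p).pow_right k) ?_ (dvd_of_eq hk'))
        exact Subgroup.orderOf_dvd_natCard K ((QuotientGroup.eq_one_iff v).1 e)
      let Pb : Sylow p (G ⧸ K) := P.mapSurjective hsurj
      have hPb : (Pb : Subgroup (G ⧸ K)) = (P : Subgroup G).map π := rfl
      have hconjb : ∀ v w : G ⧸ K, v ∈ (Pb : Subgroup (G ⧸ K)) → v ≠ 1 →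
          w ∈ (Pb : Subgroup (G ⧸ K)) → w ≠ 1 → IsConj v w := by
        intro v w hv hv1 hw hw1
        rw [hPb] at hv hw
        obtain ⟨v', hv', rfl⟩ := hv
        obtain ⟨w', hw', rfl⟩ := hw
        exact π.map_isConj (hconjD v' w' hv' (fun e => hv1 (by rw [e, map_one])) hw'
          (fun e => hw1 (by rw [e, map_one])))
      have : Nontrivial (G ⧸ K) := by
        obtain ⟨⟨v, hv⟩, hv1⟩ := @exists_ne _
          ((Subgroup.nontrivial_iff_ne_bot _).2 hP1) (1 : (P : Subgroup G))
        exact ⟨⟨π v, 1, fun e => hv1 (Subtype.ext (hinj v hv e))⟩⟩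
      have hsolq : IsPSolvable p (G ⧸ K) :=
        CfsgLib.BlockA.isPSolvable_of_surjective π hsurj hsol
      have hcore : pPrimeCore p (G ⧸ K) = ⊥ := by
        exact CfsgLib.Solvable.pPrimeCore_quotient_eq_bot p
      have hab := comm_of_conj_core Pb
        (CfsgLib.PLength.pCore_ne_bot_of_isPSolvable hsolq hcore) hconjb
      refine ⟨⟨fun a b => Subtype.ext ?_⟩⟩
      have h1 : π (((a : (P : Subgroup G)) : G) * b) = π ((b : G) * a) := by
        rw [map_mul, map_mul]
        exact congrArg Subtype.val (hab.is_comm.comm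
          (⟨π a, hPb ▸ ⟨a, a.2, rfl⟩⟩ : (Pb : Subgroup (G ⧸ K)))
          ⟨π b, hPb ▸ ⟨b, b.2, rfl⟩⟩)
      have h2 := hinj _ (mul_mem (mul_mem a.2 b.2) (inv_mem (mul_mem b.2 a.2)))
        (by rw [map_mul, map_inv, h1, mul_inv_cancel])
      exact mul_inv_eq_one.1 h2
    let T : Subgroup G :=
      { carrier := {g | conjIrr K θ g = θ}
        one_mem' := conjIrr_one θ
        mul_mem' := fun {g h} (hg : conjIrr K θ g = θ) (hh : conjIrr K θ h = θ) => by
          show conjIrr K θ (g * h) = θ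
          rw [← conjIrr_conjIrr, hg, hh]
        inv_mem' := fun {g} (hg : conjIrr K θ g = θ) => by
          show conjIrr K θ g⁻¹ = θ
          conv_lhs => rw [← hg]
          rw [conjIrr_conjIrr, mul_inv_cancel, conjIrr_one] }
    have hT : ∀ g : G, g ∈ T ↔ ∀ θ' ∈ ({θ} : Set (IrrCharacter K)),
        conjIrr K θ' g ∈ ({θ} : Set (IrrCharacter K)) := fun g =>
      ⟨fun hg θ' h => by rw [Set.mem_singleton_iff.1 h]; exact hg,
        fun h => Set.mem_singleton_iff.1 (h θ rfl)⟩
    have hKT : K ≤ T := fun k hk => by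
      show conjIrr K θ k = θ
      refine Subtype.ext (funext fun m => ?_)
      rw [conjIrr_apply]
      exact CfsgLib.Char.irr_isClassFunction θ.2 m ⟨k, hk⟩
    have := Fintype.ofFinite T
    have hb := isPBlock_singleton hM hKp θ
    obtain ⟨B', hB', ⟨ψ₀, hψ₀, h₀⟩, hind⟩ :=
      stab_surjective hKT hM hb hT hB hχ₀ (Set.mem_singleton θ) hθ
    obtain ⟨A, hA, hov, hirr, -, hAmem⟩ := exists_induced_stab hKT hM hb hT hB' hψ₀ h₀
    obtain rfl : A = B := isInducedBlock_unique T hA hind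
    obtain ⟨D', hD'⟩ := exists_isDefectGroup (p := p) hM hB'
    obtain ⟨x, hx⟩ := defectGroup_exists_conj hM hB hD (defect_stab hKT hM hb hT hB' hind hψ₀ h₀ hD')
    have hcard : Nat.card T ≤ n := by
      have hne : T ≠ ⊤ := fun e => hinv fun g => (e ▸ Subgroup.mem_top g : g ∈ T)
      have := Subgroup.card_le_card_group T
      have h2 : Nat.card T ≠ Nat.card G := fun e => hne (Subgroup.eq_top_of_card_eq T e)
      omega
    have hk' : Nat.card B' ≤ blockRank p B' + 1 := by
      have h1 : Nat.card B' ≤ Nat.card A := by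
        refine Nat.card_le_card_of_injective
          (fun ψ : B' => (⟨⟨_, hirr ψ.1 ψ.2⟩, (hAmem _).2 ⟨ψ.1, ψ.2, rfl⟩⟩ : A)) fun ψ ψ' e => ?_
        have e' : indFun T ((ψ.1 : IrrCharacter T) : T → ℂ) = indFun T (ψ'.1 : T → ℂ) :=
          congrArg (fun a : A => ((a.1 : IrrCharacter G) : G → ℂ)) e
        refine Subtype.ext ((indFun_stab hKT hb hT (hov ψ.1 ψ.2)).2 ψ'.1 (hov ψ'.1 ψ'.2) ?_)
        rw [← e', CfsgLib.Char.irr_classInner_self (hirr ψ.1 ψ.2)]
        exact one_ne_zero
      have h2 := SolvableRank.blockRank_le_of_induced p T fun χ hχ => (hAmem χ).1 hχ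
      omega
    have hab' := ih T hcard p (CfsgLib.PLength.isPSolvable_subgroup hsol T) M hM B' hB' D' hD' hk'
    let e : D ≃* D' := ((D.equivMapOfInjective (MulAut.conj x).toMonoidHom (MulAut.conj x).injective).trans
        (MulEquiv.subgroupCongr hx.symm)).trans
          (D'.equivMapOfInjective T.subtype T.subtype_injective).symm
    exact ⟨⟨fun a b => e.injective (by rw [map_mul, map_mul, hab'.is_comm.comm])⟩⟩

end CfsgLib.BlockA.RankGapOne
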