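import Mathlib

/-!
Integral binary factorizations of multiples of projections of rank two, and the column norms of
such a factorization.
-/

set_option autoImplicit false
set_option linter.unusedSectionVars false

namespace CfsgLib.BlockA.RankTwo

open Matrix
open scoped ComplexConjugate

variable {ι : Type*}

/-- A symmetric integer matrix written through a binary form. -/
def IsFactor (R : Matrix ι ι ℤ) (u v : ι → ℤ) (α β γ : ℤ) : Prop :=
  ∀ i j, R i j = α * (u i * u j) + β * (u i * v j + v i * u j) + γ * (v i * v j)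

theorem IsFactor.shift {R : Matrix ι ι ℤ} {u v : ι → ℤ} {α β γ : ℤ}
    (h : IsFactor R u v α β γ) (t : ℤ) :
    IsFactor R (fun i => u i + t * v i) v α (β - t * α) (γ - 2 * t * β + t * t * α) := fun i j => by
  rw [h i j]; ring

theorem IsFactor.swap {R : Matrix ι ι ℤ} {u v : ι → ℤ} {α β γ : ℤ}
    (h : IsFactor R u v α β γ) : IsFactor R v u γ β α := fun i j => by
  rw [h i j]; ring

theorem pos_of_det {α β γ : ℤ} (hα : 0 < α) (hd : 0 < α * γ - β * β) : 0 < γ := by
  nlinarith [mul_self_nonneg β]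

/-- A reduced factorization. -/
theorem exists_reduced {R : Matrix ι ι ℤ}
    (h : ∃ u v α β γ, IsFactor R u v α β γ ∧ 0 < α ∧ 0 < α * γ - β * β) :
    ∃ u v α β γ, IsFactor R u v α β γ ∧ 0 < α ∧ 0 < α * γ - β * β ∧
      2 * |β| ≤ α ∧ 2 * |β| ≤ γ := by
  classical
  have h' : ∃ n : ℕ, ∃ u v α β γ, IsFactor R u v α β γ ∧ 0 < α ∧ 0 < α * γ - β * β ∧
      α + γ = (n : ℤ) := by
    obtain ⟨u, v, α, β, γ, hf, ha, hd⟩ := h
    refine ⟨(α + γ).toNat, u, v, α, β, γ, hf, ha, hd, ?_⟩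
    rw [Int.toNat_of_nonneg]
    linarith [pos_of_det ha hd]
  obtain ⟨u, v, α, β, γ, hf, ha, hd, hn⟩ := Nat.find_spec h'
  have hmin : ∀ u' v' α' β' γ', IsFactor R u' v' α' β' γ' → 0 < α' → 0 < α' * γ' - β' * β' →
      α + γ ≤ α' + γ' := by
    intro u' v' α' β' γ' hf' ha' hd'
    have h0 : 0 ≤ α' + γ' := by linarith [pos_of_det ha' hd']
    have hle := Nat.find_min' h' (m := (α' + γ').toNat)
      ⟨u', v', α', β', γ', hf', ha', hd', (Int.toNat_of_nonneg h0).symm⟩
    rw [hn]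
    exact (Int.ofNat_le.2 hle).trans_eq (Int.toNat_of_nonneg h0)
  have hc := pos_of_det ha hd
  refine ⟨u, v, α, β, γ, hf, ha, hd, ?_, ?_⟩
  · have h1 := hmin _ _ _ _ _ (hf.shift 1) ha (by linarith)
    have h2 := hmin _ _ _ _ _ (hf.shift (-1)) ha (by linarith)
    rcases abs_cases β with ⟨e, -⟩ | ⟨e, -⟩ <;> rw [e] <;> linarith
  · have h1 := hmin _ _ _ _ _ (hf.swap.shift 1) hc (by linarith)
    have h2 := hmin _ _ _ _ _ (hf.swap.shift (-1)) hc (by linarith)
    rcases abs_cases β with ⟨e, -⟩ | ⟨e, -⟩ <;> rw [e] <;> linarith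

variable [Fintype ι] [DecidableEq ι]

/-- **Existence of the factorization.** -/
theorem exists_factor (R : Matrix ι ι ℤ) (q : ℤ) (hq : 0 < q) (hsym : Rᵀ = R)
    (hsq : R * R = q • R) (htr : R.trace = 2 * q) :
    ∃ u v α β γ, IsFactor R u v α β γ ∧ 0 < α ∧ 0 < α * γ - β * β := by
  classical
  set L : Submodule ℤ (ι → ℤ) := LinearMap.ker (R.mulVecLin - q • LinearMap.id) with hL
  have hmemL : ∀ w, w ∈ L ↔ R *ᵥ w = q • w := fun w => by
    simp [hL, sub_eq_zero]
  obtain ⟨n, bM, bN, f, a, snf⟩ := Submodule.smithNormalForm (Pi.basisFun ℤ ι) L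
  set e : Fin n → (ι → ℤ) →ₗ[ℤ] ℤ := fun i => bM.coord (f i) with he
  set V : Matrix ι (Fin n) ℤ := Matrix.of fun x i => bM (f i) x with hV
  set E : Matrix (Fin n) ι ℤ := Matrix.of fun i x => e i (Pi.single x 1) with hE
  have hEw : ∀ i w, (E *ᵥ w) i = e i w := fun i w => by
    have h : ∀ x, (Pi.single x (w x) : ι → ℤ) = w x • Pi.single x 1 := fun x => by
      rw [← Pi.single_smul', smul_eq_mul, mul_one]
    conv_rhs => rw [← Finset.univ_sum_single w, map_sum]
    refine Finset.sum_congr rfl fun x _ => ?_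
    rw [h x, map_smul, smul_eq_mul]
    exact mul_comm _ _
  have hEV : E * V = 1 := by
    ext i j
    have h1 : (E * V) i j = (E *ᵥ bM (f j)) i := rfl
    rw [h1, hEw, he, Module.Basis.coord_apply, Module.Basis.repr_self, Matrix.one_apply,
      Finsupp.single_apply]
    by_cases h : i = j
    · subst h; simp
    · rw [if_neg h, if_neg fun h' => h (f.injective h').symm]
  have ha0 : ∀ i, a i ≠ 0 := fun i h0 => by
    have h1 := snf i
    rw [h0, zero_smul] at h1
    exact bN.ne_zero i (Subtype.ext h1)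
  have hvL : ∀ i, R *ᵥ bM (f i) = q • bM (f i) := fun i => by
    have h1 := (hmemL _).1 (bN i).2
    rw [snf i, Matrix.mulVec_smul, smul_comm q (a i)] at h1
    exact smul_right_injective _ (ha0 i) h1
  have hexp : ∀ w ∈ L, V *ᵥ (E *ᵥ w) = w := by
    intro w hw
    obtain ⟨c, hc⟩ : ∃ c : Fin n → ℤ, w = V *ᵥ c := by
      refine ⟨fun i => bN.repr ⟨w, hw⟩ i * a i, ?_⟩
      have h1 := congrArg Subtype.val (bN.sum_repr ⟨w, hw⟩)
      rw [Submodule.coe_sum] at h1
      conv_lhs => rw [← show (⟨w, hw⟩ : L).1 = w from rfl, ← h1]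
      funext x
      simp [hV, Matrix.mulVec, dotProduct, snf, mul_comm, mul_assoc, mul_left_comm]
    rw [hc, Matrix.mulVec_mulVec _ E V, hEV, Matrix.one_mulVec]
  have hRV : R * V = q • V := by
    ext x i
    exact congrFun (hvL i) x
  have hVER : V * (E * R) = R := by
    ext x j
    have h1 : R *ᵥ Pi.single j 1 ∈ L := (hmemL _).2 (by
      rw [Matrix.mulVec_mulVec, hsq, Matrix.smul_mulVec])
    have h2 := congrFun (hexp _ h1) x
    rw [Matrix.mulVec_mulVec, Matrix.mulVec_mulVec, Matrix.mulVec_single_one,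
      Matrix.mulVec_single_one] at h2
    simpa [Matrix.mul_assoc] using h2
  set Q := E * R * Eᵀ with hQ
  have hQsym : Qᵀ = Q := by
    rw [hQ, Matrix.transpose_mul, Matrix.transpose_mul, Matrix.transpose_transpose, hsym,
      Matrix.mul_assoc]
  have hR : R = V * Q * Vᵀ := by
    have h1 := congrArg Matrix.transpose hVER
    rw [Matrix.transpose_mul, Matrix.transpose_mul, hsym] at h1
    calc R = V * (E * R) := hVER.symm
      _ = V * (E * (R * Eᵀ * Vᵀ)) := by rw [h1]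
      _ = _ := by rw [hQ]; simp only [Matrix.mul_assoc]
  have hQC : Q * (Vᵀ * V) = q • (1 : Matrix (Fin n) (Fin n) ℤ) := by
    have h1 : E * (R * V) = q • (1 : Matrix (Fin n) (Fin n) ℤ) := by
      rw [hRV, Matrix.mul_smul, hEV]
    conv_lhs at h1 => rw [hR, Matrix.mul_assoc, Matrix.mul_assoc, ← Matrix.mul_assoc, hEV,
      Matrix.one_mul]
    exact h1
  have hn : n = 2 := by
    have h1 : R.trace = q * n := by
      rw [hR, Matrix.trace_mul_comm, ← Matrix.mul_assoc, Matrix.trace_mul_comm, hQC,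
        Matrix.trace_smul, Matrix.trace_one, Fintype.card_fin, smul_eq_mul]
    rw [htr, mul_comm] at h1
    exact_mod_cast (mul_left_cancel₀ hq.ne' h1).symm
  subst hn
  have hpos : ∀ x : Fin 2 → ℤ, x ≠ 0 → 0 < x ⬝ᵥ (Q *ᵥ x) := by
    intro x hx
    set w := Eᵀ *ᵥ x with hw
    have h1 : x ⬝ᵥ (Q *ᵥ x) = w ⬝ᵥ (R *ᵥ w) := by
      rw [hQ, ← Matrix.mulVec_mulVec, ← Matrix.mulVec_mulVec, Matrix.dotProduct_mulVec, hw,
        Matrix.mulVec_transpose]
    have h2 : (R *ᵥ w) ⬝ᵥ (R *ᵥ w) = q * (w ⬝ᵥ (R *ᵥ w)) := by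
      have h3 : (R *ᵥ w) ⬝ᵥ (R *ᵥ w) = w ⬝ᵥ ((R * R) *ᵥ w) := by
        rw [← Matrix.mulVec_mulVec, Matrix.dotProduct_mulVec w, ← Matrix.mulVec_transpose, hsym]
      rw [h3, hsq, Matrix.smul_mulVec, dotProduct_smul, smul_eq_mul]
    have h4 : R *ᵥ w ≠ 0 := by
      intro h0
      have h5 : E *ᵥ (R *ᵥ w) = Q *ᵥ x := by
        rw [hQ, hw, Matrix.mulVec_mulVec, Matrix.mulVec_mulVec, Matrix.mul_assoc]
      rw [h0, Matrix.mulVec_zero] at h5
      have h6 : (Qᵀ *ᵥ x) ᵥ* (Vᵀ * V) = q • x := by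
        rw [Matrix.mulVec_transpose, Matrix.vecMul_vecMul, hQC, Matrix.vecMul_smul,
          Matrix.vecMul_one]
      rw [hQsym, ← h5, Matrix.zero_vecMul] at h6
      exact hx (smul_right_injective _ hq.ne' (by simpa using h6.symm))
    have h5 : 0 < (R *ᵥ w) ⬝ᵥ (R *ᵥ w) := by
      refine lt_of_le_of_ne (Finset.sum_nonneg fun i _ => mul_self_nonneg _) (Ne.symm ?_)
      rw [ne_eq, dotProduct_self_eq_zero]
      exact h4
    rw [h2] at h5
    rw [h1]
    exact pos_of_mul_pos_right h5 hq.le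
  refine ⟨fun x => V x 0, fun x => V x 1, Q 0 0, Q 0 1, Q 1 1, fun i j => ?_, ?_, ?_⟩
  · have hs : Q 1 0 = Q 0 1 := congrFun (congrFun hQsym 0) 1
    conv_lhs => rw [hR]
    simp only [Matrix.mul_apply, Fin.sum_univ_two, Matrix.transpose_apply, hs]
    ring
  · have h := hpos (Pi.single 0 1) (by simp)
    simpa [Matrix.mulVec, dotProduct, Fin.sum_univ_two] using h
  · have hα : 0 < Q 0 0 := by
      have h := hpos (Pi.single 0 1) (by simp)
      simpa [Matrix.mulVec, dotProduct, Fin.sum_univ_two] using h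
    have h := hpos ![-Q 0 1, Q 0 0] (fun h => hα.ne' (by simpa using congrFun h 1))
    have hs : Q 1 0 = Q 0 1 := congrFun (congrFun hQsym 0) 1
    simp only [Matrix.mulVec, dotProduct, Fin.sum_univ_two, Matrix.cons_val_zero,
      Matrix.cons_val_one, hs] at h
    exact pos_of_mul_pos_right (by linarith : 0 < Q 0 0 * (Q 0 0 * Q 1 1 - Q 0 1 * Q 0 1)) hα.le

/-- **The column norms.** -/
theorem column_norms {κ : Type*} (F : Finset κ) (a c : κ → ℂ) {α β γ q : ℝ} (hα : 0 < α)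
    (hd : 0 < α * γ - β * β) (m : κ → κ → ℂ)
    (hm : ∀ i j, m i j = (α : ℂ) * (a i * conj (a j)) + (β : ℂ) * (a i * conj (c j) + c i * conj (a j))
      + (γ : ℂ) * (c i * conj (c j)))
    (h1 : ∑ i ∈ F, m i i = ((2 * q : ℝ) : ℂ))
    (h2 : ∑ i ∈ F, ∑ j ∈ F, m i j * m j i = ((2 * q ^ 2 : ℝ) : ℂ)) :
    (α * γ - β * β) * ∑ i ∈ F, ‖a i‖ ^ 2 = q * γ ∧
      (α * γ - β * β) * ∑ i ∈ F, ‖c i‖ ^ 2 = q * α ∧
      (α * γ - β * β) * ∑ i ∈ F, (a i * conj (c i)).re = -(q * β) := by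
  classical
  set t := β / α with ht
  set δ := (α * γ - β * β) / α with hδ
  have hδ0 : 0 < δ := div_pos hd hα
  set b : κ → ℂ := fun i => a i + (t : ℂ) * c i with hb
  have hm' : ∀ i j, m i j = (α : ℂ) * (b i * conj (b j)) + (δ : ℂ) * (c i * conj (c j)) := by
    intro i j
    have : (α : ℂ) ≠ 0 := Complex.ofReal_ne_zero.2 hα.ne'
    rw [hm]
    simp only [hb, ht, hδ, map_add, map_mul, Complex.conj_ofReal]
    push_cast
    field_simp
    ring
  set X := ∑ i ∈ F, ‖b i‖ ^ 2 with hX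
  set Y := ∑ i ∈ F, ‖c i‖ ^ 2 with hY
  set Z := ∑ i ∈ F, b i * conj (c i) with hZ
  have hXc : (X : ℂ) = ∑ i ∈ F, b i * conj (b i) := by
    simp [hX, Complex.mul_conj']
  have hYc : (Y : ℂ) = ∑ i ∈ F, c i * conj (c i) := by
    simp [hY, Complex.mul_conj']
  have e1 : α * X + δ * Y = 2 * q := by
    apply Complex.ofReal_injective
    rw [← h1, Finset.sum_congr rfl fun i _ => hm' i i, Finset.sum_add_distrib, ← Finset.mul_sum,
      ← Finset.mul_sum, ← hXc, ← hYc]
    push_cast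
    ring
  have e2 : α ^ 2 * X ^ 2 + δ ^ 2 * Y ^ 2 + 2 * α * δ * ‖Z‖ ^ 2 = 2 * q ^ 2 := by
    apply Complex.ofReal_injective
    rw [← h2]
    have hterm : ∀ i j, m i j * m j i =
        (α : ℂ) ^ 2 * ((b i * conj (b i)) * (b j * conj (b j))) +
        (δ : ℂ) ^ 2 * ((c i * conj (c i)) * (c j * conj (c j))) +
        (α : ℂ) * (δ : ℂ) * ((b i * conj (c i)) * conj (b j * conj (c j)) +
          conj (b i * conj (c i)) * (b j * conj (c j))) := fun i j => by
      rw [hm', hm', map_mul, map_mul, Complex.conj_conj, Complex.conj_conj]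
      ring
    simp only [hterm, Finset.sum_add_distrib, ← Finset.mul_sum, ← Finset.sum_mul, ← map_sum,
      ← hXc, ← hYc, ← hZ, Complex.mul_conj', Complex.conj_mul']
    simp only [hX, hY]
    push_cast
    ring
  have hZ0 : (α * X - q) ^ 2 + (δ * Y - q) ^ 2 + 2 * α * δ * ‖Z‖ ^ 2 = 0 := by
    linear_combination e2 - 2 * q * e1
  have hnn : 0 ≤ 2 * α * δ * ‖Z‖ ^ 2 := by positivity
  have hX' : α * X = q := by nlinarith
  have hY' : δ * Y = q := by nlinarith
  have hZ' : Z = 0 := by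
    have h3 : 2 * α * δ * ‖Z‖ ^ 2 = 0 := by nlinarith
    have h4 : ‖Z‖ ^ 2 = 0 := (mul_eq_zero.1 h3).resolve_left (by positivity)
    exact norm_eq_zero.1 (pow_eq_zero_iff two_ne_zero |>.1 h4)
  have ha : ∀ i, a i = b i - (t : ℂ) * c i := fun i => by simp [hb]
  have hre : ∑ i ∈ F, (b i * conj (c i)).re = 0 := by
    rw [← Complex.re_sum, ← hZ, hZ', Complex.zero_re]
  have sA : ∑ i ∈ F, ‖a i‖ ^ 2 = X + t ^ 2 * Y := by
    have h3 : ∀ i, ‖a i‖ ^ 2 = ‖b i‖ ^ 2 + t ^ 2 * ‖c i‖ ^ 2 - 2 * t * (b i * conj (c i)).re := by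
      intro i
      rw [ha, Complex.sq_norm, Complex.sq_norm, Complex.sq_norm]
      simp [Complex.normSq_apply, Complex.mul_re]
      ring
    simp only [h3, Finset.sum_add_distrib, Finset.sum_sub_distrib, ← Finset.mul_sum, hre, mul_zero,
      sub_zero, hX, hY]
  have sAC : ∑ i ∈ F, (a i * conj (c i)).re = -(t * Y) := by
    have h3 : ∀ i, (a i * conj (c i)).re = (b i * conj (c i)).re - t * ‖c i‖ ^ 2 := by
      intro i
      rw [ha, Complex.sq_norm]
      simp [Complex.normSq_apply, Complex.mul_re]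
      ring
    simp only [h3, Finset.sum_sub_distrib, ← Finset.mul_sum, hre, zero_sub, hY]
  have hYv : (α * γ - β * β) * Y = q * α := by
    rw [← hY', hδ]
    field_simp
  refine ⟨?_, hYv, ?_⟩
  · rw [sA, mul_add, ← mul_assoc, mul_comm _ (t ^ 2), mul_assoc, hYv, ← hX', ht]
    field_simp
    ring
  · rw [sAC, mul_neg, ← mul_assoc, mul_comm _ t, mul_assoc, hYv, ht]
    field_simp

end CfsgLib.BlockA.RankTwo
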