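import Cfsg.Agent.Lib.BlockA.RankTwoFactor
import Cfsg.Agent.Lib.BlockA.MajorTwoCount
import Cfsg.Agent.Lib.BlockA.RankOne

/-!
The bound on the number of characters of a block with a major subsection of regular rank at most
two.
-/

set_option autoImplicit false
set_option linter.unusedSectionVars false
set_option maxHeartbeats 1000000

namespace CfsgLib.BlockA.RankTwoMajor

open Cfsg CfsgLib.Block CfsgLib.BlockB CfsgLib.BlockA CfsgLib.BlockA.BrauerFeit Polynomial
open CfsgLib.BlockA.RankTwo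
open scoped ComplexConjugate

universe u

/-- A nonzero cyclotomic integer has norm powers at least `1` on the Galois average. -/
theorem card_units_le_sum_pow {n : ℕ} [NeZero n] {f : ℕ → ℂ} (hf : IsCyclo n f) (h1 : f 1 ≠ 0)
    (j : ℕ) :
    (Fintype.card (ZMod n)ˣ : ℝ) ≤ ∑ u : (ZMod n)ˣ, ‖f (u : ZMod n).val‖ ^ j := by
  classical
  have hn := NeZero.ne n
  have hne : ∀ u ∈ (Finset.univ : Finset (ZMod n)ˣ), f ((u : ZMod n).val * 1) ≠ 0 := by
    intro u _ h0
    rw [mul_one] at h0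
    apply h1
    have hg := hf.comp_mul (u : ZMod n).val
    have h2 : f (((u⁻¹ : (ZMod n)ˣ) : ZMod n).val * (u : ZMod n).val) = ((0 : ℤ) : ℂ) :=
      hg.eq_int_of_coprime hn (m := 0)
        (show f (1 * (u : ZMod n).val) = ((0 : ℤ) : ℂ) by rw [one_mul, h0, Int.cast_zero])
        (ZMod.val_coe_unit_coprime u⁻¹)
    rw [← hf.apply_mod hn, ← ZMod.val_mul, ← Units.val_mul, inv_mul_cancel, Units.val_one,
      Int.cast_zero] at h2
    rcases eq_or_ne n 1 with hn1 | hn1
    · rw [← hf.apply_mod hn, show 1 % n = (1 : ZMod n).val % n by subst hn1; simp [Nat.mod_one],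
        hf.apply_mod hn, h2]
    · haveI : Fact (1 < n) := ⟨by omega⟩
      rwa [ZMod.val_one] at h2
  have hperm : ∀ k : ℕ, k.Coprime n →
      ∃ e : {i // i ∈ (Finset.univ : Finset (ZMod n)ˣ)} ≃ {i // i ∈ (Finset.univ : Finset (ZMod n)ˣ)},
        ∀ i : {i // i ∈ (Finset.univ : Finset (ZMod n)ˣ)},
          f (((e i).1 : ZMod n).val * 1) = f ((i.1 : ZMod n).val * k) := by
    intro k hk
    refine ⟨Equiv.subtypeEquiv (Equiv.mulRight (ZMod.unitOfCoprime k hk)) (by simp), fun i => ?_⟩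
    simp only [mul_one, Equiv.subtypeEquiv_apply, Equiv.coe_mulRight, Units.val_mul,
      ZMod.coe_unitOfCoprime]
    rw [← hf.apply_mod hn ((i.1 : ZMod n).val * k), ZMod.val_mul, ZMod.val_natCast,
      Nat.mul_mod_mod]
  have h := card_le_sum_norm_pow (Finset.univ : Finset (ZMod n)ˣ)
    (fun u i => f ((u : ZMod n).val * i)) hn
    (fun u _ => by simpa only [mul_comm] using hf.comp_mul (u : ZMod n).val) hperm hne j
  simpa using h

/-- The rows of the regular matrix are orthogonal up to the scalar. -/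
theorem sum_regEntry_mul {H : Type*} [Group H] [Fintype H] {p : ℕ} [Fact p.Prime]
    {M : Ideal AlgInt} [M.IsPrime] (hM : IsPModular p M) {B : Set (IrrCharacter H)}
    (hB : IsPBlock M B) {χ : IrrCharacter H} (hχ : χ ∈ B) (ψ : IrrCharacter H) :
    ∑ ξ ∈ B.toFinite.toFinset, regEntry p χ ξ * regEntry p ψ ξ =
      ((p ^ (Nat.card H).factorization p : ℕ) : ℤ) * regEntry p χ ψ := by
  classical
  have := Fintype.ofFinite (IrrCharacter H)
  let f : IrrCharacter H → H → ℂ := fun α x => if p ∣ orderOf x then (0 : ℂ)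
    else ((p ^ (Nat.card H).factorization p : ℕ) : ℂ) * (α : H → ℂ) x
  have hfc : IsClassFunction H (f χ) := by
    intro g h
    have ho : orderOf (h * g * h⁻¹) = orderOf g :=
      orderOf_injective (MulAut.conj h).toMonoidHom (MulAut.conj h).injective g
    simp only [f, ho, CfsgLib.Char.irr_isClassFunction χ.2 g h]
  have hsum := CfsgLib.Char.classInner_eq_sum_mul hfc (f ψ)
  have hall : ∀ α ξ : IrrCharacter H, Cfsg.classInner (f α) (ξ : H → ℂ) = (regEntry p α ξ : ℂ) :=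
    fun α ξ => (regEntry_cast α ξ).symm
  have hleft : Cfsg.classInner (f χ) (f ψ) =
      ((p ^ (Nat.card H).factorization p : ℕ) : ℂ) * (regEntry p χ ψ : ℂ) := by
    rw [← hall χ ψ, CfsgLib.Char.classInner_def, CfsgLib.Char.classInner_def, mul_left_comm,
      Finset.mul_sum (a := ((p ^ (Nat.card H).factorization p : ℕ) : ℂ))]
    congr 1
    refine Finset.sum_congr rfl fun g _ => ?_
    simp only [f]
    split_ifs
    · simp
    · rw [map_mul, Complex.conj_natCast]; ring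
  rw [hleft] at hsum
  simp only [hall, map_intCast] at hsum
  rw [← Finset.sum_subset (Finset.subset_univ B.toFinite.toFinset) (fun ξ _ hξ => by
    rw [regEntry_eq_zero hM hB hχ (fun h => hξ (B.toFinite.mem_toFinset.2 h)), Int.cast_zero,
      zero_mul])] at hsum
  exact_mod_cast hsum.symm

variable {G : Type u} [Group G] [Fintype G] {p : ℕ} {M : Ideal AlgInt} [M.IsPrime]
variable (hM : IsPModular p M) {x : G} (hx : ∃ k : ℕ, orderOf x = p ^ k)
variable [Fintype (Subgroup.centralizer ({x} : Set G))]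
variable [Fintype (IrrCharacter G)]
variable {B : Set (IrrCharacter G)}
variable {b : Set (IrrCharacter (Subgroup.centralizer ({x} : Set G)))}
variable (hind : IsInducedBlock M (Subgroup.centralizer ({x} : Set G)) b B)
variable (hd : blockDefect p b = blockDefect p B)
include hM hx

local notation "CC" => Subgroup.centralizer (Singleton.singleton x : Set G)

/-- A contribution as a polynomial in one root of unity of prime power order. -/
theorem exists_subEntry_poly {i : ℕ} (hi : orderOf x = p ^ i) {ζ : ℂ}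
    (hζ : IsPrimitiveRoot ζ (p ^ (i + 1))) (χ ξ : IrrCharacter G) :
    ∃ P : ℤ[X], ∀ k : ℕ, subEntry p b χ ξ k = aeval (ζ ^ k) P := by
  classical
  have : NeZero (p ^ (i + 1)) := ⟨pow_ne_zero _ hM.1.ne_zero⟩
  have hexp : ∀ θ η : IrrCharacter CC,
      ∃ j, ζ ^ j = centralRoot x θ * conj (centralRoot x η) := by
    intro θ η
    obtain ⟨j, -, hj⟩ := hζ.eq_pow_of_pow_eq_one
      (show (centralRoot x θ * conj (centralRoot x η)) ^ (p ^ (i + 1)) = 1 by
        rw [pow_succ, pow_mul, mul_pow, ← map_pow, ← hi, (centralRoot_spec hM hx θ).2.1,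
          (centralRoot_spec hM hx η).2.1, map_one, mul_one, one_pow])
    exact ⟨j, hj⟩
  choose e he using hexp
  refine ⟨∑ θ ∈ b.toFinite.toFinset, ∑ η ∈ b.toFinite.toFinset,
    C ((resMult x χ θ : ℤ) * (resMult x ξ η : ℤ) *
      (regEntry p θ η / (p ^ sInf ((fun φ : IrrCharacter CC =>
        (charDegree (φ : CC → ℂ)).factorization p) '' b) : ℕ))) * X ^ e θ η, fun k => ?_⟩
  simp only [subEntry, map_sum]
  refine Finset.sum_congr rfl fun θ _ => Finset.sum_congr rfl fun η _ => ?_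
  rw [map_mul, aeval_C, map_pow (aeval (ζ ^ k)), aeval_X, ← pow_mul, mul_comm k, pow_mul, he θ η,
    mul_pow, ← map_pow, algebraMap_int_eq, eq_intCast]

include hind hd

/-- A contribution against a character of height zero does not vanish. -/
theorem subEntry_ne_zero_right {χ ψ : IrrCharacter G} (hχ : χ ∈ B) (hψ : ψ ∈ B)
    (hψ0 : blockHeight p B (ψ : G → ℂ) = 0) : subEntry p b χ ψ 1 ≠ 0 := fun h0 =>
  (memLocalIdeal_subEntry_div_iff hM hx hind hd hχ hψ).1
    (by rw [h0, zero_div]; exact memLocalIdeal_zero) hψ0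

/-- A diagonal contribution does not vanish. -/
theorem subEntry_self_ne_zero {χ : IrrCharacter G} (hχ : χ ∈ B) : subEntry p b χ χ 1 ≠ 0 := by
  classical
  intro h0
  obtain ⟨ψ, hψ, hψ0⟩ := exists_height_zero hM hind.2.1
  have h := sum_subEntry_row hM hx hind χ (k := 1) (Nat.coprime_one_left _)
  rw [h0, mul_zero] at h
  have h1 : ((∑ ξ ∈ B.toFinite.toFinset, ‖subEntry p b χ ξ 1‖ ^ 2 : ℝ) : ℂ) = 0 := by
    rw [← h, Complex.ofReal_sum]
    refine Finset.sum_congr rfl fun ξ _ => ?_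
    rw [← subEntry_conj hM hx χ ξ 1, Complex.mul_conj']
    push_cast
    ring
  have h2 := (Finset.sum_eq_zero_iff_of_nonneg fun ξ _ => by positivity).1
    (Complex.ofReal_eq_zero.1 h1) ψ (B.toFinite.mem_toFinset.2 hψ)
  exact subEntry_ne_zero_right hM hx hind hd hχ hψ hψ0
    (norm_eq_zero.1 (pow_eq_zero_iff two_ne_zero |>.1 h2))

/-- The diagonal contribution is at least `p ^ height` on average. -/
theorem pow_height_mul_card_le {n : ℕ} [NeZero n] {i : ℕ} (hi : orderOf x = p ^ i)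
    (hn : p ^ (i + 1) ∣ n) {χ : IrrCharacter G} (hχ : χ ∈ B) :
    (p : ℝ) ^ blockHeight p B (χ : G → ℂ) * Fintype.card (ZMod n)ˣ ≤
      ∑ u : (ZMod n)ˣ, (subEntry p b χ χ (u : ZMod n).val).re := by
  classical
  have := Fact.mk hM.1
  set h := blockHeight p B (χ : G → ℂ) with hh
  obtain ⟨c, hc⟩ := hn
  set z := zetaN n ^ c with hz
  have hzr : IsPrimitiveRoot z (p ^ (i + 1)) :=
    (zetaN_isPrimitiveRoot (NeZero.ne n)).pow (NeZero.pos n) (by rw [hc, mul_comm])
  obtain ⟨P, hP⟩ := exists_subEntry_poly hM hx (b := b) hi hzr χ χ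
  have hP1 : subEntry p b χ χ 1 = aeval z P := by rw [hP 1, pow_one]
  obtain ⟨Q, hQ⟩ := exists_div_pow hM hzr P h (hP1 ▸ memLocalRing_subEntry_div hM hx hind hd hχ χ)
  let g : ℕ → ℂ := fun k => aeval (z ^ k) Q
  have hg : IsCyclo n g := ⟨Q.comp (X ^ c), fun k => by
    simp only [g, aeval_comp, map_pow, aeval_X, hz, ← pow_mul, mul_comm k c]⟩
  have hdiff : IsCyclo n fun k => aeval (z ^ k) (P - C ((p ^ h : ℕ) : ℤ) * Q) :=
    ⟨(P - C ((p ^ h : ℕ) : ℤ) * Q).comp (X ^ c), fun k => by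
      simp only [aeval_comp, map_pow, aeval_X, hz, ← pow_mul, mul_comm k c]⟩
  have hval : ∀ k : ℕ, k.Coprime n → subEntry p b χ χ k = ((p ^ h : ℕ) : ℂ) * g k := by
    intro k hk
    have h1 := hdiff.eq_int_of_coprime (NeZero.ne n) (m := 0) (by
      simp only [pow_one, map_sub, map_mul, hQ]
      simp) hk
    simp only [map_sub, map_mul, aeval_C, Int.cast_zero, sub_eq_zero] at h1
    rw [hP k, h1]
    simp [g]
  have hne : g 1 ≠ 0 := fun h0 => subEntry_self_ne_zero hM hx hind hd hχ (by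
    rw [hval 1 (Nat.coprime_one_left n), h0, mul_zero])
  have h1 := mul_le_mul_of_nonneg_left (card_units_le_sum_pow hg hne 1)
    (pow_nonneg (Nat.cast_nonneg p : (0 : ℝ) ≤ p) h)
  refine h1.trans (le_of_eq ?_)
  rw [Finset.mul_sum]
  refine Finset.sum_congr rfl fun u _ => ?_
  obtain ⟨r, hr, hre⟩ := subEntry_self_nonneg (b := b) hM χ (u : ZMod n).val
  rw [hre, Complex.ofReal_re, ← abs_of_nonneg hr, ← Real.norm_eq_abs, ← Complex.norm_real, ← hre,
    hval _ (ZMod.val_coe_unit_coprime u), norm_mul, Complex.norm_natCast, pow_one]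
  push_cast
  ring

/-- **The bound.** -/
theorem natCard_le_of_rank_le_two (hl : blockRank p b ≤ 2) :
    Nat.card B ≤ p ^ blockDefect p B := by
  classical
  have := Fact.mk hM.1
  obtain ⟨i, hi⟩ := id hx
  set n := Nat.card G * p ^ (i + 1) with hn
  have hn0 : n ≠ 0 := mul_ne_zero Nat.card_pos.ne' (pow_ne_zero _ hM.1.ne_zero)
  have : NeZero n := ⟨hn0⟩
  have hni : p ^ (i + 1) ∣ n := dvd_mul_left _ _
  have hcopG : ∀ u : (ZMod n)ˣ, (u : ZMod n).val.Coprime (Nat.card G) := fun u =>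
    (ZMod.val_coe_unit_coprime u).coprime_dvd_right (dvd_mul_right _ _)
  set U := Fintype.card (ZMod n)ˣ with hU
  have hUpos : (0 : ℝ) < U := Nat.cast_pos.2 Fintype.card_pos
  rw [← hd, Nat.card_coe_set_eq, Set.ncard_eq_toFinset_card B B.toFinite]
  set q := p ^ blockDefect p b with hq
  set F := B.toFinite.toFinset with hF
  have hmem : ∀ {χ}, χ ∈ F ↔ χ ∈ B := B.toFinite.mem_toFinset
  -- the trace
  have htot : ∀ u : (ZMod n)ˣ, ∑ χ ∈ F, subEntry p b χ χ (u : ZMod n).val =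
      ((q * blockRank p b : ℕ) : ℂ) := by
    intro u
    have htr : IsCyclo (Nat.card G) fun k => ∑ χ ∈ F, subEntry p b χ χ k :=
      IsCyclo.sum _ fun χ _ => subEntry_isCyclo hM hx χ χ
    have h1 := htr.eq_int_of_coprime Nat.card_pos.ne' (m := ((q * blockRank p b : ℕ) : ℤ))
      (by rw [hF, sum_subEntry_self hM hx hind, Int.cast_natCast]) (hcopG u)
    rw [Int.cast_natCast] at h1
    exact h1
  have htotre : ∀ u : (ZMod n)ˣ, ∑ χ ∈ F, (subEntry p b χ χ (u : ZMod n).val).re =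
      ((q * blockRank p b : ℕ) : ℝ) := fun u => by
    rw [← Complex.re_sum, htot u, Complex.natCast_re]
  have hsumA : ∑ χ ∈ F, ∑ u : (ZMod n)ˣ, (subEntry p b χ χ (u : ZMod n).val).re =
      U * ((q * blockRank p b : ℕ) : ℝ) := by
    rw [Finset.sum_comm, Finset.sum_congr rfl fun u _ => htotre u, Finset.sum_const,
      Finset.card_univ, nsmul_eq_mul]
  -- every average is at least one
  have hA1 : ∀ χ ∈ F, (U : ℝ) ≤ ∑ u : (ZMod n)ˣ, (subEntry p b χ χ (u : ZMod n).val).re :=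
    fun χ hχ => le_trans
      (le_mul_of_one_le_left hUpos.le (one_le_pow₀ (by exact_mod_cast hM.1.one_le)))
      (pow_height_mul_card_le hM hx hind hd hi hni (hmem.1 hχ))
  rcases lt_or_eq_of_le hl with hl1 | hl2
  · have h1 : (U : ℝ) * F.card ≤ U * (q : ℝ) := by
      calc (U : ℝ) * F.card = ∑ χ ∈ F, (U : ℝ) := by
            rw [Finset.sum_const, nsmul_eq_mul, mul_comm]
        _ ≤ _ := Finset.sum_le_sum hA1
        _ = U * ((q * blockRank p b : ℕ) : ℝ) := hsumA
        _ ≤ U * (q : ℝ) := by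
          refine mul_le_mul_of_nonneg_left ?_ hUpos.le
          exact_mod_cast (Nat.mul_le_mul_left q (Nat.le_of_lt_succ hl1)).trans_eq (mul_one q)
    exact_mod_cast le_of_mul_le_mul_left h1 hUpos
  -- the factorization
  set bF := b.toFinite.toFinset with hbF
  set s := sInf ((fun φ : IrrCharacter CC => (charDegree (φ : CC → ℂ)).factorization p) '' b)
    with hs
  have hps : ((p ^ s : ℕ) : ℤ) ≠ 0 := by exact_mod_cast pow_ne_zero s hM.1.ne_zero
  have hdvd : ∀ θ η : IrrCharacter CC, η ∈ b → ((p ^ s : ℕ) : ℤ) ∣ regEntry p θ η :=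
    fun θ η hη => dvd_trans
      (Int.natCast_dvd_natCast.2 (Nat.pow_dvd_pow p (Nat.sInf_le ⟨η, hη, rfl⟩)))
      (pow_dvd_regEntry hM θ η)
  have hps_q : ((p ^ (Nat.card CC).factorization p : ℕ) : ℤ) = ((p ^ s : ℕ) : ℤ) * (q : ℤ) := by
    rw [← sInf_degree_add_blockDefect hM hind.1, ← hs, pow_add, Nat.cast_mul, hq]
  let R : Matrix bF bF ℤ := Matrix.of fun θ η => regEntry p (θ : IrrCharacter CC) η / (p ^ s : ℕ)
  have hRe : ∀ θ η : bF, ((p ^ s : ℕ) : ℤ) * R θ η = regEntry p (θ : IrrCharacter CC) η :=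
    fun θ η => Int.mul_ediv_cancel' (hdvd _ _ (b.toFinite.mem_toFinset.1 η.2))
  have hsym : R.transpose = R := by
    ext θ η
    show regEntry p _ _ / _ = regEntry p _ _ / _
    rw [regEntry_symm]
  have hsq : R * R = (q : ℤ) • R := by
    ext θ η
    refine mul_left_cancel₀ hps (mul_left_cancel₀ hps ?_)
    rw [Matrix.mul_apply, Matrix.smul_apply, smul_eq_mul, Finset.mul_sum, Finset.mul_sum]
    have e1 : ∀ ξ : bF, ((p ^ s : ℕ) : ℤ) * (((p ^ s : ℕ) : ℤ) * (R θ ξ * R ξ η)) =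
        regEntry p (θ : IrrCharacter CC) ξ * regEntry p (η : IrrCharacter CC) ξ := by
      intro ξ
      rw [← hRe θ ξ, ← regEntry_symm (ξ : IrrCharacter CC) η, ← hRe ξ η]
      ring
    rw [Finset.sum_congr rfl fun ξ _ => e1 ξ,
      Finset.sum_coe_sort bF (fun ξ => regEntry p (θ : IrrCharacter CC) ξ *
        regEntry p (η : IrrCharacter CC) ξ),
      sum_regEntry_mul hM hind.1 (b.toFinite.mem_toFinset.1 θ.2), ← hRe θ η, hps_q]
    ring
  have htr : R.trace = 2 * (q : ℤ) := by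
    refine mul_left_cancel₀ hps ?_
    simp only [Matrix.trace, Matrix.diag_apply]
    rw [Finset.mul_sum, Finset.sum_congr rfl fun θ _ => hRe θ θ,
      Finset.sum_coe_sort bF (fun θ => regEntry p θ θ), hbF,
      ← blockRank_mul_pow hM hind.1, hl2, hps_q]
    push_cast
    ring
  obtain ⟨u, v, α, β, γ, hfac, hα, hdet, hβα, hβγ⟩ := exists_reduced
    (exists_factor R (q : ℤ) (by rw [hq]; exact_mod_cast pow_pos hM.1.pos _) hsym hsq htr)
  let a : IrrCharacter G → ℕ → ℂ := fun χ k =>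
    ∑ θ : bF, (((resMult x χ (θ : IrrCharacter CC) : ℤ) * u θ : ℤ) : ℂ) *
      centralRoot x (θ : IrrCharacter CC) ^ k
  let c : IrrCharacter G → ℕ → ℂ := fun χ k =>
    ∑ θ : bF, (((resMult x χ (θ : IrrCharacter CC) : ℤ) * v θ : ℤ) : ℂ) *
      centralRoot x (θ : IrrCharacter CC) ^ k
  have hform : ∀ χ ξ k, subEntry p b χ ξ k = (α : ℂ) * (a χ k * conj (a ξ k)) +
      (β : ℂ) * (a χ k * conj (c ξ k) + c χ k * conj (a ξ k)) +
      (γ : ℂ) * (c χ k * conj (c ξ k)) := by
    intro χ ξ k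
    simp only [subEntry, ← hbF, ← hs, a, c, map_sum, Finset.sum_mul, Finset.mul_sum,
      ← Finset.sum_add_distrib, map_mul, map_intCast]
    conv_rhs => rw [Finset.sum_comm]
    rw [← Finset.sum_coe_sort bF]
    refine Finset.sum_congr rfl fun θ _ => ?_
    rw [← Finset.sum_coe_sort bF]
    refine Finset.sum_congr rfl fun η _ => ?_
    rw [show regEntry p (θ : IrrCharacter CC) η / (p ^ s : ℕ) = R θ η from rfl, hfac θ η]
    push_cast
    ring
  have hcyc : ∀ w : bF → ℤ, ∀ χ : IrrCharacter G, IsCyclo n fun k =>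
      ∑ θ : bF, (((resMult x χ (θ : IrrCharacter CC) : ℤ) * w θ : ℤ) : ℂ) *
        centralRoot x (θ : IrrCharacter CC) ^ k := by
    intro w χ
    refine IsCyclo.sum _ fun θ _ => (isCyclo_intCast n _).mul ?_
    obtain ⟨m, hm⟩ := orderOf_dvd_natCard x
    obtain ⟨j, -, hj⟩ := (zetaN_isPrimitiveRoot hn0).eq_pow_of_pow_eq_one
      (show centralRoot x (θ : IrrCharacter CC) ^ n = 1 by
        rw [hn, hm, mul_assoc, pow_mul, (centralRoot_spec hM hx _).2.1, one_pow])
    exact ⟨X ^ j, fun k => by rw [map_pow, aeval_X, ← hj, ← pow_mul, ← pow_mul, mul_comm]⟩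
  have hacyc : ∀ χ, IsCyclo n (a χ) := fun χ => hcyc u χ
  have hccyc : ∀ χ, IsCyclo n (c χ) := fun χ => hcyc v χ
  have hzero : ∀ f : ℕ → ℂ, IsCyclo n f → f 1 = 0 → ∀ w : (ZMod n)ˣ, f (w : ZMod n).val = 0 := by
    intro f hf h0 w
    have h1 := hf.eq_int_of_coprime hn0 (m := 0) (by rw [h0, Int.cast_zero])
      (ZMod.val_coe_unit_coprime w)
    simpa using h1
  -- the column norms
  have hαr : (0 : ℝ) < α := Int.cast_pos.2 hα
  have hdr : (0 : ℝ) < (α : ℝ) * γ - β * β := by exact_mod_cast hdet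
  have hγr : (0 : ℝ) < γ := Int.cast_pos.2 (pos_of_det hα hdet)
  have hcol : ∀ w : (ZMod n)ˣ,
      ((α : ℝ) * γ - β * β) * ∑ χ ∈ F, ‖a χ (w : ZMod n).val‖ ^ 2 = q * γ ∧
      ((α : ℝ) * γ - β * β) * ∑ χ ∈ F, ‖c χ (w : ZMod n).val‖ ^ 2 = q * α ∧
      ((α : ℝ) * γ - β * β) * ∑ χ ∈ F, (a χ (w : ZMod n).val * conj (c χ (w : ZMod n).val)).re =
        -(q * β) := by
    intro w
    refine column_norms F _ _ hαr hdr (fun χ ξ => subEntry p b χ ξ (w : ZMod n).val)
      (fun χ ξ => by rw [hform]; push_cast; ring) ?_ ?_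
    · rw [htot w, hl2]
      push_cast
      ring
    · simp only [hF, sum_subEntry_row hM hx hind _ (hcopG w), ← hq, ← Finset.mul_sum]
      rw [← hF, htot w, hl2]
      push_cast
      ring
  -- lower bounds
  have hnorm : ∀ f : ℕ → ℂ, IsCyclo n f → f 1 ≠ 0 →
      (U : ℝ) ≤ ∑ w : (ZMod n)ˣ, ‖f (w : ZMod n).val‖ ^ 2 := fun f hf h0 =>
    card_units_le_sum_pow hf h0 2
  have hac : ∀ χ ∈ F, a χ 1 ≠ 0 ∨ c χ 1 ≠ 0 := by
    intro χ hχ
    by_contra h
    push Not at h
    refine subEntry_self_ne_zero hM hx hind hd (hmem.1 hχ) ?_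
    rw [hform, h.1, h.2]
    simp
  by_cases hβ : β = 0
  · -- the diagonal case
    have hside : ∀ (f g : IrrCharacter G → ℕ → ℂ) (e : ℤ), (∀ χ, IsCyclo n (g χ)) →
        (∀ χ ξ k, f χ k = 0 → subEntry p b ξ χ k = (e : ℂ) * (g ξ k * conj (g χ k))) →
        (∀ w : (ZMod n)ˣ, ∑ χ ∈ F, ‖g χ (w : ZMod n).val‖ ^ 2 ≤ q) →
        ∀ χ ∈ F, blockHeight p B (χ : G → ℂ) = 0 → f χ 1 = 0 → F.card ≤ q := by
      intro f g e hgc hfg hgsum χ hχ h0 hf
      have hall : ∀ ξ ∈ F, g ξ 1 ≠ 0 := by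
        intro ξ hξ hg0
        refine subEntry_ne_zero_right hM hx hind hd (hmem.1 hξ) (hmem.1 hχ) h0 ?_
        rw [hfg χ ξ 1 hf, hg0]
        simp
      have h1 : (U : ℝ) * F.card ≤ U * (q : ℝ) := by
        calc (U : ℝ) * F.card = ∑ ξ ∈ F, (U : ℝ) := by
              rw [Finset.sum_const, nsmul_eq_mul, mul_comm]
          _ ≤ ∑ ξ ∈ F, ∑ w : (ZMod n)ˣ, ‖g ξ (w : ZMod n).val‖ ^ 2 :=
              Finset.sum_le_sum fun ξ hξ => hnorm _ (hgc ξ) (hall ξ hξ)
          _ ≤ _ := by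
              rw [Finset.sum_comm]
              refine (Finset.sum_le_sum fun w _ => hgsum w).trans (le_of_eq ?_)
              rw [Finset.sum_const, Finset.card_univ, nsmul_eq_mul]
      exact_mod_cast le_of_mul_le_mul_left h1 hUpos
    subst hβ
    have hα1 : (1 : ℝ) ≤ α := by exact_mod_cast hα
    have hγ1 : (1 : ℝ) ≤ γ := by exact_mod_cast pos_of_det hα hdet
    by_cases hex : ∃ χ ∈ F, blockHeight p B (χ : G → ℂ) = 0 ∧ (a χ 1 = 0 ∨ c χ 1 = 0)
    · obtain ⟨χ, hχ, h0, hor⟩ := hex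
      rcases hor with h | h
      · refine hside a c γ hccyc (fun χ ξ k hf => by rw [hform, hf]; simp) (fun w => ?_) χ hχ h0 h
        have h1 := (hcol w).2.1
        simp only [Int.cast_zero, mul_zero, sub_zero] at h1
        have h2 : (γ : ℝ) * ∑ χ ∈ F, ‖c χ (w : ZMod n).val‖ ^ 2 = q := by
          refine mul_left_cancel₀ hαr.ne' ?_
          rw [← mul_assoc, h1, mul_comm]
        rw [← h2]
        exact le_mul_of_one_le_left (Finset.sum_nonneg fun _ _ => by positivity) hγ1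
      · refine hside c a α hacyc (fun χ ξ k hf => by rw [hform, hf]; simp) (fun w => ?_) χ hχ h0 h
        have h1 := (hcol w).1
        simp only [Int.cast_zero, mul_zero, sub_zero] at h1
        have h2 : (α : ℝ) * ∑ χ ∈ F, ‖a χ (w : ZMod n).val‖ ^ 2 = q := by
          refine mul_left_cancel₀ hγr.ne' ?_
          rw [← mul_assoc, mul_comm (γ : ℝ), h1, mul_comm]
        rw [← h2]
        exact le_mul_of_one_le_left (Finset.sum_nonneg fun _ _ => by positivity) hα1
    · push Not at hex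
      have h2 : ∀ χ ∈ F, 2 * (U : ℝ) ≤
          ∑ w : (ZMod n)ˣ, (subEntry p b χ χ (w : ZMod n).val).re := by
        intro χ hχ
        by_cases h0 : blockHeight p B (χ : G → ℂ) = 0
        · obtain ⟨ha0, hc0⟩ := hex χ hχ h0
          have hre : ∀ k, (subEntry p b χ χ k).re =
              (α : ℝ) * ‖a χ k‖ ^ 2 + (γ : ℝ) * ‖c χ k‖ ^ 2 := by
            intro k
            rw [hform, Complex.mul_conj', Complex.mul_conj']
            simp [← Complex.ofReal_pow, Complex.mul_re]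
          simp only [hre, Finset.sum_add_distrib, ← Finset.mul_sum]
          have h3 := hnorm _ (hacyc χ) ha0
          have h4 := hnorm _ (hccyc χ) hc0
          nlinarith
        · refine le_trans ?_ (pow_height_mul_card_le hM hx hind hd hi hni (hmem.1 hχ))
          refine mul_le_mul_of_nonneg_right ?_ hUpos.le
          calc (2 : ℝ) ≤ p := by exact_mod_cast hM.1.two_le
            _ = (p : ℝ) ^ 1 := (pow_one _).symm
            _ ≤ _ := pow_le_pow_right₀ (by exact_mod_cast hM.1.one_le)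
              (Nat.pos_of_ne_zero h0)
      have h1 : (2 * (U : ℝ)) * F.card ≤ (2 * U) * (q : ℝ) := by
        calc (2 * (U : ℝ)) * F.card = ∑ χ ∈ F, 2 * (U : ℝ) := by
              rw [Finset.sum_const, nsmul_eq_mul, mul_comm]
          _ ≤ _ := Finset.sum_le_sum h2
          _ = U * ((q * blockRank p b : ℕ) : ℝ) := hsumA
          _ = _ := by rw [hl2]; push_cast; ring
      exact_mod_cast le_of_mul_le_mul_left h1 (by positivity)
  · -- the reduced form with a nonzero middle term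
    obtain ⟨σ, hσ, hσβ⟩ : ∃ σ : ℤ, (σ = 1 ∨ σ = -1) ∧ σ * β = |β| := by
      rcases abs_cases β with ⟨e, -⟩ | ⟨e, -⟩
      · exact ⟨1, Or.inl rfl, by rw [e, one_mul]⟩
      · exact ⟨-1, Or.inr rfl, by rw [e]; ring⟩
    let φ : IrrCharacter G → ℕ → ℝ := fun χ k =>
      ‖a χ k‖ ^ 2 + ‖c χ k‖ ^ 2 + (σ : ℝ) * (a χ k * conj (c χ k)).re
    have hlow : ∀ χ k, (‖a χ k‖ ^ 2 + ‖c χ k‖ ^ 2) / 2 ≤ φ χ k := by
      intro χ k
      have h1 : 0 ≤ Complex.normSq (a χ k + (σ : ℂ) * c χ k) := Complex.normSq_nonneg _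
      have hs2 : ((σ : ℤ) : ℝ) ^ 2 = 1 := by rcases hσ with rfl | rfl <;> norm_num
      have h2 : Complex.normSq (a χ k + (σ : ℂ) * c χ k) = ‖a χ k‖ ^ 2 +
          ((σ : ℤ) : ℝ) ^ 2 * ‖c χ k‖ ^ 2 + 2 * (σ : ℝ) * (a χ k * conj (c χ k)).re := by
        rw [Complex.sq_norm, Complex.sq_norm]
        simp [Complex.normSq_apply, Complex.mul_re]
        ring
      rw [h2, hs2, one_mul] at h1
      simp only [φ]
      linarith
    have hφ1 : ∀ χ ∈ F, (U : ℝ) ≤ ∑ w : (ZMod n)ˣ, φ χ (w : ZMod n).val := by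
      intro χ hχ
      by_cases ha0 : a χ 1 = 0
      · have hz := hzero _ (hacyc χ) ha0
        have hc0 : c χ 1 ≠ 0 := (hac χ hχ).resolve_left (not_not.2 ha0)
        refine (hnorm _ (hccyc χ) hc0).trans (le_of_eq (Finset.sum_congr rfl fun w _ => ?_))
        simp [φ, hz w]
      by_cases hc0 : c χ 1 = 0
      · have hz := hzero _ (hccyc χ) hc0
        refine (hnorm _ (hacyc χ) ha0).trans (le_of_eq (Finset.sum_congr rfl fun w _ => ?_))
        simp [φ, hz w]
      refine le_trans ?_ (Finset.sum_le_sum fun w _ => hlow χ _)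
      rw [← Finset.sum_div, Finset.sum_add_distrib]
      have h3 := hnorm _ (hacyc χ) ha0
      have h4 := hnorm _ (hccyc χ) hc0
      linarith
    have hφs : ∀ w : (ZMod n)ˣ, ∑ χ ∈ F, φ χ (w : ZMod n).val ≤ q := by
      intro w
      obtain ⟨e1, e2, e3⟩ := hcol w
      have hineq : α + γ - |β| ≤ α * γ - β * β := by
        have h1 : 1 ≤ |β| := Int.one_le_abs hβ
        have h2 : β * β = |β| * |β| := (abs_mul_abs_self β).symm
        nlinarith
      have hineqr : (α : ℝ) + γ - (σ : ℝ) * β ≤ (α : ℝ) * γ - β * β := by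
        rw [← hσβ] at hineq
        exact_mod_cast hineq
      refine le_of_mul_le_mul_left ?_ hdr
      simp only [φ, Finset.sum_add_distrib, ← Finset.mul_sum]
      rw [mul_add, mul_add, e1, e2, mul_left_comm, e3]
      have hq0 : (0 : ℝ) ≤ q := Nat.cast_nonneg q
      nlinarith [mul_le_mul_of_nonneg_left hineqr hq0]
    have h1 : (U : ℝ) * F.card ≤ U * (q : ℝ) := by
      calc (U : ℝ) * F.card = ∑ χ ∈ F, (U : ℝ) := by
            rw [Finset.sum_const, nsmul_eq_mul, mul_comm]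
        _ ≤ _ := Finset.sum_le_sum hφ1
        _ ≤ _ := by
            rw [Finset.sum_comm]
            refine (Finset.sum_le_sum fun w _ => hφs w).trans (le_of_eq ?_)
            rw [Finset.sum_const, Finset.card_univ, nsmul_eq_mul]
    exact_mod_cast le_of_mul_le_mul_left h1 hUpos

end CfsgLib.BlockA.RankTwoMajor
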