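import Cfsg.Agent.Lib.BlockA.InvariantForm
import Mathlib.LinearAlgebra.Matrix.PosDef
import Mathlib.LinearAlgebra.FiniteDimensional.Lemmas
import Mathlib.Analysis.Complex.Basic
import Mathlib.RepresentationTheory.Irreducible

/-! Indicator one and real representations. -/

set_option autoImplicit false
set_option linter.unusedSectionVars false

namespace CfsgLib.BlockA

open CfsgLib.Char
open scoped ComplexConjugate Matrix ComplexOrder

universe u

variable {G : Type u} [Group G] [Fintype G]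

/-- A character of norm one afforded by a real representation has indicator one. -/
theorem indicator_eq_one_of_real {n : ℕ} (R : Representation ℝ G (Fin n → ℝ)) {χ : G → ℂ}
    (hχ : Cfsg.IsIrrCharacter G χ)
    (htr : ∀ g : G, ((LinearMap.trace ℝ (Fin n → ℝ) (R g) : ℝ) : ℂ) = χ g) :
    (Nat.card G : ℂ)⁻¹ * ∑ s : G, χ (s * s) = 1 := by
  classical
  let A : G → Matrix (Fin n) (Fin n) ℝ := fun g => LinearMap.toMatrix' (R g)
  let φ : Matrix (Fin n) (Fin n) ℝ →+* Matrix (Fin n) (Fin n) ℂ := Complex.ofRealHom.mapMatrix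
  let σ : Representation ℂ G (Fin n → ℂ) :=
    { toFun := fun g => Matrix.toLin' (φ (A g))
      map_one' := by
        simp only [A, map_one, Module.End.one_eq_id, LinearMap.toMatrix'_id, map_one, Matrix.toLin'_one]
      map_mul' := fun a b => by
        simp only [A, map_mul, LinearMap.toMatrix'_mul, Matrix.toLin'_mul]
        rfl }
  have hσA : ∀ g, LinearMap.toMatrix' (σ g) = φ (A g) := fun g => LinearMap.toMatrix'_toLin' _
  have hσ : σ.character = χ := by
    funext g
    rw [← htr g, Representation.character, LinearMap.trace_eq_matrix_trace ℂ (Pi.basisFun ℂ (Fin n)),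
      LinearMap.trace_eq_matrix_trace ℝ (Pi.basisFun ℝ (Fin n)), LinearMap.toMatrix_eq_toMatrix',
      LinearMap.toMatrix_eq_toMatrix', hσA]
    simp [Matrix.trace, φ, A]
  have hreal : ∀ g : G, (σ.character g).im = 0 := fun g => by
    rw [hσ, ← htr g, Complex.ofReal_im]
  obtain ⟨-, hform⟩ := invariant_forms σ (by rw [hσ]; exact irr_classInner_self hχ) hreal
  set B : Matrix (Fin n) (Fin n) ℝ := ∑ h : G, (A h)ᵀ * A h
  have hBinv : ∀ g, (A g)ᵀ * B * A g = B := fun g => by
    simp only [B, Finset.mul_sum, Finset.sum_mul]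
    refine Fintype.sum_equiv (Equiv.mulRight g) _ _ fun h => ?_
    simp [A, map_mul, LinearMap.toMatrix'_mul, Matrix.transpose_mul, Matrix.mul_assoc]
  have hσmul : ∀ g, (LinearMap.toMatrix' (σ g))ᵀ * φ B * LinearMap.toMatrix' (σ g) = φ B := fun g => by
    rw [hσA, show (φ (A g))ᵀ = φ (A g)ᵀ by ext i j; simp [φ], ← map_mul, ← map_mul, hBinv]
  have h := hform (φ B) hσmul
  rw [hσ] at h
  have hBsym : (φ B)ᵀ = φ B := by
    rw [show (φ B)ᵀ = φ Bᵀ by ext i j; simp [φ]]
    congr 1
    simp [B, Matrix.transpose_sum, Matrix.transpose_mul]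
  have hn : 0 < n := by
    rcases Nat.eq_zero_or_pos n with rfl | hn
    · exfalso
      apply irr_apply_one_ne_zero hχ
      rw [← htr 1, map_one, LinearMap.trace_one, Module.finrank_fin_fun]
      simp
    · exact hn
  have hBne : φ B ≠ 0 := fun h0 => by
    have h1 : ∑ g : G, ∑ k, A g k ⟨0, hn⟩ * A g k ⟨0, hn⟩ = 0 := by
      have := congrFun (congrFun h0 ⟨0, hn⟩) ⟨0, hn⟩
      simp only [φ, RingHom.mapMatrix_apply, Matrix.map_apply, Matrix.zero_apply,
        Complex.ofRealHom_eq_coe, Complex.ofReal_eq_zero] at this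
      rw [← this]
      simp [B, Matrix.sum_apply, Matrix.mul_apply]
    rw [Finset.sum_eq_zero_iff_of_nonneg fun g _ =>
      Finset.sum_nonneg fun k _ => mul_self_nonneg _] at h1
    have h2 := (Finset.sum_eq_zero_iff_of_nonneg fun k _ => mul_self_nonneg _).1
      (h1 1 (Finset.mem_univ _)) ⟨0, hn⟩ (Finset.mem_univ _)
    simp [A, Module.End.one_eq_id] at h2
  rw [hBsym] at h
  by_contra hne
  exact hBne ((smul_eq_zero.1 (show ((Nat.card G : ℂ)⁻¹ * ∑ s : G, χ (s * s) - 1) • φ B = 0 by
    rw [sub_smul, one_smul, ← h, sub_self])).resolve_left (sub_ne_zero.2 hne))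

/-- An irreducible character of indicator one is afforded by a real representation. -/
theorem exists_real_of_indicator_one (χ : Cfsg.IrrCharacter G)
    (hν : (Nat.card G : ℂ)⁻¹ * ∑ s : G, (χ : G → ℂ) (s * s) = 1) :
    ∃ (n : ℕ) (R : Representation ℝ G (Fin n → ℝ)), ∀ g : G,
      ((LinearMap.trace ℝ (Fin n → ℝ) (R g) : ℝ) : ℂ) = (χ : G → ℂ) g := by
  classical
  obtain ⟨χ, n, ρ, hρ, rfl⟩ := χ
  change (Nat.card G : ℂ)⁻¹ * ∑ s : G, ρ.character (s * s) = 1 at hν
  change ∃ (m : ℕ) (R : Representation ℝ G (Fin m → ℝ)), ∀ g : G,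
      ((LinearMap.trace ℝ (Fin m → ℝ) (R g) : ℝ) : ℂ) = ρ.character g
  have hirr : Cfsg.IsIrrCharacter G ρ.character := ⟨n, ρ, hρ, rfl⟩
  have hreal : ∀ g : G, (ρ.character g).im = 0 := by
    by_contra h
    push Not at h
    rw [(fs_indicator ρ).2.2 h] at hν
    exact zero_ne_one hν
  obtain ⟨⟨M, hMne, hM⟩, hform⟩ := invariant_forms ρ (irr_classInner_self hirr) hreal
  have hMsym : Mᵀ = M := by rw [hform M hM, hν, one_smul]
  let A : G → Matrix (Fin n) (Fin n) ℂ := fun g => LinearMap.toMatrix' (ρ g)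
  have hA1 : A 1 = 1 := by simp [A, Module.End.one_eq_id]
  have hAmul : ∀ g h, A (g * h) = A g * A h := fun g h => by
    simp [A, map_mul, LinearMap.toMatrix'_mul]
  have hAv : ∀ g v, A g *ᵥ v = ρ g v := fun g v => LinearMap.toMatrix'_mulVec _ _
  -- the form is nondegenerate
  have hker : ∀ v, M *ᵥ v = 0 → v = 0 := by
    let S : Subrepresentation ρ := ⟨LinearMap.ker (Matrix.toLin' M), fun g v hv => by
      rw [LinearMap.mem_ker, Matrix.toLin'_apply] at hv ⊢
      have h1 : (A g⁻¹)ᵀ *ᵥ (((A g)ᵀ * M * A g) *ᵥ v) = 0 := by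
        rw [hM g, hv, Matrix.mulVec_zero]
      rw [Matrix.mulVec_mulVec, ← Matrix.mul_assoc, ← Matrix.mul_assoc, ← Matrix.transpose_mul,
        ← hAmul, mul_inv_cancel, hA1, Matrix.transpose_one, Matrix.one_mul,
        ← Matrix.mulVec_mulVec, hAv] at h1
      exact h1⟩
    rcases IsSimpleOrder.eq_bot_or_eq_top S with hS | hS
    · intro v hv
      have : v ∈ S.toSubmodule := by
        rw [LinearMap.mem_ker, Matrix.toLin'_apply]; exact hv
      rw [hS] at this
      exact (Submodule.mem_bot ℂ).1 this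
    · refine absurd ?_ hMne
      refine Matrix.toLin'.injective ?_
      rw [map_zero]
      exact LinearMap.ker_eq_top.1 (congrArg Subrepresentation.toSubmodule hS)
  -- the positive invariant Hermitian form
  set H : Matrix (Fin n) (Fin n) ℂ := ∑ h : G, (A h)ᴴ * A h
  have hH : ∀ g, (A g)ᴴ * H * A g = H := fun g => by
    simp only [H, Finset.mul_sum, Finset.sum_mul]
    refine Fintype.sum_equiv (Equiv.mulRight g) _ _ fun h => ?_
    simp [hAmul, Matrix.conjTranspose_mul, Matrix.mul_assoc]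
  have hHpos : H.PosDef := by
    rw [show H = (A 1)ᴴ * A 1 + ∑ h ∈ Finset.univ.erase 1, (A h)ᴴ * A h from
      (Finset.add_sum_erase _ _ (Finset.mem_univ 1)).symm, hA1, Matrix.conjTranspose_one,
      Matrix.one_mul]
    exact Matrix.PosDef.one.add_posSemidef
      (Matrix.posSemidef_sum _ fun h _ => Matrix.posSemidef_conjTranspose_mul_self _)
  have hHu : IsUnit H := hHpos.isUnit
  have hHd : IsUnit H.det := (Matrix.isUnit_iff_isUnit_det H).1 hHu
  have hHinj : ∀ v w, H *ᵥ v = H *ᵥ w → v = w := fun v w h =>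
    Matrix.mulVec_injective_of_isUnit hHu h
  -- the conjugate-linear map
  let J : (Fin n → ℂ) → (Fin n → ℂ) := fun v => H⁻¹ *ᵥ star (M *ᵥ v)
  have hHJ : ∀ v, H *ᵥ J v = star (M *ᵥ v) := fun v => by
    simp only [J, Matrix.mulVec_mulVec, Matrix.mul_nonsing_inv H hHd, Matrix.one_mulVec]
  have hJcomm : ∀ g v, J (ρ g v) = ρ g (J v) := fun g v => by
    refine hHinj _ _ ?_
    rw [hHJ, ← hAv, ← hAv]
    have e1 : M * A g = (A g⁻¹)ᵀ * M := by
      calc M * A g = ((A g⁻¹)ᵀ * (A g)ᵀ) * (M * A g) := by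
            rw [← Matrix.transpose_mul, ← hAmul, mul_inv_cancel, hA1, Matrix.transpose_one,
              Matrix.one_mul]
        _ = (A g⁻¹)ᵀ * ((A g)ᵀ * M * A g) := by simp [Matrix.mul_assoc]
        _ = _ := by rw [hM g]
    have e2 : H * A g = (A g⁻¹)ᴴ * H := by
      calc H * A g = ((A g⁻¹)ᴴ * (A g)ᴴ) * (H * A g) := by
            rw [← Matrix.conjTranspose_mul, ← hAmul, mul_inv_cancel, hA1, Matrix.conjTranspose_one,
              Matrix.one_mul]
        _ = (A g⁻¹)ᴴ * ((A g)ᴴ * H * A g) := by simp [Matrix.mul_assoc]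
        _ = _ := by rw [hH g]
    rw [Matrix.mulVec_mulVec, e1, Matrix.mulVec_mulVec, e2, ← Matrix.mulVec_mulVec,
      ← Matrix.mulVec_mulVec, hHJ, Matrix.star_mulVec, ← Matrix.mulVec_transpose]
    congr 1
  have hJadd : ∀ v w, J (v + w) = J v + J w := fun v w => by
    simp [J, Matrix.mulVec_add, star_add]
  have hJsmul : ∀ (a : ℂ) v, J (a • v) = conj a • J v := fun a v => by
    simp [J, Matrix.mulVec_smul, star_smul]
  let J2 : Representation.IntertwiningMap ρ ρ :=
    ⟨{ toFun := fun v => J (J v)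
       map_add' := fun v w => by rw [hJadd, hJadd]
       map_smul' := fun a v => by rw [hJsmul, hJsmul, RingHom.id_apply, Complex.conj_conj] },
      fun g => LinearMap.ext fun v => show J (J (ρ g v)) = ρ g (J (J v)) by rw [hJcomm, hJcomm]⟩
  obtain ⟨c, hc⟩ :=
    (Representation.IsIrreducible.algebraMap_intertwiningMap_bijective_of_isAlgClosed
      (ρ := ρ) (k := ℂ)).2 J2
  have hJJ : ∀ v, J (J v) = c • v := fun v => by
    have h := congrArg (fun f : Representation.IntertwiningMap ρ ρ => f.toLinearMap v) hc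
    simp only [J2] at h
    simp [Algebra.algebraMap_eq_smul_one] at h
    exact h.symm
  -- the scalar is a positive real
  obtain ⟨v₀, hv₀⟩ : ∃ v : Fin n → ℂ, v ≠ 0 := by
    have := nontrivial_of_isIrreducible ρ
    exact exists_ne 0
  set a₁ := star v₀ ⬝ᵥ (H *ᵥ v₀)
  set a₂ := star (J v₀) ⬝ᵥ (H *ᵥ J v₀)
  have hJne : J v₀ ≠ 0 := fun h => hv₀ (hker v₀ (by
    have h1 := hHJ v₀
    rw [h, Matrix.mulVec_zero] at h1
    exact star_eq_zero.1 h1.symm))
  have ha₁ : 0 < a₁ := hHpos.dotProduct_mulVec_pos hv₀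
  have ha₂ : 0 < a₂ := hHpos.dotProduct_mulVec_pos hJne
  have hca : a₂ = c * a₁ := by
    have h1 : a₂ = star (v₀ ⬝ᵥ (M *ᵥ J v₀)) := by
      simp only [a₂, hHJ]
      rw [Matrix.star_dotProduct_star]
      congr 1
      conv_rhs => rw [Matrix.dotProduct_mulVec, ← Matrix.mulVec_transpose, hMsym]
    have h2 : c * a₁ = star v₀ ⬝ᵥ (H *ᵥ J (J v₀)) := by
      rw [hJJ, Matrix.mulVec_smul, dotProduct_smul, smul_eq_mul]
    rw [h2, hHJ, h1, Matrix.star_dotProduct_star, dotProduct_comm]
  obtain ⟨hre1, him1⟩ := Complex.pos_iff.1 ha₁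
  obtain ⟨hre2, him2⟩ := Complex.pos_iff.1 ha₂
  set r : ℝ := a₂.re / a₁.re
  have hr : 0 < r := div_pos hre2 hre1
  have hcr : c = (r : ℂ) := by
    have e1 : a₁ = (a₁.re : ℂ) := Complex.ext rfl (by simp [← him1])
    have e2 : a₂ = (a₂.re : ℂ) := Complex.ext rfl (by simp [← him2])
    have hne : (a₁.re : ℂ) ≠ 0 := Complex.ofReal_ne_zero.2 hre1.ne'
    rw [Complex.ofReal_div, eq_div_iff hne]
    rw [e1, e2] at hca
    exact hca.symm
  -- the real form
  set d : ℝ := (Real.sqrt r)⁻¹
  let S : (Fin n → ℂ) → (Fin n → ℂ) := fun v => (d : ℂ) • J v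
  have hSS : ∀ v, S (S v) = v := fun v => by
    simp only [S, hJsmul, Complex.conj_ofReal, smul_smul, hJJ, hcr]
    have : d * d * r = 1 := by
      rw [← mul_inv, Real.mul_self_sqrt hr.le, inv_mul_cancel₀ hr.ne']
    rw [← mul_assoc, ← Complex.ofReal_mul, ← Complex.ofReal_mul, this, Complex.ofReal_one, one_smul]
  let V : Submodule ℝ (Fin n → ℂ) :=
    { carrier := {v | S v = v}
      zero_mem' := by simp [S, J]
      add_mem' := fun {v w} (hv : S v = v) (hw : S w = w) => show S (v + w) = v + w by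
        conv_rhs => rw [← hv, ← hw]
        simp [S, hJadd, smul_add]
      smul_mem' := fun a v (hv : S v = v) => show S (a • v) = a • v by
        conv_rhs => rw [← hv]
        rw [← Complex.coe_smul a v, ← Complex.coe_smul a (S v)]
        simp only [S, hJsmul, Complex.conj_ofReal, smul_smul, mul_comm] }
  have hVg : ∀ g, ∀ v ∈ V, ρ g v ∈ V := fun g v (hv : S v = v) => show S (ρ g v) = ρ g v by
    conv_rhs => rw [← hv]
    simp only [S, hJcomm, map_smul]
  have := FiniteDimensional.finiteDimensional_submodule V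
  set m := Module.finrank ℝ V
  let b : Module.Basis (Fin m) ℝ V := Module.finBasis ℝ V
  let bc : Fin m → (Fin n → ℂ) := fun i => (b i : Fin n → ℂ)
  have hSb : ∀ i, S (bc i) = bc i := fun i => (b i).2
  have hSsum : ∀ a : Fin m → ℂ, S (∑ i, a i • bc i) = ∑ i, conj (a i) • bc i := fun a => by
    have hSadd : ∀ v w, S (v + w) = S v + S w := fun v w => by simp [S, hJadd, smul_add]
    let Sh : (Fin n → ℂ) →+ (Fin n → ℂ) := AddMonoidHom.mk' S hSadd
    show Sh (∑ i, a i • bc i) = _
    rw [map_sum]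
    refine Finset.sum_congr rfl fun i _ => ?_
    show S (a i • bc i) = _
    conv_rhs => rw [← hSb i]
    simp only [S, hJsmul, smul_smul, mul_comm]
  have hreal_comb : ∀ a : Fin m → ℝ, (∑ i, (a i : ℂ) • bc i) = ((∑ i, a i • b i : V) : Fin n → ℂ) :=
    fun a => by simp [bc, Complex.coe_smul]
  have hli : LinearIndependent ℂ bc := by
    rw [Fintype.linearIndependent_iff]
    intro a ha i
    have ha' := congrArg S ha
    rw [hSsum, show S 0 = 0 from (V.zero_mem : S 0 = 0)] at ha'
    have hre : ∑ i, ((a i).re : ℂ) • bc i = 0 := by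
      have : ∑ i, ((a i).re : ℂ) • bc i = (2⁻¹ : ℂ) • ((∑ i, a i • bc i) + ∑ i, conj (a i) • bc i) := by
        rw [← Finset.sum_add_distrib, Finset.smul_sum]
        refine Finset.sum_congr rfl fun i _ => ?_
        rw [← add_smul, smul_smul, Complex.add_conj, Complex.ofReal_mul, Complex.ofReal_ofNat,
          inv_mul_cancel_left₀ two_ne_zero]
      rw [this, ha, ha', add_zero, smul_zero]
    have him : ∑ i, ((a i).im : ℂ) • bc i = 0 := by
      have : ∑ i, ((a i).im : ℂ) • bc i =
          (2 * Complex.I)⁻¹ • ((∑ i, a i • bc i) - ∑ i, conj (a i) • bc i) := by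
        rw [← Finset.sum_sub_distrib, Finset.smul_sum]
        refine Finset.sum_congr rfl fun i _ => ?_
        rw [← sub_smul, smul_smul, Complex.sub_conj]
        congr 1
        rw [eq_inv_mul_iff_mul_eq₀ (mul_ne_zero two_ne_zero Complex.I_ne_zero)]
        push_cast; ring
      rw [this, ha, ha', sub_zero, smul_zero]
    rw [hreal_comb, ZeroMemClass.coe_eq_zero] at hre him
    exact Complex.ext (Fintype.linearIndependent_iff.1 b.linearIndependent _ hre i)
      (Fintype.linearIndependent_iff.1 b.linearIndependent _ him i)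
  have hspan : ⊤ ≤ Submodule.span ℂ (Set.range bc) := fun v _ => by
    have hmem : ∀ w ∈ V, w ∈ Submodule.span ℂ (Set.range bc) := fun w hw => by
      have h1 : ((∑ i, b.repr ⟨w, hw⟩ i • b i : V) : Fin n → ℂ) = w :=
        congrArg Subtype.val (b.sum_repr ⟨w, hw⟩)
      rw [← hreal_comb] at h1
      rw [← h1]
      exact Submodule.sum_mem _ fun i _ => Submodule.smul_mem _ _ (Submodule.subset_span ⟨i, rfl⟩)
    have hSadd : ∀ v w, S (v + w) = S v + S w := fun v w => by simp [S, hJadd, smul_add]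
    have hSs : ∀ (a : ℂ) v, S (a • v) = conj a • S v := fun a v => by
      simp only [S, hJsmul, smul_smul, mul_comm]
    have h1 : v + S v ∈ V := show S (v + S v) = v + S v by rw [hSadd, hSS, add_comm]
    have h2 : Complex.I • v + S (Complex.I • v) ∈ V := show S (_ + S _) = _ by rw [hSadd, hSS, add_comm]
    have e : v = (2⁻¹ : ℂ) • ((v + S v) + (-Complex.I) • (Complex.I • v + S (Complex.I • v))) := by
      rw [hSs, Complex.conj_I]
      generalize S v = w
      match_scalars <;> ring_nf <;> simp [Complex.I_sq] <;> ring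
    rw [e]
    exact Submodule.smul_mem _ _ (Submodule.add_mem _ (hmem _ h1) (Submodule.smul_mem _ _ (hmem _ h2)))
  let B : Module.Basis (Fin m) ℂ (Fin n → ℂ) := Module.Basis.mk hli hspan
  let ρV : G → (V →ₗ[ℝ] V) := fun g => ((ρ g).restrictScalars ℝ).restrict (hVg g)
  let e : V ≃ₗ[ℝ] (Fin m → ℝ) := b.equivFun
  let R : Representation ℝ G (Fin m → ℝ) :=
    { toFun := fun g => e.conj (ρV g)
      map_one' := by
        refine LinearMap.ext fun x => ?_
        show e (ρV 1 (e.symm x)) = x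
        rw [show ρV 1 (e.symm x) = e.symm x from Subtype.ext (by simp [ρV])]
        exact e.apply_symm_apply x
      map_mul' := fun g h => by
        refine LinearMap.ext fun x => ?_
        show e (ρV (g * h) (e.symm x)) = e (ρV g (e.symm (e (ρV h (e.symm x)))))
        rw [e.symm_apply_apply]
        congr 1
        exact Subtype.ext (show ρ (g * h) (e.symm x : Fin n → ℂ) = ρ g (ρ h (e.symm x : Fin n → ℂ)) by
          rw [map_mul]; rfl) }
  refine ⟨m, R, fun g => ?_⟩
  show ((LinearMap.trace ℝ _ (e.conj (ρV g)) : ℝ) : ℂ) = LinearMap.trace ℂ _ (ρ g)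
  rw [LinearMap.trace_conj', LinearMap.trace_eq_matrix_trace ℝ b,
    LinearMap.trace_eq_matrix_trace ℂ B]
  simp only [Matrix.trace, Matrix.diag_apply, Complex.ofReal_sum, LinearMap.toMatrix_apply]
  refine Finset.sum_congr rfl fun i _ => ?_
  have h1 := congrArg Subtype.val (b.sum_repr (ρV g (b i)))
  rw [← hreal_comb] at h1
  have h2 : ρ g (B i) = ∑ j, ((b.repr (ρV g (b i)) j : ℝ) : ℂ) • B j := by
    simp only [B, Module.Basis.mk_apply]
    exact h1.symm
  rw [h2, B.repr_sum_self]

end CfsgLib.BlockA
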