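import Cfsg.Agent.Lib.BlockA.SylowSquares
import Cfsg.Agent.Lib.Geom.OmegaIndex
import Cfsg.Agent.Lib.Geom.FiniteField

/-! Subgroups of orthogonal groups generated by reflections, intersected with `Ω`. -/

set_option autoImplicit false
set_option linter.unusedSectionVars false

namespace CfsgLib.BlockA.ReflOmega

open CfsgLib.Geom CfsgLib.BlockA.SqComm CfsgLib.BlockA.SylowSquares
open QuadraticMap (polar)

variable {F : Type*} [Field F] {ι : Type} [Fintype ι] [DecidableEq ι]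

/-- A reflection as an element of the matrix group. -/
noncomputable def refl (Q : QuadraticForm F (ι → F)) (v : ι → F) (hv : Q v ≠ 0) :
    Cfsg.isometryGroup F (⇑Q) :=
  orEquiv Q ⟨reflEquiv Q v hv, reflEquiv_mem Q v hv⟩

theorem refl_mulVec (Q : QuadraticForm F (ι → F)) (v : ι → F) (hv : Q v ≠ 0) (z : ι → F) :
    ((refl Q v hv : Matrix.GeneralLinearGroup ι F) : Matrix ι ι F).mulVec z =
      z - ((Q v)⁻¹ * polar Q v z) • v := by
  rw [← reflEquiv_apply Q v hv]
  exact orEquiv_mulVec Q _ z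

theorem refl_mul_self (Q : QuadraticForm F (ι → F)) (v : ι → F) (hv : Q v ≠ 0) :
    refl Q v hv * refl Q v hv = 1 := by
  rw [refl, ← map_mul, ← map_one (orEquiv Q)]
  exact congrArg _ (Subtype.ext (reflEquiv_mul_self Q v hv))

theorem refl_inv (Q : QuadraticForm F (ι → F)) (v : ι → F) (hv : Q v ≠ 0) :
    (refl Q v hv)⁻¹ = refl Q v hv := inv_eq_of_mul_eq_one_right (refl_mul_self Q v hv)

theorem map_eq_val (Q : QuadraticForm F (ι → F)) (g : Cfsg.isometryGroup F (⇑Q)) (v : ι → F) :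
    Q (((g : Matrix.GeneralLinearGroup ι F) : Matrix ι ι F).mulVec v) = Q v :=
  (mem_isometryGroup_iff _ _).1 g.2 v

theorem refl_congr (Q : QuadraticForm F (ι → F)) {v w : ι → F} (h : v = w) (hv : Q v ≠ 0)
    (hw : Q w ≠ 0) : refl Q v hv = refl Q w hw := by subst h; rfl

theorem refl_conj (Q : QuadraticForm F (ι → F)) (g : Cfsg.isometryGroup F (⇑Q)) (v : ι → F)
    (hv : Q v ≠ 0) :
    g * refl Q v hv * g⁻¹ = refl Q (((g : Matrix.GeneralLinearGroup ι F) : Matrix ι ι F).mulVec v)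
      (by rw [map_eq_val]; exact hv) := by
  obtain ⟨k, rfl⟩ := (orEquiv Q).surjective g
  rw [refl, ← map_inv, ← map_mul, ← map_mul]
  refine Subtype.ext (Units.ext (Matrix.ext_iff_mulVec.2 fun z => ?_))
  rw [orEquiv_mulVec, refl_mulVec]
  show (k.1 * reflEquiv Q v hv * k.1⁻¹) z = _
  rw [conj_reflEquiv Q k.2 v hv, reflEquiv_apply]
  rw [orEquiv_mulVec]

theorem refl_commute (Q : QuadraticForm F (ι → F)) {u v : ι → F} (hu : Q u ≠ 0) (hv : Q v ≠ 0)
    (h : polar Q u v = 0) : refl Q u hu * refl Q v hv = refl Q v hv * refl Q u hu := by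
  have h1 := refl_conj Q (refl Q u hu) v hv
  have e : ((refl Q u hu : Matrix.GeneralLinearGroup ι F) : Matrix ι ι F).mulVec v = v := by
    rw [refl_mulVec, h, mul_zero, zero_smul, sub_zero]
  rw [refl_congr Q e _ hv] at h1
  calc refl Q u hu * refl Q v hv
      = refl Q u hu * refl Q v hv * (refl Q u hu)⁻¹ * refl Q u hu := (inv_mul_cancel_right _ _).symm
    _ = refl Q v hv * refl Q u hu := by rw [h1]

variable [Finite F]

theorem exGen (h2 : (2 : F) ≠ 0) :
    (∃ t : F, t ≠ 0 ∧ t ≠ 1) ∨ Module.finrank F (ι → F) ≠ 4 := exGen_of_odd h2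

/-- The invariant of a reflection. -/
theorem spinor_refl (Q : QuadraticForm F (ι → F)) (hQ : ∀ x, (∀ y, polar Q x y = 0) → x = 0)
    (h2 : (2 : F) ≠ 0) (v : ι → F) (hv : Q v ≠ 0) :
    spinorHom Q hQ (exGen h2) (refl Q v hv) = (Multiplicative.ofAdd 1, sqClass hv) :=
  spinorHom_refl Q hQ _ _ hv (glOfEquiv_reflEquiv Q v hv)

/-- A group generated by reflections and involutions of `Ω` meets `Ω` in a group whose squares
are commutators. -/
theorem omega_sq_of_refl (Q : QuadraticForm F (ι → F)) (hQ : ∀ x, (∀ y, polar Q x y = 0) → x = 0)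
    (h2 : (2 : F) ≠ 0) (hn : 2 ≤ Fintype.card ι)
    (W : Subgroup (Cfsg.isometryGroup F (⇑Q))) (X : Set (ι → F))
    (hX0 : ∀ v ∈ X, Q v ≠ 0) (hXW : ∀ (v : ι → F) (hv : v ∈ X), refl Q v (hX0 v hv) ∈ W)
    (hXinv : ∀ g ∈ W, ∀ v ∈ X, ((g : Matrix.GeneralLinearGroup ι F) : Matrix ι ι F).mulVec v ∈ X)
    (Y : Set (Cfsg.isometryGroup F (⇑Q))) (hYW : Y ⊆ W) (hYΩ : Y ⊆ Cfsg.Omega F (⇑Q))
    (hY2 : ∀ y ∈ Y, y * y = 1)
    (hgen : W ≤ Subgroup.closure ({g | ∃ (v : ι → F) (hv : v ∈ X), refl Q v (hX0 v hv) = g} ∪ Y))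
    (hcomp : ∀ (u v : ι → F) (hu : u ∈ X) (hv : v ∈ X), sqClass (hX0 u hu) = sqClass (hX0 v hv) →
      polar Q u v = 0 ∨ ∃ (w : ι → F) (hw : w ∈ X),
        sqClass (hX0 w hw) = sqClass (hX0 u hu) ∧ polar Q u w = 0 ∧ polar Q w v = 0)
    {a b : ι → F} (ha : a ∈ X) (hb : b ∈ X) (hab : sqClass (hX0 a ha) ≠ sqClass (hX0 b hb))
    (hcard : Nat.card W = 2 ^ (Nat.card (Cfsg.isometryGroup F (⇑Q))).factorization 2) :
    ∃ S : Subgroup (Cfsg.Omega F (⇑Q)),
      Nat.card S = 2 ^ (Nat.card (Cfsg.Omega F (⇑Q))).factorization 2 ∧ SqComm S := by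
  classical
  set ψ := spinorHom Q hQ (exGen h2) with hψ
  have hΩ : Cfsg.Omega F (⇑Q) = ψ.ker := omega_eq_ker_spinorHom Q hQ _
  have hr : ∀ (v : ι → F) (hv : v ∈ X), ψ (refl Q v (hX0 v hv)) =
      (Multiplicative.ofAdd 1, sqClass (hX0 v hv)) := fun v hv => spinor_refl Q hQ h2 v _
  -- involutions of `W ⊓ Ω`
  set T : Set (Cfsg.isometryGroup F (⇑Q)) :=
    {g | g ∈ W ∧ g ∈ Cfsg.Omega F (⇑Q) ∧ g * g = 1} with hT
  set K := Subgroup.closure T with hK
  have hTconj : ∀ g ∈ W, ∀ t ∈ T, g * t * g⁻¹ ∈ T := fun g hg t ht =>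
    ⟨W.mul_mem (W.mul_mem hg ht.1) (W.inv_mem hg), by
      rw [hΩ, MonoidHom.mem_ker, map_mul, map_mul, map_inv,
        MonoidHom.mem_ker.1 (hΩ.le ht.2.1), mul_one, mul_inv_cancel], by
      rw [show g * t * g⁻¹ * (g * t * g⁻¹) = g * (t * t) * g⁻¹ by group, ht.2.2, mul_one,
        mul_inv_cancel]⟩
  have hKconj : ∀ g ∈ W, ∀ k ∈ K, g * k * g⁻¹ ∈ K := by
    intro g hg k hk
    have hle : K ≤ K.comap (MulAut.conj g).toMonoidHom := (Subgroup.closure_le _).2 fun t ht =>
      Subgroup.subset_closure (hTconj g hg t ht)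
    exact hle hk
  have horth : ∀ (u v : ι → F) (hu : u ∈ X) (hv : v ∈ X),
      sqClass (hX0 u hu) = sqClass (hX0 v hv) → polar Q u v = 0 →
      refl Q u (hX0 u hu) * refl Q v (hX0 v hv) ∈ T := by
    intro u v hu hv hc hp
    refine ⟨W.mul_mem (hXW u hu) (hXW v hv), ?_, ?_⟩
    · rw [hΩ, MonoidHom.mem_ker, map_mul, hr u hu, hr v hv, hc, Prod.mk_mul_mk, sqClass_mul_self]
      rfl
    · have e : ∀ x y : Cfsg.isometryGroup F (⇑Q), x * y * (y * x) = x * (y * y) * x :=
        fun x y => by simp only [mul_assoc]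
      nth_rewrite 2 [refl_commute Q _ _ hp]
      rw [e, refl_mul_self, mul_one, refl_mul_self]
  have hpair : ∀ (u v : ι → F) (hu : u ∈ X) (hv : v ∈ X),
      sqClass (hX0 u hu) = sqClass (hX0 v hv) →
      refl Q u (hX0 u hu) * refl Q v (hX0 v hv) ∈ K := by
    intro u v hu hv hc
    rcases hcomp u v hu hv hc with hp | ⟨w, hw, hwc, hp1, hp2⟩
    · exact Subgroup.subset_closure (horth u v hu hv hc hp)
    · have h1 : refl Q u (hX0 u hu) * refl Q w (hX0 w hw) ∈ K :=
        Subgroup.subset_closure (horth u w hu hw hwc.symm hp1)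
      have h2' : refl Q w (hX0 w hw) * refl Q v (hX0 v hv) ∈ K :=
        Subgroup.subset_closure (horth w v hw hv (hwc.trans hc) hp2)
      have h3 := K.mul_mem h1 h2'
      rwa [mul_assoc, ← mul_assoc (refl Q w (hX0 w hw)), refl_mul_self, one_mul] at h3
  set A := refl Q a (hX0 a ha) with hA
  set B := refl Q b (hX0 b hb) with hB
  -- the four cosets
  have hclass : ∀ (u : ι → F) (hu : u ∈ X), refl Q u (hX0 u hu) * A ∈ K ∨
      refl Q u (hX0 u hu) * B ∈ K := by
    intro u hu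
    by_cases h : sqClass (hX0 u hu) = sqClass (hX0 a ha)
    · exact Or.inl (hpair u a hu ha h)
    · refine Or.inr (hpair u b hu hb ?_)
      by_cases ha1 : sqClass (hX0 a ha) = 1
      · exact sqClass_two _ _ (fun e => h (e.trans ha1.symm)) (fun e => hab (ha1.trans e.symm))
      · have hu1 : sqClass (hX0 u hu) = 1 := by
          by_contra hc
          exact h (sqClass_two _ _ hc ha1)
        have hb1 : sqClass (hX0 b hb) = 1 := by
          by_contra hc
          exact hab (sqClass_two _ _ ha1 hc)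
        exact hu1.trans hb1.symm
  have hBA : B * A * (A * B)⁻¹ ∈ K := by
    rw [mul_inv_rev, refl_inv, refl_inv, show B * A * (B * A) = B * A * B * A by
      simp only [mul_assoc]]
    have hc := refl_conj Q B a (hX0 a ha)
    rw [show B⁻¹ = B from refl_inv Q b _] at hc
    rw [hc]
    exact hpair _ a (hXinv B (hXW b hb) a ha) ha (by congr 1; exact map_eq_val Q B a)
  have key : ∀ c, (c = A ∨ c = B) → ∀ e, (e = 1 ∨ e = A ∨ e = B ∨ e = A * B) →
      ∃ e', (e' = 1 ∨ e' = A ∨ e' = B ∨ e' = A * B) ∧ c * e * e'⁻¹ ∈ K := by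
    have hAA : A * A = 1 := refl_mul_self Q a _
    have hBB : B * B = 1 := refl_mul_self Q b _
    rintro c (rfl | rfl) e (rfl | rfl | rfl | rfl)
    · exact ⟨A, by simp, by simp⟩
    · exact ⟨1, by simp, by simp [hAA]⟩
    · exact ⟨A * B, by simp, by simp⟩
    · exact ⟨B, by simp, by simp [← mul_assoc, hAA]⟩
    · exact ⟨B, by simp, by simp⟩
    · exact ⟨A * B, by simp, hBA⟩
    · exact ⟨1, by simp, by simp [hBB]⟩
    · refine ⟨A, by simp, ?_⟩
      have := hBA
      rw [mul_inv_rev] at this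
      rw [show B⁻¹ = B from refl_inv Q b _] at this
      rw [← mul_assoc] at this ⊢
      exact this
  have main : ∀ (u : ι → F) (hu : u ∈ X) (g e : Cfsg.isometryGroup F (⇑Q)),
      (e = 1 ∨ e = A ∨ e = B ∨ e = A * B) → g * e⁻¹ ∈ K →
      ∃ e', (e' = 1 ∨ e' = A ∨ e' = B ∨ e' = A * B) ∧ refl Q u (hX0 u hu) * g * e'⁻¹ ∈ K := by
    intro u hu g e he hge
    obtain ⟨c, hc, hxc⟩ : ∃ c, (c = A ∨ c = B) ∧ refl Q u (hX0 u hu) * c ∈ K := by
      rcases hclass u hu with hx' | hx'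
      · exact ⟨A, Or.inl rfl, hx'⟩
      · exact ⟨B, Or.inr rfl, hx'⟩
    obtain ⟨e', he', hce⟩ := key c hc e he
    refine ⟨e', he', ?_⟩
    have hcc : c * c = 1 := by
      rcases hc with rfl | rfl <;> exact refl_mul_self Q _ _
    have h1 := K.mul_mem (K.mul_mem (hKconj _ (hXW u hu) _ hge) hxc) hce
    have e1 : refl Q u (hX0 u hu) * (g * e⁻¹) * (refl Q u (hX0 u hu))⁻¹ *
        (refl Q u (hX0 u hu) * c) * (c * e * e'⁻¹) =
        refl Q u (hX0 u hu) * g * e⁻¹ * (c * c) * e * e'⁻¹ := by group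
    rw [e1, hcc, mul_one, inv_mul_cancel_right] at h1
    exact h1
  have hcoset : ∀ g ∈ W, ∃ e, (e = 1 ∨ e = A ∨ e = B ∨ e = A * B) ∧ g * e⁻¹ ∈ K := by
    intro g hg
    replace hg := hgen hg
    induction hg using Subgroup.closure_induction_left with
    | one => exact ⟨1, Or.inl rfl, by simp⟩
    | mul_left x hx g _ ih =>
      obtain ⟨e, he, hge⟩ := ih
      rcases hx with ⟨u, hu, rfl⟩ | hy
      · exact main u hu g e he hge
      · refine ⟨e, he, ?_⟩
        rw [mul_assoc]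
        exact K.mul_mem (Subgroup.subset_closure ⟨hYW hy, hYΩ hy, hY2 x hy⟩) hge
    | inv_mul_cancel x hx g _ ih =>
      have hxi : x⁻¹ = x := by
        rcases hx with ⟨u, hu, rfl⟩ | hy
        · exact refl_inv Q u _
        · exact inv_eq_of_mul_eq_one_right (hY2 x hy)
      rw [hxi]
      obtain ⟨e, he, hge⟩ := ih
      rcases hx with ⟨u, hu, rfl⟩ | hy
      · exact main u hu g e he hge
      · refine ⟨e, he, ?_⟩
        rw [mul_assoc]
        exact K.mul_mem (Subgroup.subset_closure ⟨hYW hy, hYΩ hy, hY2 x hy⟩) hge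
  have hKker : K ≤ ψ.ker := (Subgroup.closure_le _).2 fun t ht => hΩ.le ht.2.1
  have h01 : (Multiplicative.ofAdd (1 : ZMod 2)) ≠ 1 := by decide
  have hWK : W ⊓ Cfsg.Omega F (⇑Q) ≤ K := by
    rintro g ⟨hg, hgΩ⟩
    obtain ⟨e, he, hge⟩ := hcoset g hg
    have h1 : ψ e = 1 := by
      have h3 := MonoidHom.mem_ker.1 (hKker hge)
      have hgΩ' : g ∈ ψ.ker := hΩ.le hgΩ
      rw [map_mul, MonoidHom.mem_ker.1 hgΩ', one_mul, map_inv, inv_eq_one] at h3
      exact h3
    rcases he with rfl | rfl | rfl | rfl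
    · simpa using hge
    · rw [hA, hr a ha] at h1; exact absurd (congrArg Prod.fst h1) h01
    · rw [hB, hr b hb] at h1; exact absurd (congrArg Prod.fst h1) h01
    · rw [map_mul, hA, hB, hr a ha, hr b hb] at h1
      refine absurd ?_ hab
      have h3 : sqClass (hX0 a ha) * sqClass (hX0 b hb) = 1 := congrArg Prod.snd h1
      rw [← one_mul (sqClass (hX0 b hb)), ← sqClass_mul_self (sqClass (hX0 a ha)), mul_assoc, h3,
        mul_one]
  have hS : SqComm (W ⊓ Cfsg.Omega F (⇑Q)) := by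
    refine of_closure (T := T) (fun t ht => ⟨ht.1, ht.2.1⟩) hWK fun t ht => ?_
    rw [pow_two, ht.2.2]
    exact one_mem _
  have hle : W ⊓ Cfsg.Omega F (⇑Q) ≤ (Cfsg.Omega F (⇑Q)).subtype.range := by
    rw [Subgroup.range_subtype]; exact inf_le_right
  refine ⟨(W ⊓ Cfsg.Omega F (⇑Q)).comap (Cfsg.Omega F (⇑Q)).subtype, ?_,
    sqComm_comap (Subgroup.subtype_injective _) hle hS⟩
  rw [card_comap (Subgroup.subtype_injective _) hle]
  -- the orders
  let f := ψ.comp W.subtype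
  have hfin : Finite (Multiplicative (ZMod 2) × SqClass F) := by
    haveI : Finite (SqClass F) := Finite.of_surjective _ (sqProj_surjective F)
    infer_instance
  have hsurj : Function.Surjective f := by
    intro z
    have hz : ∀ x : Multiplicative (ZMod 2), x = 1 ∨ x = Multiplicative.ofAdd 1 := by decide
    obtain ⟨z1, z2⟩ := z
    have hz2 : z2 = sqClass (hX0 a ha) ∨ z2 = sqClass (hX0 b hb) := by
      by_cases ha1 : sqClass (hX0 a ha) = 1
      · by_cases hz1 : z2 = 1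
        · exact Or.inl (hz1.trans ha1.symm)
        · exact Or.inr (sqClass_two _ _ hz1 (fun e => hab (ha1.trans e.symm)))
      · by_cases hz1 : z2 = 1
        · refine Or.inr (hz1.trans ?_)
          by_contra hc
          exact hab (sqClass_two _ _ ha1 (Ne.symm hc))
        · exact Or.inl (sqClass_two _ _ hz1 ha1)
    have hza : (⟨A, hXW a ha⟩ : W) ∈ (⊤ : Subgroup W) := trivial
    rcases hz z1 with rfl | rfl
    · rcases hz2 with rfl | rfl
      · by_cases ha1 : sqClass (hX0 a ha) = 1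
        · exact ⟨1, by rw [map_one, ha1]; rfl⟩
        · refine ⟨⟨A, hXW a ha⟩ * ⟨B, hXW b hb⟩, ?_⟩
          show ψ (A * B) = _
          rw [map_mul, hA, hB, hr a ha, hr b hb, Prod.mk_mul_mk]
          have hb1 : sqClass (hX0 b hb) = 1 := by
            by_contra hc
            exact hab (sqClass_two _ _ ha1 hc)
          rw [hb1, mul_one]
          rfl
      · by_cases hb1 : sqClass (hX0 b hb) = 1
        · exact ⟨1, by rw [map_one, hb1]; rfl⟩
        · refine ⟨⟨A, hXW a ha⟩ * ⟨B, hXW b hb⟩, ?_⟩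
          show ψ (A * B) = _
          rw [map_mul, hA, hB, hr a ha, hr b hb, Prod.mk_mul_mk]
          have ha1 : sqClass (hX0 a ha) = 1 := by
            by_contra hc
            exact hab (sqClass_two _ _ hc hb1)
          rw [ha1, one_mul]
          rfl
    · rcases hz2 with rfl | rfl
      · exact ⟨⟨A, hXW a ha⟩, hr a ha⟩
      · exact ⟨⟨B, hXW b hb⟩, hr b hb⟩
  have hfour : (f.ker).index = 4 := by
    rw [Subgroup.index_ker, MonoidHom.range_eq_top.2 hsurj, Subgroup.card_top, Nat.card_prod,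
      card_sqClass_odd h2]
    simp
  have h1 := f.ker.index_mul_card
  have hk : Nat.card f.ker = Nat.card (W ⊓ Cfsg.Omega F (⇑Q) : Subgroup _) :=
    Nat.card_congr
      { toFun := fun x => ⟨(x.1 : Cfsg.isometryGroup F (⇑Q)), x.1.2, hΩ.ge x.2⟩
        invFun := fun x => ⟨⟨(x : Cfsg.isometryGroup F (⇑Q)), x.2.1⟩, hΩ.le x.2.2⟩
        left_inv := fun x => rfl
        right_inv := fun x => rfl }
  rw [hfour, hk, hcard] at h1
  have h4 := Subgroup.card_mul_index (Cfsg.Omega F (⇑Q))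
  rw [omega_index_odd Q hQ h2 hn] at h4
  rw [← h4, Nat.factorization_mul Nat.card_pos.ne' (by norm_num), Finsupp.add_apply, pow_add,
    show (4 : ℕ) = 2 ^ 2 by norm_num, Nat.prime_two.factorization_pow, Finsupp.single_eq_same] at h1
  have e : ∀ n, 2 ^ n * 2 ^ 2 = 2 ^ 2 * 2 ^ n := fun n => mul_comm _ _
  rw [e] at h1
  exact Nat.eq_of_mul_eq_mul_left (by norm_num) h1

end CfsgLib.BlockA.ReflOmega
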