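import Cfsg.Agent.Lib.BlockA.RegMatrix
import Cfsg.Agent.Lib.Block.Induced

/-! Pairings over the regular elements of a subgroup, read through induced central characters. -/

set_option autoImplicit false
set_option linter.unusedSectionVars false

namespace CfsgLib.BlockA

open Cfsg CfsgLib.Block
open scoped ComplexConjugate

variable {G : Type*} [Group G] [Fintype G]

theorem regPair_subgroup_div_eq_sum (p : ℕ) (H : Subgroup G) [Fintype H]
    [Fintype (ConjClasses G)] {φ : G → ℂ} (hφ : IsClassFunction G φ) (ψ : H → ℂ) :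
    regPair p (fun h : H => φ h) ψ / ψ 1 = ∑ C : ConjClasses G,
      regInd p (Quotient.out C) * φ (Quotient.out C) *
        inducedCentralChar H ψ (Quotient.out C)⁻¹ := by
  classical
  rw [regPair, Finset.sum_div,
    ← Finset.sum_fiberwise Finset.univ (fun h : H => ConjClasses.mk (h : G))]
  refine Finset.sum_congr rfl fun C _ => ?_
  rw [inducedCentralChar, finsum_mem_eq_toFinset_sum _, Finset.mul_sum]
  have hmk : ∀ h : H, ConjClasses.mk (h : G) = C ↔ IsConj (Quotient.out C)⁻¹ ((h⁻¹ : H) : G) := by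
    intro h
    rw [Subgroup.coe_inv]
    constructor
    · intro hh
      have h1 : IsConj (Quotient.out C) (h : G) :=
        ConjClasses.mk_eq_mk_iff_isConj.1 ((Quotient.out_eq C).trans hh.symm)
      obtain ⟨c, hc⟩ := isConj_iff.1 h1
      exact isConj_iff.2 ⟨c, by rw [← hc]; group⟩
    · intro hh
      obtain ⟨c, hc⟩ := isConj_iff.1 hh
      have h1 : IsConj (Quotient.out C) (h : G) :=
        isConj_iff.2 ⟨c, by rw [← inv_inj, ← hc]; group⟩
      exact (ConjClasses.mk_eq_mk_iff_isConj.2 h1).symm.trans (Quotient.out_eq C)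
  refine Finset.sum_bij' (fun h _ => h⁻¹) (fun h _ => h⁻¹) ?_ ?_ (fun _ _ => inv_inv _)
    (fun _ _ => inv_inv _) ?_
  · intro h hh
    rw [Finset.mem_filter] at hh
    rw [Set.mem_toFinset]
    exact (hmk h).1 hh.2
  · intro h hh
    rw [Set.mem_toFinset] at hh
    rw [Finset.mem_filter]
    exact ⟨Finset.mem_univ _, (hmk _).2 (by rwa [inv_inv])⟩
  · intro h hh
    rw [Finset.mem_filter] at hh
    have h1 : IsConj (Quotient.out C) (h : G) :=
      ConjClasses.mk_eq_mk_iff_isConj.1 ((Quotient.out_eq C).trans hh.2.symm)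
    rw [show regInd p h = regInd p ((h : G)) by simp [regInd, Subgroup.orderOf_coe],
      CfsgLib.Char.isClassFunction_isConj (regInd_isClassFunction p) h1,
      CfsgLib.Char.isClassFunction_isConj hφ h1]
    ring

variable {p : ℕ} {M : Ideal AlgInt} [M.IsPrime]

theorem memLocalIdeal_regPair_subgroup_sub (hM : IsPModular p M) (H : Subgroup G) [Fintype H]
    {b : Set (IrrCharacter H)} {B₀ : Set (IrrCharacter G)} (hind : IsInducedBlock M H b B₀)
    {φ : G → ℂ} (hφ : IsClassFunction G φ) (hint : ∀ g, MemLocalRing M (φ g))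
    {ψ : IrrCharacter H} (hψ : ψ ∈ b) {ξ : IrrCharacter G} (hξ : ξ ∈ B₀) :
    MemLocalIdeal M (regPair p (fun h : H => φ h) (ψ : H → ℂ) / (ψ : H → ℂ) 1 -
      regPair p φ (ξ : G → ℂ) / (ξ : G → ℂ) 1) := by
  have := Finite.of_surjective _ (ConjClasses.mk_surjective (α := G))
  have := Fintype.ofFinite (ConjClasses G)
  rw [regPair_subgroup_div_eq_sum p H hφ, regPair_div_eq_sum p hφ, ← Finset.sum_sub_distrib]
  refine memLocalIdeal_sum _ _ fun C _ => ?_
  rw [← mul_sub]
  exact memLocalIdeal_mul_left (memLocalRing_mul (memLocalRing_regInd hM _) (hint _))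
    (hind.2.2 ψ hψ ξ hξ _)

end CfsgLib.BlockA
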