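import Cfsg.Agent.Lib.BlockA.DihedralRot
import Cfsg.Agent.Lib.Solvable.PCore
import Cfsg.Agent.Lib.Fusion.InvertingCandidates
import Cfsg.Agent.Lib.Transfer.Frobenius
import Mathlib.GroupTheory.Index

/-!
A group with a self-centralizing normal `2`-subgroup inside a Sylow `2`-subgroup that has a cyclic
maximal subgroup and only `2`-automorphisms has at most two classes of elements of odd order.
-/

set_option autoImplicit false
set_option linter.unusedSectionVars false

namespace CfsgLib.BlockA.RegularClassesTwo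

open Subgroup

universe u

variable {X : Type u} [Group X] [Finite X]

/-- A homomorphism to the permutations of at most three points without odd elements in its
kernel. -/
theorem exists_hom_three (S : Sylow 2 X) {x y : X} (hcov : ∀ w ∈ (S : Subgroup X),
      w ∈ zpowers x ∨ w * y⁻¹ ∈ zpowers x) (Q : Subgroup X) [Q.Normal] (hQS : Q ≤ (S : Subgroup X))
    (hC : centralizer (Q : Set X) ≤ Q) :
    ∃ (Ω : Type u) (_ : Finite Ω) (f : X →* Equiv.Perm Ω), Nat.card Ω ≤ 3 ∧
      ∀ a : X, Odd (orderOf a) → f a = 1 → a = 1 := by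
  classical
  have : Fact (Nat.Prime 2) := ⟨Nat.prime_two⟩
  have hQp : IsPGroup 2 Q := S.2.to_le hQS
  let α : X →* MulAut Q := MulAut.conjNormal
  -- odd elements acting trivially are trivial
  have hcent : ∀ a : X, Odd (orderOf a) → α a = 1 → a = 1 := by
    intro a ha h1
    have haC : a ∈ centralizer (Q : Set X) := mem_centralizer_iff.2 fun q hq => by
      have h2 : a * q * a⁻¹ = q := by
        simpa [α, MulAut.conjNormal_apply] using congrArg Subtype.val (DFunLike.congr_fun h1 (⟨q, hq⟩ : Q))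
      rw [mul_inv_eq_iff_eq_mul] at h2
      exact h2.symm
    obtain ⟨k, hk⟩ := IsPGroup.iff_orderOf.1 hQp ⟨a, hC haC⟩
    rw [Subgroup.orderOf_mk] at hk
    rw [← orderOf_eq_one_iff, hk]
    rcases k with _ | k
    · rfl
    · rw [hk, pow_succ'] at ha
      exact absurd ha (Nat.not_odd_iff_even.2 (even_two_mul _))
  have hα : ∀ a : X, Odd (orderOf a) → Odd (orderOf (α a)) := fun a ha =>
    Odd.of_dvd_nat ha (orderOf_map_dvd α a)
  by_cases hcyc : Q ≤ zpowers x
  · have : IsCyclic Q := isCyclic_of_injective (Subgroup.inclusion hcyc)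
      (Subgroup.inclusion_injective hcyc)
    refine ⟨PUnit, inferInstance, 1, by simp, fun a ha _ => hcent a ha ?_⟩
    obtain ⟨k, hk⟩ := IsPGroup.iff_orderOf.1
      (CfsgLib.Fusion.isPGroup_mulAut_of_cyclic hQp) (α a)
    have := hα a ha
    rw [← orderOf_eq_one_iff, hk]
    rcases k with _ | k
    · rfl
    · rw [hk, pow_succ'] at this
      exact absurd this (Nat.not_odd_iff_even.2 (even_two_mul _))
  · obtain ⟨b, hbQ, hbx⟩ := SetLike.not_le_iff_exists.1 hcyc
    have : IsCyclic ↥(Q ⊓ zpowers x) := isCyclic_of_injective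
      (Subgroup.inclusion (inf_le_right : Q ⊓ zpowers x ≤ zpowers x))
      (Subgroup.inclusion_injective _)
    obtain ⟨g₀, hg₀⟩ := IsCyclic.exists_generator (α := ↥(Q ⊓ zpowers x))
    let g : Q := ⟨g₀, g₀.2.1⟩
    let b' : Q := ⟨b, hbQ⟩
    have hgmem : ∀ w : Q, w ∈ zpowers g ↔ (w : X) ∈ zpowers x := by
      intro w
      constructor
      · rintro ⟨i, rfl⟩
        push_cast
        exact Subgroup.zpow_mem (zpowers x) g₀.2.2 i
      · intro hw
        obtain ⟨i, hi⟩ := hg₀ ⟨w, w.2, hw⟩
        refine ⟨i, Subtype.ext ?_⟩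
        have := congrArg Subtype.val hi
        push_cast at this ⊢
        exact this
    have hcov' : ∀ w : Q, w ∈ zpowers g ∨ w * b'⁻¹ ∈ zpowers g := by
      intro w
      rcases hcov w (hQS w.2) with h1 | h1
      · exact Or.inl ((hgmem w).2 h1)
      · have h2 := (hcov b (hQS hbQ)).resolve_left hbx
        refine Or.inr ((hgmem _).2 ?_)
        have h3 := mul_mem h1 (inv_mem h2)
        push_cast
        convert h3 using 1
        show (w : X) * b⁻¹ = _
        group
    have hb' : b' ∉ zpowers g := fun e => hbx ((hgmem b').1 e)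
    obtain ⟨m, hm⟩ := IsPGroup.iff_orderOf.1 hQp g
    let Ω := {N : Subgroup Q // N.index = 2}
    let act : MulAut Q → Ω → Ω := fun φ N =>
      ⟨N.1.map φ.toMonoidHom, (Subgroup.index_map_equiv N.1 φ).trans N.2⟩
    have hone : ∀ N, act 1 N = N := fun N => Subtype.ext (by
      show N.1.map (MonoidHom.id Q) = N.1
      rw [Subgroup.map_id])
    have hmul : ∀ φ ψ N, act (φ * ψ) N = act φ (act ψ N) := fun φ ψ N => Subtype.ext (by
      show N.1.map (φ * ψ : MulAut Q).toMonoidHom = (N.1.map ψ.toMonoidHom).map φ.toMonoidHom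
      rw [Subgroup.map_map]
      rfl)
    let _inst : MulAction (MulAut Q) Ω :=
      { smul := act, one_smul := hone, mul_smul := hmul }
    -- the maximal cyclic subgroup
    have hidx : (zpowers g).index = 2 := by
      rw [Subgroup.index_eq_two_iff]
      refine ⟨b'⁻¹, fun w => ?_⟩
      rcases hcov' w with h1 | h1
      · exact Or.inr ⟨h1, fun e => hb' (inv_mem_iff.1 ((Subgroup.mul_mem_cancel_left _ h1).1 e))⟩
      · refine Or.inl ⟨h1, fun e => hb' (inv_mem_iff.1 ((Subgroup.mul_mem_cancel_left _ e).1 h1))⟩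
    let C₀ : Ω := ⟨zpowers g, hidx⟩
    refine ⟨Ω, inferInstance, (MulAction.toPermHom (MulAut Q) Ω).comp α, ?_, fun a ha h1 => ?_⟩
    · let key : Ω → {v : Bool × Bool // v ≠ (true, true)} := fun N =>
        ⟨(decide (g ∈ N.1), decide (b' ∈ N.1)), fun e => by
          simp only [Prod.mk.injEq, decide_eq_true_eq] at e
          have htop : N.1 = ⊤ := eq_top_iff.2 fun w _ => by
            rcases hcov' w with h1 | h1
            · exact Subgroup.zpowers_le.2 e.1 h1
            · have := N.1.mul_mem (Subgroup.zpowers_le.2 e.1 h1) e.2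
              simpa using this
          have := N.2
          rw [htop, Subgroup.index_top] at this
          omega⟩
      have hinj : Function.Injective key := by
        intro N N' e
        have e' := congrArg Subtype.val e
        simp only [key, Prod.mk.injEq, decide_eq_decide] at e'
        have hz : ∀ w ∈ zpowers g, (w ∈ N.1 ↔ w ∈ N'.1) := by
          intro w hw
          obtain ⟨i, rfl⟩ := Subgroup.mem_zpowers_iff.1 hw
          have hsq : ∀ L : Ω, g ^ (2 : ℤ) ∈ L.1 := fun L => by
            rw [show (2 : ℤ) = ((2 : ℕ) : ℤ) from rfl, zpow_natCast]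
            exact Subgroup.sq_mem_of_index_two L.2 g
          rcases Int.even_or_odd i with ⟨j, rfl⟩ | ⟨j, rfl⟩
          · rw [← two_mul, zpow_mul]
            exact iff_of_true (zpow_mem (hsq N) j) (zpow_mem (hsq N') j)
          · rw [zpow_add, zpow_mul, zpow_one, Subgroup.mul_mem_cancel_left _ (zpow_mem (hsq N) j),
              Subgroup.mul_mem_cancel_left _ (zpow_mem (hsq N') j)]
            exact e'.1
        refine Subtype.ext (Subgroup.ext fun w => ?_)
        rcases hcov' w with h1 | h1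
        · exact hz w h1
        · have hw : w = (w * b'⁻¹) * b' := by group
          rw [hw, Subgroup.mul_mem_iff_of_index_two N.2, Subgroup.mul_mem_iff_of_index_two N'.2,
            hz _ h1, e'.2]
      exact (Nat.card_le_card_of_injective key hinj).trans
        (by rw [Nat.card_eq_fintype_card]; decide)
    · refine hcent a ha (CfsgLib.BlockA.DihedralDefect.eq_one_of_odd hm hcov' hb' ?_ (hα a ha))
      have h2 : act (α a) C₀ = C₀ := congrFun (congrArg DFunLike.coe h1) C₀
      have h3 : α a g ∈ (zpowers g).map (α a).toMonoidHom :=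
        ⟨g, Subgroup.mem_zpowers g, rfl⟩
      rwa [show (zpowers g).map (α a).toMonoidHom = zpowers g from congrArg Subtype.val h2] at h3

/-- **At most two classes of elements of odd order.** -/
theorem card_regular_classes_le (S : Sylow 2 X) (hSaut : IsPGroup 2 (MulAut (S : Subgroup X)))
    {x y : X} (hcov : ∀ w ∈ (S : Subgroup X), w ∈ zpowers x ∨ w * y⁻¹ ∈ zpowers x)
    (Q : Subgroup X) [Q.Normal] (hQp : IsPGroup 2 Q) (hC : centralizer (Q : Set X) ≤ Q) :
    Nat.card {C : ConjClasses X // ∃ q, ConjClasses.mk q = C ∧ ¬ 2 ∣ orderOf q} ≤ 2 := by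
  classical
  have : Fact (Nat.Prime 2) := ⟨Nat.prime_two⟩
  have := Fintype.ofFinite X
  have hQS : Q ≤ (S : Subgroup X) := CfsgLib.Solvable.normal_pgroup_le_sylow hQp S
  obtain ⟨Ω, hΩ, f, hΩ3, hker⟩ := exists_hom_three S hcov Q hQS hC
  have := Fintype.ofFinite Ω
  have hperm : Nat.card (Equiv.Perm Ω) ∣ 6 := by
    rw [Nat.card_eq_fintype_card, Fintype.card_perm]
    rw [Nat.card_eq_fintype_card] at hΩ3
    exact Nat.factorial_dvd_factorial hΩ3
  -- elements of odd order have order dividing three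
  have hodd : ∀ a : X, ¬ 2 ∣ orderOf a → orderOf a ∣ 3 := by
    intro a ha
    have ho : Odd (orderOf a) := Nat.not_even_iff_odd.1 fun h => ha h.two_dvd
    have h1 : a ^ orderOf (f a) = 1 :=
      hker _ (Odd.of_dvd_nat ho (orderOf_pow_dvd _)) (by rw [map_pow, pow_orderOf_eq_one])
    have h2 : orderOf a ∣ 3 * 2 :=
      ((orderOf_dvd_of_pow_eq_one h1).trans (orderOf_dvd_natCard _)).trans hperm
    exact ((Nat.prime_two.coprime_iff_not_dvd.2 ha).symm).dvd_of_dvd_mul_right h2
  set ι := {C : ConjClasses X // ∃ q, ConjClasses.mk q = C ∧ ¬ 2 ∣ orderOf q}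
  by_cases h3 : ∃ a : X, orderOf a = 3
  swap
  · have hsub : Subsingleton ι := ⟨fun C C' => by
      obtain ⟨q, hq, hqo⟩ := C.2
      obtain ⟨q', hq', hqo'⟩ := C'.2
      have h1 : ∀ w : X, ¬ 2 ∣ orderOf w → w = 1 := fun w hw => by
        rcases (Nat.dvd_prime Nat.prime_three).1 (hodd w hw) with e | e
        · exact orderOf_eq_one_iff.1 e
        · exact absurd ⟨w, e⟩ h3
      exact Subtype.ext (by rw [← hq, ← hq', h1 q hqo, h1 q' hqo'])⟩
    exact (Finite.card_le_one_iff_subsingleton.2 hsub).trans (by norm_num)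
  obtain ⟨a, ha⟩ := h3
  have : Fact (Nat.Prime 3) := ⟨Nat.prime_three⟩
  -- the Sylow 3-subgroup is generated by `a`
  obtain ⟨R, hR⟩ := (IsPGroup.of_card (p := 3) (n := 1)
    (by rw [Nat.card_zpowers, ha, pow_one] : Nat.card (zpowers a) = 3 ^ 1)).exists_le_sylow
  have hRcard : Nat.card (R : Subgroup X) = 3 := by
    obtain ⟨k, hk⟩ := IsPGroup.iff_card.1 R.2
    have hinj : Function.Injective (f.comp (R : Subgroup X).subtype) := by
      rw [injective_iff_map_eq_one]
      intro r hr
      obtain ⟨j, hj⟩ := IsPGroup.iff_orderOf.1 R.2 r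
      exact Subtype.ext (hker _ (by rw [Subgroup.orderOf_coe, hj]; exact Odd.pow (by decide)) hr)
    have h1 : Nat.card (R : Subgroup X) ∣ 3 * 2 :=
      (Subgroup.card_dvd_of_injective _ hinj).trans hperm
    have h2 : Nat.card (R : Subgroup X) ∣ 3 :=
      (Nat.Coprime.pow_left k (by decide : Nat.Coprime 3 2)).dvd_of_dvd_mul_right
        (hk ▸ h1) |> fun h => hk ▸ h
    refine Nat.le_antisymm (Nat.le_of_dvd (by norm_num) h2) ?_
    calc 3 = Nat.card (zpowers a) := by rw [Nat.card_zpowers, ha]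
      _ ≤ _ := Subgroup.card_le_of_le hR
  have hRa : (R : Subgroup X) = zpowers a :=
    (Subgroup.eq_of_le_of_card_ge hR (by rw [hRcard, Nat.card_zpowers, ha])).symm
  have hmemR : ∀ w ∈ zpowers a, w = 1 ∨ w = a ∨ w = a⁻¹ := by
    intro w hw
    obtain ⟨j, hj⟩ := mem_powers_iff_mem_zpowers.2 hw
    have hj' : a ^ j = w := hj
    rw [← pow_mod_orderOf, ha] at hj'
    have : j % 3 < 3 := Nat.mod_lt _ (by norm_num)
    rcases (show j % 3 = 0 ∨ j % 3 = 1 ∨ j % 3 = 2 by omega) with e | e | e <;>
      rw [e] at hj' <;> rw [← hj']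
    · exact Or.inl (pow_zero a)
    · exact Or.inr (Or.inl (pow_one a))
    · refine Or.inr (Or.inr (eq_inv_of_mul_eq_one_left ?_))
      rw [← pow_succ, show 2 + 1 = orderOf a from ha.symm, pow_orderOf_eq_one]
  by_cases hinv : IsConj a a⁻¹
  · have hsub : ∀ C : ι, C.1 = ConjClasses.mk 1 ∨ C.1 = ConjClasses.mk a := by
      intro C
      obtain ⟨q, hq, hqo⟩ := C.2
      rw [← hq]
      rcases (Nat.dvd_prime Nat.prime_three).1 (hodd q hqo) with e | e
      · exact Or.inl (by rw [orderOf_eq_one_iff.1 e])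
      · obtain ⟨R', hR'⟩ := (IsPGroup.of_card (p := 3) (n := 1)
          (by rw [Nat.card_zpowers, e, pow_one] : Nat.card (zpowers q) = 3 ^ 1)).exists_le_sylow
        obtain ⟨c, hc⟩ := MulAction.exists_smul_eq X R' R
        have hmem : c * q * c⁻¹ ∈ zpowers a := by
          rw [← hRa, ← hc]
          exact ⟨q, hR' (Subgroup.mem_zpowers q), rfl⟩
        rcases hmemR _ hmem with e' | e' | e'
        · exact Or.inl (ConjClasses.mk_eq_mk_iff_isConj.2 (isConj_iff.2 ⟨c, e'⟩))
        · exact Or.inr (ConjClasses.mk_eq_mk_iff_isConj.2 (isConj_iff.2 ⟨c, e'⟩))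
        · exact Or.inr (ConjClasses.mk_eq_mk_iff_isConj.2
            ((isConj_iff.2 ⟨c, e'⟩).trans hinv.symm))
    have : Finite (ConjClasses X) := Finite.of_surjective _ ConjClasses.mk_surjective
    calc Nat.card ι ≤ Nat.card ({ConjClasses.mk 1, ConjClasses.mk a} : Set (ConjClasses X)) :=
          Nat.card_le_card_of_injective (fun C => ⟨C.1, hsub C⟩) fun C C' h =>
            Subtype.ext (congrArg (fun w => w.1) h)
      _ ≤ 2 := by
          rw [Nat.card_coe_set_eq]
          exact (Set.ncard_insert_le _ _).trans (by rw [Set.ncard_singleton])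
  -- otherwise the Sylow 2-subgroup is normal and `a` centralises it
  exfalso
  have hNC : Subgroup.normalizer ((R : Subgroup X) : Set X) ≤
      Subgroup.centralizer ((R : Subgroup X) : Set X) := by
    intro n hn
    rw [hRa] at hn ⊢
    rw [centralizer_eq_iInf]
    simp only [Subgroup.mem_iInf]
    intro w hw
    rw [Subgroup.mem_centralizer_singleton_iff]
    have hna : Commute n a := by
      rcases hmemR _ ((Subgroup.mem_normalizer_iff.1 hn a).1 (mem_zpowers a)) with e | e | e
      · rw [conj_eq_one_iff.1 e, orderOf_one] at ha; omega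
      · exact mul_inv_eq_iff_eq_mul.1 e
      · exact absurd (isConj_iff.2 ⟨n, e⟩) hinv
    obtain ⟨i, rfl⟩ := Subgroup.mem_zpowers_iff.1 hw
    exact (hna.zpow_right i).eq
  obtain ⟨R₁, N, hN, hcompl⟩ :=
    CfsgLib.Transfer.hasNormalPComplement_of_normalizer_le_centralizer R hNC
  have := hN
  have hR1 : Nat.card (R₁ : Subgroup X) = 3 := by
    rw [R₁.card_eq_multiplicity, ← R.card_eq_multiplicity, hRcard]
  have hmul : Nat.card (R₁ : Subgroup X) * Nat.card N = Nat.card X := (mul_comm _ _).trans hcompl.card_mul_card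
  have h3N : ¬ 3 ∣ Nat.card N := fun h3 => by
    obtain ⟨t, ht⟩ := h3
    have h9 : 3 ^ 2 ∣ Nat.card X := ⟨t, by rw [← hmul, hR1, ht]; ring⟩
    have := (Nat.prime_three.pow_dvd_iff_le_factorization Nat.card_pos.ne').1 h9
    have h1 := R.card_eq_multiplicity
    rw [hRcard] at h1
    have h2 : (Nat.card X).factorization 3 = 1 :=
      (Nat.pow_right_injective (le_refl 2 |>.trans (by norm_num)) (h1.symm.trans (pow_one 3).symm))
    omega
  have hN2 : IsPGroup 2 N := by
    refine IsPGroup.iff_orderOf.2 fun w => ?_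
    obtain ⟨k, o, ho, hk⟩ := Nat.exists_eq_two_pow_mul_odd (orderOf_pos w).ne'
    refine ⟨k, ?_⟩
    have h1 : orderOf ((w : X) ^ 2 ^ k) = o := by
      rw [orderOf_pow_of_dvd (pow_ne_zero _ two_ne_zero), Subgroup.orderOf_coe, hk,
        Nat.mul_div_cancel_left _ (pow_pos two_pos k)]
      rw [Subgroup.orderOf_coe, hk]; exact dvd_mul_right _ _
    have h2 := hodd _ (h1 ▸ fun h => Nat.not_even_iff_odd.2 ho (even_iff_two_dvd.2 h))
    rw [h1] at h2
    rcases (Nat.dvd_prime Nat.prime_three).1 h2 with e | e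
    · rw [hk, e, mul_one]
    · refine absurd (dvd_trans ?_ (orderOf_dvd_natCard w)) h3N
      rw [hk, e]; exact dvd_mul_left 3 _
  have hNS : N = (S : Subgroup X) := by
    refine Subgroup.eq_of_le_of_card_ge (CfsgLib.Solvable.normal_pgroup_le_sylow hN2 S) ?_
    obtain ⟨k, hk⟩ := IsPGroup.iff_card.1 S.2
    have h1 : Nat.card (S : Subgroup X) ∣ 3 * Nat.card N := by
      rw [← hR1, hmul]; exact Subgroup.card_subgroup_dvd_card _
    rw [hk] at h1 ⊢
    exact Nat.le_of_dvd Nat.card_pos
      ((Nat.Coprime.pow_left k (by decide : Nat.Coprime 2 3)).dvd_of_dvd_mul_left h1)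
  have : ((S : Subgroup X)).Normal := hNS ▸ hN
  let β : X →* MulAut (S : Subgroup X) := MulAut.conjNormal
  have hβ : β a = 1 := by
    obtain ⟨k, hk⟩ := IsPGroup.iff_orderOf.1 hSaut (β a)
    have h1 := orderOf_map_dvd β a
    rw [ha, hk] at h1
    rw [← orderOf_eq_one_iff, hk]
    exact Nat.eq_one_of_dvd_coprimes (Nat.Coprime.pow_left k (by decide : Nat.Coprime 2 3))
      dvd_rfl h1
  have haC : a ∈ centralizer (Q : Set X) := mem_centralizer_iff.2 fun q hq => by
    have h2 : a * q * a⁻¹ = q := by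
      simpa [β, MulAut.conjNormal_apply] using
        congrArg Subtype.val (DFunLike.congr_fun hβ (⟨q, hQS hq⟩ : (S : Subgroup X)))
    rw [mul_inv_eq_iff_eq_mul] at h2
    exact h2.symm
  obtain ⟨k, hk⟩ := IsPGroup.iff_orderOf.1 hQp ⟨a, hC haC⟩
  rw [Subgroup.orderOf_mk, ha] at hk
  exact absurd (Nat.eq_one_of_dvd_coprimes (Nat.Coprime.pow_right k (by decide : Nat.Coprime 3 2))
    dvd_rfl (hk ▸ dvd_rfl)) (by norm_num)

end CfsgLib.BlockA.RegularClassesTwo
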