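import Cfsg.Agent.Lib.Char.Diag
import Cfsg.Agent.Lib.Char.Induce
import Cfsg.Agent.Lib.Block.LocalRing
import Cfsg.Agent.Lib.BlockB.PModular
import Cfsg.Agent.Lib.BlockB.Codegree
import Mathlib.Algebra.CharP.Lemmas
import Mathlib.GroupTheory.Sylow

/-! The characters separate the `p`-regular classes modulo a prime over `p`. -/

set_option autoImplicit false
set_option linter.unusedSectionVars false

namespace CfsgLib.BlockA

open Cfsg CfsgLib.Block
open scoped ComplexConjugate

universe u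

variable {G : Type u} [Group G] [Finite G] {p : ℕ}

/-- The `q`-th power of a character value is congruent to the value at the `q`-th power. -/
theorem char_pow_sub_apply_pow (hp : p.Prime) {χ : G → ℂ} (hχ : IsCharacter G χ) (g : G) (a : ℕ) :
    ∃ γ : AlgInt, χ g ^ p ^ a - χ (g ^ p ^ a) = (p : ℂ) * (γ : ℂ) := by
  classical
  obtain ⟨n, ρ, rfl⟩ := hχ
  obtain ⟨ι, hι, b, μ, -, h2, h3, -⟩ := CfsgLib.Char.exists_char_eigen ρ g
  have h1 := h3 1
  simp only [pow_one] at h1
  rw [h1, h3]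
  have hint : ∀ i, IsIntegral ℤ (μ i) := fun i =>
    IsIntegral.of_pow (orderOf_pos g) (by rw [h2 i]; exact isIntegral_one)
  let m : ι → AlgInt := fun i => ⟨μ i, hint i⟩
  have key : ∀ s : Finset ι, ∃ γ : AlgInt,
      (∑ i ∈ s, m i) ^ p ^ a = ∑ i ∈ s, m i ^ p ^ a + (p : AlgInt) * γ := by
    intro s
    induction s using Finset.induction_on with
    | empty => exact ⟨0, by simp [hp.ne_zero]⟩
    | @insert i s hi ih =>
      obtain ⟨γ, hγ⟩ := ih
      obtain ⟨r, hr⟩ := exists_add_pow_prime_pow_eq hp (m i) (∑ j ∈ s, m j) a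
      exact ⟨γ + m i * (∑ j ∈ s, m j) * r, by
        rw [Finset.sum_insert hi, Finset.sum_insert hi, hr, hγ]; ring⟩
  obtain ⟨γ, hγ⟩ := key Finset.univ
  refine ⟨γ, ?_⟩
  have h := congrArg (fun z : AlgInt => (z : ℂ)) hγ
  simp only [m] at h
  push_cast at h
  linear_combination h

/-- The average of a character over a coset of a centralized subgroup is an algebraic integer. -/
theorem isIntegral_coset_avg {n : ℕ} (ρ : Representation ℂ G (Fin n → ℂ)) (x : G) (Q : Subgroup G)
    [Fintype Q] (hxQ : ∀ q ∈ Q, Commute x q) :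
    IsIntegral ℤ ((Nat.card Q : ℂ)⁻¹ * ∑ q : Q, ρ.character (x * (q : G))) := by
  classical
  set c : ℂ := (Nat.card Q : ℂ)⁻¹
  set e : Module.End ℂ (Fin n → ℂ) := c • ∑ q : Q, ρ (q : G)
  have hc : c * (Fintype.card Q : ℂ) = 1 := by
    rw [Nat.card_eq_fintype_card.symm]
    exact inv_mul_cancel₀ (Nat.cast_ne_zero.2 Nat.card_pos.ne')
  have hqe : ∀ q : Q, ρ (q : G) * e = e := fun q => by
    rw [mul_smul_comm, Finset.mul_sum]
    congr 1
    exact Fintype.sum_equiv (Equiv.mulLeft q) _ _ fun r => by simp [map_mul]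
  have hee : e * e = e := by
    conv_lhs => rw [show e * e = c • ∑ q : Q, ρ (q : G) * e by rw [← Finset.sum_mul, ← smul_mul_assoc]]
    simp only [hqe, Finset.sum_const, Finset.card_univ, ← Nat.cast_smul_eq_nsmul ℂ, smul_smul, hc,
      one_smul]
  have hxe : Commute (ρ x) e := by
    show ρ x * e = e * ρ x
    rw [mul_smul_comm, smul_mul_assoc, Finset.mul_sum, Finset.sum_mul]
    congr 1
    refine Finset.sum_congr rfl fun q _ => ?_
    rw [← map_mul, ← map_mul, (hxQ q q.2).eq]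
  set f : Module.End ℂ (Fin n → ℂ) := ρ x * e + (1 - e) with hf
  have hfpow : ∀ k : ℕ, f ^ k = ρ x ^ k * e + (1 - e) := by
    intro k
    induction k with
    | zero => simp
    | succ k ih =>
      have h1 : e * (1 - e) = 0 := by rw [mul_sub, mul_one, hee, sub_self]
      have h2 : (1 - e) * e = 0 := by rw [sub_mul, one_mul, hee, sub_self]
      have h3 : (1 - e) * (1 - e) = 1 - e := by rw [mul_sub, mul_one, h2, sub_zero]
      have h4 : (1 - e) * (ρ x * e) = 0 := by rw [hxe.eq, ← mul_assoc, h2, zero_mul]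
      have h5 : ρ x ^ k * e * (ρ x * e) = ρ x ^ (k + 1) * e := by
        rw [mul_assoc, ← mul_assoc e, ← hxe.eq, mul_assoc, hee, ← mul_assoc, ← pow_succ]
      rw [pow_succ, ih, hf, add_mul, mul_add, mul_add, h5, h4, h3, mul_assoc (ρ x ^ k) e (1 - e), h1,
        mul_zero, add_zero, zero_add]
  have hfm : f ^ orderOf x = 1 := by
    rw [hfpow, ← map_pow, pow_orderOf_eq_one, map_one, one_mul, add_sub_cancel]
  have hfint : IsIntegral ℤ (LinearMap.trace ℂ _ f) := by
    obtain ⟨ι, hι, b, μ, hb, hμ⟩ := CfsgLib.Char.exists_eigenbasis f (orderOf_pos x) hfm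
    rw [CfsgLib.Char.trace_eq_sum_eigen b f μ hb]
    exact IsIntegral.sum _ fun i _ =>
      IsIntegral.of_pow (orderOf_pos x) (by rw [hμ i]; exact isIntegral_one)
  have htr : (Nat.card Q : ℂ)⁻¹ * ∑ q : Q, ρ.character (x * (q : G)) =
      LinearMap.trace ℂ _ (ρ x * e) := by
    rw [mul_smul_comm, map_smul, smul_eq_mul]
    congr 1
    rw [Finset.mul_sum, map_sum]
    refine Finset.sum_congr rfl fun q _ => ?_
    rw [Representation.character, map_mul]
  have hproj : LinearMap.IsProj (LinearMap.range (1 - e : Module.End ℂ (Fin n → ℂ))) (1 - e) := by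
    refine (LinearMap.isProj_range_iff_isIdempotentElem _).2 ?_
    show (1 - e) * (1 - e) = 1 - e
    rw [mul_sub, mul_one, sub_mul, one_mul, hee, sub_self, sub_zero]
  rw [htr, show ρ x * e = f - (1 - e) from (add_sub_cancel_right _ _).symm, map_sub, hproj.trace]
  exact hfint.sub ((isIntegral_algebraMap (R := ℤ) (A := ℂ)
    (x := ((Module.finrank ℂ (LinearMap.range (1 - e : Module.End ℂ (Fin n → ℂ))) : ℕ) : ℤ))))

/-- Regular elements with congruent character values are conjugate. -/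
theorem isConj_of_congr [Fact p.Prime] {M : Ideal AlgInt} (hM : IsPModular p M) {x y : G}
    (hx : ¬ p ∣ orderOf x) (hy : ¬ p ∣ orderOf y)
    (h : ∀ χ : IrrCharacter G, MemLocalIdeal M ((χ : G → ℂ) x - (χ : G → ℂ) y)) : IsConj x y := by
  classical
  have := isPrime_of_pmodular hM
  have := Fintype.ofFinite G
  have := Fintype.ofFinite (IrrCharacter G)
  by_contra hconj
  set C := Subgroup.centralizer ({x} : Set G)
  obtain ⟨S⟩ : Nonempty (Sylow p C) := inferInstance
  set Q : Subgroup G := (S : Subgroup C).map C.subtype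
  have hQC : ∀ q ∈ Q, Commute x q := by
    rintro q ⟨c, -, rfl⟩
    exact (Subgroup.mem_centralizer_singleton_iff.1 c.2).symm
  have hQp : IsPGroup p Q := S.isPGroup'.map _
  have := Fintype.ofFinite Q
  -- the class function averaging the indicator of the coset
  let θ : G → ℂ := fun g =>
    (Nat.card Q : ℂ)⁻¹ * ∑ t : G, if x⁻¹ * (t⁻¹ * g * t) ∈ Q then 1 else 0
  have hθ : IsClassFunction G θ := fun g h => by
    simp only [θ]
    congr 1
    refine Fintype.sum_equiv (Equiv.mulLeft h⁻¹) _ _ fun t => ?_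
    simp [mul_assoc]
  have hcoef : ∀ χ : IrrCharacter G, IsIntegral ℤ (classInner θ (χ : G → ℂ)) := by
    intro χ
    have hval : classInner θ (χ : G → ℂ) =
        conj ((Nat.card Q : ℂ)⁻¹ * ∑ q : Q, (χ : G → ℂ) (x * (q : G))) := by
      rw [CfsgLib.Char.classInner_def, map_mul, map_inv₀, Complex.conj_natCast, map_sum]
      have e1 : ∀ g : G, θ g * conj ((χ : G → ℂ) g) = (Nat.card Q : ℂ)⁻¹ *
          ∑ t : G, (if x⁻¹ * (t⁻¹ * g * t) ∈ Q then 1 else 0) * conj ((χ : G → ℂ) g) := fun g => by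
        simp only [θ]
        rw [mul_assoc, Finset.sum_mul]
      rw [Finset.sum_congr rfl fun g _ => e1 g, ← Finset.mul_sum, Finset.sum_comm, mul_left_comm]
      congr 1
      rw [Finset.sum_congr rfl (g := fun _ => ∑ q : Q, conj ((χ : G → ℂ) (x * (q : G)))) fun t _ => ?_,
        Finset.sum_const, Finset.card_univ, nsmul_eq_mul, ← Nat.card_eq_fintype_card, ← mul_assoc,
        inv_mul_cancel₀ CfsgLib.Char.natCard_ne_zero, one_mul]
      simp only [ite_mul, one_mul, zero_mul]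
      rw [← Finset.sum_filter]
      refine Finset.sum_bij'
        (fun g hg => (⟨x⁻¹ * (t⁻¹ * g * t), (Finset.mem_filter.1 hg).2⟩ : Q))
        (fun q _ => t * (x * (q : G)) * t⁻¹) (fun _ _ => Finset.mem_univ _) ?_ ?_ ?_ ?_
      · intro q _
        refine Finset.mem_filter.2 ⟨Finset.mem_univ _, ?_⟩
        have e : x⁻¹ * (t⁻¹ * (t * (x * (q : G)) * t⁻¹) * t) = (q : G) := by group
        rw [e]; exact q.2
      · intro g _
        group
      · intro q _
        exact Subtype.ext (by group)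
      · intro g _
        have e : x * (x⁻¹ * (t⁻¹ * g * t)) = t⁻¹ * g * t := by group
        simp only [e]
        rw [show t⁻¹ * g * t = t⁻¹ * g * t⁻¹⁻¹ by rw [inv_inv], CfsgLib.Char.irr_isClassFunction χ.2]
    rw [hval]
    obtain ⟨χ, n, ρ, hρ, rfl⟩ := χ
    exact map_isIntegral_int (starRingEnd ℂ) (isIntegral_coset_avg ρ x Q hQC)
  have hexp : ∀ g, θ g = ∑ χ : IrrCharacter G, classInner θ (χ : G → ℂ) * (χ : G → ℂ) g := fun g =>
    CfsgLib.Char.classFunction_apply_eq_sum hθ g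
  have hsub : MemLocalIdeal M (θ x - θ y) := by
    rw [hexp x, hexp y, ← Finset.sum_sub_distrib]
    refine memLocalIdeal_sum _ _ fun χ _ => ?_
    rw [← mul_sub]
    exact memLocalIdeal_mul_left (memLocalRing_of_isIntegral (hcoef χ)) (h χ)
  -- regular elements of the coset
  have hreg : ∀ g : G, ¬ p ∣ orderOf g → x⁻¹ * g ∈ Q → g = x := by
    intro g hg hgQ
    set q := x⁻¹ * g
    obtain ⟨k, hk⟩ := IsPGroup.iff_orderOf.1 hQp ⟨q, hgQ⟩
    rw [Subgroup.orderOf_mk] at hk
    have hcg : Commute x g := by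
      have := (Commute.refl x).mul_right (hQC q hgQ)
      rwa [mul_inv_cancel_left] at this
    have hd : orderOf q ∣ orderOf x * orderOf g := by
      have := (hcg.inv_left).orderOf_mul_dvd_mul_orderOf
      rwa [orderOf_inv] at this
    have hcop : (orderOf q).Coprime (orderOf x * orderOf g) := by
      rw [hk]
      exact (((Fact.out : p.Prime).coprime_iff_not_dvd).2 hx).mul_right
        (((Fact.out : p.Prime).coprime_iff_not_dvd).2 hg) |>.pow_left k
    have h1 := Nat.eq_one_of_dvd_coprimes hcop dvd_rfl hd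
    rw [orderOf_eq_one_iff, inv_mul_eq_one] at h1
    exact h1.symm
  have hθy : θ y = 0 := by
    simp only [θ]
    rw [Finset.sum_eq_zero fun t _ => ?_, mul_zero]
    refine if_neg fun hm => hconj ?_
    have he := hreg _ (by
      rw [show t⁻¹ * y * t = MulAut.conj t⁻¹ y by simp, MulEquiv.orderOf_eq]; exact hy) hm
    exact (isConj_iff.2 ⟨t⁻¹, by rw [inv_inv]; exact he⟩ : IsConj y x).symm
  have hθx : θ x = ((Nat.card C / Nat.card Q : ℕ) : ℂ) := by
    have hset : (Finset.univ.filter fun t : G => x⁻¹ * (t⁻¹ * x * t) ∈ Q) =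
        Finset.univ.filter fun t : G => t ∈ C := by
      ext t
      simp only [Finset.mem_filter, Finset.mem_univ, true_and, C,
        Subgroup.mem_centralizer_singleton_iff]
      constructor
      · intro hm
        have he := hreg _ (by
          rw [show t⁻¹ * x * t = MulAut.conj t⁻¹ x by simp, MulEquiv.orderOf_eq]; exact hx) hm
        calc t * x = t * (t⁻¹ * x * t) := by rw [he]
          _ = x * t := by group
      · intro ht
        have e : t⁻¹ * x * t = x := by
          rw [mul_assoc, ← ht, inv_mul_cancel_left]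
        rw [e, inv_mul_cancel]
        exact Q.one_mem
    have hQd : Nat.card Q ∣ Nat.card C :=
      Subgroup.card_dvd_of_le (Subgroup.map_subtype_le _)
    simp only [θ]
    rw [← Finset.sum_filter, hset, Finset.sum_const, nsmul_eq_mul, mul_one,
      ← Fintype.card_subtype, ← Nat.card_eq_fintype_card,
      Nat.cast_div hQd (Nat.cast_ne_zero.2 Nat.card_pos.ne'), inv_mul_eq_div]
  rw [hθx, hθy, sub_zero, memLocalIdeal_natCast_iff hM] at hsub
  refine S.not_dvd_index ?_
  rw [Subgroup.index_eq_card] at *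
  have hQS : Nat.card Q = Nat.card (S : Subgroup C) :=
    Nat.card_congr (Subgroup.equivMapOfInjective _ _ C.subtype_injective).toEquiv.symm
  rwa [hQS, Subgroup.card_eq_card_quotient_mul_card_subgroup (S : Subgroup C),
    Nat.mul_div_cancel _ Nat.card_pos] at hsub

/-- The criterion of S4604. -/
theorem isConj_regular_parts_iff [Fact p.Prime] {x y x' y' : G}
    (hx : (∃ k : ℕ, orderOf (x * x'⁻¹) = p ^ k) ∧ Commute (x * x'⁻¹) x' ∧ ¬ p ∣ orderOf x')
    (hy : (∃ k : ℕ, orderOf (y * y'⁻¹) = p ^ k) ∧ Commute (y * y'⁻¹) y' ∧ ¬ p ∣ orderOf y') :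
    IsConj x' y' ↔ ∀ χ : IrrCharacter G, ∃ γ : AlgInt,
      (χ : G → ℂ) x ^ (p ^ (Nat.card G).factorization p) -
        (χ : G → ℂ) y ^ (p ^ (Nat.card G).factorization p) = (p : ℂ) * (γ : ℂ) := by
  have hp := (Fact.out : p.Prime)
  set a := (Nat.card G).factorization p
  have hpow : ∀ {z z' : G}, ((∃ k : ℕ, orderOf (z * z'⁻¹) = p ^ k) ∧ Commute (z * z'⁻¹) z' ∧
      ¬ p ∣ orderOf z') → z ^ p ^ a = z' ^ p ^ a := by
    rintro z z' ⟨⟨k, hk⟩, hc, -⟩
    have h1 : (z * z'⁻¹) ^ p ^ a = 1 := by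
      refine orderOf_dvd_iff_pow_eq_one.1 (hk ▸ pow_dvd_pow p ?_)
      rw [← hp.pow_dvd_iff_le_factorization Nat.card_pos.ne', ← hk]
      exact orderOf_dvd_natCard _
    conv_lhs => rw [← inv_mul_cancel_right z z']
    rw [hc.mul_pow, h1, one_mul]
  have hcong : ∀ (χ : IrrCharacter G) {z z' : G}, ((∃ k : ℕ, orderOf (z * z'⁻¹) = p ^ k) ∧
      Commute (z * z'⁻¹) z' ∧ ¬ p ∣ orderOf z') →
      ∃ γ : AlgInt, (χ : G → ℂ) z ^ p ^ a - (χ : G → ℂ) (z' ^ p ^ a) = (p : ℂ) * (γ : ℂ) :=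
    fun χ {z z'} hz => hpow hz ▸ char_pow_sub_apply_pow hp (CfsgLib.Char.irr_isCharacter χ.2) z a
  constructor
  · intro hc χ
    obtain ⟨γ₁, h₁⟩ := hcong χ hx
    obtain ⟨γ₂, h₂⟩ := hcong χ hy
    have he : (χ : G → ℂ) (x' ^ p ^ a) = (χ : G → ℂ) (y' ^ p ^ a) :=
      CfsgLib.Char.isClassFunction_isConj (CfsgLib.Char.irr_isClassFunction χ.2) (hc.pow _)
    exact ⟨γ₁ - γ₂, by push_cast; linear_combination h₁ - h₂ + he⟩
  · intro h
    obtain ⟨M, hM⟩ := CfsgLib.BlockB.exists_isPModular hp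
    have := isPrime_of_pmodular hM
    have hreg : ∀ {z' : G}, ¬ p ∣ orderOf z' → ¬ p ∣ orderOf (z' ^ p ^ a) := fun hz hd =>
      hz (hd.trans (orderOf_pow_dvd _))
    have hc : IsConj (x' ^ p ^ a) (y' ^ p ^ a) := by
      refine isConj_of_congr hM (hreg hx.2.2) (hreg hy.2.2) fun χ => ?_
      obtain ⟨γ₁, h₁⟩ := hcong χ hx
      obtain ⟨γ₂, h₂⟩ := hcong χ hy
      obtain ⟨γ, hγ⟩ := h χ
      have e : (χ : G → ℂ) (x' ^ p ^ a) - (χ : G → ℂ) (y' ^ p ^ a) =
          (((p : AlgInt) * (γ - γ₁ + γ₂) : AlgInt) : ℂ) := by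
        push_cast; linear_combination hγ - h₁ + h₂
      rw [e, memLocalIdeal_coe_iff]
      exact Ideal.mul_mem_right _ _ ((natCast_mem_iff hM p).2 dvd_rfl)
    have hcop : ∀ {z' : G}, ¬ p ∣ orderOf z' → ∃ j : ℕ, (z' ^ p ^ a) ^ j = z' := fun hz =>
      exists_pow_eq_self_of_coprime ((hp.coprime_iff_not_dvd.2 hz).pow_left a)
    obtain ⟨c, hcc⟩ := isConj_iff.1 hc
    refine isConj_iff.2 ⟨c, ?_⟩
    obtain ⟨b, hb⟩ : ∃ b : G, b = c * x' * c⁻¹ := ⟨_, rfl⟩
    have hbp : b ^ p ^ a = y' ^ p ^ a := by rw [hb, conj_pow, hcc]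
    have hinj : ∀ {u v : G}, ¬ p ∣ orderOf u → ¬ p ∣ orderOf v → u ^ p ^ a = v ^ p ^ a → u = v := by
      intro u v hu hv huv
      have hm : ¬ p ∣ Nat.card G / p ^ a := Nat.not_dvd_ordCompl hp Nat.card_pos.ne'
      have hd : ∀ {w : G}, ¬ p ∣ orderOf w → w ^ (Nat.card G / p ^ a) = 1 := fun {w} hw => by
        refine orderOf_dvd_iff_pow_eq_one.1 (Nat.Coprime.dvd_of_dvd_mul_left
          (((hp.coprime_iff_not_dvd).2 hw).symm.pow_right a) ?_)
        rw [Nat.ordProj_mul_ordCompl_eq_self]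
        exact orderOf_dvd_natCard w
      obtain ⟨j, -, hj⟩ := Nat.exists_mul_mod_eq_of_coprime 1
        ((hp.coprime_iff_not_dvd.2 hm).pow_left a) (fun h0 => hm (h0 ▸ dvd_zero p))
      have hgen : ∀ {w : G}, ¬ p ∣ orderOf w → (w ^ p ^ a) ^ j = w := fun {w} hw => by
        rw [← pow_mul]
        exact (pow_eq_pow_iff_modEq.2 ((show p ^ a * j ≡ 1 [MOD Nat.card G / p ^ a] from hj).of_dvd
          (orderOf_dvd_of_pow_eq_one (hd hw)))).trans (pow_one w)
      rw [← hgen hu, huv, hgen hv]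
    rw [← hb]
    refine hinj ?_ hy.2.2 hbp
    rw [hb, show c * x' * c⁻¹ = MulAut.conj c x' from rfl, MulEquiv.orderOf_eq]
    exact hx.2.2

end CfsgLib.BlockA
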