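import Cfsg.Prelude.Def_CharExt
import Cfsg.Prelude.Def_Transfer
import Cfsg.Prelude.Def_Blocks
import Cfsg.Agent.Lib.Clifford.ExtensionDet
import Cfsg.Agent.Lib.Clifford.Degree
import Cfsg.Agent.Lib.Clifford.Constituents
import Cfsg.Agent.Lib.Transfer.Basic
import Cfsg.Agent.Lib.BlockB.Codegree
import Mathlib.GroupTheory.Sylow

/-! The order of `O^p(G)` modulo `p`, and Thompson's degree theorem. -/

set_option autoImplicit false
set_option linter.unusedSectionVars false

namespace CfsgLib.BlockA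

open CfsgLib.Char CfsgLib.Clifford

universe u

variable {G : Type u} [Group G] [Finite G] {p : ℕ} [hp : Fact p.Prime]

/-- A linear character of `O^p(G)` has order prime to `p`. -/
theorem coprime_orderOf_hom_pResidual (l : Cfsg.pResidual p G →* ℂˣ) : (orderOf l).Coprime p := by
  set m := Nat.card G / p ^ (Nat.card G).factorization p
  have hm : ¬ p ∣ m := Nat.not_dvd_ordCompl hp.out Nat.card_pos.ne'
  refine Nat.Coprime.coprime_dvd_left (orderOf_dvd_of_pow_eq_one ?_)
    ((hp.out.coprime_iff_not_dvd).2 hm).symm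
  refine MonoidHom.ext fun x => ?_
  obtain ⟨g, hg⟩ := x
  induction hg using Subgroup.closure_induction with
  | mem g hg =>
    rw [MonoidHom.pow_apply, MonoidHom.one_apply, ← map_pow]
    have : (⟨g, Subgroup.subset_closure hg⟩ : Cfsg.pResidual p G) ^ m = 1 := by
      refine orderOf_dvd_iff_pow_eq_one.1 ?_
      rw [← Subgroup.orderOf_coe]
      refine Nat.Coprime.dvd_of_dvd_mul_left (hg.pow_right (Nat.card G |>.factorization p)) ?_
      rw [Nat.ordProj_mul_ordCompl_eq_self]
      exact orderOf_dvd_natCard g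
    rw [this, map_one]
  | one => exact map_one (l ^ m)
  | mul a b ha hb iha ihb =>
    rw [show (⟨a * b, mul_mem ha hb⟩ : Cfsg.pResidual p G) = ⟨a, ha⟩ * ⟨b, hb⟩ from rfl, map_mul,
      iha, ihb, map_mul]
  | inv a ha iha =>
    rw [show (⟨a⁻¹, inv_mem ha⟩ : Cfsg.pResidual p G) = (⟨a, ha⟩)⁻¹ from rfl, map_inv, iha, map_inv]

theorem detChar_eq_hom {H : Type*} [Group H] [Finite H] {χ : H → ℂ} (hχ : Cfsg.IsIrrCharacter H χ) :
    ∃ μ : H →* ℂˣ, Cfsg.detChar χ = (fun g => (μ g : ℂ)) ∧ Cfsg.detOrder χ = orderOf μ := by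
  obtain ⟨n, ρ, hρ, rfl⟩ := hχ
  refine ⟨(Units.map LinearMap.det).comp (repUnits ρ), detChar_eq ρ, ?_⟩
  rw [Cfsg.detOrder, detChar_eq ρ]
  exact orderOf_coe_hom ((Units.map LinearMap.det).comp (repUnits ρ))

/-- The characters counted by the congruence. -/
def goodSet (p : ℕ) (G : Type u) [Group G] : Set (Cfsg.IrrCharacter G) :=
  {χ | ¬ p ∣ Cfsg.charDegree (χ : G → ℂ) ∧ ¬ p ∣ Cfsg.detOrder (χ : G → ℂ)}

theorem restrict_bijection [Fintype G] [Fintype (Cfsg.pResidual p G)]
    [(Cfsg.pResidual p G).Normal] :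
    ∃ e : goodSet p G ≃ {θ : Cfsg.IrrCharacter (Cfsg.pResidual p G) //
        (∀ g : G, conjFn g (θ : Cfsg.pResidual p G → ℂ) = θ) ∧
          ¬ p ∣ Cfsg.charDegree (θ : Cfsg.pResidual p G → ℂ)},
      ∀ χ, Cfsg.charDegree ((e χ).1 : Cfsg.pResidual p G → ℂ) =
        Cfsg.charDegree (χ.1 : G → ℂ) := by
  classical
  set N := Cfsg.pResidual p G
  obtain ⟨a, ha⟩ := CfsgLib.Transfer.pResidual_index_eq_pow (G := G) (p := p)
  have hres : ∀ χ : goodSet p G, ∃ θ : Cfsg.IrrCharacter N,
      (fun n : N => (χ.1 : G → ℂ) n) = (θ : N → ℂ) := by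
    rintro ⟨χ, hχd, -⟩
    obtain ⟨θ, hθ, hne⟩ := exists_irr_constituent_restrict (N := N) χ.2
    obtain ⟨e, he, hdvd⟩ := degree_quot_dvd_index χ.2 hθ hne
    refine ⟨⟨θ, hθ⟩, ?_⟩
    have hd : Cfsg.charDegree (χ : G → ℂ) = e * Cfsg.charDegree θ := by
      have := he
      rw [← BlockB.irr_degree_cast, ← BlockB.charDegree_cast (irr_isCharacter hθ)] at this
      exact_mod_cast this
    have he1 : e = 1 := by
      rw [ha] at hdvd
      obtain ⟨k, -, rfl⟩ := (Nat.dvd_prime_pow hp.out).1 hdvd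
      rcases Nat.eq_zero_or_pos k with rfl | hk
      · exact pow_zero p
      · exact absurd (hd ▸ dvd_mul_of_dvd_left (dvd_pow_self p hk.ne') _) hχd
    obtain ⟨R, hR, hadd⟩ := exists_add_of_constituent
      (isCharacter_restrict (irr_isCharacter χ.2) N) hθ hne
    have h1 := congr_fun hadd 1
    simp only [Pi.add_apply] at h1
    have hR1 : R 1 = 0 := by
      have h2 : (χ : G → ℂ) 1 = θ 1 + R 1 := by simpa using h1
      rw [he, he1, Nat.cast_one, one_mul] at h2
      exact (add_eq_left.1 h2.symm)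
    funext n
    have hRn : R n = 0 := norm_le_zero_iff.1 (by
      have := (norm_char_le_one hR n).1
      rwa [hR1, Complex.zero_re] at this)
    have h3 := congr_fun hadd n
    simp only [Pi.add_apply, hRn, add_zero] at h3
    exact h3
  choose f hf using hres
  have hfdeg : ∀ χ, Cfsg.charDegree (f χ : N → ℂ) = Cfsg.charDegree (χ.1 : G → ℂ) := fun χ => by
    simp only [Cfsg.charDegree, ← hf χ, OneMemClass.coe_one]
  have hfmem : ∀ χ, (∀ g : G, conjFn g (f χ : N → ℂ) = f χ) ∧
      ¬ p ∣ Cfsg.charDegree (f χ : N → ℂ) := fun χ => by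
    refine ⟨fun g => ?_, hfdeg χ ▸ χ.2.1⟩
    funext n
    simp only [← hf χ, conjFn_apply, coe_conjN]
    exact irr_isClassFunction χ.1.2 (n : G) g
  -- the unique extension with prime-to-`p` determinant
  have hunique : ∀ θ : {θ : Cfsg.IrrCharacter N // (∀ g : G, conjFn g (θ : N → ℂ) = θ) ∧
      ¬ p ∣ Cfsg.charDegree (θ : N → ℂ)}, ∃! χ : goodSet p G, f χ = θ.1 := by
    rintro ⟨⟨θ, hθ⟩, hinv, hθd⟩
    obtain ⟨n, ρ, hρ, rfl⟩ := hθ
    change ∀ g : G, conjFn g ρ.character = ρ.character at hinv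
    change ¬ p ∣ Cfsg.charDegree ρ.character at hθd
    have hn : Cfsg.charDegree ρ.character = n := by
      simp [Cfsg.charDegree, Representation.char_one]
    rw [hn] at hθd
    have hcopn : Nat.Coprime N.index n := ha ▸ ((hp.out.coprime_iff_not_dvd).2 hθd).pow_left a
    set lam : N →* ℂˣ := (Units.map LinearMap.det).comp (repUnits ρ)
    have hlam : ∀ m, (lam m : ℂ) = LinearMap.det (ρ m) := fun m => rfl
    have hlaminv : ∀ (g : G) (m : N), lam (conjN g m) = lam m := fun g m => by
      refine Units.ext ?_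
      let c : N →* N := { toFun := conjN g
                          map_one' := Subtype.ext (by simp)
                          map_mul' := fun a b => Subtype.ext (by simp) }
      let ρ' : Representation ℂ N (Fin n → ℂ) := ρ.comp c
      have hch : ρ'.character = ρ.character := by
        funext x
        exact congrFun (hinv g) x
      have : ρ'.IsIrreducible := Clifford.isIrreducible_of_classInner_self ρ' (by
        rw [hch]; exact irr_classInner_self (isIrrCharacter_of_rep ρ))
      have h1 := detChar_eq ρ'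
      rw [hch, detChar_eq ρ] at h1
      exact (congrFun h1 m).symm
    obtain ⟨μ, hμ, hμo, -⟩ := exists_linear_extension lam hlaminv
      (ha ▸ (coprime_orderOf_hom_pResidual lam).symm.pow_left a)
    have hμ' : ∀ m : N, (μ m : ℂ) = LinearMap.det (ρ m) := fun m => by rw [hμ]; exact hlam m
    obtain ⟨χ₀, hχ₀, hχ₀res⟩ := exists_irr_extension_of_det ρ
      (fun g m => congrFun (hinv g) m) μ hμ' hcopn
    obtain ⟨σ, hσ, -⟩ := exists_rep_extension_top ρ (irr_isCharacter hχ₀) hχ₀res
    obtain ⟨χ, ⟨hχ, hχres, hχdet⟩, huniq⟩ := existsUnique_extension_det ρ hcopn σ hσ μ hμ'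
    have hgood : (⟨χ, hχ⟩ : Cfsg.IrrCharacter G) ∈ goodSet p G := by
      refine ⟨?_, ?_⟩
      · show ¬ p ∣ Cfsg.charDegree χ
        have : Cfsg.charDegree χ = n := by
          rw [← hn]
          simp only [Cfsg.charDegree, ← hχres 1, OneMemClass.coe_one]
        rwa [this]
      · show ¬ p ∣ Cfsg.detOrder χ
        rw [Cfsg.detOrder, hχdet, orderOf_coe_hom, hμo]
        exact hp.out.coprime_iff_not_dvd.1 (coprime_orderOf_hom_pResidual lam).symm
    refine ⟨⟨⟨χ, hχ⟩, hgood⟩, Subtype.ext ((hf _).symm.trans (funext hχres)), ?_⟩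
    rintro ⟨⟨χ', hχ'⟩, hgood'⟩ hfeq
    have hres' : ∀ m : N, χ' m = ρ.character m := fun m =>
      congrFun ((hf ⟨⟨χ', hχ'⟩, hgood'⟩).trans (congrArg Subtype.val hfeq)) m
    obtain ⟨ν, hν, hνo⟩ := detChar_eq_hom hχ'
    have hνp : (orderOf ν).Coprime p := by
      have h := hgood'.2
      rw [show Cfsg.detOrder χ' = orderOf ν from hνo] at h
      exact ((hp.out.coprime_iff_not_dvd).2 h).symm
    have hνN : ∀ m : N, ν m = μ m := fun m => by
      obtain ⟨σ', hσ', hσ'χ⟩ := exists_rep_extension_top ρ (irr_isCharacter hχ') hres'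
      have := isIrreducible_extension ρ σ' hσ'
      have h1 := congrFun hν (m : G)
      rw [← hσ'χ, detChar_eq σ'] at h1
      refine Units.ext (h1.symm.trans ?_)
      show LinearMap.det (σ' (m : G)) = _
      rw [hμ', hσ']
    have hνμ : ν = μ := by
      have hkill : (ν / μ) ^ p ^ a = 1 := MonoidHom.ext fun g => by
        rw [MonoidHom.pow_apply, MonoidHom.one_apply, ← map_pow, ← ha]
        have hmem : g ^ N.index ∈ N := N.pow_index_mem g
        rw [MonoidHom.div_apply]
        exact div_eq_one.2 (hνN ⟨_, hmem⟩)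
      have hcop : (orderOf (ν / μ)).Coprime p := by
        refine Nat.Coprime.coprime_dvd_left (orderOf_dvd_of_pow_eq_one (n := orderOf ν * orderOf μ) ?_)
          (hνp.mul_left (hμo ▸ coprime_orderOf_hom_pResidual lam))
        refine MonoidHom.ext fun g => ?_
        rw [MonoidHom.pow_apply, MonoidHom.div_apply, MonoidHom.one_apply, div_pow,
          pow_mul, ← MonoidHom.pow_apply, pow_orderOf_eq_one, MonoidHom.one_apply, one_pow,
          mul_comm, pow_mul, ← MonoidHom.pow_apply, pow_orderOf_eq_one, MonoidHom.one_apply,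
          one_pow, div_one]
      have h1 := Nat.eq_one_of_dvd_coprimes (hcop.pow_right a) dvd_rfl
        (orderOf_dvd_of_pow_eq_one hkill)
      rw [orderOf_eq_one_iff] at h1
      exact div_eq_one.1 h1
    exact Subtype.ext (Subtype.ext (huniq χ' ⟨hχ', hres', by rw [hν, hνμ]⟩))
  refine ⟨Equiv.ofBijective (fun χ => ⟨f χ, hfmem χ⟩) ⟨?_, ?_⟩, fun χ => hfdeg χ⟩
  · intro a b h
    exact (hunique ⟨f b, hfmem b⟩).unique (congrArg Subtype.val h) rfl
  · intro θ
    obtain ⟨χ, hχ, -⟩ := hunique θ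
    exact ⟨χ, Subtype.ext hχ⟩

/-- `|O^p(G)|` is congruent to the sum of the squares of the good degrees. -/
theorem card_pResidual_modEq :
    (Nat.card (Cfsg.pResidual p G) : ℤ) ≡
      (∑ᶠ χ ∈ goodSet p G, (Cfsg.charDegree (χ : G → ℂ) : ℤ) ^ 2) [ZMOD p] := by
  classical
  have := Fintype.ofFinite G
  set N := Cfsg.pResidual p G
  have : N.Normal := CfsgLib.Transfer.pResidual_normal
  have := Fintype.ofFinite N
  have := Fintype.ofFinite (Cfsg.IrrCharacter N)
  have := Fintype.ofFinite (goodSet p G)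
  obtain ⟨e, he⟩ := restrict_bijection (G := G) (p := p)
  obtain ⟨P⟩ : Nonempty (Sylow p G) := inferInstance
  obtain ⟨a, ha⟩ := CfsgLib.Transfer.pResidual_index_eq_pow (G := G) (p := p)
  -- Sylow invariance is invariance
  have hinvP : ∀ θ : Cfsg.IrrCharacter N, (∀ g ∈ (P : Subgroup G), conjFn g (θ : N → ℂ) = θ) →
      ∀ g : G, conjFn g (θ : N → ℂ) = θ := fun θ h g => by
    have htop : (P : Subgroup G) ⊔ N = ⊤ := by
      refine Subgroup.index_eq_one.1 (Nat.eq_one_of_dvd_coprimes
        (((hp.out.coprime_iff_not_dvd).2 P.not_dvd_index).pow_left a).symm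
        (Subgroup.index_dvd_of_le le_sup_left) (ha ▸ Subgroup.index_dvd_of_le le_sup_right))
    have hg : g ∈ inertia (θ : N → ℂ) := by
      have hle : (P : Subgroup G) ⊔ N ≤ inertia (θ : N → ℂ) :=
        sup_le (fun x hx => mem_inertia_iff_conjFn.2 (h x hx)) (le_inertia (irr_isClassFunction θ.2))
      exact hle (htop ▸ Subgroup.mem_top g)
    exact mem_inertia_iff_conjFn.1 hg
  let X : ℕ → Type u := fun d => {θ : Cfsg.IrrCharacter N // Cfsg.charDegree (θ : N → ℂ) = d}
  have hmod : ∀ d, (Nat.card (X d) : ℤ) ≡ (Nat.card {θ : Cfsg.IrrCharacter N //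
      Cfsg.charDegree (θ : N → ℂ) = d ∧ ∀ g : G, conjFn g (θ : N → ℂ) = θ} : ℤ) [ZMOD p] := fun d => by
    let : MulAction (P : Subgroup G) (X d) :=
      { smul := fun g θ => ⟨⟨conjFn (g : G)⁻¹ (θ.1 : N → ℂ), isIrrCharacter_conjFn θ.1.2 _⟩, by
          show Cfsg.charDegree (conjFn (g : G)⁻¹ (θ.1 : N → ℂ)) = d
          refine Eq.trans ?_ θ.2
          have e : conjN (N := N) (g : G)⁻¹ (1 : N) = 1 := Subtype.ext (by simp)
          simp only [Cfsg.charDegree, conjFn_apply, e]⟩
        one_smul := fun θ => Subtype.ext (Subtype.ext (by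
          show conjFn (((1 : (P : Subgroup G)) : G))⁻¹ _ = _
          rw [OneMemClass.coe_one, inv_one, conjFn_one]))
        mul_smul := fun g h θ => Subtype.ext (Subtype.ext (by
          show conjFn (((g * h : (P : Subgroup G)) : G))⁻¹ _ = conjFn (g : G)⁻¹ (conjFn (h : G)⁻¹ _)
          rw [conjFn_conjFn, Subgroup.coe_mul, mul_inv_rev])) }
    have h := P.isPGroup'.card_modEq_card_fixedPoints (X d)
    have hfix : Nat.card (MulAction.fixedPoints (P : Subgroup G) (X d)) =
        Nat.card {θ : Cfsg.IrrCharacter N //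
          Cfsg.charDegree (θ : N → ℂ) = d ∧ ∀ g : G, conjFn g (θ : N → ℂ) = θ} :=
      Nat.card_congr
        { toFun := fun θ => ⟨θ.1.1, θ.1.2, hinvP _ fun g hg => by
            have := congrArg (fun z : X d => (z.1 : N → ℂ)) (θ.2 ⟨g⁻¹, inv_mem hg⟩)
            change conjFn (g⁻¹)⁻¹ _ = _ at this
            rwa [inv_inv] at this⟩
          invFun := fun θ => ⟨⟨θ.1, θ.2.1⟩, fun g => Subtype.ext (Subtype.ext (θ.2.2 _))⟩
          left_inv := fun θ => rfl
          right_inv := fun θ => rfl }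
    rw [hfix] at h
    exact Int.natCast_modEq_iff.2 h
  have hsum : ((Nat.card N : ℤ)) = ∑ θ : Cfsg.IrrCharacter N, (Cfsg.charDegree (θ : N → ℂ) : ℤ) ^ 2 := by
    exact_mod_cast (BlockB.sum_degree_sq (G := N)).symm
  set I := (Finset.univ : Finset (Cfsg.IrrCharacter N)).filter fun θ : Cfsg.IrrCharacter N =>
    ∀ g : G, conjFn g (θ : N → ℂ) = θ with hI
  have h1 : ∑ θ : Cfsg.IrrCharacter N, (Cfsg.charDegree (θ : N → ℂ) : ℤ) ^ 2 ≡
      ∑ θ ∈ I, (Cfsg.charDegree (θ : N → ℂ) : ℤ) ^ 2 [ZMOD p] := by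
    set D := (Finset.univ : Finset (Cfsg.IrrCharacter N)).image fun θ : Cfsg.IrrCharacter N => Cfsg.charDegree (θ : N → ℂ)
    rw [← Finset.sum_fiberwise_of_maps_to (t := D) (g := fun θ : Cfsg.IrrCharacter N =>
        Cfsg.charDegree (θ : N → ℂ)) (fun θ hθ => Finset.mem_image_of_mem _ hθ),
      ← Finset.sum_fiberwise_of_maps_to (s := I) (t := D) (g := fun θ : Cfsg.IrrCharacter N =>
        Cfsg.charDegree (θ : N → ℂ)) (fun θ _ => Finset.mem_image_of_mem _ (Finset.mem_univ θ))]
    refine Int.modEq_iff_dvd.2 ?_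
    rw [← Finset.sum_sub_distrib]
    refine Finset.dvd_sum fun d _ => Int.modEq_iff_dvd.1 ?_
    rw [Finset.sum_congr rfl (g := fun _ => (d : ℤ) ^ 2) (fun θ hθ => by
        rw [(Finset.mem_filter.1 hθ).2]), Finset.sum_const, nsmul_eq_mul,
      Finset.sum_congr rfl (g := fun _ => (d : ℤ) ^ 2) (fun θ hθ => by
        rw [(Finset.mem_filter.1 hθ).2]), Finset.sum_const, nsmul_eq_mul]
    refine Int.ModEq.mul_right _ ?_
    have h := hmod d
    simp only [X, Nat.card_eq_fintype_card, Fintype.card_subtype] at h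
    rw [hI, Finset.filter_filter]
    simp only [and_comm] at h ⊢
    exact h
  have h2 : ∑ θ ∈ I, (Cfsg.charDegree (θ : N → ℂ) : ℤ) ^ 2 ≡
      ∑ θ ∈ I.filter (fun θ : Cfsg.IrrCharacter N => ¬ p ∣ Cfsg.charDegree (θ : N → ℂ)),
        (Cfsg.charDegree (θ : N → ℂ) : ℤ) ^ 2 [ZMOD p] := by
    rw [← Finset.sum_filter_add_sum_filter_not I (fun θ : Cfsg.IrrCharacter N => ¬ p ∣ Cfsg.charDegree (θ : N → ℂ))]
    refine (Int.modEq_iff_dvd.2 ?_)
    rw [sub_add_cancel_left, dvd_neg]
    refine Finset.dvd_sum fun θ hθ => ?_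
    have h := not_not.1 (Finset.mem_filter.1 hθ).2
    exact dvd_pow (by exact_mod_cast h) two_ne_zero
  rw [hsum]
  refine (h1.trans h2).trans ?_
  refine Eq.subst (motive := fun z : ℤ => z ≡ _ [ZMOD p]) (Eq.symm ?_) (Int.ModEq.refl _)
  rw [← finsum_set_coe_eq_finsum_mem, finsum_eq_sum_of_fintype,
    Finset.sum_subtype (F := Fintype.ofFinite _)
      (I.filter fun θ : Cfsg.IrrCharacter N => ¬ p ∣ Cfsg.charDegree (θ : N → ℂ))
      (p := fun θ : Cfsg.IrrCharacter N => (∀ g : G, conjFn g (θ : N → ℂ) = θ) ∧ ¬ p ∣ Cfsg.charDegree (θ : N → ℂ))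
      (fun θ => by simp [hI])]
  let := Fintype.ofFinite {θ : Cfsg.IrrCharacter N // (∀ g : G, conjFn g (θ : N → ℂ) = θ) ∧
    ¬ p ∣ Cfsg.charDegree (θ : N → ℂ)}
  symm
  exact Fintype.sum_equiv e _ _ fun χ => by rw [he]

/-- Thompson: if `p` divides every nonlinear degree there is a normal `p`-complement. -/
theorem coprime_card_pResidual
    (hdeg : ∀ χ : Cfsg.IrrCharacter G, Cfsg.charDegree (χ : G → ℂ) ≠ 1 →
      p ∣ Cfsg.charDegree (χ : G → ℂ)) :
    (Nat.card (Cfsg.pResidual p G)).Coprime p := by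
  classical
  have := Fintype.ofFinite G
  have := Fintype.ofFinite (Cfsg.IrrCharacter G)
  have hfinA : Finite (G →* ℂˣ) :=
    Nat.finite_of_card_ne_zero (by rw [natCard_linear]; exact Subgroup.index_ne_zero_of_finite)
  have hone : ∀ χ ∈ goodSet p G, Cfsg.charDegree (χ : G → ℂ) = 1 := fun χ hχ =>
    by_contra fun h => hχ.1 (hdeg χ h)
  let L : Subgroup (G →* ℂˣ) :=
    { carrier := {l | (orderOf l).Coprime p}
      one_mem' := by simp [Nat.coprime_one_left]
      mul_mem' := fun {a b} (ha : (orderOf a).Coprime p) (hb : (orderOf b).Coprime p) =>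
        show (orderOf (a * b)).Coprime p from
          Nat.Coprime.coprime_dvd_left ((Commute.all a b).orderOf_mul_dvd_mul_orderOf)
            (Nat.Coprime.mul_left ha hb)
      inv_mem' := fun {a} (ha : (orderOf a).Coprime p) =>
        show (orderOf a⁻¹).Coprime p from (show orderOf a⁻¹ = orderOf a from orderOf_inv a).symm ▸ ha }
  have hcard : Nat.card (goodSet p G) = Nat.card L := by
    refine (Nat.card_congr (Equiv.ofBijective (fun l : L =>
      (⟨⟨fun g => ((l : G →* ℂˣ) g : ℂ), isIrrCharacter_linear _⟩, ?_, ?_⟩ : goodSet p G)) ⟨?_, ?_⟩)).symm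
    · simp [Cfsg.charDegree, hp.out.ne_one]
    · obtain ⟨μ, hμ, hμo⟩ := detChar_eq_hom (isIrrCharacter_linear (l : G →* ℂˣ))
      rw [hμo]
      have hμl : μ = (l : G →* ℂˣ) := by
        refine MonoidHom.ext fun g => Units.ext ?_
        let τ : Representation ℂ G (Fin 1 → ℂ) :=
          { toFun := fun g => ((l : G →* ℂˣ) g : ℂ) • 1
            map_one' := by simp
            map_mul' := fun a b => by rw [map_mul, Units.val_mul, smul_mul_smul_comm, one_mul] }
        have hτ : τ.character = fun g => ((l : G →* ℂˣ) g : ℂ) := by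
          funext g
          simp [τ, Representation.character]
        have : τ.IsIrreducible := Clifford.isIrreducible_of_classInner_self τ (by
          rw [hτ]; exact irr_classInner_self (isIrrCharacter_linear _))
        have h1 := detChar_eq τ
        rw [hτ, hμ] at h1
        rw [congrFun h1 g]
        simp [τ, LinearMap.det_smul]
      rw [hμl]
      exact hp.out.coprime_iff_not_dvd.1 (l.2 : (orderOf (l : G →* ℂˣ)).Coprime p).symm
    · intro a b h
      exact Subtype.ext (MonoidHom.ext fun g => Units.ext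
        (congrFun (congrArg (fun z : goodSet p G => (z.1 : G → ℂ)) h) g))
    · rintro ⟨χ, hχ⟩
      obtain ⟨l, hl⟩ := exists_hom_of_degree_one (irr_isCharacter χ.2)
        (by rw [← BlockB.irr_degree_cast, hone χ hχ, Nat.cast_one])
      refine ⟨⟨l, ?_⟩, Subtype.ext (Subtype.ext hl.symm)⟩
      obtain ⟨μ, hμ, hμo⟩ := detChar_eq_hom χ.2
      have hμl : μ = l := by
        refine MonoidHom.ext fun g => Units.ext ?_
        obtain ⟨⟨_, k, τ, hτirr, rfl⟩, h1⟩ : ∃ ψ : Cfsg.IrrCharacter G, (ψ : G → ℂ) = (χ : G → ℂ) :=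
          ⟨χ, rfl⟩
        change τ.character = _ at h1
        have hk : k = 1 := by
          have h2 := congrFun (h1.trans hl) 1
          rw [Representation.char_one, Module.finrank_fin_fun, map_one, Units.val_one] at h2
          exact_mod_cast h2
        subst hk
        have h3 := detChar_eq τ
        rw [h1, hμ] at h3
        rw [congrFun h3 g]
        have h4 := congrFun (h1.trans hl) g
        rw [← h4, Representation.character]
        obtain ⟨c, hc⟩ : ∃ c : ℂ, τ g = c • 1 := by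
          refine ⟨τ g (fun _ => 1) 0, LinearMap.ext fun v => ?_⟩
          have hv : v = v 0 • (fun _ => (1 : ℂ)) := by
            funext i; rw [Subsingleton.elim i 0]; simp
          conv_lhs => rw [hv]
          rw [map_smul]
          funext i
          rw [Subsingleton.elim i 0]
          simp [mul_comm]
        rw [hc]
        simp [LinearMap.det_smul]
      show (orderOf l).Coprime p
      rw [← hμl, ← hμo]
      exact ((hp.out.coprime_iff_not_dvd).2 hχ.2).symm
  have hLp : ¬ p ∣ Nat.card L := fun h => by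
    obtain ⟨x, hx⟩ := exists_prime_orderOf_dvd_card' p h
    have h2 : (orderOf (x : G →* ℂˣ)).Coprime p := x.2
    rw [Subgroup.orderOf_coe, hx, Nat.coprime_self] at h2
    exact hp.out.ne_one h2
  have h := card_pResidual_modEq (G := G) (p := p)
  rw [finsum_mem_congr rfl (g := fun _ => (1 : ℤ)) (fun χ hχ => by rw [hone χ hχ]; norm_num),
    finsum_mem_eq_finite_toFinset_sum _ (goodSet p G).toFinite, Finset.sum_const, nsmul_eq_mul,
    mul_one, ← Set.ncard_eq_toFinset_card, ← Nat.card_coe_set_eq, hcard,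
    Int.natCast_modEq_iff] at h
  exact (hp.out.coprime_iff_not_dvd.2 fun hd => hLp ((h.dvd_iff dvd_rfl).1 hd)).symm

end CfsgLib.BlockA
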