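import Cfsg.Agent.Lib.BlockA.CommutantRank
import Cfsg.Agent.Lib.BlockB.PrincipalLambda
import Cfsg.Agent.Lib.BlockB.InvolutionSum
import Cfsg.Agent.Lib.Block.Blocks
import Cfsg.Agent.Lib.Block.Orthogonality
import Cfsg.Agent.Lib.Block.LamZero
import Cfsg.Agent.Lib.Char.Linear

/-! Restriction from `G` to a normal subgroup `N` of index prime to `p` with `G = N C_G(P)` is a
bijection between the principal blocks. -/

set_option autoImplicit false
set_option linter.unusedSectionVars false

namespace CfsgLib.BlockA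

open Cfsg CfsgLib.Block CfsgLib.BlockB
open scoped ComplexConjugate

universe u

variable {G : Type u} [Group G] [Fintype G] (N : Subgroup G) [N.Normal] [Fintype N]

/-- The conjugates by `N` of an element. -/
noncomputable def subOrbit (c : G) : Finset G := by
  classical exact Finset.univ.image fun n : N => (n : G) * c * (n : G)⁻¹

theorem mem_subOrbit {c a : G} : a ∈ subOrbit N c ↔ ∃ n : N, (n : G) * c * (n : G)⁻¹ = a := by
  classical simp [subOrbit]

theorem subOrbit_conj {c a : G} (x : N) (h : a ∈ subOrbit N c) :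
    (x : G) * a * (x : G)⁻¹ ∈ subOrbit N c := by
  rw [mem_subOrbit] at h ⊢
  obtain ⟨n, rfl⟩ := h
  exact ⟨x * n, by simp [mul_assoc]⟩

theorem mk_subOrbit {c a : G} (h : a ∈ subOrbit N c) : (a : G ⧸ N) = c := by
  rw [mem_subOrbit] at h
  obtain ⟨n, rfl⟩ := h
  rw [QuotientGroup.mk_mul, QuotientGroup.mk_mul, QuotientGroup.mk_inv,
    (QuotientGroup.eq_one_iff (n : G)).2 n.2, one_mul, inv_one, mul_one]

theorem not_dvd_card_subOrbit {p : ℕ} [Fact p.Prime] (P : Sylow p G)
    (hPN : (P : Subgroup G) ≤ N) {c : G}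
    (hc : c ∈ Subgroup.centralizer ((P : Subgroup G) : Set G)) : ¬ p ∣ (subOrbit N c).card := by
  classical
  set S : Subgroup N := (Subgroup.centralizer ({c} : Set G)).subgroupOf N with hS
  have hcard : (subOrbit N c).card * Nat.card S = Nat.card N := by
    rw [Nat.card_eq_fintype_card (α := N), ← Finset.card_univ, Finset.card_eq_sum_card_fiberwise
      (f := fun n : N => (n : G) * c * (n : G)⁻¹) (t := subOrbit N c)
      fun n _ => (mem_subOrbit N).2 ⟨n, rfl⟩]
    rw [Finset.sum_congr rfl (g := fun _ => Nat.card S) fun a ha => ?_, Finset.sum_const,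
      smul_eq_mul]
    obtain ⟨n₀, rfl⟩ := (mem_subOrbit N).1 ha
    rw [← Nat.card_eq_finsetCard]
    refine Nat.card_congr ⟨fun n => ⟨n₀⁻¹ * n.1, ?_⟩, fun s => ⟨n₀ * s.1, ?_⟩,
      fun n => Subtype.ext (mul_inv_cancel_left _ _),
      fun s => Subtype.ext (inv_mul_cancel_left _ _)⟩
    · have h := (Finset.mem_filter.1 n.2).2
      rw [hS, Subgroup.mem_subgroupOf, Subgroup.mem_centralizer_singleton_iff, Subgroup.coe_mul,
        Subgroup.coe_inv]
      calc ((n₀ : G)⁻¹ * n.1) * c = (n₀ : G)⁻¹ * ((n.1 : G) * c * (n.1 : G)⁻¹) * n.1 := by group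
        _ = (n₀ : G)⁻¹ * ((n₀ : G) * c * (n₀ : G)⁻¹) * n.1 := by rw [h]
        _ = c * ((n₀ : G)⁻¹ * n.1) := by group
    · have h : ((s.1 : N) : G) * c = c * (s.1 : G) :=
        Subgroup.mem_centralizer_singleton_iff.1 s.2
      refine Finset.mem_filter.2 ⟨Finset.mem_univ _, ?_⟩
      rw [Subgroup.coe_mul]
      calc (n₀ : G) * s.1 * c * ((n₀ : G) * s.1)⁻¹
          = (n₀ : G) * ((s.1 : G) * c) * ((n₀ : G) * s.1)⁻¹ := by group
        _ = (n₀ : G) * c * (n₀ : G)⁻¹ := by rw [h]; group
  have hidx : (subOrbit N c).card = S.index := by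
    rw [← S.card_mul_index, mul_comm] at hcard
    exact Nat.eq_of_mul_eq_mul_left Nat.card_pos hcard
  rw [hidx]
  intro hd
  have hle : (P : Subgroup G).subgroupOf N ≤ S := fun x hx => by
    rw [Subgroup.mem_subgroupOf] at hx
    rw [hS, Subgroup.mem_subgroupOf, Subgroup.mem_centralizer_singleton_iff]
    exact Subgroup.mem_centralizer_iff.1 hc _ hx
  refine P.not_dvd_index (hd.trans ((Subgroup.index_dvd_of_le hle).trans ?_))
  exact Dvd.intro _ (Subgroup.relIndex_mul_index hPN)

/-- A function constant on the left cosets of `N` summed over the group. -/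
theorem sum_eq_sum_out [Fintype (G ⧸ N)] (F : G → ℂ)
    (hF : ∀ g : G, ∀ n : N, F (g * n) = F g) :
    ∑ g : G, F g = (Nat.card N : ℂ) * ∑ q : G ⧸ N, F q.out := by
  classical
  rw [← Finset.sum_fiberwise Finset.univ (QuotientGroup.mk : G → G ⧸ N), Finset.mul_sum]
  refine Finset.sum_congr rfl fun q _ => ?_
  rw [Finset.sum_congr rfl (g := fun _ => F q.out) fun g hg => ?_, Finset.sum_const, nsmul_eq_mul]
  · congr 2
    rw [← Nat.card_eq_finsetCard]
    refine Nat.card_congr ⟨fun g => ⟨q.out⁻¹ * g.1, QuotientGroup.eq.1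
        ((QuotientGroup.out_eq' q).trans (Finset.mem_filter.1 g.2).2.symm)⟩,
      fun n => ⟨q.out * (n : G), Finset.mem_filter.2 ⟨Finset.mem_univ _, by
        rw [QuotientGroup.mk_mul, (QuotientGroup.eq_one_iff (n : G)).2 n.2, mul_one,
          QuotientGroup.out_eq']⟩⟩,
      fun g => Subtype.ext (mul_inv_cancel_left _ _),
      fun n => Subtype.ext (inv_mul_cancel_left _ _)⟩
  · have hm : q.out⁻¹ * g ∈ N :=
      QuotientGroup.eq.1 ((QuotientGroup.out_eq' q).trans (Finset.mem_filter.1 hg).2.symm)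
    simpa using hF q.out ⟨_, hm⟩

theorem indFun_apply_eq_sum_out [Fintype (G ⧸ N)] {θ : N → ℂ} (hθ : IsClassFunction N θ) (n : N) :
    indFun N θ (n : G) = ∑ q : G ⧸ N, θ (MulAut.conjNormal q.out⁻¹ n) := by
  rw [indFun_apply_normal, sum_eq_sum_out N, inv_mul_cancel_left₀ CfsgLib.Char.natCard_ne_zero]
  intro g m
  have e : MulAut.conjNormal (g * (m : G))⁻¹ n = m⁻¹ * MulAut.conjNormal g⁻¹ n * m⁻¹⁻¹ :=
    Subtype.ext (by simp [mul_assoc])
  rw [e]
  exact hθ _ _

theorem indFun_apply_of_not_mem (θ : N → ℂ) {g : G} (hg : g ∉ N) : indFun N θ g = 0 := by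
  rw [CfsgLib.Char.indFun_def, Finset.sum_eq_zero, mul_zero]
  intro x _
  refine CfsgLib.Char.extendByZero_of_not_mem _ fun h => hg ?_
  have := (inferInstance : N.Normal).conj_mem _ h x
  simpa [mul_assoc] using this

theorem sum_blockCoeff_mul_irr (B : Set (IrrCharacter G)) [DecidablePred (· ∈ B)]
    (χ : IrrCharacter G) (x : G) :
    ∑ g : G, blockCoeff B g * (χ : G → ℂ) (g * x) = if χ ∈ B then (χ : G → ℂ) x else 0 := by
  have h := chiExt_mul_central χ.2 1 (blockSum_isClassCoeff B) x
  rw [one_mul, chiExt_one, omegaC_blockSum, chiExt_eq] at h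
  simp only [blockSum, coeff_mkGA] at h
  rw [h]
  split_ifs <;> simp

variable {p : ℕ} [Fact p.Prime] {M : Ideal AlgInt}

/-- Sums of local integral class functions against a member of the principal block. -/
theorem memLocalIdeal_sum_sub (hM : IsPModular p M) {Y : N → ℂ} (hY : IsClassFunction N Y)
    (hYR : ∀ n, MemLocalRing M (Y n)) {θ : IrrCharacter N} (hθ : θ ∈ principalBlock M N) :
    MemLocalIdeal M ((∑ n : N, Y n * (θ : N → ℂ) n) / (θ : N → ℂ) 1 - ∑ n : N, Y n) := by
  have := hM.2.1.isPrime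
  have := Finite.of_surjective _ (ConjClasses.mk_surjective (α := N))
  have := Fintype.ofFinite (ConjClasses N)
  rw [sum_eq_sum_conjClasses (F := fun n => Y n * (θ : N → ℂ) n) (fun a b => by
      simp only [hY a b, CfsgLib.Char.irr_isClassFunction θ.2 a b]),
    sum_eq_sum_conjClasses hY, Finset.sum_div, ← Finset.sum_sub_distrib]
  refine memLocalIdeal_sum _ _ fun C _ => ?_
  have h := memLocalIdeal_mul_left (hYR (Quotient.out C)) (hθ (Quotient.out C))
  convert memLocalIdeal_neg h using 1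
  simp only [centralChar]
  ring

/-- The pairing matrix of a class function `k` on `G`, read through `θ`. -/
noncomputable def pairMatrix (c : G ⧸ N → G) (k : G → ℂ) (θ : N → ℂ) :
    Matrix (G ⧸ N) (G ⧸ N) ℂ :=
  Matrix.of fun q q' => (∑ a ∈ subOrbit N (c q'), ∑ b ∈ subOrbit N (c q),
    ∑ g : G, k g * indFun N θ (g * (a * b⁻¹))) / ((Nat.card (G ⧸ N) : ℂ) * θ 1)

theorem pairMatrix_congr (hM : IsPModular p M) (hidx : ¬ p ∣ N.index) (c : G ⧸ N → G)
    {k : G → ℂ} (hk : IsClassFunction G k) (hkR : ∀ g, MemLocalRing M (k g))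
    {θ : IrrCharacter N} (hθ : θ ∈ principalBlock M N) (q q' : G ⧸ N) :
    MemLocalIdeal M (pairMatrix N c k (θ : N → ℂ) q q' -
      pairMatrix N c k (fun _ : N => 1) q q') ∧
    MemLocalRing M (pairMatrix N c k (fun _ : N => 1) q q') := by
  classical
  have := hM.2.1.isPrime
  have := Fintype.ofFinite (G ⧸ N)
  let Y : N → ℂ := fun n => ∑ a ∈ subOrbit N (c q'), ∑ b ∈ subOrbit N (c q),
    k ((n : G) * (a * b⁻¹)⁻¹)
  have hYR : ∀ n, MemLocalRing M (Y n) := fun n =>
    memLocalRing_sum _ _ fun a _ => memLocalRing_sum _ _ fun b _ => hkR _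
  have hY : IsClassFunction N Y := by
    intro n x
    refine Finset.sum_bij' (fun a _ => (x : G)⁻¹ * a * x) (fun a _ => (x : G) * a * (x : G)⁻¹)
      (fun a ha => by simpa using subOrbit_conj N x⁻¹ ha) (fun a ha => subOrbit_conj N x ha)
      (fun a _ => by group) (fun a _ => by group) fun a _ => ?_
    refine Finset.sum_bij' (fun a _ => (x : G)⁻¹ * a * x) (fun a _ => (x : G) * a * (x : G)⁻¹)
      (fun a ha => by simpa using subOrbit_conj N x⁻¹ ha) (fun a ha => subOrbit_conj N x ha)
      (fun a _ => by group) (fun a _ => by group) fun b _ => ?_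
    rw [← hk ((n : G) * ((x : G)⁻¹ * a * x * ((x : G)⁻¹ * b * x)⁻¹)⁻¹) (x : G)]
    congr 1
    simp only [Subgroup.coe_mul, Subgroup.coe_inv]
    group
  have hmain : ∀ η : N → ℂ, IsClassFunction N η →
      ∑ a ∈ subOrbit N (c q'), ∑ b ∈ subOrbit N (c q),
        ∑ g : G, k g * indFun N η (g * (a * b⁻¹)) =
      ∑ r : G ⧸ N, ∑ n : N, Y n * η (MulAut.conjNormal r.out⁻¹ n) := by
    intro η hη
    have h1 : ∀ y : G, ∑ g : G, k g * indFun N η (g * y) =
        ∑ n : N, k ((n : G) * y⁻¹) * indFun N η (n : G) := by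
      intro y
      rw [← Equiv.sum_comp (Equiv.mulRight y⁻¹) (fun g => k g * indFun N η (g * y))]
      simp only [Equiv.coe_mulRight, inv_mul_cancel_right]
      rw [← Finset.sum_subtype (Finset.univ.filter (· ∈ N)) (by simp)
        (fun g : G => k (g * y⁻¹) * indFun N η g), Finset.sum_filter]
      refine Finset.sum_congr rfl fun g _ => ?_
      split_ifs with h
      · rfl
      · rw [indFun_apply_of_not_mem N η h, mul_zero]
    simp only [h1]
    calc _ = ∑ n : N, Y n * indFun N η (n : G) := by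
          simp only [Y, Finset.sum_mul]
          rw [Finset.sum_comm (s := (Finset.univ : Finset N))]
          refine Finset.sum_congr rfl fun a _ => ?_
          rw [Finset.sum_comm (s := (Finset.univ : Finset N))]
      _ = _ := by
          simp only [indFun_apply_eq_sum_out N hη, Finset.mul_sum]
          exact Finset.sum_comm
  have hcard : MemLocalRing M ((Nat.card (G ⧸ N) : ℂ))⁻¹ :=
    memLocalRing_inv_natCast hM hidx
  have hone : pairMatrix N c k (fun _ : N => 1) q q' = ∑ n : N, Y n := by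
    rw [pairMatrix, Matrix.of_apply, hmain _ (fun _ _ => rfl)]
    simp only [mul_one, Finset.sum_const, Finset.card_univ, nsmul_eq_mul,
      ← Nat.card_eq_fintype_card]
    exact mul_div_cancel_left₀ _ CfsgLib.Char.natCard_ne_zero
  refine ⟨?_, hone ▸ memLocalRing_sum _ _ fun n _ => hYR n⟩
  have hdiff : pairMatrix N c k (θ : N → ℂ) q q' - pairMatrix N c k (fun _ : N => 1) q q' =
      (Nat.card (G ⧸ N) : ℂ)⁻¹ * ∑ r : G ⧸ N,
        ((∑ n : N, Y n * (θ : N → ℂ) (MulAut.conjNormal r.out⁻¹ n)) / (θ : N → ℂ) 1 -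
          ∑ n : N, Y n) := by
    rw [Finset.sum_sub_distrib, mul_sub, ← Finset.sum_div, Finset.sum_const, Finset.card_univ,
      nsmul_eq_mul, ← Nat.card_eq_fintype_card,
      inv_mul_cancel_left₀ CfsgLib.Char.natCard_ne_zero, hone]
    congr 1
    rw [pairMatrix, Matrix.of_apply, hmain _ (CfsgLib.Char.irr_isClassFunction θ.2), div_mul_eq_div_div,
      inv_mul_eq_div, div_right_comm]
  rw [hdiff]
  refine memLocalIdeal_mul_left hcard (memLocalIdeal_sum _ _ fun r _ => ?_)
  have e1 : ∀ n : N, (conjIrr N θ r.out⁻¹ : N → ℂ) n =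
      (θ : N → ℂ) (MulAut.conjNormal r.out⁻¹ n) := fun n => by
    rw [conjIrr_apply]
    exact congrArg _ (Subtype.ext (by simp [MulAut.conjNormal_apply]))
  have h := memLocalIdeal_sum_sub N hM hY hYR (conjIrr_mem_principalBlock N hM hθ r.out⁻¹)
  simp only [e1] at h
  simpa using h

theorem pairMatrix_one_one (c : G ⧸ N → G) (hc : ∀ q, (c q : G ⧸ N) = q) [DecidableEq (G ⧸ N)]
    [DecidablePred (fun g : G => g = 1)] (q q' : G ⧸ N) :
    pairMatrix N c (fun g : G => if g = 1 then 1 else 0) (fun _ : N => 1) q q' =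
      if q = q' then ((subOrbit N (c q)).card : ℂ) * (subOrbit N (c q')).card else 0 := by
  classical
  have := Fintype.ofFinite (G ⧸ N)
  have hone : ∀ n : N, indFun N (fun _ : N => (1 : ℂ)) (n : G) = (Nat.card (G ⧸ N) : ℂ) :=
    fun n => by
      rw [indFun_apply_eq_sum_out N (fun _ _ => rfl)]
      simp [Nat.card_eq_fintype_card]
  rw [pairMatrix, Matrix.of_apply]
  have hval : ∀ a ∈ subOrbit N (c q'), ∀ b ∈ subOrbit N (c q),
      ∑ g : G, (if g = 1 then (1 : ℂ) else 0) * indFun N (fun _ : N => (1 : ℂ)) (g * (a * b⁻¹)) =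
        if q = q' then (Nat.card (G ⧸ N) : ℂ) else 0 := by
    intro a ha b hb
    rw [Finset.sum_eq_single 1 (fun x _ hx => by simp [hx]) (by simp), if_pos rfl, one_mul, one_mul]
    have hmk : ((a * b⁻¹ : G) : G ⧸ N) = q' * q⁻¹ := by
      rw [QuotientGroup.mk_mul, QuotientGroup.mk_inv, mk_subOrbit N ha, mk_subOrbit N hb, hc, hc]
    by_cases h : q = q'
    · rw [if_pos h]
      have hm : a * b⁻¹ ∈ N := by
        rw [← QuotientGroup.eq_one_iff, hmk, h, mul_inv_cancel]
      exact hone ⟨_, hm⟩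
    · rw [if_neg h]
      refine indFun_apply_of_not_mem N _ fun hm => h ?_
      rw [← QuotientGroup.eq_one_iff, hmk, mul_inv_eq_one] at hm
      exact hm.symm
  rw [Finset.sum_congr rfl fun a ha => Finset.sum_congr rfl fun b hb => hval a ha b hb]
  simp only [Finset.sum_const, nsmul_eq_mul, mul_one]
  have hQ : (Nat.card (G ⧸ N) : ℂ) ≠ 0 := CfsgLib.Char.natCard_ne_zero
  split_ifs
  · field_simp
  · simp

/-- The only member of the principal block over the principal character of `N` is principal. -/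
theorem eq_one_of_over_one (hM : IsPModular p M) (hidx : ¬ p ∣ N.index) (P : Sylow p G)
    (hsup : N ⊔ Subgroup.centralizer ((P : Subgroup G) : Set G) = ⊤) {χ : IrrCharacter G}
    (hχ : χ ∈ principalBlock M G)
    (h : classInner (fun n : N => (χ : G → ℂ) n) (fun _ : N => 1) ≠ 0) :
    (χ : G → ℂ) = fun _ => 1 := by
  classical
  have := hM.2.1.isPrime
  have := Fintype.ofFinite (G ⧸ N)
  have := Fintype.ofFinite (IrrCharacter N)
  let t : IrrCharacter N := ⟨fun _ => 1, CfsgLib.Char.isIrrCharacter_one⟩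
  have hcl : IsClassFunction N (fun n : N => (χ : G → ℂ) n) :=
    CfsgLib.Char.isCharacter_isClassFunction
      (CfsgLib.Char.isCharacter_restrict (CfsgLib.Char.irr_isCharacter χ.2) N)
  have hker : ∀ n ∈ N, (χ : G → ℂ) n = (χ : G → ℂ) 1 := by
    have hexp : ∀ n : N, (χ : G → ℂ) n = classInner (fun n : N => (χ : G → ℂ) n) (t : N → ℂ) := by
      intro n
      refine (CfsgLib.Char.classFunction_apply_eq_sum hcl n).trans ((Finset.sum_eq_single t ?_
        (by simp)).trans (mul_one _))
      intro φ _ hne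
      by_contra hφ
      obtain ⟨g, hg⟩ := exists_conj_of_constituents N χ.2 φ.2 t.2 (left_ne_zero_of_mul hφ) h
      exact hne (Subtype.ext (hg.trans (funext fun _ => rfl)))
    intro n hn
    exact (hexp ⟨n, hn⟩).trans (hexp 1).symm
  obtain ⟨ψ, hψ, hψχ⟩ := CfsgLib.Char.isIrr_quotient_lift N χ.2 hker
  by_contra hne
  have hψ1 : ψ ≠ fun _ => 1 := fun e => hne (by rw [hψχ, e]; rfl)
  have h0 := CfsgLib.Char.irr_classInner_ne hψ CfsgLib.Char.isIrrCharacter_one hψ1
  rw [CfsgLib.Char.classInner_def] at h0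
  simp only [map_one, mul_one] at h0
  have hsum : ∑ q : G ⧸ N, ψ q = 0 :=
    (mul_eq_zero.1 h0).resolve_left (inv_ne_zero CfsgLib.Char.natCard_ne_zero)
  have hd : ψ 1 ≠ 0 := CfsgLib.Char.irr_apply_one_ne_zero hψ
  have hr : ∀ q : G ⧸ N, MemLocalIdeal M (ψ q / ψ 1 - 1) := by
    intro q
    obtain ⟨g, rfl⟩ := QuotientGroup.mk_surjective q
    obtain ⟨n, hn, x, hx, rfl⟩ : ∃ n ∈ N, ∃ x ∈ Subgroup.centralizer ((P : Subgroup G) : Set G),
        n * x = g := Subgroup.mem_sup_of_normal_left.1 (hsup ▸ Subgroup.mem_top g)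
    rw [QuotientGroup.mk_mul, (QuotientGroup.eq_one_iff n).2 hn, one_mul]
    have hp' : ¬ p ∣ (Subgroup.centralizer ({x} : Set G)).index := fun hd =>
      P.not_dvd_index (hd.trans (Subgroup.index_dvd_of_le fun y hy =>
        Subgroup.mem_centralizer_singleton_iff.2 (Subgroup.mem_centralizer_iff.1 hx y hy)))
    set i : ℂ := ((Subgroup.centralizer ({x} : Set G)).index : ℂ) with hi
    have hix := hχ x
    rw [centralChar, centralChar, hψχ] at hix
    simp only [Function.comp_apply, map_one, QuotientGroup.mk'_apply] at hix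
    have := memLocalIdeal_neg (memLocalIdeal_mul_left (memLocalRing_inv_natCast hM hp') hix)
    rw [← hi] at this
    convert this using 1
    have hi0 : i ≠ 0 := by
      rw [hi]; exact_mod_cast fun h => hp' (by rw [h]; exact dvd_zero p)
    field_simp
    ring
  have hall := memLocalIdeal_sum (Finset.univ : Finset (G ⧸ N)) _ fun q _ => hr q
  rw [Finset.sum_sub_distrib, ← Finset.sum_div, hsum, zero_div, zero_sub, Finset.sum_const,
    Finset.card_univ, nsmul_eq_mul, mul_one, ← Nat.card_eq_fintype_card] at hall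
  have := memLocalIdeal_neg hall
  rw [neg_neg, memLocalIdeal_natCast_iff hM] at this
  exact hidx this

/-- Reduction of a matrix with local entries. -/
theorem det_ne_zero_of_red [M.IsPrime] {m : Type*} [Fintype m] [DecidableEq m]
    (A : Matrix m m ℂ) (hA : ∀ i j, MemLocalRing M (A i j))
    (h : (Matrix.of fun i j => redC M (A i j)).det ≠ 0) : A.det ≠ 0 := by
  let A' : Matrix m m (lring M) := Matrix.of fun i j => ⟨A i j, hA i j⟩
  have e1 : A = (lring M).subtype.mapMatrix A' := rfl
  have e2 : (Matrix.of fun i j => redC M (A i j)) = (red M).mapMatrix A' := by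
    ext i j
    exact redC_eq (hA i j)
  rw [e2, ← RingHom.map_det] at h
  rw [e1, ← RingHom.map_det]
  intro h0
  have : A'.det = 0 := Subtype.ext h0
  exact h (by rw [this, map_zero])

/-- Exactly one member of the principal block of `G` lies over a member of that of `N`, and it
restricts to it. -/
theorem existsUnique_over (hM : IsPModular p M) (hidx : ¬ p ∣ N.index) (P : Sylow p G)
    (hsup : N ⊔ Subgroup.centralizer ((P : Subgroup G) : Set G) = ⊤) {θ : IrrCharacter N}
    (hθ : θ ∈ principalBlock M N) :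
    ∃ χ : IrrCharacter G, χ ∈ principalBlock M G ∧ (fun n : N => (χ : G → ℂ) n) = (θ : N → ℂ) ∧
      ∀ χ' ∈ principalBlock M G,
        classInner (fun n : N => (χ' : G → ℂ) n) (θ : N → ℂ) ≠ 0 → χ' = χ := by
  classical
  have := hM.2.1.isPrime
  have hp : p.Prime := Fact.out
  have := charP_kres hM
  have := Fintype.ofFinite (G ⧸ N)
  have := Fintype.ofFinite (IrrCharacter G)
  have hPN : (P : Subgroup G) ≤ N := by
    intro x hx
    rw [← QuotientGroup.eq_one_iff, ← orderOf_eq_one_iff]
    obtain ⟨j, hj⟩ := P.2 ⟨x, hx⟩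
    have hj' : x ^ p ^ j = 1 := congrArg Subtype.val hj
    refine Nat.eq_one_of_dvd_coprimes ((hp.coprime_iff_not_dvd.2 hidx).pow_left j)
      ((orderOf_map_dvd (QuotientGroup.mk' N) x).trans (orderOf_dvd_of_pow_eq_one hj')) ?_
    rw [Subgroup.index_eq_card]
    exact orderOf_dvd_natCard _
  have hexc : ∀ q : G ⧸ N, ∃ x ∈ Subgroup.centralizer ((P : Subgroup G) : Set G),
      (x : G ⧸ N) = q := by
    intro q
    obtain ⟨g, rfl⟩ := QuotientGroup.mk_surjective q
    obtain ⟨n, hn, x, hx, rfl⟩ := Subgroup.mem_sup_of_normal_left.1 (hsup ▸ Subgroup.mem_top g)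
    exact ⟨x, hx, by rw [QuotientGroup.mk_mul, (QuotientGroup.eq_one_iff n).2 hn, one_mul]⟩
  choose c hcP hc using hexc
  set u : G ⧸ N → ℂ := fun q => ((subOrbit N (c q)).card : ℂ) with hu
  set B := principalBlock M G with hB
  set kA : G → ℂ := fun g => if g = 1 then 1 else 0 with hkA
  have hkAc : IsClassFunction G kA := fun g x => by
    have : x * g * x⁻¹ = 1 ↔ g = 1 := by simp [mul_inv_eq_one]
    simp only [hkA, this]
  have hkAR : ∀ g, MemLocalRing M (kA g) := fun g => by
    simp only [hkA]; split_ifs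
    · exact (lring M).one_mem
    · exact (lring M).zero_mem
  have hkBc : IsClassFunction G (blockCoeff B) := fun g x => by
    have h := blockSum_isClassCoeff B g x
    simp only [blockSum, coeff_mkGA] at h
    exact h
  have hkBR : ∀ g, MemLocalRing M (blockCoeff B g) :=
    fun g => blockCoeff_memLocalRing hM isPBlock_principalBlock g
  let W : IrrCharacter G → Matrix (G ⧸ N) (G ⧸ N) ℂ := fun χ => Matrix.of fun q q' =>
    ∑ a ∈ subOrbit N (c q'), ∑ b ∈ subOrbit N (c q), (χ : G → ℂ) (a * b⁻¹)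
  have hexp : ∀ {η : N → ℂ}, IsCharacter N η → ∀ k : G → ℂ, ∀ s : IrrCharacter G → ℂ,
      (∀ (χ : IrrCharacter G) (x : G),
        ∑ g : G, k g * (χ : G → ℂ) (g * x) = s χ * (χ : G → ℂ) x) →
      pairMatrix N c k η = ∑ χ : IrrCharacter G, (classInner (indFun N η) (χ : G → ℂ) * s χ /
        ((Nat.card (G ⧸ N) : ℂ) * η 1)) • W χ := by
    intro η hη k s hs
    ext q q'
    have hind := CfsgLib.Char.classFunction_apply_eq_sum
      (CfsgLib.Char.indFun_isClassFunction N η)
    have h1 : ∀ x : G, ∑ g : G, k g * indFun N η (g * x) = ∑ χ : IrrCharacter G,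
        classInner (indFun N η) (χ : G → ℂ) * s χ * (χ : G → ℂ) x := by
      intro x
      simp only [hind, Finset.mul_sum]
      rw [Finset.sum_comm]
      refine Finset.sum_congr rfl fun χ _ => ?_
      rw [mul_assoc, ← hs χ x, Finset.mul_sum]
      exact Finset.sum_congr rfl fun g _ => by ring
    simp only [pairMatrix, Matrix.of_apply, h1, Matrix.sum_apply, Matrix.smul_apply, smul_eq_mul,
      W, Finset.mul_sum, Finset.sum_div]
    rw [Finset.sum_comm (s := (Finset.univ : Finset (IrrCharacter G)))]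
    refine Finset.sum_congr rfl fun a _ => ?_
    rw [Finset.sum_comm (s := (Finset.univ : Finset (IrrCharacter G)))]
    refine Finset.sum_congr rfl fun b _ => Finset.sum_congr rfl fun χ _ => ?_
    ring
  have hsA : ∀ (χ : IrrCharacter G) (x : G),
      ∑ g : G, kA g * (χ : G → ℂ) (g * x) = 1 * (χ : G → ℂ) x := fun χ x => by simp [hkA]
  have hsB : ∀ (χ : IrrCharacter G) (x : G), ∑ g : G, blockCoeff B g * (χ : G → ℂ) (g * x) =
      (if χ ∈ B then 1 else 0) * (χ : G → ℂ) x := fun χ x => by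
    rw [sum_blockCoeff_mul_irr, ite_mul, one_mul, zero_mul]
  -- the matrices of the principal character
  have hB1 : ∀ q q', pairMatrix N c (blockCoeff B) (fun _ : N => 1) q q' =
      u q * u q' / (Nat.card (G ⧸ N) : ℂ) := by
    intro q q'
    rw [hexp (CfsgLib.Char.irr_isCharacter CfsgLib.Char.isIrrCharacter_one) _ _ hsB,
      Finset.sum_eq_single (⟨fun _ => 1, CfsgLib.Char.isIrrCharacter_one⟩ : IrrCharacter G)]
    · have h1 : classInner (indFun N (fun _ : N => (1 : ℂ))) (fun _ : G => 1) = 1 := by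
        rw [CfsgLib.Char.frobenius_reciprocity N _ _ (fun _ _ => rfl)]
        exact CfsgLib.Char.irr_classInner_self (CfsgLib.Char.isIrrCharacter_one (G := N))
      rw [h1, if_pos (hB ▸ one_mem_principalBlock)]
      simp [W, hu, div_eq_inv_mul, mul_comm, mul_left_comm]
    · intro χ _ hne
      by_cases hχ : χ ∈ B
      · have h0 : classInner (indFun N (fun _ : N => (1 : ℂ))) (χ : G → ℂ) = 0 := by
          rw [CfsgLib.Char.frobenius_reciprocity N _ _ (CfsgLib.Char.irr_isClassFunction χ.2),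
            ← CfsgLib.Char.classInner_conj_symm]
          by_contra h
          exact hne (Subtype.ext (eq_one_of_over_one N hM hidx P hsup hχ
            (fun h' => h (by rw [h', map_zero]))))
        simp [h0]
      · simp [hχ]
    · simp
  have hA1 : ∀ q q', pairMatrix N c kA (fun _ : N => 1) q q' =
      if q = q' then u q * u q' else 0 := pairMatrix_one_one N c hc
  have hu0 : ∀ q, redC M (u q) ≠ 0 := fun q => by
    rw [hu, Ne, redC_eq_zero_iff (memLocalRing_natCast _), memLocalIdeal_natCast_iff hM]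
    exact not_dvd_card_subOrbit N P hPN (hcP q)
  have huR : ∀ q, MemLocalRing M (u q) := fun q => memLocalRing_natCast _
  have hQR : MemLocalRing M ((Nat.card (G ⧸ N) : ℂ))⁻¹ := memLocalRing_inv_natCast hM hidx
  have hQ0 : redC M ((Nat.card (G ⧸ N) : ℂ))⁻¹ * (Nat.card (G ⧸ N) : kres M) = 1 := by
    rw [← redC_natCast, ← redC_mul hQR (memLocalRing_natCast _),
      inv_mul_cancel₀ CfsgLib.Char.natCard_ne_zero, redC_one]
  set E := pairMatrix N c (blockCoeff B) (θ : N → ℂ) with hE
  set D := pairMatrix N c kA (θ : N → ℂ) with hD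
  have hER : ∀ q q', MemLocalRing M (E q q') ∧
      redC M (E q q') = redC M ((Nat.card (G ⧸ N) : ℂ))⁻¹ * (redC M (u q) * redC M (u q')) := by
    intro q q'
    obtain ⟨h1, h2⟩ := pairMatrix_congr N hM hidx c hkBc hkBR hθ q q'
    rw [← hE] at h1
    have h3 : MemLocalRing M (E q q') := by
      simpa using memLocalRing_add (memLocalRing_of_memLocalIdeal h1) h2
    refine ⟨h3, ?_⟩
    rw [(redC_eq_iff h3 h2).2 h1, hB1, div_eq_inv_mul,
      redC_mul hQR (memLocalRing_mul (huR q) (huR q')), redC_mul (huR q) (huR q')]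
  have hDR : ∀ q q', MemLocalRing M (D q q') ∧
      redC M (D q q') = if q = q' then redC M (u q) * redC M (u q') else 0 := by
    intro q q'
    obtain ⟨h1, h2⟩ := pairMatrix_congr N hM hidx c hkAc hkAR hθ q q'
    rw [← hD] at h1
    have h3 : MemLocalRing M (D q q') := by
      simpa using memLocalRing_add (memLocalRing_of_memLocalIdeal h1) h2
    refine ⟨h3, ?_⟩
    rw [(redC_eq_iff h3 h2).2 h1, hA1]
    split_ifs
    · rw [redC_mul (huR q) (huR q')]
    · exact redC_zero
  -- lower bounds for the ranks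
  have hErank : 1 ≤ E.rank := by
    refine matrix_rank_pos (i := 1) (j := 1) fun h0 => ?_
    have h := (hER 1 1).2
    rw [h0, redC_zero] at h
    refine mul_ne_zero ?_ (mul_ne_zero (hu0 1) (hu0 1)) h.symm
    exact fun h' => zero_ne_one (by rw [h', zero_mul] at hQ0; exact hQ0)
  have hDErank : Nat.card (G ⧸ N) - 1 ≤ (D - E).rank := by
    let ι := {q : G ⧸ N // q ≠ 1}
    refine le_trans ?_ ((D - E).rank_submatrix_le (Subtype.val : ι → G ⧸ N) (Subtype.val : ι → G ⧸ N))
    rw [Matrix.rank_of_det_ne_zero]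
    · rw [Fintype.card_subtype_compl, Fintype.card_subtype_eq, Nat.card_eq_fintype_card]
    refine det_ne_zero_of_red _ (fun i j => (lring M).sub_mem (hDR i j).1 (hER i j).1) ?_
    set w := redC M ((Nat.card (G ⧸ N) : ℂ))⁻¹ with hw
    have e : (Matrix.of fun i j : ι => redC M
        ((D - E).submatrix (Subtype.val : ι → G ⧸ N) (Subtype.val : ι → G ⧸ N) i j)) =
        Matrix.of fun i j : ι => (if i = j then redC M (u i.1) * redC M (u j.1) else 0) -
          w * (redC M (u i.1) * redC M (u j.1)) := by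
      ext i j
      have hsub : redC M (D i.1 j.1 - E i.1 j.1) = redC M (D i.1 j.1) - redC M (E i.1 j.1) := by
        rw [eq_sub_iff_add_eq, ← redC_add ((lring M).sub_mem (hDR _ _).1 (hER _ _).1) (hER _ _).1,
          sub_add_cancel]
      simp only [Matrix.of_apply, Matrix.submatrix_apply, Matrix.sub_apply, hsub, (hDR _ _).2,
        (hER _ _).2, Subtype.coe_inj]
    rw [e, det_diagonal_sub_rankOne]
    refine mul_ne_zero (pow_ne_zero _ (Finset.prod_ne_zero_iff.2 fun i _ => hu0 _)) ?_
    rw [Fintype.card_subtype_compl, Fintype.card_subtype_eq,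
      Nat.cast_sub Fintype.card_pos, Nat.cast_one, sub_mul, one_mul, ← Nat.card_eq_fintype_card,
      mul_comm (Nat.card (G ⧸ N) : kres M), hQ0, sub_sub_cancel]
    exact fun h' => zero_ne_one (by rw [h', zero_mul] at hQ0; exact hQ0)
  -- upper bounds
  choose m hm using fun χ : IrrCharacter G =>
    CfsgLib.Char.classInner_isCharacter_nat
      (CfsgLib.Char.isCharacter_restrict (CfsgLib.Char.irr_isCharacter χ.2) N)
      (CfsgLib.Char.irr_isCharacter θ.2)
  choose d hd using fun χ : IrrCharacter G =>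
    CfsgLib.Char.classInner_isCharacter_nat
      (CfsgLib.Char.isCharacter_restrict (CfsgLib.Char.irr_isCharacter χ.2) N)
      (CfsgLib.Char.isCharacter_restrict (CfsgLib.Char.irr_isCharacter χ.2) N)
  have hmi : ∀ χ : IrrCharacter G, classInner (indFun N (θ : N → ℂ)) (χ : G → ℂ) = m χ := by
    intro χ
    rw [CfsgLib.Char.frobenius_reciprocity N _ _ (CfsgLib.Char.irr_isClassFunction χ.2),
      ← CfsgLib.Char.classInner_conj_symm, hm, Complex.conj_natCast]
  have hθ1 : (θ : N → ℂ) 1 ≠ 0 := CfsgLib.Char.irr_apply_one_ne_zero θ.2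
  have hDexp := hexp (CfsgLib.Char.irr_isCharacter θ.2) _ _ hsA
  have hEexp := hexp (CfsgLib.Char.irr_isCharacter θ.2) _ _ hsB
  rw [← hD] at hDexp
  rw [← hE] at hEexp
  let T : Finset (IrrCharacter G) := Finset.univ.filter fun χ : IrrCharacter G => m χ ≠ 0
  have hTsum : ∀ f : IrrCharacter G → ℂ, (∑ χ : IrrCharacter G, (m χ : ℂ) * f χ) =
      ∑ χ ∈ T, (m χ : ℂ) * f χ := fun f =>
    (Finset.sum_subset (Finset.subset_univ T) fun χ _ hχ => by
      simp only [T, Finset.mem_filter, Finset.mem_univ, true_and, not_not] at hχ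
      simp [hχ]).symm
  have htot : ∑ χ ∈ T, d χ = Nat.card (G ⧸ N) := by
    have h1 : indFun N (θ : N → ℂ) 1 = (Nat.card (G ⧸ N) : ℂ) * (θ : N → ℂ) 1 := by
      rw [show (1 : G) = ((1 : N) : G) from rfl,
        indFun_apply_eq_sum_out N (CfsgLib.Char.irr_isClassFunction θ.2)]
      simp [Nat.card_eq_fintype_card]
    have h2 := CfsgLib.Char.classFunction_apply_eq_sum
      (CfsgLib.Char.indFun_isClassFunction N (θ : N → ℂ)) 1
    simp only [hmi] at h2
    rw [h1, hTsum] at h2
    have h3 : ((∑ χ ∈ T, d χ : ℕ) : ℂ) * (θ : N → ℂ) 1 =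
        (Nat.card (G ⧸ N) : ℂ) * (θ : N → ℂ) 1 := by
      rw [h2, Nat.cast_sum, Finset.sum_mul]
      refine Finset.sum_congr rfl fun χ hχ => ?_
      have hne : classInner (fun n : N => (χ : G → ℂ) n) (θ : N → ℂ) ≠ 0 := by
        rw [hm, Nat.cast_ne_zero]
        exact (Finset.mem_filter.1 hχ).2
      have := norm_restrict_mul_degree N χ θ hne
      rwa [hd, hm] at this
    exact_mod_cast mul_right_cancel₀ hθ1 h3
  have hW : ∀ χ : IrrCharacter G, (W χ).rank ≤ d χ := fun χ =>
    rank_pair_le N (CfsgLib.Char.irr_isCharacter χ.2) (fun q => subOrbit N (c q))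
      (fun q x a ha => subOrbit_conj N x ha) (d χ) (hd χ)
  set s : IrrCharacter G → ℂ := fun χ => (m χ : ℂ) / ((Nat.card (G ⧸ N) : ℂ) * (θ : N → ℂ) 1)
  have hEle : E.rank ≤ ∑ χ ∈ T.filter (fun χ : IrrCharacter G => χ ∈ B), d χ := by
    have e : E = ∑ χ ∈ T.filter (fun χ : IrrCharacter G => χ ∈ B), s χ • W χ := by
      rw [hEexp, Finset.sum_filter, ← Finset.sum_subset (Finset.subset_univ T)]
      · refine Finset.sum_congr rfl fun χ _ => ?_
        rw [hmi]
        split_ifs <;> simp [s]
      · intro χ _ hχ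
        simp only [T, Finset.mem_filter, Finset.mem_univ, true_and, not_not] at hχ
        simp [hmi, hχ]
    rw [e]
    exact (matrix_rank_sum_le _ _).trans
      (Finset.sum_le_sum fun χ _ => (matrix_rank_smul_le _ _).trans (hW χ))
  have hDEle : (D - E).rank ≤ ∑ χ ∈ T.filter (fun χ : IrrCharacter G => ¬ χ ∈ B), d χ := by
    have e : D - E = ∑ χ ∈ T.filter (fun χ : IrrCharacter G => ¬ χ ∈ B), s χ • W χ := by
      rw [hDexp, hEexp, ← Finset.sum_sub_distrib, Finset.sum_filter,
        ← Finset.sum_subset (Finset.subset_univ T)]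
      · refine Finset.sum_congr rfl fun χ _ => ?_
        rw [hmi]
        split_ifs <;> simp [s]
      · intro χ _ hχ
        simp only [T, Finset.mem_filter, Finset.mem_univ, true_and, not_not] at hχ
        simp [hmi, hχ]
    rw [e]
    exact (matrix_rank_sum_le _ _).trans
      (Finset.sum_le_sum fun χ _ => (matrix_rank_smul_le _ _).trans (hW χ))
  have hsplit := Finset.sum_filter_add_sum_filter_not T (fun χ : IrrCharacter G => χ ∈ B) d
  have hQpos : 0 < Nat.card (G ⧸ N) := Nat.card_pos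
  have hone : ∑ χ ∈ T.filter (fun χ : IrrCharacter G => χ ∈ B), d χ = 1 := by omega
  have hdpos : ∀ χ : IrrCharacter G, d χ ≠ 0 := by
    intro χ h0
    have h := hd χ
    rw [h0, Nat.cast_zero, CfsgLib.Char.classInner_def] at h
    have h1 := (mul_eq_zero.1 h).resolve_left (inv_ne_zero CfsgLib.Char.natCard_ne_zero)
    simp only [Complex.mul_conj] at h1
    rw [← Complex.ofReal_sum, Complex.ofReal_eq_zero,
      Finset.sum_eq_zero_iff_of_nonneg fun _ _ => Complex.normSq_nonneg _] at h1
    exact CfsgLib.Char.irr_apply_one_ne_zero χ.2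
      (Complex.normSq_eq_zero.1 (by simpa using h1 1 (Finset.mem_univ _)))
  obtain ⟨χ, hχ⟩ : (T.filter (fun χ : IrrCharacter G => χ ∈ B)).Nonempty :=
    Finset.nonempty_of_sum_ne_zero (f := d) (by omega)
  have huniq : ∀ χ' ∈ T.filter (fun χ : IrrCharacter G => χ ∈ B), χ' = χ := by
    intro χ' hχ'
    by_contra hne
    have := Finset.add_le_sum (f := d) (fun i _ => Nat.zero_le _) hχ' hχ hne
    have := hdpos χ
    have := hdpos χ'
    omega
  have hd1 : d χ = 1 := by
    have := Finset.single_le_sum (f := d) (fun i _ => Nat.zero_le _) hχ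
    have := hdpos χ
    omega
  have hirr : IsIrrCharacter N (fun n : N => (χ : G → ℂ) n) := by
    have hn := hd χ
    rw [hd1, Nat.cast_one] at hn
    rcases CfsgLib.Char.isGeneralized_norm_one (CfsgLib.Char.isGeneralized_of_isCharacter
      (CfsgLib.Char.isCharacter_restrict (CfsgLib.Char.irr_isCharacter χ.2) N)) hn with h | h
    · exact h
    · exfalso
      obtain ⟨a, ha⟩ := CfsgLib.Char.char_apply_one_eq_nat (CfsgLib.Char.irr_isCharacter h)
      obtain ⟨b, hb⟩ := CfsgLib.Char.char_apply_one_eq_nat (CfsgLib.Char.irr_isCharacter χ.2)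
      simp only [Pi.neg_apply, OneMemClass.coe_one, hb] at ha
      have h2 : ((a + b : ℕ) : ℂ) = 0 := by push_cast; rw [← ha]; ring
      have h3 : a + b = 0 := by exact_mod_cast h2
      exact CfsgLib.Char.irr_apply_one_ne_zero χ.2 (by rw [hb, (add_eq_zero.1 h3).2, Nat.cast_zero])
  have hTχ := Finset.mem_filter.1 hχ
  refine ⟨χ, hTχ.2, ?_, fun χ' hχ' hne => huniq χ' ?_⟩
  · by_contra hne
    have h0 := CfsgLib.Char.irr_classInner_ne hirr θ.2 hne
    rw [hm, Nat.cast_eq_zero] at h0
    exact (Finset.mem_filter.1 hTχ.1).2 h0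
  · refine Finset.mem_filter.2 ⟨Finset.mem_filter.2 ⟨Finset.mem_univ _, ?_⟩, hχ'⟩
    rwa [hm, Nat.cast_ne_zero] at hne

end CfsgLib.BlockA
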