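import Cfsg.Agent.Lib.BlockA.SubsectionCount
import Cfsg.Agent.Lib.BlockA.Contribution
import Cfsg.Agent.Lib.BlockB.PrincipalSum

/-!
Orthogonality of the block parts at sections: between blocks, between sections, and against
regular columns.
-/

set_option autoImplicit false
set_option linter.unusedSectionVars false
set_option maxHeartbeats 1000000

namespace CfsgLib.BlockA.SectionOrth

open Cfsg CfsgLib.Block CfsgLib.BlockA CfsgLib.BlockB CfsgLib.BlockB.HeightBound
open scoped ComplexConjugate

universe u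

variable {G : Type u} [Group G] [Fintype G] {p : ℕ} {M : Ideal AlgInt} [M.IsPrime]

/-- The part of a character in a block of the centralizer, at a section. -/
noncomputable def bp {x : G} (b : Set (IrrCharacter (Subgroup.centralizer ({x} : Set G))))
    (χ : IrrCharacter G) (y : Subgroup.centralizer ({x} : Set G)) : ℂ :=
  blockPart b (fun c : Subgroup.centralizer ({x} : Set G) => (χ : G → ℂ) (x * (c : G))) y

theorem sum_bp_mul {ι : Type*} (s : Finset ι) (e : ι → IrrCharacter G) (g : ι → ℂ) {x : G}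
    (b : Set (IrrCharacter (Subgroup.centralizer ({x} : Set G))))
    (y : Subgroup.centralizer ({x} : Set G)) :
    ∑ i ∈ s, g i * bp b (e i) y =
      blockPart b (fun c : Subgroup.centralizer ({x} : Set G) =>
        ∑ i ∈ s, g i * ((e i : IrrCharacter G) : G → ℂ) (x * (c : G))) y := by
  classical
  have := Fintype.ofFinite (Subgroup.centralizer ({x} : Set G))
  simp only [← Finset.sum_coe_sort s]
  rw [blockPart_sum_smul b (fun i : s => g i)]
  rfl

theorem blockPart_zero {H : Type u} [Group H] [Fintype H] (b : Set (IrrCharacter H)) (y : H) :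
    blockPart b (fun _ => (0 : ℂ)) y = 0 := by
  rw [blockPart_eq_kernel]
  simp

variable (hM : IsPModular p M)
include hM

theorem sum_bp_eq_zero {ι : Type*} (s : Finset ι) (e : ι → IrrCharacter G) (g : ι → ℂ) {x : G}
    {b : Set (IrrCharacter (Subgroup.centralizer ({x} : Set G)))} (hb : IsPBlock M b)
    {y : Subgroup.centralizer ({x} : Set G)} (hy : ¬ p ∣ orderOf y)
    (h : ∀ c : Subgroup.centralizer ({x} : Set G), ¬ p ∣ orderOf c →
      ∑ i ∈ s, g i * ((e i : IrrCharacter G) : G → ℂ) (x * (c : G)) = 0) :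
    ∑ i ∈ s, g i * bp b (e i) y = 0 := by
  have := Fintype.ofFinite (Subgroup.centralizer ({x} : Set G))
  rw [sum_bp_mul, blockPart_congr_regular hM hb (f' := fun _ => 0) h hy, blockPart_zero]

variable {x : G} (hx : ∃ k : ℕ, orderOf x = p ^ k)
include hx

theorem isPPart_section {y : Subgroup.centralizer ({x} : Set G)} (hy : ¬ p ∣ orderOf y) :
    IsPPart p (x * (y : G)) x :=
  isPPart_mul (Subgroup.mem_centralizer_singleton_iff.1 y.2).symm hx
    (by rwa [Subgroup.orderOf_coe])

theorem dvd_orderOf_section (hx1 : x ≠ 1) {y : Subgroup.centralizer ({x} : Set G)}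
    (hy : ¬ p ∣ orderOf y) : p ∣ orderOf (x * (y : G)) := by
  by_contra h
  have h2 : IsPPart p (x * (y : G)) 1 := by
    have := isPPart_mul (Commute.one_left (x * (y : G))) ⟨0, by rw [orderOf_one, pow_zero]⟩ h
    rwa [one_mul] at this
  exact hx1 (isPPart_unique hM.1 (isPPart_section hM hx hy) h2)

variable {B : Set (IrrCharacter G)} (hB : IsPBlock M B)
variable {b : Set (IrrCharacter (Subgroup.centralizer ({x} : Set G)))}
include hB

theorem bp_eq_zero (hb : IsInducedBlock M (Subgroup.centralizer ({x} : Set G)) b B)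
    {χ : IrrCharacter G} (hχ : χ ∉ B) {y : Subgroup.centralizer ({x} : Set G)}
    (hy : ¬ p ∣ orderOf y) : bp b χ y = 0 :=
  blockPart_centralizer_eq_zero hM hx (isPBlock_blockOf χ) (mem_blockOf_self χ) hb.1
    (fun h => hχ (by rw [isInducedBlock_unique _ hb h]; exact mem_blockOf_self χ)) hy

/-- Orthogonality to the regular columns. -/
theorem sum_bp_mul_regular (hx1 : x ≠ 1) (hb : IsPBlock M b) {ρ : G} (hρ : ¬ p ∣ orderOf ρ)
    {y : Subgroup.centralizer ({x} : Set G)} (hy : ¬ p ∣ orderOf y) :
    ∑ χ ∈ B.toFinite.toFinset, conj ((χ : G → ℂ) ρ) * bp b χ y = 0 := by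
  refine sum_bp_eq_zero hM _ (fun χ => χ) _ hb hy fun c hc => ?_
  have h := sum_block_eq_zero_of_regular_singular hM hB hρ (dvd_orderOf_section hM hx hx1 hc)
  rw [finsum_mem_eq_finite_toFinset_sum _ B.toFinite] at h
  refine Eq.trans (Finset.sum_congr rfl fun χ _ => ?_) ((congrArg conj h).trans (map_zero _) |>
    fun e => (map_sum (starRingEnd ℂ) _ _).symm.trans e)
  rw [map_mul, Complex.conj_conj]

/-- Orthogonality to the column of a non-conjugate `p`-element. -/
theorem sum_bp_mul_pElt (hb : IsPBlock M b) {w : G} (hw : ∃ k : ℕ, orderOf w = p ^ k)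
    (hne : ¬ IsConj x w) {y : Subgroup.centralizer ({x} : Set G)} (hy : ¬ p ∣ orderOf y) :
    ∑ χ ∈ B.toFinite.toFinset, conj ((χ : G → ℂ) w) * bp b χ y = 0 := by
  refine sum_bp_eq_zero hM _ (fun χ => χ) _ hb hy fun c hc => ?_
  have h := sum_block_eq_zero hM hB (isPPart_section hM hx hc)
    (CfsgLib.BlockB.isPPart_self hM hw) hne
  rw [finsum_mem_eq_finite_toFinset_sum _ B.toFinite] at h
  rw [← h]
  exact Finset.sum_congr rfl fun χ _ => mul_comm _ _

omit hx in
/-- Block parts at non-conjugate sections. -/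
theorem sum_bp_of_not_isConj {x' : G} (hx : ∃ k : ℕ, orderOf x = p ^ k)
    (hx' : ∃ k : ℕ, orderOf x' = p ^ k) (hne : ¬ IsConj x x')
    (hb : IsInducedBlock M (Subgroup.centralizer ({x} : Set G)) b B)
    {b' : Set (IrrCharacter (Subgroup.centralizer ({x'} : Set G)))} (hb' : IsPBlock M b')
    {y : Subgroup.centralizer ({x} : Set G)} (hy : ¬ p ∣ orderOf y)
    {y' : Subgroup.centralizer ({x'} : Set G)} (hy' : ¬ p ∣ orderOf y') :
    ∑ χ ∈ B.toFinite.toFinset, conj (bp b' χ y') * bp b χ y = 0 := by
  refine sum_bp_eq_zero hM _ (fun χ => χ) _ hb.1 hy fun c hc => ?_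
  rw [← Complex.conj_conj (∑ χ ∈ B.toFinite.toFinset, _), map_sum]
  simp only [map_mul, Complex.conj_conj]
  rw [Finset.sum_congr rfl (g := fun χ : IrrCharacter G =>
    conj ((χ : G → ℂ) (x * (c : G))) * bp b' χ y') (fun χ _ => mul_comm _ _),
    sum_bp_eq_zero hM _ (fun χ => χ) _ hb' hy' fun c' hc' => ?_, map_zero]
  have h := sum_block_eq_zero hM hB (isPPart_section hM hx' hc')
    (isPPart_section hM hx hc) fun h => hne h.symm
  rw [finsum_mem_eq_finite_toFinset_sum _ B.toFinite] at h
  rw [← h]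
  exact Finset.sum_congr rfl fun χ _ => mul_comm _ _

open Classical in
/-- Block parts at one section. -/
theorem sum_bp_same (hb : IsInducedBlock M (Subgroup.centralizer ({x} : Set G)) b B)
    {b' : Set (IrrCharacter (Subgroup.centralizer ({x} : Set G)))} (hb' : IsPBlock M b')
    {y y' : Subgroup.centralizer ({x} : Set G)} (hy : ¬ p ∣ orderOf y) (hy' : ¬ p ∣ orderOf y') :
    ∑ χ ∈ B.toFinite.toFinset, conj (bp b' χ y') * bp b χ y =
      if b' = b then ∑ φ ∈ b.toFinite.toFinset,
        conj ((φ : _ → ℂ) y') * (φ : _ → ℂ) y else 0 := by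
  have := Fintype.ofFinite (Subgroup.centralizer ({x} : Set G))
  have := Fintype.ofFinite (IrrCharacter G)
  let C := Subgroup.centralizer ({x} : Set G)
  have := Fintype.ofFinite (IrrCharacter C)
  rw [Finset.sum_subset (Finset.subset_univ B.toFinite.toFinset) (fun χ _ hχ => by
    rw [bp_eq_zero hM hx hB hb (fun h => hχ (B.toFinite.mem_toFinset.2 h)) hy, mul_zero]),
    sum_bp_mul Finset.univ (fun χ => χ)]
  have key : ∀ c : C, ¬ p ∣ orderOf c →
      ∑ χ : IrrCharacter G, conj (bp b' χ y') * (χ : G → ℂ) (x * (c : G)) =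
        ∑ φ : IrrCharacter C, (if φ ∈ b' then conj ((φ : C → ℂ) y') else 0) * (φ : C → ℂ) c := by
    intro c hc
    have h1 : ∑ χ : IrrCharacter G, conj ((χ : G → ℂ) (x * (c : G))) * bp b' χ y' =
        ∑ φ : IrrCharacter C, conj ((φ : C → ℂ) c) * (if φ ∈ b' then (φ : C → ℂ) y' else 0) := by
      rw [sum_bp_mul Finset.univ (fun χ => χ), blockPart_congr_regular hM hb'
        (f' := fun z : C => ∑ φ : IrrCharacter C, conj ((φ : C → ℂ) c) * (φ : C → ℂ) z)
        (fun z hz => ?_) hy', blockPart_sum_smul]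
      · simp only [blockPart_irr]
      · simpa only [mul_comm] using column_section hM hx hc hz
    have h2 := congrArg conj h1
    simp only [map_sum, map_mul, Complex.conj_conj, apply_ite (starRingEnd ℂ), map_zero] at h2
    rw [Finset.sum_congr rfl fun χ _ => mul_comm _ _, h2]
    exact Finset.sum_congr rfl fun φ _ => mul_comm _ _
  rw [blockPart_congr_regular hM hb.1 key hy, blockPart_sum_smul]
  simp only [blockPart_irr, ite_mul, zero_mul, mul_ite, mul_zero]
  split_ifs with h
  · subst h
    rw [← Finset.sum_subset (Finset.subset_univ b'.toFinite.toFinset) (fun φ _ hφ => by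
      rw [if_neg fun h => hφ (b'.toFinite.mem_toFinset.2 h)])]
    refine Finset.sum_congr rfl fun φ hφ => ?_
    rw [Set.Finite.mem_toFinset] at hφ
    simp [hφ]
  · refine Finset.sum_eq_zero fun φ _ => ?_
    split_ifs with h1 h2
    · exact absurd (isPBlock_eq_of_mem hb' hb.1 h2 h1) h
    all_goals simp_all

omit hx hB in
/-- Transport to a conjugate section. -/
theorem bp_conj (a : G) (b : Set (IrrCharacter (Subgroup.centralizer ({x} : Set G))))
    (χ : IrrCharacter G) (y : Subgroup.centralizer ({a * x * a⁻¹} : Set G)) :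
    bp (blockMap (cenConj a x) b) χ y = bp b χ (cenConj a x y) := by
  have := Fintype.ofFinite (Subgroup.centralizer ({x} : Set G))
  have := Fintype.ofFinite (Subgroup.centralizer ({a * x * a⁻¹} : Set G))
  unfold bp
  rw [← Contribution.blockPart_blockMap (cenConj a x) (Contribution.isClassFunction_shift χ x)]
  congr 1
  funext h
  show _ = (χ : G → ℂ) (x * (a⁻¹ * (h : G) * a))
  rw [← CfsgLib.Char.irr_isClassFunction χ.2 (x * (a⁻¹ * (h : G) * a)) a]
  congr 1
  group

end CfsgLib.BlockA.SectionOrth
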