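import Cfsg.Agent.Lib.BlockA.QuatCentral
import Cfsg.Agent.Lib.BlockA.SemiDihRows

/-!
The block at the central involution of a semidihedral defect group: its regular matrix and the
number of its characters.
-/

set_option autoImplicit false
set_option linter.unusedSectionVars false
set_option maxHeartbeats 2000000

namespace CfsgLib.BlockA.SemiDihDefect

open Cfsg CfsgLib.Block CfsgLib.BlockA CfsgLib.BlockB CfsgLib.BlockB.SubSum
  CfsgLib.BlockB.HeightBound AbelianSub SectionOrth NilpotentSection Dominated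
open CfsgLib.BlockA.QuatDefect (Shape exists_shape scaled scaled_symm scaled_dvd scaled_exact
  sum_scaled_mul sum_mul_scaled_eq_zero pow_mul_scaled pair_of_eigen card_le_of_orth minExp)
open scoped ComplexConjugate

universe u

theorem tw_cases {h l : ℕ} (hh : Even h) (hl : l < 2 * h) :
    tw h l + l = 2 * h ∨ (l < h ∧ tw h l + l = h) ∨ (h < l ∧ tw h l + l = 3 * h) := by
  obtain ⟨h1, h2⟩ := tw_spec h l hl hh
  rcases Nat.even_or_odd l with e | o
  · exact Or.inl (h1 e)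
  · exact Or.inr (h2 o)

variable {C : Type u} [Group C] [Fintype C] {M : Ideal AlgInt} [M.IsPrime]
  {g : Set (IrrCharacter C)} {P : Subgroup C}
  {c : Set (IrrCharacter (Subgroup.centralizer (P : Set C)))} {r : C} {h : ℕ}

/-- **The block at the central involution.** -/
theorem exists_central_shape (hM : IsPModular 2 M) (hmax : IsMaximalBrauerPair 2 M g P c)
    (hSR : SRot P r h) (hz : ∀ t : C, Commute (r ^ h) t) :
    ∃ (e : ℕ) (s : IrrCharacter C → ℤ) (A : Fin e → IrrCharacter C → ℤ), e ≤ 2 ∧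
      blockRank 2 g = e + 1 ∧ (Even (h / 2) ∨ Even e) ∧
      Shape g.toFinite.toFinset (scaled 2 g) h e 4 s A ∧ Nat.card g = h + 3 + e := by
  classical
  have := Fact.mk hM.1
  have hg : IsPBlock M g := hmax.1.2.1
  have hPD : IsDefectGroup 2 M g P := (maximal_core hM hmax).1
  have h0 := hSR.h_pos
  have h2 := hSR.two_le
  set Z : Subgroup C := Subgroup.zpowers (r ^ h) with hZdef
  have hZc : Z ≤ Subgroup.center C :=
    Subgroup.zpowers_le.2 (Subgroup.mem_center_iff.2 fun t => (hz t).eq.symm)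
  have hZn : Z.Normal := ⟨fun a ha w => by
    rw [Subgroup.mem_center_iff.1 (hZc ha) w, mul_inv_cancel_right]; exact ha⟩
  have hcardZ : Nat.card Z = 2 := by rw [hZdef, Nat.card_zpowers, hSR.orderOf_z]
  have hZp : IsPGroup 2 Z := IsPGroup.of_card (n := 1) (by rw [hcardZ, pow_one])
  have := Fintype.ofFinite (C ⧸ Z)
  have := Fintype.ofFinite (IrrCharacter (C ⧸ Z))
  obtain ⟨bb, hbb, hmem, hrank, hdc, hmin⟩ := exists_dominated hZc hZp hM hg
  obtain ⟨Bbar, hBb, hsub, hiff⟩ := QuotientDefect.exists_block_images Z hM hZp hg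
  obtain ⟨η, hη⟩ := isPBlock_nonempty hBb
  have hbD : IsDefectGroup 2 M bb (P.map (QuotientGroup.mk' Z)) :=
    isPBlock_eq_of_mem hBb hbb hη ((hmem η).2 (hsub η hη)) ▸ (hiff _).2 ⟨_, hPD, rfl⟩
  have hdg : 2 ^ blockDefect 2 g = 4 * h := by rw [← natCard_defectGroup hM hg hPD, hSR.card_eq]
  have hdb : 2 ^ blockDefect 2 bb = 2 * h := by
    rw [← natCard_defectGroup hM hbb hbD, natCard_map hSR Z hZdef]
  obtain ⟨k, hk⟩ := hSR.two_pow
  have hk1 : 1 ≤ k := by
    by_contra e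
    rw [show k = 0 by omega] at hk
    norm_num at hk
    omega
  have hcase : (h = 2 ∧ IsKleinFour (P.map (QuotientGroup.mk' Z))) ∨
      (Even h ∧ ∃ r' : C ⧸ Z, DihedralDefect.Rot (P.map (QuotientGroup.mk' Z)) r' (h / 2)) :=
    Or.inr ⟨hSR.h_even, _, rot_map hSR Z hZdef⟩
  obtain ⟨hshape, hcardb⟩ := exists_shape hM hbb hbD hcase
  set F := g.toFinite.toFinset with hF
  set Tb := bb.toFinite.toFinset with hTb
  have hmF : ∀ {x}, x ∈ F ↔ x ∈ g := g.toFinite.mem_toFinset
  have hmT : ∀ {x}, x ∈ Tb ↔ x ∈ bb := bb.toFinite.mem_toFinset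
  set E := scaled 2 g with hE
  set Eb := scaled 2 bb with hEb
  have hin : ∀ {y}, y ∈ Tb → infl Z y ∈ g := fun hy => (hmem _).1 (hmT.1 hy)
  -- regular parts as integral combinations of inflated members
  choose n hn0 hn using fun θ : g => exists_comb hZc hZp hM hg θ.2
  let N : IrrCharacter C → IrrCharacter (C ⧸ Z) → ℤ := fun θ y =>
    if hθ : θ ∈ g then n ⟨θ, hθ⟩ y else 0
  have hrelN : ∀ θ ∈ g, ∀ t : C, ¬ 2 ∣ orderOf t →
      (θ : C → ℂ) t = ∑ y ∈ Tb, (N θ y : ℂ) * (infl Z y : C → ℂ) t := by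
    intro θ hθ t ht
    have h1 := hn ⟨θ, hθ⟩ t
    simp only [regInd, if_neg ht, one_mul] at h1
    rw [h1, ← Finset.sum_subset (Finset.subset_univ Tb) fun y _ hy => by
      rw [hn0 ⟨θ, hθ⟩ y fun hh => hy (hmT.2 ((hmem y).2 hh)), Int.cast_zero, zero_mul]]
    simp only [N, dif_pos hθ]
  have hlin : ∀ θ ∈ g, ∀ y ∈ g, E θ y = ∑ x ∈ Tb, N θ x * E (infl Z x) y := by
    intro θ hθ y hy
    have h1 := sum_mul_scaled_eq_zero hM hg (Finset.insertNone Tb)
      (fun o => o.elim 1 fun x => -N θ x) (fun o => o.elim θ (infl Z)) (fun t ht => ?_) hy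
    · rw [Finset.sum_insertNone] at h1
      simp only [Option.elim, one_mul, neg_mul, Finset.sum_neg_distrib] at h1
      rw [← hE] at h1
      linarith
    · rw [Finset.sum_insertNone]
      simp only [Option.elim, Int.cast_one, one_mul, Int.cast_neg, neg_mul, Finset.sum_neg_distrib]
      rw [hrelN θ hθ t ht, add_neg_cancel]
  have hinfl : ∀ x y, E (infl Z x) (infl Z y) = Eb x y := by
    intro x y
    simp only [hE, hEb, scaled, minExp, hmin]
    rw [regEntry_infl hZc hZp]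
  have hcol : ∀ θ ∈ g, ∀ y ∈ Tb, ∑ x ∈ Tb, N θ x * Eb x y = E θ (infl Z y) := by
    intro θ hθ y hy
    rw [hlin θ hθ _ (hin hy)]
    exact Finset.sum_congr rfl fun x _ => by rw [hinfl]
  have hquad : ∀ θ ∈ g, ∀ θ' ∈ g,
      E θ θ' = ∑ x ∈ Tb, ∑ y ∈ Tb, N θ x * N θ' y * Eb x y := by
    intro θ hθ θ' hθ'
    rw [hlin θ hθ θ' hθ']
    refine Finset.sum_congr rfl fun x hx => ?_
    rw [show E (infl Z x) θ' = E θ' (infl Z x) from scaled_symm g _ _, ← hcol θ' hθ' x hx,
      Finset.mul_sum]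
    exact Finset.sum_congr rfl fun y _ => by
      rw [show Eb x y = Eb y x from scaled_symm bb _ _]; ring
  have hgram : ∀ y ∈ Tb, ∀ y' ∈ Tb,
      ∑ θ ∈ F, (∑ x ∈ Tb, N θ x * Eb x y) * (∑ x ∈ Tb, N θ x * Eb x y') =
        4 * (h : ℤ) * Eb y y' := by
    intro y hy y' hy'
    rw [Finset.sum_congr rfl fun θ hθ => by
      rw [hcol θ (hmF.1 hθ) y hy, hcol θ (hmF.1 hθ) y' hy', show E θ (infl Z y) = E (infl Z y) θ
        from scaled_symm g _ _], ← hinfl, hF, hE, sum_scaled_mul hM hg (hin hy) (hin hy'), hdg]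
    push_cast
    rfl
  -- the faithful members
  set I := Tb.image (infl Z) with hI
  have hIF : I ⊆ F := fun x hx => by
    obtain ⟨y, hy, rfl⟩ := Finset.mem_image.1 hx
    exact hmF.2 (hin hy)
  set Ff := F \ I with hFf
  have hFcard : F.card = Tb.card + Ff.card := by
    have e := Finset.card_sdiff_add_card_eq_card hIF
    rw [← hFf, hI, Finset.card_image_of_injective _ (infl_injective Z)] at e
    omega
  have hTcard : Tb.card = h / 2 + 3 := by
    rw [hTb, ← Nat.card_eq_card_finite_toFinset]; exact hcardb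
  have hhF : ∀ {y}, y ∈ Tb → blockHeight 2 g (infl Z y : C → ℂ) =
      blockHeight 2 bb (y : C ⧸ Z → ℂ) := fun {y} _ => by
    simp only [blockHeight, hmin]
    rfl
  -- eigenvectors on the quotient give vectors on the block
  have hvec : ∀ w : IrrCharacter (C ⧸ Z) → ℤ,
      (∀ x ∈ Tb, ∑ y ∈ Tb, Eb x y * w y = 2 * (h : ℤ) * w x) →
      (∀ θ ∈ g, 2 * (h : ℤ) * ∑ x ∈ Tb, N θ x * w x = ∑ y ∈ Tb, E θ (infl Z y) * w y) ∧
      ∀ x ∈ Tb, ∑ x' ∈ Tb, N (infl Z x) x' * w x' = w x := by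
    intro w hw
    have h1 : ∀ θ ∈ g, 2 * (h : ℤ) * ∑ x ∈ Tb, N θ x * w x = ∑ y ∈ Tb, E θ (infl Z y) * w y := by
      intro θ hθ
      symm
      rw [Finset.sum_congr rfl (s₁ := Tb) (g := fun y => ∑ x ∈ Tb, N θ x * (Eb x y * w y))
        fun y hy => by
          rw [← hcol θ hθ y hy, Finset.sum_mul]
          exact Finset.sum_congr rfl fun x _ => by ring, Finset.sum_comm, Finset.mul_sum]
      refine Finset.sum_congr rfl fun x hx => ?_
      rw [← Finset.mul_sum, hw x hx]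
      ring
    refine ⟨h1, fun x hx => mul_left_cancel₀ (show (2 * (h : ℤ)) ≠ 0 by omega) ?_⟩
    rw [h1 _ (hin hx), ← hw x hx]
    exact Finset.sum_congr rfl fun y _ => by rw [hinfl]
  have hsplit : ∀ w : IrrCharacter (C ⧸ Z) → ℤ, ∀ w' : IrrCharacter (C ⧸ Z) → ℤ,
      (∀ x ∈ Tb, ∑ y ∈ Tb, Eb x y * w y = 2 * (h : ℤ) * w x) →
      (∀ x ∈ Tb, ∑ y ∈ Tb, Eb x y * w' y = 2 * (h : ℤ) * w' x) →
      ∑ θ ∈ Ff, (∑ x ∈ Tb, N θ x * w x) * (∑ x ∈ Tb, N θ x * w' x) =
        ∑ x ∈ Tb, w x * w' x := by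
    intro w w' hw hw'
    have h1 := pair_of_eigen (show (2 * (h : ℤ)) ≠ 0 by omega) hgram hw hw'
    rw [← Finset.sum_sdiff hIF, ← hFf, hI,
      Finset.sum_image fun a _ b _ e => infl_injective Z e,
      Finset.sum_congr rfl (s₁ := Tb) (g := fun x => w x * w' x) fun x hx => by
        rw [(hvec w hw).2 x hx, (hvec w' hw').2 x hx]] at h1
    exact mul_left_cancel₀ (show (2 * (h : ℤ)) ≠ 0 by omega) (by linear_combination h1)
  -- the subsections at the other rotations
  choose b hb hbβ using fun u : ℕ => exists_block_below hM hmax (P.pow_mem hSR.mem u)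
    (K := Subgroup.centralizer ({r ^ u} : Set C)) rfl
  have h1T : ∀ (H : Subgroup C), ¬ 2 ∣ orderOf (1 : H) := fun H => by
    rw [orderOf_one]; norm_num
  have hne : ∀ u v : ℕ, ¬ h ∣ u → u < 2 * h → v < 2 * h → v ≠ u → v ≠ tw h u →
      ∑ θ ∈ F, conj (bp (b v) θ 1) * bp (b u) θ 1 = 0 := by
    intro u v hu hu' hv h1 h1'
    refine DihedralDefect.sum_bp_eq_zero_of_ne hM hmax (hSR.exists_two_pow u) (hSR.exists_two_pow v)
      (hb u) (hb v) fun a ha e => ?_
    rw [hbβ, hbβ] at e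
    rcases fus_rot hM hmax hSR hu hu' hv ha e with e' | e'
    exacts [h1 e', h1' e']
  have hself : ∀ u : ℕ, ∃ d : ℕ, 0 < d ∧ ∑ θ ∈ F, conj (bp (b u) θ 1) * bp (b u) θ 1 = (d : ℂ) := by
    intro u
    refine ⟨∑ φ ∈ (b u).toFinite.toFinset,
      charDegree (φ : Subgroup.centralizer ({r ^ u} : Set C) → ℂ) ^ 2, ?_, ?_⟩
    · obtain ⟨φ, hφ⟩ := isPBlock_nonempty (hb u).1
      exact Finset.sum_pos' (fun _ _ => Nat.zero_le _) ⟨φ, (b u).toFinite.mem_toFinset.2 hφ,
        pow_pos (Nat.pos_of_ne_zero (charDegree_ne_zero φ.2)) 2⟩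
    · rw [sum_bp_same hM (hSR.exists_two_pow u) hg (hb u) (hb u).1 (h1T _) (h1T _), if_pos rfl]
      push_cast
      refine Finset.sum_congr rfl fun φ _ => ?_
      rw [← CfsgLib.BlockB.irr_degree_cast φ, Complex.conj_natCast, pow_two]
  let cv : Fin (h / 2 - 1) → IrrCharacter C → ℂ := fun i θ =>
    bp (b ((i : ℕ) + 1 + h)) θ 1 - bp (b ((i : ℕ) + 1)) θ 1
  have hndvd : ∀ i : Fin (h / 2 - 1), ¬ h ∣ (i : ℕ) + 1 ∧ ¬ h ∣ (i : ℕ) + 1 + h := fun i => by
    have := i.2
    exact ⟨fun e => by have := Nat.le_of_dvd (by omega) e; omega, fun e => by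
      have := Nat.le_of_dvd (by omega) ((Nat.dvd_add_left (dvd_refl h)).1 e)
      omega⟩
  have hcvI : ∀ i, ∀ x ∈ Tb, cv i (infl Z x) = 0 := by
    intro i x hx
    set l := (i : ℕ) + 1 with hl
    obtain ⟨hd1, hd2⟩ := hndvd i
    have hzmem : ∀ u, ¬ h ∣ u → r ^ h ∈ Subgroup.zpowers (r ^ u) := by
      intro u hu
      obtain ⟨j, hj⟩ := hSR.exists_two_pow u
      rcases j with _ | j
      · rw [pow_zero, orderOf_eq_one_iff, hSR.pow_eq_one_iff] at hj
        exact absurd ((dvd_mul_left h 2).trans hj) hu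
      have ho : orderOf ((r ^ u) ^ 2 ^ j) = 2 := by
        rw [orderOf_pow_of_dvd (pow_ne_zero _ two_ne_zero) (hj ▸ pow_dvd_pow 2 (Nat.le_succ j)), hj,
          pow_succ, Nat.mul_div_cancel_left _ (pow_pos two_pos j)]
      obtain ⟨q, hq⟩ : (r ^ u) ^ 2 ^ j ∈ Subgroup.zpowers r :=
        Subgroup.pow_mem _ (Subgroup.npow_mem_zpowers r u) _
      have hq2 : r ^ (q + q) = 1 := by
        rw [zpow_add, show r ^ q = (r ^ u) ^ 2 ^ j from hq, ← pow_two, ← orderOf_dvd_iff_pow_eq_one,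
          ho]
      rw [← orderOf_dvd_iff_zpow_eq_one, hSR.orderOf_eq] at hq2
      obtain ⟨d, hd⟩ := hq2
      push_cast at hd
      rcases Int.even_or_odd' d with ⟨d', rfl | rfl⟩
      · have : (r ^ u) ^ 2 ^ j = 1 := by
          rw [← show r ^ q = (r ^ u) ^ 2 ^ j from hq, ← orderOf_dvd_iff_zpow_eq_one, hSR.orderOf_eq]
          exact ⟨d', by push_cast; linarith⟩
        rw [this, orderOf_one] at ho
        omega
      · rw [show r ^ h = (r ^ u) ^ 2 ^ j from ?_]
        · exact Subgroup.npow_mem_zpowers _ _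
        rw [← show r ^ q = (r ^ u) ^ 2 ^ j from hq, ← zpow_natCast r h, zpow_eq_zpow_iff_modEq,
          hSR.orderOf_eq, Int.modEq_iff_dvd]
        exact ⟨d', by push_cast; linarith⟩
    have hsame : Subgroup.zpowers (r ^ (l + h)) = Subgroup.zpowers (r ^ l) := by
      refine le_antisymm (Subgroup.zpowers_le.2 ?_) (Subgroup.zpowers_le.2 ?_)
      · rw [pow_add r l h]
        exact mul_mem (Subgroup.mem_zpowers _) (hzmem l hd1)
      · have e : r ^ l = r ^ (l + h) * r ^ h := by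
          rw [pow_add r l h, mul_assoc, hSR.z_sq, mul_one]
        have hm := mul_mem (Subgroup.mem_zpowers (r ^ (l + h))) (hzmem _ hd2)
        rwa [← e] at hm
    have key : ∀ (T : Subgroup C) (b' : Set (IrrCharacter T)),
        T = Subgroup.centralizer ({r ^ l} : Set C) → IsPBlock M b' →
        subgroupBlockCoeff T b' = beta hM hmax (r ^ l) → ∀ f : C → ℂ,
        blockPart b' (fun k : T => f k) 1 =
          blockPart (b l) (fun k : Subgroup.centralizer ({r ^ l} : Set C) => f k) 1 := by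
      rintro _ b' rfl hb' hβ f
      rw [subgroupBlockCoeff_injective hM hb' (hb l).1 (hβ.trans (hbβ l).symm)]
    have hβeq : beta hM hmax (r ^ (l + h)) = beta hM hmax (r ^ l) := by
      obtain ⟨f, hf, hfle⟩ := AbelianSub.exists_below hM hmax (P.pow_mem hSR.mem l)
      rw [← beta_eq_of_below hM hmax (P.pow_mem hSR.mem l) rfl hfle,
        ← beta_eq_of_below hM hmax (P.pow_mem hSR.mem (l + h)) hsame.symm hfle]
    have e1 := key _ (b (l + h)) (by rw [← cen_zpowers, ← cen_zpowers, hsame]) (hb _).1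
      ((hbβ _).trans hβeq) (fun t => (infl Z x : C → ℂ) (r ^ (l + h) * t))
    have e2 : ∀ t : C, (infl Z x : C → ℂ) (r ^ (l + h) * t) = (infl Z x : C → ℂ) (r ^ l * t) := by
      intro t
      rw [infl_apply, infl_apply]
      refine congrArg (x : C ⧸ Z → ℂ) ?_
      rw [QuotientGroup.eq, hZdef]
      refine Subgroup.mem_zpowers_iff.2 ⟨1, ?_⟩
      rw [zpow_one, pow_add r l h, mul_inv_rev, mul_inv_rev, hSR.z_inv]
      calc r ^ h = r ^ h * (t⁻¹ * t) := by rw [inv_mul_cancel, mul_one]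
        _ = t⁻¹ * r ^ h * t := by rw [← mul_assoc, (hz t⁻¹).eq]
        _ = t⁻¹ * (r ^ h * (r ^ l)⁻¹) * (r ^ l * t) := by group
    show bp (b (l + h)) (infl Z x) 1 - bp (b l) (infl Z x) 1 = 0
    rw [sub_eq_zero, bp, bp]
    exact e1.trans (by simp only [e2])
  have hcvorth : ∀ i j, i ≠ j → ∑ θ ∈ Ff, cv i θ * conj (cv j θ) = 0 := by
    intro i j hij
    have hij' : (i : ℕ) ≠ j := fun e => hij (Fin.ext e)
    have := i.2
    have := j.2
    rw [← add_right_inj (∑ θ ∈ I, cv i θ * conj (cv j θ)), add_zero, hFf, add_comm,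
      Finset.sum_sdiff hIF, Finset.sum_eq_zero (s := I) fun θ hθ => by
        obtain ⟨x, hx, rfl⟩ := Finset.mem_image.1 hθ
        rw [hcvI i x hx, zero_mul]]
    simp only [cv, map_sub, mul_sub, sub_mul, Finset.sum_sub_distrib]
    obtain ⟨a1, a2⟩ := hndvd i
    have t1 := tw_cases hSR.h_even (l := (i : ℕ) + 1) (by omega)
    have t2 := tw_cases hSR.h_even (l := (i : ℕ) + 1 + h) (by omega)
    simp only [mul_comm (bp (b ((i : ℕ) + 1 + h)) _ 1), mul_comm (bp (b ((i : ℕ) + 1)) _ 1)]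
    rw [hne ((i : ℕ) + 1 + h) ((j : ℕ) + 1 + h) a2 (by omega) (by omega) (by omega) (by omega),
      hne ((i : ℕ) + 1 + h) ((j : ℕ) + 1) a2 (by omega) (by omega) (by omega) (by omega),
      hne ((i : ℕ) + 1) ((j : ℕ) + 1 + h) a1 (by omega) (by omega) (by omega) (by omega),
      hne ((i : ℕ) + 1) ((j : ℕ) + 1) a1 (by omega) (by omega) (by omega) (by omega)]
    ring
  have hcvne : ∀ i, ∑ θ ∈ Ff, cv i θ * conj (cv i θ) ≠ 0 := by
    intro i
    have := i.2
    obtain ⟨a1, a2⟩ := hndvd i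
    have e : ∑ θ ∈ Ff, cv i θ * conj (cv i θ) = ∑ θ ∈ F, cv i θ * conj (cv i θ) := by
      rw [← Finset.sum_sdiff hIF, ← hFf, Finset.sum_eq_zero (s := I) fun θ hθ => by
        obtain ⟨x, hx, rfl⟩ := Finset.mem_image.1 hθ
        rw [hcvI i x hx, zero_mul], add_zero]
    rw [e]
    have t1 := tw_cases hSR.h_even (l := (i : ℕ) + 1) (by omega)
    have t2 := tw_cases hSR.h_even (l := (i : ℕ) + 1 + h) (by omega)
    simp only [cv, map_sub, mul_sub, sub_mul, Finset.sum_sub_distrib]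
    simp only [mul_comm (bp (b ((i : ℕ) + 1 + h)) _ 1), mul_comm (bp (b ((i : ℕ) + 1)) _ 1)]
    rw [hne ((i : ℕ) + 1 + h) ((i : ℕ) + 1) a2 (by omega) (by omega) (by omega) (by omega),
      hne ((i : ℕ) + 1) ((i : ℕ) + 1 + h) a1 (by omega) (by omega) (by omega) (by omega)]
    obtain ⟨d1, hd1, e1⟩ := hself ((i : ℕ) + 1 + h)
    obtain ⟨d2, hd2, e2⟩ := hself ((i : ℕ) + 1)
    rw [e1, e2]
    have : ((d1 + d2 : ℕ) : ℂ) ≠ 0 := Nat.cast_ne_zero.2 (by omega)
    push_cast at this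
    convert this using 1
    ring
  have hreg0 : ∀ u, ¬ h ∣ u → ∀ y ∈ g, ∑ θ ∈ F, (regEntry 2 θ y : ℂ) * bp (b u) θ 1 = 0 := by
    intro u hu y hy
    have hu1 : r ^ u ≠ 1 := fun e => hu ((dvd_mul_left h 2).trans ((hSR.pow_eq_one_iff u).1 e))
    refine mul_left_cancel₀ (show ((ordCompl[2] (Nat.card C) : ℕ) : ℂ) ≠ 0 from
      Nat.cast_ne_zero.2 (Nat.ordCompl_pos 2 Nat.card_pos.ne').ne') ?_
    rw [mul_zero, Finset.mul_sum, Finset.sum_congr rfl fun θ _ => by
      rw [← mul_assoc, ordCompl_mul_regEntry]]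
    unfold regPair
    simp only [Finset.sum_mul]
    rw [Finset.sum_comm]
    refine Finset.sum_eq_zero fun t _ => ?_
    by_cases ht : 2 ∣ orderOf t
    · simp [regInd, ht]
    · have h1 := sum_bp_mul_regular hM (hSR.exists_two_pow u) hg hu1 (hb u).1
        (ρ := t⁻¹) (by rwa [orderOf_inv]) (h1T _)
      calc ∑ θ ∈ F, regInd 2 t * (θ : C → ℂ) t * (y : C → ℂ) t⁻¹ * bp (b u) θ 1
          = regInd 2 t * (y : C → ℂ) t⁻¹ *
              ∑ θ ∈ F, conj ((θ : C → ℂ) t⁻¹) * bp (b u) θ 1 := by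
            rw [Finset.mul_sum]
            refine Finset.sum_congr rfl fun θ _ => ?_
            rw [irr_conj_eq θ.2, inv_inv]
            ring
        _ = 0 := by rw [h1, mul_zero]
  have hcvw : ∀ i (w : IrrCharacter (C ⧸ Z) → ℤ),
      (∀ x ∈ Tb, ∑ y ∈ Tb, Eb x y * w y = 2 * (h : ℤ) * w x) →
      ∑ θ ∈ Ff, ((∑ x ∈ Tb, N θ x * w x : ℤ) : ℂ) * cv i θ = 0 := by
    intro i w hw
    obtain ⟨a1, a2⟩ := hndvd i
    have e : ∑ θ ∈ Ff, ((∑ x ∈ Tb, N θ x * w x : ℤ) : ℂ) * cv i θ =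
        ∑ θ ∈ F, ((∑ x ∈ Tb, N θ x * w x : ℤ) : ℂ) * cv i θ := by
      rw [← Finset.sum_sdiff hIF, ← hFf, Finset.sum_eq_zero (s := I) fun θ hθ => by
        obtain ⟨x, hx, rfl⟩ := Finset.mem_image.1 hθ
        rw [hcvI i x hx, mul_zero], add_zero]
    rw [e]
    have hq : ((2 ^ minExp 2 g : ℕ) : ℂ) * (2 * (h : ℂ)) ≠ 0 :=
      mul_ne_zero (Nat.cast_ne_zero.2 (pow_ne_zero _ two_ne_zero))
        (mul_ne_zero two_ne_zero (Nat.cast_ne_zero.2 h0.ne'))
    refine mul_left_cancel₀ hq ?_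
    rw [mul_zero, Finset.mul_sum, Finset.sum_congr rfl (g := fun θ => ∑ y ∈ Tb,
      (w y : ℂ) * ((regEntry 2 θ (infl Z y) : ℂ) * cv i θ)) fun θ hθ => ?_, Finset.sum_comm]
    · refine Finset.sum_eq_zero fun y hy => ?_
      simp only [← Finset.mul_sum, cv, mul_sub, Finset.sum_sub_distrib, hreg0 _ a1 _ (hin hy),
        hreg0 _ a2 _ (hin hy), mul_zero, sub_zero]
    · have e1 := (hvec w hw).1 θ (hmF.1 hθ)
      have e2 : ((2 ^ minExp 2 g : ℕ) : ℂ) * ((2 * (h : ℂ)) * ((∑ x ∈ Tb, N θ x * w x : ℤ) : ℂ)) =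
          ∑ y ∈ Tb, (w y : ℂ) * (regEntry 2 θ (infl Z y) : ℂ) := by
        have e3 := congrArg (fun z : ℤ => ((2 ^ minExp 2 g : ℕ) : ℂ) * (z : ℂ)) e1
        simp only [Int.cast_mul, Int.cast_ofNat, Int.cast_natCast] at e3
        rw [e3, Int.cast_sum, Finset.mul_sum]
        refine Finset.sum_congr rfl fun y hy => ?_
        rw [← pow_mul_scaled hM hg (hin hy), ← hE]
        push_cast
        ring
      calc _ = ((2 ^ minExp 2 g : ℕ) : ℂ) *
            ((2 * (h : ℂ)) * ((∑ x ∈ Tb, N θ x * w x : ℤ) : ℂ)) * cv i θ := by ring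
        _ = _ := by
          rw [e2, Finset.sum_mul]
          exact Finset.sum_congr rfl fun y _ => by ring
  -- the lower bound
  have hbound : ∀ (ι : Type) [Fintype ι] (w : ι → IrrCharacter (C ⧸ Z) → ℤ),
      (∀ i, ∀ x ∈ Tb, ∑ y ∈ Tb, Eb x y * w i y = 2 * (h : ℤ) * w i x) →
      (∀ i j, i ≠ j → ∑ x ∈ Tb, w i x * w j x = 0) → (∀ i, ∑ x ∈ Tb, w i x * w i x ≠ 0) →
      h / 2 - 1 + Fintype.card ι ≤ Ff.card := by
    intro ι _ w hw horth hne'
    let v : ι → IrrCharacter C → ℂ := fun i θ => ((∑ x ∈ Tb, N θ x * w i x : ℤ) : ℂ)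
    have hvc : ∀ i j, ∑ θ ∈ Ff, v i θ * conj (v j θ) = ((∑ x ∈ Tb, w i x * w j x : ℤ) : ℂ) := by
      intro i j
      rw [← hsplit _ _ (hw i) (hw j), Int.cast_sum]
      exact Finset.sum_congr rfl fun θ _ => by simp only [v, map_intCast, Int.cast_mul]
    have hcross : ∀ i j, ∑ θ ∈ Ff, cv i θ * conj (v j θ) = 0 := by
      intro i j
      rw [← hcvw i _ (hw j)]
      exact Finset.sum_congr rfl fun θ _ => by simp only [v, map_intCast]; ring
    have := card_le_of_orth Ff (Sum.elim cv v) (fun i j hij => ?_) (fun i => ?_)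
    · simpa using this
    · rcases i with i | i <;> rcases j with j | j <;> simp only [Sum.elim_inl, Sum.elim_inr]
      · exact hcvorth i j fun e => hij (congrArg Sum.inl e)
      · exact hcross i j
      · have e := congrArg conj (hcross j i)
        rw [map_sum, map_zero] at e
        rw [← e]
        exact Finset.sum_congr rfl fun θ _ => by rw [map_mul, Complex.conj_conj]; ring
      · rw [hvc, horth i j fun e => hij (congrArg Sum.inr e), Int.cast_zero]
    · rcases i with i | i <;> simp only [Sum.elim_inl, Sum.elim_inr]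
      · exact hcvne i
      · rw [hvc]
        exact Int.cast_ne_zero.2 (hne' i)
  obtain ⟨θ0, hθ0, hθ00⟩ := exists_height_zero hM hg
  have hdvd : ∀ x ∈ F, ∀ y ∈ F, (2 : ℤ) ^ blockHeight 2 g (x : C → ℂ) ∣ E x y := fun x hx y _ => by
    rw [hE, scaled_symm]
    simpa using scaled_dvd hM hg (x := y) (hmF.1 hx)
  have hexact : ∀ x ∈ F, ∀ y ∈ F, blockHeight 2 g (y : C → ℂ) = 0 →
      ¬ (2 : ℤ) ^ (blockHeight 2 g (x : C → ℂ) + 1) ∣ E x y := fun x hx y hy hy0 hd => by
    rw [hE, scaled_symm] at hd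
    exact (scaled_exact hM hg (hmF.1 hy) (hmF.1 hx)).1 (by simpa using hd) hy0
  have hzero : (F.filter fun x : IrrCharacter C => blockHeight 2 g (x : C → ℂ) = 0).card ≤ 4 :=
    card_height_zero_le hM hmax hSR
  rw [← hTb, ← hEb] at *
  rcases hshape with ⟨e, s, A, he, hr, hmod, hS⟩ | ⟨h4, -, s, V, hV⟩
  · have hS' := hS.coords hSR.h_even h0 two_ne_zero F N hgram
    set S : IrrCharacter C → ℤ := fun θ => ∑ x ∈ Tb, N θ x * s x with hSdef
    set A' : Fin e → IrrCharacter C → ℤ := fun i θ => ∑ x ∈ Tb, N θ x * A i x with hAdef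
    have hSg : Shape F E h e 4 S A' :=
      ⟨fun x hx y hy => (hquad x (hmF.1 hx) y (hmF.1 hy)).trans (hS'.eq x hx y hy),
        hS'.ss, hS'.AA, hS'.sA, hS'.parity⟩
    have hR := hSg.rows (fun x : IrrCharacter C => blockHeight 2 g (x : C → ℂ)) hdvd hexact
      ⟨θ0, hmF.2 hθ0, hθ00⟩ hzero he h2 hSR.h_even hmod
    refine ⟨e, S, A', he, hrank.trans hr, hmod, hSg, ?_⟩
    have hup := hR.card_le
    have hlow := hbound (Option (Fin e)) (fun o => o.elim s A)
      (fun o => by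
        rcases o with _ | i
        exacts [fun x hx => hS.apply_s hx, fun x hx => hS.apply_A hSR.h_even hx i])
      (fun o o' hne' => by
        rcases o with _ | i <;> rcases o' with _ | j
        · exact absurd rfl hne'
        · exact hS.sA j
        · exact (Finset.sum_congr rfl fun x _ => mul_comm _ _).trans (hS.sA i)
        · exact (hS.AA i j).trans (if_neg fun e => hne' (congrArg some e)))
      (fun o => by
        rcases o with _ | i
        · exact hS.ss.trans_ne (by omega)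
        · exact (hS.AA i i).trans_ne (by norm_num))
    rw [Fintype.card_option, Fintype.card_fin] at hlow
    rw [Nat.card_eq_card_finite_toFinset g.toFinite, ← hF]
    have := Nat.div_add_mod h 2
    have := hSR.h_even.two_dvd
    omega
  · exfalso
    have hs : ∀ x ∈ Tb, ∑ y ∈ Tb, Eb x y * s y = 2 * (h : ℤ) * s x := fun x hx => by
      rw [Finset.sum_congr rfl (g := fun y => s x * (s y * s y) + (h : ℤ) * V x * (s y * V y))
        fun y hy => by rw [show Eb x y = _ from hV.eq x hx y hy]; ring, Finset.sum_add_distrib, ← Finset.mul_sum,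
        ← Finset.mul_sum, hV.ss, hV.sV]
      ring
    have hv : ∀ x ∈ Tb, ∑ y ∈ Tb, Eb x y * V y = 2 * (h : ℤ) * V x := fun x hx => by
      rw [Finset.sum_congr rfl (g := fun y => s x * (s y * V y) + (h : ℤ) * V x * (V y * V y))
        fun y hy => by rw [show Eb x y = _ from hV.eq x hx y hy]; ring, Finset.sum_add_distrib, ← Finset.mul_sum,
        ← Finset.mul_sum, hV.sV, hV.VV]
      ring
    set S : IrrCharacter C → ℤ := fun θ => ∑ x ∈ Tb, N θ x * s x with hSdef
    set a : IrrCharacter C → ℤ := fun θ => ∑ x ∈ Tb, N θ x * V x with hadef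
    have hform : ∀ x ∈ F, ∀ y ∈ F, E x y = S x * S y + (h : ℤ) * (a x * a y) := fun x hx y hy => by
      rw [hquad x (hmF.1 hx) y (hmF.1 hy)]
      simp only [hSdef, hadef, Finset.sum_mul_sum]
      rw [Finset.mul_sum, ← Finset.sum_add_distrib]
      refine Finset.sum_congr rfl fun x' hx' => ?_
      rw [Finset.mul_sum, ← Finset.sum_add_distrib]
      refine Finset.sum_congr rfl fun y' hy' => ?_
      rw [show Eb x' y' = _ from hV.eq x' hx' y' hy']
      ring
    have hhe : Even (h : ℤ) := (Int.even_coe_nat _).2 hSR.h_even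
    have hodd : ∀ x ∈ F, blockHeight 2 g (x : C → ℂ) = 0 ↔ Odd (S x) := by
      have hpar : ∀ x ∈ F, ∀ y ∈ F, Odd (E x y) ↔ Odd (S x) ∧ Odd (S y) := fun x hx y hy => by
        rw [hform x hx y hy, Int.odd_add, Int.odd_mul]
        simp [hhe.mul_right]
      have hfw : ∀ x ∈ F, blockHeight 2 g (x : C → ℂ) = 0 → Odd (S x) := fun x hx hx0 => by
        have h1 := hexact x hx x hx hx0
        rw [hx0, zero_add, pow_one, ← even_iff_two_dvd, Int.not_even_iff_odd, hpar x hx x hx] at h1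
        exact h1.1
      refine fun x hx => ⟨hfw x hx, fun hs' => ?_⟩
      by_contra hx0
      have h1 : Odd (E x θ0) := (hpar x hx θ0 (hmF.2 hθ0)).2 ⟨hs', hfw θ0 (hmF.2 hθ0) hθ00⟩
      exact Int.not_even_iff_odd.2 h1
        (even_iff_two_dvd.2 ((dvd_pow_self 2 hx0).trans (hdvd x hx θ0 (hmF.2 hθ0))))
    have hSI : ∀ x ∈ Tb, S (infl Z x) = s x := fun x hx => (hvec s hs).2 x hx
    have haI : ∀ x ∈ Tb, a (infl Z x) = V x := fun x hx => (hvec V hv).2 x hx
    obtain ⟨x0, hx0, hx00, hVx0⟩ := hV.vanish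
    have hx0F : infl Z x0 ∈ F := hmF.2 (hin hx0)
    have h04 : 4 ≤ (Tb.filter fun x => Odd (s x)).card := by
      have hd : (4 : ℤ) ∣ ∑ x ∈ Tb, (s x * s x - if Odd (s x) then 1 else 0) := by
        refine Finset.dvd_sum fun x _ => ?_
        rcases Int.even_or_odd (s x) with ⟨j, hj⟩ | ⟨j, hj⟩
        · rw [if_neg (by rw [Int.not_odd_iff_even]; exact ⟨j, hj⟩), hj]
          exact ⟨j * j, by ring⟩
        · rw [if_pos ⟨j, hj⟩, hj]
          exact ⟨j * j + j, by ring⟩
      rw [Finset.sum_sub_distrib, hV.ss, Finset.sum_boole] at hd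
      have hne' : 0 < (Tb.filter fun x => Odd (s x)).card := Finset.card_pos.2 ⟨x0,
        Finset.mem_filter.2 ⟨hx0, hSI x0 hx0 ▸ (hodd _ hx0F).1 (by rw [hhF hx0]; exact hx00)⟩⟩
      obtain ⟨j, hj⟩ := hSR.h_even
      have h4' : (4 : ℤ) ∣ 2 * (h : ℤ) := ⟨j, by rw [hj]; push_cast; ring⟩
      have := (dvd_sub_right h4').1 hd
      omega
    have hFfeven : ∀ θ ∈ Ff, Even (S θ) := by
      intro θ hθ
      by_contra ho
      rw [Int.not_even_iff_odd] at ho
      obtain ⟨hθF, hθI⟩ := Finset.mem_sdiff.1 hθ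
      have h1 : insert θ ((Tb.filter fun x => Odd (s x)).image (infl Z)) ⊆
          F.filter fun x : IrrCharacter C => blockHeight 2 g (x : C → ℂ) = 0 := by
        intro x hx
        rw [Finset.mem_insert, Finset.mem_image] at hx
        rcases hx with rfl | ⟨y, hy, rfl⟩
        · exact Finset.mem_filter.2 ⟨hθF, (hodd _ hθF).2 ho⟩
        · obtain ⟨hy1, hy2⟩ := Finset.mem_filter.1 hy
          exact Finset.mem_filter.2 ⟨hmF.2 (hin hy1),
            (hodd _ (hmF.2 (hin hy1))).2 (by rw [hSI y hy1]; exact hy2)⟩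
      have h5 := (Finset.card_le_card h1).trans hzero
      rw [Finset.card_insert_of_notMem (fun hh => hθI (Finset.image_subset_image
        (Finset.filter_subset _ _) hh)), Finset.card_image_of_injective _ (infl_injective Z)] at h5
      omega
    have hlow := hbound (Fin 2) ![s, V]
      (fun i => by fin_cases i <;> assumption)
      (fun i j hij => by
        fin_cases i <;> fin_cases j <;> simp at hij ⊢
        exacts [hV.sV, (Finset.sum_congr rfl fun x _ => mul_comm _ _).trans hV.sV])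
      (fun i => by
        fin_cases i
        · exact hV.ss.trans_ne (by omega)
        · exact hV.VV.trans_ne (by norm_num))
    rw [Fintype.card_fin] at hlow
    have hsmall : (Ff.filter fun θ => S θ ≠ 0).card ≤ h / 2 := by
      have h1 : (4 : ℤ) * (Ff.filter fun θ => S θ ≠ 0).card ≤ ∑ θ ∈ Ff, S θ * S θ := by
        refine le_trans ?_ (Finset.sum_le_sum_of_subset_of_nonneg (Finset.filter_subset (fun θ => S θ ≠ 0) Ff)
          fun θ _ _ => mul_self_nonneg _)
        rw [mul_comm, ← nsmul_eq_mul]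
        refine Finset.card_nsmul_le_sum _ (fun θ => S θ * S θ) 4 fun θ hθ => ?_
        obtain ⟨hθ1, hθ2⟩ := Finset.mem_filter.1 hθ
        obtain ⟨j, hj⟩ := hFfeven θ hθ1
        rw [hj]
        rcases lt_trichotomy j 0 with e' | e' | e'
        · nlinarith
        · exact absurd (by omega) hθ2
        · nlinarith
      rw [hsplit s s hs hs, hV.ss] at h1
      omega
    obtain ⟨θ, hθ, hθS⟩ : ∃ θ ∈ Ff, S θ = 0 := by
      by_contra hno
      push Not at hno
      rw [Finset.filter_true_of_mem hno] at hsmall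
      omega
    have hθF := (Finset.mem_sdiff.1 hθ).1
    refine hexact θ hθF _ hx0F (by rw [hhF hx0]; exact hx00) ?_
    rw [hform θ hθF _ hx0F, hθS, haI x0 hx0, hVx0]
    simp

end CfsgLib.BlockA.SemiDihDefect
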