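import Cfsg.Agent.Lib.BlockA.ResidualDegree
import Cfsg.Agent.Lib.BlockB.PrincipalLambda
import Cfsg.Agent.Lib.BlockB.PrincipalKer
import Cfsg.Agent.Lib.Clifford.CyclicGlauberman
import Mathlib.FieldTheory.Finite.Basic
import Mathlib.Algebra.BigOperators.Ring.Nat

/-!
The odd-degree characters of the principal 2-block fixed by the Galois automorphism that cubes
two-power roots of unity: if the only ones are linear, there is a normal 2-complement.
-/

set_option autoImplicit false
set_option linter.unusedSectionVars false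

namespace CfsgLib.BlockA.SigmaComplement

open Cfsg CfsgLib.Block CfsgLib.BlockB CfsgLib.Clifford
open scoped ComplexConjugate

universe u

/-- A permutation of two-power order preserves the parity of the number of fixed points. -/
theorem card_modEq_fixed {X : Type*} [Finite X] (σ : Equiv.Perm X) {t : ℕ} (h : σ ^ 2 ^ t = 1) :
    Nat.card X ≡ Nat.card {x : X // σ x = x} [MOD 2] := by
  have := Fact.mk Nat.prime_two
  obtain ⟨j, -, hj⟩ := (Nat.dvd_prime_pow Nat.prime_two).1 (orderOf_dvd_of_pow_eq_one h)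
  have hp : IsPGroup 2 (Subgroup.zpowers σ) :=
    IsPGroup.of_card (n := j) (by rw [Nat.card_zpowers, hj])
  suffices e : Nat.card (MulAction.fixedPoints (Subgroup.zpowers σ) X) =
      Nat.card {x : X // σ x = x} by
    have h1 := hp.card_modEq_card_fixedPoints X
    rwa [e] at h1
  refine Nat.card_congr (Equiv.subtypeEquivRight fun x => ?_)
  constructor
  · intro hx
    exact hx ⟨σ, Subgroup.mem_zpowers σ⟩
  · rintro hx ⟨τ, hτ⟩
    obtain ⟨i, rfl⟩ := Subgroup.mem_zpowers_iff.1 hτ
    show (σ ^ i) x = x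
    exact Equiv.Perm.zpow_apply_eq_self_of_apply_eq_self hx i

variable {G : Type u} [Group G] [Fintype G] {M : Ideal AlgInt} {k : ℕ}
  (hk₁ : ∀ g : G, (∃ j : ℕ, orderOf g = 2 ^ j) → g ^ k = g ^ 3)
  (hk₂ : ∀ g : G, Odd (orderOf g) → g ^ k = g)

/-- Splitting an element into its 2-part and its odd part. -/
theorem exists_split (g : G) : ∃ u v : G, Commute u v ∧ u * v = g ∧
    (∃ j : ℕ, orderOf u = 2 ^ j) ∧ Odd (orderOf v) := by
  obtain ⟨w, hw⟩ := exists_isPPart Nat.prime_two g
  obtain ⟨v, hv, hc, hu, hodd⟩ := hw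
  exact ⟨w, v, hc, hv, hu, Nat.odd_iff.2 (by omega)⟩

include hk₁ hk₂

theorem coprime_natCard : k.Coprime (Nat.card G) := by
  refine Nat.coprime_of_dvd' fun q hq hqk hqG => ?_
  exfalso
  have := Fact.mk hq
  obtain ⟨g, hg⟩ := exists_prime_orderOf_dvd_card' q hqG
  have hgk : g ^ k = 1 := orderOf_dvd_iff_pow_eq_one.1 (hg ▸ hqk)
  rcases hq.eq_two_or_odd' with rfl | hodd
  · rw [hk₁ g ⟨1, by rw [hg, pow_one]⟩] at hgk
    have h3 := orderOf_dvd_iff_pow_eq_one.2 hgk
    rw [hg] at h3
    omega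
  · rw [hk₂ g (hg ▸ hodd)] at hgk
    rw [hgk, orderOf_one] at hg
    exact hq.one_lt.ne hg

theorem pow_iterate (g : G) (j : ℕ) {u v : G} (hc : Commute u v) (he : u * v = g)
    (hu : ∃ i : ℕ, orderOf u = 2 ^ i) (hv : Odd (orderOf v)) : g ^ k ^ j = u ^ 3 ^ j * v := by
  induction j with
  | zero => simp [he]
  | succ j ih =>
    rw [pow_succ, pow_mul, ih, ((hc.pow_left (3 ^ j))).mul_pow, ← pow_mul, mul_comm (3 ^ j),
      pow_mul, hk₁ u hu, hk₂ v hv, ← pow_mul, ← pow_succ']

/-- The automorphism has two-power order. -/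
theorem exists_period : ∃ t : ℕ, ∀ g : G, g ^ k ^ 2 ^ t = g := by
  refine ⟨Nat.card G, fun g => ?_⟩
  obtain ⟨u, v, hc, he, ⟨i, hi⟩, hv⟩ := exists_split g
  rw [pow_iterate hk₁ hk₂ g _ hc he ⟨i, hi⟩ hv]
  conv_rhs => rw [← he]
  congr 1
  conv_rhs => rw [← pow_one u]
  rw [pow_inj_mod, hi]
  rcases Nat.eq_zero_or_pos i with rfl | hi0
  · simp [Nat.mod_one]
  have hcop : Nat.Coprime 3 (2 ^ i) := Nat.Coprime.pow_right i (by norm_num)
  have htot : Nat.totient (2 ^ i) = 2 ^ (i - 1) := by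
    rw [Nat.totient_prime_pow Nat.prime_two hi0]; simp
  have h1 := Nat.ModEq.pow_totient hcop
  rw [htot] at h1
  have hle : i - 1 ≤ Nat.card G := by
    have : 2 ^ i ≤ Nat.card G := hi ▸ Nat.le_of_dvd Nat.card_pos (orderOf_dvd_natCard u)
    have := Nat.lt_two_pow_self (n := i)
    omega
  have h2 := h1.pow (2 ^ (Nat.card G - (i - 1)))
  rw [← pow_mul, ← pow_add, Nat.add_sub_cancel' hle, one_pow] at h2
  exact h2

omit hk₁ in
theorem regular_fixed {g : G} (hg : ¬ 2 ∣ orderOf g) : g ^ k = g :=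
  hk₂ g (Nat.odd_iff.2 (by omega))

/-- A linear character of odd order is unchanged. -/
theorem hom_pow_eq (μ : G →* ℂˣ) (hμ : Odd (orderOf μ)) (g : G) : μ (g ^ k) = μ g := by
  obtain ⟨u, v, hc, he, ⟨i, hi⟩, hv⟩ := exists_split g
  have h1 : g ^ k = u ^ 3 * v := by
    have := pow_iterate hk₁ hk₂ g 1 hc he ⟨i, hi⟩ hv
    simpa using this
  have hu : μ u = 1 := by
    rw [← orderOf_eq_one_iff]
    refine Nat.eq_one_of_dvd_coprimes
      ((Nat.coprime_two_left.2 hμ).pow_left i : Nat.Coprime (2 ^ i) (orderOf μ))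
      (hi ▸ orderOf_map_dvd μ u) (orderOf_dvd_of_pow_eq_one ?_)
    rw [← MonoidHom.pow_apply, pow_orderOf_eq_one, MonoidHom.one_apply]
  rw [h1, ← he, map_mul, map_mul, map_pow, hu, one_pow]

/-- An invariant fixed character of odd degree of `O²(G)` has a fixed extension. -/
theorem exists_fixed_extension [(Cfsg.pResidual 2 G).Normal]
    (θ : IrrCharacter (Cfsg.pResidual 2 G))
    (hinv : ∀ g : G, conjFn g (θ : Cfsg.pResidual 2 G → ℂ) = θ)
    (hd : Odd (charDegree (θ : Cfsg.pResidual 2 G → ℂ)))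
    (hfix : ∀ x : Cfsg.pResidual 2 G,
      (θ : Cfsg.pResidual 2 G → ℂ) (x ^ k) = (θ : Cfsg.pResidual 2 G → ℂ) x) :
    ∃ χ : IrrCharacter G, (∀ x : Cfsg.pResidual 2 G,
        (χ : G → ℂ) x = (θ : Cfsg.pResidual 2 G → ℂ) x) ∧
      ∀ g : G, (χ : G → ℂ) (g ^ k) = (χ : G → ℂ) g := by
  classical
  have := Fact.mk Nat.prime_two
  have hk := coprime_natCard hk₁ hk₂
  obtain ⟨θ, hθ⟩ := θ
  obtain ⟨n, ρ, hρ, rfl⟩ := hθ
  obtain ⟨a, ha⟩ := CfsgLib.Transfer.pResidual_index_eq_pow (G := G) (p := 2)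
  let N := Cfsg.pResidual 2 G
  change ∀ g : G, conjFn g ρ.character = ρ.character at hinv
  change ∀ x : N, ρ.character (x ^ k) = ρ.character x at hfix
  change Odd (charDegree ρ.character) at hd
  have hn : charDegree ρ.character = n := by simp [charDegree, Representation.char_one]
  rw [hn] at hd
  have hcopn : Nat.Coprime N.index n := ha ▸ (Nat.coprime_two_left.2 hd).pow_left a
  set lam : N →* ℂˣ := (Units.map LinearMap.det).comp (repUnits ρ)
  have hlaminv : ∀ (g : G) (m : N), lam (conjN g m) = lam m := fun g m => by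
    refine Units.ext ?_
    let c : N →* N := { toFun := conjN g
                        map_one' := Subtype.ext (by simp)
                        map_mul' := fun a b => Subtype.ext (by simp) }
    let ρ' : Representation ℂ N (Fin n → ℂ) := ρ.comp c
    have hch : ρ'.character = ρ.character := by
      funext x
      exact congrFun (hinv g) x
    have : ρ'.IsIrreducible := Clifford.isIrreducible_of_classInner_self ρ' (by
      rw [hch]; exact CfsgLib.Char.irr_classInner_self (CfsgLib.Char.isIrrCharacter_of_rep ρ))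
    have h1 := detChar_eq ρ'
    rw [hch, detChar_eq ρ] at h1
    exact (congrFun h1 m).symm
  have hlamo := coprime_orderOf_hom_pResidual (p := 2) lam
  obtain ⟨μ, hμ, hμo, -⟩ := exists_linear_extension lam hlaminv (ha ▸ hlamo.symm.pow_left a)
  have hμ' : ∀ m : N, (μ m : ℂ) = LinearMap.det (ρ m) := fun m => by rw [hμ]; rfl
  obtain ⟨χ₀, hχ₀, hχ₀res⟩ := exists_irr_extension_of_det ρ
    (fun g m => congrFun (hinv g) m) μ hμ' hcopn
  obtain ⟨σ, hσ, -⟩ := exists_rep_extension_top ρ (CfsgLib.Char.irr_isCharacter hχ₀) hχ₀res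
  obtain ⟨χ, ⟨hχ, hχres, hχdet⟩, huniq⟩ := existsUnique_extension_det ρ hcopn σ hσ μ hμ'
  refine ⟨⟨χ, hχ⟩, hχres, fun g => ?_⟩
  have hodd : Odd (orderOf μ) := Nat.coprime_two_right.1 (hμo ▸ hlamo)
  have e := huniq (fun g => χ (g ^ k)) ⟨isIrrCharacter_comp_pow hk hχ, fun m => ?_, ?_⟩
  · exact congrFun e g
  · show χ ((m : G) ^ k) = _
    rw [← hfix m, ← hχres, SubmonoidClass.coe_pow]
  · funext g
    rw [CfsgLib.Clifford.CyclicGlauberman.detChar_comp_pow hk hχ, hχdet, ← Units.val_pow_eq_pow_val,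
      ← map_pow, hom_pow_eq hk₁ hk₂ μ hodd]

omit hk₁ hk₂ in
theorem pResidual_of_odd {g : G} (hg : ¬ 2 ∣ orderOf g) : g ∈ Cfsg.pResidual 2 G :=
  CfsgLib.Transfer.mem_pResidual_of_coprime
    (Nat.coprime_two_right.2 (Nat.odd_iff.2 (by omega)))

omit hk₁ hk₂ in
/-- Extensions lie in the principal block. -/
theorem mem_principal_of_extension (hM : IsPModular 2 M) [(Cfsg.pResidual 2 G).Normal]
    [Fintype (Cfsg.pResidual 2 G)] {θ : IrrCharacter (Cfsg.pResidual 2 G)}
    (hθ : θ ∈ principalBlock M (Cfsg.pResidual 2 G)) {χ : IrrCharacter G}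
    (hres : ∀ x : Cfsg.pResidual 2 G, (χ : G → ℂ) x = (θ : Cfsg.pResidual 2 G → ℂ) x) :
    χ ∈ principalBlock M G := by
  classical
  rw [mem_principalBlock_iff_regTotal hM] at hθ ⊢
  convert hθ using 1
  unfold regTotal
  rw [← Finset.sum_subset (Finset.subset_univ (Finset.univ.filter (· ∈ Cfsg.pResidual 2 G)))
    (fun x _ hx => by
      by_cases h2 : 2 ∣ orderOf x
      · simp [regInd, h2]
      · exact absurd (pResidual_of_odd h2) (by simpa using hx))]
  rw [Finset.sum_subtype (p := fun x => x ∈ Cfsg.pResidual 2 G) (F := ‹_›) _ (by simp)]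
  refine Finset.sum_congr (by ext; simp) fun x _ => ?_
  rw [hres, regInd, regInd, Subgroup.orderOf_coe]

/-- **The criterion.** -/
theorem hasNormalPComplement (hM : IsPModular 2 M)
    (h : ∀ χ ∈ principalBlock M G, Odd (charDegree (χ : G → ℂ)) →
      (∀ g : G, (χ : G → ℂ) (g ^ k) = (χ : G → ℂ) g) → charDegree (χ : G → ℂ) = 1) :
    HasNormalPComplement 2 G := by
  classical
  have := Fact.mk Nat.prime_two
  have := isPrime_of_pmodular hM
  set K := Cfsg.pResidual 2 G with hK
  have hKn : K.Normal := CfsgLib.Transfer.pResidual_normal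
  obtain ⟨a, ha⟩ := CfsgLib.Transfer.pResidual_index_eq_pow (G := G) (p := 2)
  rcases Nat.even_or_odd (Nat.card K) with heven | hodd
  swap
  · obtain ⟨P⟩ : Nonempty (Sylow 2 G) := inferInstance
    refine ⟨P, K, hKn, ?_⟩
    have hP := P.card_eq_multiplicity
    have hcard : Nat.card K * Nat.card (P : Subgroup G) = Nat.card G := by
      rw [hP, ← K.card_mul_index, ha]
      congr 2
      rw [Nat.factorization_mul Nat.card_pos.ne' (by positivity), Finsupp.add_apply,
        Nat.factorization_eq_zero_of_not_dvd (fun h2 => Nat.not_even_iff_odd.2 hodd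
          (even_iff_two_dvd.2 h2)), zero_add, Nat.Prime.factorization_pow Nat.prime_two,
        Finsupp.single_eq_same]
    exact Subgroup.isComplement'_of_coprime hcard (hP ▸ (Nat.coprime_two_right.2 hodd).pow_right _)
  exfalso
  have := Fintype.ofFinite K
  have := Fintype.ofFinite (IrrCharacter K)
  have hk := coprime_natCard hk₁ hk₂
  obtain ⟨t, ht⟩ := exists_period hk₁ hk₂
  let T := {θ : IrrCharacter K // θ ∈ principalBlock M K ∧ Odd (charDegree (θ : K → ℂ))}
  -- the parity of the block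
  have hT : Nat.card T ≡ 0 [MOD 2] := by
    have h2 := BlockB.prime_dvd_sum_degree_sq (G := K) hM heven.two_dvd
    have e : Nat.card T = ((Finset.univ.filter fun θ : IrrCharacter K =>
        θ ∈ principalBlock M K).filter fun θ : IrrCharacter K =>
          Odd (charDegree (θ : K → ℂ))).card := by
      rw [Nat.card_eq_fintype_card, Fintype.card_subtype, Finset.filter_filter]
    rw [e, Nat.modEq_zero_iff_dvd, ← even_iff_two_dvd, ← Nat.not_odd_iff_even]
    intro hc
    rw [← even_iff_two_dvd, ← Nat.not_odd_iff_even, Finset.odd_sum_iff_odd_card_odd] at h2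
    simp only [Nat.odd_pow_iff two_ne_zero] at h2
    exact h2 hc
  -- conjugation
  have hconj_deg : ∀ (θ : IrrCharacter K) (g : G),
      charDegree (conjIrr K θ g : K → ℂ) = charDegree (θ : K → ℂ) := fun θ g => by
    have e : (⟨g * ((1 : K) : G) * g⁻¹, hKn.conj_mem _ (1 : K).2 g⟩ : K) = 1 := Subtype.ext (by simp)
    simp only [charDegree, conjIrr_apply, e]
  let act : G →* Equiv.Perm T :=
    { toFun := fun g =>
        { toFun := fun θ => ⟨conjIrr K θ.1 g⁻¹, conjIrr_mem_principalBlock K hM θ.2.1 _,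
            (hconj_deg _ _).symm ▸ θ.2.2⟩
          invFun := fun θ => ⟨conjIrr K θ.1 g, conjIrr_mem_principalBlock K hM θ.2.1 _,
            (hconj_deg _ _).symm ▸ θ.2.2⟩
          left_inv := fun θ => Subtype.ext (by
            show conjIrr K (conjIrr K θ.1 g⁻¹) g = θ.1
            rw [conjIrr_conjIrr, inv_mul_cancel, conjIrr_one])
          right_inv := fun θ => Subtype.ext (by
            show conjIrr K (conjIrr K θ.1 g) g⁻¹ = θ.1
            rw [conjIrr_conjIrr, mul_inv_cancel, conjIrr_one]) }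
      map_one' := Equiv.ext fun θ => Subtype.ext (by
        show conjIrr K θ.1 (1 : G)⁻¹ = θ.1
        rw [inv_one, conjIrr_one])
      map_mul' := fun g h => Equiv.ext fun θ => Subtype.ext (by
        show conjIrr K θ.1 (g * h)⁻¹ = conjIrr K (conjIrr K θ.1 h⁻¹) g⁻¹
        rw [conjIrr_conjIrr, mul_inv_rev]) }
  have hker : K ≤ act.ker := fun x hx => MonoidHom.mem_ker.2 (Equiv.ext fun θ => Subtype.ext
    (Subtype.ext (funext fun n => by
      show (θ.1 : K → ℂ) _ = (θ.1 : K → ℂ) n
      have e := CfsgLib.Char.irr_isClassFunction θ.1.2 n (⟨x, hx⟩⁻¹ : K)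
      convert e using 2
      exact Subtype.ext (by simp))))
  have hrange : IsPGroup 2 act.range := by
    obtain ⟨j, -, hj⟩ := (Nat.dvd_prime_pow Nat.prime_two).1
      (ha ▸ Subgroup.index_dvd_of_le hker : act.ker.index ∣ 2 ^ a)
    exact IsPGroup.of_card (n := j) (by rw [← Subgroup.index_ker, hj])
  let X := {θ : T // ∀ g : G, act g θ = θ}
  have hX : Nat.card T ≡ Nat.card X [MOD 2] := by
    suffices e : Nat.card (MulAction.fixedPoints act.range T) = Nat.card X by
      have h1 := hrange.card_modEq_card_fixedPoints T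
      rwa [e] at h1
    refine Nat.card_congr (Equiv.subtypeEquivRight fun θ => ?_)
    constructor
    · exact fun hx g => hx ⟨act g, g, rfl⟩
    · rintro hx ⟨_, g, rfl⟩
      exact hx g
  -- the automorphism
  have hkK : k.Coprime (Nat.card K) := hk.coprime_dvd_right (Subgroup.card_subgroup_dvd_card K)
  have hgal_deg : ∀ θ : IrrCharacter K,
      charDegree (galIrr hkK θ : K → ℂ) = charDegree (θ : K → ℂ) := fun θ => by
    show ⌊((θ : K → ℂ) ((1 : K) ^ k)).re⌋₊ = _
    rw [one_pow]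
    rfl
  have hgal_inv : ∀ θ : X, ∀ g : G, conjIrr K (galIrr hkK θ.1.1) g⁻¹ = galIrr hkK θ.1.1 := by
    intro θ g
    have e : conjIrr K θ.1.1 g⁻¹ = θ.1.1 := congrArg Subtype.val (θ.2 g)
    refine Subtype.ext (funext fun n => ?_)
    rw [conjIrr_apply]
    show (θ.1.1 : K → ℂ) (_ ^ k) = (θ.1.1 : K → ℂ) (n ^ k)
    conv_rhs => rw [← e, conjIrr_apply]
    refine congrArg _ (Subtype.ext ?_)
    rw [SubmonoidClass.coe_pow]
    push_cast
    rw [conj_pow]
  let sX : X → X := fun θ => ⟨⟨galIrr hkK θ.1.1, galIrr_mem_principalBlock hM hkK θ.1.2.1,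
    (hgal_deg _).symm ▸ θ.1.2.2⟩, fun g => Subtype.ext (hgal_inv θ g)⟩
  have hsX : Function.Bijective sX := Finite.injective_iff_bijective.1 fun x y e =>
    Subtype.ext (Subtype.ext (galIrr_injective hkK (congrArg (fun z : X => z.1.1) e)))
  let σ : Equiv.Perm X := Equiv.ofBijective sX hsX
  have hσit : ∀ (j : ℕ) (θ : X) (n : K),
      (((σ ^ j) θ).1.1 : K → ℂ) n = (θ.1.1 : K → ℂ) (n ^ k ^ j) := by
    intro j
    induction j with
    | zero => intro θ n; simp
    | succ j ih =>
      intro θ n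
      rw [pow_succ', Equiv.Perm.mul_apply]
      show (((σ ^ j) θ).1.1 : K → ℂ) (n ^ k) = _
      rw [ih, ← pow_mul, pow_succ']
  have hσt : σ ^ 2 ^ t = 1 := Equiv.ext fun θ => Subtype.ext (Subtype.ext (Subtype.ext (funext
    fun n => by
      rw [hσit]
      show (θ.1.1 : K → ℂ) _ = (θ.1.1 : K → ℂ) n
      refine congrArg _ (Subtype.ext ?_)
      rw [SubmonoidClass.coe_pow, ht])))
  let Y := {θ : X // σ θ = θ}
  have hY : Nat.card Y ≡ 0 [MOD 2] := ((card_modEq_fixed σ hσt).symm.trans hX.symm).trans hT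
  -- all of them are linear
  have hlin : ∀ θ : Y, charDegree (θ.1.1.1 : K → ℂ) = 1 := by
    intro θ
    obtain ⟨χ, hres, hfix⟩ := exists_fixed_extension hk₁ hk₂ θ.1.1.1
      (fun g => by
        have e := congrArg (fun z : T => (z.1 : K → ℂ)) (θ.1.2 g⁻¹)
        funext n
        have e2 := congrFun e n
        show (θ.1.1.1 : K → ℂ) _ = _
        rw [← e2]
        show _ = (conjIrr K θ.1.1.1 g⁻¹⁻¹ : K → ℂ) n
        rw [conjIrr_apply]
        refine congrArg _ (Subtype.ext ?_)
        simp [coe_conjN, mul_assoc])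
      θ.1.1.2.2 (fun x => congrFun (congrArg (fun z : X => (z.1.1 : K → ℂ)) θ.2) x)
    have hdeg : charDegree (θ.1.1.1 : K → ℂ) = charDegree (χ : G → ℂ) := by
      simp only [charDegree, ← hres 1, OneMemClass.coe_one]
    rw [hdeg]
    exact h χ (mem_principal_of_extension hM θ.1.1.2.1 hres) (hdeg ▸ θ.1.1.2.2) hfix
  -- the fixed linear characters are odd in number
  have hk' : (Nat.card K - 1).Coprime (Nat.card K) := by
    have := Nat.card_pos (α := K)
    exact (Nat.coprime_self_sub_left this).2 (Nat.coprime_one_left _)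
  have hbar : ∀ (n : K), n ^ (Nat.card K - 1) = n⁻¹ := fun n => by
    refine eq_inv_of_mul_eq_one_left ?_
    rw [← pow_succ, Nat.sub_add_cancel Nat.card_pos, pow_card_eq_one']
  have hbarirr : ∀ θ : IrrCharacter K, ∀ n : K,
      (galIrr hk' θ : K → ℂ) n = (θ : K → ℂ) n⁻¹ := fun θ n => by
    show (θ : K → ℂ) (n ^ (Nat.card K - 1)) = _
    rw [hbar]
  let bY : Y → Y := fun θ => ⟨⟨⟨galIrr hk' θ.1.1.1, galIrr_mem_principalBlock hM hk' θ.1.1.2.1,
      by
        show Odd ⌊((θ.1.1.1 : K → ℂ) ((1 : K) ^ (Nat.card K - 1))).re⌋₊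
        rw [one_pow]
        exact θ.1.1.2.2⟩,
    fun g => Subtype.ext (by
      have e : conjIrr K θ.1.1.1 g⁻¹ = θ.1.1.1 := congrArg Subtype.val (θ.1.2 g)
      refine Subtype.ext (funext fun n => ?_)
      show (conjIrr K (galIrr hk' θ.1.1.1) g⁻¹ : K → ℂ) n = _
      rw [conjIrr_apply, hbarirr, hbarirr]
      conv_rhs => rw [← e, conjIrr_apply]
      refine congrArg _ (Subtype.ext ?_)
      push_cast
      group)⟩,
    Subtype.ext (Subtype.ext (Subtype.ext (funext fun n => by
      show (galIrr hk' θ.1.1.1 : K → ℂ) (n ^ k) = (galIrr hk' θ.1.1.1 : K → ℂ) n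
      rw [hbarirr, hbarirr, ← inv_pow]
      exact congrFun (congrArg (fun z : X => (z.1.1 : K → ℂ)) θ.2) n⁻¹)))⟩
  have hbY : Function.Involutive bY := fun θ =>
    Subtype.ext (Subtype.ext (Subtype.ext (Subtype.ext (funext fun n => by
      show (galIrr hk' (galIrr hk' θ.1.1.1) : K → ℂ) n = _
      rw [hbarirr, hbarirr, inv_inv]))))
  let β : Equiv.Perm Y := hbY.toPerm bY
  have h1mem : (⟨fun _ => 1, CfsgLib.Char.isIrrCharacter_one⟩ : IrrCharacter K) ∈
      principalBlock M K := one_mem_principalBlock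
  let one : Y := ⟨⟨⟨⟨fun _ => 1, CfsgLib.Char.isIrrCharacter_one⟩, h1mem, by simp [charDegree]⟩,
    fun g => Subtype.ext (Subtype.ext rfl)⟩, Subtype.ext (Subtype.ext (Subtype.ext rfl))⟩
  have hfix1 : ∀ θ : Y, β θ = θ → θ = one := by
    intro θ he
    have hval : ∀ n : K, (θ.1.1.1 : K → ℂ) n⁻¹ = (θ.1.1.1 : K → ℂ) n := fun n =>
      (hbarirr _ n).symm.trans (congrFun (congrArg (fun z : Y => (z.1.1.1 : K → ℂ)) he) n)
    obtain ⟨lam, hlam⟩ := CfsgLib.Char.exists_hom_of_degree_one
      (CfsgLib.Char.irr_isCharacter θ.1.1.1.2)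
      (by rw [← irr_degree_cast θ.1.1.1, hlin θ, Nat.cast_one])
    refine Subtype.ext (Subtype.ext (Subtype.ext (Subtype.ext (funext fun n => ?_))))
    show (θ.1.1.1 : K → ℂ) n = 1
    rw [hlam]
    show (lam n : ℂ) = 1
    have h2 : lam n ^ 2 = 1 := by
      have e := hval n
      rw [hlam] at e
      simp only [map_inv] at e
      rw [pow_two, mul_eq_one_iff_inv_eq]
      exact Units.ext e
    have ho : orderOf (lam n) = 1 :=
      Nat.eq_one_of_dvd_coprimes (coprime_orderOf_hom_pResidual (p := 2) lam).symm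
        (orderOf_dvd_of_pow_eq_one h2) (orderOf_dvd_of_pow_eq_one (by
          rw [← MonoidHom.pow_apply, pow_orderOf_eq_one, MonoidHom.one_apply]))
    rw [orderOf_eq_one_iff.1 ho, Units.val_one]
  have hone : β one = one := Subtype.ext (Subtype.ext (Subtype.ext (Subtype.ext (funext fun _ => rfl))))
  have hcount : Nat.card {θ : Y // β θ = θ} = 1 := by
    rw [Nat.card_eq_one_iff_unique]
    exact ⟨⟨fun x y => Subtype.ext ((hfix1 _ x.2).trans (hfix1 _ y.2).symm)⟩, ⟨⟨one, hone⟩⟩⟩
  have hsq : β ^ 2 ^ 1 = 1 := Equiv.ext fun θ => by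
    rw [pow_one, pow_two, Equiv.Perm.mul_apply]
    exact hbY θ
  have := (card_modEq_fixed β hsq).symm.trans hY
  rw [hcount] at this
  exact absurd this (by decide)

omit hk₁ hk₂ in
/-- With a normal 2-complement the principal block has only linear characters of odd degree. -/
theorem degree_one_of_complement (hM : IsPModular 2 M) (hN : HasNormalPComplement 2 G)
    {χ : IrrCharacter G} (hχ : χ ∈ principalBlock M G) (hodd : Odd (charDegree (χ : G → ℂ))) :
    charDegree (χ : G → ℂ) = 1 := by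
  classical
  have := Fact.mk Nat.prime_two
  have := isPrime_of_pmodular hM
  obtain ⟨P, N, hn, hcompl⟩ := hN
  have hidx : N.index = Nat.card (P : Subgroup G) := hcompl.symm.index_eq_card
  have hN2 : ¬ 2 ∣ Nat.card N := fun h2 => P.not_dvd_index (by
    rw [hcompl.index_eq_card]; exact h2)
  have hker := BlockB.normal_le_ker_principal hM N hN2 hχ
  have := Fintype.ofFinite N
  obtain ⟨θ, hθ, hne⟩ := exists_irr_constituent_restrict (N := N) χ.2
  obtain ⟨e, he, hdvd⟩ := degree_quot_dvd_index χ.2 hθ hne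
  have hθ1 : θ = fun _ => 1 := by
    by_contra h1
    refine hne ?_
    have horth := CfsgLib.Char.irr_classInner_ne CfsgLib.Char.isIrrCharacter_one hθ (Ne.symm h1)
    rw [CfsgLib.Char.classInner_def] at horth ⊢
    calc (Nat.card N : ℂ)⁻¹ * ∑ n : N, (χ : G → ℂ) n * conj (θ n)
        = (χ : G → ℂ) 1 * ((Nat.card N : ℂ)⁻¹ * ∑ n : N, (1 : ℂ) * conj (θ n)) := by
          simp only [Finset.mul_sum]
          refine Finset.sum_congr rfl fun n _ => ?_
          rw [hker n n.2]
          ring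
      _ = 0 := by rw [horth, mul_zero]
  have hde : charDegree (χ : G → ℂ) = e := by
    have : ((charDegree (χ : G → ℂ) : ℕ) : ℂ) = (e : ℂ) := by
      rw [irr_degree_cast χ, he, hθ1, mul_one]
    exact_mod_cast this
  rw [hidx, P.card_eq_multiplicity] at hdvd
  exact Nat.eq_one_of_dvd_coprimes ((Nat.coprime_two_right.2 hodd).pow_right _) dvd_rfl
    (hde ▸ hdvd)

end CfsgLib.BlockA.SigmaComplement
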