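import Cfsg.Agent.Lib.BlockA.Blichfeldt

/-!
Blichfeldt's sixty degree lemma, for an element whose conjugates generate: if all the eigenvalues are
within sixty degrees of one of them, the eigenspace of that one is invariant.
-/

set_option autoImplicit false
set_option linter.unusedSectionVars false

namespace CfsgLib.BlockA

open Matrix

variable {G : Type*} [Group G] [Finite G] {n : Type*} [Fintype n] [DecidableEq n]
  {R : G →* Matrix n n ℂ} (hR : ∀ g, star (R g) * R g = 1)

include hR

/-- The squared distance from the scalar on any matrix is small, strictly unless it is zero. -/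
theorem frobSq_sub_smul_le {x : G} {α : ℂ} (hclose : ∀ μ ∈ muSet (Nat.card G),
      specIdem (R x) (Nat.card G) μ ≠ 0 → ‖μ - α‖ < 1) {V : Matrix n n ℂ} :
    frobSq (R x * V - α • V) ≤ frobSq V ∧ (V ≠ 0 → frobSq (R x * V - α • V) < frobSq V) ∧
      (R x * V - α • V = 0 → α ∈ muSet (Nat.card G) → specIdem (R x) (Nat.card G) α * V = V) := by
  classical
  set m := Nat.card G
  set T := muSet m
  set E := fun μ => specIdem (R x) m μ with hE
  have hA := map_pow_natCard R x
  have horth : ∀ c : ℂ → ℂ, ∀ a ∈ T, ∀ b ∈ T, a ≠ b →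
      (star (c a • (E a * V)) * (c b • (E b * V))).trace = 0 := by
    intro c a ha b hb hne
    rw [star_smul, star_mul, star_idem hR x ha, smul_mul_assoc, mul_smul_comm, mul_assoc,
      ← mul_assoc (E a), hE, specIdem_mul_specIdem natCard_ne hA ((mem_muSet natCard_ne).1 ha)
        ((mem_muSet natCard_ne).1 hb), if_neg hne]
    simp
  have h1 : R x * V - α • V = ∑ μ ∈ T, (μ - α) • (E μ * V) := by
    simp only [sub_smul, Finset.sum_sub_distrib, ← Finset.smul_sum, ← Finset.sum_mul,
      ← smul_mul_assoc]
    rw [hE, sum_specIdem natCard_ne, ← self_eq_sum_smul_specIdem natCard_ne hA, sub_mul, smul_mul_assoc, one_mul]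
  have h2 : V = ∑ μ ∈ T, (1 : ℂ) • (E μ * V) := by
    simp only [one_smul, ← Finset.sum_mul]
    rw [hE, sum_specIdem natCard_ne, one_mul]
  have e1 : frobSq (R x * V - α • V) = ∑ μ ∈ T, ‖μ - α‖ ^ 2 * frobSq (E μ * V) := by
    rw [h1, frobSq_sum_of_orth T _ (horth fun a => a - α)]
    simp only [frobSq_smul]
  have e2 : frobSq V = ∑ μ ∈ T, frobSq (E μ * V) := by
    conv_lhs => rw [h2, frobSq_sum_of_orth T _ (horth fun _ => 1)]
    simp
  have hterm : ∀ μ ∈ T, ‖μ - α‖ ^ 2 * frobSq (E μ * V) ≤ frobSq (E μ * V) ∧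
      (E μ * V ≠ 0 → ‖μ - α‖ ^ 2 * frobSq (E μ * V) < frobSq (E μ * V)) := by
    intro μ hμ
    by_cases h : E μ * V = 0
    · rw [h]; simp [frobSq]
    have hne : specIdem (R x) m μ ≠ 0 := fun e => h (by simp [hE, e])
    have h3 : ‖μ - α‖ ^ 2 < 1 := by
      rw [pow_two]; nlinarith [norm_nonneg (μ - α), hclose μ hμ hne]
    have h4 : 0 < frobSq (E μ * V) := lt_of_le_of_ne (frobSq_nonneg _) fun e => h (frobSq_eq_zero.1 e.symm)
    exact ⟨(mul_le_of_le_one_left (frobSq_nonneg _) h3.le), fun _ => mul_lt_of_lt_one_left h4 h3⟩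
  refine ⟨?_, fun hV => ?_, fun h0 hα => ?_⟩
  · rw [e1, e2]; exact Finset.sum_le_sum fun μ hμ => (hterm μ hμ).1
  · rw [e1, e2]
    obtain ⟨a, ha, hane⟩ : ∃ a ∈ T, E a * V ≠ 0 := by
      by_contra! h
      exact hV (by rw [h2]; exact Finset.sum_eq_zero fun μ hμ => by rw [h μ hμ, smul_zero])
    exact Finset.sum_lt_sum (fun μ hμ => (hterm μ hμ).1) ⟨a, ha, (hterm a ha).2 hane⟩
  · have h5 : ∀ μ ∈ T, μ ≠ α → E μ * V = 0 := by
      intro μ hμ hne
      have h6 : frobSq (R x * V - α • V) = 0 := by rw [h0]; simp [frobSq]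
      rw [e1] at h6
      have h7 := (Finset.sum_eq_zero_iff_of_nonneg fun μ _ =>
        mul_nonneg (sq_nonneg _) (frobSq_nonneg _)).1 h6 μ hμ
      refine frobSq_eq_zero.1 ((mul_eq_zero.1 h7).resolve_left ?_)
      exact pow_ne_zero _ (norm_ne_zero_iff.2 (sub_ne_zero.2 hne))
    conv_rhs => rw [h2]
    simp only [one_smul]
    rw [Finset.sum_eq_single α (fun μ hμ hne => h5 μ hμ hne) (fun h => absurd hα h)]

/-- If the eigenvalues are within sixty degrees of one of them, every conjugate commutes with the
projection to its eigenspace. -/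
theorem commute_specIdem_conj {x : G} {α : ℂ} (hα : α ∈ muSet (Nat.card G))
    (hclose : ∀ μ ∈ muSet (Nat.card G), specIdem (R x) (Nat.card G) μ ≠ 0 → ‖μ - α‖ < 1) (g : G) :
    R (g * x * g⁻¹) * specIdem (R x) (Nat.card G) α = specIdem (R x) (Nat.card G) α * R (g * x * g⁻¹) := by
  classical
  set m := Nat.card G
  set P := specIdem (R x) m α with hP
  have hαm := (mem_muSet natCard_ne).1 hα
  have hAP : R x * P = α • P := mul_specIdem natCard_ne (map_pow_natCard R x) hαm
  have hPP : P * P = P := by
    rw [hP, specIdem_mul_specIdem natCard_ne (map_pow_natCard R x) hαm hαm, if_pos rfl]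
  have hPs : star P = P := star_idem hR x hα
  have hα0 : α ≠ 0 := fun h => by rw [h, zero_pow natCard_ne] at hαm; exact zero_ne_one hαm
  have hnα : ‖α‖ = 1 := Complex.norm_eq_one_of_pow_eq_one hαm natCard_ne
  let D : G → ℝ := fun c => frobSq (R c * P - α • P)
  -- stabilizing is commuting
  have hstab : ∀ c : G, P * R c * P = R c * P → R c * P = P * R c := by
    intro c hc
    have hsum : P * R c = P * R c * P + P * R c * (1 - P) := by rw [mul_sub, mul_one]; abel
    have hcross : (star (P * R c * P) * (P * R c * (1 - P))).trace = 0 := by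
      rw [Matrix.trace_mul_comm, star_mul, hPs, mul_assoc (P * R c), ← mul_assoc (1 - P), sub_mul, one_mul,
        hPP, sub_self]
      simp
    have e1 : frobSq (P * R c) = frobSq (P * R c * P) + frobSq (P * R c * (1 - P)) := by
      conv_lhs => rw [hsum]
      have hcross' : (star (P * R c * (1 - P)) * (P * R c * P)).trace = 0 := by
        have := congrArg star hcross
        rw [star_zero, ← Matrix.trace_conjTranspose, ← Matrix.star_eq_conjTranspose, star_mul,
          star_star] at this
        exact this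
      simp only [frobSq, star_add, add_mul, mul_add, Matrix.trace_add, Complex.add_re, hcross, hcross',
        Complex.zero_re, add_zero, zero_add]
    rw [frobSq_mul_unitary (hR c), hc, frobSq_unitary_mul (hR c), left_eq_add, frobSq_eq_zero,
      mul_sub, mul_one, sub_eq_zero, hc] at e1
    exact e1.symm
  -- the step
  have hstep : ∀ c : G, D (c * x * c⁻¹) ≤ D c ∧ (D c ≠ 0 → D (c * x * c⁻¹) < D c) ∧
      (D (c * x * c⁻¹) = 0 → R c * P = P * R c) := by
    intro c
    set V := R c⁻¹ * P - α⁻¹ • P with hV
    have hcc : R c * R c⁻¹ = 1 := by rw [← map_mul, mul_inv_cancel, map_one]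
    have hcc' : R c⁻¹ * R c = 1 := by rw [← map_mul, inv_mul_cancel, map_one]
    have e : R (c * x * c⁻¹) * P - α • P = R c * (R x * V - α • V) := by
      have hPz : R x * (α⁻¹ • P) = α • α⁻¹ • P := by rw [mul_smul_comm, hAP, smul_comm]
      rw [map_mul, map_mul, hV, mul_sub (R x), smul_sub, hPz, sub_sub_sub_cancel_right, mul_sub,
        mul_smul_comm, ← mul_assoc (R c) (R c⁻¹), hcc, one_mul, mul_assoc, mul_assoc]
    have hDV : D c = frobSq V := by
      have e2 : R c * P - α • P = (-α) • (R c * V) := by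
        rw [hV, mul_sub, mul_smul_comm, ← mul_assoc, hcc, one_mul, smul_sub, smul_smul,
          neg_mul, mul_inv_cancel₀ hα0, neg_smul, neg_smul, one_smul]
        abel
      show frobSq (R c * P - α • P) = _
      rw [e2, frobSq_smul, norm_neg, hnα, one_pow, one_mul, frobSq_unitary_mul (hR c)]
    have hD' : D (c * x * c⁻¹) = frobSq (R x * V - α • V) := by
      show frobSq (R (c * x * c⁻¹) * P - α • P) = _
      rw [e, frobSq_unitary_mul (hR c)]
    obtain ⟨h1, h2, h3⟩ := frobSq_sub_smul_le hR hclose (V := V)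
    rw [hD', hDV]
    refine ⟨h1, fun h => h2 fun hV0 => h (by rw [hV0]; simp [frobSq]), fun h => ?_⟩
    have hPV := h3 (frobSq_eq_zero.1 h) hα
    rw [← hP, hV, mul_sub, mul_smul_comm, hPP, sub_left_inj, ← mul_assoc] at hPV
    have hcomm := hstab c⁻¹ hPV
    calc R c * P = R c * (P * R c⁻¹) * R c := by rw [mul_assoc, mul_assoc, hcc', mul_one]
      _ = P * R c := by rw [← hcomm, ← mul_assoc, hcc, one_mul]
  -- stabilizing conjugates of the special form fix
  have hfix : ∀ h : G, R (h * x * h⁻¹ * x * (h * x * h⁻¹)⁻¹) * P =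
      P * R (h * x * h⁻¹ * x * (h * x * h⁻¹)⁻¹) →
      D (h * x * h⁻¹ * x * (h * x * h⁻¹)⁻¹) = 0 := by
    intro h
    set y := h * x * h⁻¹ with hy
    set c := y * x * y⁻¹ with hc
    intro hcomm
    set Q := R y * P * R y⁻¹ with hQ
    have hyy : R y * R y⁻¹ = 1 := by rw [← map_mul, mul_inv_cancel, map_one]
    have hyy' : R y⁻¹ * R y = 1 := by rw [← map_mul, inv_mul_cancel, map_one]
    have hQspec : Q = specIdem (R c) m α := by
      have hp : ∀ k : ℕ, R y * R x ^ k * R y⁻¹ = R c ^ k := by
        intro k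
        rw [← map_pow, ← map_pow, ← map_mul, ← map_mul, hc, conj_pow]
      simp only [hQ, hP, specIdem, Finset.mul_sum, Finset.sum_mul, mul_smul_comm, smul_mul_assoc, hp]
    have hPQ : Commute P Q := by
      rw [hQspec]
      exact (Commute.sum_right _ _ _ fun k _ =>
        ((show Commute P (R c) from hcomm.symm).pow_right k).smul_right _).smul_right _
    have hQQ : Q * Q = Q := by
      rw [hQspec, specIdem_mul_specIdem natCard_ne (map_pow_natCard R c) hαm hαm, if_pos rfl]
    obtain ⟨N, hN⟩ : ∃ N, N = P - Q * P := ⟨_, rfl⟩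
    have hPN : P * N = N := by rw [hN, mul_sub, hPP, ← mul_assoc, hPQ.eq, mul_assoc, hPP]
    have hQN : Q * N = 0 := by rw [hN, mul_sub, ← mul_assoc, hQQ, sub_self]
    have hQy : Q * (R y * N) = R y * N := by
      rw [hQ, mul_assoc, ← mul_assoc (R y⁻¹), hyy', one_mul, mul_assoc, hPN]
    have hQs : star Q = Q := by rw [hQspec]; exact star_idem hR c hα
    have hz : (star N * (R y * N)).trace = 0 := by
      rw [← hQy, ← mul_assoc, show star N * Q = star (Q * N) by rw [star_mul, hQs], hQN]
      simp
    have hN0 : N = 0 := by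
      by_contra hne
      have hlt : frobSq (R y * N - α • N) < frobSq N := by
        have e : R y * N - α • N = R h * (R x * (R h⁻¹ * N) - α • (R h⁻¹ * N)) := by
          rw [mul_sub, mul_smul_comm, ← mul_assoc (R h) (R h⁻¹), ← map_mul R h h⁻¹, mul_inv_cancel,
            map_one, one_mul, hy, map_mul, map_mul, mul_assoc, mul_assoc]
        rw [e, frobSq_unitary_mul (hR h)]
        refine lt_of_lt_of_eq ((frobSq_sub_smul_le hR hclose).2.1 ?_) (frobSq_unitary_mul (hR _) N)
        intro h0
        refine hne ?_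
        have := congrArg (fun A => R h * A) h0
        simpa only [← mul_assoc, ← map_mul, mul_inv_cancel, map_one, one_mul, mul_zero] using this
      have heq : frobSq (R y * N - α • N) = 2 * frobSq N := by
        have hz' : (star (R y * N) * N).trace = 0 := by
          have := congrArg star hz
          rw [star_zero, ← Matrix.trace_conjTranspose, ← Matrix.star_eq_conjTranspose, star_mul,
            star_star] at this
          exact this
        have h1 : frobSq (R y * N) = frobSq N := frobSq_unitary_mul (hR y) N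
        have h2 : frobSq (α • N) = frobSq N := by rw [frobSq_smul, hnα, one_pow, one_mul]
        simp only [frobSq, star_sub, sub_mul, mul_sub, Matrix.trace_sub, Complex.sub_re, star_smul,
          smul_mul_assoc, mul_smul_comm, Matrix.trace_smul, hz, hz', smul_zero, Complex.zero_re, zero_sub, smul_neg, Complex.neg_re,
          sub_zero] at h1 h2 ⊢
        linarith
      rw [heq] at hlt
      linarith [frobSq_nonneg N]
    have hQP : Q * P = P := (sub_eq_zero.1 (hN ▸ hN0)).symm
    show frobSq (R c * P - α • P) = 0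
    rw [frobSq_eq_zero, sub_eq_zero]
    conv_lhs => rw [← hQP, ← mul_assoc, hQspec,
      mul_specIdem natCard_ne (map_pow_natCard R c) hαm, smul_mul_assoc, ← hQspec, hQP]
  -- after one step the projection is fixed
  have hone : ∀ g : G, D (g * x * g⁻¹ * x * (g * x * g⁻¹)⁻¹) = 0 := by
    intro g
    let f : G → G := fun h => h * x * h⁻¹
    let c : ℕ → G := fun i => f^[i] (f g)
    have hc : ∀ i, c (i + 1) = c i * x * (c i)⁻¹ := fun i => Function.iterate_succ_apply' _ _ _
    obtain ⟨i, hi⟩ : ∃ i, D (c (i + 1)) = 0 := by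
      by_contra! hcon
      have hlt : StrictAnti fun i => D (c (i + 1)) := strictAnti_nat_of_succ_lt fun i => by
        show D (c (i + 1 + 1)) < D (c (i + 1))
        rw [hc (i + 1)]
        exact (hstep _).2.1 (hcon i)
      exact not_injective_infinite_finite (fun i => c (i + 1)) fun a b hab =>
        hlt.injective (by simp [hab])
    induction i with
    | zero => rw [hc 0] at hi; exact hi
    | succ i ih =>
      refine ih ?_
      have hcomm : R (c (i + 1)) * P = P * R (c (i + 1)) :=
        (hstep (c (i + 1))).2.2 (by rw [← hc (i + 1)]; exact hi)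
      obtain ⟨h, hh⟩ : ∃ h, c i = h * x * h⁻¹ := by
        cases i with
        | zero => exact ⟨g, rfl⟩
        | succ j => exact ⟨c j, hc j⟩
      rw [hc i, hh] at hcomm ⊢
      exact hfix h hcomm
  exact (hstep (g * x * g⁻¹)).2.2 (hone g)

end CfsgLib.BlockA
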