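import Cfsg.Agent.Lib.BlockA.BrauerFeitBound
import Cfsg.Agent.Lib.BlockB.PEltValue
import Cfsg.Agent.S0936

/-!
Characters of degree prime to `p` in the principal block, counted at the centralizer of a
`p`-element.
-/

set_option autoImplicit false
set_option linter.unusedSectionVars false

namespace CfsgLib.BlockA.BrauerFeit

open Cfsg CfsgLib.Block CfsgLib.BlockB CfsgLib.BlockA.Dominated
open scoped ComplexConjugate

universe u

variable {G : Type u} [Group G] {p : ℕ} {M : Ideal AlgInt} [M.IsPrime]

theorem natCard_principal_le [Finite G] (hM : IsPModular p M)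
    (hstar : ∀ (H : Type u) [Group H] [Finite H] (c : Set (IrrCharacter H)),
      IsPBlock M c → blockDefect p c = 1 → IsStar p c)
    {x : G} (hx : ∃ k : ℕ, orderOf x = p ^ k)
    (hxC : (Nat.card (Subgroup.centralizer ({x} : Set G))).factorization p ≤ 2) :
    Nat.card {χ : IrrCharacter G // χ ∈ principalBlock M G ∧ ¬ p ∣ charDegree (χ : G → ℂ)} ≤
      p ^ 2 := by
  classical
  have hpp := hM.1
  have := Fact.mk hpp
  have := Fintype.ofFinite G
  have := Fintype.ofFinite (IrrCharacter G)
  have hdef : ∀ (H : Type u) [Group H] [Finite H],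
      blockDefect p (principalBlock M H) = (Nat.card H).factorization p := by
    intro H _ _
    have h : sInf ((fun χ : IrrCharacter H => (charDegree (χ : H → ℂ)).factorization p) ''
        principalBlock M H) = 0 := Nat.eq_zero_of_le_zero (Nat.sInf_le
      ⟨trivIrr, one_mem_principalBlock, by simp [trivIrr, charDegree]⟩)
    rw [blockDefect, h, Nat.sub_zero]
  by_cases hx1 : x = 1
  · subst hx1
    have htop : Subgroup.centralizer ({1} : Set G) = ⊤ :=
      eq_top_iff.2 fun g _ => Subgroup.mem_centralizer_singleton_iff.2 (by simp)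
    rw [htop, Subgroup.card_top, ← hdef G] at hxC
    have h := (card_le_pow_defect hM hstar _ G _ isPBlock_principalBlock rfl).1 hxC
    refine le_trans ?_ (h.trans (Nat.pow_le_pow_right hpp.pos hxC))
    exact Nat.card_le_card_of_injective (fun χ => (⟨χ.1, χ.2.1⟩ : principalBlock M G))
      fun χ ψ e => Subtype.ext (congrArg Subtype.val e :)
  set S : Finset (IrrCharacter G) := Finset.univ.filter fun χ =>
    χ ∈ principalBlock M G ∧ ¬ p ∣ charDegree (χ : G → ℂ) with hS
  rw [Nat.card_eq_fintype_card, Fintype.card_subtype, ← hS]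
  have := Fintype.ofFinite (Subgroup.centralizer ({x} : Set G))
  have hind : IsInducedBlock M (Subgroup.centralizer ({x} : Set G))
      (principalBlock M (Subgroup.centralizer ({x} : Set G))) (principalBlock M G) :=
    (Cfsg.Agent.S0936.result p M hM _ _
      (exists_isInducedBlock_centralizer hM hx isPBlock_principalBlock)).2 rfl
  set b := principalBlock M (Subgroup.centralizer ({x} : Set G)) with hb
  have hdb : blockDefect p b = (Nat.card (Subgroup.centralizer ({x} : Set G))).factorization p :=
    hdef _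
  have hSB : ∀ χ ∈ S, χ ∈ principalBlock M G := fun χ hχ => (Finset.mem_filter.1 hχ).2.1
  have hne : ∀ χ ∈ S, subEntry p b χ χ 1 ≠ 0 := by
    intro χ hχ h0
    obtain ⟨hχB, hdeg⟩ := (Finset.mem_filter.1 hχ).2
    obtain ⟨k, hk⟩ := hx
    refine char_ne_zero_of_not_dvd_degree (CfsgLib.Char.irr_isCharacter χ.2) hk hdeg ?_
    rw [subEntry_one hM ⟨k, hk⟩ hind, CfsgLib.Char.classInner_def] at h0
    have h1 : ∀ v, sectionFun p x b (χ : G → ℂ) v = 0 := by
      intro v
      have h2 := (mul_eq_zero.1 h0).resolve_left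
        (Nat.cast_ne_zero.2 (pow_ne_zero _ hpp.ne_zero))
      have h3 := (mul_eq_zero.1 h2).resolve_left (inv_ne_zero CfsgLib.Char.natCard_ne_zero)
      simp only [Complex.mul_conj] at h3
      rw [← Complex.ofReal_sum, Complex.ofReal_eq_zero] at h3
      exact Complex.normSq_eq_zero.1
        ((Finset.sum_eq_zero_iff_of_nonneg fun w _ => Complex.normSq_nonneg _).1 h3 v
          (Finset.mem_univ v))
    have h4 := h1 1
    have hone : ¬ p ∣ orderOf (1 : Subgroup.centralizer ({x} : Set G)) := by
      rw [orderOf_one]; exact hpp.not_dvd_one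
    rw [sectionFun, regInd, if_neg hone, one_mul, hb,
      ← apply_mul_eq_blockPart_principal hM ⟨k, hk⟩ hχB hone] at h4
    simpa using h4
  -- the dominated block
  set Z : Subgroup (Subgroup.centralizer ({x} : Set G)) :=
    Subgroup.zpowers ⟨x, Subgroup.mem_centralizer_singleton_iff.2 rfl⟩ with hZdef
  have hZc : Z ≤ Subgroup.center _ := Subgroup.zpowers_le.2 (Subgroup.mem_center_iff.2 fun w =>
    Subtype.ext (Subgroup.mem_centralizer_singleton_iff.1 w.2))
  have hZn : Z.Normal := ⟨fun a ha g => by
    rw [Subgroup.mem_center_iff.1 (hZc ha) g, mul_inv_cancel_right]; exact ha⟩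
  obtain ⟨j, hj⟩ := id hx
  have hj0 : j ≠ 0 := fun h => hx1 (orderOf_eq_one_iff.1 (by rw [hj, h, pow_zero]))
  have hZcard : Nat.card Z = p ^ j := by rw [hZdef, Nat.card_zpowers, Subgroup.orderOf_mk, hj]
  have := Fintype.ofFinite ((Subgroup.centralizer ({x} : Set G)) ⧸ Z)
  obtain ⟨c, hc, hmem, hrank, hdc, hsc⟩ := exists_dominated hZc
    (IsPGroup.of_card (n := j) hZcard) hM hind.1
  rw [hZcard, hpp.factorization_pow, Finsupp.single_eq_same] at hdc
  rcases Nat.eq_zero_or_pos (blockDefect p c) with h0 | hpos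
  · have h := card_le_mul_rank hM hx hind hSB hne
    rw [hrank, ((Cfsg.Agent.S4733.result p M hM c hc).2.1.1 h0).2, mul_one] at h
    exact h.trans (Nat.pow_le_pow_right hpp.pos (hdb ▸ hxC))
  · obtain ⟨rfl, h2, h1⟩ : j = 1 ∧ blockDefect p b = 2 ∧ blockDefect p c = 1 := by omega
    exact card_le_of_star hM (by rw [hj, pow_one]) hind h2 hSB hne hZc
      (by rw [hZcard, pow_one]) hc hmem hrank hsc (hstar _ c hc h1)

end CfsgLib.BlockA.BrauerFeit
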