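import Cfsg.Agent.Lib.BlockA.SubsectionUnit
import Cfsg.Agent.Lib.BlockA.MajorForm
import Cfsg.Agent.Lib.BlockA.BrauerFeit
import Mathlib.Data.ZMod.Units

/-!
The rows of the contribution matrix of a subsection, and for `p = 2` the integral average of the
diagonal entries.
-/

set_option autoImplicit false
set_option linter.unusedSectionVars false

namespace CfsgLib.BlockA

open Cfsg CfsgLib.Block CfsgLib.BlockB
open scoped ComplexConjugate

universe u

/-- A symmetric integer double sum is congruent to its diagonal modulo `2`. -/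
theorem two_dvd_sum_sub_diag {ι : Type*} (F : Finset ι) (f : ι → ι → ℤ)
    (hf : ∀ i ∈ F, ∀ j ∈ F, f i j = f j i) :
    2 ∣ ∑ i ∈ F, ∑ j ∈ F, f i j - ∑ i ∈ F, f i i := by
  classical
  induction F using Finset.induction_on with
  | empty => simp
  | insert a F ha ih =>
    obtain ⟨t, ht⟩ := ih fun i hi j hj =>
      hf i (Finset.mem_insert_of_mem hi) j (Finset.mem_insert_of_mem hj)
    refine ⟨t + ∑ j ∈ F, f a j, ?_⟩
    have hs : ∑ i ∈ F, f i a = ∑ j ∈ F, f a j := Finset.sum_congr rfl fun i hi =>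
      hf i (Finset.mem_insert_of_mem hi) a (Finset.mem_insert_self a F)
    simp only [Finset.sum_insert ha, Finset.sum_add_distrib]
    rw [hs]
    linarith

/-- The sum of the Galois conjugates of a root of unity of `2`-power order. -/
theorem sum_units_pow_two {n : ℕ} [NeZero n] {ω : ℂ} {i : ℕ} (hω : ω ^ (2 ^ i) = 1)
    (hi : 2 ^ i ∣ n) :
    ∑ u : (ZMod n)ˣ, ω ^ (u : ZMod n).val =
      (Fintype.card (ZMod n)ˣ : ℂ) *
        ((if ω = 1 then 1 else if ω = -1 then -1 else 0 : ℤ) : ℂ) := by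
  classical
  have hn := NeZero.ne n
  by_cases h1 : ω = 1
  · rw [if_pos h1]
    simp [h1]
  rw [if_neg h1]
  have hdvd : orderOf ω ∣ 2 ^ i := orderOf_dvd_of_pow_eq_one hω
  by_cases h2 : ω = -1
  · rw [if_pos h2]
    have h2n : 2 ∣ n := by
      refine Nat.dvd_trans (dvd_pow_self 2 fun h0 => ?_) hi
      rw [h0, pow_zero, pow_one] at hω
      exact h1 hω
    have hodd : ∀ u : (ZMod n)ˣ, Odd (u : ZMod n).val := fun u =>
      Nat.Coprime.odd_of_left ((ZMod.val_coe_unit_coprime u).coprime_dvd_right h2n).symm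
    rw [Finset.sum_congr rfl fun (u : (ZMod n)ˣ) _ => show ω ^ (u : ZMod n).val = -1 by
      rw [h2, (hodd u).neg_one_pow]]
    simp
  rw [if_neg h2, Int.cast_zero, mul_zero]
  obtain ⟨j, hj, hord⟩ := (Nat.dvd_prime_pow Nat.prime_two).1 hdvd
  have hj2 : 2 ≤ j := by
    by_contra hlt
    have hsq : ω ^ 2 = 1 := orderOf_dvd_iff_pow_eq_one.1
      (hord ▸ (pow_dvd_pow 2 (show j ≤ 1 by omega)).trans (by norm_num))
    rcases sq_eq_one_iff.1 hsq with h | h
    · exact h1 h
    · exact h2 h
  have hjn : 2 ^ j ∣ n := (pow_dvd_pow 2 hj).trans hi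
  have hv : ω ^ (2 ^ (j - 1)) = -1 := by
    have hsq : (ω ^ (2 ^ (j - 1))) ^ 2 = 1 := by
      rw [← pow_mul, ← pow_succ, Nat.sub_add_cancel (by omega : 1 ≤ j), ← hord, pow_orderOf_eq_one]
    rcases sq_eq_one_iff.1 hsq with h | h
    · exfalso
      have := Nat.le_of_dvd (pow_pos two_pos _) (orderOf_dvd_of_pow_eq_one h)
      rw [hord] at this
      exact absurd this (not_le.2 (Nat.pow_lt_pow_right one_lt_two (by omega)))
    · exact h
  -- a unit congruent to `1 + 2 ^ (j - 1)`
  have hcop : Nat.Coprime (1 + 2 ^ (j - 1)) (2 ^ j) := by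
    refine Nat.Coprime.pow_right _ (Nat.coprime_comm.1 (Nat.prime_two.coprime_iff_not_dvd.2 ?_))
    have : 2 ∣ 2 ^ (j - 1) := dvd_pow_self 2 (by omega)
    omega
  obtain ⟨w, hw⟩ := ZMod.unitsMap_surjective hjn (ZMod.unitOfCoprime _ hcop)
  have hwv : ((w : ZMod n).val : ZMod (2 ^ j)) = ((1 + 2 ^ (j - 1) : ℕ) : ZMod (2 ^ j)) := by
    have h := congrArg (fun v : (ZMod (2 ^ j))ˣ => (v : ZMod (2 ^ j))) hw
    rw [ZMod.unitsMap_val, ZMod.coe_unitOfCoprime, ZMod.cast_eq_val] at h
    exact h
  have hflip : ∀ u : (ZMod n)ˣ, ω ^ ((w * u : (ZMod n)ˣ) : ZMod n).val = -ω ^ (u : ZMod n).val := by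
    intro u
    have hn1 : ω ^ n = 1 := orderOf_dvd_iff_pow_eq_one.1 (hord.symm ▸ hjn)
    rw [Units.val_mul, ZMod.val_mul, ← pow_eq_pow_mod _ hn1, pow_mul]
    have hw1 : ω ^ (w : ZMod n).val = ω ^ (1 + 2 ^ (j - 1)) := by
      conv_lhs => rw [← pow_mod_orderOf]
      conv_rhs => rw [← pow_mod_orderOf]
      rw [hord, (ZMod.natCast_eq_natCast_iff' _ _ _).1 hwv]
    have hodd : Odd (u : ZMod n).val :=
      Nat.Coprime.odd_of_left ((ZMod.val_coe_unit_coprime u).coprime_dvd_right
        ((dvd_pow_self 2 (by omega)).trans hjn)).symm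
    rw [hw1, pow_add, pow_one, hv, mul_neg_one, hodd.neg_pow]
  have hsum : ∑ u : (ZMod n)ˣ, ω ^ (u : ZMod n).val = -∑ u : (ZMod n)ˣ, ω ^ (u : ZMod n).val := by
    rw [← Finset.sum_neg_distrib]
    exact (Fintype.sum_equiv (Equiv.mulLeft w) _ _ fun u => (hflip u).symm).symm
  linear_combination hsum / 2

section Row

variable {G : Type u} [Group G] [Fintype G] {p : ℕ} {M : Ideal AlgInt} [M.IsPrime]
variable (hM : IsPModular p M) {x : G} (hx : ∃ k : ℕ, orderOf x = p ^ k)
variable [Fintype (Subgroup.centralizer ({x} : Set G))]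
variable [Fintype (IrrCharacter G)]
variable {B : Set (IrrCharacter G)}
variable {b : Set (IrrCharacter (Subgroup.centralizer ({x} : Set G)))}
variable (hind : IsInducedBlock M (Subgroup.centralizer ({x} : Set G)) b B)
include hM hx hind

local notation "CC" => Subgroup.centralizer (Singleton.singleton x : Set G)

/-- **The rows of the contribution matrix.** -/
theorem sum_subEntry_row (χ : IrrCharacter G) {k : ℕ} (hk : k.Coprime (Nat.card G)) :
    ∑ ξ ∈ B.toFinite.toFinset, subEntry p b χ ξ k * subEntry p b ξ χ k =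
      ((p ^ blockDefect p b : ℕ) : ℂ) * subEntry p b χ χ k := by
  classical
  have := Fact.mk hM.1
  have := Fintype.ofFinite (IrrCharacter CC)
  set q := ((p ^ blockDefect p b : ℕ) : ℂ) with hq
  have hn : Nat.card G ≠ 0 := Nat.card_pos.ne'
  have hc := fun ξ : IrrCharacter G => subEntry_isCyclo hM hx (b := b) χ ξ
  obtain ⟨P₁, hP₁⟩ : IsCyclo (Nat.card G)
      (fun j => ∑ ξ ∈ B.toFinite.toFinset, subEntry p b χ ξ j * subEntry p b ξ χ j) :=
    IsCyclo.sum _ fun ξ _ => (hc ξ).mul (subEntry_isCyclo hM hx ξ χ)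
  obtain ⟨P₂, hP₂⟩ := (isCyclo_intCast (Nat.card G) ((p ^ blockDefect p b : ℕ) : ℤ)).mul (hc χ)
  have hD : IsCyclo (Nat.card G) (fun j => (∑ ξ ∈ B.toFinite.toFinset,
      subEntry p b χ ξ j * subEntry p b ξ χ j) - q * subEntry p b χ χ j) := by
    refine ⟨P₁ - P₂, fun j => ?_⟩
    rw [map_sub, ← hP₁, ← hP₂]
    simp only [hq, Int.cast_natCast]
  have h1 : (∑ ξ ∈ B.toFinite.toFinset, subEntry p b χ ξ 1 * subEntry p b ξ χ 1) -
      q * subEntry p b χ χ 1 = ((0 : ℤ) : ℂ) := by
    rw [Int.cast_zero, sub_eq_zero]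
    set f := sectionFun p x b (χ : G → ℂ) with hf
    simp only [subEntry_one hM hx hind, ← hq, ← hf]
    -- the kernel of the section
    have hker : ∀ v w : CC, ∑ ξ ∈ B.toFinite.toFinset,
        sectionFun p x b (ξ : G → ℂ) v * conj (sectionFun p x b (ξ : G → ℂ) w) =
        regInd p v * regInd p w *
          ∑ θ ∈ b.toFinite.toFinset, (θ : CC → ℂ) v * conj ((θ : CC → ℂ) w) := by
      intro v w
      rw [← sum_sectionFun hM hx hind.1]
      exact Finset.sum_subset (Finset.subset_univ _) fun ξ _ hξ => by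
        rw [sectionFun_eq_zero hM hx hind (fun h => hξ (B.toFinite.mem_toFinset.2 h))]
        simp
    have hsupp : ∀ v : CC, f v * regInd p v = f v := fun v => by
      simp only [hf, sectionFun, regInd]
      split_ifs <;> simp
    have hregc : ∀ v : CC, conj (regInd p v) = regInd p v := fun v => by
      unfold regInd; split_ifs <;> simp
    set c := (Nat.card CC : ℂ)⁻¹ with hcdef
    have hL : ∑ ξ ∈ B.toFinite.toFinset, q * classInner f (sectionFun p x b (ξ : G → ℂ)) *
          (q * classInner (sectionFun p x b (ξ : G → ℂ)) f) =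
        q * q * ∑ θ ∈ b.toFinite.toFinset,
          classInner f (θ : CC → ℂ) * conj (classInner f (θ : CC → ℂ)) := by
      simp only [CfsgLib.Char.classInner_def, ← hcdef]
      calc ∑ ξ ∈ B.toFinite.toFinset, q * (c * ∑ v, f v * conj (sectionFun p x b (ξ : G → ℂ) v)) *
            (q * (c * ∑ w, sectionFun p x b (ξ : G → ℂ) w * conj (f w)))
          = q * q * (c * c * ∑ v, ∑ w, f v * conj (f w) *
              ∑ ξ ∈ B.toFinite.toFinset,
                sectionFun p x b (ξ : G → ℂ) w * conj (sectionFun p x b (ξ : G → ℂ) v)) := by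
            simp only [Finset.mul_sum, Finset.sum_mul]
            rw [Finset.sum_comm]
            conv_rhs => rw [Finset.sum_comm]
            refine Finset.sum_congr rfl fun v _ => ?_
            rw [Finset.sum_comm]
            refine Finset.sum_congr rfl fun w _ => ?_
            exact Finset.sum_congr rfl fun ξ _ => by ring
        _ = q * q * (c * c * ∑ v, ∑ w, ∑ θ ∈ b.toFinite.toFinset,
              (f v * conj ((θ : CC → ℂ) v)) * (conj (f w) * (θ : CC → ℂ) w)) := by
            congr 2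
            refine Finset.sum_congr rfl fun v _ => Finset.sum_congr rfl fun w _ => ?_
            rw [hker w v, Finset.mul_sum, Finset.mul_sum]
            refine Finset.sum_congr rfl fun θ _ => ?_
            have e1 := hsupp v
            have e2 : conj (f w) * regInd p w = conj (f w) := by
              rw [← hregc w, ← map_mul, hsupp w]
            linear_combination
              (conj (f w) * regInd p w * (θ : CC → ℂ) w * conj ((θ : CC → ℂ) v)) * e1 +
              (f v * (θ : CC → ℂ) w * conj ((θ : CC → ℂ) v)) * e2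
        _ = _ := by
            have hcc : conj c = c := by rw [hcdef, map_inv₀, Complex.conj_natCast]
            rw [Finset.sum_congr rfl fun v _ => Finset.sum_comm, Finset.sum_comm]
            simp only [map_mul, map_sum, hcc, Complex.conj_conj, Finset.mul_sum, Finset.sum_mul]
            refine Finset.sum_congr rfl fun θ _ => ?_
            rw [Finset.sum_comm]
            refine Finset.sum_congr rfl fun v _ => Finset.sum_congr rfl fun w _ => ?_
            ring
    rw [hL, mul_assoc]
    congr 2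
    -- Parseval
    have hfspan : f = ∑ θ ∈ b.toFinite.toFinset, classInner f (θ : CC → ℂ) • (θ : CC → ℂ) := by
      have hcl : ∀ a : IrrCharacter CC → ℂ,
          ∀ g : CC → ℂ, g = ∑ θ ∈ b.toFinite.toFinset, a θ • (θ : CC → ℂ) →
            ∀ θ ∈ b.toFinite.toFinset, classInner g (θ : CC → ℂ) = a θ := by
        intro a g hg θ hθ
        rw [hg, CfsgLib.Char.classInner_sum_left, Finset.sum_eq_single θ]
        · rw [CfsgLib.Char.classInner_smul_left, CfsgLib.Char.irr_classInner θ.2 θ.2, if_pos rfl,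
            mul_one]
        · intro η _ hne
          rw [CfsgLib.Char.classInner_smul_left, CfsgLib.Char.irr_classInner η.2 θ.2,
            if_neg (fun e => hne (Subtype.ext e)), mul_zero]
        · exact fun h => absurd hθ h
      have hex : ∃ a : IrrCharacter CC → ℂ,
          f = ∑ θ ∈ b.toFinite.toFinset, a θ • (θ : CC → ℂ) := by
        refine ⟨fun η => ∑ θ ∈ b.toFinite.toFinset, centralRoot x θ * (resMult x χ θ : ℂ) *
          classInner (fun y => regInd p y * (θ : CC → ℂ) y) (η : CC → ℂ), ?_⟩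
        funext v
        rw [hf, sectionFun_eq hM hx b χ v, Finset.sum_apply]
        simp only [Pi.smul_apply, smul_eq_mul, Finset.sum_mul]
        rw [Finset.sum_comm]
        refine Finset.sum_congr rfl fun θ hθ => ?_
        rw [regInd_mul_eq_sum hM hind.1 (b.toFinite.mem_toFinset.1 hθ) v,
          finsum_mem_eq_finite_toFinset_sum _ b.toFinite, Finset.mul_sum]
        exact Finset.sum_congr rfl fun η _ => by ring
      obtain ⟨a, ha⟩ := hex
      conv_lhs => rw [ha]
      exact Finset.sum_congr rfl fun θ hθ => by rw [hcl a f ha θ hθ]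
    conv_rhs => arg 1; rw [hfspan]
    rw [CfsgLib.Char.classInner_sum_left]
    refine Finset.sum_congr rfl fun θ _ => ?_
    rw [CfsgLib.Char.classInner_smul_left]
    congr 1
    rw [CfsgLib.Char.classInner_def, CfsgLib.Char.classInner_def, map_mul, map_inv₀,
      Complex.conj_natCast, map_sum]
    congr 1
    exact Finset.sum_congr rfl fun v _ => by simp [mul_comm]
  have h2 := hD.eq_int_of_coprime hn h1 hk
  simpa [sub_eq_zero] using h2

omit hind in
/-- **For `p = 2` the average of a diagonal entry is an integer of the same parity.** -/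
theorem exists_int_average (hp2 : p = 2) [NeZero (Nat.card G)] (χ : IrrCharacter G) :
    ∃ A : ℤ, ∑ u : (ZMod (Nat.card G))ˣ, subEntry p b χ χ (u : ZMod (Nat.card G)).val =
        (Fintype.card (ZMod (Nat.card G))ˣ : ℂ) * (A : ℂ) ∧
      MemLocalIdeal M (subEntry p b χ χ 1 - (A : ℂ)) := by
  classical
  have := Fact.mk hM.1
  have := charP_kres hM
  set F := b.toFinite.toFinset with hF
  set s := sInf ((fun φ : IrrCharacter CC => (charDegree (φ : CC → ℂ)).factorization p) '' b) with hs
  let c : IrrCharacter CC → IrrCharacter CC → ℤ := fun θ η =>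
    (resMult x χ θ : ℤ) * (resMult x χ η : ℤ) * (regEntry p θ η / (p ^ s : ℕ))
  let ω : IrrCharacter CC → IrrCharacter CC → ℂ := fun θ η =>
    centralRoot x θ * conj (centralRoot x η)
  let ε : IrrCharacter CC → IrrCharacter CC → ℤ := fun θ η =>
    if ω θ η = 1 then 1 else if ω θ η = -1 then -1 else 0
  have hP : ∀ k : ℕ, subEntry p b χ χ k = ∑ θ ∈ F, ∑ η ∈ F, (c θ η : ℂ) * ω θ η ^ k := by
    intro k
    simp only [subEntry, c, ω, mul_pow, map_pow, ← hs, ← hF]
  obtain ⟨i, hi⟩ := hx
  have hω : ∀ θ η, ω θ η ^ (2 ^ i) = 1 := fun θ η => by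
    simp only [ω, mul_pow, ← map_pow, ← hp2, ← hi,
      (centralRoot_spec hM ⟨i, hi⟩ θ).2.1, (centralRoot_spec hM ⟨i, hi⟩ η).2.1, map_one, mul_one]
  have hdvd : 2 ^ i ∣ Nat.card G := by rw [← hp2, ← hi]; exact orderOf_dvd_natCard x
  refine ⟨∑ θ ∈ F, ∑ η ∈ F, c θ η * ε θ η, ?_, ?_⟩
  · simp only [hP]
    rw [Finset.sum_comm, Int.cast_sum, Finset.mul_sum]
    refine Finset.sum_congr rfl fun θ _ => ?_
    rw [Finset.sum_comm, Int.cast_sum, Finset.mul_sum]
    refine Finset.sum_congr rfl fun η _ => ?_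
    rw [← Finset.mul_sum, sum_units_pow_two (hω θ η) hdvd]
    simp only [c, ε]
    push_cast
    ring
  · -- both are congruent to the diagonal
    have hsymm : ∀ θ η, c θ η = c η θ := fun θ η => by
      simp only [c, regEntry_symm (p := p) θ η]
      ring
    have hεs : ∀ θ η, ε θ η = ε η θ := fun θ η => by
      have e : ω η θ = conj (ω θ η) := by simp only [ω, map_mul, Complex.conj_conj]; ring
      have h1 : ω η θ = 1 ↔ ω θ η = 1 := by
        rw [e, map_eq_one_iff (starRingEnd ℂ) (RingHom.injective _)]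
      have h2 : ω η θ = -1 ↔ ω θ η = -1 := by
        rw [e]
        constructor <;> intro h
        · have := congrArg conj h; simpa using this
        · rw [h]; simp
      simp only [ε, h1, h2]
    have hεd : ∀ θ, ε θ θ = 1 := fun θ => by
      have : ω θ θ = 1 := by
        simp only [ω]
        rw [Complex.mul_conj', (centralRoot_spec hM ⟨i, hi⟩ θ).1]
        simp
      simp [ε, this]
    obtain ⟨t₁, ht₁⟩ := two_dvd_sum_sub_diag F (fun θ η => c θ η * ε θ η)
      (fun θ _ η _ => by simp only [hsymm θ η, hεs θ η])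
    obtain ⟨t₂, ht₂⟩ := two_dvd_sum_sub_diag F c (fun θ _ η _ => hsymm θ η)
    simp only [hεd, mul_one] at ht₁
    have hA : ∑ θ ∈ F, ∑ η ∈ F, c θ η * ε θ η = (∑ θ ∈ F, ∑ η ∈ F, c θ η) + 2 * (t₁ - t₂) := by
      linarith
    have h2 : MemLocalIdeal M ((2 : ℕ) : ℂ) := (memLocalIdeal_natCast_iff hM 2).2 (hp2 ▸ dvd_refl _)
    rw [hP 1, hA]
    push_cast
    have e : ∑ θ ∈ F, ∑ η ∈ F, (c θ η : ℂ) * ω θ η ^ 1 -
        ((∑ θ ∈ F, ∑ η ∈ F, (c θ η : ℂ)) + 2 * ((t₁ : ℂ) - t₂)) =
        (∑ θ ∈ F, ∑ η ∈ F, (c θ η : ℂ) * (ω θ η - 1)) + -((((t₁ - t₂ : ℤ)) : ℂ) * ((2 : ℕ) : ℂ)) := by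
      simp only [pow_one, mul_sub, mul_one, Finset.sum_sub_distrib]
      push_cast
      ring
    rw [e]
    refine memLocalIdeal_add (memLocalIdeal_sum _ _ fun θ _ => memLocalIdeal_sum _ _ fun η _ =>
      memLocalIdeal_mul_left (memLocalRing_intCast _) ?_)
      (memLocalIdeal_neg (memLocalIdeal_mul_left (memLocalRing_intCast _) h2))
    have hint : IsIntegral ℤ (ω θ η) :=
      IsIntegral.of_pow (pow_pos two_pos i) ((hω θ η).symm ▸ isIntegral_one)
    have hloc := memLocalRing_of_isIntegral (M := M) hint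
    have hone : MemLocalRing M (1 : ℂ) := by simpa using memLocalRing_natCast (M := M) 1
    rw [← redC_eq_iff hloc hone, redC_one]
    have hpow : (redC M (ω θ η)) ^ (2 ^ i) = 1 := by
      rw [redC_eq hloc, ← map_pow, ← map_one (red M)]
      congr 1
      exact Subtype.ext (by simpa using hω θ η)
    rw [← hp2] at hpow
    have h0 : (redC M (ω θ η) - 1) ^ p ^ i = 0 := by
      rw [sub_pow_char_pow (p := p), hpow, one_pow, sub_self]
    exact sub_eq_zero.1 ((pow_eq_zero_iff (pow_ne_zero i hM.1.ne_zero)).1 h0)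

end Row

end CfsgLib.BlockA
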