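import Cfsg.Agent.Lib.BlockB.SubsectionForm
import Cfsg.Agent.Lib.Block.MainTheorems

/-!
The contributions of two height-zero characters at any subsection are local units.
-/

set_option autoImplicit false
set_option linter.unusedSectionVars false

namespace CfsgLib.BlockA

open Cfsg CfsgLib.Block CfsgLib.BlockB
open scoped ComplexConjugate

universe u

variable {G : Type u} [Group G] [Fintype G] {p : ℕ} {M : Ideal AlgInt} [M.IsPrime]
variable (hM : IsPModular p M) {x : G} (hx : ∃ k : ℕ, orderOf x = p ^ k)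
variable [Fintype (Subgroup.centralizer ({x} : Set G))]
variable [Fintype (IrrCharacter G)]
variable {B : Set (IrrCharacter G)}
variable {b : Set (IrrCharacter (Subgroup.centralizer ({x} : Set G)))}
variable (hind : IsInducedBlock M (Subgroup.centralizer ({x} : Set G)) b B)
include hM hx hind

/-- **Contributions at height zero are units.** -/
theorem not_memLocalIdeal_subEntry {χ ξ : IrrCharacter G}
    (hχ : χ ∈ B) (hξ : ξ ∈ B) (hχ0 : blockHeight p B (χ : G → ℂ) = 0)
    (hξ0 : blockHeight p B (ξ : G → ℂ) = 0) : ¬ MemLocalIdeal M (subEntry p b χ ξ 1) := by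
  classical
  have := Fact.mk hM.1
  have := charP_kres hM
  have hb := hind.1
  have hB := hind.2.1
  obtain ⟨θ₀, hθ₀, hθh⟩ := exists_height_zero hM hb
  set s := sInf ((fun φ : IrrCharacter (Subgroup.centralizer ({x} : Set G)) =>
    (charDegree (φ : Subgroup.centralizer ({x} : Set G) → ℂ)).factorization p) '' b) with hs
  set F := b.toFinite.toFinset with hF
  have hmemF : ∀ {θ}, θ ∈ F → θ ∈ b := fun h => b.toFinite.mem_toFinset.1 h
  have hd0 : charDegree (θ₀ : Subgroup.centralizer ({x} : Set G) → ℂ) ≠ 0 := charDegree_ne_zero θ₀.2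
  have hs0 : (charDegree (θ₀ : Subgroup.centralizer ({x} : Set G) → ℂ)).factorization p = s :=
    le_antisymm (Nat.sub_eq_zero_iff_le.1 hθh) (Nat.sInf_le ⟨θ₀, hθ₀, rfl⟩)
  have hone : ∀ φ : IrrCharacter (Subgroup.centralizer ({x} : Set G)),
      (φ : Subgroup.centralizer ({x} : Set G) → ℂ) 1 =
        (charDegree (φ : Subgroup.centralizer ({x} : Set G) → ℂ) : ℂ) := fun φ =>
    (CfsgLib.Block.charDegree_cast (CfsgLib.Char.irr_isCharacter φ.2)).symm
  set D := (charDegree (θ₀ : Subgroup.centralizer ({x} : Set G) → ℂ) : ℂ) with hD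
  have hDne : D ≠ 0 := Nat.cast_ne_zero.2 hd0
  -- degree ratios
  let r : IrrCharacter (Subgroup.centralizer ({x} : Set G)) → ℂ := fun φ =>
    (φ : Subgroup.centralizer ({x} : Set G) → ℂ) 1 / D
  have hr : ∀ φ ∈ b, MemLocalRing M (r φ) := fun φ hφ => by
    simp only [r, hone, hD]
    exact memLocalRing_natCast_div hM hd0 (Or.inr (hs0 ▸ Nat.sInf_le ⟨φ, hφ, rfl⟩))
  set R0 := regPair p (θ₀ : Subgroup.centralizer ({x} : Set G) → ℂ)
    (θ₀ : Subgroup.centralizer ({x} : Set G) → ℂ) / D with hR0
  have hR0m : MemLocalRing M R0 := by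
    rw [hR0, hD, ← hone]
    exact memLocalRing_regPair_div hM (CfsgLib.Char.irr_isClassFunction θ₀.2)
      (memLocalRing_irr_apply θ₀) θ₀
  have hR0u : redC M R0 ≠ 0 := by
    rw [ne_eq, redC_eq_zero_iff hR0m, hR0, hD, ← hone]
    exact (not_memLocalIdeal_regPair_iff hM hb hθ₀ hθ₀).2 hθh
  have hdivm : ∀ (φ : Subgroup.centralizer ({x} : Set G) → ℂ) (η),
      IsClassFunction (Subgroup.centralizer ({x} : Set G)) φ → (∀ g, MemLocalRing M (φ g)) →
      MemLocalRing M (regPair p φ (η : IrrCharacter (Subgroup.centralizer ({x} : Set G))) /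
        (η : Subgroup.centralizer ({x} : Set G) → ℂ) 1) := fun φ η h1 h2 =>
    memLocalRing_regPair_div hM h1 h2 η
  have hP : ∀ θ ∈ b, ∀ η ∈ b, redC M (regPair p (θ : Subgroup.centralizer ({x} : Set G) → ℂ)
      (η : Subgroup.centralizer ({x} : Set G) → ℂ) / D) =
      redC M (r θ) * redC M (r η) * redC M R0 := by
    intro θ hθ η hη
    have e1 : ∀ α ∈ b, ∀ β ∈ b, ∀ γ ∈ b,
        redC M (regPair p (α : Subgroup.centralizer ({x} : Set G) → ℂ)
          (β : Subgroup.centralizer ({x} : Set G) → ℂ) / D) =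
        redC M (r β) * redC M (regPair p (α : Subgroup.centralizer ({x} : Set G) → ℂ)
          (γ : Subgroup.centralizer ({x} : Set G) → ℂ) /
            (γ : Subgroup.centralizer ({x} : Set G) → ℂ) 1) := by
      intro α _ β hβ γ hγ
      have hm := fun δ => hdivm _ δ (CfsgLib.Char.irr_isClassFunction α.2) (memLocalRing_irr_apply α)
      rw [← (redC_eq_iff (hm β) (hm γ)).2 (memLocalIdeal_regPair_div_sub hM
        (CfsgLib.Char.irr_isClassFunction α.2) (memLocalRing_irr_apply α)
        (sameBlock_of_mem hb hβ hγ)), ← redC_mul (hr β hβ) (hm β)]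
      congr 1
      simp only [r]
      have := CfsgLib.Char.irr_apply_one_ne_zero β.2
      field_simp
    rw [e1 θ hθ η hη θ₀ hθ₀, hone θ₀, ← hD, regPair_symm, e1 θ₀ hθ₀ θ hθ θ₀ hθ₀, hone θ₀, ← hD,
      ← hR0]
    ring
  -- the restriction degree of a height zero character is a local unit
  have hN : ∀ ψ ∈ B, blockHeight p B (ψ : G → ℂ) = 0 →
      (∑ θ ∈ F, (resMult x ψ θ : kres M) * redC M (r θ)) * redC M R0 ≠ 0 := by
    intro ψ hψ hψ0
    have e2 : redC M (regPair p (θ₀ : (Subgroup.centralizer ({x} : Set G)) → ℂ) (fun c : (Subgroup.centralizer ({x} : Set G)) => (ψ : G → ℂ) c) / D) ≠ 0 := by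
      have h := (lam_regZ_restrict_ne_zero_iff hM hind hθ₀ ψ).2 ⟨hψ, hψ0⟩
      rw [lam_regZ, omegaC_eq] at h
      have e : (∑ g : Subgroup.centralizer ({x} : Set G),
          (regSum p (fun c : (Subgroup.centralizer ({x} : Set G)) => (ψ : G → ℂ) c)).coeff g *
            (θ₀ : (Subgroup.centralizer ({x} : Set G)) → ℂ) g) /
            (θ₀ : (Subgroup.centralizer ({x} : Set G)) → ℂ) 1 =
          regPair p (θ₀ : (Subgroup.centralizer ({x} : Set G)) → ℂ)
            (fun c : (Subgroup.centralizer ({x} : Set G)) => (ψ : G → ℂ) c) / D := by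
        rw [hone, ← hD, regPair]
        congr 1
        refine Finset.sum_congr rfl fun g _ => ?_
        rw [coeff_regSum]
        unfold regInd
        split_ifs <;> simp [mul_comm]
      rwa [e] at h
    have e3 : redC M (regPair p (θ₀ : (Subgroup.centralizer ({x} : Set G)) → ℂ) (fun c : (Subgroup.centralizer ({x} : Set G)) => (ψ : G → ℂ) c) / D) =
        (∑ θ ∈ F, (resMult x ψ θ : kres M) * redC M (r θ)) * redC M R0 := by
      have := Fintype.ofFinite (IrrCharacter (Subgroup.centralizer ({x} : Set G)))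
      have hexp : regPair p (θ₀ : (Subgroup.centralizer ({x} : Set G)) → ℂ) (fun c : (Subgroup.centralizer ({x} : Set G)) => (ψ : G → ℂ) c) =
          ∑ θ ∈ F, (resMult x ψ θ : ℂ) * regPair p (θ₀ : (Subgroup.centralizer ({x} : Set G)) → ℂ) (θ : (Subgroup.centralizer ({x} : Set G)) → ℂ) := by
        rw [Finset.sum_subset (Finset.subset_univ F) (fun θ _ hθ => by
          rw [regPair_eq_zero hM hb hθ₀ (fun h => hθ (b.toFinite.mem_toFinset.2 h)), mul_zero])]
        simp only [regPair, Finset.mul_sum]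
        rw [Finset.sum_comm]
        refine Finset.sum_congr rfl fun g _ => ?_
        rw [CfsgLib.Char.classFunction_apply_eq_sum (CfsgLib.Char.isCharacter_isClassFunction
          (CfsgLib.Char.isCharacter_restrict (CfsgLib.Char.irr_isCharacter ψ.2) (Subgroup.centralizer ({x} : Set G)))) g⁻¹,
          Finset.mul_sum]
        refine Finset.sum_congr rfl fun θ _ => ?_
        rw [resMult_cast hM hx]
        ring
      have hm : ∀ θ ∈ F, MemLocalRing M (regPair p (θ₀ : (Subgroup.centralizer ({x} : Set G)) → ℂ) (θ : (Subgroup.centralizer ({x} : Set G)) → ℂ) / D) := fun θ hθ => by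
        have h := memLocalRing_mul (hr θ (hmemF hθ)) (hdivm _ θ
          (CfsgLib.Char.irr_isClassFunction θ₀.2) (memLocalRing_irr_apply θ₀))
        convert h using 1
        simp only [r]
        have := CfsgLib.Char.irr_apply_one_ne_zero θ.2
        field_simp
      rw [hexp, Finset.sum_div, Finset.sum_mul,
        Finset.sum_congr rfl (fun θ _ => mul_div_assoc _ _ _),
        redC_sum _ _ (fun θ hθ => memLocalRing_mul (memLocalRing_natCast _) (hm θ hθ))]
      refine Finset.sum_congr rfl fun θ hθ => ?_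
      rw [redC_mul (memLocalRing_natCast _) (hm θ hθ), hP θ₀ hθ₀ θ (hmemF hθ), redC_natCast,
        show r θ₀ = 1 by simp [r, hone, ← hD, hDne], redC_one]
      ring
    rw [← e3]
    exact e2
  -- the entry
  intro h0
  set m := ((ordCompl[p] (Nat.card (Subgroup.centralizer ({x} : Set G))) : ℕ) : ℂ) with hm
  have hps : ((p ^ s : ℕ) : ℂ) ≠ 0 := Nat.cast_ne_zero.2 (pow_ne_zero _ hM.1.ne_zero)
  have hw : ∀ θ η : IrrCharacter (Subgroup.centralizer ({x} : Set G)),
      MemLocalRing M (centralRoot x θ * conj (centralRoot x η)) ∧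
        redC M (centralRoot x θ * conj (centralRoot x η)) = 1 := by
    intro θ η
    set z := centralRoot x θ * conj (centralRoot x η) with hz
    have hz1 : z ^ orderOf x = 1 := by
      rw [hz, mul_pow, (centralRoot_spec hM hx θ).2.1, ← map_pow,
        (centralRoot_spec hM hx η).2.1, map_one, mul_one]
    have hzint : IsIntegral ℤ z := IsIntegral.of_pow (orderOf_pos x) (hz1 ▸ isIntegral_one)
    refine ⟨memLocalRing_of_isIntegral hzint, ?_⟩
    obtain ⟨k, hk⟩ := hx
    have hzl := memLocalRing_of_isIntegral (M := M) hzint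
    have hpow : (redC M z) ^ orderOf x = 1 := by
      rw [redC_eq hzl, ← map_pow, ← map_one (red M)]
      congr 1
      exact Subtype.ext (by simpa using hz1)
    rw [hk] at hpow
    have : (redC M z - 1) ^ p ^ k = 0 := by
      rw [sub_pow_char_pow (p := p), hpow, one_pow, sub_self]
    exact sub_eq_zero.1 (pow_eq_zero_iff (pow_ne_zero k hM.1.ne_zero) |>.1 this)
  have hPD : ∀ θ ∈ F, ∀ η ∈ F, MemLocalRing M (regPair p
      (θ : Subgroup.centralizer ({x} : Set G) → ℂ)
      (η : Subgroup.centralizer ({x} : Set G) → ℂ) / D) := by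
    intro θ _ η hη
    have h := memLocalRing_mul (hr η (hmemF hη)) (hdivm _ η
      (CfsgLib.Char.irr_isClassFunction θ.2) (memLocalRing_irr_apply θ))
    convert h using 1
    simp only [r]
    have := CfsgLib.Char.irr_apply_one_ne_zero η.2
    field_simp
  have hX : subEntry p b χ ξ 1 * (m * ((p ^ s : ℕ) : ℂ) / D) = ∑ θ ∈ F, ∑ η ∈ F,
      (resMult x χ θ : ℂ) * (resMult x ξ η : ℂ) *
        (centralRoot x θ * conj (centralRoot x η)) *
        (regPair p (θ : Subgroup.centralizer ({x} : Set G) → ℂ)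
          (η : Subgroup.centralizer ({x} : Set G) → ℂ) / D) := by
    simp only [subEntry, Finset.sum_mul, ← hs, ← hF]
    refine Finset.sum_congr rfl fun θ _ => Finset.sum_congr rfl fun η hη => ?_
    have hdvd : ((p ^ s : ℕ) : ℤ) ∣ regEntry p θ η := by
      refine dvd_trans ?_ (pow_dvd_regEntry hM θ η)
      exact_mod_cast Nat.pow_dvd_pow p
        (show s ≤ (charDegree (η : Subgroup.centralizer ({x} : Set G) → ℂ)).factorization p from
          Nat.sInf_le ⟨η, hmemF hη, rfl⟩)
    rw [← ordCompl_mul_regEntry θ η, ← hm, Int.cast_mul, Int.cast_mul,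
      Int.cast_div hdvd (by exact_mod_cast pow_ne_zero s hM.1.ne_zero)]
    simp only [pow_one, Int.cast_natCast]
    field_simp
  have hfac : MemLocalRing M (m * ((p ^ s : ℕ) : ℂ) / D) := by
    rw [hm, ← Nat.cast_mul, hD]
    refine memLocalRing_natCast_div hM hd0 (Or.inr ?_)
    rw [hs0, Nat.factorization_mul (Nat.ordCompl_pos p Nat.card_pos.ne').ne'
      (pow_ne_zero _ hM.1.ne_zero), Finsupp.add_apply, hM.1.factorization_pow,
      Finsupp.single_eq_same]
    exact Nat.le_add_left _ _
  have hzero : MemLocalIdeal M (subEntry p b χ ξ 1 * (m * ((p ^ s : ℕ) : ℂ) / D)) := by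
    first
      | exact memLocalIdeal_mul_right hfac h0
      | exact memLocalIdeal_mul_left hfac h0
  rw [hX] at hzero
  have hterm : ∀ θ ∈ F, ∀ η ∈ F, MemLocalRing M ((resMult x χ θ : ℂ) * (resMult x ξ η : ℂ) *
      (centralRoot x θ * conj (centralRoot x η)) *
      (regPair p (θ : Subgroup.centralizer ({x} : Set G) → ℂ)
        (η : Subgroup.centralizer ({x} : Set G) → ℂ) / D)) := fun θ hθ η hη =>
    memLocalRing_mul (memLocalRing_mul (memLocalRing_mul (memLocalRing_natCast _)
      (memLocalRing_natCast _)) (hw θ η).1) (hPD θ hθ η hη)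
  have hred := (redC_eq_zero_iff (memLocalRing_sum _ _ fun θ hθ =>
    memLocalRing_sum _ _ (hterm θ hθ))).2 hzero
  rw [redC_sum _ _ (fun θ hθ => memLocalRing_sum _ _ (hterm θ hθ)),
    Finset.sum_congr rfl (g := fun θ => ((resMult x χ θ : kres M) * redC M (r θ)) *
      ((∑ η ∈ F, (resMult x ξ η : kres M) * redC M (r η)) * redC M R0))
    (fun θ hθ => by
      rw [redC_sum _ _ (hterm θ hθ), Finset.sum_mul, Finset.mul_sum]
      refine Finset.sum_congr rfl fun η hη => ?_
      rw [redC_mul (memLocalRing_mul (memLocalRing_mul (memLocalRing_natCast _)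
          (memLocalRing_natCast _)) (hw θ η).1) (hPD θ hθ η hη),
        redC_mul (memLocalRing_mul (memLocalRing_natCast _) (memLocalRing_natCast _)) (hw θ η).1,
        redC_mul (memLocalRing_natCast _) (memLocalRing_natCast _), (hw θ η).2, redC_natCast,
        redC_natCast, hP θ (hmemF hθ) η (hmemF hη)]
      ring), ← Finset.sum_mul] at hred
  rcases mul_eq_zero.1 hred with h | h
  · exact hN χ hχ hχ0 (by rw [h, zero_mul])
  · exact hN ξ hξ hξ0 h

end CfsgLib.BlockA
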