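import Cfsg.Agent.Lib.BlockA.PrincipalType
import Cfsg.Agent.Lib.Coprime.Sylow

/-! A Sylow subgroup normalizing another one, from the class sizes of the elements of prime power order. -/

set_option autoImplicit false
set_option linter.unusedSectionVars false

namespace CfsgLib.BlockA.SylowNormalize

open Cfsg Subgroup

universe u

variable {G : Type u} [Group G] [Finite G] {p q : ℕ} [hp : Fact p.Prime] [hq : Fact q.Prime]

/-- A nontrivial `p`-solvable group has a nontrivial normal `p`- or `p'`-subgroup. -/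
theorem exists_normal_layer [Nontrivial G] (h : IsPSolvable p G) :
    ∃ N : Subgroup G, N.Normal ∧ N ≠ ⊥ ∧ (IsPGroup p N ∨ (Nat.card N).Coprime p) := by
  obtain ⟨n, H, h0, hl, -, hn, hfac⟩ := h
  have key : ∀ i : Fin (n + 1), H i = ⊥ ∨
      ∃ N : Subgroup G, N.Normal ∧ N ≠ ⊥ ∧ (IsPGroup p N ∨ (Nat.card N).Coprime p) := by
    intro i
    induction i using Fin.induction with
    | zero => exact Or.inl h0
    | succ i ih =>
      rcases ih with ih | ih
      · by_cases hb : H i.succ = ⊥
        · exact Or.inl hb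
        · refine Or.inr ⟨_, hn i.succ, hb, ?_⟩
          rcases hfac i with ⟨m, hm⟩ | hc
          · rw [ih, relIndex_bot_left] at hm
            exact Or.inl (IsPGroup.of_card hm)
          · rw [ih, relIndex_bot_left] at hc
            exact Or.inr hc
      · exact Or.inr ih
  rcases key (Fin.last n) with h' | h'
  · rw [hl] at h'
    exact absurd h' top_ne_bot
  · exact h'

theorem exists_orderOf {r : ℕ} [Fact r.Prime] {Q : Subgroup G} (hQ : IsPGroup r Q) {x : G}
    (hx : x ∈ Q) : ∃ k : ℕ, orderOf x = r ^ k := by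
  obtain ⟨k, hk⟩ := IsPGroup.iff_orderOf.1 hQ ⟨x, hx⟩
  exact ⟨k, by rw [← hk, ← Subgroup.orderOf_coe]⟩

/-- A normal subgroup meets a Sylow subgroup in a Sylow subgroup. -/
theorem pow_dvd_card_inf (S : Sylow p G) (N : Subgroup G) [N.Normal] :
    p ^ (Nat.card N).factorization p ∣ Nat.card ((S : Subgroup G) ⊓ N : Subgroup G) := by
  have h1 : Nat.card ((S : Subgroup G) ⊓ N : Subgroup G) *
      N.relIndex (S : Subgroup G) = Nat.card (S : Subgroup G) := by
    have e := (N.subgroupOf (S : Subgroup G)).card_mul_index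
    rw [← inf_subgroupOf_left, Nat.card_congr
      (subgroupOfEquivOfLe (inf_le_left : (S : Subgroup G) ⊓ N ≤ S)).toEquiv] at e
    rwa [inf_subgroupOf_left] at e
  have h2 := S.card_eq_multiplicity
  have hN := N.card_mul_index
  have hGf : (Nat.card G).factorization p = (Nat.card N).factorization p + N.index.factorization p := by
    rw [← hN, Nat.factorization_mul Nat.card_pos.ne' index_ne_zero_of_finite]; rfl
  have h3 : N.relIndex (S : Subgroup G) ∣ p ^ N.index.factorization p := by
    obtain ⟨j, -, hj⟩ := (Nat.dvd_prime_pow hp.out).1 (h2 ▸ Dvd.intro_left _ h1)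
    rw [hj]
    refine pow_dvd_pow p ((hp.out.pow_dvd_iff_le_factorization index_ne_zero_of_finite).1 ?_)
    exact hj ▸ relIndex_dvd_index_of_normal N _
  rw [h2, hGf, pow_add] at h1
  refine (mul_dvd_mul_iff_right (pow_ne_zero (N.index.factorization p) hp.out.ne_zero)).1 ?_
  rw [← h1]
  exact mul_dvd_mul_left _ h3

/-- If `x` centralizes some Sylow `p`-subgroup of `G`, it centralizes every Sylow `p`-subgroup
of a normal subgroup of coprime order which it normalizes. -/
theorem mem_centralizer_invariant_sylow {N : Subgroup G} [hNn : N.Normal] {x : G}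
    (hcop : (Nat.card (zpowers x)).Coprime (Nat.card N))
    (hx : ¬ p ∣ (centralizer ({x} : Set G)).index) (P : Sylow p N)
    (hP : zpowers x ≤ normalizer (((P : Subgroup N).map N.subtype : Subgroup G) : Set G)) :
    (P : Subgroup N).map N.subtype ≤ centralizer ({x} : Set G) := by
  set C := centralizer ({x} : Set G) with hC
  obtain ⟨S₀⟩ := (inferInstance : Nonempty (Sylow p C))
  have hS : Nat.card ((S₀ : Subgroup C).map C.subtype) = p ^ (Nat.card G).factorization p := by
    rw [card_map_of_injective C.subtype_injective, S₀.card_eq_multiplicity, ← C.card_mul_index,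
      Nat.factorization_mul Nat.card_pos.ne' index_ne_zero_of_finite]
    simp [Nat.factorization_eq_zero_of_not_dvd hx]
  let S : Sylow p G := Sylow.ofCard _ hS
  have hSC : (S : Subgroup G) ≤ C := map_subtype_le _
  set T := (S : Subgroup G) ⊓ N with hT
  have hTp : IsPGroup p (T.subgroupOf N) :=
    (S.isPGroup'.to_le (inf_le_left : T ≤ S)).comap_subtype
  have hTc : Nat.card (T.subgroupOf N) = p ^ (Nat.card N).factorization p := by
    obtain ⟨j, hj⟩ := IsPGroup.iff_card.1 hTp
    rw [hj]
    have hle : j ≤ (Nat.card N).factorization p :=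
      (hp.out.pow_dvd_iff_le_factorization Nat.card_pos.ne').1 (hj ▸ card_subgroup_dvd_card _)
    have hge : (Nat.card N).factorization p ≤ j := by
      have h := pow_dvd_card_inf S N
      rw [← hT, ← Nat.card_congr (subgroupOfEquivOfLe (inf_le_right : T ≤ N)).toEquiv, hj] at h
      exact (Nat.pow_dvd_pow_iff_le_right hp.out.one_lt).1 h
    rw [le_antisymm hle hge]
  let T' : Sylow p N := Sylow.ofCard _ hTc
  have hTe : (T' : Subgroup N).map N.subtype = T := by
    show (T.subgroupOf N).map N.subtype = T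
    rw [subgroupOf_map_subtype, inf_eq_left.2 inf_le_right]
  have hTC : T ≤ C := inf_le_left.trans hSC
  have hnT : zpowers x ≤ normalizer (((T' : Subgroup N).map N.subtype : Subgroup G) : Set G) := by
    rw [hTe, zpowers_le]
    refine centralizer_le_normalizer _ ?_
    rw [mem_centralizer_iff]
    intro t ht
    exact (mem_centralizer_singleton_iff.1 (hTC ht))
  have hA : zpowers x ≤ normalizer (N : Set G) := le_normalizer_of_normal
  obtain ⟨c, hc, he⟩ := CfsgLib.Coprime.exists_conj_invariant_sylow hA hcop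
    (Or.inl inferInstance) T' P hnT hP
  rw [hTe] at he
  rw [← he]
  rintro y ⟨t, ht, rfl⟩
  have hcx : x * c = c * x := mem_centralizer_iff.1 (mem_inf.1 hc).2 x (mem_zpowers x)
  have htx := mem_centralizer_singleton_iff.1 (hTC ht)
  refine mem_centralizer_singleton_iff.2 ?_
  show c * t * c⁻¹ * x = x * (c * t * c⁻¹)
  have hcx' : c⁻¹ * x = x * c⁻¹ := by
    rw [inv_mul_eq_iff_eq_mul, ← mul_assoc, ← hcx, mul_inv_cancel_right]
  calc c * t * c⁻¹ * x = c * (t * x) * c⁻¹ := by simp only [mul_assoc, hcx']
    _ = c * x * (t * c⁻¹) := by rw [htx]; simp only [mul_assoc]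
    _ = _ := by rw [← hcx]; simp only [mul_assoc]

/-- The hypothesis passes to quotients. -/
theorem hyp_quotient {N : Subgroup G} [N.Normal]
    (h : ∀ y : G, (∃ k : ℕ, orderOf y = q ^ k) → ¬ p ∣ (centralizer ({y} : Set G)).index)
    (y : G ⧸ N) (hy : ∃ k : ℕ, orderOf y = q ^ k) :
    ¬ p ∣ (centralizer ({y} : Set (G ⧸ N))).index := by
  obtain ⟨k, hk⟩ := hy
  have hyg : IsPGroup q (zpowers y) :=
    IsPGroup.of_card (n := k) (by rw [Nat.card_zpowers, hk])
  obtain ⟨Q', hQ'⟩ := hyg.exists_le_sylow
  obtain ⟨Q, rfl⟩ := Sylow.mapSurjective_surjective (QuotientGroup.mk'_surjective N) q Q'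
  obtain ⟨x, hxQ, rfl⟩ := (show y ∈ (Q : Subgroup G).map (QuotientGroup.mk' N) from
    hQ' (mem_zpowers y))
  have hxk : ∃ k : ℕ, orderOf x = q ^ k :=
    exists_orderOf Q.isPGroup' hxQ
  intro hd
  refine h x hxk (hd.trans ?_)
  refine (index_dvd_of_le ?_).trans (index_map_dvd _ (QuotientGroup.mk'_surjective N))
  rintro _ ⟨c, hc, rfl⟩
  refine mem_centralizer_singleton_iff.2 ?_
  rw [← map_mul, ← map_mul, mem_centralizer_singleton_iff.1 hc]

/-- The last step: a normalized extension of `N` by a Sylow subgroup. -/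
theorem step (N : Subgroup G) [hNn : N.Normal] (hpq : p ≠ q)
    (hN : ¬ p ∣ Nat.card N ∨ ¬ q ∣ Nat.card N)
    (h : ∀ y : G, (∃ k : ℕ, orderOf y = q ^ k) → ¬ p ∣ (centralizer ({y} : Set G)).index)
    (P : Sylow p G) (Q : Sylow q G)
    (hPQ : (P : Subgroup G).map (QuotientGroup.mk' N) ≤
      normalizer (((Q : Subgroup G).map (QuotientGroup.mk' N) : Subgroup (G ⧸ N)) : Set (G ⧸ N))) :
    ∃ P' : Sylow p G, (P' : Subgroup G) ≤ normalizer ((Q : Subgroup G) : Set G) := by
  classical
  set π := QuotientGroup.mk' N with hπ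
  set L := ((Q : Subgroup G).map π).comap π with hL
  have hPH : (P : Subgroup G) ≤ normalizer (L : Set G) := by
    rw [hL, ← comap_normalizer_eq_of_surjective _ (QuotientGroup.mk'_surjective N)]
    exact map_le_iff_le_comap.1 hPQ
  set H := normalizer (L : Set G) with hH
  have hLH : L ≤ H := le_normalizer
  have hQL : (Q : Subgroup G) ≤ L := le_comap_map _ _
  have hLn : (L.subgroupOf H).Normal := normal_in_normalizer
  set Q₁ := Q.subtype (hQL.trans hLH) with hQ₁
  have hsup := Q₁.normalizer_sup_eq_top' (N := L.subgroupOf H)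
    (fun z hz => mem_subgroupOf.2 (hQL (mem_subgroupOf.1 (by simpa [hQ₁, Sylow.coe_subtype] using hz))))
  set K := normalizer ((Q₁ : Subgroup H) : Set H) with hK
  have hNL : N ≤ L := by
    intro n hn
    refine mem_comap.2 ?_
    rw [hπ, QuotientGroup.mk'_apply, (QuotientGroup.eq_one_iff n).2 hn]
    exact one_mem _
  have hidx : K.index ∣ Nat.card L / Nat.card ((K.map H.subtype) ⊓ L : Subgroup G) := by
    have e1 : (L.subgroupOf H).relIndex K = (L.subgroupOf H).index := by
      rw [← relIndex_sup_right (H := K) (K := L.subgroupOf H), show K ⊔ L.subgroupOf H = ⊤ from hsup,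
        relIndex_top_right]
    have e2 := K.card_mul_index
    have e3 := (L.subgroupOf H).card_mul_index
    have e4 := ((L.subgroupOf H).subgroupOf K).card_mul_index
    rw [show ((L.subgroupOf H).subgroupOf K).index = (L.subgroupOf H).index from e1,
      ← inf_subgroupOf_left, Nat.card_congr (subgroupOfEquivOfLe
        (inf_le_left : K ⊓ L.subgroupOf H ≤ K)).toEquiv] at e4
    have e5 : Nat.card (K ⊓ L.subgroupOf H : Subgroup H) =
        Nat.card ((K.map H.subtype) ⊓ L : Subgroup G) := by
      rw [Nat.card_congr ((K ⊓ L.subgroupOf H).equivMapOfInjective H.subtype H.subtype_injective).toEquiv,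
        Subgroup.map_inf _ _ _ H.subtype_injective, subgroupOf_map_subtype, inf_eq_left.2 hLH]
    rw [← Nat.card_congr (subgroupOfEquivOfLe hLH).toEquiv, ← e5]
    rw [← e4, mul_right_comm] at e2
    have hpos : 0 < (L.subgroupOf H).index := Nat.pos_of_ne_zero index_ne_zero_of_finite
    have e6 : Nat.card (K ⊓ L.subgroupOf H : Subgroup H) * K.index =
        Nat.card (L.subgroupOf H) :=
      Nat.eq_of_mul_eq_mul_right hpos (e2.trans e3.symm)
    exact Dvd.intro_left _ (by rw [← e6, Nat.mul_div_cancel_left _ Nat.card_pos]; exact one_mul _)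
  have hcardL : ∃ j, Nat.card L = Nat.card N * q ^ j := by
    obtain ⟨j, hj⟩ := IsPGroup.iff_card.1 (Q.isPGroup'.map π)
    refine ⟨j, ?_⟩
    have e := (N.subgroupOf L).card_mul_index
    rw [Nat.card_congr (subgroupOfEquivOfLe hNL).toEquiv] at e
    rw [← e]
    congr 1
    rw [← hj, hL, ← relIndex_bot_left ((Q : Subgroup G).map π)]
    have hm : ((Q : Subgroup G).map π) =
        (((Q : Subgroup G).map π).comap π).map π :=
      (map_comap_eq_self_of_surjective (QuotientGroup.mk'_surjective N) _).symm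
    conv_rhs => rw [hm, ← relIndex_comap, MonoidHom.comap_bot, hπ, QuotientGroup.ker_mk']
    rfl
  obtain ⟨j, hj⟩ := hcardL
  have hqj : ¬ p ∣ q ^ j := fun hd =>
    hpq ((Nat.prime_dvd_prime_iff_eq hp.out hq.out).1 (hp.out.dvd_of_dvd_pow hd))
  have hmain : ¬ p ∣ K.index := by
    intro hd
    have hd2 := hd.trans hidx
    set D := (K.map H.subtype ⊓ L : Subgroup G) with hD
    have hDdvd : Nat.card D ∣ Nat.card L := card_dvd_of_le inf_le_right
    rcases hN with hN | hN
    · exact ((Nat.Prime.dvd_mul hp.out).1 (hj ▸ hd2.trans (Nat.div_dvd_of_dvd hDdvd))).elim hN hqj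
    · have hcopQ : (Nat.card (Q : Subgroup G)).Coprime (Nat.card N) := by
        rw [Q.card_eq_multiplicity]
        exact Nat.Coprime.pow_left _ (hq.out.coprime_iff_not_dvd.2 hN)
      have hsolQ : Group.IsSolvable (Q : Subgroup G) := by
        have := Q.isPGroup'.isNilpotent
        infer_instance
      obtain ⟨PN, hPN⟩ := CfsgLib.Coprime.exists_invariant_sylow (X := G)
        (A := (Q : Subgroup G)) (G := N) le_normalizer_of_normal hcopQ (Or.inl hsolQ) p
      have hPD : (PN : Subgroup N).map N.subtype ≤ D := by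
        intro y hy
        have hyN : y ∈ N := map_subtype_le _ hy
        refine mem_inf.2 ⟨⟨⟨y, hLH (hNL hyN)⟩, ?_, rfl⟩, hNL hyN⟩
        refine centralizer_le_normalizer _ ?_
        rw [mem_centralizer_iff]
        intro z hz
        have hzQ : (z : G) ∈ (Q : Subgroup G) := by
          simpa [hQ₁, Sylow.coe_subtype, mem_subgroupOf] using hz
        have hmem := mem_centralizer_invariant_sylow (p := p) (x := (z : G))
          (hcopQ.coprime_dvd_left (card_dvd_of_le (zpowers_le.2 hzQ)))
          (h _ (exists_orderOf Q.isPGroup' hzQ)) PN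
          ((zpowers_le.2 hzQ).trans hPN) hy
        exact Subtype.ext (mem_centralizer_singleton_iff.1 hmem).symm
      have hc := card_dvd_of_le hPD
      rw [card_map_of_injective N.subtype_injective, PN.card_eq_multiplicity] at hc
      obtain ⟨t, ht⟩ := hDdvd
      rw [ht, Nat.mul_div_cancel_left _ Nat.card_pos] at hd2
      obtain ⟨w, hw⟩ := hc
      obtain ⟨t', rfl⟩ := hd2
      have hbig : p ^ ((Nat.card N).factorization p + 1) ∣ Nat.card L := by
        rw [ht, hw, pow_succ]
        exact ⟨w * t', by ring⟩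
      rw [hj] at hbig
      have := (Nat.Coprime.pow_left _ (hp.out.coprime_iff_not_dvd.2 hqj)).dvd_of_dvd_mul_right hbig
      exact (Nat.pow_succ_factorization_not_dvd Nat.card_pos.ne' hp.out) this
  have hfull : p ^ (Nat.card G).factorization p ∣
      Nat.card (normalizer ((Q : Subgroup G) : Set G)) := by
    have h1 : p ^ (Nat.card G).factorization p ∣ Nat.card K := by
      have hP : p ^ (Nat.card G).factorization p ∣ Nat.card H :=
        P.card_eq_multiplicity ▸ card_dvd_of_le hPH
      rw [← K.card_mul_index] at hP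
      exact (Nat.Coprime.pow_left _ (hp.out.coprime_iff_not_dvd.2 hmain)).dvd_of_dvd_mul_right hP
    refine h1.trans ?_
    rw [Nat.card_congr (K.equivMapOfInjective H.subtype H.subtype_injective).toEquiv]
    refine card_dvd_of_le ?_
    refine (le_normalizer_map H.subtype).trans (le_of_eq ?_)
    rw [hQ₁, Sylow.coe_subtype, subgroupOf_map_subtype, inf_eq_left.2 (hQL.trans hLH)]
  obtain ⟨R, hR⟩ := (inferInstance : Nonempty (Sylow p (normalizer ((Q : Subgroup G) : Set G))))
    |>.elim fun R => (⟨R, trivial⟩ : ∃ _R : Sylow p (normalizer ((Q : Subgroup G) : Set G)), True)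
  refine ⟨Sylow.ofCard ((R : Subgroup (normalizer ((Q : Subgroup G) : Set G))).map
    (normalizer ((Q : Subgroup G) : Set G)).subtype) ?_, map_subtype_le _⟩
  rw [card_map_of_injective (Subgroup.subtype_injective _), R.card_eq_multiplicity]
  congr 1
  exact le_antisymm ((hp.out.pow_dvd_iff_le_factorization Nat.card_pos.ne').1
      ((Nat.ordProj_dvd _ p).trans (card_subgroup_dvd_card _)))
    ((hp.out.pow_dvd_iff_le_factorization Nat.card_pos.ne').1 hfull)

/-- **A Sylow `p`-subgroup normalizing a Sylow `q`-subgroup.** -/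
theorem exists_normalize : ∀ (n : ℕ) (G : Type u) [Group G] [Finite G], Nat.card G ≤ n →
    (IsPSolvable p G ∨ IsPSolvable q G) →
    (∀ y : G, (∃ k : ℕ, orderOf y = q ^ k) → ¬ p ∣ (centralizer ({y} : Set G)).index) →
    ∃ (P : Sylow p G) (Q : Sylow q G), (P : Subgroup G) ≤ normalizer ((Q : Subgroup G) : Set G) := by
  intro n
  induction n with
  | zero => intro G _ _ h; exact absurd h (Nat.card_pos (α := G)).not_ge
  | succ n ih =>
    intro G _ _ hn hs h
    rcases eq_or_ne p q with rfl | hpq
    · exact ⟨default, default, le_normalizer⟩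
    rcases subsingleton_or_nontrivial G with hT | hT
    · exact ⟨default, default, fun x _ => Subsingleton.elim 1 x ▸ one_mem _⟩
    obtain ⟨N, hNn, hNb, hNd⟩ : ∃ N : Subgroup G, N.Normal ∧ N ≠ ⊥ ∧
        (¬ p ∣ Nat.card N ∨ ¬ q ∣ Nat.card N) := by
      rcases hs with hs | hs
      · obtain ⟨N, hN, hb, hc⟩ := exists_normal_layer hs
        refine ⟨N, hN, hb, hc.symm.imp (fun hc => hp.out.coprime_iff_not_dvd.1 hc.symm)
          fun hc hd => ?_⟩
        obtain ⟨k, hk⟩ := IsPGroup.iff_card.1 hc
        exact hpq ((Nat.prime_dvd_prime_iff_eq hq.out hp.out).1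
          (hq.out.dvd_of_dvd_pow (hk ▸ hd))).symm
      · obtain ⟨N, hN, hb, hc⟩ := exists_normal_layer hs
        refine ⟨N, hN, hb, hc.imp (fun hc hd => ?_)
          (fun hc => hq.out.coprime_iff_not_dvd.1 hc.symm)⟩
        obtain ⟨k, hk⟩ := IsPGroup.iff_card.1 hc
        exact hpq ((Nat.prime_dvd_prime_iff_eq hp.out hq.out).1 (hp.out.dvd_of_dvd_pow (hk ▸ hd)))
    have hlt : Nat.card (G ⧸ N) < Nat.card G := by
      have h1 := N.card_mul_index
      rw [← Subgroup.index_eq_card, ← h1]
      have h2 : 1 < Nat.card N := N.one_lt_card_iff_ne_bot.2 hNb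
      have h3 : 0 < N.index := Nat.pos_of_ne_zero index_ne_zero_of_finite
      exact lt_mul_of_one_lt_left h3 h2
    have hsq : IsPSolvable p (G ⧸ N) ∨ IsPSolvable q (G ⧸ N) :=
      hs.imp (isPSolvable_of_surjective (QuotientGroup.mk' N) (QuotientGroup.mk'_surjective N))
        (isPSolvable_of_surjective (QuotientGroup.mk' N) (QuotientGroup.mk'_surjective N))
    obtain ⟨P', Q', hPQ⟩ := ih (G ⧸ N) (by omega) hsq (hyp_quotient h)
    obtain ⟨P, rfl⟩ := Sylow.mapSurjective_surjective (QuotientGroup.mk'_surjective N) p P'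
    obtain ⟨Q, rfl⟩ := Sylow.mapSurjective_surjective (QuotientGroup.mk'_surjective N) q Q'
    obtain ⟨P'', hP''⟩ := step N hpq hNd h P Q hPQ
    exact ⟨P'', Q, hP''⟩

end CfsgLib.BlockA.SylowNormalize
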