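import Mathlib.GroupTheory.Sylow
import Mathlib.GroupTheory.SpecificGroups.Alternating
import Mathlib.GroupTheory.Perm.ViaEmbedding
import Mathlib.GroupTheory.Abelianization.Defs
import Mathlib.NumberTheory.Padics.PadicVal.Basic
import Mathlib.Data.ZMod.Basic

/-! Sylow subgroups of symmetric and alternating groups are generated by elements of order `p`. -/

set_option autoImplicit false
set_option linter.unusedSectionVars false

namespace CfsgLib.BlockA.SylowSymGen

open Equiv

variable {p : ℕ} [hp : Fact p.Prime]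

/-- The group is generated by its elements with trivial `p`-th power. -/
def GenOrd {G : Type*} [Group G] (p : ℕ) (S : Subgroup G) : Prop :=
  S ≤ Subgroup.closure {x | x ∈ S ∧ x ^ p = 1}

theorem pow_mem_commutator {G : Type*} [Group G] {S : Subgroup G} (h : GenOrd p S) (x : S) :
    x ^ p ∈ commutator S := by
  let K : Subgroup S := (powMonoidHom p : Abelianization S →* Abelianization S).ker.comap
    Abelianization.of
  have hK : S ≤ K.map S.subtype := h.trans ((Subgroup.closure_le _).2 fun y hy =>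
    ⟨⟨y, hy.1⟩, by
      show (Abelianization.of (⟨y, hy.1⟩ : S)) ^ p = 1
      rw [← map_pow, show (⟨y, hy.1⟩ : S) ^ p = 1 from Subtype.ext (by simpa using hy.2), map_one],
      rfl⟩)
  obtain ⟨y, hy, he⟩ := hK x.2
  obtain rfl : y = x := Subtype.ext he
  have hy' : Abelianization.of (y ^ p) = 1 := by rw [map_pow]; exact hy
  exact (QuotientGroup.eq_one_iff (y ^ p)).1 hy'

section Wreath

variable {m : ℕ}

/-- The element `(c, σ)` of the wreath product acting on blocks of size `p`. -/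
def wr (c : Fin m → ZMod p) (σ : Perm (Fin m)) : Perm (Fin m × ZMod p) :=
  Equiv.prodShear σ fun i => Equiv.addRight (c i)

theorem wr_apply (c : Fin m → ZMod p) (σ : Perm (Fin m)) (x : Fin m × ZMod p) :
    wr c σ x = (σ x.1, x.2 + c x.1) := rfl

theorem wr_mul (c d : Fin m → ZMod p) (σ τ : Perm (Fin m)) :
    wr c σ * wr d τ = wr (fun i => d i + c (τ i)) (σ * τ) := by
  ext x <;> simp [wr_apply, add_assoc]

theorem wr_one : wr (fun _ => (0 : ZMod p)) (1 : Perm (Fin m)) = 1 := by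
  ext x <;> simp [wr_apply]

/-- The lift of a permutation of the blocks. -/
def lift : Perm (Fin m) →* Perm (Fin m × ZMod p) where
  toFun σ := wr (fun _ => 0) σ
  map_one' := wr_one
  map_mul' σ τ := by rw [wr_mul]; simp

theorem wr_split (c : Fin m → ZMod p) (σ : Perm (Fin m)) :
    wr c σ = lift σ * wr c 1 := by
  show wr c σ = wr (fun _ => 0) σ * wr c 1
  rw [wr_mul]; simp

theorem wr_inv (c : Fin m → ZMod p) (σ : Perm (Fin m)) :
    (wr c σ)⁻¹ = wr (fun i => -c (σ⁻¹ i)) σ⁻¹ := by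
  refine inv_eq_of_mul_eq_one_right ?_
  rw [wr_mul, mul_inv_cancel, ← wr_one (m := m) (p := p)]
  simp

theorem wr_injective : Function.Injective fun cs : (Fin m → ZMod p) × Perm (Fin m) =>
    wr cs.1 cs.2 := by
  rintro ⟨c, σ⟩ ⟨d, τ⟩ h
  have h1 := fun i => congrArg (fun f : Perm (Fin m × ZMod p) => f (i, 0)) h
  simp only [wr_apply, Prod.mk.injEq, zero_add] at h1
  exact Prod.ext (funext fun i => (h1 i).2) (Equiv.ext fun i => (h1 i).1)

theorem wr_pow (c : Fin m → ZMod p) (k : ℕ) : wr c 1 ^ k = wr (k • c) 1 := by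
  induction k with
  | zero => rw [pow_zero, ← wr_one (m := m) (p := p), zero_smul]; rfl
  | succ k ih => rw [pow_succ, ih, wr_mul, succ_nsmul]; simp [add_comm]; rfl

theorem wr_pow_p (c : Fin m → ZMod p) : wr c 1 ^ p = 1 := by
  rw [wr_pow, ← wr_one (m := m) (p := p)]
  congr 1
  funext i
  simp

/-- The wreath product `C_p ≀ P`. -/
def wreath (P : Subgroup (Perm (Fin m))) : Subgroup (Perm (Fin m × ZMod p)) where
  carrier := {x | ∃ c, ∃ σ ∈ P, x = wr c σ}
  one_mem' := ⟨fun _ => 0, 1, P.one_mem, wr_one.symm⟩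
  mul_mem' := by
    rintro _ _ ⟨c, σ, hσ, rfl⟩ ⟨d, τ, hτ, rfl⟩
    exact ⟨_, _, P.mul_mem hσ hτ, wr_mul c d σ τ⟩
  inv_mem' := by
    rintro _ ⟨c, σ, hσ, rfl⟩
    exact ⟨_, _, P.inv_mem hσ, wr_inv c σ⟩

theorem card_wreath (P : Subgroup (Perm (Fin m))) :
    Nat.card (wreath (p := p) P) = p ^ m * Nat.card P := by
  have e : ((Fin m → ZMod p) × P) ≃ wreath (p := p) P :=
    Equiv.ofBijective (fun cs => ⟨wr cs.1 cs.2, cs.1, cs.2, cs.2.2, rfl⟩)
      ⟨fun a b h => by
        have h1 : (a.1, (a.2 : Perm (Fin m))) = (b.1, (b.2 : Perm (Fin m))) :=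
          wr_injective (congrArg Subtype.val h)
        rw [Prod.mk.injEq] at h1
        exact Prod.ext h1.1 (Subtype.ext h1.2),
      fun x => by
        obtain ⟨c, σ, hσ, h⟩ := x.2
        exact ⟨(c, ⟨σ, hσ⟩), Subtype.ext h.symm⟩⟩
  rw [← Nat.card_congr e, Nat.card_prod, Nat.card_fun, Nat.card_zmod, Nat.card_fin]

theorem sign_lift (σ : Perm (Fin m)) :
    Perm.sign (lift (p := p) σ) = Perm.sign σ ^ p := by
  haveI : NeZero p := ⟨hp.out.ne_zero⟩
  have he : lift (p := p) σ = Equiv.prodCongrLeft fun _ : ZMod p => σ := by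
    ext x <;> simp [lift, wr_apply]
  rw [he, Perm.sign_prodCongrLeft, Finset.prod_const, Finset.card_univ, ZMod.card]

theorem sign_lift_eq_one {P : Subgroup (Perm (Fin m))} (hP : IsPGroup p P) {σ : Perm (Fin m)}
    (hσ : σ ∈ P) : Perm.sign (lift (p := p) σ) = 1 := by
  rw [sign_lift]
  rcases hp.out.eq_two_or_odd' with rfl | ho
  · exact Int.units_sq _
  · obtain ⟨k, hk⟩ := hP ⟨σ, hσ⟩
    have h1 : Perm.sign σ ^ p ^ k = 1 := by
      rw [← map_pow, show σ ^ p ^ k = 1 from by simpa using congrArg Subtype.val hk, map_one]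
    rcases Int.units_eq_one_or (Perm.sign σ) with h | h
    · rw [h, one_pow]
    · rw [h, Odd.neg_one_pow ho.pow] at h1
      exact absurd h1 (by decide)

end Wreath

/-- The constructed Sylow subgroup. -/
theorem exists_gen (n : ℕ) : ∃ H : Subgroup (Perm (Fin n)),
    Nat.card H = p ^ padicValNat p n.factorial ∧ GenOrd p H ∧
      GenOrd p (H ⊓ alternatingGroup (Fin n)) := by
  induction n using Nat.strong_induction_on with
  | _ n ih =>
  rcases Nat.eq_zero_or_pos n with rfl | hn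
  · refine ⟨⊥, ?_, bot_le, by simp [GenOrd]⟩
    rw [Subgroup.card_bot, Nat.factorial_zero, padicValNat.one, pow_zero]
  obtain ⟨P, hP, hgen, -⟩ := ih (n / p) (Nat.div_lt_self hn hp.out.one_lt)
  have hPp : IsPGroup p P := IsPGroup.of_card hP
  haveI : NeZero p := ⟨hp.out.ne_zero⟩
  obtain ⟨ι⟩ : Nonempty (Fin (n / p) × ZMod p ↪ Fin n) :=
    Function.Embedding.nonempty_of_card_le (by
      rw [Fintype.card_prod, Fintype.card_fin, Fintype.card_fin, ZMod.card]
      exact Nat.div_mul_le_self n p)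
  set V : Perm (Fin (n / p) × ZMod p) →* Perm (Fin n) := Perm.viaEmbeddingHom ι with hV
  have hsign : ∀ f, Perm.sign (V f) = Perm.sign f := fun f => by
    classical
    rw [hV, Perm.viaEmbeddingHom_apply, Perm.viaEmbedding]
    convert Perm.sign_extendDomain f _
  refine ⟨(wreath P).map V, ?_, ?_, ?_⟩
  · rw [Subgroup.card_map_of_injective (Perm.viaEmbeddingHom_injective ι), card_wreath, hP,
      ← pow_add, ← padicValNat_mul_div_factorial (p := p) n, padicValNat_factorial_mul, add_comm]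
  · intro x hx
    obtain ⟨y, ⟨c, σ, hσ, rfl⟩, rfl⟩ := hx
    rw [wr_split, map_mul]
    refine Subgroup.mul_mem _ ?_ (Subgroup.subset_closure ⟨⟨_, ⟨c, 1, P.one_mem, rfl⟩, rfl⟩,
      by rw [← map_pow, wr_pow_p, map_one]⟩)
    have h1 : V (lift σ) ∈ (Subgroup.closure {x | x ∈ P ∧ x ^ p = 1}).map (V.comp lift) :=
      ⟨σ, hgen hσ, rfl⟩
    rw [MonoidHom.map_closure] at h1
    refine Subgroup.closure_mono ?_ h1
    rintro _ ⟨τ, ⟨hτ, hτp⟩, rfl⟩
    exact ⟨⟨_, ⟨fun _ => 0, τ, hτ, rfl⟩, rfl⟩, by rw [← map_pow, hτp, map_one]⟩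
  · intro x hx
    obtain ⟨⟨y, ⟨c, σ, hσ, rfl⟩, rfl⟩, hev⟩ := hx
    have hL : Perm.sign (V (lift (p := p) σ)) = 1 := by rw [hsign, sign_lift_eq_one hPp hσ]
    rw [wr_split, map_mul]
    have hB : Perm.sign (V (wr c 1)) = 1 := by
      have h : Perm.sign (V (wr c σ)) = 1 := hev
      rwa [wr_split, map_mul, map_mul, hL, one_mul] at h
    refine Subgroup.mul_mem _ ?_ (Subgroup.subset_closure
      ⟨⟨⟨_, ⟨c, 1, P.one_mem, rfl⟩, rfl⟩, hB⟩, by rw [← map_pow, wr_pow_p, map_one]⟩)
    have h1 : V (lift σ) ∈ (Subgroup.closure {x | x ∈ P ∧ x ^ p = 1}).map (V.comp lift) :=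
      ⟨σ, hgen hσ, rfl⟩
    rw [MonoidHom.map_closure] at h1
    refine Subgroup.closure_mono ?_ h1
    rintro _ ⟨τ, ⟨hτ, hτp⟩, rfl⟩
    refine ⟨⟨⟨_, ⟨fun _ => 0, τ, hτ, rfl⟩, rfl⟩, ?_⟩, by rw [← map_pow, hτp, map_one]⟩
    show Perm.sign (V (lift τ)) = 1
    rw [hsign, sign_lift_eq_one hPp hτ]

theorem genOrd_map {G : Type*} [Group G] {S : Subgroup G} (h : GenOrd p S) (e : G →* G) :
    GenOrd p (S.map e) := by
  refine (Subgroup.map_mono h).trans ?_
  rw [MonoidHom.map_closure]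
  refine Subgroup.closure_mono ?_
  rintro _ ⟨x, ⟨hx, hxp⟩, rfl⟩
  exact ⟨⟨x, hx, rfl⟩, by rw [← map_pow, hxp, map_one]⟩

theorem genOrd_sylow_perm (n : ℕ) (P : Sylow p (Perm (Fin n))) :
    GenOrd p (P : Subgroup (Perm (Fin n))) := by
  obtain ⟨H, hH, hgen, -⟩ := exists_gen (p := p) n
  let S : Sylow p (Perm (Fin n)) := Sylow.ofCard H (by
    rw [hH, Nat.card_eq_fintype_card, Fintype.card_perm, Fintype.card_fin,
      Nat.factorization_def _ hp.out])
  obtain ⟨g, rfl⟩ := MulAction.exists_smul_eq (Perm (Fin n)) S P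
  exact genOrd_map hgen _

theorem genOrd_sylow_alternating (n : ℕ) (Q : Sylow p (alternatingGroup (Fin n))) :
    GenOrd p ((Q : Subgroup (alternatingGroup (Fin n))).map (alternatingGroup (Fin n)).subtype) := by
  obtain ⟨H, hH, -, hgen⟩ := exists_gen (p := p) n
  let S : Sylow p (Perm (Fin n)) := Sylow.ofCard H (by
    rw [hH, Nat.card_eq_fintype_card, Fintype.card_perm, Fintype.card_fin,
      Nat.factorization_def _ hp.out])
  have hAn : (alternatingGroup (Fin n)).Normal := inferInstance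
  obtain ⟨T, hT⟩ := (Q.isPGroup'.map (alternatingGroup (Fin n)).subtype).exists_le_sylow
  obtain ⟨g, rfl⟩ := MulAction.exists_smul_eq (Perm (Fin n)) S T
  set T : Sylow p (Perm (Fin n)) := g • S with hTdef
  have hsub : (T : Subgroup (Perm (Fin n))).comap (alternatingGroup (Fin n)).subtype = (Q : Subgroup (alternatingGroup (Fin n))) :=
    Q.is_maximal' (T.isPGroup'.comap_of_injective (alternatingGroup (Fin n)).subtype (alternatingGroup (Fin n)).subtype_injective)
      (Subgroup.map_le_iff_le_comap.1 hT)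
  have hconj : (alternatingGroup (Fin n)).map (MulAut.conj g).toMonoidHom = (alternatingGroup (Fin n)) := by
    refine le_antisymm ?_ fun x hx => ⟨g⁻¹ * x * g, ?_, ?_⟩
    · rintro _ ⟨x, hx, rfl⟩
      exact hAn.conj_mem x hx g
    · simpa using hAn.conj_mem x hx g⁻¹
    · show g * (g⁻¹ * x * g) * g⁻¹ = x
      group
  have hQ : (Q : Subgroup (alternatingGroup (Fin n))).map (alternatingGroup (Fin n)).subtype =
      (H ⊓ (alternatingGroup (Fin n))).map (MulAut.conj g).toMonoidHom := by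
    rw [← hsub, Subgroup.map_comap_eq, Subgroup.range_subtype,
      Subgroup.map_inf _ _ _ (MulAut.conj g).injective,
      hconj, inf_comm]
    rfl
  rw [hQ]
  exact genOrd_map hgen _

end CfsgLib.BlockA.SylowSymGen
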