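import Mathlib.Algebra.BigOperators.Group.Finset.Piecewise
import Mathlib.Algebra.BigOperators.Fin
import Mathlib.Data.Fintype.Card
import Mathlib.Algebra.Order.BigOperators.Group.Finset
import Mathlib.Tactic.Ring

/-!
# Residues, ranks and displacements of bead configurations

A configuration is an injective tuple of natural numbers; its `p`-core configuration pushes every
entry down inside its residue class modulo `p`.
-/

set_option autoImplicit false
set_option linter.unusedSectionVars false

namespace CfsgLib.BlockA.SymBlock

open Finset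

variable {N : ℕ} (p : ℕ)

/-- The number of entries in each residue class. -/
def resCount (α : Fin N → ℕ) (r : ℕ) : ℕ :=
  (univ.filter fun i => α i % p = r).card

/-- The rank of an entry within its residue class. -/
def beadRank (α : Fin N → ℕ) (i : Fin N) : ℕ :=
  (univ.filter fun j => α j % p = α i % p ∧ α j < α i).card

/-- The pushed-down configuration. -/
def coreBead (α : Fin N → ℕ) (i : Fin N) : ℕ :=
  α i % p + p * beadRank p α i

/-- The number of steps by which an entry has been moved. -/
def beadDisp (α : Fin N → ℕ) (i : Fin N) : ℕ :=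
  α i / p - beadRank p α i

/-- The weight. -/
def coreWeight (α : Fin N → ℕ) : ℕ := ∑ i, beadDisp p α i

variable {p}

theorem resCount_congr {α β : Fin N → ℕ} (h : ∀ i, α i % p = β i % p) :
    resCount p α = resCount p β := by
  funext r
  simp only [resCount, h]

theorem resCount_comp (α : Fin N → ℕ) (π : Equiv.Perm (Fin N)) :
    resCount p (α ∘ π) = resCount p α := by
  funext r
  exact Finset.card_equiv π (by simp)

theorem resCount_add_single (α : Fin N → ℕ) (i : Fin N) {q : ℕ} (hq : p ∣ q) :
    resCount p (α + Pi.single i q) = resCount p α := by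
  refine resCount_congr fun j => ?_
  rcases eq_or_ne j i with rfl | h
  · obtain ⟨c, rfl⟩ := hq
    simp
  · simp [Pi.single_eq_of_ne h]

theorem div_lt_div_of_mod_eq {a b : ℕ} (h : a % p = b % p) (hlt : a < b) : a / p < b / p := by
  by_contra hc
  push Not at hc
  have h1 := Nat.div_add_mod a p
  have h2 := Nat.div_add_mod b p
  have := Nat.mul_le_mul_left p hc
  omega

theorem eq_of_mod_div {a b : ℕ} (h : a % p = b % p) (h' : a / p = b / p) : a = b := by
  rw [← Nat.div_add_mod a p, ← Nat.div_add_mod b p, h, h']

theorem beadRank_le {α : Fin N → ℕ} (hα : Function.Injective α) (i : Fin N) :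
    beadRank p α i ≤ α i / p := by
  rw [← card_range (α i / p), beadRank]
  refine card_le_card_of_injOn (fun j => α j / p) (fun j hj => ?_) fun j hj k hk hjk => hα ?_
  · obtain ⟨h1, h2⟩ := (mem_filter.1 hj).2
    exact mem_range.2 (div_lt_div_of_mod_eq h1 h2)
  · exact eq_of_mod_div (((mem_filter.1 hj).2.1).trans ((mem_filter.1 hk).2.1).symm) hjk

theorem coreBead_add_disp {α : Fin N → ℕ} (hα : Function.Injective α) (i : Fin N) :
    coreBead p α i + p * beadDisp p α i = α i := by
  rw [coreBead, beadDisp, add_assoc, ← Nat.mul_add, Nat.add_sub_cancel' (beadRank_le hα i)]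
  exact Nat.mod_add_div _ _

theorem sum_eq_sum_core {α : Fin N → ℕ} (hα : Function.Injective α) :
    ∑ i, α i = ∑ i, coreBead p α i + p * coreWeight p α := by
  rw [coreWeight, mul_sum, ← sum_add_distrib]
  exact sum_congr rfl fun i _ => (coreBead_add_disp hα i).symm

theorem beadRank_lt_beadRank {α : Fin N → ℕ} {i j : Fin N} (hr : α i % p = α j % p)
    (h : α i < α j) : beadRank p α i < beadRank p α j := by
  refine card_lt_card ⟨fun k hk => ?_, fun hsub => ?_⟩
  · obtain ⟨h1, h2⟩ := (mem_filter.1 hk).2
    exact mem_filter.2 ⟨mem_univ _, h1.trans hr, h2.trans h⟩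
  · exact lt_irrefl _ (mem_filter.1 (hsub (mem_filter.2 ⟨mem_univ i, hr, h⟩))).2.2

theorem coreBead_mod_div (hp : 0 < p) (α : Fin N → ℕ) (i : Fin N) :
    coreBead p α i % p = α i % p ∧ coreBead p α i / p = beadRank p α i := by
  constructor
  · rw [coreBead, Nat.add_mul_mod_self_left, Nat.mod_mod]
  · rw [coreBead, Nat.add_mul_div_left _ _ hp, Nat.div_eq_of_lt (Nat.mod_lt _ hp), zero_add]

theorem coreBead_injective (hp : 0 < p) {α : Fin N → ℕ} (hα : Function.Injective α) :
    Function.Injective (coreBead p α) := by
  intro i j h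
  have hr : α i % p = α j % p := by
    rw [← (coreBead_mod_div hp α i).1, ← (coreBead_mod_div hp α j).1, h]
  have hk : beadRank p α i = beadRank p α j := by
    rw [← (coreBead_mod_div hp α i).2, ← (coreBead_mod_div hp α j).2, h]
  refine hα ?_
  rcases lt_trichotomy (α i) (α j) with hl | hl | hl
  · exact absurd hk (beadRank_lt_beadRank hr hl).ne
  · exact hl
  · exact absurd hk (beadRank_lt_beadRank hr.symm hl).ne'

theorem beadRank_lt_resCount (α : Fin N → ℕ) (i : Fin N) :
    beadRank p α i < resCount p α (α i % p) := by
  refine card_lt_card ⟨fun k hk => ?_, fun hsub => ?_⟩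
  · exact mem_filter.2 ⟨mem_univ _, (mem_filter.1 hk).2.1⟩
  · exact lt_irrefl _ (mem_filter.1 (hsub (mem_filter.2 ⟨mem_univ i, rfl⟩))).2.2

theorem exists_rank_eq {α : Fin N → ℕ} (hα : Function.Injective α) {r k : ℕ}
    (hk : k < resCount p α r) : ∃ i, α i % p = r ∧ beadRank p α i = k := by
  have himg : (univ.filter fun i => α i % p = r).image (beadRank p α) =
      range (resCount p α r) := by
    refine eq_of_subset_of_card_le (fun x hx => ?_) ?_
    · obtain ⟨i, hi, rfl⟩ := mem_image.1 hx
      rw [mem_range, ← (mem_filter.1 hi).2]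
      exact beadRank_lt_resCount α i
    · rw [card_range, card_image_of_injOn fun i hi j hj h => hα ?_, resCount]
      have hr : α i % p = α j % p := by
        rw [(mem_filter.1 hi).2, (mem_filter.1 hj).2]
      rcases lt_trichotomy (α i) (α j) with hl | hl | hl
      · exact absurd h (beadRank_lt_beadRank hr hl).ne
      · exact hl
      · exact absurd h (beadRank_lt_beadRank hr.symm hl).ne'
  obtain ⟨i, hi, hik⟩ := mem_image.1 (himg.symm ▸ mem_range.2 hk : k ∈ _)
  exact ⟨i, (mem_filter.1 hi).2, hik⟩

theorem exists_core_perm (hp : 0 < p) {α β : Fin N → ℕ} (hα : Function.Injective α)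
    (hβ : Function.Injective β) (h : resCount p α = resCount p β) :
    ∃ π : Equiv.Perm (Fin N), coreBead p β = coreBead p α ∘ π := by
  have hex : ∀ j, ∃ i, coreBead p α i = coreBead p β j := by
    intro j
    obtain ⟨i, hi, hk⟩ := exists_rank_eq hα
      (r := β j % p) (k := beadRank p β j) (by rw [h]; exact beadRank_lt_resCount β j)
    exact ⟨i, by rw [coreBead, coreBead, hi, hk]⟩
  choose f hf using hex
  have hinj : Function.Injective f := fun a b hab =>
    coreBead_injective hp hβ (by rw [← hf a, ← hf b, hab])
  exact ⟨Equiv.ofBijective f (Finite.injective_iff_bijective.1 hinj), funext fun j => (hf j).symm⟩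

theorem coreWeight_eq_of_resCount (hp : 0 < p) {α β : Fin N → ℕ} (hα : Function.Injective α)
    (hβ : Function.Injective β) (h : resCount p α = resCount p β) (hs : ∑ i, α i = ∑ i, β i) :
    coreWeight p α = coreWeight p β := by
  obtain ⟨π, hπ⟩ := exists_core_perm hp hα hβ h
  rw [sum_eq_sum_core (p := p) hα, sum_eq_sum_core (p := p) hβ, hπ] at hs
  simp only [Function.comp_apply] at hs
  rw [Equiv.sum_comp π (coreBead p α)] at hs
  exact Nat.eq_of_mul_eq_mul_left hp (Nat.add_left_cancel hs)

theorem sum_beadRank {α : Fin N → ℕ} (hα : Function.Injective α) (r : ℕ) :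
    ∑ i ∈ univ.filter (fun i => α i % p = r), beadRank p α i =
      ∑ k : Fin (resCount p α r), (k : ℕ) := by
  rw [Fin.sum_univ_eq_sum_range (fun k => k)]
  refine sum_bij (fun i _ => beadRank p α i) (fun i hi => ?_) (fun i hi j hj h => hα ?_)
    (fun k hk => ?_) fun i _ => rfl
  · rw [mem_range, ← (mem_filter.1 hi).2]
    exact beadRank_lt_resCount α i
  · have hr : α i % p = α j % p := by
      rw [(mem_filter.1 hi).2, (mem_filter.1 hj).2]
    rcases lt_trichotomy (α i) (α j) with hl | hl | hl
    · exact absurd h (beadRank_lt_beadRank hr hl).ne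
    · exact hl
    · exact absurd h (beadRank_lt_beadRank hr.symm hl).ne'
  · obtain ⟨i, hi, hik⟩ := exists_rank_eq hα (mem_range.1 hk)
    exact ⟨i, mem_filter.2 ⟨mem_univ _, hi⟩, hik⟩

theorem beadDisp_mono {α : Fin N → ℕ} (hα : Function.Injective α) {i j : Fin N}
    (hr : α i % p = α j % p) (h : α i ≤ α j) : beadDisp p α i ≤ beadDisp p α j := by
  have key : beadRank p α j ≤ beadRank p α i + (α j / p - α i / p) := by
    let S := univ.filter fun k => α k % p = α j % p ∧ α k < α j
    have hsplit := Finset.card_filter_add_card_filter_not (s := S) (fun k => α k < α i)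
    have h1 : (S.filter fun k => α k < α i).card ≤ beadRank p α i := by
      refine card_le_card fun k hk => ?_
      obtain ⟨hk1, hk2⟩ := mem_filter.1 hk
      exact mem_filter.2 ⟨mem_univ _, ((mem_filter.1 hk1).2.1).trans hr.symm, hk2⟩
    have h2 : (S.filter fun k => ¬ α k < α i).card ≤ α j / p - α i / p := by
      rw [← Nat.card_Ico (α i / p) (α j / p)]
      refine card_le_card_of_injOn (fun k => α k / p) (fun k hk => ?_) fun a ha b hb hab => hα ?_
      · obtain ⟨hk1, hk2⟩ := mem_filter.1 hk
        obtain ⟨hm, hlt⟩ := (mem_filter.1 hk1).2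
        exact mem_Ico.2 ⟨Nat.div_le_div_right (not_lt.1 hk2), div_lt_div_of_mod_eq hm hlt⟩
      · exact eq_of_mod_div ((mem_filter.1 (mem_filter.1 ha).1).2.1.trans
          (mem_filter.1 (mem_filter.1 hb).1).2.1.symm) hab
    show S.card ≤ _
    omega
  have := Nat.div_le_div_right (c := p) h
  have := beadRank_le (p := p) hα i
  have := beadRank_le (p := p) hα j
  unfold beadDisp
  omega

/-- An entry may be moved down as long as the weight is positive. -/
theorem exists_movable (hp : 0 < p) {α : Fin N → ℕ} (hα : Function.Injective α)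
    (h : 0 < coreWeight p α) : ∃ i, p ≤ α i ∧ ∀ j, α j ≠ α i - p := by
  obtain ⟨i0, -, hi0⟩ := sum_pos_iff.1 h
  obtain ⟨i, hi, hmin⟩ := exists_min_image (univ.filter fun i => 0 < beadDisp p α i) α
    ⟨i0, mem_filter.2 ⟨mem_univ _, hi0⟩⟩
  have hd := (mem_filter.1 hi).2
  have hpi : p ≤ α i := by
    by_contra hc
    rw [beadDisp, Nat.div_eq_of_lt (not_le.1 hc)] at hd
    omega
  refine ⟨i, hpi, fun j hj => ?_⟩
  have hr : α j % p = α i % p := by rw [hj, ← Nat.mod_eq_sub_mod hpi]
  have hlt : α j < α i := by omega
  have hne : beadDisp p α j = 0 := by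
    by_contra hc
    exact absurd (hmin j (mem_filter.2 ⟨mem_univ _, Nat.pos_of_ne_zero hc⟩)) (not_le.2 hlt)
  have hrk := beadRank_lt_beadRank hr hlt
  have hdiv : α i / p = α j / p + 1 := by
    rw [hj, Nat.div_eq_sub_div hp hpi]
  unfold beadDisp at hne hd
  omega

/-- Moving an entry down keeps the core configuration. -/
theorem move_down (hp : 0 < p) {α : Fin N → ℕ} (hα : Function.Injective α) {i : Fin N}
    (hpi : p ≤ α i) (hfree : ∀ j, α j ≠ α i - p) :
    Function.Injective (α - Pi.single i p : Fin N → ℕ) ∧
      coreBead p (α - Pi.single i p : Fin N → ℕ) = coreBead p α ∧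
      coreWeight p (α - Pi.single i p : Fin N → ℕ) + 1 = coreWeight p α := by
  set β : Fin N → ℕ := α - Pi.single i p with hβ
  have hbi : β i = α i - p := by simp [hβ]
  have hbj : ∀ j, j ≠ i → β j = α j := fun j hj => by simp [hβ, Pi.single_eq_of_ne hj]
  have hinj : Function.Injective β := by
    intro a b hab
    rcases eq_or_ne a i with rfl | ha <;> rcases eq_or_ne b a with rfl | hb <;> try rfl
    · rw [hbi, hbj b hb] at hab
      exact absurd hab.symm (hfree b)
    · rcases eq_or_ne b i with rfl | hbi'
      · rw [hbi, hbj a ha] at hab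
        exact absurd hab (hfree a)
      · rw [hbj a ha, hbj b hbi'] at hab
        exact hα hab
  have hmod : ∀ j, β j % p = α j % p := fun j => by
    rcases eq_or_ne j i with rfl | hj
    · rw [hbi, ← Nat.mod_eq_sub_mod hpi]
    · rw [hbj j hj]
  -- no entry of the same residue lies strictly between
  have hgap : ∀ j, j ≠ i → α j % p = α i % p → (α j < α i ↔ α j < α i - p) := by
    intro j _ hr
    refine ⟨fun hlt => ?_, fun hlt => by omega⟩
    have h1 := div_lt_div_of_mod_eq hr hlt
    rcases lt_or_eq_of_le (Nat.le_sub_one_of_lt h1) with h2 | h2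
    · by_contra hc
      have h3 := Nat.div_le_div_right (c := p) (not_lt.1 hc)
      have h4 : α i / p = (α i - p) / p + 1 := Nat.div_eq_sub_div hp hpi
      rw [h4, Nat.add_sub_cancel] at h2
      exact absurd h3 (not_le.2 h2)
    · exfalso
      refine hfree j (eq_of_mod_div (p := p) (hr.trans (Nat.mod_eq_sub_mod hpi)) ?_)
      have h4 : α i / p = (α i - p) / p + 1 := Nat.div_eq_sub_div hp hpi
      omega
  have hrank : ∀ j, beadRank p β j = beadRank p α j := by
    intro j
    unfold beadRank
    refine congrArg card (filter_congr fun k _ => ?_)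
    rw [hmod k, hmod j]
    refine and_congr_right fun hr => ?_
    rcases eq_or_ne j i with rfl | hj <;> rcases eq_or_ne k j with rfl | hk <;>
      try (simp; done)
    · rw [hbi, hbj k hk, hgap k hk hr]
    · rcases eq_or_ne k i with rfl | hki
      · rw [hbi, hbj j hj]
        have := hgap j hj hr.symm
        have := hfree j
        have hne : α j ≠ α k := fun hh => hj (hα hh)
        omega
      · rw [hbj k hki, hbj j hj]
  refine ⟨hinj, funext fun j => by rw [coreBead, coreBead, hmod, hrank], ?_⟩
  have hd : ∀ j, beadDisp p β j + (if j = i then 1 else 0) = beadDisp p α j := by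
    intro j
    rcases eq_or_ne j i with rfl | hj
    · have h1 := beadRank_le (p := p) hinj j
      rw [hrank, hbi] at h1
      have h4 : α j / p = (α j - p) / p + 1 := Nat.div_eq_sub_div hp hpi
      rw [if_pos rfl, beadDisp, beadDisp, hrank, hbi]
      omega
    · rw [if_neg hj, beadDisp, beadDisp, hrank, hbj j hj, add_zero]
  unfold coreWeight
  rw [← sum_congr rfl fun j _ => hd j, sum_add_distrib, sum_ite_eq']
  simp

/-- The configuration is determined by the numbers of large displacements. -/
theorem range_subset_of_counts {α β : Fin N → ℕ} (hα : Function.Injective α)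
    (hβ : Function.Injective β) (h : resCount p α = resCount p β)
    (i : Fin N)
    (hcnt : ∀ t, 0 < t → (univ.filter fun k => α k % p = α i % p ∧ t ≤ beadDisp p α k).card =
      (univ.filter fun k => β k % p = α i % p ∧ t ≤ beadDisp p β k).card) :
    ∃ j, β j = α i := by
  obtain ⟨j, hj, hk⟩ := exists_rank_eq hβ (r := α i % p) (k := beadRank p α i)
    (by rw [← h]; exact beadRank_lt_resCount α i)
  refine ⟨j, ?_⟩
  rw [← coreBead_add_disp (p := p) hβ j, ← coreBead_add_disp (p := p) hα i, coreBead, coreBead, hj,
    hk]
  congr 2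
  -- compare the number of entries with large displacement
  have key : ∀ (a b : Fin N → ℕ), Function.Injective a → Function.Injective b →
      ∀ x y, a x % p = b y % p → beadRank p a x = beadRank p b y →
      resCount p a = resCount p b →
      (∀ t, 0 < t → (univ.filter fun i => a i % p = a x % p ∧ t ≤ beadDisp p a i).card =
        (univ.filter fun i => b i % p = a x % p ∧ t ≤ beadDisp p b i).card) →
      beadDisp p a x ≤ beadDisp p b y := by
    intro a b ha hb x y hxy hrk hres hc
    by_contra hlt
    push Not at hlt
    set t := beadDisp p a x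
    have hcc := hc t (by omega)
    -- in `a`, all entries from `x` on have displacement at least `t`
    have h1 : resCount p a (a x % p) ≤ beadRank p a x +
        (univ.filter fun i => a i % p = a x % p ∧ t ≤ beadDisp p a i).card := by
      refine (card_le_card fun i hi => ?_).trans (card_union_le _ _)
      rw [mem_union, mem_filter, mem_filter]
      rcases lt_or_ge (a i) (a x) with hl | hl
      · exact Or.inl ⟨mem_univ _, (mem_filter.1 hi).2, hl⟩
      · exact Or.inr ⟨mem_univ _, (mem_filter.1 hi).2,
          beadDisp_mono ha (mem_filter.1 hi).2.symm hl⟩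
    -- in `b`, all entries up to `y` have displacement below `t`
    have h2 : beadRank p b y + 1 + (univ.filter fun i => b i % p = b y % p ∧ t ≤ beadDisp p b i).card
        ≤ resCount p b (b y % p) := by
      have hd : Disjoint (insert y (univ.filter fun i => b i % p = b y % p ∧ b i < b y))
          (univ.filter fun i => b i % p = b y % p ∧ t ≤ beadDisp p b i) := by
        refine disjoint_left.2 fun i hi hi' => ?_
        obtain ⟨hir, hit⟩ := (mem_filter.1 hi').2
        have hle : b i ≤ b y := by
          rcases mem_insert.1 hi with rfl | hi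
          · exact le_rfl
          · exact (mem_filter.1 hi).2.2.le
        have := beadDisp_mono hb hir hle
        omega
      have hsub : insert y (univ.filter fun i => b i % p = b y % p ∧ b i < b y) ∪
          (univ.filter fun i => b i % p = b y % p ∧ t ≤ beadDisp p b i) ⊆
            univ.filter fun i => b i % p = b y % p := by
        intro i hi
        rcases mem_union.1 hi with hi | hi
        · rcases mem_insert.1 hi with rfl | hi
          · simp
          · exact mem_filter.2 ⟨mem_univ _, (mem_filter.1 hi).2.1⟩
        · exact mem_filter.2 ⟨mem_univ _, (mem_filter.1 hi).2.1⟩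
      have := card_le_card hsub
      rw [card_union_of_disjoint hd, card_insert_of_notMem (by simp)] at this
      exact this
    rw [← hxy, ← hrk] at h2
    rw [← hres, ← hcc] at h2
    omega
  exact le_antisymm (key β α hβ hα j i hj hk h.symm fun t ht => by rw [hj]; exact (hcnt t ht).symm)
    (key α β hα hβ i j hj.symm hk.symm h hcnt)

end CfsgLib.BlockA.SymBlock
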