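import Cfsg.Agent.Lib.BlockA.SymIrr
import Cfsg.Agent.Lib.BlockA.SymCores
import Cfsg.Agent.Lib.Block.VanishDiv
import Cfsg.Agent.Lib.Block.Blocks

/-!
# Characters in one block of a symmetric group have the same core
-/

set_option autoImplicit false
set_option linter.unusedSectionVars false

namespace CfsgLib.BlockA.SymBlock

open Finset
open scoped ComplexConjugate Classical

variable {N : ℕ} {ι : Type} [Fintype ι] [DecidableEq ι] {p : ℕ}

theorem finRotate_const {C : Type*} {q : ℕ} {f : Fin q → C} (hf : f ∘ finRotate q = f)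
    (x y : Fin q) : f x = f y := by
  rcases q with _ | q
  · exact x.elim0
  have key : ∀ i : Fin (q + 1), f i = f 0 := by
    intro i
    induction i using Fin.induction with
    | zero => rfl
    | succ i ih =>
      rw [← ih]
      have := congrFun hf i.castSucc
      simpa [finRotate_succ_apply, Fin.coeSucc_eq_succ] using this
  rw [key x, key y]

theorem dvd_orderOf_finRotate_sum {q : ℕ} (hpq : p ∣ q) (hq : 0 < q) (τ : Equiv.Perm ι) :
    p ∣ orderOf (Equiv.sumCongr (finRotate q) τ) := by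
  rw [show Equiv.sumCongr (finRotate q) τ =
    Equiv.Perm.sumCongrHom (Fin q) ι (finRotate q, τ) from rfl,
    orderOf_injective _ Equiv.Perm.sumCongrHom_injective, Prod.orderOf]
  refine hpq.trans ?_
  refine Dvd.dvd.trans ?_ (Nat.dvd_lcm_left _ _)
  obtain ⟨k, rfl⟩ : ∃ k, q = k + 1 := ⟨q - 1, by omega⟩
  rcases k with _ | k
  · exact one_dvd _
  · rw [(isCycle_finRotate (n := k)).orderOf, support_finRotate]
    simp

theorem orderOf_permCongr {κ : Type} [Fintype κ] [DecidableEq κ] (e : ι ≃ κ) (σ : Equiv.Perm ι) :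
    orderOf (e.permCongr σ) = orderOf σ :=
  orderOf_injective e.permCongrHom.toMonoidHom e.permCongrHom.injective σ

theorem orderOf_eq_of_isConj {G : Type*} [Group G] {x y : G} (h : IsConj x y) :
    orderOf x = orderOf y := by
  obtain ⟨c, rfl⟩ := isConj_iff.1 h
  exact (orderOf_injective (MulAut.conj c).toMonoidHom (MulAut.conj c).injective x).symm

/-- Adding hooks of length divisible by `p` gives functions vanishing on `p`-regular elements. -/
theorem sum_add_single_regular (hN : Fintype.card ι ≤ N) {q m : ℕ} (hq : 0 < q)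
    (hqm : q + m = Fintype.card ι) (hpq : p ∣ q) {σ : Equiv.Perm ι} (hσ : ¬ p ∣ orderOf σ)
    {δ : Fin N → ℕ} (hδ : δ ∈ tuples N m) :
    ∑ i, fchar (δ + Pi.single i q) σ = 0 := by
  have : Nonempty (Fin q) := ⟨⟨0, hq⟩⟩
  let e : ι ≃ Fin q ⊕ Fin m := Fintype.equivOfCardEq (by simp [hqm])
  have h := sum_add_single_eq_zero (N := N) (ι := Fin m) (κ := Fin q) (finRotate q)
    (fun f hf => finRotate_const hf) (by simpa [hqm] using hN) (σ := e.permCongr σ)
    (fun τ hc => hσ ?_) (β := δ) (by simpa using hδ)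
  · simpa [fchar_permCongr] using h
  · rw [← orderOf_permCongr e σ, orderOf_eq_of_isConj hc]
    exact dvd_orderOf_finRotate_sum hpq hq τ

set_option maxHeartbeats 1000000 in
/-- A `p`-singular permutation has a cycle of length divisible by `p`. -/
theorem fchar_eq_sum_cycle_dvd [Fact p.Prime] {σ : Equiv.Perm ι} (hσ : p ∣ orderOf σ) :
    ∃ q : ℕ, 0 < q ∧ p ∣ q ∧ ∃ (ι' : Type) (_ : Fintype ι') (_ : DecidableEq ι')
      (τ : Equiv.Perm ι'), q + Fintype.card ι' = Fintype.card ι ∧ ∀ α : Fin N → ℕ,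
        fchar α σ = ∑ i, if q ≤ α i then fchar (α - Pi.single i q) τ else 0 := by
  classical
  rw [← Equiv.Perm.lcm_cycleType] at hσ
  obtain ⟨q, hqc, hpq⟩ : ∃ q ∈ σ.cycleType, p ∣ q := by
    by_contra hc
    push Not at hc
    have : ∀ s : Multiset ℕ, (∀ q ∈ s, ¬ p ∣ q) → ¬ p ∣ s.lcm := by
      intro s
      induction s using Multiset.induction with
      | empty => exact fun _ => by simpa using (Fact.out : p.Prime).ne_one
      | cons a s ih =>
        intro h hd
        rw [Multiset.lcm_cons] at hd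
        rcases (Fact.out : p.Prime).dvd_mul.1 (hd.trans (Nat.lcm_dvd_mul _ _)) with h1 | h1
        · exact h a (Multiset.mem_cons_self _ _) h1
        · exact ih (fun q hq => h q (Multiset.mem_cons_of_mem hq)) h1
    exact this _ hc hσ
  rw [Equiv.Perm.cycleType_def, Multiset.mem_map] at hqc
  obtain ⟨c, hc, hcq⟩ := hqc
  have hcyc := Equiv.Perm.mem_cycleFactorsFinset_iff.1 hc
  obtain ⟨a, ha⟩ := hcyc.1.nonempty_support
  have hca : c = σ.cycleOf a := Equiv.Perm.cycle_is_cycleOf ha hc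
  have hsup : σ a ≠ a := Equiv.Perm.mem_support.1
    (Equiv.Perm.mem_cycleFactorsFinset_support_le hc ha)
  let instS : Fintype {x // σ.SameCycle a x} := Fintype.ofFinite _
  obtain ⟨ι', i1, i2, τ, hcard, hτ⟩ := @fchar_eq_sum_cycle_card N ι _ _ σ a instS
  have hqq : @Fintype.card {x // σ.SameCycle a x} instS = q := by
    rw [← hcq, Function.comp_apply, ← Fintype.card_coe c.support]
    refine Fintype.card_congr (Equiv.subtypeEquivRight fun x => ?_)
    rw [hca, Equiv.Perm.mem_support_cycleOf_iff' hsup]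
  rw [hqq] at hcard hτ
  refine ⟨q, ?_, hpq, ι', i1, i2, τ, hcard, hτ⟩
  rw [← hcq]
  exact Finset.card_pos.2 ⟨a, ha⟩

theorem resCount_sub_single (α : Fin N → ℕ) (i : Fin N) {q : ℕ} (hq : p ∣ q) (h : q ≤ α i) :
    resCount p (α - Pi.single i q : Fin N → ℕ) = resCount p α := by
  conv_rhs => rw [show α = (α - Pi.single i q : Fin N → ℕ) + Pi.single i q from funext fun j => by
    rcases eq_or_ne j i with rfl | hj
    · simp [Nat.sub_add_cancel h]
    · simp [Pi.single_eq_of_ne hj]]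
  rw [resCount_add_single _ _ hq]

/-- Orthogonality of a core set on regular against singular elements. -/
theorem sum_core_eq_zero [Fact p.Prime] (hN : Fintype.card ι ≤ N) (c : ℕ → ℕ) {σ τ : Equiv.Perm ι}
    (hσ : ¬ p ∣ orderOf σ) (hτ : p ∣ orderOf τ) :
    ∑ α ∈ (monos N (Fintype.card ι)).filter (fun α => resCount p α = c),
      (fchar α σ : ℂ) * (fchar α τ : ℂ) = 0 := by
  classical
  have hzero : ∑ α ∈ tuples N (Fintype.card ι),
      (if resCount p α = c then (fchar α σ : ℂ) * (fchar α τ : ℂ) else 0) = 0 := by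
    obtain ⟨q, hq, hpq, ι', _, _, τ', hcard, hexp⟩ := fchar_eq_sum_cycle_dvd (N := N) hτ
    have h1 : ∀ α : Fin N → ℕ,
        (if resCount p α = c then (fchar α σ : ℂ) * (fchar α τ : ℂ) else 0) =
          ∑ i, if q ≤ α i then (if resCount p (α - Pi.single i q : Fin N → ℕ) = c then
            (fchar α σ : ℂ) * (fchar (α - Pi.single i q) τ' : ℂ) else 0) else 0 := by
      intro α
      rw [hexp, Int.cast_sum, mul_sum, ite_sum_zero]
      refine sum_congr rfl fun i _ => ?_
      by_cases hqa : q ≤ α i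
      · rw [if_pos hqa, if_pos hqa, resCount_sub_single α i hpq hqa]
      · simp [hqa]
    rw [sum_congr rfl fun α _ => h1 α, ← hcard,
      sum_tuples_shift q (Fintype.card ι') (fun (α : Fin N → ℕ) (i : Fin N) =>
        if resCount p (α - (Pi.single i q : Fin N → ℕ)) = c then
          (fchar α σ : ℂ) * (fchar (α - (Pi.single i q : Fin N → ℕ)) τ' : ℂ) else 0)]
    refine sum_eq_zero fun δ hδ => ?_
    simp only [add_tsub_cancel_right]
    split_ifs with h
    · rw [← sum_mul, ← Int.cast_sum, sum_add_single_regular hN hq hcard hpq hσ hδ]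
      simp
    · exact sum_const_zero
  rw [sum_tuples _ _ (fun α π => ?_) (fun α hα => by simp [fchar_eq_zero α hα]),
    ← Nat.cast_smul_eq_nsmul ℂ, smul_eq_zero, ← sum_filter] at hzero
  · exact hzero.resolve_left (by exact_mod_cast N.factorial_ne_zero)
  · rw [resCount_comp, fchar_comp, fchar_comp]
    rcases Int.units_eq_one_or (Equiv.Perm.sign π) with hu | hu <;> simp [hu]

/-- The irreducible characters with a given core. -/
def coreSet (N p : ℕ) (ι : Type) [Fintype ι] [DecidableEq ι] (c : ℕ → ℕ) :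
    Set (Cfsg.IrrCharacter (Equiv.Perm ι)) :=
  {χ | ∃ α ∈ monos N (Fintype.card ι), resCount p α = c ∧ ∃ e : ℤ, (e = 1 ∨ e = -1) ∧
    ∀ σ, (χ : Equiv.Perm ι → ℂ) σ = (e : ℂ) * (fchar α σ : ℂ)}

theorem tuple_unique {α β : Fin N → ℕ} (hα : α ∈ monos N (Fintype.card ι))
    (hβ : β ∈ monos N (Fintype.card ι)) {e e' : ℤ} (he : e = 1 ∨ e = -1) (he' : e' = 1 ∨ e' = -1)
    (h : ∀ σ : Equiv.Perm ι, (e : ℂ) * (fchar α σ : ℂ) = (e' : ℂ) * (fchar β σ : ℂ)) : α = β := by
  by_contra hne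
  obtain ⟨hs, hm⟩ := mem_monos.1 hα
  have h0 := sum_fchar_mul (ι := ι) hm (mem_monos.1 hβ).2 hs
  rw [if_neg hne] at h0
  have h1 := sum_fchar_mul (ι := ι) hm hm hs
  rw [if_pos rfl] at h1
  have h2 : ∀ σ : Equiv.Perm ι, fchar β σ = e' * e * fchar α σ := fun σ => by
    have h' : e * fchar α σ = e' * fchar β σ := by exact_mod_cast h σ
    rcases he' with rfl | rfl <;> linarith
  simp only [h2, mul_left_comm _ (e' * e), ← mul_sum, h1] at h0
  rcases he with rfl | rfl <;> rcases he' with rfl | rfl <;>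
    simp [Nat.factorial_ne_zero] at h0

theorem irrOf_mem_coreSet_iff {c : ℕ → ℕ} (α : {α : Fin N → ℕ // α ∈ monos N (Fintype.card ι)}) :
    irrOf α ∈ coreSet N p ι c ↔ resCount p α.1 = c := by
  obtain ⟨e, he, hα⟩ := irrOf_spec α
  refine ⟨fun ⟨β, hβ, hc, e', he', hb⟩ => ?_, fun h => ⟨α.1, α.2, h, e, he, hα⟩⟩
  rw [tuple_unique α.2 hβ he he' fun σ => by rw [← hα, hb]]
  exact hc

theorem sum_coreSet [Fact p.Prime] (hN : Fintype.card ι ≤ N) (c : ℕ → ℕ)
    [Fintype (Cfsg.IrrCharacter (Equiv.Perm ι))]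
    [DecidablePred (· ∈ coreSet N p ι c)] {σ τ : Equiv.Perm ι}
    (hσ : ¬ p ∣ orderOf σ) (hτ : p ∣ orderOf τ) :
    ∑ χ ∈ (coreSet N p ι c).toFinset, (χ : Equiv.Perm ι → ℂ) σ * (χ : Equiv.Perm ι → ℂ) τ = 0 := by
  classical
  rw [← sum_core_eq_zero hN c hσ hτ]
  refine (sum_bij (fun α hα => irrOf ⟨α, (mem_filter.1 hα).1⟩) ?_ ?_ ?_ ?_).symm
  · intro α hα
    rw [Set.mem_toFinset, irrOf_mem_coreSet_iff]
    exact (mem_filter.1 hα).2
  · intro α hα β hβ h
    exact congrArg Subtype.val (irrOf_injective h)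
  · intro χ hχ
    obtain ⟨α, rfl⟩ := (irrOf_bijective hN).2 χ
    exact ⟨α.1, mem_filter.2 ⟨α.2, (irrOf_mem_coreSet_iff α).1 (Set.mem_toFinset.1 hχ)⟩, rfl⟩
  · intro α hα
    obtain ⟨e, he, hv⟩ := irrOf_spec (⟨α, (mem_filter.1 hα).1⟩ :
      {α : Fin N → ℕ // α ∈ monos N (Fintype.card ι)})
    rw [hv, hv]
    rcases he with rfl | rfl <;> simp

theorem conj_irr_apply (hN : Fintype.card ι ≤ N) (χ : Cfsg.IrrCharacter (Equiv.Perm ι))
    (σ : Equiv.Perm ι) : conj ((χ : Equiv.Perm ι → ℂ) σ) = (χ : Equiv.Perm ι → ℂ) σ := by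
  obtain ⟨α, -, e, -, h⟩ := exists_fchar_eq hN χ
  rw [h, map_mul, map_intCast, map_intCast]

/-- A block lies in a core set. -/
theorem subset_coreSet [Fact p.Prime] {M : Ideal Cfsg.AlgInt} (hM : Cfsg.IsPModular p M)
    (hN : Fintype.card ι ≤ N) {B : Set (Cfsg.IrrCharacter (Equiv.Perm ι))}
    (hB : Cfsg.IsPBlock M B) : ∃ c, B ⊆ coreSet N p ι c ∧ ∃ χ ∈ B, χ ∈ coreSet N p ι c := by
  classical
  have := CfsgLib.Block.isPrime_of_pmodular hM
  have := Fintype.ofFinite (Equiv.Perm ι)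
  have hfin : Finite (Cfsg.IrrCharacter (Equiv.Perm ι)) := CfsgLib.Char.finite_irrCharacter
  have := Fintype.ofFinite (Cfsg.IrrCharacter (Equiv.Perm ι))
  obtain ⟨χ, hχ⟩ := CfsgLib.Block.isPBlock_nonempty hB
  obtain ⟨α, hα, e, he, hv⟩ := exists_fchar_eq hN χ
  have hχc : χ ∈ coreSet N p ι (resCount p α) := ⟨α, hα, rfl, e, he, hv⟩
  refine ⟨resCount p α, fun ψ hψ => ?_, χ, hχ, hχc⟩
  refine CfsgLib.Block.mem_of_integral_blockSum (M := M) (fun g => ?_) hχc
    (CfsgLib.Block.sameBlock_of_mem hB hχ hψ)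
  set A := coreSet N p ι (resCount p α)
  have hrw : Cfsg.blockCoeff A g = (Nat.card (Equiv.Perm ι) : ℂ)⁻¹ *
      ∑ ξ ∈ A.toFinset, (ξ : Equiv.Perm ι → ℂ) 1 * (ξ : Equiv.Perm ι → ℂ) g := by
    rw [Cfsg.blockCoeff, finsum_mem_eq_toFinset_sum]
    simp only [conj_irr_apply hN]
  have h1 : ¬ p ∣ orderOf (1 : Equiv.Perm ι) := by
    rw [orderOf_one]; exact (Fact.out : p.Prime).not_dvd_one
  by_cases hg : p ∣ orderOf g
  · rw [hrw, sum_coreSet hN _ h1 hg, mul_zero]
    exact (CfsgLib.Block.lring M).zero_mem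
  · have h := CfsgLib.Block.memLocalRing_div_centralizer_of_vanish hM A.toFinset
      (fun ξ => (ξ : Equiv.Perm ι → ℂ) g)
      (fun ξ _ => CfsgLib.Block.irr_apply_isIntegral (CfsgLib.Char.irr_isCharacter ξ.2) g)
      (fun y hy => sum_coreSet hN _ hg hy) 1
    have hC : Nat.card (Subgroup.centralizer ({(1 : Equiv.Perm ι)} : Set (Equiv.Perm ι))) =
        Nat.card (Equiv.Perm ι) := by
      rw [show Subgroup.centralizer ({(1 : Equiv.Perm ι)} : Set (Equiv.Perm ι)) = ⊤ from
        eq_top_iff.2 fun x _ => Subgroup.mem_centralizer_singleton_iff.2 (by simp),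
        Nat.card_congr Subgroup.topEquiv.toEquiv]
    rw [hC] at h
    rw [hrw, inv_mul_eq_div]
    simpa [mul_comm] using h

end CfsgLib.BlockA.SymBlock
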