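import Cfsg.Agent.Lib.BlockA.SymIrr
import Mathlib.LinearAlgebra.Vandermonde
import Mathlib.Algebra.BigOperators.Intervals

/-!
# Conjugate configurations: twisting by the sign character
-/

set_option autoImplicit false
set_option linter.unusedSectionVars false

namespace CfsgLib.BlockA.SymBlock

open Finset

variable {N : ℕ} {ι : Type} [Fintype ι] [DecidableEq ι]

theorem val_le_of_strictMono {γ : Fin N → ℕ} (hγ : StrictMono γ) (i : Fin N) : (i : ℕ) ≤ γ i := by
  have key : ∀ k (hk : k < N), k ≤ γ ⟨k, hk⟩ := by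
    intro k
    induction k with
    | zero => exact fun _ => Nat.zero_le _
    | succ k ih =>
      intro hk
      exact Nat.succ_le_of_lt ((ih (k.lt_succ_self.trans hk)).trans_lt
        (hγ (Fin.mk_lt_mk.2 k.lt_succ_self)))
  exact key i.1 i.2

/-- The sign of the Vandermonde product of a tuple. -/
def ordSign (α : Fin N → ℕ) : ℤ :=
  ∏ a, ∏ b ∈ Finset.Ioi a, Int.sign ((α b : ℤ) - α a)

theorem ordSign_eq (α : Fin N → ℕ) :
    ordSign α = Int.sign (Matrix.vandermonde fun i => (α i : ℤ)).det := by
  rw [Matrix.det_vandermonde]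
  simp only [ordSign]
  have hs : ∀ {β : Type} (s : Finset β) (f : β → ℤ),
      ∏ i ∈ s, Int.sign (f i) = Int.sign (∏ i ∈ s, f i) := by
    intro β s f
    classical
    induction s using Finset.induction with
    | empty => simp
    | insert a s ha ih => rw [prod_insert ha, prod_insert ha, Int.sign_mul, ih]
  simp only [hs]

theorem ordSign_comp (α : Fin N → ℕ) (π : Equiv.Perm (Fin N)) :
    ordSign (α ∘ π) = (Equiv.Perm.sign π : ℤ) * ordSign α := by
  rw [ordSign_eq, ordSign_eq,
    show (Matrix.vandermonde fun i => ((α ∘ π) i : ℤ)) =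
      (Matrix.vandermonde fun i => (α i : ℤ)).submatrix π id from rfl,
    Matrix.det_permute, Int.sign_mul]
  rcases Int.units_eq_one_or (Equiv.Perm.sign π) with h | h <;> simp [h]

theorem ordSign_of_strictMono {α : Fin N → ℕ} (h : StrictMono α) : ordSign α = 1 :=
  prod_eq_one fun a _ => prod_eq_one fun b hb =>
    Int.sign_eq_one_of_pos (by have := h (mem_Ioi.1 hb); omega)

theorem ordSign_sq {α : Fin N → ℕ} (h : Function.Injective α) : ordSign α * ordSign α = 1 := by
  simp only [ordSign, ← prod_mul_distrib]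
  refine prod_eq_one fun a _ => prod_eq_one fun b hb => ?_
  have hne : (α b : ℤ) - α a ≠ 0 := by
    have := h.ne (mem_Ioi.1 hb).ne
    omega
  rcases lt_or_gt_of_ne hne with h' | h'
  · rw [Int.sign_eq_neg_one_of_neg h']; norm_num
  · rw [Int.sign_eq_one_of_pos h']; norm_num

/-- The normalized value, depending only on the set of entries. -/
def nfchar (α : Fin N → ℕ) (σ : Equiv.Perm ι) : ℤ := ordSign α * fchar α σ

theorem nfchar_comp (α : Fin N → ℕ) (π : Equiv.Perm (Fin N)) (σ : Equiv.Perm ι) :
    nfchar (α ∘ π) σ = nfchar α σ := by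
  rw [nfchar, nfchar, ordSign_comp, fchar_comp]
  rcases Int.units_eq_one_or (Equiv.Perm.sign π) with h | h <;> simp [h]

theorem nfchar_of_strictMono {α : Fin N → ℕ} (h : StrictMono α) (σ : Equiv.Perm ι) :
    nfchar α σ = fchar α σ := by
  rw [nfchar, ordSign_of_strictMono h, one_mul]

/-- The number of entries jumped over. -/
def jumped (α : Fin N → ℕ) (i : Fin N) (q : ℕ) : ℕ :=
  (univ.filter fun j => α i - q < α j ∧ α j < α i).card

theorem ordSign_step {α : Fin N → ℕ} (hα : Function.Injective α) {i : Fin N} {q : ℕ}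
    (hq : q ≤ α i) (hfree : ∀ j, j ≠ i → α j ≠ α i - q) :
    ordSign α * ordSign (α - Pi.single i q : Fin N → ℕ) = (-1) ^ jumped α i q := by
  set β : Fin N → ℕ := α - Pi.single i q with hβ
  have hbi : β i = α i - q := by simp [hβ]
  have hbj : ∀ j, j ≠ i → β j = α j := fun j hj => by simp [hβ, Pi.single_eq_of_ne hj]
  obtain ⟨g, hg⟩ : ∃ g : Fin N → ℤ, ∀ j, g j = if α i - q < α j ∧ α j < α i then -1 else 1 :=
    ⟨_, fun _ => rfl⟩
  have hpair : ∀ a b, a < b → Int.sign ((α b : ℤ) - α a) * Int.sign ((β b : ℤ) - β a) =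
      if a = i then g b else if b = i then g a else 1 := by
    intro a b hab
    have hsq : ∀ x : ℤ, x ≠ 0 → Int.sign x * Int.sign x = 1 := fun x hx => by
      rcases lt_or_gt_of_ne hx with h | h
      · rw [Int.sign_eq_neg_one_of_neg h]; norm_num
      · rw [Int.sign_eq_one_of_pos h]; norm_num
    by_cases ha : a = i
    · subst ha
      have h1 := hfree b hab.ne'
      have h2 := hα.ne hab.ne
      rw [if_pos rfl, hbi, hbj b hab.ne']
      rw [hg]
      split_ifs with h
      · rw [Int.sign_eq_neg_one_of_neg (by omega), Int.sign_eq_one_of_pos (by omega)]; norm_num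
      · rcases Nat.lt_or_ge (α a) (α b) with h' | h'
        · rw [Int.sign_eq_one_of_pos (by omega), Int.sign_eq_one_of_pos (by omega)]; norm_num
        · rw [Int.sign_eq_neg_one_of_neg (by omega), Int.sign_eq_neg_one_of_neg (by omega)]
          norm_num
    · rw [if_neg ha]
      by_cases hb : b = i
      · subst hb
        have h1 := hfree a ha
        have h2 := hα.ne hab.ne
        rw [if_pos rfl, hbi, hbj a ha]
        rw [hg]
        split_ifs with h
        · rw [Int.sign_eq_one_of_pos (by omega), Int.sign_eq_neg_one_of_neg (by omega)]; norm_num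
        · rcases Nat.lt_or_ge (α b) (α a) with h' | h'
          · rw [Int.sign_eq_neg_one_of_neg (by omega), Int.sign_eq_neg_one_of_neg (by omega)]
            norm_num
          · rw [Int.sign_eq_one_of_pos (by omega), Int.sign_eq_one_of_pos (by omega)]; norm_num
      · rw [if_neg hb, hbj a ha, hbj b hb]
        exact hsq _ (by have := hα.ne hab.ne; omega)
  simp only [ordSign, ← prod_mul_distrib]
  rw [prod_congr rfl fun a _ => prod_congr rfl fun b hb => hpair a b (mem_Ioi.1 hb),
    ← mul_prod_erase univ _ (mem_univ i)]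
  simp only [if_true]
  rw [prod_congr rfl (s₁ := univ.erase i) (g := fun a => if a < i then g a else 1) fun a ha => by
    simp only [if_neg (ne_of_mem_erase ha)]
    rw [prod_ite_eq' (Finset.Ioi a) i (fun _ => g a)]
    simp only [mem_Ioi]]
  rw [← prod_filter, jumped, show ((univ.erase i).filter fun a => a < i) = Finset.Iio i from by
    ext a; simp only [mem_filter, mem_erase, mem_univ, and_true, mem_Iio]
    exact ⟨fun h => h.2, fun h => ⟨h.ne, h⟩⟩, mul_comm, ← prod_union ?_,
    ← prod_filter_mul_prod_filter_not _ (fun j => α i - q < α j ∧ α j < α i)]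
  · rw [prod_congr (s₁ := (Finset.Iio i ∪ Finset.Ioi i).filter
        fun j => α i - q < α j ∧ α j < α i) rfl (g := fun _ => (-1 : ℤ)) fun j hj => by
      rw [hg, if_pos (mem_filter.1 hj).2],
      prod_eq_one (s := (Finset.Iio i ∪ Finset.Ioi i).filter
        fun j => ¬ (α i - q < α j ∧ α j < α i)) fun j hj => by
          rw [hg, if_neg (mem_filter.1 hj).2], mul_one, prod_const]
    refine congrArg _ (congrArg card ?_)
    ext j
    simp only [mem_filter, mem_union, mem_Iio, mem_Ioi, mem_univ, true_and]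
    refine ⟨fun h => h.2, fun h => ⟨?_, h⟩⟩
    rcases lt_trichotomy j i with h' | h' | h'
    · exact Or.inl h'
    · subst h'; omega
    · exact Or.inr h'
  · rw [disjoint_left]
    intro a h1 h2
    rw [mem_Iio] at h1
    rw [mem_Ioi] at h2
    exact absurd (h1.trans h2) (lt_irrefl _)

/-- `α'` is the reflected complement of `α` in `[0, 2N)`. -/
def IsConjBead (α α' : Fin N → ℕ) : Prop :=
  Function.Injective α ∧ Function.Injective α' ∧ (∀ i, α i < 2 * N) ∧ (∀ i, α' i < 2 * N) ∧
    ∀ x < 2 * N, ((∃ j, α' j = x) ↔ ¬ ∃ i, α i = 2 * N - 1 - x)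

theorem sign_of_transitive {κ : Type} [Fintype κ] [DecidableEq κ] [Nonempty κ] (c : Equiv.Perm κ)
    (hc : ∀ x y, c.SameCycle x y) :
    (Equiv.Perm.sign c : ℤ) = (-1) ^ (Fintype.card κ - 1) := by
  by_cases h1 : c = 1
  · subst h1
    have : Subsingleton κ := ⟨fun x y => by simpa using hc x y⟩
    have : Fintype.card κ = 1 :=
      le_antisymm (Fintype.card_le_one_iff_subsingleton.2 this) Fintype.card_pos
    simp [this]
  · obtain ⟨x, hx⟩ : ∃ x, c x ≠ x := by
      by_contra h
      push Not at h
      exact h1 (Equiv.ext h)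
    have hsup : c.support = univ := eq_univ_of_forall fun y =>
      Equiv.Perm.mem_support.2 fun hy => hx ((hc y x).eq_of_left hy ▸ hy)
    have hcyc : c.IsCycle := ⟨x, hx, fun y _ => hc x y⟩
    rw [hcyc.sign, hsup, card_univ]
    obtain ⟨k, hk⟩ : ∃ k, Fintype.card κ = k + 1 := ⟨_, (Nat.sub_add_cancel Fintype.card_pos).symm⟩
    rw [hk, pow_succ, Units.val_neg, Units.val_mul, Units.val_neg, Units.val_one, Nat.add_sub_cancel,
      Units.val_pow_eq_pow_val]
    simp

theorem nfchar_eq_sum_cycle (σ : Equiv.Perm ι) (a : ι) :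
    ∃ q : ℕ, 0 < q ∧ ∃ (ι' : Type) (_ : Fintype ι') (_ : DecidableEq ι') (τ : Equiv.Perm ι'),
      q + Fintype.card ι' = Fintype.card ι ∧
      (Equiv.Perm.sign σ : ℤ) = (-1) ^ (q - 1) * (Equiv.Perm.sign τ : ℤ) ∧
      ∀ α : Fin N → ℕ, Function.Injective α → nfchar α σ =
        ∑ i ∈ univ.filter (fun i => q ≤ α i ∧ ∀ j, α j ≠ α i - q),
          (-1) ^ jumped α i q * nfchar (α - Pi.single i q) τ := by
  classical
  let P : ι → Prop := fun x => σ.SameCycle a x
  have hP : ∀ x, P (σ x) ↔ P x := fun x => Equiv.Perm.sameCycle_apply_right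
  have hP' : ∀ x, ¬ P (σ x) ↔ ¬ P x := fun x => not_congr (hP x)
  have : Nonempty {x // P x} := ⟨⟨a, Equiv.Perm.SameCycle.refl _ _⟩⟩
  have htrans : ∀ x y : {x // P x}, (σ.subtypePerm hP).SameCycle x y := fun x y =>
    Equiv.Perm.sameCycle_subtypePerm.2 (x.2.symm.trans y.2)
  have hσ : (Equiv.sumCompl P).permCongr
      (Equiv.sumCongr (σ.subtypePerm hP) (σ.subtypePerm hP')) = σ := Equiv.ext fun x => by
    by_cases hx : P x
    · simp [Equiv.permCongr_apply, Equiv.sumCompl_symm_apply_of_pos hx]
    · simp [Equiv.permCongr_apply, Equiv.sumCompl_symm_apply_of_neg hx]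
  refine ⟨Fintype.card {x // P x}, Fintype.card_pos, {x // ¬ P x}, inferInstance, inferInstance,
    σ.subtypePerm hP', by rw [← Fintype.card_sum, Fintype.card_congr (Equiv.sumCompl P)], ?_,
    fun α hα => ?_⟩
  · conv_lhs => rw [← hσ]
    rw [Equiv.Perm.sign_permCongr, Equiv.Perm.sign_sumCongr, Units.val_mul,
      sign_of_transitive _ htrans]
  · conv_lhs => rw [← hσ]
    rw [nfchar, fchar_permCongr, fchar_sumCongr (σ.subtypePerm hP) ?_ α (σ.subtypePerm hP'),
      mul_sum]
    · set q := Fintype.card {x // P x}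
      rw [← sum_filter_of_ne (s := univ) (p := fun i => q ≤ α i ∧ ∀ j, α j ≠ α i - q) ?_]
      · refine sum_congr rfl fun i hi => ?_
        obtain ⟨hq, hfree⟩ := (mem_filter.1 hi).2
        rw [if_pos hq, nfchar, ← mul_assoc, ← ordSign_step hα hq (fun j _ => hfree j)]
        have hinj : Function.Injective (α - Pi.single i q : Fin N → ℕ) := by
          intro x y hxy
          rcases eq_or_ne x i with hx | hx <;> rcases eq_or_ne y i with hy | hy
          · exact hx.trans hy.symm
          · subst hx
            simp only [Pi.sub_apply, Pi.single_eq_same, Pi.single_eq_of_ne hy, Nat.sub_zero] at hxy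
            exact absurd hxy.symm (hfree y)
          · subst hy
            simp only [Pi.sub_apply, Pi.single_eq_same, Pi.single_eq_of_ne hx, Nat.sub_zero] at hxy
            exact absurd hxy (hfree x)
          · simp only [Pi.sub_apply, Pi.single_eq_of_ne hy, Pi.single_eq_of_ne hx,
              Nat.sub_zero] at hxy
            exact hα hxy
        rw [mul_assoc (ordSign α), ordSign_sq hinj, mul_one]
      · intro i _ hne
        have hq : q ≤ α i := by
          by_contra hq
          rw [if_neg hq, mul_zero] at hne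
          exact hne rfl
        refine ⟨hq, fun j hj => hne ?_⟩
        rw [if_pos hq, fchar_eq_zero, mul_zero]
        intro hinj
        have hji : j ≠ i := by
          rintro rfl
          have : 0 < q := Fintype.card_pos
          omega
        exact hji (hinj (by simp [Pi.single_eq_of_ne hji, hj]))
    · intro f hf x y
      obtain ⟨k, -, -, hk⟩ := (htrans x y).exists_pow_eq (σ.subtypePerm hP)
      have hpow : ∀ (k : ℕ) (z : {x // P x}), f (((σ.subtypePerm hP) ^ k) z) = f z := by
        intro k
        induction k with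
        | zero => simp
        | succ k ih =>
          intro z
          rw [pow_succ', Equiv.Perm.mul_apply]
          exact (congrFun hf _).trans (ih z)
      rw [← hk, hpow]

theorem IsConjBead.sum_eq {α α' : Fin N → ℕ} (h : IsConjBead α α') :
    ∑ i, α' i = ∑ i, α i := by
  classical
  obtain ⟨hα, hα', hlt, hlt', hiff⟩ := h
  rw [← sum_image (s := univ) (f := fun x => x) hα.injOn,
    ← sum_image (s := univ) (f := fun x => x) hα'.injOn]
  have himg : univ.image α' =
      ((range (2 * N)) \ univ.image α).image (fun x => 2 * N - 1 - x) := by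
    ext x
    simp only [mem_image, mem_univ, true_and, mem_sdiff, mem_range, not_exists]
    constructor
    · rintro ⟨j, rfl⟩
      refine ⟨2 * N - 1 - α' j, ⟨by have := hlt' j; omega, ?_⟩, by have := hlt' j; omega⟩
      intro i hi
      exact (hiff _ (hlt' j)).1 ⟨j, rfl⟩ ⟨i, hi⟩
    · rintro ⟨y, ⟨hy, hny⟩, rfl⟩
      refine (hiff _ (by omega)).2 fun ⟨i, hi⟩ => hny i ?_
      rw [hi]; omega
  rw [himg, sum_image fun x hx y hy hxy => by
    have := mem_range.1 (mem_sdiff.1 hx).1
    have := mem_range.1 (mem_sdiff.1 hy).1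
    omega]
  have hsub : univ.image α ⊆ range (2 * N) := fun x hx => by
    obtain ⟨i, -, rfl⟩ := mem_image.1 hx
    exact mem_range.2 (hlt i)
  have hcard : (range (2 * N) \ univ.image α).card = N := by
    rw [card_sdiff_of_subset hsub, card_range, card_image_of_injective _ hα, card_univ,
      Fintype.card_fin]
    omega
  have h1 : ∑ x ∈ range (2 * N) \ univ.image α, (2 * N - 1 - x) +
      ∑ x ∈ range (2 * N) \ univ.image α, x = N * (2 * N - 1) := by
    rw [← sum_add_distrib, sum_congr rfl (g := fun _ => 2 * N - 1) fun x hx => by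
      have := mem_range.1 (mem_sdiff.1 hx).1; omega, sum_const, hcard, smul_eq_mul]
  have h2 := sum_sdiff (f := fun x : ℕ => x) hsub
  have h3 : ∑ x ∈ range (2 * N), x = N * (2 * N - 1) := by
    have := Finset.sum_range_id_mul_two (2 * N)
    rw [show 2 * N * (2 * N - 1) = N * (2 * N - 1) * 2 by ring] at this
    omega
  omega

theorem nfchar_conj : ∀ (n : ℕ) (ι : Type) [Fintype ι] [DecidableEq ι] (σ : Equiv.Perm ι)
    (α α' : Fin N → ℕ), Fintype.card ι = n → IsConjBead α α' → α ∈ tuples N n →
    nfchar α' σ = (Equiv.Perm.sign σ : ℤ) * nfchar α σ := by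
  intro n
  induction n using Nat.strong_induction_on with
  | _ n ih =>
  intro ι _ _ σ α α' hn hconj hα
  classical
  obtain ⟨hinj, hinj', hlt, hlt', hiff⟩ := hconj
  rcases Nat.eq_zero_or_pos n with hn0 | hnpos
  · -- both sets are initial segments
    subst hn0
    have hα' : α' ∈ tuples N 0 := mem_tuples.2
      ((IsConjBead.sum_eq ⟨hinj, hinj', hlt, hlt', hiff⟩).trans (mem_tuples.1 hα))
    have hid : ∀ β : Fin N → ℕ, Function.Injective β → β ∈ tuples N 0 →
        nfchar β σ = nfchar (fun i : Fin N => (i : ℕ)) σ := by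
      intro β hβ hs
      have hm := (mem_monos.1 (sort_mem_monos hs hβ))
      have : β ∘ Tuple.sort β = fun i : Fin N => (i : ℕ) := by
        have hle : ∀ i : Fin N, (i : ℕ) ≤ (β ∘ Tuple.sort β) i := fun i => val_le_of_strictMono hm.2 i
        funext i
        exact ((sum_eq_sum_iff_of_le fun i _ => hle i).1 (hm.1.trans (add_zero _)).symm
          i (mem_univ i)).symm
      rw [← this, nfchar_comp]
    have hσ : σ = 1 := Equiv.ext fun x => (Fintype.card_eq_zero_iff.1 hn).elim x
    rw [hid α' hinj' hα', hid α hinj hα, hσ, Equiv.Perm.sign_one, Units.val_one, one_mul]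
  obtain ⟨a⟩ : Nonempty ι := Fintype.card_pos_iff.1 (hn ▸ hnpos)
  obtain ⟨q, hq, ι', _, _, τ, hcard, hsign, hexp⟩ := nfchar_eq_sum_cycle (N := N) σ a
  rw [hexp α hinj, hexp α' hinj', mul_sum]
  have hex : ∀ i, q ≤ α i → (∀ j, α j ≠ α i - q) →
      ∃ j, α' j = 2 * N - 1 - (α i - q) := fun i hqi hfree => by
    have := hlt i
    refine (hiff _ (by omega)).2 fun ⟨k, hk⟩ => hfree k ?_
    rw [hk]; omega
  choose f hf using hex
  have hback : ∀ j, q ≤ α' j → (∀ k, α' k ≠ α' j - q) →
      ∃ i, q ≤ α i ∧ (∀ k, α k ≠ α i - q) ∧ 2 * N - 1 - (α i - q) = α' j := by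
    intro j hqj hfree
    have := hlt' j
    obtain ⟨i, hi⟩ : ∃ i, α i = 2 * N - 1 - (α' j - q) := by
      by_contra hno
      obtain ⟨k, hk⟩ := (hiff (α' j - q) (by omega)).2 hno
      exact hfree k hk
    refine ⟨i, by omega, fun k hk => (hiff _ (hlt' j)).1 ⟨j, rfl⟩ ⟨k, by omega⟩, by omega⟩
  symm
  refine sum_bij (fun i hi => f i (mem_filter.1 hi).2.1 (mem_filter.1 hi).2.2) ?_ ?_ ?_ ?_
  · intro i hi
    obtain ⟨hqi, hfree⟩ := (mem_filter.1 hi).2
    have := hlt i
    refine mem_filter.2 ⟨mem_univ _, by rw [hf]; omega, fun k hk => ?_⟩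
    rw [hf] at hk
    exact (hiff _ (hlt' k)).1 ⟨k, rfl⟩ ⟨i, by rw [hk]; omega⟩
  · intro i hi i2 hi2 h
    have h1 := congrArg α' h
    rw [hf, hf] at h1
    have := hlt i
    have := hlt i2
    have := (mem_filter.1 hi).2.1
    have := (mem_filter.1 hi2).2.1
    exact hinj (by omega)
  · intro j hj
    obtain ⟨hqj, hfree⟩ := (mem_filter.1 hj).2
    obtain ⟨i, hqi, hfi, he⟩ := hback j hqj hfree
    exact ⟨i, mem_filter.2 ⟨mem_univ _, hqi, hfi⟩, hinj' (by rw [hf, he])⟩
  · intro i hi
    obtain ⟨hqi, hfree⟩ := (mem_filter.1 hi).2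
    set j := f i (mem_filter.1 hi).2.1 (mem_filter.1 hi).2.2 with hj
    have hj' : α' j = 2 * N - 1 - (α i - q) := hf _ _ _
    have hli := hlt i
    -- the new configurations are conjugate
    have hconj' : IsConjBead (α - Pi.single i q : Fin N → ℕ) (α' - Pi.single j q : Fin N → ℕ) := by
      have hfree' : ∀ k, α' k ≠ α' j - q := fun k hk =>
        (hiff _ (hlt' k)).1 ⟨k, rfl⟩ ⟨i, by rw [hk, hj']; omega⟩
      have hmk : ∀ (β : Fin N → ℕ) (i : Fin N), Function.Injective β → (∀ k, β k ≠ β i - q) →
          Function.Injective (β - Pi.single i q : Fin N → ℕ) := by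
        intro β i hβ hfr x y hxy
        rcases eq_or_ne x i with hx | hx <;> rcases eq_or_ne y i with hy | hy
        · exact hx.trans hy.symm
        · subst hx
          simp only [Pi.sub_apply, Pi.single_eq_same, Pi.single_eq_of_ne hy, Nat.sub_zero] at hxy
          exact absurd hxy.symm (hfr y)
        · subst hy
          simp only [Pi.sub_apply, Pi.single_eq_same, Pi.single_eq_of_ne hx, Nat.sub_zero] at hxy
          exact absurd hxy (hfr x)
        · simp only [Pi.sub_apply, Pi.single_eq_of_ne hy, Pi.single_eq_of_ne hx,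
            Nat.sub_zero] at hxy
          exact hβ hxy
      have hmem : ∀ (β : Fin N → ℕ) (i : Fin N), Function.Injective β →
          ∀ x, (∃ k, (β - Pi.single i q : Fin N → ℕ) k = x) ↔
            x = β i - q ∨ (x ≠ β i ∧ ∃ k, β k = x) := by
        intro β i hβ x
        constructor
        · rintro ⟨k, rfl⟩
          rcases eq_or_ne k i with rfl | hk
          · exact Or.inl (by simp)
          · refine Or.inr ?_
            simp only [Pi.sub_apply, Pi.single_eq_of_ne hk, Nat.sub_zero]
            exact ⟨hβ.ne hk, k, rfl⟩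
        · rintro (rfl | ⟨hx, k, rfl⟩)
          · exact ⟨i, by simp⟩
          · exact ⟨k, by simp [Pi.single_eq_of_ne fun h : k = i => hx (h ▸ rfl)]⟩
      refine ⟨hmk α i hinj hfree, hmk α' j hinj' hfree', fun k => ?_, fun k => ?_, fun x hx => ?_⟩
      · exact (Nat.sub_le _ _).trans_lt (hlt k)
      · exact (Nat.sub_le _ _).trans_lt (hlt' k)
      · rw [hmem α' j hinj', hmem α i hinj]
        have hx' := hiff x hx
        constructor
        · rintro (rfl | ⟨hne, hk⟩) (he | ⟨hne', k', hk'⟩)
          · clear hx' hiff; omega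
          · clear hx' hiff hk'; omega
          · clear hx' hiff hk; omega
          · exact hx'.1 hk ⟨k', hk'⟩
        · intro hno
          push Not at hno
          by_cases hxq : x = α' j - q
          · exact Or.inl hxq
          · obtain ⟨h1, h2⟩ := hno
            refine Or.inr ⟨by clear hx' hiff; omega, hx'.2 ?_⟩
            rintro ⟨k, hk⟩
            refine h2 ?_ k hk
            clear hx' hiff
            omega
    have hτn : Fintype.card ι' = n - q := by omega
    have hsum : ∑ k, α k = ∑ k, (α - Pi.single i q : Fin N → ℕ) k + q := by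
      obtain ⟨β, hβ⟩ : ∃ β : Fin N → ℕ, β = α - Pi.single i q := ⟨_, rfl⟩
      rw [← hβ, ← add_sum_erase univ α (mem_univ i), ← add_sum_erase univ β (mem_univ i),
        sum_congr rfl (s₁ := univ.erase i) (f := β) (g := fun k => α k)
          fun k hk => by simp [hβ, Pi.single_eq_of_ne (ne_of_mem_erase hk)]]
      simp only [hβ, Pi.sub_apply, Pi.single_eq_same]
      omega
    rw [ih (n - q) (by omega) ι' τ _ _ hτn hconj' (mem_tuples.2 (by
      have := mem_tuples.1 hα; omega))]
    -- the numbers of jumped entries add up to `q - 1`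
    have hjump : jumped α i q + jumped α' j q = q - 1 := by
      have hk : jumped α i q = ((Finset.Ioo (α i - q) (α i)).filter fun x => ∃ k, α k = x).card := by
        rw [jumped, ← card_image_of_injective _ hinj]
        refine congrArg card (Finset.ext fun x => ?_)
        simp only [mem_image, mem_filter, mem_univ, true_and, mem_Ioo]
        exact ⟨fun ⟨k, hk, hx⟩ => ⟨hx ▸ hk, k, hx⟩, fun ⟨hk, k, hx⟩ => ⟨k, hx ▸ hk, hx⟩⟩
      have hk' : jumped α' j q =
          ((Finset.Ioo (α i - q) (α i)).filter fun x => ¬ ∃ k, α k = x).card := by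
        rw [jumped, ← card_image_of_injective _ (f := fun k => α' k) hinj']
        refine card_bij (fun x _ => 2 * N - 1 - x) ?_ ?_ ?_
        · intro x hx
          simp only [mem_image, mem_filter, mem_univ, true_and] at hx
          obtain ⟨k, hkk, rfl⟩ := hx
          simp only [mem_filter, mem_Ioo]
          exact ⟨by omega, (hiff _ (hlt' k)).1 ⟨k, rfl⟩⟩
        · intro x hx y hy hxy
          simp only [mem_image, mem_filter, mem_univ, true_and] at hx hy
          obtain ⟨k, -, rfl⟩ := hx
          obtain ⟨l, -, rfl⟩ := hy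
          have := hlt' k
          have := hlt' l
          omega
        · intro y hy
          simp only [mem_filter, mem_Ioo] at hy
          obtain ⟨k, hk⟩ := (hiff (2 * N - 1 - y) (by omega)).2 fun ⟨l, hl⟩ =>
            hy.2 ⟨l, by omega⟩
          refine ⟨2 * N - 1 - y, ?_, by omega⟩
          simp only [mem_image, mem_filter, mem_univ, true_and]
          exact ⟨k, by omega, hk⟩
      rw [hk, hk', card_filter_add_card_filter_not, Nat.card_Ioo]
      omega
    rw [hsign, ← hjump, pow_add]
    rcases neg_one_pow_eq_or ℤ (jumped α i q) with h1 | h1 <;>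
      rcases neg_one_pow_eq_or ℤ (jumped α' j q) with h2 | h2 <;>
        simp [h1, h2]

theorem lt_two_mul_of_mem_monos {n : ℕ} (hn : n ≤ N) {α : Fin N → ℕ} (hα : α ∈ monos N n)
    (i : Fin N) : α i < 2 * N := by
  obtain ⟨hs, hm⟩ := mem_monos.1 hα
  have hle : ∀ k : Fin N, (k : ℕ) ≤ α k := fun k => val_le_of_strictMono hm k
  have h1 : α i + ∑ k ∈ univ.erase i, (k : ℕ) ≤ stair N + n := by
    rw [← hs, ← add_sum_erase univ α (mem_univ i)]
    exact Nat.add_le_add_left (sum_le_sum fun k _ => hle k) _
  have h2 := add_sum_erase univ (fun k : Fin N => (k : ℕ)) (mem_univ i)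
  rw [stair] at h1
  have := i.2
  omega

theorem exists_conjTuple {n : ℕ} (hn : n ≤ N) {α : Fin N → ℕ} (hα : α ∈ monos N n) :
    ∃ α' ∈ monos N n, IsConjBead α α' := by
  classical
  obtain ⟨hs, hm⟩ := mem_monos.1 hα
  have hlt := lt_two_mul_of_mem_monos hn hα
  set S := ((range (2 * N)) \ univ.image α).image fun x => 2 * N - 1 - x with hS
  have hcard : S.card = N := by
    rw [hS, card_image_of_injOn fun x hx y hy hxy => ?_, card_sdiff_of_subset fun x hx => ?_,
      card_range, card_image_of_injective _ hm.injective, card_univ, Fintype.card_fin]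
    · omega
    · obtain ⟨i, -, rfl⟩ := mem_image.1 hx
      exact mem_range.2 (hlt i)
    · have := mem_range.1 (mem_sdiff.1 hx).1
      have := mem_range.1 (mem_sdiff.1 hy).1
      omega
  set α' : Fin N → ℕ := fun i => S.orderEmbOfFin hcard i with hα'
  have hmem : ∀ x, (∃ j, α' j = x) ↔ x ∈ S := fun x => by
    rw [← Finset.mem_coe, ← S.range_orderEmbOfFin hcard]
    rfl
  have hmono : StrictMono α' := (S.orderEmbOfFin hcard).strictMono
  have hconj : IsConjBead α α' := by
    refine ⟨hm.injective, hmono.injective, hlt, fun j => ?_, fun x hx => ?_⟩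
    · have h := (hmem (α' j)).1 ⟨j, rfl⟩
      rw [hS, mem_image] at h
      obtain ⟨y, hy, he⟩ := h
      have := mem_range.1 (mem_sdiff.1 hy).1
      omega
    · rw [hmem, hS, mem_image]
      simp only [mem_sdiff, mem_range, mem_image, mem_univ, true_and, not_exists]
      constructor
      · rintro ⟨y, ⟨hy, hny⟩, rfl⟩ i hi
        exact hny i (by omega)
      · intro hno
        exact ⟨2 * N - 1 - x, ⟨by omega, hno⟩, by omega⟩
  exact ⟨α', mem_monos.2 ⟨hconj.sum_eq.trans hs, hmono⟩, hconj⟩

/-- A character fixed by the sign twist has a self-conjugate configuration. -/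
theorem isConjBead_self_of_twist (hN : Fintype.card ι ≤ N) {α : Fin N → ℕ}
    (hα : α ∈ monos N (Fintype.card ι))
    (h : ∀ σ : Equiv.Perm ι, (Equiv.Perm.sign σ : ℤ) * fchar α σ = fchar α σ) :
    IsConjBead α α := by
  classical
  obtain ⟨α', hα', hconj⟩ := exists_conjTuple hN hα
  obtain ⟨hs, hm⟩ := mem_monos.1 hα
  obtain ⟨hs', hm'⟩ := mem_monos.1 hα'
  have heq : α = α' := by
    by_contra hne
    have hval : ∀ σ : Equiv.Perm ι, fchar α' σ = fchar α σ := fun σ => by
      rw [← nfchar_of_strictMono hm', nfchar_conj _ ι σ α α' rfl hconj (mem_tuples.2 hs),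
        nfchar_of_strictMono hm, h]
    have h0 := sum_fchar_mul (ι := ι) hm hm' hs
    rw [if_neg hne] at h0
    have h1 := sum_fchar_mul (ι := ι) hm hm hs
    rw [if_pos rfl] at h1
    simp only [hval] at h0
    have := (Fintype.card ι).factorial_pos
    omega
  rwa [← heq] at hconj

end CfsgLib.BlockA.SymBlock
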