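import Cfsg.Agent.Lib.BlockA.SymSpan
import Cfsg.Agent.Lib.BlockA.SymConj
import Mathlib.Combinatorics.Enumerative.Partition.Basic

/-!
# Counting self-conjugate configurations with given core
-/

set_option autoImplicit false
set_option linter.unusedSectionVars false

namespace CfsgLib.BlockA.SymBlock

open Finset

variable {N p : ℕ}

/-- The total displacement on the runner of residue `r`. -/
def runWeight (p : ℕ) (α : Fin N → ℕ) (r : ℕ) : ℕ :=
  ∑ i ∈ univ.filter (fun i => α i % p = r), beadDisp p α i

theorem coreWeight_eq_sum_runWeight (hp : 0 < p) (α : Fin N → ℕ) :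
    coreWeight p α = ∑ r ∈ range p, runWeight p α r :=
  (sum_fiberwise_of_maps_to (fun i _ => mem_range.2 (Nat.mod_lt _ hp)) _).symm

theorem reflect_pos {L r k : ℕ} (hr : r < p) (hk : k < L) :
    p * L - 1 - (r + p * k) = (p - 1 - r) + p * (L - 1 - k) := by
  obtain ⟨d, rfl⟩ : ∃ d, L = k + 1 + d := ⟨L - 1 - k, by omega⟩
  rw [show k + 1 + d - 1 - k = d by omega, Nat.mul_add, Nat.mul_add, Nat.mul_one]
  omega

/-- The facts about a configuration equal to its reflected complement in a segment of `p * L`. -/
theorem selfConj_runner (hp : 0 < p) {α : Fin N → ℕ} (hα : IsConjBead α α) {L : ℕ}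
    (hL : 2 * N = p * L) {r : ℕ} (hr : r < p) (k : ℕ) (hk : k < L) :
    (∃ i, α i = (p - 1 - r) + p * k) ↔ ¬ ∃ i, α i = r + p * (L - 1 - k) := by
  obtain ⟨-, -, hlt, -, hiff⟩ := hα
  have hk' : L - 1 - k < L := by omega
  have hx : (p - 1 - r) + p * k < 2 * N := by
    rw [hL]
    have : p * (k + 1) ≤ p * L := Nat.mul_le_mul_left _ hk
    rw [Nat.mul_add, Nat.mul_one] at this
    omega
  rw [hiff _ hx, hL]
  have h := reflect_pos (p := p) (L := L) (r := p - 1 - r) (k := k) (by omega) hk
  rw [h, show p - 1 - (p - 1 - r) = r by omega]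

/-- The set of quotients on a runner. -/
def runSet (p : ℕ) (α : Fin N → ℕ) (r : ℕ) : Finset ℕ :=
  (univ.filter fun i => α i % p = r).image fun i => α i / p

theorem mem_runSet (hp : 0 < p) {α : Fin N → ℕ} {r : ℕ} (hr : r < p) {k : ℕ} :
    k ∈ runSet p α r ↔ ∃ i, α i = r + p * k := by
  simp only [runSet, mem_image, mem_filter, mem_univ, true_and]
  constructor
  · rintro ⟨i, hi, rfl⟩
    exact ⟨i, by rw [← hi]; exact (Nat.mod_add_div _ _).symm⟩
  · rintro ⟨i, hi⟩
    refine ⟨i, ?_, ?_⟩
    · rw [hi, Nat.add_mul_mod_self_left, Nat.mod_eq_of_lt hr]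
    · rw [hi, Nat.add_mul_div_left _ _ hp, Nat.div_eq_of_lt hr, zero_add]

theorem card_runSet {α : Fin N → ℕ} (hα : Function.Injective α) (r : ℕ) :
    (runSet p α r).card = resCount p α r ∧
      runWeight p α r + stair (resCount p α r) = ∑ k ∈ runSet p α r, k := by
  have hinj : Set.InjOn (fun i => α i / p) (univ.filter fun i => α i % p = r : Finset (Fin N)) :=
    fun i hi j hj h => hα (eq_of_mod_div ((mem_filter.1 hi).2.trans (mem_filter.1 hj).2.symm) h)
  refine ⟨card_image_of_injOn hinj, ?_⟩
  rw [runSet, sum_image hinj, runWeight, stair, ← sum_beadRank hα r, ← sum_add_distrib]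
  exact sum_congr rfl fun i _ => Nat.sub_add_cancel (beadRank_le hα i)

theorem two_stair (n : ℕ) : 2 * (stair n : ℤ) = (n : ℤ) * ((n : ℤ) - 1) := by
  have h := Finset.sum_range_id_mul_two n
  rw [stair, Fin.sum_univ_eq_sum_range (fun k => k)]
  rcases n with _ | n
  · simp
  · rw [Nat.add_sub_cancel] at h
    have h' := congrArg (fun x : ℕ => (x : ℤ)) h
    push_cast at h' ⊢
    linarith

theorem runWeight_reflect (hp : 0 < p) {α : Fin N → ℕ} (hα : IsConjBead α α) {L : ℕ}
    (hL : 2 * N = p * L) {r : ℕ} (hr : r < p) :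
    runWeight p α (p - 1 - r) = runWeight p α r := by
  have hlt := hα.2.2.1
  have hbound : ∀ s < p, runSet p α s ⊆ range L := fun s hs k hk => by
    obtain ⟨i, hi⟩ := (mem_runSet hp hs).1 hk
    have := hlt i
    rw [hL, hi] at this
    exact mem_range.2 (Nat.lt_of_mul_lt_mul_left (lt_of_le_of_lt (Nat.le_add_left _ _) this))
  have himg : runSet p α (p - 1 - r) =
      (range L \ runSet p α r).image (fun k => L - 1 - k) := by
    ext k
    rw [mem_runSet hp (by omega), mem_image]
    constructor
    · rintro ⟨i, hi⟩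
      have hk : k < L := mem_range.1 (hbound _ (by omega) ((mem_runSet hp (by omega)).2 ⟨i, hi⟩))
      refine ⟨L - 1 - k, mem_sdiff.2 ⟨mem_range.2 (by omega), ?_⟩, by omega⟩
      rw [mem_runSet hp hr]
      exact (selfConj_runner hp hα hL hr k hk).1 ⟨i, hi⟩
    · rintro ⟨j, hj, rfl⟩
      obtain ⟨hj1, hj2⟩ := mem_sdiff.1 hj
      rw [mem_range] at hj1
      refine (selfConj_runner hp hα hL hr _ (by omega)).2 ?_
      rwa [show L - 1 - (L - 1 - j) = j by omega, ← mem_runSet hp hr]
  have hinj : Set.InjOn (fun k => L - 1 - k) (range L \ runSet p α r : Finset ℕ) :=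
    fun x hx y hy h => by
      have := mem_range.1 (mem_sdiff.1 hx).1
      have := mem_range.1 (mem_sdiff.1 hy).1
      simp only at h
      omega
  obtain ⟨hc, hA⟩ := card_runSet (p := p) hα.1 r
  obtain ⟨hc', hB⟩ := card_runSet (p := p) hα.1 (p - 1 - r)
  have hsdiff := card_sdiff_of_subset (hbound r hr)
  rw [card_range] at hsdiff
  have hcle : resCount p α r ≤ L := by
    rw [← hc, ← card_range L]; exact card_le_card (hbound r hr)
  have h1 : ∑ k ∈ range L \ runSet p α r, (L - 1 - k) + ∑ k ∈ range L \ runSet p α r, k =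
      (L - resCount p α r) * (L - 1) := by
    rw [← sum_add_distrib, sum_congr rfl (g := fun _ => L - 1) fun k hk => by
      have := mem_range.1 (mem_sdiff.1 hk).1; omega, sum_const, hsdiff, hc, smul_eq_mul]
  have h2 := sum_sdiff (f := fun k : ℕ => k) (hbound r hr)
  have h3 : ∑ k ∈ range L, k = stair L := (Fin.sum_univ_eq_sum_range (fun k => k) L).symm
  rw [himg, sum_image hinj] at hB
  rw [himg, card_image_of_injOn hinj, hsdiff, hc] at hc'
  rw [← hc'] at hB
  obtain ⟨d, hd⟩ : ∃ d, L = resCount p α r + d := ⟨L - resCount p α r, by omega⟩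
  rw [hd, Nat.add_sub_cancel_left] at hB h1
  rw [hd] at h2 h3
  have e1 := two_stair d
  have e2 := two_stair (resCount p α r)
  have e3 := two_stair (resCount p α r + d)
  have hmul : 2 * ((d * (resCount p α r + d - 1) : ℕ) : ℤ) =
      2 * ((d : ℤ) * ((resCount p α r : ℤ) + d - 1)) := by
    rcases Nat.eq_zero_or_pos d with rfl | hd0
    · simp
    · rw [Nat.cast_mul, Nat.cast_sub (by omega)]
      push_cast
      ring
  have h1' := congrArg (fun x : ℕ => 2 * (x : ℤ)) h1
  have h2' := congrArg (fun x : ℕ => 2 * (x : ℤ)) h2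
  have hA' := congrArg (fun x : ℕ => 2 * (x : ℤ)) hA
  have hB' := congrArg (fun x : ℕ => 2 * (x : ℤ)) hB
  simp only [h3] at h2'
  push_cast at h1' h2' hA' hB' hmul e1 e2 e3
  have hfin : (2 : ℤ) * (runWeight p α (p - 1 - r) : ℤ) = 2 * (runWeight p α r : ℤ) := by
    linarith
  have := mul_left_cancel₀ (by norm_num : (2 : ℤ) ≠ 0) hfin
  exact_mod_cast this

/-- The self-conjugate configurations with given core. -/
noncomputable def selfSet (N p n : ℕ) (c : ℕ → ℕ) : Finset (Fin N → ℕ) := by
  classical
  exact (monos N n).filter fun α => resCount p α = c ∧ IsConjBead α α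

theorem mem_selfSet {n : ℕ} {c : ℕ → ℕ} {α : Fin N → ℕ} :
    α ∈ selfSet N p n c ↔ α ∈ monos N n ∧ resCount p α = c ∧ IsConjBead α α := by
  classical
  simp [selfSet]

/-- A self-conjugate configuration is determined by its lower half of runners. -/
theorem selfSet_ext (hp : 0 < p) {n L : ℕ} (hL : 2 * N = p * L) {c : ℕ → ℕ} {α β : Fin N → ℕ}
    (hα : α ∈ selfSet N p n c) (hβ : β ∈ selfSet N p n c)
    (h : ∀ r, 2 * r + 1 ≤ p → ∀ t, 0 < t →
      (univ.filter fun i => α i % p = r ∧ t ≤ beadDisp p α i).card =
        (univ.filter fun i => β i % p = r ∧ t ≤ beadDisp p β i).card) : α = β := by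
  obtain ⟨hαm, hαc, hαs⟩ := mem_selfSet.1 hα
  obtain ⟨hβm, hβc, hβs⟩ := mem_selfSet.1 hβ
  have hlow : ∀ (a b : Fin N → ℕ), Function.Injective a → Function.Injective b →
      resCount p a = resCount p b →
      (∀ r, 2 * r + 1 ≤ p → ∀ t, 0 < t →
        (univ.filter fun i => a i % p = r ∧ t ≤ beadDisp p a i).card =
          (univ.filter fun i => b i % p = r ∧ t ≤ beadDisp p b i).card) →
      ∀ i, 2 * (a i % p) + 1 ≤ p → ∃ j, b j = a i :=
    fun a b ha hb hc hh i hi => range_subset_of_counts ha hb hc i fun t ht => hh _ hi t ht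
  have main : ∀ (a b : Fin N → ℕ), IsConjBead a a → IsConjBead b b →
      (∀ i, 2 * (b i % p) + 1 ≤ p → ∃ j, a j = b i) →
      (∀ i, 2 * (a i % p) + 1 ≤ p → ∃ j, b j = a i) → ∀ i, ∃ j, b j = a i := by
    intro a b ha hb hba hab i
    by_cases hi : 2 * (a i % p) + 1 ≤ p
    · exact hab i hi
    set r := p - 1 - a i % p with hr
    have hrp : r < p := by omega
    have hai : a i = (p - 1 - r) + p * (a i / p) := by
      rw [show p - 1 - r = a i % p by have := Nat.mod_lt (a i) hp; omega]
      exact (Nat.mod_add_div _ _).symm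
    have hkL : a i / p < L := by
      have := ha.2.2.1 i
      rw [hL] at this
      exact Nat.div_lt_of_lt_mul this
    obtain ⟨j, hj⟩ := (selfConj_runner hp hb hL hrp (a i / p) hkL).2 fun ⟨l, hl⟩ => by
      obtain ⟨m, hm⟩ := hba l (by
        rw [hl, Nat.add_mul_mod_self_left, Nat.mod_eq_of_lt hrp]
        have := Nat.mod_lt (a i) hp
        omega)
      exact (selfConj_runner hp ha hL hrp (a i / p) hkL).1 ⟨i, hai⟩ ⟨m, hm.trans hl⟩
    exact ⟨j, hj.trans hai.symm⟩
  obtain ⟨-, hαmono⟩ := mem_monos.1 hαm
  obtain ⟨-, hβmono⟩ := mem_monos.1 hβm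
  have hr : resCount p α = resCount p β := hαc.trans hβc.symm
  have h1 := hlow α β hαmono.injective hβmono.injective hr h
  have h2 := hlow β α hβmono.injective hαmono.injective hr.symm fun r hh t ht => (h r hh t ht).symm
  refine (hαmono.range_inj hβmono).1 (Set.Subset.antisymm ?_ ?_)
  · rintro _ ⟨i, rfl⟩
    exact main α β hαs hβs h2 h1 i
  · rintro _ ⟨i, rfl⟩
    exact main β α hβs hαs h1 h2 i

/-- The displacements on a runner, as a multiset. -/
def runDisps (p : ℕ) (α : Fin N → ℕ) (r : ℕ) : Multiset ℕ :=
  (univ.filter fun i => α i % p = r ∧ 0 < beadDisp p α i).val.map (beadDisp p α)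

theorem countP_runDisps (α : Fin N → ℕ) (r : ℕ) {t : ℕ} (ht : 0 < t) :
    (runDisps p α r).countP (fun d => t ≤ d) =
      (univ.filter fun i => α i % p = r ∧ t ≤ beadDisp p α i).card := by
  rw [runDisps, Multiset.countP_map, ← Finset.filter_val, ← Finset.card_def, filter_filter]
  exact congrArg card (filter_congr fun i _ =>
    ⟨fun hh => ⟨hh.1.1, hh.2⟩, fun hh => ⟨⟨hh.1, by omega⟩, hh.2⟩⟩)

theorem sum_runDisps (α : Fin N → ℕ) (r : ℕ) : (runDisps p α r).sum = runWeight p α r := by
  rw [runWeight, runDisps, ← filter_filter]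
  exact sum_filter_of_ne (f := fun i => beadDisp p α i) (fun i _ h => Nat.pos_of_ne_zero h)

/-- The middle runner cannot have two displacements all equal to one. -/
theorem exists_two_le_middle (hp : 0 < p) {α : Fin N → ℕ} (hα : IsConjBead α α) {L : ℕ}
    (hL : 2 * N = p * L) {r : ℕ} (hrr : 2 * r + 1 = p) (h : 2 ≤ runWeight p α r) :
    ∃ i, α i % p = r ∧ 2 ≤ beadDisp p α i := by
  by_contra hno
  push Not at hno
  have hr : r < p := by omega
  have hrefl : p - 1 - r = r := by omega
  have hinj := hα.1
  -- `c + c = L`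
  obtain ⟨hc, -⟩ := card_runSet (p := p) hinj r
  have hbound : runSet p α r ⊆ range L := fun k hk => by
    obtain ⟨i, hi⟩ := (mem_runSet hp hr).1 hk
    have := hα.2.2.1 i
    rw [hL, hi] at this
    exact mem_range.2 (Nat.lt_of_mul_lt_mul_left (lt_of_le_of_lt (Nat.le_add_left _ _) this))
  have himg : runSet p α r = (range L \ runSet p α r).image (fun k => L - 1 - k) := by
    ext k
    rw [mem_image]
    constructor
    · intro hk
      have hkL := mem_range.1 (hbound hk)
      refine ⟨L - 1 - k, mem_sdiff.2 ⟨mem_range.2 (by omega), fun hh => ?_⟩, by omega⟩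
      rw [mem_runSet hp hr] at hh hk
      exact (selfConj_runner hp hα hL hr k hkL).1 (by rwa [hrefl]) hh
    · rintro ⟨j, hj, rfl⟩
      obtain ⟨hj1, hj2⟩ := mem_sdiff.1 hj
      rw [mem_range] at hj1
      rw [mem_runSet hp hr] at hj2 ⊢
      have := (selfConj_runner hp hα hL hr _ (show L - 1 - j < L by omega)).2 (by
        rwa [show L - 1 - (L - 1 - j) = j by omega])
      rwa [hrefl] at this
  have hcc : resCount p α r + resCount p α r = L := by
    have h1 := congrArg card himg
    rw [card_image_of_injOn fun x hx y hy hxy => by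
      have := mem_range.1 (mem_sdiff.1 hx).1
      have := mem_range.1 (mem_sdiff.1 hy).1
      omega, card_sdiff_of_subset hbound, card_range, hc] at h1
    have := card_le_card hbound
    rw [card_range, hc] at this
    omega
  -- two entries with displacement one
  set S := univ.filter fun i => α i % p = r ∧ 0 < beadDisp p α i
  have hS : 2 ≤ S.card := by
    have h1 : runWeight p α r ≤ S.card := by
      rw [← sum_runDisps, runDisps, ← Multiset.map_id' (Multiset.map _ _), Finset.card_def]
      refine (Multiset.sum_le_card_nsmul _ 1 fun x hx => ?_).trans (by simp [S])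
      rw [Multiset.map_id', Multiset.mem_map] at hx
      obtain ⟨i, hi, rfl⟩ := hx
      exact Nat.le_of_lt_succ (hno i (mem_filter.1 (Finset.mem_def.2 hi)).2.1)
    omega
  set c := resCount p α r
  have hc2 : 2 ≤ c := hS.trans (card_le_card fun i hi => mem_filter.2
    ⟨mem_univ _, (mem_filter.1 hi).2.1⟩)
  have htop : ∀ e, e < 2 → c - e ∈ runSet p α r := by
    intro e he
    obtain ⟨i, hi, hrank⟩ := exists_rank_eq hinj (r := r) (k := c - 1 - e)
      (show c - 1 - e < resCount p α r by omega)
    have hd : 0 < beadDisp p α i := by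
      by_contra hd0
      have hsub : S ⊆ univ.filter fun j => α j % p = r ∧ α i < α j := by
        intro j hj
        obtain ⟨hj1, hj2⟩ := (mem_filter.1 hj).2
        refine mem_filter.2 ⟨mem_univ _, hj1, ?_⟩
        by_contra hle
        have := beadDisp_mono hinj (hj1.trans hi.symm) (not_lt.1 hle)
        omega
      have hcount : (univ.filter fun j => α j % p = r ∧ α i < α j).card + (beadRank p α i + 1) ≤ c := by
        have hdis : Disjoint (univ.filter fun j => α j % p = r ∧ α i < α j)
            (insert i (univ.filter fun j => α j % p = α i % p ∧ α j < α i)) := by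
          refine disjoint_left.2 fun j hj hj' => ?_
          obtain ⟨-, hj2⟩ := (mem_filter.1 hj).2
          rcases mem_insert.1 hj' with rfl | hj'
          · omega
          · have := (mem_filter.1 hj').2.2
            omega
        have := card_le_card (show (univ.filter fun j => α j % p = r ∧ α i < α j) ∪
            (insert i (univ.filter fun j => α j % p = α i % p ∧ α j < α i)) ⊆
              univ.filter fun j => α j % p = r from fun j hj => by
          rcases mem_union.1 hj with hj | hj
          · exact mem_filter.2 ⟨mem_univ _, (mem_filter.1 hj).2.1⟩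
          · rcases mem_insert.1 hj with rfl | hj
            · exact mem_filter.2 ⟨mem_univ _, hi⟩
            · exact mem_filter.2 ⟨mem_univ _, (mem_filter.1 hj).2.1.trans hi⟩)
        rw [card_union_of_disjoint hdis, card_insert_of_notMem (by simp)] at this
        exact this
      have := card_le_card hsub
      omega
    have hd1 : beadDisp p α i = 1 := by have := hno i hi; omega
    refine (mem_runSet hp hr).2 ⟨i, ?_⟩
    rw [← coreBead_add_disp (p := p) hinj i, coreBead, hi, hrank, hd1, show c - e = c - 1 - e + 1 by omega,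
      Nat.mul_add]
    ring
  have h0 := htop 0 two_pos
  have h1 := htop 1 one_lt_two
  rw [mem_runSet hp hr, Nat.sub_zero] at h0
  rw [mem_runSet hp hr] at h1
  have := (selfConj_runner hp hα hL hr c (by omega)).1 (by rwa [hrefl])
  rw [show L - 1 - c = c - 1 by omega] at this
  exact this h1

theorem leading_zeros_unique [NeZero p] : ∀ (d d' : ℕ) (u u' : List (Fin p)),
    (∀ x, u.head? = some x → x ≠ 0) → (∀ x, u'.head? = some x → x ≠ 0) →
    List.replicate d 0 ++ u = List.replicate d' 0 ++ u' → d = d' ∧ u = u' := by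
  intro d
  induction d with
  | zero =>
    intro d' u u' hu hu' h
    rcases d' with _ | d'
    · exact ⟨rfl, by simpa using h⟩
    · exfalso
      exact hu 0 (by simp at h; simp [h, List.replicate_succ]) rfl
  | succ d ihd =>
    intro d' u u' hu hu' h
    rcases d' with _ | d'
    · exfalso
      exact hu' 0 (by simp at h; simp [← h, List.replicate_succ]) rfl
    · simp only [List.replicate_succ, List.cons_append, List.cons.injEq, true_and] at h
      obtain ⟨rfl, h2⟩ := ihd d' u u' hu hu' h
      exact ⟨rfl, h2⟩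

/-- For odd `p` there are fewer than `p ^ (w - 1)` self-conjugate configurations of weight `w`. -/
theorem card_selfSet_lt (hp : 0 < p) {n w L : ℕ} {m : ℕ} (hm : 2 * m + 1 = p) (hm1 : 1 ≤ m)
    (hw : 2 ≤ w) (hL : 2 * N = p * L)
    (c : ℕ → ℕ) (hwt : ∀ α ∈ selfSet N p n c, coreWeight p α = w) :
    (selfSet N p n c).card < p ^ (w - 1) := by
  classical
  have : NeZero p := ⟨by omega⟩
  let P : (Fin N → ℕ) → Multiset (Fin p × ℕ) := fun α =>
    (univ.filter fun i => α i % p < m ∧ 0 < beadDisp p α i).val.map
      fun i => (⟨(α i % p + 1) % p, Nat.mod_lt _ hp⟩, beadDisp p α i)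
  let Mid : Fin p := ⟨m + 1, by omega⟩
  let Q : (Fin N → ℕ) → Multiset ℕ := fun α => runDisps p α m
  let rawL : (Fin N → ℕ) → List (Fin p × ℕ) := fun α =>
    if P α = 0 then
      if h : ∃ d ∈ Q α, 2 ≤ d then
        (Mid, h.choose - 1) :: (((Q α).erase h.choose).toList.map fun d => (Mid, d))
      else []
    else (P α).toList ++ (Q α).toList.map fun d => (Mid, d)
  have hPmem : ∀ α, ∀ x ∈ P α, x.1.val ≤ m ∧ x.1.val ≠ 0 ∧ 0 < x.2 := by
    intro α x hx
    obtain ⟨i, hi, rfl⟩ := Multiset.mem_map.1 hx
    obtain ⟨hi1, hi2⟩ := (mem_filter.1 (Finset.mem_def.2 hi)).2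
    show (α i % p + 1) % p ≤ m ∧ (α i % p + 1) % p ≠ 0 ∧ _
    have e : (α i % p + 1) % p = α i % p + 1 := Nat.mod_eq_of_lt (by omega)
    exact ⟨by omega, by omega, hi2⟩
  have hQmem : ∀ α, ∀ d ∈ Q α, 0 < d := by
    intro α d hd
    obtain ⟨i, hi, rfl⟩ := Multiset.mem_map.1 hd
    exact (mem_filter.1 (Finset.mem_def.2 hi)).2.2
  -- the weights
  have hweight : ∀ α ∈ selfSet N p n c,
      2 * ((P α).map Prod.snd).sum + (Q α).sum = w := by
    intro α hα
    have hs := (mem_selfSet.1 hα).2.2
    have hP : ((P α).map Prod.snd).sum = ∑ r ∈ range m, runWeight p α r := by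
      simp only [P, Multiset.map_map]
      have e : ((univ.filter fun i => α i % p < m ∧ 0 < beadDisp p α i).val.map
          (beadDisp p α)).sum = ∑ i ∈ univ.filter (fun i => α i % p < m), beadDisp p α i := by
        rw [← filter_filter]
        exact sum_filter_of_ne (f := fun i => beadDisp p α i) (fun i _ h => Nat.pos_of_ne_zero h)
      refine e.trans ?_
      rw [← sum_fiberwise_of_maps_to (g := fun i => α i % p) (t := range m)
        (fun i hi => mem_range.2 (mem_filter.1 hi).2)]
      refine sum_congr rfl fun r hr => ?_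
      rw [runWeight, filter_filter]
      refine sum_congr (filter_congr fun i _ => ⟨fun h => h.2, fun h => ⟨?_, h⟩⟩) fun _ _ => rfl
      rw [h]; exact mem_range.1 hr
    have hQ : (Q α).sum = runWeight p α m := sum_runDisps α m
    have hrange : range p = range m ∪ insert m ((range m).image fun r => p - 1 - r) := by
      ext r
      simp only [mem_union, mem_insert, mem_range, mem_image]
      constructor
      · intro hr
        rcases lt_trichotomy r m with h | h | h
        · exact Or.inl h
        · exact Or.inr (Or.inl h)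
        · exact Or.inr (Or.inr ⟨p - 1 - r, by omega, by omega⟩)
      · rintro (h | h | ⟨s, hs, rfl⟩) <;> omega
    have hd : Disjoint (range m) (insert m ((range m).image fun r => p - 1 - r)) := by
      refine disjoint_left.2 fun r hr hr' => ?_
      rw [mem_range] at hr
      rcases mem_insert.1 hr' with rfl | h
      · omega
      · obtain ⟨s, hs, rfl⟩ := mem_image.1 h
        rw [mem_range] at hs
        omega
    have hnot : m ∉ (range m).image fun r => p - 1 - r := by
      intro h
      obtain ⟨s, hs, he⟩ := mem_image.1 h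
      rw [mem_range] at hs
      omega
    rw [← hwt α hα, coreWeight_eq_sum_runWeight hp, hrange, sum_union hd, sum_insert hnot,
      sum_image fun x hx y hy hxy => ?_,
      sum_congr rfl (f := fun r => runWeight p α (p - 1 - r)) (g := fun r => runWeight p α r)
        fun r hr => runWeight_reflect hp hs hL (by have := mem_range.1 hr; omega), hP, hQ]
    · ring
    · have := mem_range.1 hx
      have := mem_range.1 hy
      omega
  -- properties of the list
  have hraw : ∀ α ∈ selfSet N p n c, (∀ x ∈ rawL α, x.1 ≠ 0 ∧ 0 < x.2) ∧ rawL α ≠ [] ∧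
      ((rawL α).map Prod.snd).sum ≤ w - 1 ∧
      (P α = 0 → ∃ d ∈ Q α, 2 ≤ d ∧ rawL α =
        (Mid, d - 1) :: (((Q α).erase d).toList.map fun d => (Mid, d))) ∧
      (P α ≠ 0 → rawL α = (P α).toList ++ (Q α).toList.map fun d => (Mid, d)) := by
    intro α hα
    have hs := (mem_selfSet.1 hα).2.2
    have hw' := hweight α hα
    have hMid0 : Mid ≠ 0 := fun h => by simpa [Mid] using congrArg Fin.val h
    by_cases hP0 : P α = 0
    · have hex : ∃ d ∈ Q α, 2 ≤ d := by
        rw [hP0, Multiset.map_zero, Multiset.sum_zero, mul_zero, zero_add, sum_runDisps] at hw'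
        obtain ⟨i, hi, hd⟩ := exists_two_le_middle hp hs hL hm (hw'.symm ▸ hw)
        exact ⟨_, Multiset.mem_map.2 ⟨i, Finset.mem_def.1 (mem_filter.2
          ⟨mem_univ _, hi, by omega⟩), rfl⟩, hd⟩
      have hl : rawL α = (Mid, hex.choose - 1) ::
          (((Q α).erase hex.choose).toList.map fun d => (Mid, d)) := by
        simp only [rawL, if_pos hP0, dif_pos hex]
      obtain ⟨hdQ, hd2⟩ := hex.choose_spec
      refine ⟨fun x hx => ?_, by rw [hl]; exact List.cons_ne_nil _ _, ?_,
        fun _ => ⟨_, hdQ, hd2, hl⟩, fun h => absurd hP0 h⟩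
      · rw [hl, List.mem_cons, List.mem_map] at hx
        rcases hx with rfl | ⟨d, hd, rfl⟩
        · exact ⟨hMid0, by omega⟩
        · exact ⟨hMid0, hQmem α d (Multiset.mem_of_mem_erase (Multiset.mem_toList.1 hd))⟩
      · rw [hl, List.map_cons, List.sum_cons, List.map_map]
        have e : (((Q α).erase hex.choose).toList.map (Prod.snd ∘ fun d => (Mid, d))).sum =
            ((Q α).erase hex.choose).sum := by
          rw [show (Prod.snd ∘ fun d : ℕ => (Mid, d)) = id from rfl, List.map_id,
            Multiset.sum_toList]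
        rw [hP0, Multiset.map_zero, Multiset.sum_zero, mul_zero, zero_add,
          ← Multiset.cons_erase hdQ, Multiset.sum_cons] at hw'
        rw [e]
        omega
    · have hl : rawL α = (P α).toList ++ (Q α).toList.map fun d => (Mid, d) := by
        simp only [rawL, if_neg hP0]
      refine ⟨fun x hx => ?_, ?_, ?_, fun h => absurd h hP0, fun _ => hl⟩
      · rw [hl, List.mem_append, List.mem_map, Multiset.mem_toList] at hx
        rcases hx with hx | ⟨d, hd, rfl⟩
        · obtain ⟨-, h2, h3⟩ := hPmem α x hx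
          exact ⟨fun h => h2 (by rw [h]; rfl), h3⟩
        · exact ⟨hMid0, hQmem α d (Multiset.mem_toList.1 hd)⟩
      · rw [hl]
        simpa [Multiset.toList_eq_nil] using fun h => absurd h hP0
      · rw [hl, List.map_append, List.sum_append, List.map_map,
          show (Prod.snd ∘ fun d : ℕ => (Mid, d)) = id from rfl, List.map_id, Multiset.sum_toList,
          ← Multiset.sum_coe, ← Multiset.map_coe, Multiset.coe_toList]
        obtain ⟨x, hx⟩ := Multiset.exists_mem_of_ne_zero hP0
        have := Multiset.single_le_sum (fun _ _ => Nat.zero_le _) _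
          (Multiset.mem_map_of_mem Prod.snd hx)
        have := (hPmem α x hx).2.2
        omega
  let word : (Fin N → ℕ) → List (Fin p) := fun α =>
    List.replicate (w - 1 - (colourWord (rawL α)).length) 0 ++ colourWord (rawL α)
  let F : (Fin N → ℕ) → Fin (w - 1) → Fin p := fun α i => (word α).getD i.1 0
  have hlen : ∀ α ∈ selfSet N p n c, (word α).length = w - 1 := by
    intro α hα
    obtain ⟨h0, -, hle, -⟩ := hraw α hα
    rw [← colourWord_length _ h0] at hle
    simp only [word, List.length_append, List.length_replicate]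
    omega
  have hhead : ∀ α ∈ selfSet N p n c, ∃ x l, rawL α = x :: l ∧
      ∃ u, colourWord (rawL α) = x.1 :: u := by
    intro α hα
    obtain ⟨-, hne, -⟩ := hraw α hα
    rcases hl : rawL α with _ | ⟨x, l⟩
    · exact absurd hl hne
    · exact ⟨x, l, rfl, _, by simp [colourWord]; rfl⟩
  have hne : ∀ α ∈ selfSet N p n c, F α ≠ 0 := by
    intro α hα h
    obtain ⟨h0, -⟩ := hraw α hα
    obtain ⟨x, l, hl, u, hu⟩ := hhead α hα
    have hmem : x.1 ∈ word α := by simp [word, hu]
    obtain ⟨i, hi, hv⟩ := List.mem_iff_getElem.1 hmem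
    have := congrFun h ⟨i, (hlen α hα) ▸ hi⟩
    simp only [F, List.getD_eq_getElem?_getD, List.getElem?_eq_getElem hi, Option.getD_some,
      Pi.zero_apply] at this
    exact (h0 x (by rw [hl]; simp)).1 (hv.symm.trans this)
  have hinj : Set.InjOn F (selfSet N p n c : Set (Fin N → ℕ)) := by
    intro α hα β hβ h
    have hword : word α = word β :=
      List.ext_getElem ((hlen α hα).trans (hlen β hβ).symm) fun i h1 h2 => by
        have := congrFun h ⟨i, (hlen α hα) ▸ h1⟩
        simpa [F, List.getD_eq_getElem?_getD, h1, h2] using this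
    obtain ⟨hα0, -, -, hαP, hαP'⟩ := hraw α hα
    obtain ⟨hβ0, -, -, hβP, hβP'⟩ := hraw β hβ
    have hheadne : ∀ γ, γ ∈ selfSet N p n c → ∀ z, (colourWord (rawL γ)).head? = some z → z ≠ 0 := by
      intro γ hγ z hz
      obtain ⟨x, l, hl, u, hu⟩ := hhead γ hγ
      rw [hu, List.head?_cons, Option.some.injEq] at hz
      exact hz ▸ ((hraw γ hγ).1 x (by rw [hl]; simp)).1
    obtain ⟨-, hcw⟩ := leading_zeros_unique _ _ _ _ (hheadne α hα) (hheadne β hβ) hword
    have hL' := colourWord_injective _ _ hα0 hβ0 hcw
    have hPQ : P α = P β ∧ Q α = Q β := by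
      by_cases hPa : P α = 0 <;> by_cases hPb : P β = 0
      · obtain ⟨d, hd, hd2, hla⟩ := hαP hPa
        obtain ⟨e, he, he2, hlb⟩ := hβP hPb
        rw [hla, hlb] at hL'
        simp only [List.cons.injEq, Prod.mk.injEq, true_and] at hL'
        have hde : d = e := by omega
        subst hde
        refine ⟨hPa.trans hPb.symm, ?_⟩
        have h2 : ((Q α).erase d).toList = ((Q β).erase d).toList :=
          List.map_injective_iff.2 (fun x y hxy => (Prod.mk.injEq .. ▸ hxy).2) hL'.2
        rw [← Multiset.cons_erase hd, ← Multiset.cons_erase he,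
          ← Multiset.coe_toList ((Q α).erase d), h2, Multiset.coe_toList]
      · exfalso
        obtain ⟨d, -, -, hla⟩ := hαP hPa
        rw [hla, hβP' hPb] at hL'
        rcases hl : (P β).toList with _ | ⟨x, l⟩
        · exact hPb (Multiset.toList_eq_nil.1 hl)
        · rw [hl, List.cons_append, List.cons.injEq] at hL'
          have hx : x ∈ P β := Multiset.mem_toList.1 (hl ▸ List.mem_cons_self)
          have := (hPmem β x hx).1
          rw [← hL'.1] at this
          simp [Mid] at this
      · exfalso
        obtain ⟨d, -, -, hlb⟩ := hβP hPb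
        rw [hlb, hαP' hPa] at hL'
        rcases hl : (P α).toList with _ | ⟨x, l⟩
        · exact hPa (Multiset.toList_eq_nil.1 hl)
        · rw [hl, List.cons_append, List.cons.injEq] at hL'
          have hx : x ∈ P α := Multiset.mem_toList.1 (hl ▸ List.mem_cons_self)
          have := (hPmem α x hx).1
          rw [hL'.1] at this
          simp [Mid] at this
      · rw [hαP' hPa, hβP' hPb] at hL'
        have h2 := congrArg (fun l : List (Fin p × ℕ) => (l : Multiset (Fin p × ℕ))) hL'
        simp only [← Multiset.coe_add, Multiset.coe_toList, ← Multiset.map_coe] at h2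
        have hf : ∀ γ, ((P γ) + (Q γ).map fun d => (Mid, d)).filter (fun x => x.1.val ≤ m) = P γ := by
          intro γ
          rw [Multiset.filter_add, Multiset.filter_eq_self.2 fun x hx => (hPmem γ x hx).1,
            Multiset.filter_eq_nil.2, add_zero]
          intro x hx
          obtain ⟨d, -, rfl⟩ := Multiset.mem_map.1 hx
          simp [Mid]
        have hPeq : P α = P β := by rw [← hf α, ← hf β, h2]
        refine ⟨hPeq, ?_⟩
        rw [hPeq] at h2
        exact Multiset.map_injective (fun x y hxy => (Prod.mk.injEq .. ▸ hxy).2)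
          (add_left_cancel h2)
    refine selfSet_ext hp hL hα hβ fun r hr t ht => ?_
    rcases Nat.lt_or_ge r m with hrm | hrm
    · have key : ∀ γ : Fin N → ℕ, (univ.filter fun i => γ i % p = r ∧ t ≤ beadDisp p γ i).card =
          (P γ).countP (fun x => x.1.1 = r + 1 ∧ t ≤ x.2) := fun γ => by
        rw [Multiset.countP_map, ← Finset.filter_val, ← Finset.card_def, filter_filter]
        refine congrArg card (filter_congr fun i _ => ⟨fun hh => ?_, fun hh => ?_⟩)
        · refine ⟨⟨by omega, by omega⟩, ?_, hh.2⟩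
          show (γ i % p + 1) % p = r + 1
          rw [hh.1, Nat.mod_eq_of_lt (by omega)]
        · obtain ⟨⟨h1, -⟩, h2, h3⟩ := hh
          change (γ i % p + 1) % p = r + 1 at h2
          rw [Nat.mod_eq_of_lt (by omega)] at h2
          exact ⟨by omega, h3⟩
      rw [key α, key β, hPQ.1]
    · have : r = m := by omega
      subst this
      rw [← countP_runDisps α r ht, ← countP_runDisps β r ht]
      exact congrArg _ hPQ.2
  calc (selfSet N p n c).card ≤ ((univ : Finset (Fin (w - 1) → Fin p)).erase 0).card :=
        card_le_card_of_injOn F (fun α hα => mem_erase.2 ⟨hne α hα, mem_univ _⟩) hinj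
    _ < p ^ (w - 1) := by
        rw [card_erase_of_mem (mem_univ _), card_univ, Fintype.card_fun, Fintype.card_fin,
          Fintype.card_fin]
        exact Nat.sub_lt (Nat.pow_pos hp) one_pos

/-! ### The prime two -/

/-- The partition given by a multiset of positive parts. -/
def mkPartition {v : ℕ} (s : Multiset ℕ) (hpos : ∀ x ∈ s, 0 < x) (hs : s.sum = v) :
    Nat.Partition v := ⟨s, fun hx => hpos _ hx, hs⟩

theorem natCard_partition_succ_le {w : ℕ} (hw : 2 ≤ w) :
    Nat.card (Nat.Partition (w + 1)) + 1 ≤ 2 * Nat.card (Nat.Partition w) := by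
  classical
  rw [Nat.card_eq_fintype_card, Nat.card_eq_fintype_card]
  -- partitions of `w + 1` with a part `1`, and those without
  have h1 : (univ.filter fun P : Nat.Partition (w + 1) => 1 ∈ P.parts).card ≤
      Fintype.card (Nat.Partition w) := by
    rw [← card_univ]
    refine card_le_card_of_injOn (fun P => if h : 1 ∈ P.parts then mkPartition (P.parts.erase 1)
      (fun x hx => P.parts_pos (Multiset.mem_of_mem_erase hx)) (by
        have := congrArg Multiset.sum (Multiset.cons_erase h)
        rw [Multiset.sum_cons, P.parts_sum] at this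
        omega) else Classical.arbitrary _) (fun _ _ => mem_univ _) ?_
    intro P hP Q hQ h
    have hP' : 1 ∈ P.parts := (mem_filter.1 hP).2
    have hQ' : 1 ∈ Q.parts := (mem_filter.1 hQ).2
    simp only [dif_pos hP', dif_pos hQ'] at h
    have h2 : P.parts.erase 1 = Q.parts.erase 1 := congrArg Nat.Partition.parts h
    exact Nat.Partition.ext (by rw [← Multiset.cons_erase hP', h2, Multiset.cons_erase hQ'])
  have hex : ∀ P : Nat.Partition (w + 1), 1 ∉ P.parts →
      ∃ d ∈ P.parts, 2 ≤ d ∧ ∀ x ∈ P.parts, d ≤ x := by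
    intro P hP
    have hne : P.parts.toFinset.Nonempty := by
      rw [Multiset.toFinset_nonempty]
      intro h
      have := P.parts_sum
      rw [h, Multiset.sum_zero] at this
      omega
    have hmin := Multiset.mem_toFinset.1 (P.parts.toFinset.min'_mem hne)
    refine ⟨_, hmin, ?_, fun x hx => P.parts.toFinset.min'_le x (Multiset.mem_toFinset.2 hx)⟩
    have := P.parts_pos hmin
    have : P.parts.toFinset.min' hne ≠ 1 := fun h => hP (by rwa [h] at hmin)
    omega
  choose d hd hd2 hdmin using hex
  let T : Finset (Nat.Partition w) :=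
    univ.erase (mkPartition (Multiset.replicate w 1)
      (fun x hx => by rw [Multiset.eq_of_mem_replicate hx]; exact one_pos) (by simp))
  have h2 : (univ.filter fun P : Nat.Partition (w + 1) => ¬ 1 ∈ P.parts).card ≤ T.card := by
    refine card_le_card_of_injOn (fun P => if h : 1 ∈ P.parts then Classical.arbitrary _ else
      mkPartition ((d P h - 1) ::ₘ P.parts.erase (d P h)) (fun x hx => by
        rcases Multiset.mem_cons.1 hx with rfl | hx
        · have := hd2 P h; omega
        · exact P.parts_pos (Multiset.mem_of_mem_erase hx)) (by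
        have := congrArg Multiset.sum (Multiset.cons_erase (hd P h))
        rw [Multiset.sum_cons, P.parts_sum] at this
        have := hd2 P h
        rw [Multiset.sum_cons]
        omega)) (fun P hP => ?_) ?_
    · have hP' : ¬ 1 ∈ P.parts := (mem_filter.1 hP).2
      simp only [dif_neg hP']
      refine mem_erase.2 ⟨fun h => ?_, mem_univ _⟩
      have h3 : (d P hP' - 1) ::ₘ P.parts.erase (d P hP') = Multiset.replicate w 1 :=
        congrArg Nat.Partition.parts h
      have hall : ∀ x ∈ (d P hP' - 1) ::ₘ P.parts.erase (d P hP'), x = 1 := fun x hx => by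
        rw [h3] at hx; exact Multiset.eq_of_mem_replicate hx
      have hd1 := hall _ (Multiset.mem_cons_self _ _)
      have he : P.parts.erase (d P hP') = 0 := by
        rw [Multiset.eq_zero_iff_forall_notMem]
        intro x hx
        have hx1 := hall x (Multiset.mem_cons_of_mem hx)
        subst hx1
        exact hP' (Multiset.mem_of_mem_erase hx)
      have := congrArg Multiset.sum (Multiset.cons_erase (hd P hP'))
      rw [he, P.parts_sum] at this
      simp at this
      omega
    · intro P hP Q hQ h
      have hP' : ¬ 1 ∈ P.parts := (mem_filter.1 hP).2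
      have hQ' : ¬ 1 ∈ Q.parts := (mem_filter.1 hQ).2
      simp only [dif_neg hP', dif_neg hQ'] at h
      have h3 : (d P hP' - 1) ::ₘ P.parts.erase (d P hP') =
          (d Q hQ' - 1) ::ₘ Q.parts.erase (d Q hQ') := congrArg Nat.Partition.parts h
      have hle : ∀ (R S : Nat.Partition (w + 1)) (hR : ¬ 1 ∈ R.parts) (hS : ¬ 1 ∈ S.parts),
          (d R hR - 1) ::ₘ R.parts.erase (d R hR) = (d S hS - 1) ::ₘ S.parts.erase (d S hS) →
          d R hR ≤ d S hS := by
        intro R S hR hS hh
        have hm : d S hS - 1 ∈ (d R hR - 1) ::ₘ R.parts.erase (d R hR) := by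
          rw [hh]; exact Multiset.mem_cons_self _ _
        have := hd2 S hS
        rcases Multiset.mem_cons.1 hm with h | h
        · have := hd2 R hR; omega
        · have := hdmin R hR _ (Multiset.mem_of_mem_erase h); omega
      have hde : d P hP' = d Q hQ' :=
        le_antisymm (hle P Q hP' hQ' h3) (hle Q P hQ' hP' h3.symm)
      rw [hde, Multiset.cons_inj_right] at h3
      exact Nat.Partition.ext (by
        rw [← Multiset.cons_erase (hd P hP'), ← Multiset.cons_erase (hd Q hQ'), hde, h3])
  rw [card_erase_of_mem (mem_univ _), card_univ] at h2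
  have := card_filter_add_card_filter_not (s := (univ : Finset (Nat.Partition (w + 1))))
    (fun P => 1 ∈ P.parts)
  rw [card_univ] at this
  have : 0 < Fintype.card (Nat.Partition w) := Fintype.card_pos
  omega

theorem natCard_partition_two : Nat.card (Nat.Partition 2) ≤ 2 := by
  classical
  rw [Nat.card_eq_fintype_card, ← card_univ]
  refine (card_le_card_of_injOn (fun P : Nat.Partition 2 => decide (2 ∈ P.parts))
    (t := (univ : Finset Bool)) (fun _ _ => mem_univ _) ?_).trans (by simp)
  have hone : ∀ P : Nat.Partition 2, (2 ∈ P.parts → P.parts = {2}) ∧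
      (2 ∉ P.parts → P.parts = Multiset.replicate 2 1) := by
    intro P
    refine ⟨fun h => ?_, fun h => ?_⟩
    · have hs := congrArg Multiset.sum (Multiset.cons_erase h)
      rw [Multiset.sum_cons, P.parts_sum] at hs
      have he : P.parts.erase 2 = 0 := by
        rw [Multiset.eq_zero_iff_forall_notMem]
        intro x hx
        have := P.parts_pos (Multiset.mem_of_mem_erase hx)
        have := Multiset.single_le_sum (fun _ _ => Nat.zero_le _) _ hx
        omega
      rw [← Multiset.cons_erase h, he]
      rfl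
    · have hall : ∀ x ∈ P.parts, x = 1 := fun x hx => by
        have := P.parts_pos hx
        have h2 := Multiset.single_le_sum (fun _ _ => Nat.zero_le _) _ hx
        rw [P.parts_sum] at h2
        have : x ≠ 2 := fun e => h (e ▸ hx)
        omega
      have he := Multiset.eq_replicate_card.2 hall
      have hs := P.parts_sum
      rw [he, Multiset.sum_replicate, smul_eq_mul, mul_one] at hs
      rw [he, hs]
  intro P _ Q _ h
  simp only [decide_eq_decide] at h
  refine Nat.Partition.ext ?_
  by_cases h2 : 2 ∈ P.parts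
  · rw [(hone P).1 h2, (hone Q).1 (h.1 h2)]
  · rw [(hone P).2 h2, (hone Q).2 fun hh => h2 (h.2 hh)]

theorem natCard_partition_le (v : ℕ) : Nat.card (Nat.Partition (v + 2)) ≤ 2 ^ v + 1 := by
  induction v with
  | zero => exact natCard_partition_two
  | succ v ih =>
    have := natCard_partition_succ_le (w := v + 2) (by omega)
    rw [pow_succ]
    show Nat.card (Nat.Partition (v + 2 + 1)) ≤ _
    omega

theorem natCard_partition_le_pow (v : ℕ) : Nat.card (Nat.Partition v) ≤ 2 ^ (v - 1) := by
  rcases v with _ | _ | v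
  · simp
  · simp
  · refine (natCard_partition_le v).trans ?_
    have := Nat.one_le_two_pow (n := v)
    rw [show v + 2 - 1 = v + 1 by omega, pow_succ]
    omega

theorem card_selfSet_two {n L w : ℕ} (hL : 2 * N = 2 * L) (c : ℕ → ℕ)
    (hwt : ∀ α ∈ selfSet N 2 n c, coreWeight 2 α = w) :
    (selfSet N 2 n c).card ≤ Nat.card (Nat.Partition (w / 2)) ∧
      (¬ Even w → (selfSet N 2 n c).card = 0) := by
  classical
  have key : ∀ α ∈ selfSet N 2 n c, runWeight 2 α 0 + runWeight 2 α 0 = w := by
    intro α hα
    rw [← hwt α hα, coreWeight_eq_sum_runWeight two_pos]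
    rw [show range 2 = {0, 1} from rfl, sum_pair (by norm_num)]
    exact congrArg _ (runWeight_reflect two_pos (mem_selfSet.1 hα).2.2 hL two_pos).symm
  refine ⟨?_, fun hodd => card_eq_zero.2 (eq_empty_of_forall_notMem fun α hα =>
    hodd ⟨_, (key α hα).symm⟩)⟩
  rw [Nat.card_eq_fintype_card, ← card_univ]
  refine card_le_card_of_injOn (fun α => if h : α ∈ selfSet N 2 n c then
    mkPartition (runDisps 2 α 0) (fun x hx => by
      obtain ⟨i, hi, rfl⟩ := Multiset.mem_map.1 hx
      exact (mem_filter.1 (Finset.mem_def.2 hi)).2.2) (by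
      rw [sum_runDisps]
      have := key α h
      omega) else Classical.arbitrary _) (fun _ _ => mem_univ _) ?_
  intro α hα β hβ h
  rw [Finset.mem_coe] at hα hβ
  simp only [dif_pos hα, dif_pos hβ] at h
  have h2 : runDisps 2 α 0 = runDisps 2 β 0 := congrArg Nat.Partition.parts h
  refine selfSet_ext two_pos hL hα hβ fun r hr t ht => ?_
  obtain rfl : r = 0 := by omega
  rw [← countP_runDisps α 0 ht, ← countP_runDisps β 0 ht, h2]

theorem card_goodSet_two {n w : ℕ} (c : ℕ → ℕ)
    (hwt : ∀ α ∈ goodSet N 2 n c, coreWeight 2 α = w) :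
    (goodSet N 2 n c).card ≤ Nat.card (Nat.Partition w) := by
  classical
  have key : ∀ α ∈ goodSet N 2 n c, runWeight 2 α 1 = w ∧
      ∀ t, 0 < t → (univ.filter fun i => α i % 2 = 0 ∧ t ≤ beadDisp 2 α i).card = 0 := by
    intro α hα
    obtain ⟨-, -, h0⟩ := mem_goodSet.1 hα
    refine ⟨?_, fun t ht => card_eq_zero.2 (eq_empty_of_forall_notMem fun i hi => ?_)⟩
    · rw [← hwt α hα, coreWeight_eq_sum_runWeight two_pos]
      rw [show range 2 = {0, 1} from rfl, sum_pair (by norm_num),
        show runWeight 2 α 0 = 0 from sum_eq_zero fun i hi => h0 i (mem_filter.1 hi).2, zero_add]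
    · obtain ⟨h1, h2⟩ := (mem_filter.1 hi).2
      have := h0 i h1
      omega
  rw [Nat.card_eq_fintype_card, ← card_univ]
  refine card_le_card_of_injOn (fun α => if h : α ∈ goodSet N 2 n c then
    mkPartition (runDisps 2 α 1) (fun x hx => by
      obtain ⟨i, hi, rfl⟩ := Multiset.mem_map.1 hx
      exact (mem_filter.1 (Finset.mem_def.2 hi)).2.2) (by
      rw [sum_runDisps]
      exact (key α h).1) else Classical.arbitrary _) (fun _ _ => mem_univ _) ?_
  intro α hα β hβ h
  rw [Finset.mem_coe] at hα hβ
  simp only [dif_pos hα, dif_pos hβ] at h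
  have h2 : runDisps 2 α 1 = runDisps 2 β 1 := congrArg Nat.Partition.parts h
  obtain ⟨hαm, hαc, -⟩ := mem_goodSet.1 hα
  obtain ⟨hβm, hβc, -⟩ := mem_goodSet.1 hβ
  obtain ⟨-, hαs⟩ := mem_monos.1 hαm
  obtain ⟨-, hβs⟩ := mem_monos.1 hβm
  have hcnt : ∀ r t, r < 2 → 0 < t →
      (univ.filter fun i => α i % 2 = r ∧ t ≤ beadDisp 2 α i).card =
        (univ.filter fun i => β i % 2 = r ∧ t ≤ beadDisp 2 β i).card := by
    intro r t hr ht
    rcases r with _ | _ | r
    · rw [(key α hα).2 t ht, (key β hβ).2 t ht]
    · rw [← countP_runDisps α 1 ht, ← countP_runDisps β 1 ht, h2]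
    · omega
  refine (hαs.range_inj hβs).1 (Set.Subset.antisymm ?_ ?_)
  · rintro _ ⟨i, rfl⟩
    exact range_subset_of_counts hαs.injective hβs.injective (hαc.trans hβc.symm) i
      fun t ht => hcnt _ t (Nat.mod_lt _ two_pos) ht
  · rintro _ ⟨i, rfl⟩
    exact range_subset_of_counts hβs.injective hαs.injective (hβc.trans hαc.symm) i
      fun t ht => (hcnt _ t (Nat.mod_lt _ two_pos) ht).symm

end CfsgLib.BlockA.SymBlock
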