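import Cfsg.Agent.Lib.BlockA.SymDefect
import Cfsg.Agent.Lib.BlockA.SymSelfConj
import Mathlib.LinearAlgebra.Vandermonde
import Mathlib.RingTheory.Polynomial.Pochhammer
import Mathlib.GroupTheory.Perm.DomMulAct
import Mathlib.NumberTheory.Padics.PadicVal.Basic

/-!
# Degrees of the irreducible characters of symmetric groups and their `p`-parts

`gapVal p X` is the `p`-adic valuation of the product of the hook lengths of the configuration `X`.
-/

set_option autoImplicit false
set_option linter.unusedSectionVars false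

namespace CfsgLib.BlockA.SymBlock

open Finset

variable {N : ℕ} {ι : Type} [Fintype ι] [DecidableEq ι] {p : ℕ}

/-- The number of pairs of an entry and a smaller non-entry. -/
def gapCount (X : Finset ℕ) : ℕ := ∑ a ∈ X, (range a \ X).card

/-- The valuation of the product of the differences of entries and smaller non-entries. -/
def gapVal (p : ℕ) (X : Finset ℕ) : ℕ := ∑ a ∈ X, ∑ x ∈ range a \ X, padicValNat p (a - x)

theorem gapCount_add_stair (X : Finset ℕ) : gapCount X + stair X.card = ∑ a ∈ X, a := by
  induction X using Finset.induction_on_max with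
  | empty => simp [gapCount, stair]
  | insert a X hlt ih =>
    have hna : a ∉ X := fun h => lt_irrefl a (hlt a h)
    have hsub : X ⊆ range a := fun x hx => mem_range.2 (hlt x hx)
    have hle : X.card ≤ a := by simpa using card_le_card hsub
    have h1 : (range a \ insert a X).card = a - X.card := by
      rw [show range a \ insert a X = range a \ X from by
        ext x; simp only [mem_sdiff, mem_range, mem_insert]; constructor
        · rintro ⟨h, h'⟩; exact ⟨h, fun hh => h' (Or.inr hh)⟩
        · rintro ⟨h, h'⟩; exact ⟨h, fun hh => hh.elim (fun e => by omega) h'⟩,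
        card_sdiff_of_subset hsub, card_range]
    have h2 : ∀ b ∈ X, range b \ insert a X = range b \ X := fun b hb => by
      have := hlt b hb
      ext x
      simp only [mem_sdiff, mem_range, mem_insert]
      constructor
      · rintro ⟨h, h'⟩; exact ⟨h, fun hh => h' (Or.inr hh)⟩
      · rintro ⟨h, h'⟩; exact ⟨h, fun hh => hh.elim (fun e => by omega) h'⟩
    have hst : stair (X.card + 1) = stair X.card + X.card := by
      simp [stair, Fin.sum_univ_castSucc]
    rw [gapCount, sum_insert hna, sum_insert hna, card_insert_of_notMem hna, h1, hst,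
      sum_congr rfl fun b hb => by rw [h2 b hb], ← ih, gapCount]
    omega

theorem image_of_strictMono {α : Fin N → ℕ} (hα : StrictMono α) :
    (univ.image α).card = N ∧ ∑ a ∈ univ.image α, a = ∑ i, α i :=
  ⟨by rw [card_image_of_injective _ hα.injective]; simp,
    sum_image fun i _ j _ h => hα.injective h⟩

theorem gapCount_image {α : Fin N → ℕ} (hα : StrictMono α) {n : ℕ}
    (hs : ∑ i, α i = stair N + n) : gapCount (univ.image α) = n := by
  have h := gapCount_add_stair (univ.image α)
  rw [(image_of_strictMono hα).1, (image_of_strictMono hα).2, hs] at h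
  omega

theorem yperm_one_mul (a : Fin N → ℕ) (ha : ∑ i, a i = Fintype.card ι) :
    yperm a (1 : Equiv.Perm ι) * ∏ i, (a i).factorial = (Fintype.card ι).factorial := by
  classical
  rw [← sum_stab a ha, yperm, ← smul_eq_mul, ← sum_const]
  have hfil : (univ.filter fun f : ι → Fin N => f ∘ ⇑(1 : Equiv.Perm ι) = f ∧ cnt f = a) =
      univ.filter fun f : ι → Fin N => cnt f = a := filter_congr fun f _ => by simp
  rw [hfil]
  refine sum_congr rfl fun h hh => ?_
  rw [← Fintype.card_subtype, DomMulAct.stabilizer_card]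
  refine prod_congr rfl fun i _ => congrArg _ ?_
  rw [Fintype.card_subtype, ← congrFun (mem_filter.1 hh).2 i]
  rfl

/-- The degree formula. -/
theorem fchar_one_mul (α : Fin N → ℕ) (hs : ∑ i, α i = stair N + Fintype.card ι) :
    fchar α (1 : Equiv.Perm ι) * ∏ i, ((α i).factorial : ℤ) =
      (Fintype.card ι).factorial * ∏ i : Fin N, ∏ j ∈ Ioi i, ((α j : ℤ) - α i) := by
  classical
  rw [← Matrix.det_vandermonde, Matrix.det_eval_matrixOfPolynomials_eq_det_vandermonde
      (fun i => (α i : ℤ)) (fun j => descPochhammer ℤ (j : ℕ))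
      (fun j => descPochhammer_natDegree ℤ _) (fun j => monic_descPochhammer ℤ _),
    ← Matrix.det_transpose, Matrix.det_apply', mul_sum, fchar, sum_mul]
  refine sum_congr rfl fun κ _ => ?_
  simp only [Matrix.transpose_apply, Matrix.of_apply, descPochhammer_eval_eq_descFactorial]
  split_ifs with h
  · have hy := yperm_one_mul (ι := ι) (fun i => α i - (κ i).val) (sum_sub_eq hs κ h)
    have hf : ∏ i, (α i).factorial =
        (∏ i, (α i - (κ i).val).factorial) * ∏ i, (α i).descFactorial (κ i).val := by
      rw [← prod_mul_distrib]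
      exact prod_congr rfl fun i _ => (Nat.factorial_mul_descFactorial (h i)).symm
    have hy' := congrArg (fun x : ℕ => (x : ℤ)) hy
    have hf' := congrArg (fun x : ℕ => (x : ℤ)) hf
    push_cast at hy' hf'
    rw [hf', ← hy']
    simp only [Int.cast_id]
    ring
  · push Not at h
    obtain ⟨i, hi⟩ := h
    rw [zero_mul, prod_eq_zero (mem_univ i), mul_zero, mul_zero]
    exact_mod_cast Nat.descFactorial_eq_zero_iff_lt.2 hi

theorem padicValNat_prod [Fact p.Prime] {α : Type*} (s : Finset α) (f : α → ℕ)
    (h : ∀ a ∈ s, f a ≠ 0) : padicValNat p (∏ a ∈ s, f a) = ∑ a ∈ s, padicValNat p (f a) := by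
  induction s using Finset.cons_induction with
  | empty => simp
  | cons a s ha ih =>
    rw [prod_cons, sum_cons, padicValNat.mul (h a (mem_cons_self a s))
      (prod_ne_zero_iff.2 fun b hb => h b (mem_cons_of_mem hb)),
      ih fun b hb => h b (mem_cons_of_mem hb)]

theorem factorial_eq_prod_range_sub (a : ℕ) : a.factorial = ∏ x ∈ range a, (a - x) := by
  rw [← prod_range_add_one_eq_factorial, ← prod_range_reflect]
  refine prod_congr rfl fun x hx => ?_
  have := mem_range.1 hx
  omega

/-- The valuation of the degree. -/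
theorem padicValNat_degree_add_gapVal [Fact p.Prime] {α : Fin N → ℕ} (hα : StrictMono α)
    (hs : ∑ i, α i = stair N + Fintype.card ι) :
    padicValNat p (fchar α (1 : Equiv.Perm ι)).natAbs + gapVal p (univ.image α) =
      padicValNat p (Fintype.card ι).factorial := by
  classical
  set X := univ.image α
  have hne := fchar_one_ne_zero (ι := ι) hα.injective (mem_tuples.2 hs)
  have h := congrArg Int.natAbs (fchar_one_mul (ι := ι) α hs)
  have hd : (∏ i : Fin N, ∏ j ∈ Ioi i, ((α j : ℤ) - α i)).natAbs =
      ∏ i : Fin N, ∏ j ∈ Ioi i, (α j - α i) := by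
    have hc : (∏ i : Fin N, ∏ j ∈ Ioi i, ((α j : ℤ) - α i)) =
        ((∏ i : Fin N, ∏ j ∈ Ioi i, (α j - α i) : ℕ) : ℤ) := by
      push_cast
      refine prod_congr rfl fun i _ => prod_congr rfl fun j hj => ?_
      rw [Nat.cast_sub (hα.monotone (mem_Ioi.1 hj).le)]
    rw [hc, Int.natAbs_natCast]
  rw [Int.natAbs_mul, Int.natAbs_mul, hd, ← Nat.cast_prod, Int.natAbs_natCast,
    Int.natAbs_natCast] at h
  have hΔ : ∀ i : Fin N, ∏ j ∈ Ioi i, (α j - α i) ≠ 0 := fun i =>
    prod_ne_zero_iff.2 fun j hj => by have := hα (mem_Ioi.1 hj); omega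
  have hv := congrArg (padicValNat p) h
  rw [padicValNat.mul (by simpa using hne)
      (prod_ne_zero_iff.2 fun i _ => (α i).factorial_ne_zero),
    padicValNat.mul (Fintype.card ι).factorial_ne_zero (prod_ne_zero_iff.2 fun i _ => hΔ i),
    padicValNat_prod _ _ (fun i _ => (α i).factorial_ne_zero),
    padicValNat_prod _ _ (fun i _ => hΔ i)] at hv
  have hsplit : ∀ j : Fin N, padicValNat p (α j).factorial =
      ∑ x ∈ range (α j) \ X, padicValNat p (α j - x) +
        ∑ i ∈ Iio j, padicValNat p (α j - α i) := by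
    intro j
    rw [factorial_eq_prod_range_sub, padicValNat_prod _ _ (fun x hx => by
      have := mem_range.1 hx; omega)]
    have himg : range (α j) \ (range (α j) \ X) = (Iio j).image α := by
      ext x
      simp only [X, mem_sdiff, mem_range, mem_image, mem_Iio, mem_univ, true_and, not_and,
        not_not]
      constructor
      · rintro ⟨h1, h2⟩
        obtain ⟨i, rfl⟩ := h2 h1
        exact ⟨i, hα.lt_iff_lt.1 h1, rfl⟩
      · rintro ⟨i, hi, rfl⟩
        exact ⟨hα hi, fun _ => ⟨i, rfl⟩⟩
    rw [← sum_sdiff (sdiff_subset (s := range (α j)) (t := X)), himg,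
      sum_image fun a _ b _ hab => hα.injective hab, add_comm]
  have hpairs : ∑ j : Fin N, ∑ i ∈ Iio j, padicValNat p (α j - α i) =
      ∑ i : Fin N, padicValNat p (∏ j ∈ Ioi i, (α j - α i)) := by
    rw [sum_comm' (t' := univ) (s' := fun i => Ioi i) (by simp)]
    exact sum_congr rfl fun i _ => (padicValNat_prod _ _ fun j hj => by
      have := hα (mem_Ioi.1 hj); omega).symm
  have hgap : gapVal p X = ∑ j : Fin N, ∑ x ∈ range (α j) \ X, padicValNat p (α j - x) :=
    sum_image fun a _ b _ hab => hα.injective hab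
  rw [sum_congr rfl fun j _ => hsplit j, sum_add_distrib, ← hgap, hpairs] at hv
  omega

theorem strictMono_orderEmb (S : Finset ℕ) :
    StrictMono (S.orderEmbOfFin rfl : Fin S.card → ℕ) ∧
      univ.image (S.orderEmbOfFin rfl : Fin S.card → ℕ) = S :=
  ⟨(S.orderEmbOfFin rfl).strictMono, image_orderEmbOfFin_univ _ _⟩

/-- The hook product divides the factorial. -/
theorem gapVal_le [Fact p.Prime] (S : Finset ℕ) :
    gapVal p S ≤ padicValNat p (gapCount S).factorial := by
  obtain ⟨hm, hi⟩ := strictMono_orderEmb S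
  have hs : ∑ i, (S.orderEmbOfFin rfl : Fin S.card → ℕ) i =
      stair S.card + Fintype.card (Fin (gapCount S)) := by
    rw [Fintype.card_fin, ← (image_of_strictMono hm).2, hi, ← gapCount_add_stair, add_comm]
  have h := padicValNat_degree_add_gapVal (p := p) (ι := Fin (gapCount S)) hm hs
  rw [hi, Fintype.card_fin] at h
  omega

/-- The configurations of weight two. -/
theorem gapVal_of_gapCount_two [Fact p.Prime] (S : Finset ℕ) (h2 : gapCount S = 2) :
    gapVal p S = padicValNat p 2 := by
  obtain ⟨hm, hi⟩ := strictMono_orderEmb S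
  have hs : ∑ i, (S.orderEmbOfFin rfl : Fin S.card → ℕ) i =
      stair S.card + Fintype.card (Fin 2) := by
    rw [Fintype.card_fin, ← (image_of_strictMono hm).2, hi, ← gapCount_add_stair, h2, add_comm]
  have h := padicValNat_degree_add_gapVal (p := p) (ι := Fin 2) hm hs
  rw [hi, Fintype.card_fin, Nat.factorial_two] at h
  set α : Fin S.card → ℕ := ⇑(S.orderEmbOfFin rfl)
  have hsq := sum_fchar_mul (ι := Fin 2) hm hm hs
  rw [if_pos rfl, Fintype.card_fin, Nat.factorial_two] at hsq
  have hle : fchar α (1 : Equiv.Perm (Fin 2)) * fchar α (1 : Equiv.Perm (Fin 2)) ≤ 2 := by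
    have := single_le_sum (f := fun σ : Equiv.Perm (Fin 2) => fchar α σ * fchar α σ)
      (fun σ _ => mul_self_nonneg _) (mem_univ 1)
    rw [hsq] at this
    exact_mod_cast this
  have hne := fchar_one_ne_zero (ι := Fin 2) hm.injective (mem_tuples.2 hs)
  have hlt : (fchar α (1 : Equiv.Perm (Fin 2))).natAbs < 2 := by
    by_contra hc
    have h4 : 2 * 2 ≤ (fchar α (1 : Equiv.Perm (Fin 2))).natAbs *
        (fchar α (1 : Equiv.Perm (Fin 2))).natAbs := Nat.mul_le_mul (by omega) (by omega)
    rw [← Int.natAbs_mul] at h4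
    have h5 := Int.natAbs_of_nonneg (mul_self_nonneg (fchar α (1 : Equiv.Perm (Fin 2))))
    generalize fchar α (1 : Equiv.Perm (Fin 2)) * fchar α (1 : Equiv.Perm (Fin 2)) = z at *
    omega
  rw [show (fchar α (1 : Equiv.Perm (Fin 2))).natAbs = 1 by omega, padicValNat_one_right] at h
  omega

/-- Decomposition along the runners. -/
theorem gapVal_eq_sum_runners [Fact p.Prime] {α : Fin N → ℕ} (hα : StrictMono α) :
    gapVal p (univ.image α) = coreWeight p α + ∑ r ∈ range p, gapVal p (runSet p α r) := by
  classical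
  have hp : 0 < p := (Fact.out : p.Prime).pos
  have hrun : ∀ r ∈ range p, gapCount (runSet p α r) = runWeight p α r := by
    intro r _
    have h1 := gapCount_add_stair (runSet p α r)
    obtain ⟨h2, h3⟩ := card_runSet (p := p) hα.injective r
    rw [h2] at h1
    omega
  rw [coreWeight_eq_sum_runWeight hp, ← sum_congr rfl hrun, ← sum_add_distrib, gapVal,
    ← sum_fiberwise_of_maps_to (g := fun a => a % p) (t := range p)
      (fun a _ => mem_range.2 (Nat.mod_lt _ hp))]
  refine sum_congr rfl fun r hr => ?_
  have hr' := mem_range.1 hr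
  have hmem : ∀ a, a % p = r → (a ∈ univ.image α ↔ a / p ∈ runSet p α r) := by
    intro a ha
    rw [mem_runSet hp hr', ← ha, Nat.mod_add_div]
    simp
  have hfib : (univ.image α).filter (fun a => a % p = r) =
      (runSet p α r).image fun k => r + p * k := by
    ext a
    simp only [mem_filter, mem_image]
    constructor
    · rintro ⟨ha, har⟩
      exact ⟨a / p, (hmem a har).1 (by simpa using ha), by rw [← har, Nat.mod_add_div]⟩
    · rintro ⟨k, hk, rfl⟩
      obtain ⟨i, hi⟩ := (mem_runSet hp hr').1 hk
      exact ⟨⟨i, mem_univ i, hi⟩, by rw [Nat.add_mul_mod_self_left, Nat.mod_eq_of_lt hr']⟩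
  rw [hfib, sum_image fun a _ b _ h => Nat.eq_of_mul_eq_mul_left hp (Nat.add_left_cancel h),
    gapCount, gapVal, ← sum_add_distrib]
  refine sum_congr rfl fun k hk => ?_
  rw [card_eq_sum_ones, ← sum_add_distrib]
  symm
  refine sum_of_injOn (fun y => r + p * y)
    (fun a _ b _ h => Nat.eq_of_mul_eq_mul_left hp (Nat.add_left_cancel h)) ?_ ?_ ?_
  · intro y hy
    obtain ⟨hy1, hy2⟩ := mem_sdiff.1 hy
    refine mem_sdiff.2 ⟨mem_range.2 ?_, fun h => hy2 ?_⟩
    · have : p * (y + 1) ≤ p * k := Nat.mul_le_mul_left _ (mem_range.1 hy1)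
      rw [Nat.mul_add, Nat.mul_one] at this
      show r + p * y < r + p * k
      omega
    · have := (hmem _ (by rw [Nat.add_mul_mod_self_left, Nat.mod_eq_of_lt hr'])).1 h
      rwa [Nat.add_mul_div_left _ _ hp, Nat.div_eq_of_lt hr', zero_add] at this
  · intro x hx hnot
    obtain ⟨hx1, hx2⟩ := mem_sdiff.1 hx
    have hx1' := mem_range.1 hx1
    refine padicValNat.eq_zero_of_not_dvd fun hd => hnot ?_
    have hxr : x % p = r := by
      have h := (Nat.modEq_iff_dvd' hx1'.le).2 hd
      rw [Nat.ModEq, Nat.add_mul_mod_self_left, Nat.mod_eq_of_lt hr'] at h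
      exact h
    refine ⟨x / p, mem_coe.2 (mem_sdiff.2 ⟨mem_range.2 ?_, fun h => hx2 ((hmem x hxr).2 h)⟩), ?_⟩
    · by_contra hc
      have h4 := Nat.mul_le_mul_left p (not_lt.1 hc)
      have h5 := Nat.mod_add_div x p
      omega
    · show r + p * (x / p) = x
      rw [← hxr, Nat.mod_add_div]
  · intro y hy
    have hy' := mem_range.1 (mem_sdiff.1 hy).1
    rw [show r + p * k - (r + p * y) = p * (k - y) by rw [Nat.mul_sub]; omega,
      padicValNat.mul hp.ne' (by omega), padicValNat_self]

theorem gapCount_runSet {α : Fin N → ℕ} (hα : Function.Injective α) (r : ℕ) :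
    gapCount (runSet p α r) = runWeight p α r := by
  have h1 := gapCount_add_stair (runSet p α r)
  obtain ⟨h2, h3⟩ := card_runSet (p := p) hα r
  rw [h2] at h1
  omega

/-- The defect of a character is at most that of a group of order `(p w)!`. -/
theorem gapVal_le_defect [Fact p.Prime] {α : Fin N → ℕ} (hα : StrictMono α) :
    coreWeight p α ≤ gapVal p (univ.image α) ∧
      gapVal p (univ.image α) ≤ padicValNat p (p * coreWeight p α).factorial := by
  rw [gapVal_eq_sum_runners hα, padicValNat_factorial_mul]
  refine ⟨Nat.le_add_right _ _, ?_⟩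
  have h1 : ∑ r ∈ range p, gapVal p (runSet p α r) ≤
      ∑ r ∈ range p, padicValNat p (runWeight p α r).factorial :=
    sum_le_sum fun r _ => (gapVal_le _).trans_eq (by rw [gapCount_runSet hα.injective])
  have h2 : padicValNat p (∏ r ∈ range p, (runWeight p α r).factorial) ≤
      padicValNat p (coreWeight p α).factorial := by
    rw [coreWeight_eq_sum_runWeight (Fact.out : p.Prime).pos]
    exact (padicValNat_dvd_iff_le (Nat.factorial_ne_zero _)).1
      (pow_padicValNat_dvd.trans (Nat.prod_factorial_dvd_factorial_sum _ _))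
  rw [padicValNat_prod _ _ (fun r _ => Nat.factorial_ne_zero _)] at h2
  omega

end CfsgLib.BlockA.SymBlock
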