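import Cfsg.Agent.Lib.BlockA.SymNakayama
import Cfsg.Agent.Lib.BlockA.SymDegree
import Cfsg.Agent.Lib.Block.DefectOrder

/-!
# Defect groups of blocks of weight `w` are Sylow subgroups of a symmetric group of degree `p w`
-/

set_option autoImplicit false
set_option linter.unusedSectionVars false

namespace CfsgLib.BlockA.SymBlock

open Finset Cfsg CfsgLib.Block
open scoped Classical

variable {N : ℕ} {ι : Type} [Fintype ι] [DecidableEq ι] {p : ℕ}

theorem sylow_perm_card [Fact p.Prime] {κ : Type} [Fintype κ] [DecidableEq κ]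
    (Q : Sylow p (Equiv.Perm κ)) :
    Nat.card Q = p ^ padicValNat p (Fintype.card κ).factorial := by
  rw [Sylow.card_eq_multiplicity, Nat.card_eq_fintype_card, Fintype.card_perm,
    Nat.factorization_def _ Fact.out]

/-- The defect groups of a block of weight `w` and full defect. -/
theorem exists_defect_eq_map [hp : Fact p.Prime] {M : Ideal AlgInt} (hM : IsPModular p M)
    {B : Set (IrrCharacter (Equiv.Perm ι))} (hB : IsPBlock M B)
    {χ : IrrCharacter (Equiv.Perm ι)} (hχ : χ ∈ B) {α : Fin N → ℕ}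
    (hα : α ∈ monos N (Fintype.card ι)) {e : ℤ} (he : e = 1 ∨ e = -1)
    (hv : ∀ σ, (χ : Equiv.Perm ι → ℂ) σ = (e : ℂ) * (fchar α σ : ℂ))
    (hd : blockDefect p B = padicValNat p (p * coreWeight p α).factorial) :
    ∃ J : Equiv.Perm (Fin (coreWeight p α) × Fin p) →* Equiv.Perm ι, Function.Injective J ∧
      (∀ σ, Equiv.Perm.sign (J σ) = Equiv.Perm.sign σ) ∧
      ∀ Q : Sylow p (Equiv.Perm (Fin (coreWeight p α) × Fin p)),
        IsDefectGroup p M B
          ((Q : Subgroup (Equiv.Perm (Fin (coreWeight p α) × Fin p))).map J) := by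
  have := isPrime_of_pmodular hM
  have hp0 := hp.out.pos
  obtain ⟨hsum, hmono⟩ := mem_monos.1 hα
  set w := coreWeight p α
  have hw : p * w ≤ Fintype.card ι := mul_coreWeight_le hp0 hmono.injective (mem_tuples.2 hsum)
  set m := Fintype.card ι - p * w with hm
  let ee : (Fin w × Fin p) ⊕ Fin m ≃ ι := Fintype.equivOfCardEq (by
    simp only [Fintype.card_sum, Fintype.card_prod, Fintype.card_fin]
    rw [mul_comm w p]
    omega)
  set x := ee.permCongr (cyclesElt p w m) with hxdef
  have hx : x ^ p = 1 := by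
    show (ee.permCongrHom (cyclesElt p w m)) ^ p = 1
    rw [← map_pow, cyclesElt_pow_eq_one hp0, map_one]
  have hne : (χ : Equiv.Perm ι → ℂ) x ≠ 0 := by
    rw [hv, hxdef, fchar_permCongr]
    obtain ⟨P, hP, hval⟩ := exists_fchar_cyclesElt hp0 m w α hmono.injective rfl
    have hcs : coreBead p α ∈ tuples N (Fintype.card (Fin m)) := by
      have := sum_eq_sum_core (p := p) hmono.injective
      rw [mem_tuples, Fintype.card_fin, hm]
      change ∑ i, α i = ∑ i, coreBead p α i + p * w at this
      omega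
    rw [hval]
    refine mul_ne_zero (by rcases he with rfl | rfl <;> simp) ?_
    exact_mod_cast mul_ne_zero (by omega : (P : ℤ) ≠ 0)
      (fchar_one_ne_zero (coreBead_injective hp0 hmono.injective) hcs)
  obtain ⟨E, hE, hxE⟩ := exists_defect_ge hM hB hx hχ hne
  obtain ⟨g, hg, R, hR⟩ := hE
  have hgfix : ∀ a, x a ≠ a → g a = a := fun a ha => by
    refine apply_eq_self_of_commute_orbitCen hx (fun σ hσ => ?_) (fun hd' => hg.2.1 ?_) ha
    · have h1 : σ ∈ E := hxE hσ
      rw [hR] at h1
      exact (Subgroup.mem_centralizer_singleton_iff.1 (cenSub_le g _ h1)).symm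
    · rw [blockCoeff_eq_zero_of_singular hM hB hd']
      exact memLocalIdeal_zero
  let J : Equiv.Perm (Fin w × Fin p) →* Equiv.Perm ι :=
    ee.permCongrHom.toMonoidHom.comp
      ((Equiv.Perm.sumCongrHom (Fin w × Fin p) (Fin m)).comp (MonoidHom.inl _ _))
  have hJinj : Function.Injective J := by
    intro a b h
    have h' : ee.permCongrHom (Equiv.Perm.sumCongrHom (Fin w × Fin p) (Fin m) (a, 1)) =
        ee.permCongrHom (Equiv.Perm.sumCongrHom (Fin w × Fin p) (Fin m) (b, 1)) := h
    exact (Prod.ext_iff.1 (Equiv.Perm.sumCongrHom_injective (ee.permCongrHom.injective h'))).1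
  refine ⟨J, hJinj, fun σ => ?_, fun Q => ?_⟩
  · show Equiv.Perm.sign (ee.permCongr (Equiv.Perm.sumCongr σ 1)) = _
    rw [Equiv.Perm.sign_permCongr, Equiv.Perm.sign_sumCongr, map_one, mul_one]
  have hgE : IsDefectGroup p M B E := ⟨g, hg, R, hR⟩
  have hQg : (Q : Subgroup (Equiv.Perm (Fin w × Fin p))).map J ≤
      Subgroup.centralizer ({g} : Set (Equiv.Perm ι)) := by
    rintro _ ⟨σ, -, rfl⟩
    rw [Subgroup.mem_centralizer_singleton_iff]
    refine Equiv.ext fun a => ?_
    have hmoved : ∀ q, g (ee (Sum.inl q)) = ee (Sum.inl q) := fun q => hgfix _ fun hh =>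
      cyclesElt_apply_ne w m q (ee.injective (by simpa [x, Equiv.permCongr_apply] using hh))
    obtain ⟨z, rfl⟩ := ee.surjective a
    rcases z with q | t
    · simp [J, Equiv.permCongr_apply, hmoved]
    · obtain ⟨z', hz'⟩ := ee.surjective (g (ee (Sum.inr t)))
      rcases z' with q | t'
      · exact absurd (g.injective (hz'.symm.trans (hmoved q).symm))
          (fun h => Sum.inr_ne_inl (ee.injective h))
      · simp [J, Equiv.permCongr_apply, ← hz']
  obtain ⟨y, -, hy⟩ := le_conj_cenSub R (Q.2.map J) hQg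
  have heq : (Q : Subgroup (Equiv.Perm (Fin w × Fin p))).map J =
      E.map (MulAut.conj y).toMonoidHom := by
    rw [hR]
    refine Subgroup.eq_of_le_of_card_ge hy ?_
    rw [natCard_map_conj, ← hR, natCard_defectGroup hM hB hgE, hd,
      Subgroup.card_map_of_injective hJinj, sylow_perm_card, Fintype.card_prod, Fintype.card_fin,
      Fintype.card_fin, mul_comm w p]
  rw [heq]
  exact defectGroup_conj hM hB hgE y

end CfsgLib.BlockA.SymBlock
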