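import Cfsg.Agent.Lib.KnownB.JacobiTrudi
import Mathlib.GroupTheory.Perm.Fin

/-!
# The alternating sums of Young permutation characters of symmetric groups

`fchar α σ` is the coefficient of `x^α` in the product of the Vandermonde determinant with the
power sums of the cycles of `σ`, written combinatorially.
-/

set_option autoImplicit false
set_option linter.unusedSectionVars false

namespace CfsgLib.BlockA.SymBlock

open Finset CfsgLib.KnownB

variable {N : ℕ} {ι ι' : Type*} [Fintype ι] [DecidableEq ι] [Fintype ι'] [DecidableEq ι']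

/-- The fibre sizes of a colouring. -/
def cnt {C : Type*} [DecidableEq C] (h : ι → C) (c : C) : ℕ :=
  (univ.filter fun a => h a = c).card

theorem sum_cnt {C : Type*} [Fintype C] [DecidableEq C] (h : ι → C) :
    ∑ c, cnt h c = Fintype.card ι :=
  (card_eq_sum_card_fiberwise (f := h) (t := univ) fun _ _ => mem_univ _).symm

theorem cnt_comp_left {C D : Type*} [Fintype C] [DecidableEq C] [DecidableEq D] (h : ι → C)
    (g : C → D) (d : D) : cnt (g ∘ h) d = ∑ c ∈ univ.filter (fun c => g c = d), cnt h c := by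
  unfold cnt
  rw [card_eq_sum_card_fiberwise (f := h) (t := univ.filter fun c => g c = d)]
  · refine sum_congr rfl fun c hc => congrArg card ?_
    rw [filter_filter]
    refine filter_congr fun a _ => ⟨fun ha => ha.2, fun ha => ⟨?_, ha⟩⟩
    rw [Function.comp_apply, ha]; exact (mem_filter.1 hc).2
  · intro a ha
    simpa using ha

theorem cnt_comp_equiv {C : Type*} [DecidableEq C] (h : ι → C) (e : ι' ≃ ι) (c : C) :
    cnt (h ∘ e) c = cnt h c :=
  Finset.card_equiv e (by simp)

/-- Colourings with prescribed fibre sizes which are fixed by `σ`. -/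
def yperm (a : Fin N → ℕ) (σ : Equiv.Perm ι) : ℕ :=
  (univ.filter fun f : ι → Fin N => f ∘ σ = f ∧ cnt f = a).card

theorem yperm_permCongr (a : Fin N → ℕ) (e : ι ≃ ι') (σ : Equiv.Perm ι) :
    yperm a (e.permCongr σ) = yperm a σ := by
  refine Finset.card_equiv (e.symm.arrowCongr (Equiv.refl _)) fun f => ?_
  have h : ((e.symm.arrowCongr (Equiv.refl (Fin N))) f) = f ∘ e := rfl
  simp only [mem_filter, mem_univ, true_and, h]
  refine and_congr ⟨fun hf => ?_, fun hf => ?_⟩ ?_
  · funext x
    simpa using congrFun hf (e x)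
  · funext x
    simpa using congrFun hf (e.symm x)
  · rw [show cnt (f ∘ e) = cnt f from funext (cnt_comp_equiv f e)]

theorem yperm_comp (a : Fin N → ℕ) (τ : Equiv.Perm (Fin N)) (σ : Equiv.Perm ι) :
    yperm (a ∘ τ) σ = yperm a σ := by
  refine Finset.card_equiv ((Equiv.refl ι).arrowCongr τ) fun f => ?_
  have h : ((Equiv.refl ι).arrowCongr τ) f = τ ∘ f := rfl
  simp only [mem_filter, mem_univ, true_and, h]
  refine and_congr ⟨fun hf => by rw [Function.comp_assoc, hf], fun hf => ?_⟩ ⟨fun hf => ?_, fun hf => ?_⟩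
  · rw [Function.comp_assoc] at hf
    exact funext fun x => τ.injective (congrFun hf x)
  · funext c
    have : cnt f (τ.symm c) = a c := by simpa using congrFun hf (τ.symm c)
    rw [← this]
    unfold cnt
    exact congrArg card (filter_congr fun x _ => (Equiv.eq_symm_apply τ).symm)
  · funext c
    rw [Function.comp_apply, ← hf]
    unfold cnt
    exact congrArg card (filter_congr fun x _ => τ.injective.eq_iff.symm)

/-- Burnside counting for colourings with prescribed fibre sizes. -/
theorem sum_stab {C : Type*} [Fintype C] [DecidableEq C] (M : C → ℕ)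
    (hM : ∑ c, M c = Fintype.card ι) :
    ∑ h ∈ (univ.filter fun h : ι → C => cnt h = M),
      (univ.filter fun σ : Equiv.Perm ι => h ∘ σ = h).card = (Fintype.card ι).factorial := by
  classical
  let e : ι ≃ Σ c, Fin (M c) := Fintype.equivOfCardEq (by simp [hM])
  let h0 : ι → C := fun x => (e x).1
  have hc0 : cnt h0 = M := funext fun c => by
    rw [show h0 = (Sigma.fst : (Σ c, Fin (M c)) → C) ∘ e from rfl, cnt_comp_equiv]
    unfold cnt
    rw [show (univ.filter fun t : Σ c, Fin (M c) => t.1 = c) =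
      ({c} : Finset C).sigma fun _ => univ by ext t; simp, card_sigma, sum_singleton]
    simp
  rw [← Fintype.card_perm, ← card_univ, card_eq_sum_card_fiberwise
    (f := fun π : Equiv.Perm ι => h0 ∘ π) (t := univ.filter fun h : ι → C => cnt h = M)]
  · refine sum_congr rfl fun h hh => ?_
    have hh' : cnt h = M := (mem_filter.1 hh).2
    obtain ⟨t, ht⟩ : ∃ t : Equiv.Perm ι, h0 ∘ t = h := by
      refine ⟨Equiv.ofFiberEquiv (f := h) (g := h0) fun c => Fintype.equivOfCardEq ?_,
        funext fun x => Equiv.ofFiberEquiv_map _ x⟩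
      rw [Fintype.card_subtype, Fintype.card_subtype]
      exact (congrFun hh' c).trans (congrFun hc0 c).symm
    refine Finset.card_equiv (Equiv.mulLeft t) fun σ => ?_
    simp only [mem_filter, mem_univ, true_and, Equiv.coe_mulLeft, Equiv.Perm.coe_mul,
      ← Function.comp_assoc, ht]
  · intro π _
    simp only [coe_filter, mem_univ, true_and, Set.mem_ofPred_eq]
    rw [← hc0]
    exact funext (cnt_comp_equiv h0 π)

theorem sum_yperm_mul (a b : Fin N → ℕ) (ha : ∑ i, a i = Fintype.card ι) :
    ∑ σ : Equiv.Perm ι, yperm a σ * yperm b σ =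
      (Fintype.card ι).factorial * Nat.card (Flag.Margins a b) := by
  classical
  let P : (ι → Fin N × Fin N) → Prop := fun h =>
    cnt (Prod.fst ∘ h) = a ∧ cnt (Prod.snd ∘ h) = b
  have h1 : ∀ σ : Equiv.Perm ι, yperm a σ * yperm b σ =
      ((univ.filter P).filter fun h : ι → Fin N × Fin N => h ∘ σ = h).card := by
    intro σ
    rw [yperm, yperm, ← card_product]
    refine Finset.card_equiv (Equiv.arrowProdEquivProdArrow ι (fun _ => Fin N) (fun _ => Fin N)).symm
      fun fg => ?_
    simp only [mem_product, mem_filter, mem_univ, true_and, P]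
    constructor
    · rintro ⟨⟨hf, ha'⟩, hg, hb'⟩
      exact ⟨⟨ha', hb'⟩, funext fun x => Prod.ext (congrFun hf x) (congrFun hg x)⟩
    · rintro ⟨⟨ha', hb'⟩, hh⟩
      exact ⟨⟨funext fun x => congrArg Prod.fst (congrFun hh x), ha'⟩,
        funext fun x => congrArg Prod.snd (congrFun hh x), hb'⟩
  have hmarg : ∀ (h : ι → Fin N × Fin N), (∀ i, cnt (Prod.fst ∘ h) i = ∑ j, cnt h (i, j)) ∧
      ∀ j, cnt (Prod.snd ∘ h) j = ∑ i, cnt h (i, j) := by
    intro h
    refine ⟨fun i => ?_, fun j => ?_⟩
    · rw [cnt_comp_left, sum_filter, Fintype.sum_prod_type, sum_comm]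
      simp
    · rw [cnt_comp_left, sum_filter, Fintype.sum_prod_type]
      simp
  rw [sum_congr rfl fun σ _ => h1 σ]
  simp only [card_filter]
  rw [sum_comm]
  simp only [← card_filter]
  have hT : ((univ.filter P).image fun h c => cnt h c).card = Nat.card (Flag.Margins a b) := by
    rw [← Fintype.card_coe, ← Nat.card_eq_fintype_card]
    refine Nat.card_congr (Equiv.ofBijective (fun M => ⟨fun i j => M.1 (i, j), ?_⟩) ⟨?_, ?_⟩)
    · obtain ⟨h, hh, hM⟩ := mem_image.1 M.2
      obtain ⟨ha', hb'⟩ := (mem_filter.1 hh).2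
      exact ⟨fun i => by rw [← congrFun ha' i, (hmarg h).1 i, ← hM],
        fun j => by rw [← congrFun hb' j, (hmarg h).2 j, ← hM]⟩
    · intro M M' h
      exact Subtype.ext (funext fun c => congrFun (congrFun (congrArg Subtype.val h) c.1) c.2)
    · intro M
      have hsum : ∑ c : Fin N × Fin N, M.1 c.1 c.2 = Fintype.card ι := by
        rw [Fintype.sum_prod_type, ← ha]
        exact sum_congr rfl fun i _ => M.2.1 i
      let e : ι ≃ Σ c : Fin N × Fin N, Fin (M.1 c.1 c.2) :=
        Fintype.equivOfCardEq (by simp [hsum])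
      have hc : cnt (fun x => (e x).1) = fun c : Fin N × Fin N => M.1 c.1 c.2 := funext fun c => by
        rw [show (fun x => (e x).1) = (Sigma.fst : (Σ c : Fin N × Fin N, Fin (M.1 c.1 c.2)) → _) ∘ e
          from rfl, cnt_comp_equiv]
        unfold cnt
        rw [show (univ.filter fun t : Σ c : Fin N × Fin N, Fin (M.1 c.1 c.2) => t.1 = c) =
          ({c} : Finset (Fin N × Fin N)).sigma fun _ => univ by ext t; simp, card_sigma,
          sum_singleton]
        simp
      refine ⟨⟨fun c => M.1 c.1 c.2, mem_image.2 ⟨fun x => (e x).1, mem_filter.2 ⟨mem_univ _, ?_, ?_⟩,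
        hc⟩⟩, rfl⟩
      · funext i
        rw [(hmarg _).1, hc]
        exact M.2.1 i
      · funext j
        rw [(hmarg _).2, hc]
        exact M.2.2 j
  rw [← sum_fiberwise_of_maps_to (g := fun h c => cnt h c)
    (t := (univ.filter P).image fun h c => cnt h c) (fun h hh => mem_image_of_mem _ hh),
    sum_congr rfl (g := fun _ => (Fintype.card ι).factorial) fun M hM => ?_, sum_const, hT,
    smul_eq_mul, mul_comm]
  obtain ⟨h0, hh0, rfl⟩ := mem_image.1 hM
  obtain ⟨ha', hb'⟩ := (mem_filter.1 hh0).2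
  rw [filter_filter, ← sum_stab (cnt h0) (sum_cnt h0)]
  refine sum_congr (filter_congr fun h _ => ⟨fun hh => hh.2, fun hh => ⟨?_, hh⟩⟩) fun h _ => rfl
  have hh' : cnt h = cnt h0 := hh
  refine ⟨?_, ?_⟩
  · rw [← ha']; exact funext fun i => by rw [(hmarg _).1, (hmarg _).1, hh']
  · rw [← hb']; exact funext fun j => by rw [(hmarg _).2, (hmarg _).2, hh']

/-- The shift `∑ i` of the staircase. -/
def stair (N : ℕ) : ℕ := ∑ i : Fin N, (i : ℕ)

/-- Coefficient of `x^α` in the Vandermonde product times the power sums of the cycles. -/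
def fchar (α : Fin N → ℕ) (σ : Equiv.Perm ι) : ℤ :=
  ∑ κ : Equiv.Perm (Fin N), if ∀ i : Fin N, (κ i).val ≤ α i then
    (Equiv.Perm.sign κ : ℤ) * yperm (fun i => α i - (κ i).val) σ else 0

theorem fchar_permCongr (α : Fin N → ℕ) (e : ι ≃ ι') (σ : Equiv.Perm ι) :
    fchar α (e.permCongr σ) = fchar α σ := by
  simp only [fchar, yperm_permCongr]

theorem fchar_conj (α : Fin N → ℕ) (τ σ : Equiv.Perm ι) :
    fchar α (τ * σ * τ⁻¹) = fchar α σ := by
  rw [← fchar_permCongr α τ σ]
  rfl

theorem fchar_comp (α : Fin N → ℕ) (τ : Equiv.Perm (Fin N)) (σ : Equiv.Perm ι) :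
    fchar (α ∘ τ) σ = (Equiv.Perm.sign τ : ℤ) * fchar α σ := by
  rw [fchar, fchar, mul_sum]
  refine Fintype.sum_equiv (Equiv.mulRight τ⁻¹) _ _ fun κ => ?_
  have hc : (∀ i : Fin N, ((κ * τ⁻¹) i).val ≤ α i) ↔ ∀ i : Fin N, (κ i).val ≤ α (τ i) :=
    ⟨fun h i => by simpa using h (τ i), fun h i => by simpa using h (τ⁻¹ i)⟩
  simp only [Equiv.coe_mulRight, hc, Function.comp_apply]
  split_ifs with h
  · rw [← yperm_comp (fun i => α i - ((κ * τ⁻¹) i).val) τ σ,
      show ((fun i => α i - ((κ * τ⁻¹) i).val) ∘ τ) = fun i => α (τ i) - (κ i).val from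
        funext fun i => by simp, Equiv.Perm.sign_mul, Equiv.Perm.sign_inv, Units.val_mul]
    rcases Int.units_eq_one_or (Equiv.Perm.sign τ) with hu | hu <;> simp [hu]
  · rw [mul_zero]

theorem fchar_eq_zero (α : Fin N → ℕ) (hα : ¬ Function.Injective α) (σ : Equiv.Perm ι) :
    fchar α σ = 0 := by
  rw [Function.not_injective_iff] at hα
  obtain ⟨a, b, hab, hne⟩ := hα
  have h := fchar_comp α (Equiv.swap a b) σ
  rw [show α ∘ Equiv.swap a b = α from funext fun i => by
    rcases eq_or_ne i a with rfl | ha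
    · simp [hab]
    rcases eq_or_ne i b with rfl | hb
    · simp [hab]
    simp [Equiv.swap_apply_of_ne_of_ne ha hb], Equiv.Perm.sign_swap hne] at h
  simp only [Units.val_neg, Units.val_one, neg_mul, one_mul] at h
  omega

theorem sum_sub_eq {α : Fin N → ℕ} {n : ℕ} (hα : ∑ i, α i = stair N + n)
    (κ : Equiv.Perm (Fin N)) (h : ∀ i : Fin N, (κ i).val ≤ α i) :
    ∑ i, (α i - (κ i).val) = n := by
  have h1 : ∑ i, (α i - (κ i).val) + ∑ i, (κ i).val = ∑ i, α i := by
    rw [← sum_add_distrib]
    exact sum_congr rfl fun i _ => Nat.sub_add_cancel (h i)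
  rw [Equiv.sum_comp κ (fun i : Fin N => i.val), hα, ← stair] at h1
  omega

/-- Orthogonality. -/
theorem sum_fchar_mul {α β : Fin N → ℕ} (hα : StrictMono α) (hβ : StrictMono β)
    (hs : ∑ i, α i = stair N + Fintype.card ι) :
    ∑ σ : Equiv.Perm ι, fchar α σ * fchar β σ =
      if α = β then ((Fintype.card ι).factorial : ℤ) else 0 := by
  simp only [fchar, sum_mul_sum]
  rw [sum_comm]
  simp_rw [sum_comm (γ := Equiv.Perm ι)]
  rw [← mul_one ((Fintype.card ι).factorial : ℤ), ← mul_zero ((Fintype.card ι).factorial : ℤ),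
    ← mul_ite, ← JT.alt_margins α β hα hβ, mul_sum]
  refine sum_congr rfl fun κ _ => ?_
  rw [mul_sum]
  refine sum_congr rfl fun κ' _ => ?_
  by_cases h : ∀ i : Fin N, (κ i).val ≤ α i
  · by_cases h' : ∀ i : Fin N, (κ' i).val ≤ β i
    · simp only [if_pos h, if_pos h', if_pos (And.intro h h')]
      have := sum_yperm_mul (ι := ι) (fun i => α i - (κ i).val) (fun i => β i - (κ' i).val)
        (sum_sub_eq hs κ h)
      have h2 := congrArg (fun x : ℕ => (x : ℤ)) this
      push_cast at h2
      rw [show ∀ c d e f : ℤ, c * (d * e * f) = d * e * (c * f) from fun c d e f => by ring,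
        ← h2, mul_sum]
      exact sum_congr rfl fun σ _ => by ring
    · simp only [if_neg h', if_neg (fun hh : _ ∧ _ => h' hh.2), mul_zero, sum_const_zero]
  · simp only [if_neg h, if_neg (fun hh : _ ∧ _ => h hh.1), zero_mul, mul_zero, sum_const_zero]

/-- The Murnaghan–Nakayama rule. -/
theorem yperm_sumCongr {κ : Type*} [Fintype κ] [DecidableEq κ] [Nonempty κ] (c : Equiv.Perm κ)
    (hc : ∀ f : κ → Fin N, f ∘ c = f → ∀ x y, f x = f y) (a : Fin N → ℕ) (τ : Equiv.Perm ι) :
    yperm a (Equiv.sumCongr c τ) = ∑ i, if Fintype.card κ ≤ a i then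
      yperm (a - Pi.single i (Fintype.card κ)) τ else 0 := by
  obtain ⟨x0⟩ := ‹Nonempty κ›
  rw [yperm, card_eq_sum_card_fiberwise (f := fun f : κ ⊕ ι → Fin N => f (Sum.inl x0)) (t := univ)
    (fun _ _ => mem_univ _)]
  refine sum_congr rfl fun i _ => ?_
  rw [filter_filter]
  have hcnt : ∀ g : ι → Fin N, cnt (Sum.elim (fun _ : κ => i) g) =
      cnt g + Pi.single i (Fintype.card κ) := fun g => funext fun j => by
    unfold cnt
    rw [← univ_disjSum_univ, card_filter, sum_disjSum, ← card_filter, ← card_filter]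
    rcases eq_or_ne i j with rfl | h
    · simp [add_comm]
      congr 1
    · simp [h, Ne.symm h]
      congr 1
  split_ifs with hq
  · refine card_bij' (fun f _ => f ∘ Sum.inr) (fun g _ => Sum.elim (fun _ : κ => i) g) ?_ ?_ ?_ ?_
    · intro f hf
      simp only [mem_filter, mem_univ, true_and] at hf ⊢
      obtain ⟨⟨hfix, hcn⟩, hi⟩ := hf
      have hl := hc (f ∘ Sum.inl) (funext fun x => congrFun hfix (Sum.inl x))
      refine ⟨funext fun x => congrFun hfix (Sum.inr x), funext fun j => ?_⟩
      have e := congrFun (hcnt (f ∘ Sum.inr)) j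
      rw [show Sum.elim (fun _ : κ => i) (f ∘ Sum.inr) = f from funext fun x => by
        rcases x with x | x
        · exact hi.symm.trans (hl x0 x)
        · rfl, hcn] at e
      rw [Pi.sub_apply, e, Pi.add_apply, Nat.add_sub_cancel]
    · intro g hg
      simp only [mem_filter, mem_univ, true_and] at hg ⊢
      refine ⟨⟨funext fun x => ?_, funext fun j => ?_⟩, rfl⟩
      · rcases x with x | x
        · rfl
        · simpa using congrFun hg.1 x
      · rw [hcnt, hg.2, Pi.add_apply, Pi.sub_apply]
        rcases eq_or_ne i j with rfl | h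
        · rw [Pi.single_eq_same, Nat.sub_add_cancel hq]
        · simp [Pi.single_eq_of_ne h.symm]
    · intro f hf
      simp only [mem_filter, mem_univ, true_and] at hf
      obtain ⟨⟨hfix, -⟩, hi⟩ := hf
      have hl := hc (f ∘ Sum.inl) (funext fun x => congrFun hfix (Sum.inl x))
      funext x
      rcases x with x | x
      · exact hi.symm.trans (hl x0 x)
      · rfl
    · intro g _; rfl
  · rw [card_eq_zero, filter_eq_empty_iff]
    rintro f - ⟨⟨hfix, hcn⟩, hi⟩
    have hl := hc (f ∘ Sum.inl) (funext fun x => congrFun hfix (Sum.inl x))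
    have e := congrFun (hcnt (f ∘ Sum.inr)) i
    rw [show Sum.elim (fun _ : κ => i) (f ∘ Sum.inr) = f from funext fun x => by
      rcases x with x | x
      · exact hi.symm.trans (hl x0 x)
      · rfl, hcn, Pi.add_apply, Pi.single_eq_same] at e
    omega

theorem fchar_sumCongr {κ : Type*} [Fintype κ] [DecidableEq κ] [Nonempty κ] (c : Equiv.Perm κ)
    (hc : ∀ f : κ → Fin N, f ∘ c = f → ∀ x y, f x = f y) (α : Fin N → ℕ) (τ : Equiv.Perm ι) :
    fchar α (Equiv.sumCongr c τ) = ∑ i, if Fintype.card κ ≤ α i then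
      fchar (α - Pi.single i (Fintype.card κ)) τ else 0 := by
  set q := Fintype.card κ
  simp only [fchar]
  rw [eq_comm, sum_congr rfl fun i _ => (ite_sum_zero _ _ _), sum_comm]
  refine sum_congr rfl fun π _ => ?_
  by_cases hπ : ∀ i : Fin N, (π i).val ≤ α i
  · rw [if_pos hπ, yperm_sumCongr c hc, Nat.cast_sum, mul_sum]
    refine sum_congr rfl fun i _ => ?_
    by_cases hqi : q ≤ α i - (π i).val
    · have hqi' : q ≤ α i := hqi.trans (Nat.sub_le _ _)
      have : ∀ j : Fin N, (π j).val ≤ (α - Pi.single i q : Fin N → ℕ) j := fun j => by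
        rcases eq_or_ne j i with rfl | h
        · have := hπ j
          simp only [Pi.sub_apply, Pi.single_eq_same]; omega
        · simpa [Pi.single_eq_of_ne h] using hπ j
      rw [if_pos hqi', if_pos this, if_pos hqi,
        show (fun j => α j - (π j).val) - Pi.single i q = fun j => (α - Pi.single i q : Fin N → ℕ) j - (π j).val
          from funext fun j => by simp only [Pi.sub_apply]; omega]
    · rw [if_neg hqi, Nat.cast_zero, mul_zero]
      split_ifs with h1 h2
      · exfalso
        have := h2 i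
        have := hπ i
        simp only [Pi.sub_apply, Pi.single_eq_same] at *
        omega
      · rfl
      · rfl
  · rw [if_neg hπ]
    refine sum_eq_zero fun i _ => ?_
    split_ifs with h1 h2
    · exact absurd (fun j => (h2 j).trans (Nat.sub_le _ _)) hπ
    · rfl
    · rfl

end CfsgLib.BlockA.SymBlock
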