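import Cfsg.Agent.Lib.BlockA.SymFrobenius
import Cfsg.Agent.Lib.Char.Inner
import Cfsg.Agent.Lib.Char.Column
import Cfsg.Agent.Lib.Char.Perm
import Mathlib.Data.Fin.Tuple.Sort
import Mathlib.GroupTheory.Perm.Cycle.Type

/-!
# The irreducible characters of symmetric groups
-/

set_option autoImplicit false
set_option linter.unusedSectionVars false

namespace CfsgLib.BlockA.SymBlock

open Finset
open scoped ComplexConjugate

variable {N : ℕ} {ι : Type} [Fintype ι] [DecidableEq ι]

/-- All exponent tuples of the degree belonging to `n`. -/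
def tuples (N n : ℕ) : Finset (Fin N → ℕ) :=
  (Fintype.piFinset fun _ : Fin N => range (stair N + n + 1)).filter fun α =>
    ∑ i, α i = stair N + n

theorem mem_tuples {n : ℕ} {α : Fin N → ℕ} : α ∈ tuples N n ↔ ∑ i, α i = stair N + n := by
  rw [tuples, mem_filter, Fintype.mem_piFinset]
  refine ⟨fun h => h.2, fun h => ⟨fun i => mem_range.2 ?_, h⟩⟩
  have := single_le_sum (f := α) (fun _ _ => Nat.zero_le _) (mem_univ i)
  omega

/-- The increasing exponent tuples. -/
def monos (N n : ℕ) : Finset (Fin N → ℕ) :=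
  (tuples N n).filter fun α => ∀ i j : Fin N, i < j → α i < α j

theorem mem_monos {n : ℕ} {α : Fin N → ℕ} :
    α ∈ monos N n ↔ (∑ i, α i = stair N + n) ∧ StrictMono α := by
  rw [monos, mem_filter, mem_tuples]
  rfl

theorem comp_perm_mem_tuples {n : ℕ} {α : Fin N → ℕ} (h : α ∈ tuples N n)
    (π : Equiv.Perm (Fin N)) : α ∘ π ∈ tuples N n := by
  rw [mem_tuples] at h ⊢
  rw [← h, ← Equiv.sum_comp π α]
  rfl

theorem sort_mem_monos {n : ℕ} {α : Fin N → ℕ} (h : α ∈ tuples N n)
    (hα : Function.Injective α) : α ∘ Tuple.sort α ∈ monos N n :=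
  mem_monos.2 ⟨mem_tuples.1 (comp_perm_mem_tuples h _),
    (Tuple.monotone_sort α).strictMono_of_injective (hα.comp (Tuple.sort α).injective)⟩

/-- Sums of symmetric functions of tuples. -/
theorem sum_tuples {V : Type*} [AddCommMonoid V] (n : ℕ) (f : (Fin N → ℕ) → V)
    (hf : ∀ (α : Fin N → ℕ) (π : Equiv.Perm (Fin N)), f (α ∘ π) = f α)
    (h0 : ∀ α : Fin N → ℕ, ¬ Function.Injective α → f α = 0) :
    ∑ α ∈ tuples N n, f α = N.factorial • ∑ α ∈ monos N n, f α := by
  classical
  rw [← sum_filter_of_ne (p := fun α : Fin N → ℕ => Function.Injective α)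
    (fun α _ h => not_not.1 fun hi => h (h0 α hi))]
  have : ∑ x ∈ monos N n ×ˢ (univ : Finset (Equiv.Perm (Fin N))), f (x.1 ∘ x.2) =
      N.factorial • ∑ α ∈ monos N n, f α := by
    rw [sum_product, smul_sum]
    refine sum_congr rfl fun α _ => ?_
    simp [hf, Fintype.card_perm]
  rw [← this]
  refine (sum_bij (fun x _ => x.1 ∘ x.2) ?_ ?_ ?_ ?_).symm
  · intro x hx
    obtain ⟨h1, h2⟩ := mem_monos.1 (mem_product.1 hx).1
    exact mem_filter.2 ⟨comp_perm_mem_tuples (mem_tuples.2 h1) _,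
      h2.injective.comp x.2.injective⟩
  · intro x hx y hy hxy
    have hx1 := (mem_monos.1 (mem_product.1 hx).1).2
    have hy1 := (mem_monos.1 (mem_product.1 hy).1).2
    have h1 : x.1 = y.1 := (hx1.range_inj hy1).1 (by
      rw [← x.2.surjective.range_comp x.1, ← y.2.surjective.range_comp y.1]
      exact congrArg Set.range hxy)
    refine Prod.ext h1 (Equiv.ext fun i => hx1.injective ?_)
    have := congrFun hxy i
    simpa [h1] using this
  · intro α hα
    obtain ⟨h1, h2⟩ := mem_filter.1 hα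
    refine ⟨(α ∘ Tuple.sort α, (Tuple.sort α)⁻¹), mem_product.2 ⟨sort_mem_monos h1 h2, mem_univ _⟩,
      funext fun i => ?_⟩
    simp
  · intro x _; rfl

theorem sum_tuples_shift {V : Type*} [AddCommMonoid V] (q m : ℕ)
    (G : (Fin N → ℕ) → Fin N → V) :
    (∑ γ ∈ tuples N (q + m), ∑ i, if q ≤ γ i then G γ i else 0) =
      ∑ δ ∈ tuples N m, ∑ i, G (δ + Pi.single i q) i := by
  classical
  rw [sum_comm, sum_comm (s := tuples N m)]
  refine sum_congr rfl fun i _ => ?_
  rw [← sum_filter]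
  have hsum : ∀ δ : Fin N → ℕ, ∑ j, (δ + Pi.single i q : Fin N → ℕ) j = (∑ j, δ j) + q := fun δ => by
    simp [sum_add_distrib]
  have hback : ∀ γ : Fin N → ℕ, q ≤ γ i → γ - Pi.single i q + Pi.single i q = γ := fun γ hγ =>
    funext fun j => by
      rcases eq_or_ne j i with rfl | h
      · simp [Nat.sub_add_cancel hγ]
      · simp [Pi.single_eq_of_ne h]
  refine sum_bij' (fun γ _ => γ - Pi.single i q) (fun δ _ => δ + Pi.single i q) ?_ ?_ ?_ ?_ ?_
  · intro γ hγ
    obtain ⟨h1, h2⟩ := mem_filter.1 hγ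
    rw [mem_tuples] at h1 ⊢
    have := hsum (γ - Pi.single i q)
    rw [hback γ h2, h1] at this
    omega
  · intro δ hδ
    rw [mem_tuples] at hδ
    refine mem_filter.2 ⟨mem_tuples.2 ?_, by simp⟩
    rw [hsum, hδ]; ring
  · intro γ hγ
    exact hback γ (mem_filter.1 hγ).2
  · intro δ _
    exact add_tsub_cancel_right δ _
  · intro γ hγ
    simp [hback γ (mem_filter.1 hγ).2]

/-- A family orthogonal to every column vanishes. -/
theorem eq_zero_of_forall_sum {V : Type*} [AddCommGroup V] [Module ℂ V]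
    (v : (Fin N → ℕ) → V)
    (hv : ∀ (α : Fin N → ℕ) (π : Equiv.Perm (Fin N)),
      v (α ∘ π) = ((Equiv.Perm.sign π : ℤ) : ℂ) • v α)
    (hv0 : ∀ α : Fin N → ℕ, ¬ Function.Injective α → v α = 0)
    (h : ∀ σ : Equiv.Perm ι,
      ∑ γ ∈ tuples N (Fintype.card ι), (fchar γ σ : ℂ) • v γ = 0)
    {α : Fin N → ℕ} (hα : α ∈ tuples N (Fintype.card ι)) : v α = 0 := by
  classical
  by_cases hi : Function.Injective α
  swap
  · exact hv0 α hi
  set β := α ∘ Tuple.sort α with hβ
  have hm := mem_monos.1 (sort_mem_monos hα hi)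
  suffices hvb : v β = 0 by
    rw [hβ, hv, smul_eq_zero] at hvb
    exact hvb.resolve_left (by simp)
  have h1 : ∀ σ : Equiv.Perm ι,
      ∑ γ ∈ monos N (Fintype.card ι), (fchar γ σ : ℂ) • v γ = 0 := by
    intro σ
    have := h σ
    rw [sum_tuples _ _ (fun γ π => ?_) (fun γ hγ => by rw [hv0 γ hγ, smul_zero]),
      ← Nat.cast_smul_eq_nsmul ℂ, smul_eq_zero] at this
    · exact this.resolve_left (by exact_mod_cast N.factorial_ne_zero)
    · rw [fchar_comp, hv, smul_smul]
      rcases Int.units_eq_one_or (Equiv.Perm.sign π) with hu | hu <;> simp [hu]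
  have h2 : ∑ σ : Equiv.Perm ι, (fchar β σ : ℂ) •
      ∑ γ ∈ monos N (Fintype.card ι), (fchar γ σ : ℂ) • v γ = 0 := by
    simp [h1]
  simp only [smul_sum, smul_smul] at h2
  rw [sum_comm, sum_eq_single β] at h2
  · rw [← sum_smul, smul_eq_zero] at h2
    refine h2.resolve_left ?_
    have := sum_fchar_mul (ι := ι) hm.2 hm.2 hm.1
    rw [if_pos rfl] at this
    have h3 : (∑ σ : Equiv.Perm ι, (fchar β σ : ℂ) * (fchar β σ : ℂ)) =
        ((Fintype.card ι).factorial : ℂ) := by exact_mod_cast this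
    rw [h3]
    exact_mod_cast (Fintype.card ι).factorial_ne_zero
  · intro γ hγ hne
    have := sum_fchar_mul (ι := ι) hm.2 (mem_monos.1 hγ).2 hm.1
    rw [if_neg (Ne.symm hne)] at this
    rw [← sum_smul]
    have h3 : (∑ σ : Equiv.Perm ι, (fchar β σ : ℂ) * (fchar γ σ : ℂ)) = 0 := by exact_mod_cast this
    rw [h3, zero_smul]
  · intro hn
    exact absurd (mem_monos.2 hm) hn

/-- Colourings with given fibre sizes. -/
def Coloring (ι : Type) [Fintype ι] [DecidableEq ι] (a : Fin N → ℕ) : Type :=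
  {f : ι → Fin N // cnt f = a}

instance (a : Fin N → ℕ) : Finite (Coloring ι a) :=
  inferInstanceAs (Finite {f : ι → Fin N // cnt f = a})

instance (a : Fin N → ℕ) : MulAction (Equiv.Perm ι) (Coloring ι a) where
  smul σ f := ⟨f.1 ∘ ⇑σ⁻¹, (funext (cnt_comp_equiv f.1 σ⁻¹)).trans f.2⟩
  one_smul f := Subtype.ext rfl
  mul_smul σ τ f := Subtype.ext (funext fun x => by
    show f.1 ((σ * τ)⁻¹ x) = f.1 (τ⁻¹ (σ⁻¹ x))
    rw [_root_.mul_inv_rev, Equiv.Perm.mul_apply])

theorem yperm_isCharacter (a : Fin N → ℕ) :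
    Cfsg.IsCharacter (Equiv.Perm ι) (fun σ => (yperm a σ : ℂ)) := by
  classical
  have := Fintype.ofFinite (MulAction.orbitRel.Quotient (Equiv.Perm ι) (Coloring ι a))
  have h : (fun σ : Equiv.Perm ι => (yperm a σ : ℂ)) =
      fun σ => (Nat.card (MulAction.fixedBy (Coloring ι a) σ) : ℂ) := funext fun σ => by
    rw [yperm, ← Fintype.card_coe, ← Nat.card_eq_fintype_card]
    refine congrArg (fun k : ℕ => (k : ℂ)) (Nat.card_congr
      ⟨fun f => ⟨⟨f.1, (mem_filter.1 f.2).2.2⟩, Subtype.ext ?_⟩,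
        fun f => ⟨f.1.1, mem_filter.2 ⟨mem_univ _, ?_, f.1.2⟩⟩, fun _ => rfl, fun _ => rfl⟩)
    · funext x
      show f.1 (σ⁻¹ x) = f.1 x
      simpa using (congrFun (mem_filter.1 f.2).2.1 (σ⁻¹ x)).symm
    · funext x
      have := congrFun (congrArg Subtype.val f.2) (σ x)
      change f.1.1 (σ⁻¹ (σ x)) = f.1.1 (σ x) at this
      simpa using this.symm
  rw [h, CfsgLib.Char.natCard_fixedBy_eq_sum_orbits]
  exact CfsgLib.Char.isCharacter_sum _ fun ω _ =>
    CfsgLib.Char.isCharacter_indFun _ CfsgLib.Char.isCharacter_one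

theorem fchar_isGeneralized (α : Fin N → ℕ) :
    Cfsg.IsGeneralizedCharacter (Equiv.Perm ι) (fun σ => (fchar α σ : ℂ)) := by
  have h : (fun σ : Equiv.Perm ι => (fchar α σ : ℂ)) = ∑ κ : Equiv.Perm (Fin N),
      (((if ∀ i : Fin N, (κ i).val ≤ α i then (Equiv.Perm.sign κ : ℤ) else 0) : ℤ) : ℂ) •
        fun σ => (yperm (fun i => α i - (κ i).val) σ : ℂ) := funext fun σ => by
    simp only [fchar, Finset.sum_apply, Int.cast_sum, Pi.smul_apply, smul_eq_mul]
    refine sum_congr rfl fun κ _ => ?_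
    split <;> simp
  rw [h]
  exact CfsgLib.Char.isGeneralized_sum _ fun κ _ => CfsgLib.Char.isGeneralized_zsmul
    (CfsgLib.Char.isGeneralized_of_isCharacter (yperm_isCharacter _)) _

theorem exists_irr_eq {α : Fin N → ℕ} (hα : α ∈ monos N (Fintype.card ι)) :
    ∃ χ : Cfsg.IrrCharacter (Equiv.Perm ι), ∃ e : ℤ, (e = 1 ∨ e = -1) ∧
      ∀ σ, (χ : Equiv.Perm ι → ℂ) σ = (e : ℂ) * (fchar α σ : ℂ) := by
  classical
  obtain ⟨hs, hmono⟩ := mem_monos.1 hα
  have hn : Cfsg.classInner (fun σ : Equiv.Perm ι => (fchar α σ : ℂ))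
      (fun σ => (fchar α σ : ℂ)) = 1 := by
    have := sum_fchar_mul (ι := ι) hmono hmono hs
    rw [if_pos rfl] at this
    have h3 : (∑ σ : Equiv.Perm ι, (fchar α σ : ℂ) * (fchar α σ : ℂ)) =
        ((Fintype.card ι).factorial : ℂ) := by exact_mod_cast this
    rw [CfsgLib.Char.classInner_def]
    simp only [map_intCast]
    rw [h3, Nat.card_eq_fintype_card, Fintype.card_perm, inv_mul_cancel₀]
    exact_mod_cast (Fintype.card ι).factorial_ne_zero
  rcases CfsgLib.Char.isGeneralized_norm_one (fchar_isGeneralized α) hn with h | h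
  · exact ⟨⟨_, h⟩, 1, Or.inl rfl, fun σ => by simp⟩
  · exact ⟨⟨_, h⟩, -1, Or.inr rfl, fun σ => by simp⟩

/-- The irreducible character belonging to an increasing tuple. -/
noncomputable def irrOf (α : {α : Fin N → ℕ // α ∈ monos N (Fintype.card ι)}) :
    Cfsg.IrrCharacter (Equiv.Perm ι) :=
  (exists_irr_eq α.2).choose

theorem irrOf_spec (α : {α : Fin N → ℕ // α ∈ monos N (Fintype.card ι)}) :
    ∃ e : ℤ, (e = 1 ∨ e = -1) ∧
      ∀ σ, (irrOf α : Equiv.Perm ι → ℂ) σ = (e : ℂ) * (fchar α.1 σ : ℂ) :=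
  (exists_irr_eq α.2).choose_spec

theorem irrOf_injective : Function.Injective (irrOf (N := N) (ι := ι)) := by
  intro α β h
  obtain ⟨e, he, hα⟩ := irrOf_spec α
  obtain ⟨e', he', hβ⟩ := irrOf_spec β
  obtain ⟨hs, hm⟩ := mem_monos.1 α.2
  by_contra hne
  have h0 := sum_fchar_mul (ι := ι) hm (mem_monos.1 β.2).2 hs
  rw [if_neg fun hh => hne (Subtype.ext hh)] at h0
  have h1 := sum_fchar_mul (ι := ι) hm hm hs
  rw [if_pos rfl] at h1
  have h2 : ∀ σ, fchar β.1 σ = e' * e * fchar α.1 σ := fun σ => by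
    have := hβ σ
    rw [← h, hα σ] at this
    have h' : e * fchar α.1 σ = e' * fchar β.1 σ := by exact_mod_cast this
    rcases he' with rfl | rfl <;> linarith
  simp only [h2, mul_left_comm _ (e' * e), ← mul_sum, h1] at h0
  rcases he with rfl | rfl <;> rcases he' with rfl | rfl <;>
    simp [Nat.factorial_ne_zero] at h0

theorem natCard_conjClasses_le :
    Nat.card (ConjClasses (Equiv.Perm ι)) ≤ Nat.card (Fintype.card ι).Partition := by
  refine Nat.card_le_card_of_injective
    (Quotient.lift (fun σ : Equiv.Perm ι => σ.partition)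
      fun a b h => Equiv.Perm.partition_eq_of_isConj.1 h) ?_
  intro x y h
  induction x using Quotient.inductionOn with
  | h a =>
    induction y using Quotient.inductionOn with
    | h b => exact Quotient.sound (Equiv.Perm.partition_eq_of_isConj.2 h)

theorem exists_tuple_of_partition {n : ℕ} (hn : n ≤ N) :
    ∃ f : n.Partition → {α : Fin N → ℕ // α ∈ monos N n}, Function.Injective f := by
  classical
  have hcard : ∀ P : n.Partition, Multiset.card P.parts ≤ N := fun P => by
    have h := Multiset.card_nsmul_le_sum (a := 1) (s := P.parts) fun x hx => P.parts_pos hx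
    rw [P.parts_sum] at h
    exact (by simpa using h : Multiset.card P.parts ≤ n).trans hn
  let L : n.Partition → List ℕ := fun P =>
    (P.parts + Multiset.replicate (N - Multiset.card P.parts) 0).sort (· ≤ ·)
  have hlen : ∀ P, (L P).length = N := fun P => by
    simp [L, Nat.add_sub_cancel' (hcard P)]
  have hmap : ∀ P, (Finset.univ.val.map fun i : Fin N => (L P).get (i.cast (hlen P).symm)) =
      P.parts + Multiset.replicate (N - Multiset.card P.parts) 0 := fun P => by
    conv_rhs => rw [← Multiset.sort_eq (P.parts + _) (· ≤ ·)]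
    rw [Fin.univ_val_map]
    refine congrArg _ (List.ext_getElem (by simp only [List.length_ofFn]; exact (hlen P).symm) fun i h1 h2 => by simp [L])
  refine ⟨fun P => ⟨fun i => i.val + (L P).get (i.cast (hlen P).symm), mem_monos.2 ⟨?_, ?_⟩⟩,
    fun P Q h => ?_⟩
  · rw [sum_add_distrib]
    refine congrArg₂ (· + ·) rfl ?_
    show ((Finset.univ.val.map fun i : Fin N => (L P).get (i.cast (hlen P).symm))).sum = n
    rw [hmap]
    simp [P.parts_sum]
  · intro i j hij
    refine add_lt_add_of_lt_of_le hij ?_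
    have hs : (L P).Pairwise (· ≤ ·) := Multiset.pairwise_sort _ _
    exact List.pairwise_iff_get.1 hs _ _ hij
  · have h' : ∀ i : Fin N, (L P).get (i.cast (hlen P).symm) = (L Q).get (i.cast (hlen Q).symm) :=
      fun i => by
        have := congrFun (congrArg Subtype.val h) i
        simpa using this
    have e := hmap P
    rw [show (fun i : Fin N => (L P).get (i.cast (hlen P).symm)) = _ from funext h', hmap Q] at e
    have e2 := congrArg (Multiset.filter fun x => 0 < x) e
    rw [Multiset.filter_add, Multiset.filter_add,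
      Multiset.filter_eq_self.2 fun x hx => Q.parts_pos hx,
      Multiset.filter_eq_self.2 fun x hx => P.parts_pos hx,
      Multiset.filter_eq_nil.2 fun x hx => by simp [Multiset.eq_of_mem_replicate hx],
      Multiset.filter_eq_nil.2 fun x hx => by simp [Multiset.eq_of_mem_replicate hx],
      add_zero, add_zero] at e2
    exact Nat.Partition.ext e2.symm

theorem irrOf_bijective (hN : Fintype.card ι ≤ N) :
    Function.Bijective (irrOf (N := N) (ι := ι)) := by
  classical
  refine ⟨irrOf_injective, ?_⟩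
  have hfin : Finite (Cfsg.IrrCharacter (Equiv.Perm ι)) := CfsgLib.Char.finite_irrCharacter
  refine (irrOf_injective.bijective_of_nat_card_le ?_).2
  obtain ⟨f, hf⟩ := exists_tuple_of_partition hN
  rw [CfsgLib.Char.irr_card_eq]
  exact natCard_conjClasses_le.trans (Nat.card_le_card_of_injective f hf)

/-- Column orthogonality. -/
theorem sum_tuples_eq_zero (hN : Fintype.card ι ≤ N) {σ τ : Equiv.Perm ι} (h : ¬ IsConj σ τ) :
    ∑ γ ∈ tuples N (Fintype.card ι), (fchar γ σ : ℂ) * (fchar γ τ : ℂ) = 0 := by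
  classical
  have := Fintype.ofFinite (Cfsg.IrrCharacter (Equiv.Perm ι))
  rw [sum_tuples _ _ (fun γ π => ?_) (fun γ hγ => by simp [fchar_eq_zero γ hγ]),
    ← Finset.sum_coe_sort]
  · have h2 := CfsgLib.Char.column_orthogonality σ τ
    rw [if_neg h, ← Fintype.sum_bijective _ (irrOf_bijective hN) _ _ fun _ => rfl] at h2
    rw [sum_congr rfl fun α _ => ?_, h2, smul_zero]
    obtain ⟨e, he, hα⟩ := irrOf_spec α
    rw [hα, hα, map_mul, map_intCast, map_intCast]
    rcases he with rfl | rfl <;> simp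
  · rw [fchar_comp, fchar_comp]
    rcases Int.units_eq_one_or (Equiv.Perm.sign π) with hu | hu <;> simp [hu]

theorem exists_fchar_eq (hN : Fintype.card ι ≤ N) (χ : Cfsg.IrrCharacter (Equiv.Perm ι)) :
    ∃ α ∈ monos N (Fintype.card ι), ∃ e : ℤ, (e = 1 ∨ e = -1) ∧
      ∀ σ, (χ : Equiv.Perm ι → ℂ) σ = (e : ℂ) * (fchar α σ : ℂ) := by
  obtain ⟨α, rfl⟩ := (irrOf_bijective hN).2 χ
  exact ⟨α.1, α.2, irrOf_spec α⟩

/-- Adding a hook of given length in all possible ways gives a function vanishing at the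
permutations without a cycle of that length. -/
theorem sum_add_single_eq_zero {κ : Type} [Fintype κ] [DecidableEq κ] [Nonempty κ]
    (c : Equiv.Perm κ) (hc : ∀ f : κ → Fin N, f ∘ c = f → ∀ x y, f x = f y)
    (hN : Fintype.card (κ ⊕ ι) ≤ N) {σ : Equiv.Perm (κ ⊕ ι)}
    (hσ : ∀ τ : Equiv.Perm ι, ¬ IsConj σ (Equiv.sumCongr c τ))
    {β : Fin N → ℕ} (hβ : β ∈ tuples N (Fintype.card ι)) :
    ∑ i, fchar (β + Pi.single i (Fintype.card κ)) σ = 0 := by
  classical
  set q := Fintype.card κ
  have key := eq_zero_of_forall_sum (ι := ι) (V := ℂ)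
    (fun δ => ((∑ i, fchar (δ + Pi.single i q) σ : ℤ) : ℂ)) ?_ ?_ ?_ hβ
  · exact_mod_cast key
  · intro α π
    rw [smul_eq_mul, ← Int.cast_mul, mul_sum]
    refine congrArg _ (Fintype.sum_equiv π _ _ fun i => ?_)
    rw [← fchar_comp]
    refine congrArg (fchar · σ) (funext fun j => ?_)
    simp [Pi.single_apply, Equiv.apply_eq_iff_eq]
  · intro α hα
    rw [Function.not_injective_iff] at hα
    obtain ⟨a, b, hab, hne⟩ := hα
    rw [Int.cast_eq_zero, sum_eq_add a b hne]
    · have h : α + Pi.single b q = (α + Pi.single a q) ∘ Equiv.swap a b := funext fun j => by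
        rcases eq_or_ne j a with rfl | ha
        · simp [Pi.single_apply, hne, hne.symm, hab]
        rcases eq_or_ne j b with rfl | hb
        · simp [Pi.single_apply, hne, hne.symm, hab]
        simp [Pi.single_apply, Equiv.swap_apply_of_ne_of_ne ha hb, ha, hb]
      rw [h, fchar_comp, Equiv.Perm.sign_swap hne]
      simp
    · intro i _ hi
      refine fchar_eq_zero _ (fun hinj => hne (hinj ?_)) σ
      simp [Pi.single_apply, Ne.symm hi.1, Ne.symm hi.2, hab]
    · simp
    · simp
  · intro τ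
    have h := sum_tuples_eq_zero hN (σ := σ) (τ := Equiv.sumCongr c τ) (hσ τ)
    simp only [fchar_sumCongr c hc, Int.cast_sum, Int.cast_ite, Int.cast_zero, mul_sum,
      mul_ite, mul_zero, Fintype.card_sum] at h
    rw [sum_tuples_shift (Fintype.card κ) (Fintype.card ι)
      (fun (γ : Fin N → ℕ) (i : Fin N) => (fchar γ σ : ℂ) * ((fchar (γ - (Pi.single i (Fintype.card κ) : Fin N → ℕ)) τ : ℤ) : ℂ))] at h
    rw [← h]
    refine sum_congr rfl fun δ _ => ?_
    rw [smul_eq_mul, Int.cast_sum, mul_sum]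
    refine sum_congr rfl fun i _ => ?_
    rw [show δ + Pi.single i q - Pi.single i q = δ from add_tsub_cancel_right δ _, mul_comm]

/-- The decomposition of a permutation along one of its cycles. -/
theorem fchar_eq_sum_cycle_card (σ : Equiv.Perm ι) (a : ι)
    [Fintype {x // σ.SameCycle a x}] :
    ∃ (ι' : Type) (_ : Fintype ι') (_ : DecidableEq ι') (τ : Equiv.Perm ι'),
      Fintype.card {x // σ.SameCycle a x} + Fintype.card ι' = Fintype.card ι ∧
      ∀ α : Fin N → ℕ, fchar α σ = ∑ i, if Fintype.card {x // σ.SameCycle a x} ≤ α i then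
        fchar (α - Pi.single i (Fintype.card {x // σ.SameCycle a x})) τ else 0 := by
  classical
  let P : ι → Prop := fun x => σ.SameCycle a x
  have hP : ∀ x, P (σ x) ↔ P x := fun x => Equiv.Perm.sameCycle_apply_right
  have hP' : ∀ x, ¬ P (σ x) ↔ ¬ P x := fun x => not_congr (hP x)
  have : Nonempty {x // P x} := ⟨⟨a, Equiv.Perm.SameCycle.refl _ _⟩⟩
  refine ⟨{x // ¬ P x}, inferInstance, inferInstance,
    σ.subtypePerm hP', ?_, fun α => ?_⟩
  · rw [← Fintype.card_sum, Fintype.card_congr (Equiv.sumCompl P)]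
  · rw [← fchar_sumCongr (σ.subtypePerm hP) ?_ α (σ.subtypePerm hP'),
      ← fchar_permCongr α (Equiv.sumCompl P)]
    · refine congrArg _ (Equiv.ext fun x => ?_)
      by_cases hx : P x
      · simp [Equiv.permCongr_apply, Equiv.sumCompl_symm_apply_of_pos hx]
      · simp [Equiv.permCongr_apply, Equiv.sumCompl_symm_apply_of_neg hx]
    · intro f hf x y
      have hpow : ∀ (k : ℕ) (z : {x // P x}), f (((σ.subtypePerm hP) ^ k) z) = f z := by
        intro k
        induction k with
        | zero => simp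
        | succ k ih =>
          intro z
          rw [pow_succ', Equiv.Perm.mul_apply]
          exact (congrFun hf _).trans (ih z)
      obtain ⟨k, -, -, hk⟩ := (x.2.symm.trans y.2).exists_pow_eq σ
      have := hpow k x
      rw [Equiv.Perm.subtypePerm_pow, Equiv.Perm.subtypePerm_apply] at this
      rw [← this]
      exact congrArg f (Subtype.ext hk)

theorem fchar_eq_sum_cycle (σ : Equiv.Perm ι) (a : ι) :
    ∃ q : ℕ, 0 < q ∧ ∃ (ι' : Type) (_ : Fintype ι') (_ : DecidableEq ι') (τ : Equiv.Perm ι'),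
      q + Fintype.card ι' = Fintype.card ι ∧ ∀ α : Fin N → ℕ,
        fchar α σ = ∑ i, if q ≤ α i then fchar (α - Pi.single i q) τ else 0 := by
  classical
  have : Nonempty {x // σ.SameCycle a x} := ⟨⟨a, Equiv.Perm.SameCycle.refl _ _⟩⟩
  exact ⟨_, Fintype.card_pos, fchar_eq_sum_cycle_card σ a⟩

end CfsgLib.BlockA.SymBlock
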