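import Cfsg.Agent.Lib.BlockA.SymDefect
import Cfsg.Agent.Lib.Block.Covering
import Cfsg.Agent.Lib.Block.Orthogonality
import Cfsg.Agent.Lib.Block.Induced

/-!
# The characters with one core form one block of the symmetric group
-/

set_option autoImplicit false
set_option linter.unusedSectionVars false

namespace CfsgLib.BlockA.SymBlock

open Finset Cfsg CfsgLib.Block
open scoped Classical

variable {N : ℕ} {ι : Type} [Fintype ι] [DecidableEq ι] {p : ℕ}

theorem self_mem_orbitCen (x : Equiv.Perm ι) : x ∈ orbitCen x :=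
  ⟨Commute.refl x, fun b => Equiv.Perm.sameCycle_apply_right.2 (Equiv.Perm.SameCycle.refl _ _)⟩

/-- An element centralizing the orbit centralizer of `x` preserves the cycles of `x`. -/
theorem sameCycle_of_commute_orbitCen {x g : Equiv.Perm ι}
    (hg : ∀ σ ∈ orbitCen x, Commute g σ) {a : ι} (ha : x a ≠ a) : x.SameCycle a (g a) := by
  set e := x.cycleOf a with he
  have hemem : e ∈ orbitCen x := by
    refine ⟨Equiv.ext fun b => ?_, fun b => ?_⟩
    · simp only [Equiv.Perm.mul_apply, he, Equiv.Perm.cycleOf_apply]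
      by_cases h : x.SameCycle a b
      · rw [if_pos h, if_pos (Equiv.Perm.sameCycle_apply_right.2 h)]
      · rw [if_neg h, if_neg fun h' => h (Equiv.Perm.sameCycle_apply_right.1 h')]
    · rw [he, Equiv.Perm.cycleOf_apply]
      split
      · exact Equiv.Perm.sameCycle_apply_right.2 (Equiv.Perm.SameCycle.refl _ _)
      · exact Equiv.Perm.SameCycle.refl _ _
  by_contra h
  have h1 : e (g a) = g (e a) := congrArg (fun f : Equiv.Perm ι => f a) (hg e hemem).eq.symm
  rw [he, Equiv.Perm.cycleOf_apply, if_neg h, Equiv.Perm.cycleOf_apply_self] at h1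
  exact ha (g.injective h1).symm

/-- A `p`-regular element centralizing the orbit centralizer of `x` fixes the points moved by
`x`. -/
theorem apply_eq_self_of_commute_orbitCen [hp : Fact p.Prime] {x g : Equiv.Perm ι} (hx : x ^ p = 1)
    (hg : ∀ σ ∈ orbitCen x, Commute g σ) (hreg : ¬ p ∣ orderOf g) {a : ι} (ha : x a ≠ a) :
    g a = a := by
  have hxmem := self_mem_orbitCen x
  have hmove := sameCycle_of_commute_orbitCen hg ha
  obtain ⟨i, hi⟩ := hmove
  have hgx := hg x hxmem
  have hpow : ∀ k : ℕ, (g ^ k) a = (x ^ (i * k)) a := by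
    intro k
    induction k with
    | zero => simp
    | succ k ih =>
      rw [pow_succ', Equiv.Perm.mul_apply, ih]
      have := congrArg (fun f : Equiv.Perm ι => f a) (hgx.zpow_right (i * k)).eq
      simp only [Equiv.Perm.mul_apply] at this
      rw [this, ← hi, ← Equiv.Perm.mul_apply, ← zpow_add]
      push_cast
      ring_nf
  have hfix : (x ^ (i * orderOf g)) a = a := by
    rw [← hpow, pow_orderOf_eq_one]
    rfl
  have hdvd : (p : ℤ) ∣ i * orderOf g := by
    by_contra hnd
    obtain ⟨u, v, huv⟩ :=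
      ((Prime.coprime_iff_not_dvd (Nat.prime_iff_prime_int.1 hp.out)).2 hnd).symm
    apply ha
    calc x a = (x ^ (u * (i * orderOf g) + v * (p : ℤ))) a := by rw [huv, zpow_one]
      _ = a := by
        rw [zpow_add, mul_comm v, zpow_mul x (p : ℤ), zpow_natCast, hx, one_zpow, mul_one,
          mul_comm u, zpow_mul]
        exact Equiv.Perm.zpow_apply_eq_self_of_apply_eq_self hfix u
  have hnog : ¬ (p : ℤ) ∣ (orderOf g : ℤ) := fun h => hreg (Int.natCast_dvd_natCast.1 h)
  obtain ⟨j, rfl⟩ := ((Nat.prime_iff_prime_int.1 hp.out).dvd_or_dvd hdvd).resolve_right hnog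
  rw [← hi, zpow_mul, zpow_natCast, hx, one_zpow]
  rfl

theorem cyclesElt_apply_ne [hp : Fact p.Prime] (w m : ℕ) (q : Fin w × Fin p) :
    cyclesElt p w m (Sum.inl q) ≠ Sum.inl q := by
  intro h
  simp only [cyclesElt, Equiv.sumCongr_apply, Sum.map_inl, Sum.inl.injEq,
    Prod.ext_iff] at h
  obtain ⟨k, hk⟩ : ∃ k, p = k + 2 := ⟨p - 2, by have := hp.out.two_le; omega⟩
  subst hk
  have := Equiv.Perm.mem_support.1 (support_finRotate (n := k) ▸ mem_univ q.2)
  exact this h.2

/-- The characters with one core are in one block. -/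
theorem sameBlock_of_mem_coreSet [hp : Fact p.Prime] {M : Ideal AlgInt} (hM : IsPModular p M)
    {c : ℕ → ℕ} {χ χ' : IrrCharacter (Equiv.Perm ι)}
    (hχ : χ ∈ coreSet N p ι c) (hχ' : χ' ∈ coreSet N p ι c) :
    SameBlock M (χ : Equiv.Perm ι → ℂ) (χ' : Equiv.Perm ι → ℂ) := by
  have := isPrime_of_pmodular hM
  have hp0 := hp.out.pos
  obtain ⟨α, hα, hc, -⟩ := hχ.out
  obtain ⟨hsum, hmono⟩ := mem_monos.1 hα
  set w := coreWeight p α with hwdef
  have hw : p * w ≤ Fintype.card ι := mul_coreWeight_le hp0 hmono.injective (mem_tuples.2 hsum)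
  set m := Fintype.card ι - p * w with hm
  let ee : (Fin w × Fin p) ⊕ Fin m ≃ ι := Fintype.equivOfCardEq (by
    simp only [Fintype.card_sum, Fintype.card_prod, Fintype.card_fin]
    rw [mul_comm w p]
    omega)
  set x := ee.permCongr (cyclesElt p w m) with hxdef
  have hx : x ^ p = 1 := by
    show (ee.permCongrHom (cyclesElt p w m)) ^ p = 1
    rw [← map_pow, cyclesElt_pow_eq_one hp0, map_one]
  have hxo : ∃ k : ℕ, orderOf x = p ^ k := by
    obtain ⟨k, -, hk⟩ := (Nat.dvd_prime_pow hp.out).1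
      (show orderOf x ∣ p ^ 1 by rw [pow_one]; exact orderOf_dvd_of_pow_eq_one hx)
    exact ⟨k, hk⟩
  set C := Subgroup.centralizer ({x} : Set (Equiv.Perm ι))
  let j0 : Equiv.Perm (Fin m) →* Equiv.Perm ι :=
    ee.permCongrHom.toMonoidHom.comp
      ((Equiv.Perm.sumCongrHom (Fin w × Fin p) (Fin m)).comp (MonoidHom.inr _ _))
  have hxj : ∀ τ, x * j0 τ = ee.permCongr (cyclesMul p w τ) := fun τ => by
    refine Equiv.ext fun a => ?_
    obtain ⟨z, rfl⟩ := ee.surjective a
    rcases z with q | t <;> simp [x, j0, cyclesMul, cyclesElt, Equiv.permCongr_apply]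
  have hjC : ∀ τ, j0 τ ∈ C := fun τ => Subgroup.mem_centralizer_singleton_iff.2 <| by
    refine Equiv.ext fun a => ?_
    obtain ⟨z, rfl⟩ := ee.surjective a
    rcases z with q | t <;> simp [x, j0, cyclesElt, Equiv.permCongr_apply]
  let j : Equiv.Perm (Fin m) →* C := j0.codRestrict C hjC
  have hjinj : Function.Injective j := by
    intro a b h
    have h' : ee.permCongrHom (Equiv.Perm.sumCongrHom (Fin w × Fin p) (Fin m) (1, a)) =
        ee.permCongrHom (Equiv.Perm.sumCongrHom (Fin w × Fin p) (Fin m) (1, b)) :=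
      congrArg Subtype.val h
    exact (Prod.ext_iff.1 (Equiv.Perm.sumCongrHom_injective (ee.permCongrHom.injective h'))).2
  set S := j.range with hSdef
  have hS : ∀ k : C, k ∈ S ↔ ∀ a, x a ≠ a → (k : Equiv.Perm ι) a = a := by
    intro k
    constructor
    · rintro ⟨τ, rfl⟩ a ha
      obtain ⟨z, rfl⟩ := ee.surjective a
      rcases z with q | t
      · simp [j, j0, Equiv.permCongr_apply]
      · exact absurd (by simp [x, cyclesElt, Equiv.permCongr_apply]) ha
    · intro h
      set σ := ee.symm.permCongr (k : Equiv.Perm ι) with hσ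
      have hfix : ∀ q, σ (Sum.inl q) = Sum.inl q := fun q => by
        rw [hσ, Equiv.permCongr_apply, Equiv.symm_symm, h _ fun hh => cyclesElt_apply_ne w m q
          (ee.injective (by simpa [x, Equiv.permCongr_apply] using hh)), Equiv.symm_apply_apply]
      obtain ⟨⟨σ1, σ2⟩, hσ12⟩ := Equiv.Perm.mem_sumCongrHom_range_of_perm_mapsTo_inl (σ := σ)
        (by rintro _ ⟨q, rfl⟩; exact ⟨q, (hfix q).symm⟩)
      have h1 : σ1 = 1 := Equiv.ext fun q => by
        have := hfix q
        rw [← hσ12] at this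
        simpa using this
      subst h1
      refine ⟨σ2, Subtype.ext ?_⟩
      show ee.permCongrHom (Equiv.Perm.sumCongrHom _ _ (1, σ2)) = _
      rw [hσ12, hσ]
      exact Equiv.ext fun a => by simp [Equiv.permCongr_apply]
  have hSn : S.Normal := ⟨fun k hk d => (hS _).2 fun a ha => by
    have hd : Commute (d : Equiv.Perm ι) x := Subgroup.mem_centralizer_singleton_iff.1 d.2
    have hb : x ((d : Equiv.Perm ι)⁻¹ a) ≠ (d : Equiv.Perm ι)⁻¹ a := fun hb => ha (by
      have h2 : x ((d : Equiv.Perm ι)⁻¹ a) = (d : Equiv.Perm ι)⁻¹ (x a) :=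
        congrArg (fun f : Equiv.Perm ι => f a) hd.inv_left.eq.symm
      rw [h2] at hb
      exact (d : Equiv.Perm ι)⁻¹.injective hb)
    simp only [Subgroup.coe_mul, Subgroup.coe_inv, Equiv.Perm.mul_apply]
    rw [(hS k).1 hk _ hb]
    simp⟩
  set E := (orbitCen x).subgroupOf C with hE
  have hEn : E.Normal := orbitCen_normal x
  have hEp : IsPGroup p E := fun y => ⟨1, by
    rw [pow_one]
    exact Subtype.ext (Subtype.ext (by simpa using orbitCen_pow_eq_one hx y.2))⟩
  -- block idempotents of the centralizer are supported on `S`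
  have hsupp : ∀ b : Set (IrrCharacter C), IsPBlock M b → ∀ k ∉ S,
      (blkIdem M b : MonoidAlgebra (kres M) C).coeff k = 0 := by
    intro b hb k hk
    by_contra hne
    refine hk ((hS k).2 fun a ha => apply_eq_self_of_commute_orbitCen hx (fun σ hσ => ?_) ?_ ha)
    · have h := mem_centralizer_of_coeff_blkIdem_ne_zero hM hEp hb hne
      exact (congrArg Subtype.val (Subgroup.mem_centralizer_iff.1 h
        ⟨σ, orbitCen_le_centralizer x hσ⟩ (Subgroup.mem_subgroupOf.2 hσ))).symm
    · intro hd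
      rw [Subgroup.orderOf_coe] at hd
      exact hne (by
        rw [coeff_blkIdem, blockCoeff_eq_zero_of_singular hM hb hd, redC_zero])
  have hsame : ∀ (ξ ξ' : IrrCharacter C) (μ : IrrCharacter S),
      classInner (fun s : S => (ξ : C → ℂ) s) (μ : S → ℂ) ≠ 0 →
      classInner (fun s : S => (ξ' : C → ℂ) s) (μ : S → ℂ) ≠ 0 →
      ξ' ∈ blockOf M (ξ : C → ℂ) := by
    intro ξ ξ' μ h h'
    have hb := isPBlock_blockOf (M := M) ξ
    have e1 := lam_eq_lam_resZ h (blkIdem M (blockOf M (ξ : C → ℂ))) (hsupp _ hb)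
    have e2 := lam_eq_lam_resZ h' (blkIdem M (blockOf M (ξ : C → ℂ))) (hsupp _ hb)
    rw [lam_blkIdem hM hb, if_pos (mem_blockOf_self ξ)] at e1
    rw [← e1, lam_blkIdem hM hb] at e2
    by_contra hn
    rw [if_neg hn] at e2
    exact zero_ne_one e2
  -- the character of `S` of the common core
  have hcs : coreBead p α ∈ tuples N (Fintype.card (Fin m)) := by
    have := sum_eq_sum_core (p := p) hmono.injective
    rw [mem_tuples, Fintype.card_fin, hm]
    change ∑ i, α i = ∑ i, coreBead p α i + p * w at this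
    omega
  obtain ⟨μm, e1, he1, hμm⟩ := exists_irr_eq (sort_mem_monos hcs
    (coreBead_injective hp0 hmono.injective))
  let jr : Equiv.Perm (Fin m) ≃* S := MonoidHom.ofInjective hjinj
  let μ0 : IrrCharacter S := ⟨fun s => (μm : Equiv.Perm (Fin m) → ℂ) (jr.symm s),
    CfsgLib.Char.isIrrCharacter_comp_surjective μm.2 jr.symm.toMonoidHom jr.symm.surjective⟩
  obtain ⟨ξ0, hξ0⟩ := exists_over_constituent (N := S) μ0
  have key : ∀ ψ ∈ coreSet N p ι c, IsInducedBlock M C (blockOf M (ξ0 : C → ℂ))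
      (blockOf M (ψ : Equiv.Perm ι → ℂ)) := by
    intro ψ hψ
    obtain ⟨β, hβ, hcβ, e, he, hv⟩ := hψ
    obtain ⟨hsβ, hmβ⟩ := mem_monos.1 hβ
    have hwβ : coreWeight p β = w := coreWeight_eq_of_resCount hp0 hmβ.injective hmono.injective
      (hcβ.trans hc.symm) (hsβ.trans hsum.symm)
    obtain ⟨π, hπ⟩ := exists_core_perm hp0 hmono.injective hmβ.injective (hc.trans hcβ.symm)
    have hval : ∃ K : ℂ, K ≠ 0 ∧ ∀ τ, (ψ : Equiv.Perm ι → ℂ) (x * j0 τ) =
        K * (μm : Equiv.Perm (Fin m) → ℂ) τ := by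
      obtain ⟨P, hP, hPv⟩ := exists_fchar_cyclesMul hp0 m w β hmβ.injective hwβ
      set srt := Tuple.sort (coreBead p α) with hsrt
      have hγ : coreBead p β = (coreBead p α ∘ srt) ∘ ⇑(srt⁻¹ * π) := funext fun i => by
        rw [hπ]
        simp
      refine ⟨(e : ℂ) * P * ((Equiv.Perm.sign (srt⁻¹ * π) : ℤ) : ℂ) * e1, ?_, fun τ => ?_⟩
      · rcases he with rfl | rfl <;> rcases he1 with rfl | rfl <;>
          rcases Int.units_eq_one_or (Equiv.Perm.sign (srt⁻¹ * π)) with hu | hu <;>
          simp [hu, hP.ne']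
      · rw [hv, hxj, fchar_permCongr, hPv τ, hγ, fchar_comp, hμm]
        have : (e1 : ℂ) * e1 = 1 := by rcases he1 with rfl | rfl <;> simp
        push_cast
        linear_combination
          (-(e : ℂ) * P * ((Equiv.Perm.sign (srt⁻¹ * π) : ℤ) : ℂ) *
            (fchar (coreBead p α ∘ srt) τ : ℂ)) * this
    obtain ⟨K, hK, hval⟩ := hval
    set θ : C → ℂ := fun k => (ψ : Equiv.Perm ι → ℂ) (x * (k : Equiv.Perm ι)) with hθ
    have hθc : IsClassFunction C θ := by
      intro g h
      simp only [hθ, Subgroup.coe_mul, Subgroup.coe_inv]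
      have hh : Commute (h : Equiv.Perm ι) x := Subgroup.mem_centralizer_singleton_iff.1 h.2
      rw [show x * ((h : Equiv.Perm ι) * g * (h : Equiv.Perm ι)⁻¹) =
        (h : Equiv.Perm ι) * (x * g) * (h : Equiv.Perm ι)⁻¹ by
          rw [← mul_assoc, ← mul_assoc, ← hh.eq, mul_assoc (h : Equiv.Perm ι) x]]
      exact CfsgLib.Char.irr_isClassFunction ψ.2 _ _
    have h1 : θ 1 ≠ 0 := by
      have := hval 1
      rw [map_one, mul_one] at this
      simp only [hθ, OneMemClass.coe_one, mul_one, this]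
      exact mul_ne_zero hK (CfsgLib.Char.irr_apply_one_ne_zero μm.2)
    have hsum' := sum_blockPart (M := M) hθc 1
    obtain ⟨b, hb, hb0⟩ := exists_ne_zero_of_sum_ne_zero (hsum' ▸ h1 :
      ∑ b ∈ allBlocks M C, blockPart b θ 1 ≠ 0)
    have hbB := mem_allBlocks.1 hb
    have hind : IsInducedBlock M C b (blockOf M (ψ : Equiv.Perm ι → ℂ)) := by
      by_contra hnot
      exact hb0 (blockPart_centralizer_eq_zero hM hxo (isPBlock_blockOf ψ) (mem_blockOf_self ψ)
        hbB hnot (y := 1) (by rw [orderOf_one]; exact hp.out.not_dvd_one))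
    suffices hbe : b = blockOf M (ξ0 : C → ℂ) by rwa [← hbe]
    by_contra hne
    apply hb0
    let T : Set (IrrCharacter S) :=
      {μ | ∃ ξ ∈ b, classInner (fun s : S => (ξ : C → ℂ) s) (μ : S → ℂ) ≠ 0}
    have hTinv : ∀ μ ∈ T, ∀ g : C, conjIrr S μ g ∈ T := fun μ ⟨ξ, hξ, h⟩ g =>
      ⟨ξ, hξ, by rwa [classInner_res_conjIrr]⟩
    have hμ0T : μ0 ∉ T := fun ⟨ξ, hξ, h⟩ => hne (by
      have h' := hsame ξ0 ξ μ0 hξ0 h
      rw [isPBlock_eq_blockOf hbB hξ]
      exact blockOf_eq_of_mem h')
    have hbs : blockSum b = inclSub S (blockSum T) := by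
      refine eq_of_omegaC_eq (blockSum_isClassCoeff b) (inclSub_blockSum_isClassCoeff hTinv)
        fun ξ => ?_
      obtain ⟨μ, hμ⟩ := exists_constituent_res (N := S) ξ
      rw [omegaC_blockSum, omegaC_inclSub_blockSum hTinv hμ]
      refine if_congr ⟨fun h => ⟨ξ, h, hμ⟩, fun ⟨ξ', hξ', h'⟩ => ?_⟩ rfl rfl
      rw [isPBlock_eq_blockOf hbB hξ']
      exact hsame ξ' ξ μ h' hμ
    have hz : ∀ k ∉ S, blockCoeff b k = 0 := fun k hk => by
      have h := congrArg (fun a : MonoidAlgebra ℂ C => a.coeff k) hbs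
      simp only [blockSum, coeff_mkGA] at h
      rw [h, coeff_inclSub_of_not_mem S _ hk]
    rw [blockPart_eq_sum b hθc, ← Finset.sum_subset (Finset.subset_univ
        (Finset.univ.filter (· ∈ S))) (fun k _ hk => by rw [hz k (by simpa using hk), zero_mul]),
      Finset.sum_subtype _ (p := (· ∈ S)) (by simp)]
    have hterm : ∀ s : S, blockCoeff b (s : C) * θ ((s : C) * 1) =
        K * (blockCoeff T s * (μ0 : S → ℂ) (s * 1)) := by
      intro s
      have h := congrArg (fun a : MonoidAlgebra ℂ C => a.coeff (s : C)) hbs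
      simp only [coeff_inclSub_of_mem, blockSum, coeff_mkGA] at h
      rw [h, mul_one, mul_one]
      have hs : j0 (jr.symm s) = ((s : C) : Equiv.Perm ι) := by
        conv_rhs => rw [← jr.apply_symm_apply s]
        rfl
      simp only [hθ]
      rw [← hs, hval]
      show _ = K * (_ * (μm : Equiv.Perm (Fin m) → ℂ) (jr.symm s))
      ring
    rw [sum_congr rfl fun s _ => hterm s, ← mul_sum,
      ← blockPart_eq_sum T (CfsgLib.Char.irr_isClassFunction μ0.2)]
    unfold blockPart
    refine mul_eq_zero_of_right _ (finsum_eq_zero_of_forall_eq_zero fun μ => ?_)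
    rw [finsum_eq_if]
    split_ifs with hμ
    · refine mul_eq_zero_of_left ?_ _
      convert (CfsgLib.Char.irr_classInner μ0.2 μ.2).trans
        (if_neg fun h => hμ0T (by rwa [Subtype.ext h]))
    · rfl
  have := isInducedBlock_unique C (key χ hχ) (key χ' hχ')
  show χ' ∈ blockOf M (χ : Equiv.Perm ι → ℂ)
  rw [this]
  exact mem_blockOf_self χ'

end CfsgLib.BlockA.SymBlock
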