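import Cfsg.Agent.Lib.BlockA.SymBlocks
import Cfsg.Prelude.Def_BlockRank
import Mathlib.LinearAlgebra.Quotient.Basic
import Mathlib.LinearAlgebra.Dimension.Constructions

/-!
# The rank of a block of a symmetric group is less than `p` to the power of its weight
-/

set_option autoImplicit false
set_option linter.unusedSectionVars false

namespace CfsgLib.BlockA.SymBlock

open Finset

variable {N : ℕ} {ι : Type} [Fintype ι] [DecidableEq ι] {p : ℕ}

theorem beadRank_comp (α : Fin N → ℕ) (π : Equiv.Perm (Fin N)) (i : Fin N) :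
    beadRank p (α ∘ π) i = beadRank p α (π i) :=
  Finset.card_equiv π (by simp)

theorem beadDisp_comp (α : Fin N → ℕ) (π : Equiv.Perm (Fin N)) (i : Fin N) :
    beadDisp p (α ∘ π) i = beadDisp p α (π i) := by
  rw [beadDisp, beadDisp, beadRank_comp]; rfl

theorem stair_le {r : ℕ} {γ : Fin r → ℕ} (hγ : Function.Injective γ) : stair r ≤ ∑ i, γ i := by
  rw [← Equiv.sum_comp (Tuple.sort γ) γ]
  have hs : StrictMono (γ ∘ Tuple.sort γ) :=
    (Tuple.monotone_sort γ).strictMono_of_injective (hγ.comp (Tuple.sort γ).injective)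
  refine sum_le_sum fun i _ => ?_
  have key : ∀ k (hk : k < r), k ≤ (γ ∘ Tuple.sort γ) ⟨k, hk⟩ := by
    intro k
    induction k with
    | zero => exact fun _ => Nat.zero_le _
    | succ k ih =>
      intro hk
      exact Nat.succ_le_of_lt ((ih (k.lt_succ_self.trans hk)).trans_lt
        (hs (Fin.mk_lt_mk.2 k.lt_succ_self)))
  exact key i.1 i.2

theorem mul_coreWeight_le (hp : 0 < p) {n : ℕ} {α : Fin N → ℕ} (hα : Function.Injective α)
    (hs : α ∈ tuples N n) : p * coreWeight p α ≤ n := by
  have h1 := sum_eq_sum_core (p := p) hα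
  have h2 := stair_le (coreBead_injective hp hα)
  rw [mem_tuples] at hs
  omega

theorem sum_disp_residue {α : Fin N → ℕ} (hα : Function.Injective α) :
    ∑ i ∈ univ.filter (fun i => α i % p = 0), beadDisp p α i + stair (resCount p α 0) =
      ∑ i ∈ univ.filter (fun i => α i % p = 0), α i / p := by
  rw [stair, ← sum_beadRank hα 0, ← sum_add_distrib]
  exact sum_congr rfl fun i _ => Nat.sub_add_cancel (beadRank_le hα i)

/-- The restriction of `fchar α` to the `p`-regular permutations. -/
noncomputable def regChar (p : ℕ) (ι : Type) [Fintype ι] [DecidableEq ι] (α : Fin N → ℕ) :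
    Equiv.Perm ι → ℂ :=
  Cfsg.pRegularPart p fun σ => (fchar α σ : ℂ)

theorem regChar_comp (α : Fin N → ℕ) (π : Equiv.Perm (Fin N)) :
    regChar p ι (α ∘ π) = ((Equiv.Perm.sign π : ℤ) : ℂ) • regChar p ι α := by
  funext σ
  simp only [regChar, Cfsg.pRegularPart, Pi.smul_apply, smul_eq_mul, fchar_comp, Int.cast_mul]
  split <;> simp

theorem regChar_eq_zero (α : Fin N → ℕ) (hα : ¬ Function.Injective α) :
    regChar p ι α = 0 := by
  funext σ
  simp [regChar, Cfsg.pRegularPart, fchar_eq_zero α hα]

/-- The configurations with nothing moved on the runner of residue `0`. -/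
noncomputable def goodSet (N p n : ℕ) (c : ℕ → ℕ) : Finset (Fin N → ℕ) := by
  classical
  exact (monos N n).filter fun α =>
    resCount p α = c ∧ ∀ i, α i % p = 0 → beadDisp p α i = 0

theorem mem_goodSet {n : ℕ} {c : ℕ → ℕ} {α : Fin N → ℕ} :
    α ∈ goodSet N p n c ↔ α ∈ monos N n ∧ resCount p α = c ∧
      ∀ i, α i % p = 0 → beadDisp p α i = 0 := by
  classical
  simp [goodSet]

theorem regChar_mem_span (hN : Fintype.card ι ≤ N) (hp : 0 < p) (c : ℕ → ℕ) (k : ℕ) :
    ∀ α : Fin N → ℕ, Function.Injective α → α ∈ tuples N (Fintype.card ι) →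
      resCount p α = c → ∑ i ∈ univ.filter (fun i => α i % p = 0), beadDisp p α i = k →
      regChar p ι α ∈ Submodule.span ℂ
        (regChar p ι '' (goodSet N p (Fintype.card ι) c : Set (Fin N → ℕ))) := by
  classical
  induction k using Nat.strong_induction_on with
  | _ k ih =>
  intro α hα hs hc hk
  set W := Submodule.span ℂ (regChar p ι '' (goodSet N p (Fintype.card ι) c : Set (Fin N → ℕ)))
  rcases Nat.eq_zero_or_pos k with hk0 | hkpos
  · have hd : ∀ i, α i % p = 0 → beadDisp p α i = 0 := fun i hi =>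
      (sum_eq_zero_iff.1 (hk.trans hk0)) i (mem_filter.2 ⟨mem_univ _, hi⟩)
    have hmem : α ∘ Tuple.sort α ∈ goodSet N p (Fintype.card ι) c :=
      mem_goodSet.2 ⟨sort_mem_monos hs hα, (resCount_comp α _).trans hc, fun i hi => by
        rw [beadDisp_comp]; exact hd _ hi⟩
    have h := regChar_comp (p := p) (ι := ι) (α ∘ Tuple.sort α) (Tuple.sort α)⁻¹
    rw [show (α ∘ Tuple.sort α) ∘ ⇑(Tuple.sort α)⁻¹ = α from funext fun i => by simp] at h
    rw [h]
    exact W.smul_mem _ (Submodule.subset_span ⟨_, hmem, rfl⟩)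
  let r := Fintype.card {i // α i % p = 0}
  have hr : r = resCount p α 0 := Fintype.card_subtype _
  let e : Fin r ≃ {i // α i % p = 0} := (Fintype.equivFin _).symm
  let L : (Fin r → ℕ) → Fin N → ℕ := fun γ i =>
    if h : α i % p = 0 then p * γ (e.symm ⟨i, h⟩) else α i
  let γ0 : Fin r → ℕ := fun a => α (e a).1 / p
  have hγ0 : L γ0 = α := funext fun i => by
    by_cases h : α i % p = 0
    · simp only [L, γ0, dif_pos h, Equiv.apply_symm_apply]
      exact Nat.mul_div_cancel' (Nat.dvd_of_mod_eq_zero h)
    · simp only [L, dif_neg h]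
  have hLe : ∀ γ a, L γ (e a).1 = p * γ a := fun γ a => by
    simp only [L, dif_pos (e a).2, Subtype.coe_eta, Equiv.symm_apply_apply]
  have hmod : ∀ γ i, L γ i % p = α i % p := fun γ i => by
    by_cases h : α i % p = 0
    · simp [L, h]
    · simp [L, h]
  have hsumI : ∀ β : Fin N → ℕ, ∑ i ∈ univ.filter (fun i => α i % p = 0), β i =
      ∑ a, β (e a).1 := fun β => by
    rw [Finset.sum_subtype (univ.filter fun i => α i % p = 0) (p := fun i => α i % p = 0)
      (by simp) β, ← Equiv.sum_comp e]
  -- the excess over the staircase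
  have hexc : ∀ β : Fin N → ℕ, Function.Injective β → (∀ i, β i % p = α i % p) →
      ∀ γ : Fin r → ℕ, (∀ a, β (e a).1 = p * γ a) →
      ∑ i ∈ univ.filter (fun i => β i % p = 0), beadDisp p β i + stair r = ∑ a, γ a := by
    intro β hβ hβm γ hβγ
    have h := sum_disp_residue (p := p) hβ
    rw [resCount_congr hβm, ← hr] at h
    rw [h]
    simp only [hβm]
    rw [hsumI]
    exact sum_congr rfl fun a _ => by rw [hβγ, Nat.mul_div_cancel_left _ hp]
  have hγ0s : ∑ a, γ0 a = stair r + k := by
    have := hexc α hα (fun _ => rfl) γ0 (fun a => by rw [← hLe γ0 a, hγ0])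
    rw [hk] at this
    omega
  have hLsum : ∀ γ, ∑ i, L γ i + p * ∑ a, γ0 a = ∑ i, α i + p * ∑ a, γ a := by
    intro γ
    rw [← sum_filter_add_sum_filter_not univ (fun i => α i % p = 0) (L γ),
      ← sum_filter_add_sum_filter_not univ (fun i => α i % p = 0) α, hsumI, hsumI,
      sum_congr rfl (s₁ := univ.filter fun i => ¬ α i % p = 0) (f := L γ)
        (g := α) (fun i hi => by simp only [L, dif_neg (mem_filter.1 hi).2]),
      mul_sum, mul_sum]
    simp only [hLe]
    rw [sum_congr rfl (f := fun a => α (e a).1) (g := fun a => p * γ0 a)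
      fun a _ => by rw [← hLe γ0 a, hγ0]]
    ring
  let v : (Fin r → ℕ) → (Equiv.Perm ι → ℂ) ⧸ W := fun γ => W.mkQ (regChar p ι (L γ))
  suffices hv : v γ0 = 0 by
    simpa [v, hγ0, Submodule.Quotient.mk_eq_zero] using hv
  refine eq_zero_of_forall_sum (ι := Fin k) v (fun γ π => ?_) (fun γ hγ => ?_) (fun σ => ?_)
    (mem_tuples.2 (by rw [Fintype.card_fin]; exact hγ0s))
  · have hL : L (γ ∘ π) = L γ ∘ π.extendDomain e := funext fun i => by
      by_cases h : α i % p = 0
      · obtain ⟨a, ha⟩ := e.surjective ⟨i, h⟩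
        obtain rfl : (e a).1 = i := congrArg Subtype.val ha
        rw [Function.comp_apply, Equiv.Perm.extendDomain_apply_image, hLe, hLe]
        rfl
      · rw [Function.comp_apply, Equiv.Perm.extendDomain_apply_not_subtype _ e h]
        simp only [L, dif_neg h]
    simp only [v, hL, regChar_comp, Equiv.Perm.sign_extendDomain, map_smul]
  · refine (congrArg W.mkQ (regChar_eq_zero _ fun hi => hγ ?_)).trans (map_zero _)
    intro a b hab
    exact e.injective (Subtype.ext (hi (by rw [hLe, hLe, hab])))
  · obtain ⟨q, hq, ι', _, _, τ, hcard, hexp⟩ :=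
      fchar_eq_sum_cycle (N := r) σ ⟨0, hkpos⟩
    rw [Fintype.card_fin] at hcard ⊢
    simp only [hexp, Int.cast_sum, sum_smul, Int.cast_ite, Int.cast_zero, ite_smul, zero_smul]
    rw [← hcard, sum_tuples_shift q (Fintype.card ι') (fun (γ : Fin r → ℕ) (i : Fin r) =>
      (fchar (γ - (Pi.single i q : Fin r → ℕ)) τ : ℂ) • v γ)]
    refine sum_eq_zero fun δ hδ => ?_
    simp only [add_tsub_cancel_right, ← smul_sum]
    refine smul_eq_zero_of_right _ ?_
    set m := Fintype.card ι'
    have hδs := mem_tuples.1 hδ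
    have hpq : p * q ≤ Fintype.card ι := by
      refine le_trans (Nat.mul_le_mul_left p ?_) (mul_coreWeight_le hp hα hs)
      have : k ≤ coreWeight p α := hk ▸ sum_le_sum_of_subset (filter_subset _ _)
      omega
    have hLδ : L δ ∈ tuples N (Fintype.card ι - p * q) := by
      have h1 := hLsum δ
      rw [hγ0s, hδs, mem_tuples.1 hs, ← hcard, Nat.mul_add, Nat.mul_add, Nat.mul_add] at h1
      rw [mem_tuples]
      omega
    have hrel : ∑ i, regChar p ι (L δ + Pi.single i (p * q)) = 0 := by
      funext σ'
      simp only [regChar, Cfsg.pRegularPart, Finset.sum_apply, Pi.zero_apply]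
      by_cases hσ : Cfsg.IsPRegular p σ'
      · simp only [if_pos hσ]
        rw [← Int.cast_sum, sum_add_single_regular hN (Nat.mul_pos hp hq) (by omega)
          (dvd_mul_right p q) hσ hLδ, Int.cast_zero]
      · simp [hσ]
    rw [← sum_filter_add_sum_filter_not univ (fun i => α i % p = 0)] at hrel
    have hrel' := congrArg W.mkQ hrel
    rw [map_add, map_zero, map_sum, map_sum,
      sum_eq_zero (s := univ.filter fun i => ¬ α i % p = 0) fun i hi => ?_, add_zero] at hrel'
    · rw [Finset.sum_subtype (univ.filter fun i => α i % p = 0) (p := fun i => α i % p = 0)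
        (by simp) (fun i => W.mkQ (regChar p ι (L δ + (Pi.single i (p * q) : Fin N → ℕ)))),
        ← Equiv.sum_comp e] at hrel'
      rw [← hrel']
      refine sum_congr rfl fun a _ => congrArg (fun f => W.mkQ (regChar p ι f)) (funext fun i => ?_)
      by_cases h : α i % p = 0
      · obtain ⟨b, hb⟩ := e.surjective ⟨i, h⟩
        obtain rfl : (e b).1 = i := congrArg Subtype.val hb
        rw [hLe, Pi.add_apply, Pi.add_apply, hLe, Nat.mul_add]
        rcases eq_or_ne b a with rfl | hne
        · simp
        · simp [Pi.single_eq_of_ne hne,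
            Pi.single_eq_of_ne (fun hh => hne (e.injective (Subtype.ext hh)) :
              (e b).1 ≠ (e a).1)]
      · simp only [L, Pi.add_apply, dif_neg h]
        rw [Pi.single_eq_of_ne (fun hh => h (by rw [hh]; exact (e a).2)), add_zero]
    · have hi0 := (mem_filter.1 hi).2
      set β : Fin N → ℕ := L δ + Pi.single i (p * q) with hβ
      by_cases hinj : Function.Injective β
      swap
      · rw [regChar_eq_zero β hinj, map_zero]
      have hβm : ∀ j, β j % p = α j % p := fun j => by
        rw [hβ, Pi.add_apply]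
        rcases eq_or_ne j i with rfl | hj
        · rw [Pi.single_eq_same, Nat.add_mul_mod_self_left, hmod]
        · rw [Pi.single_eq_of_ne hj, add_zero, hmod]
      have hex := hexc β hinj hβm δ fun a => by
        rw [hβ, Pi.add_apply, Pi.single_eq_of_ne (fun hh => hi0 (hh ▸ (e a).2) : (e a).1 ≠ i),
          add_zero, hLe]
      refine (Submodule.Quotient.mk_eq_zero W).2 (ih m (by omega) β hinj ?_
        ((resCount_congr hβm).trans hc) (by omega))
      have hLs := mem_tuples.1 hLδ
      rw [mem_tuples, hβ]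
      simp only [Pi.add_apply, sum_add_distrib, sum_pi_single' i, mem_univ, if_true]
      omega

/-- The word of a coloured list of parts. -/
def colourWord [NeZero p] (l : List (Fin p × ℕ)) : List (Fin p) :=
  l.flatMap fun x => x.1 :: List.replicate (x.2 - 1) 0

theorem colourWord_injective [NeZero p] : ∀ l l' : List (Fin p × ℕ),
    (∀ x ∈ l, x.1 ≠ 0 ∧ 0 < x.2) → (∀ x ∈ l', x.1 ≠ 0 ∧ 0 < x.2) →
    colourWord l = colourWord l' → l = l' := by
  have hrep : ∀ (d d' : ℕ) (u u' : List (Fin p)),
      (∀ x, u.head? = some x → x ≠ 0) → (∀ x, u'.head? = some x → x ≠ 0) →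
      List.replicate d 0 ++ u = List.replicate d' 0 ++ u' → d = d' ∧ u = u' := by
    intro d
    induction d with
    | zero =>
      intro d' u u' hu hu' h
      rcases d' with _ | d'
      · exact ⟨rfl, by simpa using h⟩
      · exfalso
        exact hu 0 (by simp at h; simp [h, List.replicate_succ]) rfl
    | succ d ihd =>
      intro d' u u' hu hu' h
      rcases d' with _ | d'
      · exfalso
        exact hu' 0 (by simp at h; simp [← h, List.replicate_succ]) rfl
      · simp only [List.replicate_succ, List.cons_append, List.cons.injEq, true_and] at h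
        obtain ⟨rfl, h2⟩ := ihd d' u u' hu hu' h
        exact ⟨rfl, h2⟩
  intro l
  induction l with
  | nil =>
    intro l' _ _ h
    rcases l' with _ | ⟨x, l'⟩
    · rfl
    · simp [colourWord] at h
  | cons x l ihl =>
    intro l' hl hl' h
    rcases l' with _ | ⟨y, l'⟩
    · simp [colourWord] at h
    · simp only [colourWord, List.flatMap_cons, List.cons_append, List.cons.injEq] at h
      have hhead : ∀ (m : List (Fin p × ℕ)), (∀ z ∈ m, z.1 ≠ 0 ∧ 0 < z.2) → ∀ z,
          (colourWord m).head? = some z → z ≠ 0 := by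
        intro m hm z hz
        rcases m with _ | ⟨a, m⟩
        · simp [colourWord] at hz
        · simp only [colourWord, List.flatMap_cons, List.cons_append, List.head?_cons,
            Option.some.injEq] at hz
          exact hz ▸ (hm a (by simp)).1
      obtain ⟨hd, hu⟩ := hrep _ _ _ _ (hhead l fun z hz => hl z (List.mem_cons_of_mem _ hz))
        (hhead l' fun z hz => hl' z (List.mem_cons_of_mem _ hz)) h.2
      have h1 := (hl x (by simp)).2
      have h2 := (hl' y (by simp)).2
      rw [ihl l' (fun z hz => hl z (List.mem_cons_of_mem _ hz))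
        (fun z hz => hl' z (List.mem_cons_of_mem _ hz)) hu,
        show x = y from Prod.ext h.1 (by omega)]

theorem colourWord_length [NeZero p] : ∀ l : List (Fin p × ℕ),
    (∀ x ∈ l, x.1 ≠ 0 ∧ 0 < x.2) → (colourWord l).length = (l.map Prod.snd).sum := by
  intro l
  induction l with
  | nil => simp [colourWord]
  | cons x l ih =>
    intro h
    have := (h x (by simp)).2
    have := ih fun z hz => h z (List.mem_cons_of_mem _ hz)
    simp only [colourWord, List.flatMap_cons, List.cons_append, List.length_cons,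
      List.length_append, List.length_replicate, List.map_cons, List.sum_cons] at this ⊢
    omega

theorem card_goodSet_add_le (hp : 0 < p) {n w : ℕ} (hw : 0 < w) (c : ℕ → ℕ)
    (hwt : ∀ α ∈ goodSet N p n c, coreWeight p α = w) :
    (goodSet N p n c).card + p ^ (w - 1) ≤ p ^ w := by
  classical
  have : NeZero p := ⟨by omega⟩
  let M : (Fin N → ℕ) → Multiset (Fin p × ℕ) := fun α =>
    (univ.filter fun i => 0 < beadDisp p α i).val.map
      fun i => (⟨α i % p, Nat.mod_lt _ hp⟩, beadDisp p α i)
  let F : (Fin N → ℕ) → Fin w → Fin p := fun α i => (colourWord (M α).toList).getD i.1 0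
  have hM : ∀ α ∈ goodSet N p n c, (∀ x ∈ (M α).toList, x.1 ≠ 0 ∧ 0 < x.2) ∧
      (colourWord (M α).toList).length = w := by
    intro α hα
    have h0 : ∀ x ∈ (M α).toList, x.1 ≠ 0 ∧ 0 < x.2 := by
      intro x hx
      rw [Multiset.mem_toList, Multiset.mem_map] at hx
      obtain ⟨i, hi, rfl⟩ := hx
      have hi' : 0 < beadDisp p α i := (mem_filter.1 (Finset.mem_def.2 hi)).2
      refine ⟨fun hh => ?_, hi'⟩
      have := (mem_goodSet.1 hα).2.2 i (by simpa [Fin.ext_iff] using hh)
      omega
    refine ⟨h0, ?_⟩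
    rw [colourWord_length _ h0, ← Multiset.sum_coe, ← Multiset.map_coe, Multiset.coe_toList,
      Multiset.map_map]
    refine Eq.trans ?_ (hwt α hα)
    exact sum_filter_of_ne (f := fun i => beadDisp p α i) (fun i _ h => Nat.pos_of_ne_zero h)
  have hne : ∀ α ∈ goodSet N p n c, F α ⟨0, hw⟩ ≠ 0 := by
    intro α hα h
    obtain ⟨h0, hl⟩ := hM α hα
    have := h
    simp only [F] at this
    generalize (M α).toList = l at h0 hl this
    rcases l with _ | ⟨x, l⟩
    · simp [colourWord] at hl
      omega
    · simp [colourWord] at this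
      exact (h0 x (by simp)).1 this
  have hinj : Set.InjOn F (goodSet N p n c : Set (Fin N → ℕ)) := by
    intro α hα β hβ h
    obtain ⟨hα0, hαl⟩ := hM α hα
    obtain ⟨hβ0, hβl⟩ := hM β hβ
    have hword : colourWord (M α).toList = colourWord (M β).toList :=
      List.ext_getElem (hαl.trans hβl.symm) fun i h1 h2 => by
        have := congrFun h ⟨i, hαl ▸ h1⟩
        simpa [F, List.getD_eq_getElem?_getD, h1, h2] using this
    have hMM : M α = M β := by
      rw [← Multiset.coe_toList (M α), ← Multiset.coe_toList (M β),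
        colourWord_injective _ _ hα0 hβ0 hword]
    obtain ⟨hαm, hαc, -⟩ := mem_goodSet.1 hα
    obtain ⟨hβm, hβc, -⟩ := mem_goodSet.1 hβ
    have hcnt : ∀ r t, 0 < t →
        (univ.filter fun i => α i % p = r ∧ t ≤ beadDisp p α i).card =
          (univ.filter fun i => β i % p = r ∧ t ≤ beadDisp p β i).card := by
      intro r t ht
      have key : ∀ γ : Fin N → ℕ, (univ.filter fun i => γ i % p = r ∧ t ≤ beadDisp p γ i).card =
          (M γ).countP (fun x => x.1.1 = r ∧ t ≤ x.2) := fun γ => by
        rw [Multiset.countP_map, ← Finset.filter_val, ← Finset.card_def, filter_filter]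
        exact congrArg card (filter_congr fun i _ =>
          ⟨fun hh => ⟨by omega, hh⟩, fun hh => hh.2⟩)
      rw [key α, key β, hMM]
    obtain ⟨-, hαs⟩ := mem_monos.1 hαm
    obtain ⟨-, hβs⟩ := mem_monos.1 hβm
    refine (hαs.range_inj hβs).1 (Set.Subset.antisymm ?_ ?_)
    · rintro _ ⟨i, rfl⟩
      exact range_subset_of_counts hαs.injective hβs.injective (hαc.trans hβc.symm) i
        fun t ht => hcnt _ t ht
    · rintro _ ⟨i, rfl⟩
      exact range_subset_of_counts hβs.injective hαs.injective (hβc.trans hαc.symm) i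
        fun t ht => (hcnt _ t ht).symm
  obtain ⟨v, rfl⟩ : ∃ v, w = v + 1 := ⟨w - 1, by omega⟩
  have hd : Disjoint ((goodSet N p n c).image F)
      ((univ : Finset (Fin v → Fin p)).image fun g => (Fin.cons 0 g : Fin (v + 1) → Fin p)) := by
    refine disjoint_left.2 fun f h1 h2 => ?_
    obtain ⟨α, hα, rfl⟩ := mem_image.1 h1
    obtain ⟨g, -, hg⟩ := mem_image.1 h2
    refine hne α hα ?_
    rw [← hg]
    rfl
  have h := card_le_univ ((goodSet N p n c).image F ∪
    (univ : Finset (Fin v → Fin p)).image fun g => (Fin.cons 0 g : Fin (v + 1) → Fin p))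
  rw [card_union_of_disjoint hd, card_image_of_injOn hinj,
    card_image_of_injective _ (Fin.cons_right_injective (α := fun _ => Fin p) (0 : Fin p)), card_univ,
    Fintype.card_fun, Fintype.card_fun, Fintype.card_fin, Fintype.card_fin, Fintype.card_fin] at h
  simpa using h

theorem card_goodSet_lt (hp : 0 < p) {n w : ℕ} (hw : 0 < w) (c : ℕ → ℕ)
    (hwt : ∀ α ∈ goodSet N p n c, coreWeight p α = w) :
    (goodSet N p n c).card < p ^ w := by
  have := card_goodSet_add_le hp hw c hwt
  have := Nat.pow_pos (n := w - 1) hp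
  omega

theorem blockRank_le_card [Fact p.Prime] (hN : Fintype.card ι ≤ N) (c : ℕ → ℕ)
    {B : Set (Cfsg.IrrCharacter (Equiv.Perm ι))} (hB : B ⊆ coreSet N p ι c) :
    Cfsg.blockRank p B ≤ (goodSet N p (Fintype.card ι) c).card := by
  classical
  have hp : 0 < p := (Fact.out : p.Prime).pos
  set S := (goodSet N p (Fintype.card ι) c).image (regChar p ι)
  have hle : Submodule.span ℂ ((fun χ : Cfsg.IrrCharacter (Equiv.Perm ι) =>
      Cfsg.pRegularPart p (χ : Equiv.Perm ι → ℂ)) '' B) ≤
      Submodule.span ℂ (S : Set (Equiv.Perm ι → ℂ)) := by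
    rw [Submodule.span_le]
    rintro _ ⟨χ, hχ, rfl⟩
    obtain ⟨α, hα, hc, e, -, hv⟩ := hB hχ
    obtain ⟨hs, hm⟩ := mem_monos.1 hα
    have h : Cfsg.pRegularPart p (χ : Equiv.Perm ι → ℂ) = (e : ℂ) • regChar p ι α := by
      funext σ
      simp only [regChar, Cfsg.pRegularPart, Pi.smul_apply, smul_eq_mul, hv]
      split <;> simp
    show Cfsg.pRegularPart p (χ : Equiv.Perm ι → ℂ) ∈ _
    rw [h, coe_image]
    exact Submodule.smul_mem _ _
      (regChar_mem_span hN hp c _ α hm.injective (mem_tuples.2 hs) hc rfl)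
  exact ((Submodule.finrank_mono hle).trans (finrank_span_finset_le_card S)).trans card_image_le

end CfsgLib.BlockA.SymBlock
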