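import Cfsg.Prelude.Def_Characters
import Cfsg.Agent.Lib.Char.Basic
import Mathlib.Analysis.Matrix.Order
import Mathlib.LinearAlgebra.Matrix.ToLin
import Mathlib.Tactic

/-! Finite groups of matrices: unitary realisation of a character, spectral idempotents of
elements, and the squared Frobenius norm. -/

namespace CfsgLib.BlockA

open Matrix
open scoped ComplexOrder ComplexConjugate

variable {G : Type*} [Group G]

/-- Every character of a finite group is afforded by a unitary matrix representation. -/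
theorem exists_unitary_rep [Finite G] {χ : G → ℂ} (hχ : Cfsg.IsCharacter G χ) :
    ∃ (n : ℕ) (R : G →* Matrix (Fin n) (Fin n) ℂ),
      (∀ g, star (R g) * R g = 1) ∧ ∀ g, (R g).trace = χ g := by
  classical
  have := Fintype.ofFinite G
  obtain ⟨n, ρ, rfl⟩ := hχ
  let M : G →* Matrix (Fin n) (Fin n) ℂ :=
    { toFun := fun g => LinearMap.toMatrix' (ρ g)
      map_one' := by rw [map_one]; exact LinearMap.toMatrix'_id
      map_mul' := fun a b => by rw [map_mul]; exact LinearMap.toMatrix'_comp _ _ }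
  let H : Matrix (Fin n) (Fin n) ℂ := ∑ g : G, star (M g) * M g
  have hH : H.PosDef := by
    have h1 : H = star (M 1) * M 1 + ∑ g ∈ Finset.univ.erase (1 : G), star (M g) * M g :=
      (Finset.add_sum_erase _ _ (Finset.mem_univ 1)).symm
    rw [h1, map_one, star_one, one_mul]
    refine Matrix.PosDef.one.add_posSemidef ?_
    exact Matrix.posSemidef_sum _ fun g _ => Matrix.posSemidef_conjTranspose_mul_self _
  have hinv : ∀ g, star (M g) * H * M g = H := by
    intro g
    simp only [H, Finset.mul_sum, Finset.sum_mul]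
    refine Fintype.sum_equiv (Equiv.mulRight g) _ _ fun x => ?_
    simp [star_mul, mul_assoc]
  open scoped MatrixOrder in
  obtain ⟨B, hB, hBH⟩ := CStarAlgebra.isStrictlyPositive_iff_eq_star_mul_self.mp hH.isStrictlyPositive
  obtain ⟨u, rfl⟩ := hB
  let R : G →* Matrix (Fin n) (Fin n) ℂ :=
    { toFun := fun g => (u : Matrix (Fin n) (Fin n) ℂ) * M g * ((u⁻¹ : (Matrix (Fin n) (Fin n) ℂ)ˣ) : Matrix (Fin n) (Fin n) ℂ)
      map_one' := by simp
      map_mul' := fun a b => by simp [mul_assoc] }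
  refine ⟨n, R, fun g => ?_, fun g => ?_⟩
  · set U : Matrix (Fin n) (Fin n) ℂ := (u : Matrix (Fin n) (Fin n) ℂ) with hU
    set V : Matrix (Fin n) (Fin n) ℂ := ((u⁻¹ : (Matrix (Fin n) (Fin n) ℂ)ˣ) : Matrix (Fin n) (Fin n) ℂ) with hV
    have hUV : U * V = 1 := u.mul_inv
    have hRg : R g = U * M g * V := rfl
    rw [hRg]
    calc star (U * M g * V) * (U * M g * V)
        = star V * (star (M g) * (star U * U) * M g) * V := by simp [star_mul, mul_assoc]
      _ = star V * (star U * U) * V := by rw [← hBH, hinv]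
      _ = star (U * V) * (U * V) := by simp only [star_mul, mul_assoc]
      _ = 1 := by rw [hUV, star_one, one_mul]
  · show ((u : Matrix (Fin n) (Fin n) ℂ) * M g * ((u⁻¹ : (Matrix (Fin n) (Fin n) ℂ)ˣ) : Matrix (Fin n) (Fin n) ℂ)).trace = ρ.character g
    rw [Matrix.trace_units_conj, Representation.character,
      LinearMap.trace_eq_matrix_trace ℂ (Pi.basisFun ℂ (Fin n)), LinearMap.toMatrix_eq_toMatrix']
    rfl

/-- The `μ`-spectral idempotent of a matrix `A` with `A ^ m = 1`. -/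
noncomputable def specIdem {n : Type*} [Fintype n] [DecidableEq n] (A : Matrix n n ℂ) (m : ℕ)
    (μ : ℂ) : Matrix n n ℂ :=
  (m : ℂ)⁻¹ • ∑ k ∈ Finset.range m, μ⁻¹ ^ k • A ^ k

section Spec

variable {n : Type*} [Fintype n] [DecidableEq n] {A : Matrix n n ℂ} {m : ℕ}

/-- The set of `m`-th roots of unity. -/
noncomputable def muSet (m : ℕ) : Finset ℂ :=
  (Finset.range m).image (fun i => Complex.exp (2 * Real.pi * Complex.I / m) ^ i)

theorem mem_muSet (hm : m ≠ 0) {μ : ℂ} : μ ∈ muSet m ↔ μ ^ m = 1 := by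
  have hζ := Complex.isPrimitiveRoot_exp m hm
  rw [muSet, Finset.mem_image]
  simp only [Finset.mem_range]
  refine ⟨?_, fun h => ?_⟩
  · rintro ⟨i, -, rfl⟩
    show (Complex.exp _ ^ i) ^ m = 1
    rw [← pow_mul, mul_comm i m, pow_mul, hζ.pow_eq_one, one_pow]
  · haveI : NeZero m := ⟨hm⟩
    exact hζ.eq_pow_of_pow_eq_one h

theorem sum_specIdem (hm : m ≠ 0) : ∑ μ ∈ muSet m, specIdem A m μ = 1 := by
  classical
  have hζ := Complex.isPrimitiveRoot_exp m hm
  set ζ := Complex.exp (2 * Real.pi * Complex.I / m) with hζdef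
  simp only [specIdem, ← Finset.smul_sum]
  rw [Finset.sum_comm]
  simp only [← Finset.sum_smul]
  rw [muSet, Finset.sum_congr rfl (g := fun k => if k = 0 then ((m : ℂ)) • (1 : Matrix n n ℂ) else 0)]
  · rw [Finset.sum_ite_eq', if_pos (Finset.mem_range.2 (Nat.pos_of_ne_zero hm)), smul_smul,
      inv_mul_cancel₀ (Nat.cast_ne_zero.2 hm), one_smul]
  · intro k hk
    rw [Finset.mem_range] at hk
    rw [Finset.sum_image (fun i hi j hj h => hζ.pow_inj (Finset.mem_range.1 hi)
      (Finset.mem_range.1 hj) h)]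
    split_ifs with h
    · subst h; simp
    · have h2 : ∑ i ∈ Finset.range m, ((ζ⁻¹) ^ k) ^ i = 0 := by
        have hne : (ζ⁻¹) ^ k ≠ 1 := hζ.inv.pow_ne_one_of_pos_of_lt h hk
        rw [geom_sum_eq hne, ← pow_mul, mul_comm, pow_mul, hζ.inv.pow_eq_one, one_pow, sub_self,
          zero_div]
      rw [← hζdef] at *
      rw [Finset.sum_congr rfl (g := fun i => ((ζ⁻¹) ^ k) ^ i) (fun i _ => ?_), h2, zero_smul]
      rw [← inv_pow, ← pow_mul, ← pow_mul, mul_comm]

theorem mul_specIdem (hm : m ≠ 0) (hA : A ^ m = 1) {μ : ℂ} (hμ : μ ^ m = 1) :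
    A * specIdem A m μ = μ • specIdem A m μ := by
  have hμ0 : μ ≠ 0 := fun h => by simp [h, hm] at hμ
  set f : ℕ → Matrix n n ℂ := fun k => μ⁻¹ ^ k • A ^ k with hf
  have hf0 : f m = f 0 := by simp [hf, hA, hμ]
  have h1 : ∑ k ∈ Finset.range m, f (k + 1) = ∑ k ∈ Finset.range m, f k := by
    have h2 := Finset.sum_range_succ f m
    have h3 := Finset.sum_range_succ' f m
    rw [h3, hf0] at h2
    exact add_right_cancel h2
  rw [specIdem, mul_smul_comm, smul_comm μ, Finset.mul_sum, Finset.smul_sum (r := μ)]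
  congr 1
  rw [← Finset.smul_sum, ← h1, Finset.smul_sum]
  refine Finset.sum_congr rfl fun k _ => ?_
  show A * (μ⁻¹ ^ k • A ^ k) = μ • (μ⁻¹ ^ (k + 1) • A ^ (k + 1))
  rw [mul_smul_comm, smul_smul, ← pow_succ', pow_succ μ⁻¹]
  congr 1
  field_simp

theorem commute_specIdem (μ : ℂ) : Commute A (specIdem A m μ) :=
  (Commute.sum_right _ _ _ fun _ _ => ((Commute.refl A).pow_right _).smul_right _).smul_right _

theorem specIdem_mul_specIdem (hm : m ≠ 0) (hA : A ^ m = 1) {μ ν : ℂ} (hμ : μ ^ m = 1)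
    (hν : ν ^ m = 1) :
    specIdem A m μ * specIdem A m ν = if μ = ν then specIdem A m μ else 0 := by
  classical
  have hpow : ∀ k : ℕ, A ^ k * specIdem A m ν = ν ^ k • specIdem A m ν := by
    intro k
    induction k with
    | zero => simp
    | succ k ih => rw [pow_succ, mul_assoc, mul_specIdem hm hA hν, mul_smul_comm, ih, smul_smul,
        pow_succ, mul_comm]
  have h1 : specIdem A m μ * specIdem A m ν =
      ((m : ℂ)⁻¹ * ∑ k ∈ Finset.range m, (ν * μ⁻¹) ^ k) • specIdem A m ν := by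
    conv_lhs => rw [specIdem, smul_mul_assoc, Finset.sum_mul]
    rw [Finset.mul_sum, Finset.sum_smul, Finset.smul_sum]
    refine Finset.sum_congr rfl fun k _ => ?_
    rw [smul_mul_assoc, hpow, smul_smul, smul_smul, mul_pow, mul_comm (ν ^ k)]
    ring_nf
  rw [h1]
  split_ifs with h
  · subst h
    have hμ0 : μ ≠ 0 := fun h => by simp [h, hm] at hμ
    simp [hμ0, hm]
  · have hμ0 : μ ≠ 0 := fun h => by simp [h, hm] at hμ
    have hne : ν * μ⁻¹ ≠ 1 := fun he => h ((mul_inv_eq_one₀ hμ0).1 he).symm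
    rw [geom_sum_eq hne, mul_pow, inv_pow, hμ, hν, inv_one, mul_one, sub_self, zero_div, mul_zero,
      zero_smul]

theorem star_specIdem (hA : A ^ m = 1) (hu : star A * A = 1) {μ : ℂ}
    (hμ : μ ^ m = 1) : star (specIdem A m μ) = specIdem A m μ := by
  rcases Nat.eq_zero_or_pos m with rfl | hmpos
  · simp [specIdem]
  have hμn : ‖μ‖ = 1 := Complex.norm_eq_one_of_pow_eq_one hμ hmpos.ne'
  have hμc : star μ⁻¹ = μ := by
    rw [Complex.star_def, Complex.inv_eq_conj hμn, Complex.conj_conj]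
  have hsA : star A = A ^ (m - 1) := by
    have hr : A * A ^ (m - 1) = 1 := by rw [← pow_succ', Nat.sub_add_cancel hmpos, hA]
    exact left_inv_eq_right_inv hu hr
  set f : ℕ → Matrix n n ℂ := fun k => μ⁻¹ ^ k • A ^ k with hf
  have hstar : ∀ k ∈ Finset.range m, star (f k) = f ((m - k) % m) := by
    intro k hk
    rw [Finset.mem_range] at hk
    have hμ0 : μ ≠ 0 := fun h => by simp [h, hmpos.ne'] at hμ
    rcases Nat.eq_zero_or_pos k with rfl | hk0
    · simp [hf]
    rw [Nat.mod_eq_of_lt (by omega)]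
    simp only [hf, star_smul, star_pow, hμc, hsA, ← pow_mul]
    congr 1
    · rw [inv_pow]
      refine eq_inv_of_mul_eq_one_left ?_
      rw [← pow_add, Nat.add_sub_cancel' hk.le, hμ]
    · have he : (m - 1) * k = (m - k) + m * (k - 1) := by
        obtain ⟨a, rfl⟩ : ∃ a, m = k + 1 + a := ⟨m - k - 1, by omega⟩
        obtain ⟨b, rfl⟩ : ∃ b, k = b + 1 := ⟨k - 1, by omega⟩
        have e1 : b + 1 + 1 + a - 1 = b + 1 + a := by omega
        have e2 : b + 1 + 1 + a - (b + 1) = 1 + a := by omega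
        rw [e1, e2, Nat.add_sub_cancel]
        ring
      rw [he, pow_add, pow_mul, hA, one_pow, mul_one]
  show star ((m : ℂ)⁻¹ • ∑ k ∈ Finset.range m, f k) = (m : ℂ)⁻¹ • ∑ k ∈ Finset.range m, f k
  rw [star_smul, star_sum, Finset.sum_congr rfl hstar]
  congr 1
  · simp
  refine Finset.sum_nbij' (fun k => (m - k) % m) (fun k => (m - k) % m) ?_ ?_ ?_ ?_ (fun _ _ => rfl)
    <;> intro k hk <;> simp only [Finset.mem_range, SetLike.mem_coe] at *
  · exact Nat.mod_lt _ hmpos
  · exact Nat.mod_lt _ hmpos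
  all_goals
    rcases Nat.eq_zero_or_pos k with rfl | h0
    · simp
    · rw [Nat.mod_eq_of_lt (show m - k < m by omega), Nat.sub_sub_self hk.le, Nat.mod_eq_of_lt hk]

theorem self_eq_sum_smul_specIdem (hm : m ≠ 0) (hA : A ^ m = 1) :
    A = ∑ μ ∈ muSet m, μ • specIdem A m μ := by
  conv_lhs => rw [← mul_one A, ← sum_specIdem (A := A) hm, Finset.mul_sum]
  exact Finset.sum_congr rfl fun μ hμ => mul_specIdem hm hA ((mem_muSet hm).1 hμ)

theorem trace_specIdem (μ : ℂ) :
    (specIdem A m μ).trace = (m : ℂ)⁻¹ * ∑ k ∈ Finset.range m, μ⁻¹ ^ k * (A ^ k).trace := by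
  simp [specIdem, Matrix.trace_smul, Matrix.trace_sum]

/-- The squared Frobenius norm. -/
noncomputable def frobSq (X : Matrix n n ℂ) : ℝ := (star X * X).trace.re

theorem frobSq_eq (X : Matrix n n ℂ) : frobSq X = ∑ i, ∑ j, ‖X j i‖ ^ 2 := by
  simp [frobSq, Matrix.trace, Matrix.mul_apply, Complex.re_sum, Complex.sq_norm,
    Complex.normSq_apply, Matrix.star_apply]

theorem frobSq_nonneg (X : Matrix n n ℂ) : 0 ≤ frobSq X := by
  rw [frobSq_eq]; positivity

theorem frobSq_eq_zero {X : Matrix n n ℂ} : frobSq X = 0 ↔ X = 0 := by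
  rw [frobSq_eq]
  refine ⟨fun h => ?_, fun h => by simp [h]⟩
  ext j i
  have h1 := (Finset.sum_eq_zero_iff_of_nonneg (fun i _ => by positivity)).1 h i (Finset.mem_univ i)
  have h2 := (Finset.sum_eq_zero_iff_of_nonneg (fun j _ => by positivity)).1 h1 j (Finset.mem_univ j)
  simpa using h2

theorem frobSq_unitary_mul {U : Matrix n n ℂ} (hU : star U * U = 1) (X : Matrix n n ℂ) :
    frobSq (U * X) = frobSq X := by
  rw [frobSq, frobSq, star_mul, mul_assoc, ← mul_assoc (star U), hU, one_mul]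

theorem frobSq_mul_unitary {U : Matrix n n ℂ} (hU : star U * U = 1) (X : Matrix n n ℂ) :
    frobSq (X * U) = frobSq X := by
  have hU' : U * star U = 1 := mul_eq_one_comm.1 hU
  rw [frobSq, frobSq, star_mul, mul_assoc, Matrix.trace_mul_comm, mul_assoc, mul_assoc, hU', mul_one]

theorem frobSq_neg (X : Matrix n n ℂ) : frobSq (-X) = frobSq X := by simp [frobSq]

theorem frobSq_add_le (X Y : Matrix n n ℂ) : frobSq (X + Y) ≤ 2 * frobSq X + 2 * frobSq Y := by
  have h := frobSq_nonneg (X - Y)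
  simp only [frobSq, star_add, star_sub, add_mul, mul_add, sub_mul, mul_sub, Matrix.trace_add,
    Matrix.trace_sub, Complex.add_re, Complex.sub_re] at *
  linarith

theorem frobSq_sum_of_orth {ι : Type*} (s : Finset ι) (B : ι → Matrix n n ℂ)
    (h : ∀ a ∈ s, ∀ b ∈ s, a ≠ b → (star (B a) * B b).trace = 0) :
    frobSq (∑ a ∈ s, B a) = ∑ a ∈ s, frobSq (B a) := by
  simp only [frobSq, star_sum, Finset.sum_mul, Finset.mul_sum, Matrix.trace_sum, Complex.re_sum]
  refine Finset.sum_congr rfl fun a ha => ?_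
  rw [Finset.sum_eq_single a]
  · exact fun b hb hne => by rw [h b hb a ha hne, Complex.zero_re]
  · exact fun h' => absurd ha h'

theorem frobSq_smul (c : ℂ) (X : Matrix n n ℂ) : frobSq (c • X) = ‖c‖ ^ 2 * frobSq X := by
  simp only [frobSq, star_smul, smul_mul_assoc, mul_smul_comm, smul_smul, Matrix.trace_smul,
    smul_eq_mul, Complex.star_def]
  rw [Complex.mul_conj']
  simp [Complex.mul_re, ← Complex.ofReal_pow]

end Spec

end CfsgLib.BlockA
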