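import Cfsg.Agent.Lib.BlockA.WeightDefect
import Cfsg.Agent.Lib.BlockB.Codegree
import Cfsg.Agent.Lib.BlockA.CoreBlock

/-! The block of the centralizer under a weight. -/

set_option autoImplicit false
set_option linter.unusedSectionVars false
set_option maxHeartbeats 1000000

namespace CfsgLib.BlockA

open Cfsg CfsgLib.Block MonoidAlgebra
open scoped ComplexConjugate

universe u

/-- Constituents of constituents of a pulled back character. -/
theorem classInner_comp_ne_zero {A B : Type u} [Group A] [Fintype A] [Group B] [Fintype B]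
    (ι : B →* A) {φ : A → ℂ} (hφ : IsCharacter A φ) {η : IrrCharacter A} {θ : IrrCharacter B}
    (h1 : classInner φ (η : A → ℂ) ≠ 0)
    (h2 : classInner ((η : A → ℂ) ∘ ι) (θ : B → ℂ) ≠ 0) :
    classInner (φ ∘ ι) (θ : B → ℂ) ≠ 0 := by
  classical
  have := Fintype.ofFinite (IrrCharacter A)
  choose m hm using fun η' : IrrCharacter A =>
    CfsgLib.Char.classInner_isCharacter_nat hφ (CfsgLib.Char.irr_isCharacter η'.2)
  choose k hk using fun η' : IrrCharacter A =>
    CfsgLib.Char.classInner_isCharacter_nat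
      (CfsgLib.Char.isCharacter_comp (CfsgLib.Char.irr_isCharacter η'.2) ι)
      (CfsgLib.Char.irr_isCharacter θ.2)
  have e : classInner (φ ∘ ι) (θ : B → ℂ) = ((∑ η', m η' * k η' : ℕ) : ℂ) := by
    push_cast
    simp only [← hm, ← hk, classInner, Finset.mul_sum, Function.comp_apply]
    rw [Finset.sum_comm]
    refine Finset.sum_congr rfl fun b _ => ?_
    rw [CfsgLib.Char.classFunction_apply_eq_sum (CfsgLib.Char.isCharacter_isClassFunction hφ) (ι b),
      Finset.sum_mul, Finset.mul_sum]
    refine Finset.sum_congr rfl fun η' _ => ?_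
    simp only [classInner, Finset.mul_sum, Finset.sum_mul]
    exact Finset.sum_congr rfl fun a _ => by ring
  rw [e, Nat.cast_ne_zero]
  refine ne_of_gt (lt_of_lt_of_le (Nat.mul_pos (Nat.pos_of_ne_zero fun h => h1 ?_)
    (Nat.pos_of_ne_zero fun h => h2 ?_)) (Finset.single_le_sum (f := fun η' => m η' * k η')
      (fun _ _ => Nat.zero_le _) (Finset.mem_univ η)))
  · rw [hm, h, Nat.cast_zero]
  · rw [hk, h, Nat.cast_zero]

variable {H : Type u} [Group H] [Fintype H] {p : ℕ} [Fact p.Prime] {M : Ideal AlgInt} [M.IsPrime]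
  (hM : IsPModular p M) {Q C : Subgroup H} [hQn : Q.Normal] [hCn : C.Normal] [Fintype C]
include hM

/-- The block of a commuting normal subgroup under a weight has defect the common part. -/
theorem blockDefect_of_weight (hQ : IsPGroup p Q) (hcomm : ∀ q ∈ Q, ∀ c ∈ C, q * c = c * q)
    {χ : IrrCharacter H} (htriv : ∀ z ∈ Q, (χ : H → ℂ) z = (χ : H → ℂ) 1)
    (hdeg : (charDegree (χ : H → ℂ)).factorization p + (Nat.card Q).factorization p =
      (Nat.card H).factorization p)
    {F : Set (IrrCharacter H)} (hF : IsPBlock M F) (hχ : χ ∈ F) {e : Set (IrrCharacter C)}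
    (he : IsPBlock M e)
    (hcoef : (blkIdem M F : MonoidAlgebra (kres M) H) = sIdem M C e) :
    blockDefect p e = (Nat.card (Q ⊓ C : Subgroup H)).factorization p := by
  classical
  have hp : p.Prime := Fact.out
  set D := Q ⊔ C with hD
  have := Fintype.ofFinite D
  obtain ⟨η, hη⟩ := exists_constituent_res (N := D) χ
  -- `η` is trivial on `Q`
  set ιQ : Q →* D := Subgroup.inclusion le_sup_left with hιQ
  set ιC : C →* D := Subgroup.inclusion le_sup_right with hιC
  have := Fintype.ofFinite Q
  have := Fintype.ofFinite (IrrCharacter Q)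
  have hηQ : ∀ q : Q, (η : D → ℂ) (ιQ q) = (η : D → ℂ) 1 := by
    have hηc := CfsgLib.Char.isCharacter_comp (CfsgLib.Char.irr_isCharacter η.2) ιQ
    have honly : ∀ φ : IrrCharacter Q, φ ≠ trivIrr →
        classInner ((η : D → ℂ) ∘ ιQ) (φ : Q → ℂ) = 0 := by
      intro φ hφ
      by_contra h
      refine classInner_comp_ne_zero ιQ
        (CfsgLib.Char.isCharacter_restrict (CfsgLib.Char.irr_isCharacter χ.2) D) hη h ?_
      have h0 := CfsgLib.Char.irr_classInner_ne (trivIrr (G := Q)).2 φ.2
        (fun h => hφ (Subtype.ext h.symm))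
      simp only [classInner, trivIrr, one_mul] at h0 ⊢
      calc (Nat.card Q : ℂ)⁻¹ * ∑ q : Q, (χ : H → ℂ) q * conj ((φ : Q → ℂ) q)
          = (χ : H → ℂ) 1 * ((Nat.card Q : ℂ)⁻¹ * ∑ q : Q, conj ((φ : Q → ℂ) q)) := by
            rw [Finset.mul_sum, Finset.mul_sum, Finset.mul_sum]
            exact Finset.sum_congr rfl fun q _ => by rw [htriv q q.2]; ring
        _ = 0 := by rw [h0, mul_zero]
    intro q
    have hexp : ∀ r : Q, (η : D → ℂ) (ιQ r) =
        classInner ((η : D → ℂ) ∘ ιQ) ((trivIrr : IrrCharacter Q) : Q → ℂ) := by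
      intro r
      have h := CfsgLib.Char.classFunction_apply_eq_sum
        (CfsgLib.Char.isCharacter_isClassFunction hηc) r
      rw [Finset.sum_eq_single (trivIrr : IrrCharacter Q)
        (fun φ _ hφ => by rw [honly φ hφ, zero_mul]) (fun h => absurd (Finset.mem_univ _) h)] at h
      rw [show ((trivIrr : IrrCharacter Q) : Q → ℂ) r = 1 from rfl, mul_one] at h
      exact h
    rw [hexp q, ← hexp 1, map_one]
  -- its restriction to `C` is irreducible
  have hQDn : (Q.subgroupOf D).Normal := Subgroup.Normal.subgroupOf hQn D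
  have hηQ' : ∀ n ∈ Q.subgroupOf D, (η : D → ℂ) n = (η : D → ℂ) 1 := fun n hn => hηQ ⟨n, hn⟩
  obtain ⟨ψ, hψ, hψe⟩ := CfsgLib.Char.isIrr_quotient_lift _ η.2 hηQ'
  have hsurj : Function.Surjective ((QuotientGroup.mk' (Q.subgroupOf D)).comp ιC) := by
    intro x
    induction x using QuotientGroup.induction_on with
    | H d =>
      obtain ⟨d, hd⟩ := d
      obtain ⟨q, hq, c, hc, rfl⟩ := Subgroup.mem_sup_of_normal_left.1 hd
      refine ⟨⟨c, hc⟩, QuotientGroup.eq.2 ?_⟩
      show ((ιC ⟨c, hc⟩)⁻¹ * _ : D) ∈ Q.subgroupOf D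
      rw [Subgroup.mem_subgroupOf]
      show c⁻¹ * (q * c) ∈ Q
      rw [hcomm q hq c hc, inv_mul_cancel_left]
      exact hq
  set θ : IrrCharacter C := ⟨(η : D → ℂ) ∘ ιC, by
    have := CfsgLib.Char.isIrrCharacter_comp_surjective hψ _ hsurj
    rw [hψe]
    exact this⟩ with hθdef
  have hθ : classInner (fun c : C => (χ : H → ℂ) c) (θ : C → ℂ) ≠ 0 := by
    refine classInner_comp_ne_zero ιC
      (CfsgLib.Char.isCharacter_restrict (CfsgLib.Char.irr_isCharacter χ.2) D) hη ?_
    rw [CfsgLib.Char.irr_classInner_self θ.2]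
    exact one_ne_zero
  have hθe : θ ∈ e := by
    have h := lam_blkIdem hM hF χ
    rw [if_pos hχ, lam_eq_lam_resZ hθ (blkIdem M F) (fun x hx => by
      rw [hcoef]; exact coeff_sIdem_of_not_mem _ hx)] at h
    rw [show resZ C (blkIdem M F) = blkIdem M e from Subtype.ext (by
      rw [coe_resZ, hcoef, sIdem, resSub_inclSub]), lam_blkIdem hM he] at h
    by_contra hne
    rw [if_neg hne] at h
    exact zero_ne_one h
  -- the centre part
  set Z := Q.subgroupOf C with hZ
  have hZc : Nat.card Z = Nat.card (Q ⊓ C : Subgroup H) := by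
    rw [hZ, ← Subgroup.inf_subgroupOf_right,
      Nat.card_congr (Subgroup.subgroupOfEquivOfLe inf_le_right).toEquiv]
  have hZn : Z.Normal := Subgroup.Normal.subgroupOf hQn C
  have hZcen : Z ≤ Subgroup.center C := fun z hz => Subgroup.mem_center_iff.2 fun g =>
    Subtype.ext (hcomm z hz g g.2).symm
  have hθtriv : ∀ z ∈ Z, (θ : C → ℂ) z = (θ : C → ℂ) 1 := fun z hz => by
    show (η : D → ℂ) (ιC z) = (η : D → ℂ) (ιC 1)
    rw [map_one]
    exact hηQ ⟨z, hz⟩
  have hθdeg : (charDegree (θ : C → ℂ)).factorization p + (Nat.card Z).factorization p =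
      (Nat.card C).factorization p := by
    refine le_antisymm ?_ ?_
    · have hd := (BlockB.degree_dvd_index_charKer θ).trans
        (Subgroup.index_dvd_of_le (show Z ≤ BlockB.charKer θ from hθtriv))
      have h1 := (Nat.factorization_le_iff_dvd (charDegree_ne_zero θ.2)
        Subgroup.index_ne_zero_of_finite).2 hd p
      have h2 : (Nat.card C).factorization p =
          (Nat.card Z).factorization p + Z.index.factorization p := by
        rw [← Z.card_mul_index, Nat.factorization_mul Nat.card_pos.ne'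
          Subgroup.index_ne_zero_of_finite, Finsupp.add_apply]
      omega
    · obtain ⟨k, hk, hkd⟩ := CfsgLib.Clifford.degree_quot_dvd_index χ.2 η.2 hη
      have hθη : (η : D → ℂ) 1 = (θ : C → ℂ) 1 := by
        show _ = (η : D → ℂ) (ιC 1)
        rw [map_one]
      rw [hθη, ← charDegree_cast (CfsgLib.Char.irr_isCharacter χ.2),
        ← charDegree_cast (CfsgLib.Char.irr_isCharacter θ.2), ← Nat.cast_mul, Nat.cast_inj] at hk
      have hk0 : k ≠ 0 := by
        rintro rfl
        exact charDegree_ne_zero χ.2 (by rw [hk, zero_mul])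
      have h1 := (Nat.factorization_le_iff_dvd hk0 Subgroup.index_ne_zero_of_finite).2 hkd p
      have h2 : (Nat.card H).factorization p =
          (Nat.card D).factorization p + D.index.factorization p := by
        rw [← D.card_mul_index, Nat.factorization_mul Nat.card_pos.ne'
          Subgroup.index_ne_zero_of_finite, Finsupp.add_apply]
      have h3 : Nat.card D * Nat.card Z = Nat.card Q * Nat.card C := by
        have e1 := (C.subgroupOf D).card_mul_index
        rw [Nat.card_congr (Subgroup.subgroupOfEquivOfLe (le_sup_right : C ≤ D)).toEquiv,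
          ← Subgroup.relIndex, hD, Subgroup.relIndex_sup_right] at e1
        have e2 := (C.subgroupOf Q).card_mul_index
        rw [← Subgroup.relIndex] at e2
        have e3 : Nat.card (C.subgroupOf Q) = Nat.card Z := by
          rw [hZc, ← Subgroup.inf_subgroupOf_left,
            Nat.card_congr (Subgroup.subgroupOfEquivOfLe inf_le_left).toEquiv]
        rw [hD, ← e1, ← e2, e3]
        ring
      have h4 := congrArg (fun n : ℕ => n.factorization p) h3
      simp only [Nat.factorization_mul Nat.card_pos.ne' Nat.card_pos.ne', Finsupp.add_apply] at h4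
      rw [hk, Nat.factorization_mul hk0 (charDegree_ne_zero θ.2), Finsupp.add_apply] at hdeg
      omega
  rw [← hZc]
  exact blockDefect_of_central_weight hM (hQ.comap_subtype) hZcen hθtriv hθdeg he hθe

end CfsgLib.BlockA
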