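import Cfsg.Agent.Lib.Block.RegularSum
import Cfsg.Agent.Lib.Block.KerNormal
import Cfsg.Agent.Lib.Block.FirstMain
import Cfsg.Agent.Lib.BlockB.DefectZero
import Cfsg.Agent.Lib.Char.Linear
import Cfsg.Agent.Lib.Clifford.Degree
import Cfsg.Agent.Lib.BlockA.BrauerPair

/-! Characters of defect zero modulo a normal `p`-subgroup, and the defect of the blocks of the
centralizer under them. -/

set_option autoImplicit false
set_option linter.unusedSectionVars false
set_option maxHeartbeats 1000000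

namespace CfsgLib.BlockA

open Cfsg CfsgLib.Block MonoidAlgebra
open scoped ComplexConjugate

universe u

variable {G : Type u} [Group G] [Fintype G] {p : ℕ} [Fact p.Prime] {Q : Subgroup G} [Q.Normal]

/-- Deflation of a character of defect zero modulo `Q`. -/
theorem exists_deflate_defect_zero (χ : IrrCharacter G)
    (htriv : ∀ z ∈ Q, (χ : G → ℂ) z = (χ : G → ℂ) 1)
    (hdeg : (charDegree (χ : G → ℂ)).factorization p + (Nat.card Q).factorization p =
      (Nat.card G).factorization p) :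
    ∃ ψ : IrrCharacter (G ⧸ Q), (∀ g : G, (ψ : G ⧸ Q → ℂ) g = (χ : G → ℂ) g) ∧
      ∀ x : G ⧸ Q, p ∣ orderOf x → (ψ : G ⧸ Q → ℂ) x = 0 := by
  obtain ⟨ψ, hψ, h⟩ := CfsgLib.Char.isIrr_quotient_lift Q χ.2 htriv
  have e : ∀ g : G, ψ g = (χ : G → ℂ) g := fun g => (congr_fun h g).symm
  refine ⟨⟨ψ, hψ⟩, e, fun x hx => CfsgLib.BlockB.irr_apply_eq_zero_of_defect_zero
    (p := p) ⟨ψ, hψ⟩ ?_ hx⟩
  have hd : charDegree ψ = charDegree (χ : G → ℂ) := by
    have h1 : (charDegree ψ : ℂ) = (charDegree (χ : G → ℂ) : ℂ) := by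
      rw [charDegree_cast (CfsgLib.Char.irr_isCharacter hψ),
        charDegree_cast (CfsgLib.Char.irr_isCharacter χ.2), ← e 1]
      rfl
    exact_mod_cast h1
  show p ^ _ ∣ charDegree ψ
  rw [hd, (Fact.out : p.Prime).pow_dvd_iff_le_factorization (charDegree_ne_zero χ.2)]
  have h2 : (Nat.card G).factorization p =
      (Nat.card (G ⧸ Q)).factorization p + (Nat.card Q).factorization p := by
    rw [Subgroup.card_eq_card_quotient_mul_card_subgroup Q,
      Nat.factorization_mul Nat.card_pos.ne' Nat.card_pos.ne', Finsupp.add_apply]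
  omega

/-- A normal `p`-subgroup modulo which there is a character of defect zero is the largest one. -/
theorem le_of_weight (χ : IrrCharacter G) (htriv : ∀ z ∈ Q, (χ : G → ℂ) z = (χ : G → ℂ) 1)
    (hdeg : (charDegree (χ : G → ℂ)).factorization p + (Nat.card Q).factorization p =
      (Nat.card G).factorization p) {R : Subgroup G} [R.Normal] (hR : IsPGroup p R) : R ≤ Q := by
  classical
  obtain ⟨ψ, hψ, hvan⟩ := exists_deflate_defect_zero χ htriv hdeg
  have := Fintype.ofFinite (G ⧸ Q)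
  set R' := R.map (QuotientGroup.mk' Q) with hR'
  have hR'n : R'.Normal := Subgroup.Normal.map inferInstance _ (QuotientGroup.mk'_surjective Q)
  have := Fintype.ofFinite R'
  have hψ1 : (ψ : G ⧸ Q → ℂ) 1 ≠ 0 := CfsgLib.Char.irr_apply_one_ne_zero ψ.2
  have hzero : ∀ r : R', r ≠ 1 → (ψ : G ⧸ Q → ℂ) r = 0 := fun r hr => by
    obtain ⟨k, hk⟩ := IsPGroup.iff_orderOf.1 (hR.map (QuotientGroup.mk' Q)) r
    refine hvan _ ?_
    rw [Subgroup.orderOf_coe, hk]
    refine dvd_pow_self p fun h0 => hr (orderOf_eq_one_iff.1 (by rw [hk, h0, pow_zero]))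
  have hker : R' ≤ kerIrr ψ := (le_kerIrr_iff_constituent ψ).2 (by
    rw [classInner, Finset.sum_eq_single (1 : R') (fun r _ hr => by rw [hzero r hr, zero_mul])
      (fun h => absurd (Finset.mem_univ _) h)]
    simp [CfsgLib.Block.trivIrr, hψ1, Nat.card_pos.ne'])
  intro r hr
  by_contra hrQ
  have h1 : (QuotientGroup.mk' Q r : G ⧸ Q) ∈ R' := ⟨r, hr, rfl⟩
  have h2 := hzero ⟨_, h1⟩ fun h => hrQ ((QuotientGroup.eq_one_iff r).1 (congrArg Subtype.val h))
  rw [mem_kerIrr.1 (hker h1)] at h2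
  exact hψ1 h2

variable {M : Ideal AlgInt} [M.IsPrime] (hM : IsPModular p M)
include hM

omit [Q.Normal] in
theorem natCard_defectGroup_factorization {B : Set (IrrCharacter G)} (hB : IsPBlock M B)
    {χ : IrrCharacter G} (hχ : χ ∈ B) (hQ : IsPGroup p Q)
    (hdeg : (charDegree (χ : G → ℂ)).factorization p + (Nat.card Q).factorization p =
      (Nat.card G).factorization p)
    (hsum : (Nat.card Q : ℂ) * ∑ y with ¬ p ∣ orderOf y, (χ : G → ℂ) y⁻¹ * (χ : G → ℂ) y =
      Nat.card G) :
    blockDefect p B = (Nat.card Q).factorization p := by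
  classical
  have hp : p.Prime := Fact.out
  have hdeg' := charDegree_cast (CfsgLib.Char.irr_isCharacter χ.2)
  have hd0 := charDegree_ne_zero χ.2
  have hom : omegaC (χ : G → ℂ) (regSum p (χ : G → ℂ)) =
      (Nat.card G : ℂ) / ((Nat.card Q * charDegree (χ : G → ℂ) : ℕ) : ℂ) := by
    rw [omegaC_eq, ← hdeg', ← hsum, Nat.cast_mul,
      mul_div_mul_left _ _ (Nat.cast_ne_zero.2 Nat.card_pos.ne'), Finset.sum_filter]
    congr 1
    refine Finset.sum_congr rfl fun y _ => ?_
    rw [coeff_regSum]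
    split <;> simp
  have hh : blockHeight p B (χ : G → ℂ) = 0 := by
    rw [← lam_regZ_ne_zero_iff hM hB hχ hχ, lam_regZ, hom]
    have hfac : (Nat.card Q * charDegree (χ : G → ℂ)).factorization p =
        (Nat.card G).factorization p := by
      rw [Nat.factorization_mul Nat.card_pos.ne' hd0, Finsupp.add_apply, add_comm, hdeg]
    intro h0
    have h1 := (redC_eq_zero_iff (memLocalRing_natCast_div hM
      (mul_ne_zero Nat.card_pos.ne' hd0) (Or.inr hfac.le))).1 h0
    have h2 := memLocalIdeal_mul_right (memLocalRing_natCast_div hM Nat.card_pos.ne'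
      (a := Nat.card Q * charDegree (χ : G → ℂ)) (Or.inr hfac.ge)) h1
    rw [div_mul_div_cancel₀ (Nat.cast_ne_zero.2 (mul_ne_zero Nat.card_pos.ne' hd0)),
      div_self (Nat.cast_ne_zero.2 Nat.card_pos.ne')] at h2
    exact not_memLocalIdeal_one h2
  rw [blockHeight_eq_zero_iff hM hB hχ] at hh
  have := sInf_degree_add_blockDefect hM hB
  omega

/-- **A character of defect zero modulo a central `p`-subgroup `Q` lies in a block of defect
`|Q|`.** -/
theorem blockDefect_of_central_weight (hQ : IsPGroup p Q) (hcen : Q ≤ Subgroup.center G)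
    {χ : IrrCharacter G} (htriv : ∀ z ∈ Q, (χ : G → ℂ) z = (χ : G → ℂ) 1)
    (hdeg : (charDegree (χ : G → ℂ)).factorization p + (Nat.card Q).factorization p =
      (Nat.card G).factorization p) {B : Set (IrrCharacter G)} (hB : IsPBlock M B) (hχ : χ ∈ B) :
    blockDefect p B = (Nat.card Q).factorization p := by
  classical
  have hp : p.Prime := Fact.out
  obtain ⟨ψ, hψ, hvan⟩ := exists_deflate_defect_zero χ htriv hdeg
  have hmulQ : ∀ z ∈ Q, ∀ g : G, (χ : G → ℂ) (z * g) = (χ : G → ℂ) g := fun z hz g =>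
    irr_apply_mul_of_mem_kerIrr (mem_kerIrr.2 (htriv z hz)) g
  set f : G → ℂ := fun g => (χ : G → ℂ) g * conj ((χ : G → ℂ) g) with hf
  have hsum : (Nat.card Q : ℂ) * ∑ y with ¬ p ∣ orderOf y, f y = Nat.card G := by
    have h1 := CfsgLib.Char.irr_classInner_self χ.2
    rw [CfsgLib.Char.classInner_def, inv_mul_eq_one₀ CfsgLib.Char.natCard_ne_zero] at h1
    rw [h1, ← nsmul_eq_mul, Nat.card_eq_fintype_card, ← Finset.card_univ, ← Finset.sum_const,
      ← Finset.sum_product']
    refine Finset.sum_bij_ne_zero (fun a _ _ => ((a.1 : Q) : G) * a.2) (fun _ _ _ => Finset.mem_univ _)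
      ?_ ?_ ?_
    · intro a ha _ b hb _ he
      simp only [Finset.mem_product, Finset.mem_filter] at ha hb
      obtain ⟨k, hk⟩ := IsPGroup.iff_orderOf.1 hQ a.1
      obtain ⟨l, hl⟩ := IsPGroup.iff_orderOf.1 hQ b.1
      have hc : ∀ (z : Q) (y : G), Commute (z : G) y := fun z y =>
        (Subgroup.mem_center_iff.1 (hcen z.2) y).symm
      have e1 := isPPart_unique hp (isPPart_mul (hc a.1 a.2) ⟨k, by rwa [Subgroup.orderOf_coe]⟩
        ha.2.2) (he ▸ isPPart_mul (hc b.1 b.2) ⟨l, by rwa [Subgroup.orderOf_coe]⟩ hb.2.2)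
      refine Prod.ext (Subtype.ext e1) ?_
      rwa [e1, mul_left_cancel_iff] at he
    · intro g _ hg
      obtain ⟨u, s, hus, hc, ⟨k, hk⟩, hs⟩ := exists_isPPart hp g
      have huQ : u ∈ Q := by
        by_contra h
        apply hg
        show (χ : G → ℂ) g * conj ((χ : G → ℂ) g) = 0
        rw [← hψ, hvan, zero_mul]
        by_contra hnd
        apply h
        rw [← QuotientGroup.eq_one_iff, ← orderOf_eq_one_iff]
        have hu : u ∈ Subgroup.zpowers g :=
          isPPart_mem_zpowers hp ⟨s, hus, hc, ⟨k, hk⟩, hs⟩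
        obtain ⟨j, hj⟩ := Subgroup.mem_zpowers_iff.1 hu
        have d1 : orderOf (u : G ⧸ Q) ∣ p ^ k := hk ▸ orderOf_map_dvd (QuotientGroup.mk' Q) u
        have d2 : orderOf (u : G ⧸ Q) ∣ orderOf (g : G ⧸ Q) := by
          rw [← hj, QuotientGroup.mk_zpow]
          exact orderOf_dvd_of_mem_zpowers (Subgroup.zpow_mem _ (Subgroup.mem_zpowers _) j)
        exact Nat.eq_one_of_dvd_coprimes (Nat.Coprime.pow_left k (hp.coprime_iff_not_dvd.2 hnd)) d1 d2
      refine ⟨(⟨u, huQ⟩, s), Finset.mem_product.2 ⟨Finset.mem_univ _,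
        Finset.mem_filter.2 ⟨Finset.mem_univ _, hs⟩⟩, ?_, hus⟩
      show f s ≠ 0
      rw [hf]
      dsimp only
      rw [← hmulQ u huQ, hus]
      exact hg
    · intro a _ _
      show f a.2 = _
      rw [hf]
      dsimp only
      rw [hmulQ _ a.1.2]
  refine natCard_defectGroup_factorization hM hB hχ hQ hdeg ?_
  rw [← hsum, hf]
  congr 1
  refine Finset.sum_congr rfl fun y _ => ?_
  rw [CfsgLib.Char.char_inv (CfsgLib.Char.irr_isCharacter χ.2) y, mul_comm]

end CfsgLib.BlockA
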